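import Cfsg.Agent.GH.L2AutFour
import Cfsg.Agent.Lib.PSL2Torus

/-!
# Tori of `PGL(2,F) ≤ Aut(L)`, `L ≅ PSL(2,F)`, `F` finite of odd order

`Tor R g` : the automorphisms of `L` induced by the matrices commuting with `g ∈ GL(2,F)`. For `g` of
trace zero it is cyclic of order `q - 1` or `q + 1` (`isCyclic_Tor`, `card_Tor`), elements of `PGL`
commuting with the involution `gl g` outside `Tor R g` are involutions (`mem_Tor_or_sq`), and the
elements of `PGL` fixing an element of odd prime order `r`, `r ∤ q`, lie in some `Tor R g`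
(`exists_Tor`).
-/

set_option autoImplicit false

namespace Cfsg.Agent.OddCyclic.PGLTorus

open Matrix Cfsg.Agent.Lib.SL2Mat Cfsg.Agent.GH.L2Aut

variable {F : Type*} [Field F]

local notation "SL2" => Matrix.SpecialLinearGroup (Fin 2) F
local notation "M2" => Matrix (Fin 2) (Fin 2) F

theorem sq_of_trace_zero {A : M2} (h : A.trace = 0) : A * A = (-A.det) • (1 : M2) := by
  rw [Matrix.trace_fin_two] at h
  rw [Matrix.det_fin_two]
  have h1 : A 1 1 = - A 0 0 := by linear_combination h
  apply mat_ext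
  · rw [mat_mul]; simp [h1]; ring
  · rw [mat_mul]; simp [h1]; ring
  · rw [mat_mul]; simp [h1]; ring
  · rw [mat_mul]; simp [h1]; ring

theorem not_scalar_of_trace_zero (h2 : (2 : F) ≠ 0) {g : GL (Fin 2) F} (h : g.1.trace = 0) (c : F) :
    g.1 ≠ c • (1 : M2) := by
  intro hc
  rw [hc, Matrix.trace_smul, Matrix.trace_one] at h
  have h3 : c * 2 = 0 := by simpa using h
  rcases mul_eq_zero.1 h3 with h4 | h4
  · have h5 := (Matrix.GeneralLinearGroup.det g).ne_zero
    apply h5
    change g.1.det = 0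
    rw [hc, h4, zero_smul, Matrix.det_zero]
  · exact h2 h4

theorem det_add_smul (a b : F) {A : M2} (h : A.trace = 0) :
    (a • (1 : M2) + b • A).det = a * a + A.det * (b * b) := by
  rw [Matrix.trace_fin_two] at h
  rw [Matrix.det_fin_two, Matrix.det_fin_two]
  simp
  linear_combination (a * b) * h

theorem det_ne_zero (g : GL (Fin 2) F) : g.1.det ≠ 0 := (Matrix.GeneralLinearGroup.det g).ne_zero

variable {L : Type*} [Group L] (R : Cfsg.Agent.GH.L2Aut.Rep F L) [Finite F]

/-- the automorphisms induced by the matrices commuting with `g` -/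
noncomputable def Tor (g : GL (Fin 2) F) : Subgroup (MulAut L) :=
  (Subgroup.centralizer ({g} : Set (GL (Fin 2) F))).map R.gl

theorem mem_Tor {g : GL (Fin 2) F} {β : MulAut L} :
    β ∈ Tor R g ↔ ∃ h : GL (Fin 2) F, h.1 * g.1 = g.1 * h.1 ∧ R.gl h = β := by
  constructor
  · rintro ⟨h, hh, rfl⟩
    refine ⟨h, ?_, rfl⟩
    have h1 := Subgroup.mem_centralizer_singleton_iff.1 hh
    exact congrArg Units.val h1
  · rintro ⟨h, hh, rfl⟩
    refine ⟨h, ?_, rfl⟩
    exact Subgroup.mem_centralizer_singleton_iff.2 (Units.ext hh)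

theorem gl_mem_Tor (g : GL (Fin 2) F) : R.gl g ∈ Tor R g := (mem_Tor R).2 ⟨g, rfl, rfl⟩

theorem Tor_le_PGL (g : GL (Fin 2) F) : Tor R g ≤ R.PGL := by
  rintro _ ⟨h, -, rfl⟩
  exact R.gl_mem_PGL h

omit [Finite F] in
theorem exists_coef (h2 : (2 : F) ≠ 0) {g h : GL (Fin 2) F} (hg : g.1.trace = 0)
    (hh : h.1 * g.1 = g.1 * h.1) : ∃ a b : F, h.1 = a • (1 : M2) + b • g.1 :=
  exists_ab (not_scalar_of_trace_zero h2 hg) hh.symm

/-- The torus is cyclic. -/
theorem isCyclic_Tor {g : GL (Fin 2) F} (hg : g.1.trace = 0) : IsCyclic (Tor R g) := by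
  classical
  have h2 := R.two
  set c : F := -g.1.det with hc
  have hc0 : c ≠ 0 := neg_ne_zero.2 (det_ne_zero g)
  have hgg : g.1 * g.1 = c • (1 : M2) := sq_of_trace_zero hg
  let E := AlgebraicClosure F
  have h2E : (2 : E) ≠ 0 := by
    intro h
    apply h2
    have h3 : algebraMap F E 2 = algebraMap F E 0 := by rw [map_zero, map_ofNat]; exact h
    exact (algebraMap F E).injective h3
  obtain ⟨i, hi⟩ : ∃ i : E, i * i = algebraMap F E c := by
    obtain ⟨i, hi⟩ := IsAlgClosed.exists_pow_nat_eq (algebraMap F E c) (n := 2) (by norm_num)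
    exact ⟨i, by rw [← sq, hi]⟩
  have hi0 : i ≠ 0 := by
    rintro rfl
    rw [mul_zero] at hi
    exact hc0 ((algebraMap F E).injective (by rw [← hi, map_zero]))
  set φ := algebraMap F E with hφ
  -- the eigenvalues
  let A : M2 → F := fun M => M.trace / 2
  let B : M2 → F := fun M => (M * g.1).trace / (2 * c)
  have hA : ∀ a b : F, A (a • (1 : M2) + b • g.1) = a := by
    intro a b
    simp only [A]
    rw [Matrix.trace_add, Matrix.trace_smul, Matrix.trace_smul, hg, Matrix.trace_one]
    simp [h2]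
  have hB : ∀ a b : F, B (a • (1 : M2) + b • g.1) = b := by
    intro a b
    simp only [B]
    rw [Matrix.add_mul, Matrix.smul_mul, Matrix.smul_mul, Matrix.one_mul, hgg, Matrix.trace_add,
      Matrix.trace_smul, Matrix.trace_smul, Matrix.trace_smul, hg, Matrix.trace_one]
    simp
    field_simp
  let C := Subgroup.centralizer ({g} : Set (GL (Fin 2) F))
  have hab : ∀ h : C, h.1.1 = A h.1.1 • (1 : M2) + B h.1.1 • g.1 := by
    intro h
    obtain ⟨a, b, hab⟩ := exists_coef h2 hg
      (congrArg Units.val (Subgroup.mem_centralizer_singleton_iff.1 h.2))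
    rw [hab, hA, hB]
  have hmulA : ∀ h k : C, A (h.1.1 * k.1.1) = A h.1.1 * A k.1.1 + c * (B h.1.1 * B k.1.1) ∧
      B (h.1.1 * k.1.1) = A h.1.1 * B k.1.1 + B h.1.1 * A k.1.1 := by
    intro h k
    have h1 : h.1.1 * k.1.1 = (A h.1.1 * A k.1.1 + c * (B h.1.1 * B k.1.1)) • (1 : M2) +
        (A h.1.1 * B k.1.1 + B h.1.1 * A k.1.1) • g.1 := by
      nth_rw 1 [hab h, hab k]
      rw [Matrix.add_mul, Matrix.mul_add, Matrix.mul_add]
      simp only [Matrix.smul_mul, Matrix.mul_smul, Matrix.one_mul, Matrix.mul_one, hgg]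
      module
    rw [h1, hA, hB]
    exact ⟨rfl, rfl⟩
  -- norm
  have hnorm : ∀ h : C, (φ (A h.1.1) + φ (B h.1.1) * i) * (φ (A h.1.1) - φ (B h.1.1) * i) ≠ 0 := by
    intro h h0
    apply det_ne_zero h.1
    have h1 : h.1.1.det = A h.1.1 * A h.1.1 + g.1.det * (B h.1.1 * B h.1.1) := by
      nth_rw 1 [hab h]
      rw [det_add_smul _ _ hg]
    apply (algebraMap F E).injective
    rw [map_zero, h1, ← h0]
    have h3 : g.1.det = -c := by rw [hc, neg_neg]
    rw [h3]
    simp only [map_add, map_mul, map_neg, ← hφ]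
    linear_combination (φ (B h.1.1) * φ (B h.1.1)) * hi
  let f : C →* Eˣ :=
    { toFun := fun h => Units.mk0 ((φ (A h.1.1) + φ (B h.1.1) * i) / (φ (A h.1.1) - φ (B h.1.1) * i))
        (div_ne_zero (left_ne_zero_of_mul (hnorm h)) (right_ne_zero_of_mul (hnorm h)))
      map_one' := by
        apply Units.ext
        change (φ (A (1 : M2)) + φ (B (1 : M2)) * i) / (φ (A (1 : M2)) - φ (B (1 : M2)) * i) = 1
        have h1 : (1 : M2) = (1 : F) • (1 : M2) + (0 : F) • g.1 := by rw [one_smul, zero_smul, add_zero]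
        have h3 : A (1 : M2) = 1 := by rw [h1, hA]
        have h4 : B (1 : M2) = 0 := by rw [h1, hB]
        rw [h3, h4, map_one, map_zero, zero_mul, add_zero, sub_zero, div_one]
      map_mul' := fun h k => by
        apply Units.ext
        change (φ (A (h.1.1 * k.1.1)) + φ (B (h.1.1 * k.1.1)) * i) /
          (φ (A (h.1.1 * k.1.1)) - φ (B (h.1.1 * k.1.1)) * i) =
          (φ (A h.1.1) + φ (B h.1.1) * i) / (φ (A h.1.1) - φ (B h.1.1) * i) *
          ((φ (A k.1.1) + φ (B k.1.1) * i) / (φ (A k.1.1) - φ (B k.1.1) * i))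
        have e1 : φ (A (h.1.1 * k.1.1)) + φ (B (h.1.1 * k.1.1)) * i =
            (φ (A h.1.1) + φ (B h.1.1) * i) * (φ (A k.1.1) + φ (B k.1.1) * i) := by
          rw [(hmulA h k).1, (hmulA h k).2, map_add, map_mul, map_mul, map_mul, map_add, map_mul,
            map_mul]
          linear_combination (-(φ (B h.1.1) * φ (B k.1.1))) * hi
        have e2 : φ (A (h.1.1 * k.1.1)) - φ (B (h.1.1 * k.1.1)) * i =
            (φ (A h.1.1) - φ (B h.1.1) * i) * (φ (A k.1.1) - φ (B k.1.1) * i) := by
          rw [(hmulA h k).1, (hmulA h k).2, map_add, map_mul, map_mul, map_mul, map_add, map_mul,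
            map_mul]
          linear_combination (-(φ (B h.1.1) * φ (B k.1.1))) * hi
        rw [e1, e2, div_mul_div_comm] }
  have hker : f.ker ≤ (R.gl.comp C.subtype).ker := by
    intro h hh
    rw [MonoidHom.mem_ker] at hh
    have h1 : (φ (A h.1.1) + φ (B h.1.1) * i) / (φ (A h.1.1) - φ (B h.1.1) * i) = 1 :=
      congrArg Units.val hh
    rw [div_eq_one_iff_eq (right_ne_zero_of_mul (hnorm h))] at h1
    have h3 : 2 * φ (B h.1.1) * i = 0 := by linear_combination h1
    have h4 : φ (B h.1.1) = 0 := by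
      rcases mul_eq_zero.1 h3 with h5 | h5
      · exact (mul_eq_zero.1 h5).resolve_left h2E
      · exact absurd h5 hi0
    have h5 : B h.1.1 = 0 := (algebraMap F E).injective (by rw [map_zero]; exact h4)
    rw [MonoidHom.mem_ker]
    change R.gl h.1 = 1
    rw [R.gl_eq_one_iff]
    refine ⟨A h.1.1, ?_⟩
    have h6 := hab h
    rw [h5, zero_smul, add_zero] at h6
    exact h6
  have : Finite C := Subtype.finite
  have hcyc : IsCyclic (C ⧸ f.ker) := by
    have h1 : IsCyclic f.range := by
      have : Finite f.range := Finite.of_surjective f.rangeRestrict f.rangeRestrict_surjective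
      infer_instance
    exact isCyclic_of_surjective (QuotientGroup.quotientKerEquivRange f).symm
      (QuotientGroup.quotientKerEquivRange f).symm.surjective
  let ψ : C ⧸ f.ker →* Tor R g := QuotientGroup.lift f.ker (R.gl.subgroupMap C) (by
    intro h hh
    have h1 := hker hh
    exact Subtype.ext h1)
  have hψ : Function.Surjective ψ := by
    intro x
    obtain ⟨h, hh⟩ := R.gl.subgroupMap_surjective C x
    exact ⟨QuotientGroup.mk h, hh⟩
  exact isCyclic_of_surjective ψ hψ

omit [Finite F] in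
theorem scalar_eq {g h : GL (Fin 2) F} {c : F} (h1 : (g⁻¹ * h).1 = c • (1 : M2)) :
    h.1 = c • g.1 := by
  have h3 : g.1 * (g⁻¹ * h).1 = h.1 := by rw [← Units.val_mul, mul_inv_cancel_left]
  rw [← h3, h1, Matrix.mul_smul, Matrix.mul_one]

theorem gl_eq_gl_iff {g h : GL (Fin 2) F} : R.gl g = R.gl h ↔ ∃ c : F, h.1 = c • g.1 := by
  have h1 : R.gl g = R.gl h ↔ R.gl (g⁻¹ * h) = 1 := by
    rw [map_mul, map_inv, inv_mul_eq_one]
  rw [h1, R.gl_eq_one_iff]
  constructor
  · rintro ⟨c, hc⟩
    exact ⟨c, scalar_eq hc⟩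
  · rintro ⟨c, hc⟩
    refine ⟨c, ?_⟩
    rw [Units.val_mul, hc, Matrix.mul_smul, inv_val_mul_val]

/-- `x + g` as an element of `GL(2,F)` -/
noncomputable def shift {g : GL (Fin 2) F} (hg : g.1.trace = 0)
    (x : {x : F // x * x ≠ -g.1.det}) : GL (Fin 2) F :=
  toGL' (x.1 • (1 : M2) + (1 : F) • g.1) (by
    rw [det_add_smul _ _ hg, one_mul, mul_one]
    intro h
    exact x.2 (by linear_combination h))

omit [Finite F] in
theorem shift_val {g : GL (Fin 2) F} (hg : g.1.trace = 0) (x : {x : F // x * x ≠ -g.1.det}) :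
    (shift hg x).1 = x.1 • (1 : M2) + (1 : F) • g.1 := rfl

omit [Finite F] in
theorem smul_inj {g : GL (Fin 2) F} (hns : ∀ c : F, g.1 ≠ c • (1 : M2)) {a b a' b' : F}
    (h : a • (1 : M2) + b • g.1 = a' • (1 : M2) + b' • g.1) : a = a' ∧ b = b' := by
  have hb : b = b' := by
    by_contra hb
    apply hns ((a' - a) / (b - b'))
    have hb' : b - b' ≠ 0 := sub_ne_zero.2 hb
    have h1 : (b - b') • g.1 = (a' - a) • (1 : M2) := by
      rw [sub_smul, sub_smul, sub_eq_sub_iff_add_eq_add, add_comm, h, add_comm]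
    rw [div_eq_inv_mul, mul_smul, ← h1, smul_smul, inv_mul_cancel₀ hb', one_smul]
  subst hb
  refine ⟨?_, rfl⟩
  have h1 : a • (1 : M2) = a' • (1 : M2) := add_right_cancel h
  have h3 := congrFun (congrFun h1 0) 0
  simpa using h3

/-- `Tor R g` is the set of the classes of `1` and `x + g`, `x² ≠ - det g`. -/
theorem card_Tor_eq {g : GL (Fin 2) F} (hg : g.1.trace = 0) :
    Nat.card (Tor R g) = Nat.card {x : F // x * x ≠ -g.1.det} + 1 := by
  have hns := not_scalar_of_trace_zero R.two hg
  rw [← Finite.card_option]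
  symm
  let f : Option {x : F // x * x ≠ -g.1.det} → Tor R g := fun o =>
    match o with
    | none => 1
    | some x => ⟨R.gl (shift hg x), (mem_Tor R).2 ⟨shift hg x, by
        rw [shift_val, Matrix.add_mul, Matrix.mul_add]
        simp only [Matrix.smul_mul, Matrix.mul_smul, Matrix.one_mul, Matrix.mul_one], rfl⟩⟩
  refine Nat.card_congr (Equiv.ofBijective f ⟨?_, ?_⟩)
  · have key : ∀ x, R.gl (shift hg x) ≠ 1 := by
      intro x h1
      obtain ⟨c, hc⟩ := R.gl_eq_one_iff.1 h1
      rw [shift_val] at hc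
      have h3 : x.1 • (1 : M2) + (1 : F) • g.1 = c • (1 : M2) + (0 : F) • g.1 := by
        rw [hc, zero_smul, add_zero]
      exact one_ne_zero (smul_inj hns h3).2
    intro o o' h
    rcases o with _ | x <;> rcases o' with _ | y
    · rfl
    · exact (key y (congrArg Subtype.val h).symm).elim
    · exact (key x (congrArg Subtype.val h)).elim
    · have h1 : R.gl (shift hg x) = R.gl (shift hg y) := congrArg Subtype.val h
      obtain ⟨c, hc⟩ := (gl_eq_gl_iff R).1 h1
      rw [shift_val, shift_val, smul_add, smul_smul, smul_smul] at hc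
      obtain ⟨h3, h4⟩ := smul_inj hns hc
      rw [mul_one] at h4
      rw [← h4, one_mul] at h3
      rw [Subtype.ext h3]
  · rintro ⟨β, hβ⟩
    obtain ⟨h, hh, rfl⟩ := (mem_Tor R).1 hβ
    obtain ⟨a, b, hab⟩ := exists_coef R.two hg hh
    by_cases hb : b = 0
    · refine ⟨none, Subtype.ext ?_⟩
      change 1 = R.gl h
      symm
      rw [R.gl_eq_one_iff]
      exact ⟨a, by rw [hab, hb, zero_smul, add_zero]⟩
    · refine ⟨some ⟨a / b, ?_⟩, Subtype.ext ?_⟩
      · intro h1
        apply det_ne_zero h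
        rw [hab, det_add_smul _ _ hg]
        have h3 : a / b * (a / b) * (b * b) = a * a := by field_simp
        rw [h1] at h3
        linear_combination -h3
      · change R.gl (shift hg _) = R.gl h
        rw [gl_eq_gl_iff]
        refine ⟨b, ?_⟩
        refine hab.trans ?_
        rw [shift_val, smul_add, smul_smul, smul_smul, mul_one, mul_div_cancel₀ _ hb]

theorem card_Tor_of_not_sq {g : GL (Fin 2) F} (hg : g.1.trace = 0)
    (hsq : ¬ IsSquare (-g.1.det)) : Nat.card (Tor R g) = Nat.card F + 1 := by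
  rw [card_Tor_eq R hg]
  congr 1
  refine Nat.card_congr ⟨fun x => x.1, fun x => ⟨x, fun h => hsq ⟨x, h.symm⟩⟩, fun x => rfl,
    fun x => rfl⟩

theorem card_Tor_of_sq {g : GL (Fin 2) F} (hg : g.1.trace = 0)
    (hsq : IsSquare (-g.1.det)) : Nat.card (Tor R g) + 1 = Nat.card F := by
  classical
  have := Fintype.ofFinite F
  obtain ⟨i, hi⟩ := hsq
  have hi0 : i ≠ 0 := by
    rintro rfl
    rw [mul_zero, neg_eq_zero] at hi
    exact det_ne_zero g hi
  have hne : i ≠ -i := by
    intro h
    have h1 : 2 * i = 0 := by linear_combination h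
    rcases mul_eq_zero.1 h1 with h3 | h3
    · exact R.two h3
    · exact hi0 h3
  rw [card_Tor_eq R hg]
  have h1 : Nat.card F = Nat.card {x : F // x * x ≠ -g.1.det} +
      Nat.card {x : F // ¬ x * x ≠ -g.1.det} := by
    rw [← Nat.card_sum]
    exact Nat.card_congr (Equiv.sumCompl _).symm
  have h3 : Nat.card {x : F // ¬ x * x ≠ -g.1.det} = 2 := by
    have h4 : {x : F | ¬ x * x ≠ -g.1.det} = {i, -i} := by
      ext x
      simp only [ne_eq, not_not, Set.mem_ofPred_eq, Set.mem_insert_iff, Set.mem_singleton_iff]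
      rw [hi]
      exact mul_self_eq_mul_self_iff
    have h5 : Nat.card {x : F // ¬ x * x ≠ -g.1.det} =
        Nat.card ({i, -i} : Set F) := by rw [← h4]; rfl
    rw [h5, Nat.card_coe_set_eq, Set.ncard_pair hne]
  omega

/-- Elements of `PGL` commuting with the involution `gl g` lie in the torus or are involutions. -/
theorem mem_Tor_or_sq {g : GL (Fin 2) F} {β : MulAut L} (hβ : β ∈ R.PGL)
    (hc : β * R.gl g = R.gl g * β) : β ∈ Tor R g ∨ β * β = 1 := by
  obtain ⟨h, rfl⟩ := R.mem_PGL.1 hβ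
  rw [← map_mul, ← map_mul] at hc
  obtain ⟨c, hc⟩ := (gl_eq_gl_iff R).1 hc
  rw [Units.val_mul, Units.val_mul] at hc
  have hcc : c * c = 1 := by
    have h1 := congrArg Matrix.det hc
    rw [Matrix.det_smul, Matrix.det_mul, Matrix.det_mul, Fintype.card_fin] at h1
    have h3 : h.1.det * g.1.det ≠ 0 := mul_ne_zero (det_ne_zero h) (det_ne_zero g)
    apply mul_right_cancel₀ h3
    linear_combination -h1
  have hc1 : (c - 1) * (c + 1) = 0 := by linear_combination hcc
  rcases mul_eq_zero.1 hc1 with h1 | h1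
  · left
    rw [sub_eq_zero] at h1
    rw [h1, one_smul] at hc
    exact (mem_Tor R).2 ⟨h, hc.symm, rfl⟩
  · right
    have h3 : c = -1 := by linear_combination h1
    rw [h3, neg_smul, one_smul] at hc
    -- the trace is zero
    have ht : h.1.trace = 0 := by
      have h4 : g.1 * h.1 * g⁻¹.1 = -h.1 := by
        rw [hc, Matrix.neg_mul, Matrix.mul_assoc, ← Units.val_mul, mul_inv_cancel, Units.val_one,
          Matrix.mul_one]
      have h5 := congrArg Matrix.trace h4
      rw [Matrix.trace_mul_comm, ← Matrix.mul_assoc, inv_val_mul_val, Matrix.one_mul,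
        Matrix.trace_neg] at h5
      have h6 : 2 * h.1.trace = 0 := by linear_combination h5
      exact (mul_eq_zero.1 h6).resolve_left R.two
    rw [← map_mul, R.gl_eq_one_iff]
    exact ⟨_, sq_of_trace_zero ht⟩

/-- The involutions of `PGL` are induced by the matrices of trace zero. -/
theorem trace_of_sq {g : GL (Fin 2) F} (h1 : R.gl g ≠ 1) (h : R.gl g * R.gl g = 1) :
    g.1.trace = 0 := by
  rw [← map_mul, R.gl_eq_one_iff] at h
  obtain ⟨c, hc⟩ := h
  rw [Units.val_mul] at hc
  by_contra ht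
  apply h1
  rw [R.gl_eq_one_iff]
  -- Cayley-Hamilton
  have h3 : g.1 * g.1 = g.1.trace • g.1 - g.1.det • (1 : M2) := by
    apply mat_ext <;> rw [mat_mul, Matrix.trace_fin_two, Matrix.det_fin_two] <;> simp <;> ring
  refine ⟨(c + g.1.det) / g.1.trace, ?_⟩
  have h4 : g.1.trace • g.1 = (c + g.1.det) • (1 : M2) := by
    rw [add_smul, ← hc, h3, sub_add_cancel]
  rw [div_eq_inv_mul, mul_smul, ← h4, smul_smul, inv_mul_cancel₀ ht, one_smul]

theorem sq_of_trace {g : GL (Fin 2) F} (hg : g.1.trace = 0) : R.gl g * R.gl g = 1 := by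
  rw [← map_mul, R.gl_eq_one_iff]
  exact ⟨_, sq_of_trace_zero hg⟩

theorem gl_ne_one {g : GL (Fin 2) F} (hg : g.1.trace = 0) : R.gl g ≠ 1 := by
  intro h
  obtain ⟨c, hc⟩ := R.gl_eq_one_iff.1 h
  exact not_scalar_of_trace_zero R.two hg c hc

omit [Finite F] in
theorem one_add_pow {n : M2} (hn : n * n = 0) (k : ℕ) : (1 + n) ^ k = 1 + (k : F) • n := by
  induction k with
  | zero => simp
  | succ k ih =>
    rw [pow_succ, ih, Matrix.mul_add, Matrix.mul_one, Matrix.add_mul, Matrix.one_mul,
      Matrix.smul_mul, hn, smul_zero, add_zero]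
    push_cast
    rw [add_smul, one_smul, add_assoc]

/-- The elements of `PGL` fixing an element of odd prime order `r` not dividing `q` lie in a
torus. -/
theorem exists_Tor {r : ℕ} (hr : r.Prime) (hr2 : r ≠ 2) (hrF : ¬ r ∣ Nat.card F) {y : L}
    (hy : orderOf y = r) : ∃ g : GL (Fin 2) F, g.1.trace = 0 ∧ MulAut.conj y ∈ Tor R g ∧
      ∀ β ∈ R.PGL, β y = y → β ∈ Tor R g := by
  have hodd := hr.odd_of_ne_two hr2
  have hrF0 : (r : F) ≠ 0 := by
    intro h0
    apply hrF
    have := Fintype.ofFinite F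
    rw [Nat.card_eq_fintype_card]
    have hch := ringChar.charP F
    have h1 : ringChar F ∣ r := (CharP.cast_eq_zero_iff F (ringChar F) r).1 h0
    rcases (Nat.dvd_prime hr).1 h1 with h3 | h3
    · exact absurd h3 CharP.ringChar_ne_one
    · rw [← h3, ← CharP.cast_eq_zero_iff F (ringChar F), Nat.cast_card_eq_zero]
  -- lift of odd order
  obtain ⟨x, hxy, hxr⟩ : ∃ x : SL2, R.π x = y ∧ x ^ r = 1 := by
    obtain ⟨x, rfl⟩ := R.surj y
    have h1 : R.π (x ^ r) = 1 := by rw [map_pow, ← hy, pow_orderOf_eq_one]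
    rcases (R.ker _).1 h1 with h3 | h3
    · exact ⟨x, rfl, h3⟩
    · refine ⟨-x, R.π_neg x, ?_⟩
      rw [hodd.neg_pow, h3, neg_neg]
  have hx1 : x ≠ 1 := by
    rintro rfl
    rw [map_one] at hxy
    rw [← hxy, orderOf_one] at hy
    exact hr.one_lt.ne hy
  have hxneg : (-x) ^ r ≠ 1 := by
    rw [hodd.neg_pow, hxr]
    exact R.neg_one_ne_one
  set t := x.1.trace with ht
  have hdet : x.1.det = 1 := x.2
  have hch : x.1 * x.1 = t • x.1 - (1 : M2) := by
    have h3 : x.1 * x.1 = x.1.trace • x.1 - x.1.det • (1 : M2) := by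
      apply mat_ext <;> rw [mat_mul, Matrix.trace_fin_two, Matrix.det_fin_two] <;> simp <;> ring
    rw [h3, hdet, one_smul]
  -- the matrix
  have hdet0 : ((-t) • (1 : M2) + (2 : F) • x.1).det ≠ 0 := by
    have h1 : ((-t) • (1 : M2) + (2 : F) • x.1).det = 4 - t * t := by
      rw [Matrix.det_fin_two]
      rw [Matrix.det_fin_two] at hdet
      rw [ht, Matrix.trace_fin_two]
      simp
      linear_combination 4 * hdet
    rw [h1]
    intro h0
    have h3 : (2 - t) * (2 + t) = 0 := by linear_combination h0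
    have hxr' : x.1 ^ r = 1 := by
      have := congrArg Subtype.val hxr
      rwa [Matrix.SpecialLinearGroup.coe_pow] at this
    rcases mul_eq_zero.1 h3 with h4 | h4
    · have h5 : t = 2 := by linear_combination -h4
      have hn : (x.1 - 1) * (x.1 - 1) = 0 := by
        rw [Matrix.sub_mul, Matrix.mul_sub, Matrix.mul_sub, Matrix.mul_one, Matrix.one_mul, hch, h5,
          two_smul, Matrix.mul_one]
        abel
      have h6 := one_add_pow hn r
      rw [add_sub_cancel, hxr'] at h6
      have h7 : (r : F) • (x.1 - 1) = 0 := by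
        have := h6.symm
        rwa [add_eq_left] at this
      rcases smul_eq_zero.1 h7 with h8 | h8
      · exact hrF0 h8
      · apply hx1
        apply Subtype.ext
        exact sub_eq_zero.1 h8
    · have h5 : t = -2 := by linear_combination h4
      have hn : (-x.1 - 1) * (-x.1 - 1) = 0 := by
        rw [Matrix.sub_mul, Matrix.mul_sub, Matrix.mul_sub, Matrix.mul_one, Matrix.one_mul,
          Matrix.neg_mul, Matrix.mul_neg, neg_neg, hch, h5, neg_smul, two_smul, Matrix.mul_one]
        abel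
      have h6 := one_add_pow hn r
      rw [add_sub_cancel, hodd.neg_pow, hxr'] at h6
      have h7 : (r : F) • (-x.1 - 1) = (-2 : F) • (1 : M2) := by
        have h8 : (r : F) • (-x.1 - 1) = -1 - 1 := by rw [eq_sub_iff_add_eq, add_comm]; exact h6.symm
        rw [h8, neg_smul, two_smul]
        abel
      have h8 : -x.1 - 1 = ((r : F)⁻¹ * (-2)) • (1 : M2) := by
        rw [mul_smul, ← h7, smul_smul, inv_mul_cancel₀ hrF0, one_smul]
      rw [h8] at hn
      have h9 := congrFun (congrFun hn 0) 0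
      rw [mat_mul] at h9
      simp at h9
      rcases h9 with h9 | h9
      · exact hrF0 h9
      · exact R.two h9
  refine ⟨toGL' _ hdet0, ?_, ?_, ?_⟩
  · rw [toGL'_val, Matrix.trace_add, Matrix.trace_smul, Matrix.trace_smul, Matrix.trace_one, ← ht]
    simp
    ring
  · rw [mem_Tor]
    refine ⟨Matrix.SpecialLinearGroup.toGL x, ?_, ?_⟩
    · rw [toGL'_val]
      have h1 : (Matrix.SpecialLinearGroup.toGL x).1 = x.1 := rfl
      rw [h1, Matrix.mul_add, Matrix.add_mul]
      simp only [Matrix.smul_mul, Matrix.mul_smul, Matrix.one_mul, Matrix.mul_one]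
    · rw [← R.conj_π, hxy]
  · intro β hβ hβy
    obtain ⟨h, rfl⟩ := R.mem_PGL.1 hβ
    rw [← hxy, R.gl_apply, R.π_eq_iff] at hβy
    have h1 : conjGL h x = x := by
      rcases hβy with h3 | h3
      · exact h3
      · exfalso
        apply hxneg
        rw [← h3, ← map_pow, hxr, map_one]
    have h3 := of_conjGL_eq h1
    rw [mem_Tor]
    refine ⟨h, ?_, rfl⟩
    rw [toGL'_val, Matrix.mul_add, Matrix.add_mul]
    simp only [Matrix.smul_mul, Matrix.mul_smul, Matrix.one_mul, Matrix.mul_one, h3]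

/-- Products of two elements of `PGL` not inner are inner. -/
theorem mul_mem_inn {α β : MulAut L} (hα : α ∈ R.PGL) (hβ : β ∈ R.PGL)
    (hα' : α ∉ (MulAut.conj : L →* MulAut L).range)
    (hβ' : β ∉ (MulAut.conj : L →* MulAut L).range) :
    α * β ∈ (MulAut.conj : L →* MulAut L).range := by
  obtain ⟨g, rfl⟩ := R.mem_PGL.1 hα
  obtain ⟨h, rfl⟩ := R.mem_PGL.1 hβ
  rw [R.gl_mem_inn] at hα' hβ'
  rw [← map_mul, R.gl_mem_inn, Units.val_mul, Matrix.det_mul]
  have := Fintype.ofFinite F
  have hch : ringChar F ≠ 2 := by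
    intro h2
    apply R.two
    have h3 := ringChar.charP F
    rw [h2] at h3
    exact_mod_cast (CharP.cast_eq_zero_iff F 2 2).2 (dvd_refl 2)
  classical
  have h1 := (quadraticChar_neg_one_iff_not_isSquare (F := F)).2 hα'
  have h3 := (quadraticChar_neg_one_iff_not_isSquare (F := F)).2 hβ'
  have h4 : g.1.det * h.1.det ≠ 0 := mul_ne_zero (det_ne_zero g) (det_ne_zero h)
  rw [← quadraticChar_one_iff_isSquare h4, map_mul, h1, h3]
  norm_num

/-! ### Fixed points of involutions -/

/-- the elements of `L` inducing elements of the torus -/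
noncomputable def Cp (g : GL (Fin 2) F) : Subgroup L := (Tor R g).comap MulAut.conj

theorem mem_Cp {g : GL (Fin 2) F} {y : L} : y ∈ Cp R g ↔ MulAut.conj y ∈ Tor R g := Iff.rfl

theorem isCyclic_Cp {g : GL (Fin 2) F} (hg : g.1.trace = 0) : IsCyclic (Cp R g) := by
  have := isCyclic_Tor R hg
  let f : Cp R g →* Tor R g :=
    { toFun := fun y => ⟨MulAut.conj y.1, y.2⟩
      map_one' := Subtype.ext (map_one _)
      map_mul' := fun x y => Subtype.ext (map_mul _ _ _) }
  refine isCyclic_of_injective f ?_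
  intro x y h
  exact Subtype.ext (R.conj_injective (congrArg Subtype.val h))

include R in
theorem fix_iff {α : MulAut L} {y : L} : α y = y ↔ α * MulAut.conj y = MulAut.conj y * α := by
  constructor
  · intro h
    ext z
    rw [MulAut.mul_apply, MulAut.mul_apply, MulAut.conj_apply, MulAut.conj_apply, map_mul, map_mul,
      map_inv, h]
  · intro h
    apply R.conj_injective
    have h1 : MulAut.conj (α y) = α * MulAut.conj y * α⁻¹ := by
      ext z
      rw [MulAut.mul_apply, MulAut.mul_apply, MulAut.conj_apply, MulAut.conj_apply, map_mul,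
        map_mul, map_inv, MulAut.apply_inv_self]
    rw [h1, h, mul_inv_cancel_right]

theorem Tor_comm {g : GL (Fin 2) F} (hg : g.1.trace = 0) {α β : MulAut L} (hα : α ∈ Tor R g)
    (hβ : β ∈ Tor R g) : α * β = β * α := by
  have hc := isCyclic_Tor R hg
  obtain ⟨c, hc⟩ := hc.exists_generator
  obtain ⟨m, hm⟩ := Subgroup.mem_zpowers_iff.mp (hc ⟨α, hα⟩)
  obtain ⟨n, hn⟩ := Subgroup.mem_zpowers_iff.mp (hc ⟨β, hβ⟩)
  have h1 : (⟨α, hα⟩ : Tor R g) * ⟨β, hβ⟩ = ⟨β, hβ⟩ * ⟨α, hα⟩ := by
    rw [← hm, ← hn, ← _root_.zpow_add, ← _root_.zpow_add, add_comm]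
  exact congrArg Subtype.val h1

theorem fix_of_mem_Cp {g : GL (Fin 2) F} (hg : g.1.trace = 0) {α : MulAut L} (hα : α ∈ Tor R g)
    {y : L} (hy : y ∈ Cp R g) : α y = y :=
  (fix_iff R).2 (Tor_comm R hg hα hy)

theorem mem_Cp_or_sq {g : GL (Fin 2) F} {y : L} (hy : R.gl g y = y) : y ∈ Cp R g ∨ y * y = 1 := by
  rcases mem_Tor_or_sq R (R.conj_mem_PGL y) ((fix_iff R).1 hy).symm with h | h
  · exact Or.inl h
  · right
    rw [← map_mul] at h
    exact R.conj_injective (by rw [h, map_one])

/-- Fixed points outside `Cp`: the product of two of them is in `Cp`. -/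
theorem mul_mem_Cp {g : GL (Fin 2) F} {y z : L} (hy : R.gl g y = y) (hz : R.gl g z = z)
    (hy' : y ∉ Cp R g) (hz' : z ∉ Cp R g) : y * z ∈ Cp R g := by
  have key : ∀ y : L, R.gl g y = y → y ∉ Cp R g → ∃ x : SL2, R.π x = y ∧
      x.1 * g.1 = -(g.1 * x.1) := by
    intro y hy hy'
    obtain ⟨x, rfl⟩ := R.surj y
    rw [R.gl_apply, R.π_eq_iff] at hy
    rcases hy with h | h
    · exfalso
      apply hy'
      rw [mem_Cp, R.conj_π, mem_Tor]
      exact ⟨_, (of_conjGL_eq h).symm, rfl⟩
    · refine ⟨x, rfl, ?_⟩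
      have h1 := of_conjGL_eq h
      rw [h1]
      change x.1 * g.1 = -(-x.1 * g.1)
      rw [Matrix.neg_mul, neg_neg]
  obtain ⟨x, rfl, hx⟩ := key y hy hy'
  obtain ⟨w, rfl, hw⟩ := key z hz hz'
  rw [← map_mul, mem_Cp, R.conj_π, mem_Tor]
  refine ⟨_, ?_, rfl⟩
  change (x.1 * w.1) * g.1 = g.1 * (x.1 * w.1)
  rw [Matrix.mul_assoc, hw, Matrix.mul_neg, ← Matrix.mul_assoc, hx, Matrix.neg_mul, neg_neg,
    Matrix.mul_assoc]

/-- the order of the torus of an inner involution -/
def nu (q : ℕ) : ℕ := if q % 4 = 1 then q - 1 else q + 1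

/-- the order of the torus of an outer involution -/
def mu (q : ℕ) : ℕ := if q % 4 = 1 then q + 1 else q - 1

omit [Finite F] in
include R in
theorem odd_card [Finite F] : Nat.card F % 2 = 1 := Cfsg.Agent.Lib.PSL2Torus.odd_card R.two

omit [Finite F] in
theorem neg_one_sq [Fintype F] : IsSquare (-1 : F) ↔ Nat.card F % 4 ≠ 3 := by
  rw [Nat.card_eq_fintype_card, FiniteField.isSquare_neg_one_iff]

omit [Finite F] in
theorem isSquare_mul_iff {a b : F} (hb : IsSquare b) (hb0 : b ≠ 0) :
    IsSquare (a * b) ↔ IsSquare a := by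
  constructor
  · rintro ⟨c, hc⟩
    obtain ⟨d, hd⟩ := hb
    have hd0 : d ≠ 0 := by
      rintro rfl
      rw [mul_zero] at hd
      exact hb0 hd
    refine ⟨c / d, ?_⟩
    field_simp
    rw [hd] at hc
    linear_combination hc
  · intro h
    exact h.mul hb

theorem card_Tor_inn {g : GL (Fin 2) F} (hg : g.1.trace = 0)
    (hi : R.gl g ∈ (MulAut.conj : L →* MulAut L).range) : Nat.card (Tor R g) = nu (Nat.card F) := by
  have := Fintype.ofFinite F
  have hodd := odd_card R
  rw [R.gl_mem_inn] at hi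
  have hd := det_ne_zero g
  have h1 : -g.1.det = -1 * g.1.det := by ring
  have h3 : IsSquare (-g.1.det) ↔ Nat.card F % 4 ≠ 3 := by
    rw [h1, isSquare_mul_iff hi hd, neg_one_sq]
  unfold nu
  split_ifs with h4
  · have := card_Tor_of_sq R hg (h3.2 (by omega))
    omega
  · exact card_Tor_of_not_sq R hg (fun h5 => (h3.1 h5) (by omega))

theorem card_Tor_not_inn {g : GL (Fin 2) F} (hg : g.1.trace = 0)
    (hi : R.gl g ∉ (MulAut.conj : L →* MulAut L).range) : Nat.card (Tor R g) = mu (Nat.card F) := by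
  have := Fintype.ofFinite F
  classical
  have hodd := odd_card R
  rw [R.gl_mem_inn] at hi
  have hd := det_ne_zero g
  have h3 : IsSquare (-g.1.det) ↔ Nat.card F % 4 = 3 := by
    constructor
    · intro h4
      by_contra h5
      apply hi
      have h6 := (neg_one_sq (F := F)).2 h5
      have h7 : g.1.det = -g.1.det * -1 := by ring
      rw [h7, isSquare_mul_iff h6 (neg_ne_zero.2 one_ne_zero)]
      exact h4
    · intro h4
      have h5 : ¬ IsSquare (-1 : F) := by rw [neg_one_sq]; simpa using h4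
      have h1 := (quadraticChar_neg_one_iff_not_isSquare (F := F)).2 hi
      have h6 := (quadraticChar_neg_one_iff_not_isSquare (F := F)).2 h5
      have h7 : -g.1.det ≠ 0 := neg_ne_zero.2 hd
      rw [← quadraticChar_one_iff_isSquare h7]
      have h8 : -g.1.det = g.1.det * -1 := by ring
      rw [h8, map_mul, h1, h6]
      norm_num
  unfold mu
  split_ifs with h4
  · exact card_Tor_of_not_sq R hg (fun h5 => by have := h3.1 h5; omega)
  · have := card_Tor_of_sq R hg (h3.2 (by omega))
    omega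

/-- For an outer involution `Cp` has index two in the torus. -/
theorem card_Cp_not_inn {g : GL (Fin 2) F} (hg : g.1.trace = 0)
    (hi : R.gl g ∉ (MulAut.conj : L →* MulAut L).range) :
    2 * Nat.card (Cp R g) = mu (Nat.card F) := by
  rw [← card_Tor_not_inn R hg hi]
  set I := (MulAut.conj : L →* MulAut L).range with hI
  have h1 : (I.subgroupOf (Tor R g)).index = 2 := by
    rw [Subgroup.index_eq_two_iff]
    refine ⟨⟨R.gl g, gl_mem_Tor R g⟩, fun b => ?_⟩
    by_cases hb : b.1 ∈ I
    · right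
      refine ⟨hb, fun h3 => hi ?_⟩
      have h4 : b.1 * R.gl g ∈ I := h3
      exact (Subgroup.mul_mem_cancel_left I hb).1 h4
    · left
      exact ⟨mul_mem_inn R (Tor_le_PGL R g b.2) (R.gl_mem_PGL g) hb hi, hb⟩
  have h3 : Nat.card (I.subgroupOf (Tor R g)) = Nat.card (Cp R g) := by
    symm
    refine Nat.card_congr (Equiv.ofBijective
      (fun y : Cp R g => (⟨⟨MulAut.conj y.1, y.2⟩, ⟨y.1, rfl⟩⟩ : I.subgroupOf (Tor R g)))
      ⟨?_, ?_⟩)
    · intro x y h
      apply Subtype.ext
      apply R.conj_injective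
      exact congrArg (fun z => z.1.1) h
    · rintro ⟨⟨β, hβ⟩, ⟨y, hy⟩⟩
      have hy' : MulAut.conj y = β := hy
      exact ⟨⟨y, by rw [mem_Cp, hy']; exact hβ⟩, Subtype.ext (Subtype.ext hy')⟩
  rw [← Subgroup.index_mul_card (I.subgroupOf (Tor R g)), h1, h3]

/-- If `|F|` is prime, all automorphisms are in `PGL`. -/
theorem mem_PGL_of_prime (hF : (Nat.card F).Prime) (α : MulAut L) : α ∈ R.PGL := by
  rw [R.mem_PGL_iff_fld]
  have := Fintype.ofFinite F
  have hF' : (Fintype.card F).Prime := by rwa [← Nat.card_eq_fintype_card]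
  have hfact : Fact (Fintype.card F).Prime := ⟨hF'⟩
  have hchar : CharP F (Fintype.card F) := by
    have hch := ringChar.charP F
    have h1 : ringChar F ∣ Fintype.card F := by
      rw [← CharP.cast_eq_zero_iff F (ringChar F), Nat.cast_card_eq_zero]
    rcases (Nat.dvd_prime hF').1 h1 with h3 | h3
    · exact absurd h3 CharP.ringChar_ne_one
    · rwa [h3] at hch
  ext x
  have e := ZMod.ringEquivOfPrime F hF' rfl
  obtain ⟨y, rfl⟩ := e.surjective x
  have h1 : ((R.fld α : F →+* F).comp (e : ZMod (Fintype.card F) →+* F)) =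
      (e : ZMod (Fintype.card F) →+* F) := Subsingleton.elim _ _
  exact RingHom.congr_fun h1 y

end Cfsg.Agent.OddCyclic.PGLTorus
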