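import Mathlib
import Cfsg.Agent.ClassicalGeometry.PSL2Basic

/-!
# S0342, T0 = 1: facts on `SL₂(F)`, `char F = 2` (piece A)
-/

set_option autoImplicit false
set_option linter.unusedSectionVars false

namespace Cfsg.Agent.OddCyclic.T1Sl2

open Matrix
open scoped Pointwise

section general
variable {F : Type*} [Field F]

theorem ext2 {g h : SpecialLinearGroup (Fin 2) F} (h00 : g 0 0 = h 0 0) (h01 : g 0 1 = h 0 1)
    (h10 : g 1 0 = h 1 0) (h11 : g 1 1 = h 1 1) : g = h := by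
  apply Matrix.SpecialLinearGroup.ext
  intro i j
  fin_cases i <;> fin_cases j <;> assumption

theorem mul00 (g h : SpecialLinearGroup (Fin 2) F) : (g * h) 0 0 = g 0 0 * h 0 0 + g 0 1 * h 1 0 := by
  rw [Matrix.SpecialLinearGroup.coe_mul, Matrix.mul_apply, Fin.sum_univ_two]

theorem mul01 (g h : SpecialLinearGroup (Fin 2) F) : (g * h) 0 1 = g 0 0 * h 0 1 + g 0 1 * h 1 1 := by
  rw [Matrix.SpecialLinearGroup.coe_mul, Matrix.mul_apply, Fin.sum_univ_two]

theorem mul10 (g h : SpecialLinearGroup (Fin 2) F) : (g * h) 1 0 = g 1 0 * h 0 0 + g 1 1 * h 1 0 := by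
  rw [Matrix.SpecialLinearGroup.coe_mul, Matrix.mul_apply, Fin.sum_univ_two]

theorem mul11 (g h : SpecialLinearGroup (Fin 2) F) : (g * h) 1 1 = g 1 0 * h 0 1 + g 1 1 * h 1 1 := by
  rw [Matrix.SpecialLinearGroup.coe_mul, Matrix.mul_apply, Fin.sum_univ_two]

theorem inv00 (g : SpecialLinearGroup (Fin 2) F) : g⁻¹ 0 0 = g 1 1 := by
  rw [Matrix.SpecialLinearGroup.SL2_inv_expl]; simp

theorem inv01 (g : SpecialLinearGroup (Fin 2) F) : g⁻¹ 0 1 = - g 0 1 := by
  rw [Matrix.SpecialLinearGroup.SL2_inv_expl]; simp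

theorem inv10 (g : SpecialLinearGroup (Fin 2) F) : g⁻¹ 1 0 = - g 1 0 := by
  rw [Matrix.SpecialLinearGroup.SL2_inv_expl]; simp

theorem inv11 (g : SpecialLinearGroup (Fin 2) F) : g⁻¹ 1 1 = g 0 0 := by
  rw [Matrix.SpecialLinearGroup.SL2_inv_expl]; simp

theorem one00 : (1 : SpecialLinearGroup (Fin 2) F) 0 0 = 1 := by simp
theorem one01 : (1 : SpecialLinearGroup (Fin 2) F) 0 1 = 0 := by simp
theorem one10 : (1 : SpecialLinearGroup (Fin 2) F) 1 0 = 0 := by simp
theorem one11 : (1 : SpecialLinearGroup (Fin 2) F) 1 1 = 1 := by simp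

theorem det (g : SpecialLinearGroup (Fin 2) F) : g 0 0 * g 1 1 - g 0 1 * g 1 0 = 1 := by
  have := g.det_coe
  rwa [Matrix.det_fin_two] at this

/-- the matrix `(a b; c d)` -/
def mk (a b c d : F) (h : a * d - b * c = 1) : SpecialLinearGroup (Fin 2) F :=
  ⟨!![a, b; c, d], by rw [Matrix.det_fin_two_of]; exact h⟩

@[simp] theorem mk00 (a b c d : F) (h : a * d - b * c = 1) : mk a b c d h 0 0 = a := rfl
@[simp] theorem mk01 (a b c d : F) (h : a * d - b * c = 1) : mk a b c d h 0 1 = b := rfl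
@[simp] theorem mk10 (a b c d : F) (h : a * d - b * c = 1) : mk a b c d h 1 0 = c := rfl
@[simp] theorem mk11 (a b c d : F) (h : a * d - b * c = 1) : mk a b c d h 1 1 = d := rfl

/-- upper unitriangular -/
def up (t : F) : SpecialLinearGroup (Fin 2) F := mk 1 t 0 1 (by ring)
/-- lower unitriangular -/
def lo (t : F) : SpecialLinearGroup (Fin 2) F := mk 1 0 t 1 (by ring)
/-- diagonal -/
def dg (s : Fˣ) : SpecialLinearGroup (Fin 2) F := mk s 0 0 (s⁻¹ : Fˣ) (by simp)

@[simp] theorem up00 (t : F) : up t 0 0 = 1 := rfl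
@[simp] theorem up01 (t : F) : up t 0 1 = t := rfl
@[simp] theorem up10 (t : F) : up t 1 0 = 0 := rfl
@[simp] theorem up11 (t : F) : up t 1 1 = 1 := rfl
@[simp] theorem lo00 (t : F) : lo t 0 0 = 1 := rfl
@[simp] theorem lo01 (t : F) : lo t 0 1 = 0 := rfl
@[simp] theorem lo10 (t : F) : lo t 1 0 = t := rfl
@[simp] theorem lo11 (t : F) : lo t 1 1 = 1 := rfl
@[simp] theorem dg00 (s : Fˣ) : dg s 0 0 = (s : F) := rfl
@[simp] theorem dg01 (s : Fˣ) : dg s 0 1 = 0 := rfl
@[simp] theorem dg10 (s : Fˣ) : dg s 1 0 = 0 := rfl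
@[simp] theorem dg11 (s : Fˣ) : dg s 1 1 = ((s⁻¹ : Fˣ) : F) := rfl

/-- `s ↦ diag(s, s⁻¹)` -/
def dgHom : Fˣ →* SpecialLinearGroup (Fin 2) F where
  toFun := dg
  map_one' := by apply ext2 <;> simp
  map_mul' s t := by
    apply ext2
    · rw [mul00]; simp
    · rw [mul01]; simp
    · rw [mul10]; simp
    · rw [mul11]; simp [mul_comm]

theorem dgHom_apply (s : Fˣ) : dgHom s = dg s := rfl

theorem dgHom_injective : Function.Injective (dgHom (F := F)) := by
  intro s t h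
  have : dg s 0 0 = dg t 0 0 := by rw [← dgHom_apply, ← dgHom_apply, h]
  exact Units.ext this

/-- the group of upper unitriangular matrices -/
def UI (F : Type*) [Field F] : Subgroup (SpecialLinearGroup (Fin 2) F) where
  carrier := {g | g 0 0 = 1 ∧ g 1 0 = 0}
  mul_mem' := by
    rintro a b ⟨h1, h2⟩ ⟨h3, h4⟩
    refine ⟨?_, ?_⟩
    · rw [mul00, h1, h3, h4]; ring
    · rw [mul10, h2, h4]; ring
  one_mem' := ⟨one00, one10⟩
  inv_mem' := by
    rintro a ⟨h1, h2⟩
    have h3 := det a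
    rw [h1, h2] at h3
    refine ⟨?_, ?_⟩
    · rw [inv00]; linear_combination h3
    · rw [inv10, h2]; ring

theorem mem_UI {g : SpecialLinearGroup (Fin 2) F} : g ∈ UI F ↔ g 0 0 = 1 ∧ g 1 0 = 0 := Iff.rfl

theorem eq_up {g : SpecialLinearGroup (Fin 2) F} (h : g ∈ UI F) : g = up (g 0 1) := by
  obtain ⟨h1, h2⟩ := h
  have h3 := det g
  rw [h1, h2] at h3
  apply ext2
  · rw [h1]; rfl
  · rfl
  · rw [h2]; rfl
  · rw [up11]; linear_combination h3

theorem up_mem (t : F) : up t ∈ UI F := ⟨rfl, rfl⟩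

theorem up_mul (s t : F) : up s * up t = up (s + t) := by
  apply ext2
  · rw [mul00]; simp
  · rw [mul01]; simp [add_comm]
  · rw [mul10]; simp
  · rw [mul11]; simp

theorem up_zero : up (0 : F) = 1 := by
  apply ext2 <;> simp

theorem card_UI [Fintype F] : Nat.card (UI F) = Fintype.card F := by
  rw [← Nat.card_eq_fintype_card]
  refine Nat.card_congr ⟨fun g => g.1 0 1, fun t => ⟨up t, up_mem t⟩, ?_, ?_⟩
  · intro g
    exact Subtype.ext (eq_up g.2).symm
  · intro t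
    rfl

theorem card_sl2' [Fintype F] : Nat.card (Matrix.SpecialLinearGroup (Fin 2) F) =
    (Fintype.card F + 1) * Fintype.card F * (Fintype.card F - 1) := by
  rw [ClassicalGeometry.PSL2Basic.card_SL2]
  have h : Fintype.card F ^ 2 - 1 = (Fintype.card F + 1) * (Fintype.card F - 1) := by
    have := Nat.sq_sub_sq (Fintype.card F) 1
    simpa using this
  rw [h]; ring

end general

variable {F : Type*} [Field F] [Fintype F] [CharP F 2]

theorem card_sl2 : Nat.card (Matrix.SpecialLinearGroup (Fin 2) F) =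
    (Fintype.card F + 1) * Fintype.card F * (Fintype.card F - 1) := card_sl2'

theorem card_pow (F : Type*) [Field F] [Fintype F] [CharP F 2] : ∃ n : ℕ, 0 < n ∧ Fintype.card F = 2 ^ n := by
  obtain ⟨n, -, h⟩ := FiniteField.card F 2
  exact ⟨n, n.2, h⟩

theorem isPGroup_UI (F : Type*) [Field F] [Fintype F] [CharP F 2] : IsPGroup 2 (UI F) := by
  obtain ⟨n, -, h⟩ := card_pow F
  exact IsPGroup.of_card (n := n) (by rw [card_UI, h])

theorem index_UI (F : Type*) [Field F] [Fintype F] [CharP F 2] : ¬ 2 ∣ (UI F).index := by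
  obtain ⟨n, hn, h⟩ := card_pow F
  have h1 : (UI F).index = (Fintype.card F + 1) * (Fintype.card F - 1) := by
    have h2 := (UI F).card_mul_index
    rw [card_UI, card_sl2] at h2
    have h3 : 0 < Fintype.card F := Fintype.card_pos
    apply Nat.eq_of_mul_eq_mul_left h3
    rw [h2]; ring
  have h4 : Even (Fintype.card F) := by
    rw [h]; exact (Nat.even_pow.2 ⟨even_two, hn.ne'⟩)
  have h5 : 0 < Fintype.card F := Fintype.card_pos
  rw [h1, ← even_iff_two_dvd, Nat.even_mul]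
  obtain ⟨k, hk⟩ := h4
  rintro (⟨j, hj⟩ | ⟨j, hj⟩) <;> omega

/-- the standard Sylow 2-subgroup -/
noncomputable def SU (F : Type*) [Field F] [Fintype F] [CharP F 2] :
    Sylow 2 (SpecialLinearGroup (Fin 2) F) := (isPGroup_UI F).toSylow (index_UI F)

theorem coe_SU : ((SU F : Sylow 2 (SpecialLinearGroup (Fin 2) F)) : Subgroup (SpecialLinearGroup (Fin 2) F)) = UI F := rfl

theorem mem_SU {g : SpecialLinearGroup (Fin 2) F} : g ∈ SU F ↔ g 0 0 = 1 ∧ g 1 0 = 0 := Iff.rfl

theorem mem_smul {U : Sylow 2 (SpecialLinearGroup (Fin 2) F)} {g x : SpecialLinearGroup (Fin 2) F} :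
    x ∈ g • U ↔ g⁻¹ * x * g ∈ U := by
  have : x ∈ g • U ↔ x ∈ MulAut.conj g • (U : Subgroup (SpecialLinearGroup (Fin 2) F)) := by
    rw [← Sylow.coe_subgroup_smul]; rfl
  rw [this, Subgroup.mem_pointwise_smul_iff_inv_smul_mem, ← map_inv, MulAut.smul_def, MulAut.conj_apply, inv_inv]
  rfl

theorem conj_mem_smul {U : Sylow 2 (SpecialLinearGroup (Fin 2) F)} {g x : SpecialLinearGroup (Fin 2) F}
    (h : x ∈ U) : g * x * g⁻¹ ∈ g • U := by
  rw [mem_smul]
  have : g⁻¹ * (g * x * g⁻¹) * g = x := by group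
  rwa [this]

theorem mem_smul_SU {g x : SpecialLinearGroup (Fin 2) F} :
    x ∈ g • SU F ↔ x 0 0 * g 0 0 + x 0 1 * g 1 0 = g 0 0 ∧ x 1 0 * g 0 0 + x 1 1 * g 1 0 = g 1 0 := by
  rw [mem_smul]
  set y := g⁻¹ * x * g with hy
  have h1 : x * g = g * y := by rw [hy]; group
  have h2 : (x * g) 0 0 = (g * y) 0 0 := by rw [h1]
  have h3 : (x * g) 1 0 = (g * y) 1 0 := by rw [h1]
  rw [mul00, mul00] at h2
  rw [mul10, mul10] at h3
  have hd := det g
  rw [h2, h3, mem_SU]
  constructor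
  · rintro ⟨h4, h5⟩
    rw [h4, h5]
    constructor <;> ring
  · rintro ⟨h4, h5⟩
    constructor
    · linear_combination g 1 1 * h4 - g 0 1 * h5 + (1 - y 0 0) * hd
    · linear_combination g 0 0 * h5 - g 1 0 * h4 - y 1 0 * hd

theorem smul_SU_eq {k : SpecialLinearGroup (Fin 2) F} : k • SU F = SU F ↔ k 1 0 = 0 := by
  constructor
  · intro h
    have h1 : up (1 : F) ∈ k • SU F := by rw [h]; exact up_mem 1
    rw [mem_smul_SU] at h1
    have h2 := h1.1
    simp only [up00, up01, one_mul] at h2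
    linear_combination h2
  · intro h
    have hd := det k
    rw [h] at hd
    have h0 : k 0 0 ≠ 0 := by
      intro h0; rw [h0] at hd; simp at hd
    apply Sylow.ext
    apply Subgroup.ext
    intro x
    change x ∈ k • SU F ↔ x ∈ SU F
    rw [mem_smul_SU, mem_SU, h]
    constructor
    · rintro ⟨h1, h2⟩
      constructor
      · apply mul_right_cancel₀ h0
        linear_combination h1
      · apply mul_right_cancel₀ h0
        linear_combination h2
    · rintro ⟨h1, h2⟩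
      rw [h1, h2]
      constructor <;> ring

theorem smul_SU_eq_iff {g h : SpecialLinearGroup (Fin 2) F} :
    g • SU F = h • SU F ↔ g 0 0 * h 1 0 = g 1 0 * h 0 0 := by
  rw [← inv_smul_eq_iff, smul_smul, smul_SU_eq, mul10, inv10, inv11]
  constructor
  · intro h1; linear_combination -h1
  · intro h1; linear_combination -h1

/-- the involution `(0 1; 1 0)` -/
def ww (F : Type*) [Field F] [CharP F 2] : SpecialLinearGroup (Fin 2) F :=
  mk 0 1 1 0 (by rw [CharTwo.sub_eq_add]; ring)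

@[simp] theorem ww00 : ww F 0 0 = 0 := rfl
@[simp] theorem ww01 : ww F 0 1 = 1 := rfl
@[simp] theorem ww10 : ww F 1 0 = 1 := rfl
@[simp] theorem ww11 : ww F 1 1 = 0 := rfl

theorem two_trans {U U' : Sylow 2 (SpecialLinearGroup (Fin 2) F)} (h : U ≠ U') :
    ∃ g : SpecialLinearGroup (Fin 2) F, g • U = SU F ∧ g • U' = ww F • SU F := by
  obtain ⟨g1, hg1⟩ := MulAction.exists_smul_eq (SpecialLinearGroup (Fin 2) F) U (SU F)
  obtain ⟨g2, hg2⟩ := MulAction.exists_smul_eq (SpecialLinearGroup (Fin 2) F) (SU F) (g1 • U')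
  have hc : g2 1 0 ≠ 0 := by
    intro hc
    apply h
    rw [← smul_SU_eq, hg2, ← hg1] at hc
    exact (MulAction.injective g1 hc).symm
  refine ⟨up (-(g2 0 0 / g2 1 0)) * g1, ?_, ?_⟩
  · rw [mul_smul, hg1, smul_SU_eq]; rfl
  · rw [mul_smul, ← hg2, smul_smul, smul_SU_eq_iff, mul00]
    simp only [up00, up01, ww00, ww10, mul_zero]
    field_simp
    ring

theorem exists_sqrt (a : F) : ∃ s : F, s * s = a := by
  have h : ringChar F = 2 := (CharP.eq F ‹CharP F 2› (ringChar.charP F)).symm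
  obtain ⟨s, hs⟩ := FiniteField.isSquare_of_char_two h a
  exact ⟨s, hs.symm⟩

theorem three_trans {U₁ U₂ U₃ : Sylow 2 (SpecialLinearGroup (Fin 2) F)} (h12 : U₁ ≠ U₂) (h23 : U₂ ≠ U₃)
    (h13 : U₁ ≠ U₃) : ∃ g : SpecialLinearGroup (Fin 2) F, g • U₁ = SU F ∧ g • U₂ = ww F • SU F ∧
      g • U₃ = lo (1 : F) • SU F := by
  obtain ⟨g1, h1, h2⟩ := two_trans h12
  obtain ⟨g2, hg2⟩ := MulAction.exists_smul_eq (SpecialLinearGroup (Fin 2) F) (SU F) (g1 • U₃)
  have hc : g2 1 0 ≠ 0 := by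
    intro hc
    apply h13
    rw [← smul_SU_eq, hg2, ← h1] at hc
    exact (MulAction.injective g1 hc).symm
  have ha : g2 0 0 ≠ 0 := by
    intro ha
    apply h23
    apply MulAction.injective g1
    change g1 • U₂ = g1 • U₃
    rw [h2, ← hg2, smul_SU_eq_iff, ha, ww00]; ring
  obtain ⟨s, hs⟩ := exists_sqrt (g2 1 0 / g2 0 0)
  have hs0 : s ≠ 0 := by
    rintro rfl
    rw [mul_zero] at hs
    exact (div_ne_zero hc ha) hs.symm
  refine ⟨dg (Units.mk0 s hs0) * g1, ?_, ?_, ?_⟩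
  · rw [mul_smul, h1, smul_SU_eq]; rfl
  · rw [mul_smul, h2, smul_smul, smul_SU_eq_iff, mul00, mul10]
    simp
  · rw [mul_smul, ← hg2, smul_smul, smul_SU_eq_iff, mul00, mul10]
    simp only [dg00, dg01, dg10, dg11, lo00, lo10, Units.val_mk0, Units.val_inv_eq_inv_val, mul_one, zero_mul,
      zero_add, add_zero]
    field_simp at hs ⊢
    linear_combination hs

/-! ### Sylow subgroups -/

theorem exists_smul_SU (U : Sylow 2 (SpecialLinearGroup (Fin 2) F)) :
    ∃ g : SpecialLinearGroup (Fin 2) F, g • SU F = U :=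
  MulAction.exists_smul_eq (SpecialLinearGroup (Fin 2) F) (SU F) U

theorem SU_sq {a : SpecialLinearGroup (Fin 2) F} (h : a ∈ SU F) : a * a = 1 := by
  have h1 : a = up (a 0 1) := eq_up h
  rw [h1, up_mul, CharTwo.add_self_eq_zero, up_zero]

theorem sylow_elem (U : Sylow 2 (Matrix.SpecialLinearGroup (Fin 2) F)) : ∀ a ∈ U, a * a = 1 := by
  intro a ha
  obtain ⟨g, rfl⟩ := exists_smul_SU U
  rw [mem_smul] at ha
  have h := SU_sq ha
  have h2 : g⁻¹ * a * g * (g⁻¹ * a * g) = g⁻¹ * (a * a) * g := by group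
  rw [h2] at h
  have h3 : a * a = g * (g⁻¹ * (a * a) * g) * g⁻¹ := by group
  rw [h3, h]; group

theorem card_sylow (U : Sylow 2 (Matrix.SpecialLinearGroup (Fin 2) F)) : Nat.card U = Fintype.card F := by
  rw [← card_UI (F := F), ← coe_SU (F := F)]
  exact Nat.card_congr (Sylow.equiv U (SU F)).toEquiv

theorem mem_ww_SU {x : SpecialLinearGroup (Fin 2) F} : x ∈ ww F • SU F ↔ x 0 1 = 0 ∧ x 1 1 = 1 := by
  rw [mem_smul_SU]; simp

theorem mem_lo_SU {x : SpecialLinearGroup (Fin 2) F} : x ∈ lo (1 : F) • SU F ↔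
    x 0 0 + x 0 1 = 1 ∧ x 1 0 + x 1 1 = 1 := by
  rw [mem_smul_SU]; simp

theorem mem_ww_iff {x : SpecialLinearGroup (Fin 2) F} : x ∈ ww F • SU F ↔ ∃ t, x = lo t := by
  rw [mem_ww_SU]
  constructor
  · rintro ⟨h1, h2⟩
    refine ⟨x 1 0, ?_⟩
    have hd := det x
    rw [h1, h2] at hd
    apply ext2
    · rw [lo00]; linear_combination hd
    · rw [h1]; rfl
    · rfl
    · rw [h2]; rfl
  · rintro ⟨t, rfl⟩
    exact ⟨rfl, rfl⟩

theorem mem_SU_iff {x : SpecialLinearGroup (Fin 2) F} : x ∈ SU F ↔ ∃ t, x = up t := by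
  constructor
  · intro h
    exact ⟨_, eq_up h⟩
  · rintro ⟨t, rfl⟩
    exact up_mem t

theorem sylow_ti {U U' : Sylow 2 (Matrix.SpecialLinearGroup (Fin 2) F)} (h : U ≠ U')
    {a : Matrix.SpecialLinearGroup (Fin 2) F} (h1 : a ∈ U) (h2 : a ∈ U') : a = 1 := by
  obtain ⟨g, hg, hg'⟩ := two_trans h
  have h3 : g * a * g⁻¹ ∈ SU F := by rw [← hg]; exact conj_mem_smul h1
  have h4 : g * a * g⁻¹ ∈ ww F • SU F := by rw [← hg']; exact conj_mem_smul h2
  rw [mem_SU] at h3
  rw [mem_ww_SU] at h4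
  have h5 : g * a * g⁻¹ = 1 := by
    apply ext2
    · rw [h3.1, one00]
    · rw [h4.1, one01]
    · rw [h3.2, one10]
    · rw [h4.2, one11]
  have h6 : a = g⁻¹ * (g * a * g⁻¹) * g := by group
  rw [h6, h5]; group

theorem decomp {g : SpecialLinearGroup (Fin 2) F} (hc : g 1 0 ≠ 0) :
    g = up ((g 0 0 - 1) / g 1 0) * lo (g 1 0) * up ((g 1 1 - 1) / g 1 0) := by
  have hd := det g
  have e : ∀ s t r : F, up s * lo t * up r = mk (1 + s * t) ((1 + s * t) * r + s) t (t * r + 1) (by ring) := by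
    intro s t r
    apply ext2
    · rw [mul00, mul00, mul01]; simp
    · rw [mul01, mul00, mul01]; simp
    · rw [mul10, mul10, mul11]; simp
    · rw [mul11, mul10, mul11]; simp
  rw [e]
  apply ext2
  · rw [mk00]; field_simp; ring
  · rw [mk01]; field_simp; linear_combination -hd
  · rw [mk10]
  · rw [mk11]; field_simp; ring

theorem closure_top (K : Subgroup (SpecialLinearGroup (Fin 2) F)) (h1 : ∀ t, up t ∈ K) (h2 : ∀ t, lo t ∈ K) :
    K = ⊤ := by
  have key : ∀ g : SpecialLinearGroup (Fin 2) F, g 1 0 ≠ 0 → g ∈ K := by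
    intro g hc
    rw [decomp hc]
    exact K.mul_mem (K.mul_mem (h1 _) (h2 _)) (h1 _)
  rw [eq_top_iff]
  intro g _
  by_cases hc : g 1 0 = 0
  · have h3 : g * lo 1 ∈ K := by
      apply key
      rw [mul10, hc]
      simp only [lo00, lo10, mul_one, zero_add]
      intro h0
      have hd := det g
      rw [hc, h0] at hd
      simp at hd
    have h4 : g = g * lo 1 * (lo 1)⁻¹ := by group
    rw [h4]
    exact K.mul_mem h3 (K.inv_mem (h2 1))
  · exact key g hc

theorem sup_std {K : Subgroup (SpecialLinearGroup (Fin 2) F)}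
    (h1 : ((SU F : Sylow 2 (SpecialLinearGroup (Fin 2) F)) : Subgroup (SpecialLinearGroup (Fin 2) F)) ≤ K)
    (h2 : ((ww F • SU F : Sylow 2 (SpecialLinearGroup (Fin 2) F)) : Subgroup (SpecialLinearGroup (Fin 2) F)) ≤ K) :
    K = ⊤ :=
  closure_top K (fun t => h1 (mem_SU_iff.2 ⟨t, rfl⟩)) (fun t => h2 (mem_ww_iff.2 ⟨t, rfl⟩))

theorem sylow_sup {U U' : Sylow 2 (Matrix.SpecialLinearGroup (Fin 2) F)} (h : U ≠ U') :
    (U : Subgroup (Matrix.SpecialLinearGroup (Fin 2) F)) ⊔ (U' : Subgroup (Matrix.SpecialLinearGroup (Fin 2) F)) = ⊤ := by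
  obtain ⟨g, hg, hg'⟩ := two_trans h
  set K := (U : Subgroup (Matrix.SpecialLinearGroup (Fin 2) F)) ⊔ (U' : Subgroup (Matrix.SpecialLinearGroup (Fin 2) F))
    with hK
  have h1 : K.comap (MulAut.conj g⁻¹).toMonoidHom = ⊤ := by
    apply sup_std
    · intro x hx
      change x ∈ SU F at hx
      rw [← hg, mem_smul] at hx
      rw [Subgroup.mem_comap]
      have : (MulAut.conj g⁻¹).toMonoidHom x = g⁻¹ * x * g := by simp
      rw [this]
      exact (le_sup_left : (U : Subgroup _) ≤ K) hx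
    · intro x hx
      change x ∈ ww F • SU F at hx
      rw [← hg', mem_smul] at hx
      rw [Subgroup.mem_comap]
      have : (MulAut.conj g⁻¹).toMonoidHom x = g⁻¹ * x * g := by simp
      rw [this]
      exact (le_sup_right : (U' : Subgroup _) ≤ K) hx
  rw [eq_top_iff]
  intro x _
  have h2 : g * x * g⁻¹ ∈ K.comap (MulAut.conj g⁻¹).toMonoidHom := by rw [h1]; trivial
  rw [Subgroup.mem_comap] at h2
  have : (MulAut.conj g⁻¹).toMonoidHom (g * x * g⁻¹) = x := by
    simp only [MulEquiv.coe_toMonoidHom, MulAut.conj_apply]; group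
  rwa [this] at h2

/-- a subgroup containing a Sylow 2-subgroup normalises it or is everything -/
theorem le_normalizer_or (U : Sylow 2 (Matrix.SpecialLinearGroup (Fin 2) F))
    (K : Subgroup (Matrix.SpecialLinearGroup (Fin 2) F)) (h : (U : Subgroup (Matrix.SpecialLinearGroup (Fin 2) F)) ≤ K) :
    K ≤ Subgroup.normalizer ((U : Subgroup (Matrix.SpecialLinearGroup (Fin 2) F)) : Set (Matrix.SpecialLinearGroup (Fin 2) F)) ∨ K = ⊤ := by
  by_cases hn : K ≤ Subgroup.normalizer ((U : Subgroup (Matrix.SpecialLinearGroup (Fin 2) F)) : Set (Matrix.SpecialLinearGroup (Fin 2) F))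
  · exact Or.inl hn
  right
  rw [SetLike.not_le_iff_exists] at hn
  obtain ⟨k, hk, hk'⟩ := hn
  have hne : U ≠ k • U := by
    intro he
    apply hk'
    exact Sylow.smul_eq_iff_mem_normalizer.1 he.symm
  rw [eq_top_iff, ← sylow_sup hne]
  apply sup_le h
  intro x hx
  change x ∈ k • U at hx
  rw [mem_smul] at hx
  have : x = k * (k⁻¹ * x * k) * k⁻¹ := by group
  rw [this]
  exact K.mul_mem (K.mul_mem hk (h hx)) (K.inv_mem hk)

/-! ### elements of order 3 -/

theorem order_three {x : SpecialLinearGroup (Fin 2) F} (htr : x 0 0 + x 1 1 = 1) : orderOf x = 3 := by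
  have hd := det x
  apply orderOf_eq_prime
  · have h2 : (2 : F) = 0 := CharTwo.two_eq_zero
    have e : x ^ 3 = x * x * x := by rw [pow_succ, pow_two]
    have h11 : x 1 1 = 1 - x 0 0 := by linear_combination htr
    rw [h11] at hd
    rw [e]
    apply ext2
    · rw [mul00, mul00, mul01, one00, h11]
      linear_combination (x 0 0 ) * h2 * 0 + (-(x 0 0) - 1) * hd + (-1 + x 0 0 * 0) * h2 + (1 - 0) * h2 * 0
    · rw [mul01, mul00, mul01, one01, h11]
      linear_combination (-(x 0 1)) * hd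
    · rw [mul10, mul10, mul11, one10, h11]
      linear_combination (-(x 1 0)) * hd
    · rw [mul11, mul10, mul11, one11, h11]
      linear_combination (x 0 0 - 2) * hd - h2
  · intro h
    rw [h, one00, one11] at htr
    have h2 : (1 : F) + 1 = 0 := by rw [CharTwo.add_self_eq_zero]
    rw [h2] at htr
    exact zero_ne_one htr

theorem orderOf_conj' (g x : SpecialLinearGroup (Fin 2) F) : orderOf (g * x * g⁻¹) = orderOf x := by
  have h := orderOf_injective (MulAut.conj g).toMonoidHom (MulAut.conj g).injective x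
  simpa using h

theorem exists_sylow_mem {a : SpecialLinearGroup (Fin 2) F} (ha : a * a = 1) :
    ∃ U : Sylow 2 (SpecialLinearGroup (Fin 2) F), a ∈ U := by
  have h : IsPGroup 2 (Subgroup.zpowers a) := by
    rw [IsPGroup.iff_orderOf]
    rintro ⟨x, hx⟩
    have h1 : orderOf a ∣ 2 := by
      apply orderOf_dvd_of_pow_eq_one
      rw [pow_two, ha]
    have h2 : orderOf x ∣ 2 := by
      obtain ⟨k, rfl⟩ := Subgroup.mem_zpowers_iff.1 hx
      exact (orderOf_dvd_of_mem_zpowers hx).trans h1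
    obtain ⟨k, -, hk⟩ := (Nat.dvd_prime_pow Nat.prime_two).1 (by simpa using h2 : orderOf x ∣ 2 ^ 1)
    exact ⟨k, by rw [Subgroup.orderOf_mk]; exact hk⟩
  obtain ⟨U, hU⟩ := h.exists_le_sylow
  exact ⟨U, hU (Subgroup.mem_zpowers a)⟩

theorem exists_conj_up {a : SpecialLinearGroup (Fin 2) F} (ha : a * a = 1) :
    ∃ (g : SpecialLinearGroup (Fin 2) F) (t : F), a = g * up t * g⁻¹ := by
  obtain ⟨U, hU⟩ := exists_sylow_mem ha
  obtain ⟨g, rfl⟩ := exists_smul_SU U
  rw [mem_smul] at hU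
  obtain ⟨t, ht⟩ := mem_SU_iff.1 hU
  refine ⟨g, t, ?_⟩
  rw [← ht]; group

theorem inverts_three {a : Matrix.SpecialLinearGroup (Fin 2) F} (ha : a * a = 1) (ha1 : a ≠ 1) :
    ∃ x, orderOf x = 3 ∧ a * x * a⁻¹ = x⁻¹ := by
  obtain ⟨g, t, rfl⟩ := exists_conj_up ha
  have ht : t ≠ 0 := by
    rintro rfl
    apply ha1
    rw [up_zero]; group
  have h2 : (2 : F) = 0 := CharTwo.two_eq_zero
  set x : SpecialLinearGroup (Fin 2) F := mk 1 t t⁻¹ 0 (by
    rw [mul_zero, mul_inv_cancel₀ ht]; linear_combination -h2) with hx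
  have h3 : up t * x * (up t)⁻¹ = x⁻¹ := by
    apply ext2
    · rw [mul00, mul00, mul01, inv00, inv10, inv00]; simp [hx, ht, CharTwo.neg_eq, CharTwo.add_self_eq_zero]
    · rw [mul01, mul00, mul01, inv01, inv11, inv01]; simp [hx, ht, CharTwo.neg_eq, CharTwo.add_self_eq_zero]
    · rw [mul10, mul10, mul11, inv00, inv10, inv10]; simp [hx, CharTwo.neg_eq]
    · rw [mul11, mul10, mul11, inv01, inv11, inv11]; simp [hx, ht, CharTwo.neg_eq]
  refine ⟨g * x * g⁻¹, ?_, ?_⟩
  · rw [orderOf_conj']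
    apply order_three
    rw [hx]; simp
  · have h4 : g * up t * g⁻¹ * (g * x * g⁻¹) * (g * up t * g⁻¹)⁻¹ = g * (up t * x * (up t)⁻¹) * g⁻¹ := by group
    rw [h4, h3]; group

theorem three_points {U₁ U₂ U₃ : Sylow 2 (Matrix.SpecialLinearGroup (Fin 2) F)} (h12 : U₁ ≠ U₂) (h23 : U₂ ≠ U₃)
    (h13 : U₁ ≠ U₃) : ∃ x : Matrix.SpecialLinearGroup (Fin 2) F, orderOf x = 3 ∧ x • U₁ = U₂ ∧ x • U₂ = U₃ ∧
      x • U₃ = U₁ := by
  obtain ⟨g, h1, h2, h3⟩ := three_trans h12 h23 h13
  set x : SpecialLinearGroup (Fin 2) F := mk 0 1 1 1 (by rw [CharTwo.sub_eq_add]; ring) with hx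
  have e1 : x • SU F = ww F • SU F := by
    rw [smul_SU_eq_iff]; simp [hx]
  have e2 : x • ww F • SU F = lo (1 : F) • SU F := by
    rw [smul_smul, smul_SU_eq_iff, mul00, mul10]; simp [hx]
  have e3 : x • lo (1 : F) • SU F = SU F := by
    rw [smul_smul, smul_SU_eq, mul10]; simp [hx, CharTwo.add_self_eq_zero]
  refine ⟨g⁻¹ * x * g, ?_, ?_, ?_, ?_⟩
  · have h4 : g⁻¹ * x * g = g⁻¹ * x * (g⁻¹)⁻¹ := by rw [inv_inv]
    rw [h4, orderOf_conj']
    apply order_three
    rw [hx]; simp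
  · rw [mul_smul, mul_smul, h1, e1, ← h2, inv_smul_smul]
  · rw [mul_smul, mul_smul, h2, e2, ← h3, inv_smul_smul]
  · rw [mul_smul, mul_smul, h3, e3, ← h1, inv_smul_smul]

/-! ### the torus -/

theorem fix_std {k : SpecialLinearGroup (Fin 2) F} (h1 : k • SU F = SU F) (h2 : k • ww F • SU F = ww F • SU F) :
    ∃ s : Fˣ, k = dg s := by
  rw [smul_SU_eq] at h1
  rw [smul_smul, smul_SU_eq_iff, mul00, mul10] at h2
  simp only [ww00, ww10, mul_zero, mul_one, zero_add] at h2
  have hd := det k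
  rw [h2, h1] at hd
  have h3 : k 0 0 ≠ 0 := by
    intro h0; rw [h0] at hd; simp at hd
  refine ⟨Units.mk0 (k 0 0) h3, ?_⟩
  apply ext2
  · rfl
  · rw [h2]; rfl
  · rw [h1]; rfl
  · rw [dg11, Units.val_inv_eq_inv_val, Units.val_mk0]
    field_simp
    linear_combination hd

theorem borel_decomp {y : SpecialLinearGroup (Fin 2) F} (h : y 1 0 = 0) : ∃ (t : F) (s : Fˣ), y = up t * dg s := by
  have hd := det y
  rw [h] at hd
  have h0 : y 0 0 ≠ 0 := by
    intro h0; rw [h0] at hd; simp at hd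
  refine ⟨y 0 1 * y 0 0, Units.mk0 (y 0 0) h0, ?_⟩
  apply ext2
  · rw [mul00]; simp
  · rw [mul01]; simp only [up00, up01, dg01, dg11, Units.val_inv_eq_inv_val, Units.val_mk0]
    field_simp
    ring
  · rw [mul10, h]; simp
  · rw [mul11]; simp only [up10, up11, dg01, dg11, Units.val_inv_eq_inv_val, Units.val_mk0]
    field_simp
    linear_combination hd

theorem dg_fix (s : Fˣ) : dg s • SU F = SU F := by
  rw [smul_SU_eq]; rfl

theorem dg_fix' (s : Fˣ) : dg s • ww F • SU F = ww F • SU F := by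
  rw [smul_smul, smul_SU_eq_iff, mul00, mul10]; simp

theorem ww_sq : ww F * ww F = 1 := by
  apply ext2
  · rw [mul00]; simp
  · rw [mul01]; simp
  · rw [mul10]; simp
  · rw [mul11]; simp

theorem dg_ww_sq (s : Fˣ) : (dg s * ww F) * (dg s * ww F) = 1 := by
  apply ext2
  · rw [mul00, mul00, mul01, mul10]; simp
  · rw [mul01, mul00, mul01, mul11]; simp
  · rw [mul10, mul10, mul11, mul00]; simp
  · rw [mul11, mul10, mul11, mul01]; simp

theorem ww_ne (s : Fˣ) : dg s * ww F ≠ 1 := by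
  intro h
  have h1 : (dg s * ww F) 0 0 = 1 := by rw [h, one00]
  rw [mul00] at h1
  simp at h1

theorem conj_smul' {U : Sylow 2 (SpecialLinearGroup (Fin 2) F)} {g x : SpecialLinearGroup (Fin 2) F} :
    (g⁻¹ * x * g) • U = g⁻¹ • (x • (g • U)) := by
  rw [mul_smul, mul_smul]

theorem torus {U U' : Sylow 2 (Matrix.SpecialLinearGroup (Fin 2) F)} (h : U ≠ U')
    {k : Matrix.SpecialLinearGroup (Fin 2) F} (hk : k • U = U) (hk' : k • U' = U') (hk1 : k ≠ 1) :
    ∃ w w' : Matrix.SpecialLinearGroup (Fin 2) F, w * w = 1 ∧ w' * w' = 1 ∧ w ≠ 1 ∧ w' ≠ 1 ∧ k = w * w' ∧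
      w • U = U' ∧ w • U' = U ∧ w' • U = U' ∧ w' • U' = U ∧
      ∃ W W' : Sylow 2 (Matrix.SpecialLinearGroup (Fin 2) F), w ∈ W ∧ w' ∈ W' ∧ W ≠ W' := by
  obtain ⟨g, h1, h2⟩ := two_trans h
  have h3 : (g * k * g⁻¹) • SU F = SU F := by
    rw [← h1, mul_smul, mul_smul, inv_smul_smul, hk]
  have h4 : (g * k * g⁻¹) • ww F • SU F = ww F • SU F := by
    rw [← h2, mul_smul, mul_smul, inv_smul_smul, hk']
  obtain ⟨s, hs⟩ := fix_std h3 h4
  have hk2 : k = g⁻¹ * dg s * g := by rw [← hs]; group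
  have e1 : ww F • ww F • SU F = SU F := by rw [smul_smul, ww_sq, one_smul]
  have c1 : (g⁻¹ * (dg s * ww F) * g) * (g⁻¹ * (dg s * ww F) * g) = 1 := by
    have : (g⁻¹ * (dg s * ww F) * g) * (g⁻¹ * (dg s * ww F) * g) = g⁻¹ * ((dg s * ww F) * (dg s * ww F)) * g := by group
    rw [this, dg_ww_sq]; group
  have c2 : (g⁻¹ * ww F * g) * (g⁻¹ * ww F * g) = 1 := by
    have : (g⁻¹ * ww F * g) * (g⁻¹ * ww F * g) = g⁻¹ * (ww F * ww F) * g := by group
    rw [this, ww_sq]; group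
  have c3 : k = (g⁻¹ * (dg s * ww F) * g) * (g⁻¹ * ww F * g) := by
    have : (g⁻¹ * (dg s * ww F) * g) * (g⁻¹ * ww F * g) = g⁻¹ * (dg s * (ww F * ww F)) * g := by group
    rw [this, ww_sq, mul_one, hk2]
  obtain ⟨W, hW⟩ := exists_sylow_mem c1
  obtain ⟨W', hW'⟩ := exists_sylow_mem c2
  refine ⟨_, _, c1, c2, ?_, ?_, c3, ?_, ?_, ?_, ?_, W, W', hW, hW', ?_⟩
  · intro h0
    apply ww_ne s
    have : dg s * ww F = g * (g⁻¹ * (dg s * ww F) * g) * g⁻¹ := by group
    rw [this, h0]; group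
  · intro h0
    apply ww_ne (1 : Fˣ)
    have : dg (1 : Fˣ) * ww F = g * (g⁻¹ * ww F * g) * g⁻¹ := by
      rw [← dgHom_apply, map_one]; group
    rw [this, h0]; group
  · rw [conj_smul', h1, mul_smul, dg_fix', ← h2, inv_smul_smul]
  · rw [conj_smul', h2, mul_smul, e1, dg_fix, ← h1, inv_smul_smul]
  · rw [conj_smul', h1, ← h2, inv_smul_smul]
  · rw [conj_smul', h2, e1, ← h1, inv_smul_smul]
  · rintro rfl
    have h5 : k ∈ W := by rw [c3]; exact mul_mem hW hW'
    have h6 := sylow_elem W k h5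
    apply hk1
    have h7 : dg s * dg s = 1 := by
      have : dg s * dg s = g * (k * k) * g⁻¹ := by rw [hk2]; group
      rw [this, h6]; group
    have h8 : (dg s * dg s) 0 0 = 1 := by rw [h7, one00]
    rw [mul00] at h8
    simp only [dg00, dg01, zero_mul, add_zero] at h8
    have h2' : (2 : F) = 0 := CharTwo.two_eq_zero
    have h9 : ((s : F) - 1) * ((s : F) - 1) = 0 := by linear_combination h8 + (1 - (s : F)) * h2'
    have h10 : (s : F) = 1 := by
      rcases mul_eq_zero.1 h9 with h | h <;> linear_combination h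
    have h11 : s = 1 := Units.ext h10
    rw [hk2, h11, ← dgHom_apply, map_one]; group

theorem mem_norm {U : Sylow 2 (SpecialLinearGroup (Fin 2) F)} {k : SpecialLinearGroup (Fin 2) F} :
    k ∈ Subgroup.normalizer ((U : Subgroup (SpecialLinearGroup (Fin 2) F)) : Set (SpecialLinearGroup (Fin 2) F)) ↔
      k • U = U := Sylow.smul_eq_iff_mem_normalizer.symm

/-- the torus: cyclic of order q - 1, a complement of `U` in its normaliser, transitive on `U#` -/
theorem exists_torus {U U' : Sylow 2 (Matrix.SpecialLinearGroup (Fin 2) F)} (h : U ≠ U') :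
    ∃ K : Subgroup (Matrix.SpecialLinearGroup (Fin 2) F), IsCyclic K ∧ Nat.card K = Fintype.card F - 1 ∧
      (∀ k, k ∈ K ↔ k ∈ Subgroup.normalizer ((U : Subgroup (Matrix.SpecialLinearGroup (Fin 2) F)) : Set (Matrix.SpecialLinearGroup (Fin 2) F)) ∧
        k ∈ Subgroup.normalizer ((U' : Subgroup (Matrix.SpecialLinearGroup (Fin 2) F)) : Set (Matrix.SpecialLinearGroup (Fin 2) F))) ∧
      (∀ g ∈ Subgroup.normalizer ((U : Subgroup (Matrix.SpecialLinearGroup (Fin 2) F)) : Set (Matrix.SpecialLinearGroup (Fin 2) F)),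
        ∃ a ∈ U, ∃ k ∈ K, g = a * k) ∧
      ∀ a ∈ U, ∀ b ∈ U, a ≠ 1 → b ≠ 1 → ∃ k ∈ K, k * a * k⁻¹ = b := by
  obtain ⟨g, h1, h2⟩ := two_trans h
  set f : Fˣ →* SpecialLinearGroup (Fin 2) F := (MulAut.conj g⁻¹).toMonoidHom.comp dgHom with hf
  have hfa : ∀ s, f s = g⁻¹ * dg s * g := by
    intro s
    rw [hf, MonoidHom.comp_apply, dgHom_apply, MulEquiv.coe_toMonoidHom, MulAut.conj_apply, inv_inv]
  have hinj : Function.Injective f := by
    rw [hf]
    exact (MulAut.conj g⁻¹).injective.comp dgHom_injective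
  classical
  refine ⟨f.range, ?_, ?_, ?_, ?_, ?_⟩
  · exact isCyclic_of_surjective f.rangeRestrict f.rangeRestrict_surjective
  · rw [← Nat.card_congr (MonoidHom.ofInjective hinj).toEquiv, Nat.card_eq_fintype_card, Fintype.card_units]
  · intro k
    rw [mem_norm, mem_norm]
    constructor
    · rintro ⟨s, rfl⟩
      rw [hfa, conj_smul', conj_smul', h1, h2, dg_fix, dg_fix', ← h2, ← h1, inv_smul_smul, inv_smul_smul]
      exact ⟨rfl, rfl⟩
    · rintro ⟨hk, hk'⟩
      have h3 : (g * k * g⁻¹) • SU F = SU F := by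
        rw [← h1, mul_smul, mul_smul, inv_smul_smul, hk]
      have h4 : (g * k * g⁻¹) • ww F • SU F = ww F • SU F := by
        rw [← h2, mul_smul, mul_smul, inv_smul_smul, hk']
      obtain ⟨s, hs⟩ := fix_std h3 h4
      refine ⟨s, ?_⟩
      rw [hfa, ← hs]; group
  · intro x hx
    rw [mem_norm] at hx
    have h3 : (g * x * g⁻¹) • SU F = SU F := by
      rw [← h1, mul_smul, mul_smul, inv_smul_smul, hx]
    rw [smul_SU_eq] at h3
    obtain ⟨t, s, hts⟩ := borel_decomp h3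
    refine ⟨g⁻¹ * up t * g, ?_, g⁻¹ * dg s * g, ⟨_, hfa _⟩, ?_⟩
    · have h6 : U = g⁻¹ • SU F := by rw [← h1, inv_smul_smul]
      rw [h6, mem_smul]
      have h7 : (g⁻¹)⁻¹ * (g⁻¹ * up t * g) * g⁻¹ = up t := by group
      rw [h7]
      exact up_mem _
    · have h8 : g⁻¹ * up t * g * (g⁻¹ * dg s * g) = g⁻¹ * (up t * dg s) * g := by group
      rw [h8, ← hts]; group
  · intro a ha b hb ha1 hb1
    have h3 : g * a * g⁻¹ ∈ SU F := by rw [← h1]; exact conj_mem_smul ha
    have h4 : g * b * g⁻¹ ∈ SU F := by rw [← h1]; exact conj_mem_smul hb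
    obtain ⟨t, ht⟩ := mem_SU_iff.1 h3
    obtain ⟨r, hr⟩ := mem_SU_iff.1 h4
    have ea : a = g⁻¹ * up t * g := by rw [← ht]; group
    have eb : b = g⁻¹ * up r * g := by rw [← hr]; group
    have ht0 : t ≠ 0 := by
      rintro rfl
      apply ha1; rw [ea, up_zero]; group
    have hr0 : r ≠ 0 := by
      rintro rfl
      apply hb1; rw [eb, up_zero]; group
    obtain ⟨s, hs⟩ := exists_sqrt (r / t)
    have hs0 : s ≠ 0 := by
      rintro rfl
      rw [mul_zero] at hs
      exact (div_ne_zero hr0 ht0) hs.symm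
    refine ⟨g⁻¹ * dg (Units.mk0 s hs0) * g, ⟨_, hfa _⟩, ?_⟩
    have h5 : dg (Units.mk0 s hs0) * up t * (dg (Units.mk0 s hs0))⁻¹ = up r := by
      have h6 : s * s * t = r := by rw [hs]; field_simp
      apply ext2
      · rw [mul00, mul00, mul01, inv00, inv10]; simp [hs0]
      · rw [mul01, mul00, mul01, inv01, inv11]
        simp only [dg00, dg01, up00, up01, up11, Units.val_mk0, mul_one, neg_zero, mul_zero, zero_mul, add_zero,
          zero_add]
        linear_combination h6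
      · rw [mul10, mul10, mul11, inv00, inv10]; simp
      · rw [mul11, mul10, mul11, inv01, inv11]; simp [hs0]
    rw [ea, eb, ← h5]; group

end Cfsg.Agent.OddCyclic.T1Sl2
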