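import Mathlib
import Cfsg.Agent.Lib.AutSL2Out
import Cfsg.Agent.Classification.QDW.TypeHom
import Cfsg.Agent.LFourA.FieldInv
import Cfsg.Agent.OddCyclic.T1Sl2

/-!
# Automorphisms of `SL(2,F)`, `F` a finite field of characteristic two

Piece [A-0] of S0342, component type, case A: the facts (K1)-(K4) for the model.
-/

set_option autoImplicit false
set_option linter.unusedSectionVars false

namespace Cfsg.Agent.OddCyclic.L2Model

open Matrix Cfsg.Agent.Lib.SL2Mat Cfsg.Agent.Lib.AutSL2 Cfsg.Agent.Lib.AutSL2Out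
open Cfsg.Agent.Classification.QDW.TypeHom

variable {F : Type*} [Field F] [Finite F] [CharP F 2]

local notation "SL2" => Matrix.SpecialLinearGroup (Fin 2) F

theorem exists_sqrt (a : F) : ∃ s : F, s * s = a := by
  obtain ⟨y, hy⟩ := FiniteField.isSquare_of_char_two (ringChar.eq F 2 ▸ rfl : ringChar F = 2) a
  exact ⟨y, hy.symm⟩

theorem eq_of_sq {a b : F} (h : a * a = b * b) : a = b := by
  have h1 : (a + b) * (a + b) = 0 := by
    have h2 : (2 : F) = 0 := CharTwo.two_eq_zero
    linear_combination h + (b * b + a * b) * h2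
  have h3 : a + b = 0 := mul_self_eq_zero.mp h1
  exact CharTwo.add_eq_zero.mp h3

theorem gl_det_ne (k : GL (Fin 2) F) : k.1.det ≠ 0 := Cfsg.Agent.LFourA.FieldInv.gl_det_ne k

theorem exists_conj (g : GL (Fin 2) F) : ∃ s : SL2, conjGL g = MulAut.conj s := by
  obtain ⟨d, hd⟩ := exists_sqrt g.1.det
  have hd0 : d ≠ 0 := by
    rintro rfl
    rw [mul_zero] at hd
    exact gl_det_ne g hd.symm
  obtain ⟨s, hs⟩ := conjGL_of_det_sq g d hd0 (by rw [← hd, pow_two])
  exact ⟨s, MulEquiv.ext hs⟩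

/-- Every automorphism is inner times a field automorphism. -/
theorem exists_form (α : MulAut SL2) : ∃ (s : SL2), α = MulAut.conj s * fieldAut (typ α) := by
  obtain ⟨g, σ, h⟩ := exists_eq α
  obtain ⟨s, hs⟩ := exists_conj g
  refine ⟨s, ?_⟩
  have h1 : typ α = σ := by rw [h, map_mul, typ_conjGL, typ_fieldAut, one_mul]
  rw [h1, h, hs]

theorem typ_conj (s : SL2) : typ (MulAut.conj s) = 1 := by
  have h : MulAut.conj s = conjGL (Matrix.SpecialLinearGroup.toGL s) :=
    MulEquiv.ext fun x => (conjGL_toGL s x).symm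
  rw [h, typ_conjGL]

theorem inner_iff (α : MulAut SL2) : typ α = 1 ↔ ∃ s, α = MulAut.conj s := by
  constructor
  · intro h
    obtain ⟨s, hs⟩ := exists_form α
    exact ⟨s, by rw [hs, h, map_one, mul_one]⟩
  · rintro ⟨s, rfl⟩
    exact typ_conj s

/-- an element commuting with the two standard transvections is trivial -/
theorem eq_one_of_comm {s : SL2} (h1 : s * up 1 = up 1 * s) (h2 : s * lo 1 = lo 1 * s) : s = 1 := by
  have e1 := congrArg (fun y => ent y 0 0) h1
  have e2 := congrArg (fun y => ent y 0 0) h2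
  have e3 := congrArg (fun y => ent y 0 1) h1
  simp only [ent_mul, up_00, up_01, up_10, up_11, lo_00, lo_01, lo_10] at e1 e2 e3
  have hc : ent s 1 0 = 0 := by linear_combination -e1
  have hb : ent s 0 1 = 0 := by linear_combination e2
  have hd : ent s 0 0 = ent s 1 1 := by linear_combination e3
  have hdet := det_eq s
  rw [hb, hc, ← hd] at hdet
  have ha : ent s 0 0 = 1 := by
    apply eq_of_sq
    rw [one_mul]
    linear_combination hdet
  exact ext_ent (by rw [ha, ent_one_00]) (by rw [hb, ent_one_01]) (by rw [hc, ent_one_10])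
    (by rw [← hd, ha, ent_one_11])

theorem eq_one_of_central {s : SL2} (h : ∀ x, s * x = x * s) : s = 1 :=
  eq_one_of_comm (h _) (h _)

theorem conj_injective : Function.Injective (MulAut.conj : SL2 →* MulAut SL2) := by
  rw [injective_iff_map_eq_one]
  intro s hs
  apply eq_one_of_central
  intro x
  have h1 : MulAut.conj s x = x := by rw [hs]; rfl
  rw [MulAut.conj_apply] at h1
  exact mul_inv_eq_iff_eq_mul.mp h1

theorem fieldAut_mul_conj (σ : F ≃+* F) (s : SL2) :
    fieldAut σ * MulAut.conj s = MulAut.conj (fieldAut σ s) * fieldAut σ := by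
  ext1 x
  simp only [MulAut.mul_apply, MulAut.conj_apply, map_mul, map_inv]

theorem form_unique {s t : SL2} {σ τ : F ≃+* F}
    (h : MulAut.conj s * fieldAut σ = MulAut.conj t * fieldAut τ) : s = t ∧ σ = τ := by
  have h1 := congrArg typ h
  rw [map_mul, map_mul, typ_conj, typ_conj, typ_fieldAut, typ_fieldAut, one_mul, one_mul] at h1
  subst h1
  exact ⟨conj_injective (mul_right_cancel h), rfl⟩

/-- (K3): involutory outer automorphisms are conjugate to the involutory field automorphism. -/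
theorem exists_std {α : MulAut SL2} (h : α * α = 1) (hn : typ α ≠ 1) :
    ∃ s : SL2, α = MulAut.conj s * fieldAut (typ α) * (MulAut.conj s)⁻¹ := by
  obtain ⟨g, hg⟩ := exists_form α
  obtain ⟨σ, hσd⟩ : ∃ σ, σ = typ α := ⟨_, rfl⟩
  rw [← hσd] at hg hn ⊢
  have hσ : σ * σ = 1 := by rw [hσd, ← map_mul, h, map_one]
  have hσ2 : ∀ a, σ (σ a) = a := fun a => by
    have := RingEquiv.congr_fun hσ a
    exact this
  have hσn : ∃ a, σ a ≠ a := by
    by_contra hc
    push Not at hc
    exact hn (RingEquiv.ext hc)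
  have h1 : MulAut.conj (g * fieldAut σ g) * fieldAut (σ * σ) = MulAut.conj 1 * fieldAut 1 := by
    rw [map_one, map_one, mul_one, map_mul, map_mul, ← h, hg, mul_assoc, mul_assoc,
      ← mul_assoc (fieldAut σ), fieldAut_mul_conj, mul_assoc]
  have h2 : g * fieldAut σ g = 1 := (form_unique h1).1
  have h3 : g.1 * (g.1.map σ) = 1 := congrArg Subtype.val h2
  obtain ⟨B, hB, hAB⟩ := Cfsg.Agent.LFourA.FieldInv.hilbert σ hσ2 hσn g.1 h3
  have hdet : B.det ≠ 0 := by
    have := (Matrix.isUnit_iff_isUnit_det B).mp hB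
    exact this.ne_zero
  have hdB : σ B.det = B.det := by
    have h4 := congrArg Matrix.det hAB
    rw [Matrix.det_mul, g.2, one_mul] at h4
    exact ((RingHom.map_det σ.toRingHom B).trans rfl).trans h4
  obtain ⟨c, hc⟩ := exists_sqrt B.det
  have hc0 : c ≠ 0 := by rintro rfl; rw [mul_zero] at hc; exact hdet hc.symm
  have hcσ : σ c = c := by
    apply eq_of_sq
    rw [← map_mul, hc, hdB]
  let s : SL2 := ⟨c⁻¹ • B, by rw [Matrix.det_smul, Fintype.card_fin, ← hc]; field_simp⟩
  refine ⟨s, ?_⟩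
  have h5 : g * fieldAut σ s = s := by
    apply Subtype.ext
    change g.1 * ((c⁻¹ • B).map σ) = c⁻¹ • B
    have h6 : (c⁻¹ • B).map σ = c⁻¹ • B.map σ := by
      ext i j
      change σ (c⁻¹ * B i j) = c⁻¹ * σ (B i j)
      rw [map_mul, map_inv₀, hcσ]
    rw [h6, Matrix.mul_smul, hAB]
  have h7 : g = s * (fieldAut σ s)⁻¹ := eq_mul_inv_of_mul_eq h5
  rw [hg]
  nth_rw 1 [h7]
  rw [map_mul, map_inv, mul_assoc, mul_assoc]
  congr 1
  rw [inv_mul_eq_iff_eq_mul, ← mul_assoc, ← fieldAut_mul_conj, mul_assoc, mul_inv_cancel, mul_one]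

/-! ### fixed points -/

theorem fieldAut_eq_iff (σ : F ≃+* F) (x : SL2) :
    fieldAut σ x = x ↔ ∀ i j, σ (ent x i j) = ent x i j := by
  constructor
  · intro h i j
    rw [← fieldAut_ent, h]
  · intro h
    exact ext_ent (h 0 0) (h 0 1) (h 1 0) (h 1 1)

/-- an additive group is not the union of two proper equalizers -/
theorem eq_one_or_eq {σ τ : F ≃+* F} (hσ : ∀ a, σ (σ a) = a) (h : ∀ a, σ a = a → τ a = a) :
    τ = 1 ∨ τ = σ := by
  have key : ∀ x, τ x = x ∨ τ x = σ x := by
    intro x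
    have h1 : τ (x + σ x) = x + σ x := h _ (by rw [map_add, hσ, add_comm])
    have h2 : τ (x * σ x) = x * σ x := h _ (by rw [map_mul, hσ, mul_comm])
    rw [map_add] at h1
    rw [map_mul] at h2
    have h3 : (τ x - x) * (τ x - σ x) = 0 := by
      linear_combination τ x * h1 - h2
    rcases mul_eq_zero.mp h3 with h4 | h4
    · exact Or.inl (sub_eq_zero.mp h4)
    · exact Or.inr (sub_eq_zero.mp h4)
  by_contra hc
  push Not at hc
  obtain ⟨hc1, hc2⟩ := hc
  obtain ⟨x, hx⟩ : ∃ x, τ x ≠ x := by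
    by_contra h'
    push Not at h'
    exact hc1 (RingEquiv.ext h')
  obtain ⟨y, hy⟩ : ∃ y, τ y ≠ σ y := by
    by_contra h'
    push Not at h'
    exact hc2 (RingEquiv.ext h')
  have hx' := (key x).resolve_left hx
  have hy' := (key y).resolve_right hy
  rcases key (x + y) with h5 | h5
  · rw [map_add, hy'] at h5
    exact hx (add_right_cancel h5)
  · rw [map_add, map_add, hx'] at h5
    exact hy (add_left_cancel h5)

/-- (K3): the centraliser in `Aut` of the centraliser of a field involution. -/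
theorem fieldAut_cent {σ : F ≃+* F} (hσ : ∀ a, σ (σ a) = a) {β : MulAut SL2}
    (h : ∀ x, fieldAut σ x = x → β x = x) : β = 1 ∨ β = fieldAut σ := by
  obtain ⟨s, hs⟩ := exists_form β
  obtain ⟨τ, hτ⟩ : ∃ τ, τ = typ β := ⟨_, rfl⟩
  rw [← hτ] at hs
  have h1 := h (up 1) (by rw [fieldAut_up, map_one])
  have h2 := h (lo 1) (by rw [fieldAut_lo, map_one])
  rw [hs, MulAut.mul_apply, fieldAut_up, map_one, MulAut.conj_apply, mul_inv_eq_iff_eq_mul] at h1
  rw [hs, MulAut.mul_apply, fieldAut_lo, map_one, MulAut.conj_apply, mul_inv_eq_iff_eq_mul] at h2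
  have h3 : s = 1 := eq_one_of_comm h1 h2
  rw [h3, map_one, one_mul] at hs
  have h4 : ∀ a, σ a = a → τ a = a := by
    intro a ha
    have h5 := h (up a) (by rw [fieldAut_up, ha])
    rw [hs, fieldAut_up] at h5
    exact up_inj h5
  rcases eq_one_or_eq hσ h4 with h5 | h5
  · left; rw [hs, h5, map_one]
  · right; rw [hs, h5]

/-- the subgroup of fixed points -/
def fix (α : MulAut SL2) : Subgroup SL2 where
  carrier := {x | α x = x}
  one_mem' := map_one α
  mul_mem' := by
    intro a b ha hb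
    change α (a * b) = a * b
    rw [map_mul, ha, hb]
  inv_mem' := by
    intro a ha
    change α a⁻¹ = a⁻¹
    rw [map_inv, ha]

omit [Finite F] [CharP F 2] in
theorem mem_fix {α : MulAut SL2} {x : SL2} : x ∈ fix α ↔ α x = x := Iff.rfl

theorem typ_mul_self {α : MulAut SL2} (h : α * α = 1) (a : F) : typ α (typ α a) = a := by
  have h1 : typ α * typ α = 1 := by rw [← map_mul, h, map_one]
  exact RingEquiv.congr_fun h1 a

theorem mem_fix_std {α : MulAut SL2} {s : SL2} {σ : F ≃+* F}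
    (h : α = MulAut.conj s * fieldAut σ * (MulAut.conj s)⁻¹) {x : SL2} :
    x ∈ fix α ↔ fieldAut σ (s⁻¹ * x * s) = s⁻¹ * x * s := by
  rw [mem_fix, h, MulAut.mul_apply, MulAut.mul_apply, ← map_inv, MulAut.conj_apply,
    MulAut.conj_apply, inv_inv]
  constructor
  · intro h1
    calc fieldAut σ (s⁻¹ * x * s) = s⁻¹ * (s * fieldAut σ (s⁻¹ * x * s) * s⁻¹) * s := by group
      _ = s⁻¹ * x * s := by rw [h1]
  · intro h1
    rw [h1]; group

/-- (K3): `C_{Aut K}(C_K(α)) = ⟨α⟩` -/
theorem cent_fix {α : MulAut SL2} (h : α * α = 1) (hn : typ α ≠ 1) {β : MulAut SL2}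
    (hβ : ∀ x ∈ fix α, β x = x) : β = 1 ∨ β = α := by
  obtain ⟨s, hs⟩ := exists_std h hn
  have h1 : ∀ x, fieldAut (typ α) x = x → ((MulAut.conj s)⁻¹ * β * MulAut.conj s) x = x := by
    intro x hx
    have h2 : s * x * s⁻¹ ∈ fix α := by
      rw [mem_fix_std hs]
      have : s⁻¹ * (s * x * s⁻¹) * s = x := by group
      rw [this]; exact hx
    have h3 := hβ _ h2
    rw [MulAut.mul_apply, MulAut.mul_apply, MulAut.conj_apply, h3, ← map_inv, MulAut.conj_apply]
    group
  rcases fieldAut_cent (typ_mul_self h) h1 with h2 | h2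
  · left
    have : β = MulAut.conj s * ((MulAut.conj s)⁻¹ * β * MulAut.conj s) * (MulAut.conj s)⁻¹ := by
      group
    rw [this, h2]; group
  · right
    have : β = MulAut.conj s * ((MulAut.conj s)⁻¹ * β * MulAut.conj s) * (MulAut.conj s)⁻¹ := by
      group
    rw [this, h2]; exact hs.symm

/-- (K3): the fixed points form an `SL(2,F₀)`. -/
theorem exists_fix {α : MulAut SL2} (h : α * α = 1) (hn : typ α ≠ 1) :
    ∃ (K₀ : Subfield F) (φ : Matrix.SpecialLinearGroup (Fin 2) K₀ →* SL2),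
      Nat.card F = Nat.card K₀ ^ 2 ∧ Function.Injective φ ∧ φ.range = fix α := by
  obtain ⟨s, hs⟩ := exists_std h hn
  have hσn : ∃ a, typ α a ≠ a := by
    by_contra hc
    push Not at hc
    exact hn (RingEquiv.ext hc)
  obtain ⟨K₀, hK₀, hcard⟩ := Cfsg.Agent.LFourA.FieldInv.exists_fixed (typ α) (typ_mul_self h) hσn
  have hinj : Function.Injective (Matrix.SpecialLinearGroup.map K₀.subtype :
      Matrix.SpecialLinearGroup (Fin 2) K₀ →* SL2) := by
    intro x y hxy
    refine Matrix.SpecialLinearGroup.ext _ _ fun i j => ?_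
    have h1 := congrArg (fun z : SL2 => z.1 i j) hxy
    exact Subtype.ext h1
  refine ⟨K₀, (MulAut.conj s).toMonoidHom.comp (Matrix.SpecialLinearGroup.map K₀.subtype), hcard,
    (MulAut.conj s).injective.comp hinj, ?_⟩
  ext x
  rw [mem_fix_std hs, MonoidHom.mem_range, fieldAut_eq_iff]
  constructor
  · rintro ⟨y, rfl⟩ i j
    have h1 : s⁻¹ * (((MulAut.conj s).toMonoidHom.comp
        (Matrix.SpecialLinearGroup.map K₀.subtype)) y) * s =
        Matrix.SpecialLinearGroup.map K₀.subtype y := by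
      rw [MonoidHom.comp_apply, MulEquiv.coe_toMonoidHom, MulAut.conj_apply]
      group
    rw [h1]
    exact (hK₀ _).mp (y.1 i j).2
  · intro h1
    obtain ⟨z, hz⟩ : ∃ z, z = s⁻¹ * x * s := ⟨_, rfl⟩
    rw [← hz] at h1
    have h2 : (Matrix.of fun i j => (⟨ent z i j, (hK₀ _).mpr (h1 i j)⟩ : K₀)).det = 1 := by
      apply Subtype.ext
      rw [Matrix.det_fin_two]
      exact det_eq z
    refine ⟨⟨Matrix.of fun i j => ⟨ent z i j, (hK₀ _).mpr (h1 i j)⟩, h2⟩, ?_⟩
    have h3 : Matrix.SpecialLinearGroup.map K₀.subtype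
        (⟨Matrix.of fun i j => ⟨ent z i j, (hK₀ _).mpr (h1 i j)⟩, h2⟩ :
          Matrix.SpecialLinearGroup (Fin 2) K₀) = z :=
      Matrix.SpecialLinearGroup.ext _ _ fun i j => rfl
    change s * (Matrix.SpecialLinearGroup.map K₀.subtype
        (⟨Matrix.of fun i j => ⟨ent z i j, (hK₀ _).mpr (h1 i j)⟩, h2⟩ :
          Matrix.SpecialLinearGroup (Fin 2) K₀)) * s⁻¹ = x
    rw [h3, hz]; group

theorem card_fix {α : MulAut SL2} (h : α * α = 1) (hn : typ α ≠ 1) :
    ∃ q : ℕ, Nat.card F = q ^ 2 ∧ Nat.card (fix α) = q * (Nat.card F - 1) := by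
  obtain ⟨K₀, φ, hc, hinj, hr⟩ := exists_fix h hn
  refine ⟨Nat.card K₀, hc, ?_⟩
  have := Fintype.ofFinite K₀
  rw [← hr, ← Nat.card_congr (MonoidHom.ofInjective hinj).toEquiv,
    Cfsg.Agent.OddCyclic.T1Sl2.card_sl2', hc, ← Nat.card_eq_fintype_card]
  have h3 : Nat.card K₀ ^ 2 - 1 = (Nat.card K₀ + 1) * (Nat.card K₀ - 1) := by
    have := Nat.sq_sub_sq (Nat.card K₀) 1
    simpa using this
  rw [h3]; ring

end Cfsg.Agent.OddCyclic.L2Model
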