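import Mathlib
import Cfsg.Agent.OddCyclic.L2Model

/-!
# Automorphisms of `SL(2,F)`, `F` finite of characteristic two: the Borel subgroup
-/

set_option autoImplicit false
set_option linter.unusedSectionVars false

namespace Cfsg.Agent.OddCyclic.L2Borel

open Matrix Cfsg.Agent.Lib.SL2Mat Cfsg.Agent.Lib.AutSL2 Cfsg.Agent.Lib.AutSL2Out
open Cfsg.Agent.Classification.QDW.TypeHom
open Cfsg.Agent.OddCyclic.L2Model

local notation "UI" => Cfsg.Agent.OddCyclic.T1Sl2.UI
local notation "tu" => Cfsg.Agent.OddCyclic.T1Sl2.up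
local notation "td" => Cfsg.Agent.OddCyclic.T1Sl2.dg

section gal

variable {F : Type*} [Field F] [Finite F]

/-- the automorphism group of a finite field is cyclic -/
theorem isCyclic_ringAut : IsCyclic (F ≃+* F) := by
  obtain ⟨p, hpc⟩ := CharP.exists F
  have : CharP F p := hpc
  have hp : Fact p.Prime := ⟨CharP.char_is_prime F p⟩
  let _ : Algebra (ZMod p) F := ZMod.algebra F p
  have hcomm : ∀ (ρ : F ≃+* F) (r : ZMod p),
      ρ (algebraMap (ZMod p) F r) = algebraMap (ZMod p) F r := by
    intro ρ r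
    obtain ⟨n, rfl⟩ := ZMod.natCast_zmod_surjective r
    rw [map_natCast, map_natCast]
  let f : (F ≃+* F) →* Gal(F/ZMod p) :=
    { toFun := fun σ => AlgEquiv.ofRingEquiv (f := σ) (hcomm σ)
      map_one' := rfl
      map_mul' := fun _ _ => rfl }
  have hf : Function.Injective f := by
    intro σ τ h
    ext x
    exact DFunLike.congr_fun h x
  exact isCyclic_of_injective f hf

/-- there is at most one involution -/
theorem invol_unique {C : Type*} [Group C] [Finite C] [IsCyclic C] {a b : C} (ha : a * a = 1)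
    (hb : b * b = 1) (ha1 : a ≠ 1) (hb1 : b ≠ 1) : a = b := by
  classical
  have := Fintype.ofFinite C
  by_contra hab
  have h1 := IsCyclic.card_pow_eq_one_le (α := C) (n := 2) (by norm_num)
  have h2 : ({1, a, b} : Finset C) ⊆ Finset.univ.filter (fun x : C => x ^ 2 = 1) := by
    intro x hx
    simp only [Finset.mem_insert, Finset.mem_singleton] at hx
    simp only [Finset.mem_filter, Finset.mem_univ, true_and]
    rcases hx with rfl | rfl | rfl
    · exact one_pow 2
    · rw [pow_two, ha]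
    · rw [pow_two, hb]
  have h3 : ({1, a, b} : Finset C).card = 3 := by
    rw [Finset.card_insert_of_notMem, Finset.card_insert_of_notMem, Finset.card_singleton]
    · simpa using hab
    · simp only [Finset.mem_insert, Finset.mem_singleton, not_or]
      exact ⟨fun h => ha1 h.symm, fun h => hb1 h.symm⟩
  have h4 := (Finset.card_le_card h2).trans h1
  omega

theorem finite_ringAut : Finite (F ≃+* F) :=
  Finite.of_injective (fun σ : F ≃+* F => (σ : F → F)) DFunLike.coe_injective

theorem ringAut_invol {σ τ : F ≃+* F} (hσ : σ * σ = 1) (hτ : τ * τ = 1) (hσ1 : σ ≠ 1)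
    (hτ1 : τ ≠ 1) : σ = τ := by
  have := isCyclic_ringAut (F := F)
  have := finite_ringAut (F := F)
  exact invol_unique hσ hτ hσ1 hτ1

end gal

section semilinear

variable {F : Type*} [Field F] [Finite F]

/-- fixed points of a semilinear map -/
theorem card_fixed_sq_le {σ : F ≃+* F} (hσ : σ ≠ 1) (c : F) :
    Nat.card {a : F // c * σ a = a} ^ 2 ≤ Nat.card F := by
  classical
  by_cases h0 : ∃ b : F, b ≠ 0 ∧ c * σ b = b
  · obtain ⟨b, hb0, hb⟩ := h0
    -- the fixed field
    obtain ⟨x, hx⟩ : ∃ x, σ x ≠ x := by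
      by_contra h'
      push Not at h'
      exact hσ (RingEquiv.ext h')
    -- `(a, a') ↦ a + x a'` is injective
    let f : {a : F // c * σ a = a} × {a : F // c * σ a = a} → F := fun p => p.1.1 + x * p.2.1
    have hf : Function.Injective f := by
      rintro ⟨⟨a, ha⟩, ⟨a', ha'⟩⟩ ⟨⟨d, hd⟩, ⟨d', hd'⟩⟩ h
      change a + x * a' = d + x * d' at h
      have h1 := congrArg (fun y => c * σ y) h
      simp only [map_add, map_mul] at h1
      have e1 : c * (σ a + σ x * σ a') = a + σ x * a' := by
        rw [mul_add, ha, ← mul_assoc, mul_comm c, mul_assoc, ha']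
      have e2 : c * (σ d + σ x * σ d') = d + σ x * d' := by
        rw [mul_add, hd, ← mul_assoc, mul_comm c, mul_assoc, hd']
      rw [e1, e2] at h1
      have h2 : (x - σ x) * (a' - d') = 0 := by linear_combination h - h1
      rcases mul_eq_zero.mp h2 with h3 | h3
      · exact absurd (sub_eq_zero.mp h3).symm hx
      · have h4 : a' = d' := sub_eq_zero.mp h3
        subst h4
        have h5 : a = d := add_right_cancel h
        subst h5
        rfl
    have h1 := Nat.card_le_card_of_injective f hf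
    rwa [Nat.card_prod, ← pow_two] at h1
  · push Not at h0
    have h1 : Nat.card {a : F // c * σ a = a} = 1 := by
      rw [Nat.card_eq_one_iff_unique]
      refine ⟨⟨fun a b => ?_⟩, ⟨⟨0, by rw [map_zero, mul_zero]⟩⟩⟩
      have : ∀ d : {a : F // c * σ a = a}, d.1 = 0 := by
        intro d
        by_contra hd
        exact h0 d.1 hd d.2
      exact Subtype.ext ((this a).trans (this b).symm)
    rw [h1, one_pow]
    have : Nontrivial F := inferInstance
    exact Nat.card_pos

end semilinear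

variable {F : Type*} [Field F] [Finite F] [CharP F 2]

local notation "SL2" => Matrix.SpecialLinearGroup (Fin 2) F

theorem tu_eq (a : F) : tu a = up a := rfl

theorem td_conj_tu (s : Fˣ) (a : F) : td s * tu a * (td s)⁻¹ = tu (s * s * a) := by
  rw [mul_inv_eq_iff_eq_mul]
  apply T1Sl2.ext2
  · rw [T1Sl2.mul00, T1Sl2.mul00]; simp
  · rw [T1Sl2.mul01, T1Sl2.mul01]
    simp only [T1Sl2.dg00, T1Sl2.dg01, T1Sl2.dg11, T1Sl2.up00, T1Sl2.up01, T1Sl2.up11,
      Units.val_inv_eq_inv_val]
    field_simp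
    ring
  · rw [T1Sl2.mul10, T1Sl2.mul10]; simp
  · rw [T1Sl2.mul11, T1Sl2.mul11]; simp

theorem tu_comm (a b : F) : tu a * tu b = tu b * tu a := by
  rw [T1Sl2.up_mul, T1Sl2.up_mul, add_comm]

theorem tu_inj {a b : F} (h : tu a = tu b) : a = b := up_inj h

theorem tu_inv (a : F) : (tu a)⁻¹ = tu a := by
  rw [inv_eq_iff_mul_eq_one, T1Sl2.up_mul, CharTwo.add_self_eq_zero, T1Sl2.up_zero]

theorem td_inj {r s : Fˣ} (h : td r = td s) : r = s := T1Sl2.dgHom_injective h

theorem td_mul (r s : Fˣ) : td r * td s = td (r * s) := (map_mul T1Sl2.dgHom r s).symm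

/-- the action of a form on the unipotent group -/
theorem form_tu (t : F) (s : Fˣ) (σ : F ≃+* F) (a : F) :
    (MulAut.conj (tu t * td s) * fieldAut σ) (tu a) = tu (s * s * σ a) := by
  have h1 : fieldAut σ (tu a) = tu (σ a) := fieldAut_up σ a
  rw [MulAut.mul_apply, h1, MulAut.conj_apply]
  have : tu t * td s * tu (σ a) * (tu t * td s)⁻¹ = tu t * (td s * tu (σ a) * (td s)⁻¹) * (tu t)⁻¹ := by
    group
  rw [this, td_conj_tu, tu_comm t, mul_inv_cancel_right]

theorem fieldAut_td (σ : F ≃+* F) (r : Fˣ) : fieldAut σ (td r) = td (Units.map σ.toMonoidHom r) := by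
  refine ext_ent ?_ ?_ ?_ ?_
  · rfl
  · change σ 0 = 0
    exact map_zero σ
  · change σ 0 = 0
    exact map_zero σ
  · change σ ((r⁻¹ : Fˣ) : F) = ((Units.map σ.toMonoidHom r)⁻¹ : Fˣ)
    rw [← map_inv]
    rfl

theorem form_td (s : Fˣ) (σ : F ≃+* F) (r : Fˣ) :
    (MulAut.conj (td s) * fieldAut σ) (td r) = td (Units.map σ.toMonoidHom r) := by
  rw [MulAut.mul_apply, fieldAut_td, MulAut.conj_apply, td_mul, mul_comm, ← td_mul,
    mul_inv_cancel_right]

theorem conj_tu_mem {g : SL2} (h : g * tu 1 * g⁻¹ ∈ UI F) : g 1 0 = 0 := by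
  have h1 := h.2
  rw [T1Sl2.mul10, T1Sl2.mul10, T1Sl2.mul11, T1Sl2.inv00, T1Sl2.inv10] at h1
  simp only [T1Sl2.up00, T1Sl2.up01, T1Sl2.up10, T1Sl2.up11] at h1
  have h2 : g 1 0 * g 1 0 = 0 := by linear_combination -h1
  exact mul_self_eq_zero.mp h2

/-- an automorphism normalising the unipotent group -/
theorem exists_form_UI {α : MulAut SL2} (h : ∀ x ∈ UI F, α x ∈ UI F) :
    ∃ (t : F) (s : Fˣ), α = MulAut.conj (tu t * td s) * fieldAut (typ α) := by
  have := Fintype.ofFinite F
  obtain ⟨g, hg⟩ := exists_form α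
  have h1 := h _ (T1Sl2.up_mem 1)
  rw [hg, MulAut.mul_apply, tu_eq, fieldAut_up, map_one, MulAut.conj_apply] at h1
  obtain ⟨t, s, hts⟩ := T1Sl2.borel_decomp (conj_tu_mem h1)
  exact ⟨t, s, by rw [← hts]; exact hg⟩

end Cfsg.Agent.OddCyclic.L2Borel
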