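import Mathlib
import Cfsg.Prelude.Def_Local
import Cfsg.Agent.S1301
import Cfsg.Agent.OddCyclic.T1Defs
import Cfsg.Agent.Lib.Cores
import Cfsg.Agent.Lib.PComponents
import Cfsg.Agent.SignalizersComponents.Components
import Cfsg.Agent.SignalizersComponents.ComponentImage
import Cfsg.Agent.SignalizersComponents.DistinctComponents

/-!
# S0342, component type: groups with cyclic odd Sylow subgroups

Section 0 of blueprints/S0342-component.md. `OddCyc G`: all Sylow subgroups for odd primes are
cyclic.

* `mem_of_orderOf` (0.1): a normal subgroup of order divisible by the odd prime `p` contains all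
  elements of order `p`.
* `oddCore_eq_bot` (0.2): perfect groups have trivial odd core; 2-components are components
  (`isComponent_of_isPComponent`), `pLayer 2 = layer`.
* `Cmp H K`: `K` is a component of the subgroup `H`. Different components of order divisible by `p`
  do not exist (`Cmp.eq_of_dvd`), L-balance (`Cmp.lbal`).
-/

set_option autoImplicit false

namespace Cfsg.Agent.OddCyclic.CompBasic

open Subgroup Cfsg
open scoped commutatorElement
open Cfsg.Agent.OddCyclic.T1Defs
open Cfsg.Agent.SignalizersComponents.Components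

section Abstract

variable {G : Type*} [Group G] [Finite G]

omit [Finite G] in
theorem isCyclic_of_isPGroup (h : OddCyc G) {p : ℕ} (hp : p.Prime) (hp2 : p ≠ 2)
    {P : Subgroup G} (hP : IsPGroup p P) : IsCyclic P := by
  obtain ⟨Q, hQ⟩ := hP.exists_le_sylow
  have := h p Q hp hp2
  exact isCyclic_of_injective (Subgroup.inclusion hQ) (Subgroup.inclusion_injective hQ)

omit [Finite G] in
theorem oddCyc_of_injective {H : Type*} [Group H] [Finite H] (h : OddCyc G) (f : H →* G)
    (hf : Function.Injective f) : OddCyc H := by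
  intro p P hp hp2
  have h1 : IsPGroup p ((P : Subgroup H).map f) := P.isPGroup'.map f
  have := isCyclic_of_isPGroup h hp hp2 h1
  exact isCyclic_of_injective
    ((P : Subgroup H).equivMapOfInjective f hf).toMonoidHom
    ((P : Subgroup H).equivMapOfInjective f hf).injective

theorem oddCyc_subgroup (h : OddCyc G) (H : Subgroup G) : OddCyc H :=
  oddCyc_of_injective h H.subtype H.subtype_injective

theorem oddCyc_quotient (h : OddCyc G) (N : Subgroup G) [N.Normal] : OddCyc (G ⧸ N) := by
  intro p P hp hp2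
  have hpf : Fact p.Prime := ⟨hp⟩
  obtain ⟨S, hS⟩ := Sylow.mapSurjective_surjective (QuotientGroup.mk'_surjective N) p P
  have h1 : (P : Subgroup (G ⧸ N)) = (S : Subgroup G).map (QuotientGroup.mk' N) := by
    rw [← hS]; rfl
  have := h p S hp hp2
  have h2 : IsCyclic ((S : Subgroup G).map (QuotientGroup.mk' N)) :=
    isCyclic_of_surjective ((QuotientGroup.mk' N).subgroupMap (S : Subgroup G))
      ((QuotientGroup.mk' N).subgroupMap_surjective _)
  rw [← h1] at h2
  exact h2

/-- In a finite cyclic group elements of the same order generate the same subgroup. -/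
theorem zpowers_eq_of_cyclic {C : Type*} [Group C] [Finite C] [IsCyclic C] {x y : C}
    (h : orderOf x = orderOf y) : zpowers x = zpowers y := by
  classical
  have := Fintype.ofFinite C
  have hn : 0 < orderOf x := orderOf_pos x
  have hle := IsCyclic.card_pow_eq_one_le (α := C) hn
  have key : ∀ z : C, orderOf z = orderOf x →
      ((zpowers z : Subgroup C) : Set C).toFinset =
        Finset.univ.filter (fun a : C => a ^ orderOf x = 1) := by
    intro z hz
    apply Finset.eq_of_subset_of_card_le
    · intro a ha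
      simp only [Set.mem_toFinset, SetLike.mem_coe] at ha
      simp only [Finset.mem_filter, Finset.mem_univ, true_and]
      obtain ⟨n, rfl⟩ := Subgroup.mem_zpowers_iff.mp ha
      rw [← hz, ← zpow_natCast (z ^ n), ← zpow_mul, mul_comm, zpow_mul, zpow_natCast,
        pow_orderOf_eq_one, one_zpow]
    · refine hle.trans ?_
      rw [Set.toFinset_card, ← Nat.card_eq_fintype_card]
      have : Nat.card (zpowers z) = orderOf x := by rw [Nat.card_zpowers, hz]
      exact this.ge
  apply SetLike.coe_injective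
  rw [← Set.toFinset_inj, key x rfl, key y h.symm]

/-- Commuting elements of the same odd prime order generate the same subgroup. -/
theorem zpowers_eq_of_commute (h : OddCyc G) {p : ℕ} (hp : p.Prime) (hp2 : p ≠ 2) {x y : G}
    (hx : orderOf x = p) (hy : orderOf y = p) (hxy : Commute x y) : zpowers x = zpowers y := by
  have hpf : Fact p.Prime := ⟨hp⟩
  set A := Subgroup.closure ({x, y} : Set G) with hA
  have hcomm : ∀ a ∈ ({x, y} : Set G), ∀ b ∈ ({x, y} : Set G), a * b = b * a := by
    rintro a (rfl | ha) b (rfl | hb)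
    · rfl
    · rw [Set.mem_singleton_iff.mp hb]; exact hxy
    · rw [Set.mem_singleton_iff.mp ha]; exact hxy.symm
    · rw [Set.mem_singleton_iff.mp ha, Set.mem_singleton_iff.mp hb]
  have hAp : IsPGroup p A := by
    have hAc := Subgroup.isMulCommutative_closure hcomm
    rintro ⟨a, ha⟩
    refine ⟨1, ?_⟩
    rw [pow_one]
    apply Subtype.ext
    show a ^ p = 1
    induction ha using Subgroup.closure_induction with
    | mem z hz =>
      rcases hz with rfl | hz
      · rw [← hx, pow_orderOf_eq_one]
      · rw [Set.mem_singleton_iff.mp hz, ← hy, pow_orderOf_eq_one]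
    | one => exact one_pow p
    | mul u v hu hv ihu ihv =>
      have huv : Commute u v := by
        have := hAc.is_comm.comm (⟨u, hu⟩ : A) ⟨v, hv⟩
        exact congrArg Subtype.val this
      rw [huv.mul_pow, ihu, ihv, one_mul]
    | inv u _ ihu => rw [inv_pow, ihu, inv_one]
  have := isCyclic_of_isPGroup h hp hp2 hAp
  have hxA : x ∈ A := Subgroup.subset_closure (Or.inl rfl)
  have hyA : y ∈ A := Subgroup.subset_closure (Or.inr rfl)
  have h1 : zpowers (⟨x, hxA⟩ : A) = zpowers (⟨y, hyA⟩ : A) :=
    zpowers_eq_of_cyclic (by rw [Subgroup.orderOf_mk, Subgroup.orderOf_mk, hx, hy])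
  have h2 := congrArg (Subgroup.map A.subtype) h1
  rw [MonoidHom.map_zpowers, MonoidHom.map_zpowers] at h2
  exact h2

/-- (0.1) A normal subgroup of order divisible by the odd prime `p` contains all elements of
order `p`. -/
theorem mem_of_orderOf (h : OddCyc G) {p : ℕ} (hp : p.Prime) (hp2 : p ≠ 2) {N : Subgroup G}
    (hN : N.Normal) (hpN : p ∣ Nat.card N) {x : G} (hx : orderOf x = p) : x ∈ N := by
  have hpf : Fact p.Prime := ⟨hp⟩
  obtain ⟨⟨y, hyN⟩, hy⟩ := exists_prime_orderOf_dvd_card' (G := N) p hpN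
  rw [Subgroup.orderOf_mk] at hy
  have hxp : IsPGroup p (zpowers x) := IsPGroup.of_card (n := 1) (by
    rw [Nat.card_zpowers, hx, pow_one])
  have hyp : IsPGroup p (zpowers y) := IsPGroup.of_card (n := 1) (by
    rw [Nat.card_zpowers, hy, pow_one])
  obtain ⟨P, hP⟩ := hxp.exists_le_sylow
  obtain ⟨Q, hQ⟩ := hyp.exists_le_sylow
  obtain ⟨g, hg⟩ := MulAction.exists_smul_eq G Q P
  have hxP : x ∈ (P : Subgroup G) := hP (mem_zpowers x)
  have hyP : g * y * g⁻¹ ∈ (P : Subgroup G) := by
    rw [← hg]
    exact ⟨y, hQ (mem_zpowers y), rfl⟩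
  have := h p P hp hp2
  have h1 : zpowers (⟨x, hxP⟩ : P) = zpowers (⟨g * y * g⁻¹, hyP⟩ : P) := by
    apply zpowers_eq_of_cyclic
    rw [Subgroup.orderOf_mk, Subgroup.orderOf_mk, hx]
    have : orderOf (g * y * g⁻¹) = orderOf y := by
      rw [← MulAut.conj_apply]
      exact orderOf_injective (MulAut.conj g).toMonoidHom (MulAut.conj g).injective y
    rw [this, hy]
  have h2 : (⟨x, hxP⟩ : P) ∈ zpowers (⟨g * y * g⁻¹, hyP⟩ : P) := by
    rw [← h1]; exact mem_zpowers _
  obtain ⟨n, hn⟩ := h2
  have h3 : (g * y * g⁻¹) ^ n = x := congrArg Subtype.val hn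
  rw [← h3]
  exact N.zpow_mem (hN.conj_mem y hyN g) n

/-! ### Perfect groups -/

omit [Finite G] in
/-- A perfect group centralizes its cyclic normal subgroups. -/
theorem le_center_of_isCyclic (hG : Group.IsPerfect G) {D : Subgroup G} (hD : D.Normal)
    [hDc : IsCyclic D] : D ≤ center G := by
  let φ : G →* (ZMod (Nat.card D))ˣ :=
    ((IsCyclic.mulAutMulEquiv D).toMonoidHom).comp (MulAut.conjNormal (H := D))
  have h1 : φ.ker = ⊤ := by
    rw [eq_top_iff, ← hG.commutator_eq_top]
    exact Abelianization.commutator_subset_ker φ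
  intro d hd
  rw [mem_center_iff]
  intro g
  have h2 : g ∈ φ.ker := by rw [h1]; exact mem_top g
  have h3 : (MulAut.conjNormal (H := D)) g = 1 := by
    have h4 : (IsCyclic.mulAutMulEquiv D) ((MulAut.conjNormal (H := D)) g) = 1 := h2
    exact (map_eq_one_iff _ (IsCyclic.mulAutMulEquiv D).injective).mp h4
  have h5 := congrArg (fun f : MulAut D => ((f ⟨d, hd⟩ : D) : G)) h3
  simp only [MulAut.conjNormal_apply, MulAut.one_apply] at h5
  rw [mul_inv_eq_iff_eq_mul] at h5
  exact h5

/-- An element of odd prime order in the centre of a perfect group does not exist. -/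
theorem false_of_center (h : OddCyc G) (hG : Group.IsPerfect G) {p : ℕ} (hp : p.Prime)
    (hp2 : p ≠ 2) {z : G} (hz : z ∈ center G) (hzp : orderOf z = p) : False := by
  have hpf : Fact p.Prime := ⟨hp⟩
  obtain ⟨P⟩ : Nonempty (Sylow p G) := inferInstance
  have hcyc := h p P hp hp2
  have hPc : IsMulCommutative (P : Subgroup G) := ⟨⟨fun a b => by
    obtain ⟨g, hg⟩ := hcyc.exists_generator
    obtain ⟨m, rfl⟩ := Subgroup.mem_zpowers_iff.mp (hg a)
    obtain ⟨n, rfl⟩ := Subgroup.mem_zpowers_iff.mp (hg b)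
    rw [← zpow_add, ← zpow_add, add_comm]⟩⟩
  let _ : CommGroup (P : Subgroup G) := { (inferInstance : Group (P : Subgroup G)) with
    mul_comm := hPc.is_comm.comm }
  have key : ∀ (k : ℕ) (g₀ : G), g₀⁻¹ * z ^ k * g₀ ∈ (P : Subgroup G) →
      g₀⁻¹ * z ^ k * g₀ = z ^ k := by
    intro k g₀ _
    have h1 : g₀ * z ^ k = z ^ k * g₀ :=
      (mem_center_iff.mp ((center G).pow_mem hz k) g₀)
    rw [mul_assoc, ← h1, inv_mul_cancel_left]
  have h2 := MonoidHom.transfer_eq_pow (MonoidHom.id (P : Subgroup G)) z key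
  have h3 : z ∈ (MonoidHom.transfer (MonoidHom.id (P : Subgroup G))).ker := by
    have h4 : (MonoidHom.transfer (MonoidHom.id (P : Subgroup G))).ker = ⊤ := by
      rw [eq_top_iff, ← hG.commutator_eq_top]
      exact Abelianization.commutator_subset_ker _
    rw [h4]; exact mem_top z
  rw [MonoidHom.mem_ker, h2] at h3
  have h5 : z ^ (P : Subgroup G).index = 1 := congrArg Subtype.val h3
  have h6 : p ∣ (P : Subgroup G).index := by
    have h7 : orderOf z ∣ (P : Subgroup G).index := orderOf_dvd_of_pow_eq_one h5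
    rwa [hzp] at h7
  exact P.not_dvd_index h6

/-- (0.2) A perfect group with cyclic odd Sylow subgroups has trivial odd core. -/
theorem oddCore_eq_bot (h : OddCyc G) (hG : Group.IsPerfect G) : oddCore G = ⊥ := by
  set O := oddCore G with hO
  have hOn : O.Normal := inferInstance
  have hodd : Odd (Nat.card O) := Nat.coprime_two_right.mp (Cfsg.Agent.Lib.Cores.pPrimeCore_coprime 2)
  have hZ : IsZGroup O := by
    rw [isZGroup_iff]
    intro p hp P
    by_cases hp2 : p = 2
    · subst hp2
      have hpf : Fact (Nat.Prime 2) := ⟨hp⟩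
      have h1 : (P : Subgroup O) = ⊥ := by
        rw [← Subgroup.card_eq_one]
        obtain ⟨n, hn⟩ := IsPGroup.iff_card.mp P.isPGroup'
        have h3 : Odd (Nat.card P) := Odd.of_dvd_nat hodd (Subgroup.card_subgroup_dvd_card _)
        rw [hn] at h3 ⊢
        rcases Nat.eq_zero_or_pos n with h4 | h4
        · rw [h4, pow_zero]
        · exact absurd (Nat.even_pow.mpr ⟨even_two, h4.ne'⟩) (Nat.not_even_iff_odd.mpr h3)
      rw [h1]
      infer_instance
    · exact oddCyc_subgroup h O p P hp hp2
  -- the derived subgroup of `O`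
  set D : Subgroup G := (commutator O).map O.subtype with hD
  have hDn : D.Normal := by
    rw [hD, Subgroup.map_subtype_commutator]
    infer_instance
  have hDc : IsCyclic D := by
    have : IsCyclic (commutator O) := IsZGroup.isCyclic_commutator O
    exact isCyclic_of_surjective (O.subtype.subgroupMap (commutator O))
      (O.subtype.subgroupMap_surjective _)
  have hDle : D ≤ center G := le_center_of_isCyclic hG hDn
  -- the quotient
  have hQp : Group.IsPerfect (G ⧸ D) :=
    Group.IsPerfect.ofSurjective (f := QuotientGroup.mk' D) (QuotientGroup.mk'_surjective D)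
  set E : Subgroup (G ⧸ D) := O.map (QuotientGroup.mk' D) with hE
  have hEn : E.Normal := hOn.map _ (QuotientGroup.mk'_surjective D)
  have hEz : IsZGroup E := IsZGroup.of_surjective (f := (QuotientGroup.mk' D).subgroupMap O)
    ((QuotientGroup.mk' D).subgroupMap_surjective O)
  have hEcomm : IsMulCommutative E := ⟨⟨by
    rintro ⟨_, a, ha, rfl⟩ ⟨_, b, hb, rfl⟩
    apply Subtype.ext
    show QuotientGroup.mk' D a * QuotientGroup.mk' D b = QuotientGroup.mk' D b * QuotientGroup.mk' D a
    have h1 : ⁅a, b⁆ ∈ D := by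
      rw [hD, Subgroup.map_subtype_commutator]
      exact Subgroup.commutator_mem_commutator ha hb
    have h2 : QuotientGroup.mk' D ⁅a, b⁆ = 1 := by
      rw [← MonoidHom.mem_ker, QuotientGroup.ker_mk']; exact h1
    rw [map_commutatorElement, commutatorElement_eq_one_iff_mul_comm] at h2
    exact h2⟩⟩
  have hEc : IsCyclic E := by
    have : Group.IsNilpotent E := by
      refine ⟨1, ?_⟩
      rw [Subgroup.upperCentralSeries_one, eq_top_iff]
      intro x _
      rw [mem_center_iff]
      exact fun y => hEcomm.is_comm.comm y x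
    infer_instance
  have hEle : E ≤ center (G ⧸ D) := le_center_of_isCyclic hQp hEn
  -- so `O` is central
  have hGO : ⁅O, (⊤ : Subgroup G)⁆ ≤ D := by
    rw [Subgroup.commutator_le]
    intro a ha g _
    have h1 := mem_center_iff.mp (hEle ⟨a, ha, rfl⟩) (QuotientGroup.mk' D g)
    have h2 : QuotientGroup.mk' D ⁅a, g⁆ = 1 := by
      rw [map_commutatorElement, commutatorElement_eq_one_iff_mul_comm]
      exact h1.symm
    rwa [← MonoidHom.mem_ker, QuotientGroup.ker_mk'] at h2
  have hGO' : ⁅⁅O, (⊤ : Subgroup G)⁆, (⊤ : Subgroup G)⁆ = ⊥ := by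
    rw [Subgroup.commutator_eq_bot_iff_le_centralizer]
    refine hGO.trans (hDle.trans ?_)
    intro z hz
    rw [mem_centralizer_iff]
    intro g _
    exact mem_center_iff.mp hz g
  have hOc : ⁅O, (⊤ : Subgroup G)⁆ = ⊥ := by
    have h1 : ⁅⁅(⊤ : Subgroup G), O⁆, (⊤ : Subgroup G)⁆ = ⊥ := by
      rw [Subgroup.commutator_comm ⊤ O]; exact hGO'
    have h2 := Subgroup.commutator_commutator_eq_bot_of_rotate h1 hGO'
    have h3 : ⁅(⊤ : Subgroup G), (⊤ : Subgroup G)⁆ = ⊤ := hG.commutator_eq_top
    rw [h3, Subgroup.commutator_comm] at h2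
    exact h2
  have hOcen : O ≤ center G := by
    intro z hz
    rw [mem_center_iff]
    intro g
    have h1 := Subgroup.commutator_eq_bot_iff_le_centralizer.mp hOc hz
    exact mem_centralizer_iff.mp h1 g (mem_top g)
  by_contra hne
  have h1 : Nat.card O ≠ 1 := fun hc => hne (Subgroup.card_eq_one.mp hc)
  obtain ⟨p, hp, hpd⟩ := Nat.exists_prime_and_dvd h1
  have hpf : Fact p.Prime := ⟨hp⟩
  obtain ⟨⟨z, hz⟩, hzp⟩ := exists_prime_orderOf_dvd_card' (G := O) p hpd
  rw [Subgroup.orderOf_mk] at hzp
  have hp2 : p ≠ 2 := by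
    rintro rfl
    exact (Nat.not_even_iff_odd.mpr hodd) (even_iff_two_dvd.mpr hpd)
  exact false_of_center h hG hp hp2 (hOcen hz) hzp

/-- Central elements of odd order of a perfect group with cyclic odd Sylow subgroups are
trivial. -/
theorem eq_one_of_center (h : OddCyc G) (hG : Group.IsPerfect G) {z : G} (hz : z ∈ center G)
    (hodd : Odd (orderOf z)) : z = 1 := by
  by_contra hne
  have h1 : orderOf z ≠ 1 := fun hc => hne (orderOf_eq_one_iff.mp hc)
  obtain ⟨p, hp, hpd⟩ := Nat.exists_prime_and_dvd h1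
  have hp2 : p ≠ 2 := by
    rintro rfl
    exact (Nat.not_even_iff_odd.mpr hodd) (even_iff_two_dvd.mpr hpd)
  have h2 : orderOf (z ^ (orderOf z / p)) = p := by
    rw [orderOf_pow_of_dvd]
    · exact Nat.div_div_self hpd (orderOf_pos z).ne'
    · exact (Nat.div_pos (Nat.le_of_dvd (orderOf_pos z) hpd) hp.pos).ne'
    · exact Nat.div_dvd_of_dvd hpd
  exact false_of_center h hG hp hp2 ((center G).pow_mem hz _) h2

/-! ### Components -/

/-- In a group with cyclic odd Sylow subgroups 2-components are components. -/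
theorem isComponent_of_isPComponent (h : OddCyc G) {K : Subgroup G} (hK : IsPComponent 2 K) :
    IsComponent K := by
  have hpf : Fact (Nat.Prime 2) := ⟨Nat.prime_two⟩
  refine ⟨hK.1, ?_⟩
  have hperf : Group.IsPerfect K :=
    Subgroup.isPerfect_iff.mpr (Cfsg.Agent.Lib.PComponents.pcomp_perfect hK)
  have hOK : oddCore K = ⊥ := oddCore_eq_bot (oddCyc_subgroup h K) hperf
  let f := (QuotientGroup.mk' (pPrimeCore 2 G)).subgroupMap K
  have hker : f.ker = ⊥ := by
    rw [eq_bot_iff, ← hOK]
    have h1 : f.ker = (pPrimeCore 2 G).subgroupOf K := by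
      ext x
      rw [MonoidHom.mem_ker, mem_subgroupOf]
      constructor
      · intro hx
        have h2 : QuotientGroup.mk' (pPrimeCore 2 G) (x : G) = 1 := congrArg Subtype.val hx
        rwa [← MonoidHom.mem_ker, QuotientGroup.ker_mk'] at h2
      · intro hx
        apply Subtype.ext
        show QuotientGroup.mk' (pPrimeCore 2 G) (x : G) = 1
        rwa [← MonoidHom.mem_ker, QuotientGroup.ker_mk']
    rw [h1]
    refine Cfsg.Agent.Lib.Cores.le_pPrimeCore inferInstance ?_
    have h2 : (Nat.card (pPrimeCore 2 G)).Coprime 2 := Cfsg.Agent.Lib.Cores.pPrimeCore_coprime 2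
    exact Nat.Coprime.coprime_dvd_left
      (Subgroup.card_comap_dvd_of_injective _ K.subtype K.subtype_injective) h2
  exact isQuasisimple_of_mulEquiv (MulEquiv.ofBijective f
    ⟨(MonoidHom.ker_eq_bot_iff f).mp hker, MonoidHom.subgroupMap_surjective _ K⟩).symm hK.2.1.2

theorem pLayer_eq_layer (h : OddCyc G) : pLayer 2 G = layer G := by
  apply le_antisymm
  · exact sSup_le fun K hK => component_le_layer (isComponent_of_isPComponent h hK)
  · rw [layer_le_iff]
    intro K hK
    refine Cfsg.Agent.Lib.PComponents.pcomp_le_pLayer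
      (Cfsg.Agent.SignalizersComponents.ComponentImage.isPComponent_of_isComponent hK ?_)
    intro hbot
    rw [Subgroup.map_eq_bot_iff, QuotientGroup.ker_mk'] at hbot
    have h1 : oddCore K = ⊥ := oddCore_eq_bot (oddCyc_subgroup h K) hK.2.1
    have h2 : (⊤ : Subgroup K) ≤ oddCore K := by
      refine Cfsg.Agent.Lib.Cores.le_pPrimeCore inferInstance ?_
      rw [Subgroup.card_top]
      exact Nat.Coprime.coprime_dvd_left (Subgroup.card_dvd_of_le hbot)
        (Cfsg.Agent.Lib.Cores.pPrimeCore_coprime 2)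
    rw [h1, le_bot_iff] at h2
    have h3 := quasisimple_nontrivial hK.2
    exact bot_ne_top h2.symm

/-- If `p` is odd and `x` of order `p` lies in the layer, then `p` divides the order of some
component. -/
theorem exists_component_of_mem_layer (h : OddCyc G) {p : ℕ} (hp : p.Prime) (hp2 : p ≠ 2) {x : G}
    (hx : x ∈ layer G) (hxp : orderOf x = p) : ∃ J : Subgroup G, IsComponent J ∧ p ∣ Nat.card J := by
  by_contra hno
  push Not at hno
  -- `x` centralizes all components
  have hc : ∀ J : Subgroup G, IsComponent J → x ∈ centralizer (J : Set G) := by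
    intro J hJ
    have hle : layer G ≤ J ⊔ centralizer (J : Set G) := by
      rw [layer_le_iff]
      intro L hL
      by_cases hLJ : L = J
      · rw [hLJ]; exact le_sup_left
      · exact (component_le_centralizer_of_ne hL hJ hLJ).trans le_sup_right
    have hx' := hle hx
    have hn : J ≤ normalizer (centralizer (J : Set G) : Set G) := by
      intro j hj
      rw [mem_normalizer_iff]
      have key : ∀ y : G, y ∈ J → ∀ c ∈ centralizer (J : Set G), y * c * y⁻¹ ∈ centralizer (J : Set G) := by
        intro y hy c hc'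
        rw [mem_centralizer_iff] at hc' ⊢
        intro k hk
        have h1 := hc' (y⁻¹ * k * y) (J.mul_mem (J.mul_mem (J.inv_mem hy) hk) hy)
        calc k * (y * c * y⁻¹) = y * ((y⁻¹ * k * y) * c) * y⁻¹ := by group
          _ = y * (c * (y⁻¹ * k * y)) * y⁻¹ := by rw [h1]
          _ = y * c * y⁻¹ * k := by group
      intro c
      refine ⟨key j hj c, fun hc' => ?_⟩
      have h1 := key j⁻¹ (J.inv_mem hj) _ hc'
      have h2 : j⁻¹ * (j * c * j⁻¹) * j⁻¹⁻¹ = c := by group
      rwa [h2] at h1
    rw [← SetLike.mem_coe, Subgroup.coe_mul_of_left_le_normalizer_right _ _ hn] at hx'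
    obtain ⟨j, hj, c, hc, hjc⟩ := Set.mem_mul.mp hx'
    have hcj : c * j = j * c := (mem_centralizer_iff.mp hc j hj).symm
    have hcop : (orderOf j).Coprime p := by
      rw [Nat.coprime_comm, Nat.Prime.coprime_iff_not_dvd hp]
      exact fun hd => hno J hJ (hd.trans (J.orderOf_dvd_natCard hj))
    have hjp : j ^ p ∈ centralizer (J : Set G) := by
      have h1 : j ^ p * c ^ p = 1 := by
        rw [← (show Commute j c from hcj.symm).mul_pow, hjc, ← hxp, pow_orderOf_eq_one]
      rw [eq_inv_of_mul_eq_one_left h1]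
      exact inv_mem (pow_mem hc p)
    have hj' : j ∈ centralizer (J : Set G) := by
      have h1 : j ∈ zpowers (j ^ p) := by
        have h2 : zpowers (j ^ p) = zpowers j := by
          apply Subgroup.eq_of_le_of_card_ge
          · rw [zpowers_le]; exact pow_mem (mem_zpowers j) p
          · rw [Nat.card_zpowers, Nat.card_zpowers, hcop.orderOf_pow]
        rw [h2]; exact mem_zpowers j
      exact (zpowers_le.mpr hjp) h1
    rw [← hjc]
    exact mul_mem hj' hc
  have h1 : (⟨x, hx⟩ : layer G) ∈ center (layer G) := by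
    rw [mem_center_iff]
    rintro ⟨y, hy⟩
    apply Subtype.ext
    show y * x = x * y
    have h2 : layer G ≤ centralizer ({x} : Set G) := by
      rw [layer_le_iff]
      intro J hJ j hj
      rw [mem_centralizer_singleton_iff]
      exact mem_centralizer_iff.mp (hc J hJ) j hj
    exact mem_centralizer_singleton_iff.mp (h2 hy)
  have h2 := false_of_center (oddCyc_subgroup h (layer G)) (layer_isPerfect G) hp hp2 h1
    (by rw [Subgroup.orderOf_mk]; exact hxp)
  exact h2

/-- A component is generated by its elements of order `p`, if there is one (`p` odd). -/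
theorem closure_orderOf_eq_top {K : Type*} [Group K] [Finite K] (h : OddCyc K) (hK : IsQuasisimple K)
    {p : ℕ} (hp : p.Prime) (hp2 : p ≠ 2) (hpK : p ∣ Nat.card K) :
    Subgroup.closure {x : K | orderOf x = p} = ⊤ := by
  have hpf : Fact p.Prime := ⟨hp⟩
  have hn : (Subgroup.closure {x : K | orderOf x = p}).Normal := by
    refine ⟨fun x hx g => ?_⟩
    induction hx using Subgroup.closure_induction with
    | mem y hy =>
      apply Subgroup.subset_closure
      show orderOf (g * y * g⁻¹) = p
      rw [← MulAut.conj_apply, ← hy]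
      exact orderOf_injective (MulAut.conj g).toMonoidHom (MulAut.conj g).injective y
    | one => simp
    | mul a b _ _ iha ihb =>
      have : g * (a * b) * g⁻¹ = (g * a * g⁻¹) * (g * b * g⁻¹) := by group
      rw [this]; exact mul_mem iha ihb
    | inv a _ ih =>
      have : g * a⁻¹ * g⁻¹ = (g * a * g⁻¹)⁻¹ := by group
      rw [this]; exact inv_mem ih
  rcases quasisimple_normal hK _ hn with h1 | h1
  · exact h1
  · obtain ⟨x, hx⟩ := exists_prime_orderOf_dvd_card' (G := K) p hpK
    exact (false_of_center h hK.1 hp hp2 (h1 (Subgroup.subset_closure hx)) hx).elim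

/-- A component remains a component in the preimage under an injective homomorphism. -/
theorem isComponent_comap {A B : Type*} [Group A] [Group B] (f : A →* B)
    (hf : Function.Injective f) {K : Subgroup B} (hK : IsComponent K) (hle : K ≤ f.range) :
    IsComponent (K.comap f) := by
  refine ⟨hK.1.comap f, ?_⟩
  have h1 : (K.comap f).map f = K := Subgroup.map_comap_eq_self hle
  have e : K.comap f ≃* K :=
    ((K.comap f).equivMapOfInjective f hf).trans (MulEquiv.subgroupCongr h1)
  exact isQuasisimple_of_mulEquiv e.symm hK.2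

end Abstract

/-! ### Components of subgroups -/

section Ambient

variable {G : Type*} [Group G]

/-- `K` is a component of the subgroup `H`. -/
structure Cmp (H K : Subgroup G) : Prop where
  le : K ≤ H
  comp : IsComponent (K.subgroupOf H)

theorem Cmp.quasi {H K : Subgroup G} (h : Cmp H K) : IsQuasisimple K :=
  isQuasisimple_of_mulEquiv (Subgroup.subgroupOfEquivOfLe h.le) h.comp.2

theorem Cmp.mono {H L K : Subgroup G} (h : Cmp H K) (hKL : K ≤ L) (hLH : L ≤ H) : Cmp L K := by
  refine ⟨hKL, ?_⟩
  have h1 := isComponent_comap (Subgroup.inclusion hLH) (Subgroup.inclusion_injective hLH) h.comp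
    (by
      rintro ⟨x, hx⟩ hxK
      exact ⟨⟨x, hKL hxK⟩, rfl⟩)
  exact h1

theorem Cmp.conj {H K : Subgroup G} (h : Cmp H K) (g : G) :
    Cmp (H.map (MulAut.conj g).toMonoidHom) (K.map (MulAut.conj g).toMonoidHom) :=
  ⟨Subgroup.map_mono h.le,
    Cfsg.Agent.SignalizersComponents.DistinctComponents.isComponent_subgroupOf_conj h.le h.comp g⟩

theorem map_conj_eq_of_mem {H : Subgroup G} {g : G} (hg : g ∈ H) :
    H.map (MulAut.conj g).toMonoidHom = H := by
  ext x
  constructor
  · rintro ⟨y, hy, rfl⟩
    exact H.mul_mem (H.mul_mem hg hy) (H.inv_mem hg)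
  · intro hx
    refine ⟨g⁻¹ * x * g, H.mul_mem (H.mul_mem (H.inv_mem hg) hx) hg, ?_⟩
    simp only [MulEquiv.coe_toMonoidHom, MulAut.conj_apply]
    group

theorem Cmp.conj_mem {H K : Subgroup G} (h : Cmp H K) {g : G} (hg : g ∈ H) :
    Cmp H (K.map (MulAut.conj g).toMonoidHom) := by
  have h1 := h.conj g
  rwa [map_conj_eq_of_mem hg] at h1

theorem Cmp.eq_or_commute {H K L : Subgroup G} (hK : Cmp H K) (hL : Cmp H L) :
    K = L ∨ ∀ x ∈ K, ∀ y ∈ L, x * y = y * x := by
  by_cases h : K.subgroupOf H = L.subgroupOf H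
  · left
    have h1 := congrArg (Subgroup.map H.subtype) h
    rw [Subgroup.subgroupOf_map_subtype, Subgroup.subgroupOf_map_subtype,
      inf_eq_left.mpr hK.le, inf_eq_left.mpr hL.le] at h1
    exact h1
  · right
    intro x hx y hy
    have h1 := component_le_centralizer_of_ne hK.comp hL.comp h
      (show (⟨x, hK.le hx⟩ : H) ∈ K.subgroupOf H from hx)
    have h2 := mem_centralizer_iff.mp h1 ⟨y, hL.le hy⟩ hy
    exact (congrArg Subtype.val h2).symm

variable [Finite G]

/-- Elements of odd order of a quasisimple subgroup commuting with it are trivial. -/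
theorem eq_one_of_commute (hG : OddCyc G) {K : Subgroup G} (hK : IsQuasisimple K) {z : G}
    (hz : z ∈ K) (hzK : ∀ k ∈ K, k * z = z * k) (hodd : Odd (orderOf z)) : z = 1 := by
  have h1 : (⟨z, hz⟩ : K) ∈ center K := by
    rw [mem_center_iff]
    rintro ⟨k, hk⟩
    exact Subtype.ext (hzK k hk)
  have h2 := eq_one_of_center (oddCyc_subgroup hG K) hK.1 h1 (by rwa [Subgroup.orderOf_mk])
  exact congrArg Subtype.val h2

/-- Commuting subgroups, the first one quasisimple, have coprime odd parts of the orders. -/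
theorem false_of_commute (hG : OddCyc G) {K L : Subgroup G} (hK : IsQuasisimple K)
    (hKL : ∀ x ∈ K, ∀ y ∈ L, x * y = y * x) {p : ℕ} (hp : p.Prime) (hp2 : p ≠ 2)
    (hpK : p ∣ Nat.card K) (hpL : p ∣ Nat.card L) : False := by
  have hpf : Fact p.Prime := ⟨hp⟩
  obtain ⟨⟨x, hxK⟩, hx⟩ := exists_prime_orderOf_dvd_card' (G := K) p hpK
  obtain ⟨⟨y, hyL⟩, hy⟩ := exists_prime_orderOf_dvd_card' (G := L) p hpL
  rw [Subgroup.orderOf_mk] at hx hy
  have h1 := zpowers_eq_of_commute hG hp hp2 hx hy (hKL x hxK y hyL)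
  have h2 : x ∈ L := by
    have : x ∈ zpowers y := by rw [← h1]; exact mem_zpowers x
    exact (zpowers_le.mpr hyL) this
  have h3 := eq_one_of_commute hG hK hxK (fun k hk => hKL k hk x h2)
    (by rw [hx]; exact hp.odd_of_ne_two hp2)
  rw [h3, orderOf_one] at hx
  exact hp.one_lt.ne hx

/-- Two components of order divisible by the odd prime `p` are equal. -/
theorem Cmp.eq_of_dvd (hG : OddCyc G) {H K L : Subgroup G} (hK : Cmp H K) (hL : Cmp H L) {p : ℕ}
    (hp : p.Prime) (hp2 : p ≠ 2) (hpK : p ∣ Nat.card K) (hpL : p ∣ Nat.card L) : K = L := by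
  rcases hK.eq_or_commute hL with h | h
  · exact h
  · exact (false_of_commute hG hK.quasi h hp hp2 hpK hpL).elim

omit [Finite G] in
theorem card_map_conj (g : G) (K : Subgroup G) :
    Nat.card (K.map (MulAut.conj g).toMonoidHom) = Nat.card K :=
  Subgroup.card_map_of_injective (MulAut.conj g).injective

/-- The component of order divisible by `p` is normal. -/
theorem Cmp.le_normalizer (hG : OddCyc G) {H K : Subgroup G} (hK : Cmp H K) {p : ℕ}
    (hp : p.Prime) (hp2 : p ≠ 2) (hpK : p ∣ Nat.card K) : H ≤ normalizer (K : Set G) := by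
  intro g hg
  have h1 := (hK.conj_mem hg).eq_of_dvd hG hK hp hp2 (by rw [card_map_conj]; exact hpK) hpK
  rw [mem_normalizer_iff]
  intro x
  constructor
  · intro hx
    rw [← h1]
    exact ⟨x, hx, rfl⟩
  · intro hx
    rw [← h1] at hx
    obtain ⟨y, hy, hyx⟩ := hx
    have h2 : g * y * g⁻¹ = g * x * g⁻¹ := hyx
    have h3 : y = x := by simpa using h2
    rwa [← h3]

/-- (0.1) for subgroups. -/
theorem mem_of_le_normalizer (hG : OddCyc G) {H N : Subgroup G} (hNH : N ≤ H)
    (hn : H ≤ normalizer (N : Set G)) {p : ℕ} (hp : p.Prime) (hp2 : p ≠ 2) (hpN : p ∣ Nat.card N)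
    {x : G} (hx : x ∈ H) (hxp : orderOf x = p) : x ∈ N := by
  have h1 : (N.subgroupOf H).Normal := Subgroup.normal_subgroupOf_of_le_normalizer hn
  have h2 := mem_of_orderOf (oddCyc_subgroup hG H) hp hp2 h1
    (by rwa [Nat.card_congr (Subgroup.subgroupOfEquivOfLe hNH).toEquiv]) (x := ⟨x, hx⟩)
    (by rwa [Subgroup.orderOf_mk])
  exact h2

/-- The component of order divisible by `p` contains all elements of order `p`. -/
theorem Cmp.mem_of_orderOf (hG : OddCyc G) {H K : Subgroup G} (hK : Cmp H K) {p : ℕ}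
    (hp : p.Prime) (hp2 : p ≠ 2) (hpK : p ∣ Nat.card K) {x : G} (hx : x ∈ H)
    (hxp : orderOf x = p) : x ∈ K :=
  mem_of_le_normalizer hG hK.le (hK.le_normalizer hG hp hp2 hpK) hp hp2 hpK hx hxp

/-- A quasisimple subgroup is contained in each subgroup containing its elements of order `p`. -/
theorem le_of_orderOf (hG : OddCyc G) {K L : Subgroup G} (hK : IsQuasisimple K) {p : ℕ}
    (hp : p.Prime) (hp2 : p ≠ 2) (hpK : p ∣ Nat.card K) (h : ∀ x ∈ K, orderOf x = p → x ∈ L) :
    K ≤ L := by
  have h1 := closure_orderOf_eq_top (oddCyc_subgroup hG K) hK hp hp2 hpK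
  have h2 : (⊤ : Subgroup K) ≤ L.subgroupOf K := by
    rw [← h1, Subgroup.closure_le]
    rintro ⟨x, hx⟩ hxp
    have hxp' : orderOf (⟨x, hx⟩ : K) = p := hxp
    rw [Subgroup.orderOf_mk] at hxp'
    exact h x hx hxp'
  exact Subgroup.subgroupOf_eq_top.mp (top_le_iff.mp h2)

/-- The layer of a subgroup, in the ambient group. -/
def E (H : Subgroup G) : Subgroup G := (layer H).map H.subtype

omit [Finite G] in
theorem E_le (H : Subgroup G) : E H ≤ H := Subgroup.map_subtype_le _

omit [Finite G] in
theorem Cmp.le_E {H K : Subgroup G} (hK : Cmp H K) : K ≤ E H := by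
  intro x hx
  exact ⟨⟨x, hK.le hx⟩, component_le_layer hK.comp hx, rfl⟩

/-- A quasisimple subgroup of the layer of order divisible by `p` lies in the component of order
divisible by `p`. -/
theorem exists_cmp (hG : OddCyc G) {H K : Subgroup G} (hK : IsQuasisimple K) (hKE : K ≤ E H)
    {p : ℕ} (hp : p.Prime) (hp2 : p ≠ 2) (hpK : p ∣ Nat.card K) :
    ∃ J : Subgroup G, Cmp H J ∧ p ∣ Nat.card J ∧ K ≤ J := by
  have hpf : Fact p.Prime := ⟨hp⟩
  obtain ⟨⟨x, hxK⟩, hx⟩ := exists_prime_orderOf_dvd_card' (G := K) p hpK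
  rw [Subgroup.orderOf_mk] at hx
  obtain ⟨y, hy, hyx⟩ := hKE hxK
  obtain ⟨J, hJ, hpJ⟩ := exists_component_of_mem_layer (oddCyc_subgroup hG H) hp hp2 hy (by
    rw [← Subgroup.orderOf_coe]
    have : (y : G) = x := hyx
    rw [this, hx])
  have hc : Cmp H (J.map H.subtype) := by
    refine ⟨Subgroup.map_subtype_le _, ?_⟩
    rw [Subgroup.subgroupOf, Subgroup.comap_map_eq_self_of_injective H.subtype_injective]
    exact hJ
  have hpJ' : p ∣ Nat.card (J.map H.subtype) := by
    rwa [Subgroup.card_map_of_injective H.subtype_injective]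
  refine ⟨_, hc, hpJ', le_of_orderOf hG hK hp hp2 hpK fun z hz hzp => ?_⟩
  exact hc.mem_of_orderOf hG hp hp2 hpJ' (E_le H (hKE hz)) hzp

/-- L-balance (S1301). -/
theorem Cmp.lbal (hG : OddCyc G) {H T K : Subgroup G} (hT : IsPGroup 2 T) (hTH : T ≤ H)
    (hK : Cmp (H ⊓ centralizer (T : Set G)) K) : K ≤ E H := by
  set T' := T.subgroupOf H with hT'
  have hT'p : IsPGroup 2 T' := hT.comap_of_injective H.subtype H.subtype_injective
  have h1 := Cfsg.Agent.S1301.result (X := H) T' hT'p
  rw [pLayer_eq_layer (oddCyc_subgroup hG H),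
    pLayer_eq_layer (oddCyc_subgroup (oddCyc_subgroup hG H) _)] at h1
  have hcent : ∀ x : H, x ∈ centralizer (T' : Set H) → (x : G) ∈ centralizer (T : Set G) := by
    intro x hx
    rw [mem_centralizer_iff] at hx ⊢
    intro t ht
    exact congrArg Subtype.val (hx ⟨t, hTH ht⟩ ht)
  have hcent' : ∀ x : H, (x : G) ∈ centralizer (T : Set G) → x ∈ centralizer (T' : Set H) := by
    intro x hx
    rw [mem_centralizer_iff] at hx ⊢
    intro t ht
    exact Subtype.ext (hx t ht)
  let j : (centralizer (T' : Set H)) →* (H ⊓ centralizer (T : Set G) : Subgroup G) :=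
    { toFun := fun x => ⟨((x : H) : G), (x : H).2, hcent _ x.2⟩
      map_one' := rfl
      map_mul' := fun _ _ => rfl }
  have hj : Function.Injective j := by
    intro a b hab
    apply Subtype.ext
    apply Subtype.ext
    exact congrArg (fun z : (H ⊓ centralizer (T : Set G) : Subgroup G) => (z : G)) hab
  have h2 := isComponent_comap j hj hK.comp (by
    rintro ⟨x, hx⟩ hxK
    exact ⟨⟨⟨x, hx.1⟩, hcent' _ hx.2⟩, rfl⟩)
  intro x hx
  have hxH : x ∈ H := (hK.le hx).1
  have hxC : (⟨x, hxH⟩ : H) ∈ centralizer (T' : Set H) := hcent' _ (hK.le hx).2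
  have h3 : (⟨⟨x, hxH⟩, hxC⟩ : centralizer (T' : Set H)) ∈ layer (centralizer (T' : Set H)) :=
    component_le_layer h2 hx
  exact ⟨⟨x, hxH⟩, h1 ⟨_, h3, rfl⟩, rfl⟩

end Ambient

end Cfsg.Agent.OddCyclic.CompBasic
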