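import Mathlib

/-!
# Facts on the symmetric group of degree five (checked by evaluation)

`K4 i g`: `g` fixes `i`, is even and has square 1 (the four-group of the stabiliser of `i`);
`O3 g`: `g` has order three.
-/

set_option autoImplicit false
set_option linter.dupNamespace false

namespace Cfsg.Agent.OddCyclic.GamPerm

open Equiv

abbrev S5 := Perm (Fin 5)

/-- the four-group of the stabiliser of `i` -/
def K4 (i : Fin 5) (g : S5) : Prop := g i = i ∧ Equiv.Perm.sign g = 1 ∧ g * g = 1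

instance (i : Fin 5) (g : S5) : Decidable (K4 i g) := by unfold K4; infer_instance

/-- elements of order three -/
def O3 (g : S5) : Prop := g * g * g = 1 ∧ g ≠ 1

instance (g : S5) : Decidable (O3 g) := by unfold O3; infer_instance

theorem O3.sign {g : S5} (h : O3 g) : Equiv.Perm.sign g = 1 := by
  have h1 := congrArg Equiv.Perm.sign h.1
  rw [map_mul, map_mul, map_one] at h1
  rcases Int.units_eq_one_or (Equiv.Perm.sign g) with h2 | h2
  · exact h2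
  · rw [h2] at h1; exact absurd h1 (by decide)

theorem K4.conj {i : Fin 5} {g : S5} (hg : K4 i g) (h : S5) : K4 (h i) (h * g * h⁻¹) := by
  obtain ⟨h1, h2, h3⟩ := hg
  refine ⟨?_, ?_, ?_⟩
  · simp [Equiv.Perm.mul_apply, h1]
  · simp [h2]
  · calc h * g * h⁻¹ * (h * g * h⁻¹) = h * (g * g) * h⁻¹ := by group
      _ = 1 := by rw [h3]; group

set_option maxRecDepth 4000 in
theorem K4_mul : ∀ i : Fin 5, ∀ g : S5, K4 i g → ∀ h : S5, K4 i h → K4 i (g * h) := by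
  decide +kernel

theorem exists_o3_fix : ∀ i : Fin 5, ∃ g : S5, O3 g ∧ g i = i := by decide +kernel

theorem exists_even_move : ∀ i j : Fin 5, ∃ g : S5, Equiv.Perm.sign g = 1 ∧ g i = j := by decide +kernel

theorem even_fix : ∀ i : Fin 5, ∀ g : S5, g i = i → Equiv.Perm.sign g = 1 → K4 i g ∨ O3 g := by
  decide +kernel

theorem exists_mul_o3 : ∀ i : Fin 5, ∀ j : Fin 5, i ≠ j → ∃ g h : S5, K4 i g ∧ K4 j h ∧ O3 (g * h) := by
  decide +kernel

theorem exists_conj_o3 : ∀ g : S5, g * g = 1 → g ≠ 1 → ∃ h : S5, Equiv.Perm.sign h = 1 ∧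
    O3 (g * (h * g * h⁻¹)) := by
  decide +kernel

theorem exists_k4_ne : ∀ i : Fin 5, ∃ g : S5, K4 i g ∧ g ≠ 1 := by decide +kernel

theorem exists_commute_o3 : ∀ i : Fin 5, ∀ g : S5, g i = i → g * g = 1 → ¬ K4 i g →
    ∃ h : S5, O3 h ∧ g * h = h * g := by
  decide +kernel

theorem card_o3 : ∀ i : Fin 5, Fintype.card {g : S5 // O3 g ∧ g i ≠ i} = 12 := by
  decide +kernel

theorem exists_comm_o3 : ∀ i : Fin 5, ∀ g : S5, g i = i → ¬ K4 i g →
    O3 g ∨ ∃ h : S5, h i = i ∧ Equiv.Perm.sign h = 1 ∧ O3 (g * h * g⁻¹ * h⁻¹) := by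
  decide +kernel

theorem exists_comm_k4 : ∀ i : Fin 5, ∀ g : S5, g i = i → g * g = 1 → ¬ K4 i g →
    ∃ h : S5, K4 i h ∧ K4 i (g * h * g⁻¹ * h⁻¹) ∧ g * h * g⁻¹ * h⁻¹ ≠ 1 := by
  decide +kernel

theorem exists_k4_mul : ∀ i : Fin 5, ∀ g : S5, g i = i →
    O3 g ∨ ∃ h : S5, K4 i h ∧ (h * g) * (h * g) = 1 := by
  decide +kernel

theorem k4_prod : ∀ i : Fin 5, ∀ g : S5, K4 i g → ∀ h : S5, K4 i h → ∀ k : S5, K4 i k →
    g ≠ 1 → h ≠ 1 → k ≠ 1 → g ≠ h → h ≠ k → g ≠ k → g * h * k = 1 := by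
  decide +kernel

theorem exists_gen : ∀ i : Fin 5, ∃ a b : S5, K4 i a ∧ K4 i b ∧ a ≠ 1 ∧ b ≠ 1 ∧ a ≠ b ∧
    ∀ g : S5, K4 i g → g = 1 ∨ g = a ∨ g = b ∨ g = a * b := by
  decide +kernel

theorem k4_sq : ∀ i : Fin 5, ∀ g : S5, g i = i → O3 g ∨ K4 i (g * g) := by
  decide +kernel

theorem k4_rot : ∀ i : Fin 5, ∀ g : S5, K4 i g → g ≠ 1 → ∀ y : S5, y i = i → O3 y →
    g * (y * g * y⁻¹) * (y * (y * g * y⁻¹) * y⁻¹) = 1 := by
  decide +kernel

end Cfsg.Agent.OddCyclic.GamPerm
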