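import Mathlib
import Cfsg.Agent.OddCyclic.GamPerm

/-!
# The natural `ΓL₂(4)`-module

`Nat5 ρ M`: the group `C` acts on `M` (order 16, exponent 2) through `ρ : C → S₅`, the image contains `A₅`, elements
of order three act fixed-point-freely.

* `P ρ M i`: fixed points of the four-group of the stabiliser of `i` (the five `F₄`-points);
* `card_fix`, `mem_fix_iff`: involutions; `exists_P`, `P_inf`; `exists_cyc`: every two-dimensional subspace is
  normalised by an element of order three; `irr`; `k4_of_fix`, `k4_of_quot`.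
-/

set_option autoImplicit false
set_option linter.dupNamespace false
set_option linter.unusedSectionVars false

namespace Cfsg.Agent.OddCyclic.GamMod

open GamPerm

universe u v

variable {C : Type u} [Group C] {M : Type v} [AddCommGroup M] [DistribMulAction C M]

structure Nat5 (ρ : C →* S5) (M : Type v) [AddCommGroup M] [DistribMulAction C M] : Prop where
  even : ∀ g : S5, Equiv.Perm.sign g = 1 → ∃ c, ρ c = g
  ker : ∀ c, ρ c = 1 → ∀ m : M, c • m = m
  card : Nat.card M = 16
  add_self : ∀ m : M, m + m = 0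
  fpf : ∀ c, O3 (ρ c) → ∀ m : M, c • m = m → m = 0

/-- fixed points of `c` -/
def fx (M : Type v) [AddCommGroup M] [DistribMulAction C M] (c : C) : AddSubgroup M where
  carrier := {m | c • m = m}
  zero_mem' := smul_zero c
  add_mem' := by
    intro a b ha hb
    change c • (a + b) = a + b
    rw [smul_add, show c • a = a from ha, show c • b = b from hb]
  neg_mem' := by
    intro a ha
    change c • (-a) = -a
    rw [smul_neg, show c • a = a from ha]

theorem mem_fx {c : C} {m : M} : m ∈ fx M c ↔ c • m = m := Iff.rfl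

/-- fixed points of the four-group of the stabiliser of `i` -/
def P (ρ : C →* S5) (M : Type v) [AddCommGroup M] [DistribMulAction C M] (i : Fin 5) : AddSubgroup M where
  carrier := {m | ∀ c, K4 i (ρ c) → c • m = m}
  zero_mem' := fun c _ => smul_zero c
  add_mem' := by
    intro a b ha hb c hc
    rw [smul_add, ha c hc, hb c hc]
  neg_mem' := by
    intro a ha c hc
    rw [smul_neg, ha c hc]

variable {ρ : C →* S5}

theorem mem_P {i : Fin 5} {m : M} : m ∈ P ρ M i ↔ ∀ c, K4 i (ρ c) → c • m = m := Iff.rfl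

namespace Nat5

theorem neg_eq (h : Nat5 ρ M) (m : M) : -m = m := neg_eq_of_add_eq_zero_left (h.add_self m)

theorem eq_of_add (h : Nat5 ρ M) {a b : M} (hab : a + b = 0) : a = b := by
  rw [eq_neg_of_add_eq_zero_left hab, h.neg_eq]

theorem finite (h : Nat5 ρ M) : Finite M := Nat.finite_of_card_ne_zero (by rw [h.card]; norm_num)

theorem congr (h : Nat5 ρ M) {c d : C} (hcd : ρ c = ρ d) (m : M) : c • m = d • m := by
  have h1 : ρ (d⁻¹ * c) = 1 := by rw [map_mul, map_inv, hcd, inv_mul_cancel]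
  have h2 := h.ker _ h1 m
  calc c • m = d • ((d⁻¹ * c) • m) := by rw [smul_smul, mul_inv_cancel_left]
    _ = d • m := by rw [h2]

theorem smul_mem_P (_ : Nat5 ρ M) {i : Fin 5} {m : M} (hm : m ∈ P ρ M i) (c : C) : c • m ∈ P ρ M (ρ c i) := by
  intro d hd
  have h1 : K4 i (ρ (c⁻¹ * d * c)) := by
    have h2 := hd.conj (ρ c)⁻¹
    have e1 : (ρ c)⁻¹ (ρ c i) = i := by simp
    have e2 : (ρ c)⁻¹ * ρ d * ((ρ c)⁻¹)⁻¹ = ρ (c⁻¹ * d * c) := by simp
    rwa [e1, e2] at h2
  have h2 := hm _ h1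
  calc d • c • m = c • ((c⁻¹ * d * c) • m) := by
        rw [smul_smul, smul_smul]; congr 1; group
    _ = c • m := by rw [h2]

theorem smul_mem_P' (h : Nat5 ρ M) {i : Fin 5} {m : M} (hm : m ∈ P ρ M i) {c : C} (hc : ρ c i = i) :
    c • m ∈ P ρ M i := by
  have := h.smul_mem_P hm c
  rwa [hc] at this

theorem P_inf (h : Nat5 ρ M) {i j : Fin 5} (hij : i ≠ j) {m : M} (hi : m ∈ P ρ M i) (hj : m ∈ P ρ M j) :
    m = 0 := by
  obtain ⟨g, k, hg, hk, h3⟩ := exists_mul_o3 i j hij
  obtain ⟨c, rfl⟩ := h.even g hg.2.1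
  obtain ⟨d, rfl⟩ := h.even k hk.2.1
  rw [← map_mul] at h3
  refine h.fpf _ h3 m ?_
  rw [mul_smul, hj d hk, hi c hg]

theorem idx_fix (h : Nat5 ρ M) {i : Fin 5} {m : M} (hm : m ∈ P ρ M i) (hm0 : m ≠ 0) {c : C}
    (hc : c • m = m) : ρ c i = i := by
  by_contra hne
  refine hm0 (h.P_inf hne ?_ hm)
  have := h.smul_mem_P hm c
  rwa [hc] at this

theorem k4_of_fix (h : Nat5 ρ M) {i : Fin 5} {m : M} (hm : m ∈ P ρ M i) (hm0 : m ≠ 0) {c : C}
    (hc : c • m = m) (hs : Equiv.Perm.sign (ρ c) = 1) : K4 i (ρ c) := by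
  rcases even_fix i (ρ c) (h.idx_fix hm hm0 hc) hs with h1 | h1
  · exact h1
  · exact absurd (h.fpf c h1 m hc) hm0

/-- `d m = c m + m` -/
def dd (M : Type v) [AddCommGroup M] [DistribMulAction C M] (c : C) : M →+ M where
  toFun m := c • m + m
  map_zero' := by simp
  map_add' := by
    intro a b
    rw [smul_add]; abel

theorem dd_apply {c : C} {m : M} : dd M c m = c • m + m := rfl

theorem ker_dd (h : Nat5 ρ M) (c : C) : (dd M c).ker = fx M c := by
  ext m
  rw [AddMonoidHom.mem_ker, dd_apply, mem_fx]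
  constructor
  · exact h.eq_of_add
  · intro e; rw [e, h.add_self]

theorem card_dd (h : Nat5 ρ M) (c : C) : Nat.card (dd M c).range * Nat.card (fx M c) = 16 := by
  have := h.finite
  rw [← h.card, ← h.ker_dd c]
  have h1 := AddSubgroup.card_eq_card_quotient_mul_card_addSubgroup (dd M c).ker
  rw [h1]
  congr 1
  exact Nat.card_congr (QuotientAddGroup.quotientKerEquivRange (dd M c)).symm.toEquiv

theorem smul_fx (c d : C) {m : M} (hm : m ∈ fx M c) : d • m ∈ fx M (d * c * d⁻¹) := by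
  rw [mem_fx] at hm ⊢
  rw [smul_smul, inv_mul_cancel_right, mul_smul, hm]

theorem card_fx_conj (c d : C) : Nat.card (fx M (d * c * d⁻¹)) = Nat.card (fx M c) := by
  refine Nat.card_congr ⟨fun m => ⟨d⁻¹ • (m : M), ?_⟩, fun m => ⟨d • (m : M), smul_fx c d m.2⟩, ?_, ?_⟩
  · have := smul_fx (d * c * d⁻¹) d⁻¹ m.2
    have e : d⁻¹ * (d * c * d⁻¹) * d⁻¹⁻¹ = c := by group
    rwa [e] at this
  · intro m; ext; simp
  · intro m; ext; simp

theorem card_add_le (h : Nat5 ρ M) {A B : AddSubgroup M} (hAB : ∀ m, m ∈ A → m ∈ B → m = 0) :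
    Nat.card A * Nat.card B ≤ 16 := by
  have := h.finite
  rw [← Nat.card_prod, ← h.card]
  refine Nat.card_le_card_of_injective (fun p : A × B => (p.1 : M) + p.2) ?_
  rintro ⟨a, b⟩ ⟨a', b'⟩ he
  have he' : (a : M) + b = a' + b' := he
  have h1 : (a : M) - a' = b' - b := by
    rw [sub_eq_sub_iff_add_eq_add, he', add_comm]
  have h2 : (a : M) - a' = 0 := hAB _ (A.sub_mem a.2 a'.2) (by rw [h1]; exact B.sub_mem b'.2 b.2)
  have h3 : (b' : M) - b = 0 := by rw [← h1]; exact h2
  rw [sub_eq_zero] at h2 h3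
  exact Prod.ext (Subtype.ext h2) (Subtype.ext h3.symm)

theorem range_dd_le (h : Nat5 ρ M) {c : C} (hc : ρ c * ρ c = 1) : (dd M c).range ≤ fx M c := by
  rintro _ ⟨m, rfl⟩
  rw [mem_fx, dd_apply, smul_add, smul_smul]
  rw [h.ker (c * c) (by rw [map_mul, hc]), add_comm]

theorem card_fix_ge (h : Nat5 ρ M) {c : C} {n : ℕ} (hn : Nat.card (dd M c).range ≤ n) :
    16 ≤ n * Nat.card (fx M c) := by
  rw [← h.card_dd c]
  exact Nat.mul_le_mul_right _ hn

theorem card_fx (h : Nat5 ρ M) {c : C} (hc : ρ c * ρ c = 1) (hc1 : ρ c ≠ 1) : Nat.card (fx M c) = 4 := by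
  have := h.finite
  have h1 : Nat.card (dd M c).range ≤ Nat.card (fx M c) :=
    AddSubgroup.card_le_of_le (h.range_dd_le hc)
  have h2 := h.card_fix_ge h1
  have h3 : Nat.card (fx M c) * Nat.card (fx M c) ≤ 16 := by
    obtain ⟨g, hg, h3⟩ := exists_conj_o3 (ρ c) hc hc1
    obtain ⟨d, rfl⟩ := h.even g hg
    conv_lhs => rw [← card_fx_conj c d, card_fx_conj c d]
    conv_lhs => arg 2; rw [← card_fx_conj c d]
    refine h.card_add_le fun m hm1 hm2 => ?_
    have h4 : O3 (ρ (c * (d * c * d⁻¹))) := by simpa using h3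
    refine h.fpf _ h4 m ?_
    rw [mul_smul, mem_fx.mp hm2, mem_fx.mp hm1]
  nlinarith

theorem fx_eq_range (h : Nat5 ρ M) {c : C} (hc : ρ c * ρ c = 1) (hc1 : ρ c ≠ 1) :
    (dd M c).range = fx M c := by
  have := h.finite
  have h1 := h.card_fx hc hc1
  have h2 := h.card_dd c
  refine AddSubgroup.eq_of_le_of_card_ge (h.range_dd_le hc) ?_
  rw [h1] at h2 ⊢
  omega

/-- involutions: `C_M(c) = [M,c]` -/
theorem mem_fx_iff (h : Nat5 ρ M) {c : C} (hc : ρ c * ρ c = 1) (hc1 : ρ c ≠ 1) {m : M} :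
    c • m = m ↔ ∃ n : M, m = c • n + n := by
  rw [← mem_fx, ← h.fx_eq_range hc hc1, AddMonoidHom.mem_range]
  constructor
  · rintro ⟨n, rfl⟩; exact ⟨n, rfl⟩
  · rintro ⟨n, rfl⟩; exact ⟨n, rfl⟩

theorem three_sum (h : Nat5 ρ M) {c : C} (hc : O3 (ρ c)) (m : M) : m + c • m + c • c • m = 0 := by
  refine h.fpf c hc _ ?_
  have h1 : c • c • c • m = m := by
    rw [smul_smul, smul_smul]
    exact h.ker _ (by rw [map_mul, map_mul]; simpa [mul_assoc] using hc.1) m
  rw [smul_add, smul_add, h1]; abel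

/-- a subgroup invariant under an element of order three -/
theorem card_mod_three (h : Nat5 ρ M) {c : C} (hc : O3 (ρ c)) {U : AddSubgroup M}
    (hU : ∀ m ∈ U, c • m ∈ U) : Nat.card U % 3 = 1 := by
  classical
  have := h.finite
  have := Fintype.ofFinite U
  let f : Function.End U := fun m => ⟨c • (m : M), hU m m.2⟩
  have hf : f ^ 3 ^ 1 = 1 := by
    rw [pow_one, pow_succ, pow_succ, pow_one]
    funext m
    ext
    change c • c • c • (m : M) = m
    rw [smul_smul, smul_smul]
    exact h.ker _ (by rw [map_mul, map_mul]; simpa [mul_assoc] using hc.1) _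
  have h1 := Equiv.Perm.card_fixedPoints_modEq (p := 3) (n := 1) hf
  have h2 : Fintype.card (Function.fixedPoints f) = 1 := by
    rw [Fintype.card_eq_one_iff]
    refine ⟨⟨0, ?_⟩, ?_⟩
    · apply Subtype.ext
      change c • (0 : M) = 0
      exact smul_zero c
    · rintro ⟨m, hm⟩
      apply Subtype.ext
      apply Subtype.ext
      have hm' : f m = m := hm
      exact h.fpf c hc m (congrArg Subtype.val hm')
  rw [h2] at h1
  rw [Nat.card_eq_fintype_card]
  exact h1

theorem P_le_fx (_ : Nat5 ρ M) {i : Fin 5} {c : C} (hc : K4 i (ρ c)) : P ρ M i ≤ fx M c := fun _ hm => hm c hc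

theorem exists_ne_zero (h : Nat5 ρ M) (i : Fin 5) : ∃ m ∈ P ρ M i, m ≠ 0 := by
  classical
  have := h.finite
  obtain ⟨g, k, hg, hk, hg1, hk1, hgk, hall⟩ := exists_gen i
  obtain ⟨a, ha⟩ := h.even g hg.2.1
  obtain ⟨b, hb⟩ := h.even k hk.2.1
  have hc1 : Nat.card (fx M a) = 4 := h.card_fx (by rw [ha]; exact hg.2.2) (by rw [ha]; exact hg1)
  have hab : ρ (a * b) = ρ (b * a) := by
    rw [map_mul, map_mul, ha, hb]
    have h1 := (K4_mul i g hg k hk).2.2
    have e1 : g⁻¹ = g := inv_eq_of_mul_eq_one_left hg.2.2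
    have e2 : k⁻¹ = k := inv_eq_of_mul_eq_one_left hk.2.2
    calc g * k = (g * k)⁻¹ := (inv_eq_of_mul_eq_one_left h1).symm
      _ = k⁻¹ * g⁻¹ := by group
      _ = k * g := by rw [e1, e2]
  have hinv : ∀ m ∈ fx M a, b • m ∈ fx M a := by
    intro m hm
    rw [mem_fx] at hm ⊢
    rw [smul_smul, h.congr hab, mul_smul, hm]
  have := Fintype.ofFinite (fx M a)
  let f : Function.End (fx M a) := fun m => ⟨b • (m : M), hinv m m.2⟩
  have hf : f ^ 2 ^ 1 = 1 := by
    rw [pow_one, pow_two]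
    funext m
    ext
    change b • b • (m : M) = m
    rw [smul_smul]
    exact h.ker _ (by rw [map_mul, hb]; exact hk.2.2) _
  have h1 := Equiv.Perm.card_fixedPoints_modEq (p := 2) (n := 1) hf
  rw [← Nat.card_eq_fintype_card (α := fx M a), hc1] at h1
  have h0 : (0 : fx M a) ∈ Function.fixedPoints f := by
    apply Subtype.ext
    change b • (0 : M) = 0
    exact smul_zero b
  have h2 : ∃ m : Function.fixedPoints f, m ≠ ⟨0, h0⟩ := by
    by_contra hcon
    push Not at hcon
    have h3 : Fintype.card (Function.fixedPoints f) = 1 := Fintype.card_eq_one_iff.mpr ⟨_, hcon⟩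
    rw [h3] at h1
    exact absurd h1 (by decide)
  obtain ⟨⟨m, hm⟩, hm0⟩ := h2
  have hm' : f m = m := hm
  have hbm : b • (m : M) = m := congrArg Subtype.val hm'
  refine ⟨m, ?_, fun e => hm0 (Subtype.ext (Subtype.ext e))⟩
  intro c hc
  rcases hall _ hc with e | e | e | e
  · exact h.ker c e m
  · rw [h.congr (e.trans ha.symm)]; exact m.2
  · rw [h.congr (e.trans hb.symm)]; exact hbm
  · rw [h.congr (d := a * b) (by rw [map_mul, ha, hb]; exact e), mul_smul, hbm]; exact m.2

theorem card_P (h : Nat5 ρ M) (i : Fin 5) : Nat.card (P ρ M i) = 4 := by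
  have := h.finite
  obtain ⟨g, hg, hg1⟩ := exists_k4_ne i
  obtain ⟨a, rfl⟩ := h.even g hg.2.1
  have h1 : Nat.card (P ρ M i) ∣ 4 := by
    rw [← h.card_fx hg.2.2 hg1]
    exact AddSubgroup.card_dvd_of_le (h.P_le_fx hg)
  obtain ⟨x, hx, hxi⟩ := exists_o3_fix i
  obtain ⟨d, rfl⟩ := h.even x hx.sign
  have h2 := h.card_mod_three hx (U := P ρ M i) (fun m hm => h.smul_mem_P' hm hxi)
  have h3 : Nat.card (P ρ M i) ≠ 1 := by
    intro e
    obtain ⟨m, hm, hm0⟩ := h.exists_ne_zero i
    rw [AddSubgroup.card_eq_one] at e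
    rw [e] at hm
    exact hm0 hm
  have h4 : Nat.card (P ρ M i) ≤ 4 := Nat.le_of_dvd (by norm_num) h1
  have h5 : Nat.card (P ρ M i) ≠ 0 := Nat.card_pos.ne'
  interval_cases (Nat.card (P ρ M i)) <;> simp_all

theorem fx_eq_P (h : Nat5 ρ M) {i : Fin 5} {c : C} (hc : K4 i (ρ c)) (hc1 : ρ c ≠ 1) : fx M c = P ρ M i := by
  have := h.finite
  symm
  refine AddSubgroup.eq_of_le_of_card_ge (h.P_le_fx hc) ?_
  rw [h.card_P, h.card_fx hc.2.2 hc1]

theorem exists_P (h : Nat5 ρ M) (m : M) : ∃ i, m ∈ P ρ M i := by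
  classical
  have := h.finite
  have := Fintype.ofFinite M
  by_contra hcon
  push Not at hcon
  have hm0 : m ≠ 0 := fun e => hcon 0 (by rw [e]; exact zero_mem _)
  let S : Fin 5 → Finset M := fun i => (Finset.univ.filter (fun x => x ∈ P ρ M i)).erase 0
  have hS : ∀ i, (S i).card = 3 := by
    intro i
    have h1 : (Finset.univ.filter (fun x => x ∈ P ρ M i)).card = 4 := by
      rw [← h.card_P i, Nat.card_eq_fintype_card, Fintype.card_subtype]
    rw [Finset.card_erase_of_mem (by simp [zero_mem]), h1]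
  have hd : ∀ i ∈ (Finset.univ : Finset (Fin 5)), ∀ j ∈ (Finset.univ : Finset (Fin 5)), i ≠ j →
      Disjoint (S i) (S j) := by
    intro i _ j _ hij
    rw [Finset.disjoint_left]
    intro x hx hx'
    simp only [S, Finset.mem_erase, Finset.mem_filter, Finset.mem_univ, true_and] at hx hx'
    exact hx.1 (h.P_inf hij hx.2 hx'.2)
  have h1 : (Finset.univ.biUnion S).card = 15 := by
    rw [Finset.card_biUnion hd]
    simp [hS]
  have h2 : Finset.univ.biUnion S ⊆ (Finset.univ.erase (0 : M)).erase m := by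
    intro x hx
    rw [Finset.mem_biUnion] at hx
    obtain ⟨i, _, hx⟩ := hx
    simp only [S, Finset.mem_erase, Finset.mem_filter, Finset.mem_univ, true_and] at hx
    rw [Finset.mem_erase, Finset.mem_erase]
    exact ⟨fun e => hcon i (e ▸ hx.2), hx.1, Finset.mem_univ _⟩
  have h3 := Finset.card_le_card h2
  rw [h1, Finset.card_erase_of_mem (Finset.mem_erase.mpr ⟨hm0, Finset.mem_univ _⟩),
    Finset.card_erase_of_mem (Finset.mem_univ _), Finset.card_univ, ← Nat.card_eq_fintype_card, h.card] at h3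
  omega

/-- inside `P i` a 3-element is transitive -/
theorem P_cases (h : Nat5 ρ M) {i : Fin 5} {c : C} (hc : O3 (ρ c)) (hci : ρ c i = i) {m n : M}
    (hm : m ∈ P ρ M i) (hm0 : m ≠ 0) (hn : n ∈ P ρ M i) (hn0 : n ≠ 0) :
    n = m ∨ n = c • m ∨ n = c • c • m := by
  classical
  have := h.finite
  have := Fintype.ofFinite (P ρ M i)
  by_contra hcon
  push Not at hcon
  obtain ⟨h1, h2, h3⟩ := hcon
  have hcm : c • m ≠ m := fun e => hm0 (h.fpf c hc m e)
  have hcm0 : c • m ≠ 0 := fun e => hm0 ((smul_eq_zero_iff_eq c).mp e)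
  have hccm0 : c • c • m ≠ 0 := fun e => hcm0 ((smul_eq_zero_iff_eq c).mp e)
  have hccm : c • c • m ≠ c • m := fun e => hcm (by simpa using e)
  have hccm' : c • c • m ≠ m := by
    intro e
    have h4 := h.three_sum hc m
    rw [e, add_right_comm, h.add_self, zero_add] at h4
    exact hcm0 h4
  let S : Finset M := {0, m, c • m, c • c • m, n}
  have hS : S.card = 5 := by
    simp only [S]
    rw [Finset.card_insert_of_notMem, Finset.card_insert_of_notMem, Finset.card_insert_of_notMem,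
      Finset.card_insert_of_notMem, Finset.card_singleton]
    · simpa using fun e => h3 e.symm
    · simp only [Finset.mem_insert, Finset.mem_singleton, not_or]
      exact ⟨hccm.symm, fun e => h2 e.symm⟩
    · simp only [Finset.mem_insert, Finset.mem_singleton, not_or]
      exact ⟨hcm.symm, hccm'.symm, fun e => h1 e.symm⟩
    · simp only [Finset.mem_insert, Finset.mem_singleton, not_or]
      exact ⟨hm0.symm, hcm0.symm, hccm0.symm, hn0.symm⟩
  have h5 : (S : Set M) ⊆ (P ρ M i : Set M) := by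
    intro x hx
    simp only [S, Finset.coe_insert, Finset.coe_singleton, Set.mem_insert_iff, Set.mem_singleton_iff] at hx
    rcases hx with rfl | rfl | rfl | rfl | rfl
    · exact zero_mem _
    · exact hm
    · exact h.smul_mem_P' hm hci
    · exact h.smul_mem_P' (h.smul_mem_P' hm hci) hci
    · exact hn
  have h6 := Set.ncard_le_ncard h5 (Set.toFinite _)
  rw [Set.ncard_coe_finset, hS] at h6
  have h7 : (P ρ M i : Set M).ncard = 4 := by rw [← h.card_P i]; rfl
  omega

theorem trans (h : Nat5 ρ M) {m n : M} (hm : m ≠ 0) (hn : n ≠ 0) :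
    ∃ c, Equiv.Perm.sign (ρ c) = 1 ∧ c • m = n := by
  obtain ⟨i, hi⟩ := h.exists_P m
  obtain ⟨j, hj⟩ := h.exists_P n
  obtain ⟨g, hg, hgi⟩ := exists_even_move i j
  obtain ⟨d, rfl⟩ := h.even g hg
  obtain ⟨x, hx, hxj⟩ := exists_o3_fix j
  obtain ⟨c, rfl⟩ := h.even x hx.sign
  have hdm : d • m ∈ P ρ M j := by
    have := h.smul_mem_P hi d
    rwa [hgi] at this
  have hdm0 : d • m ≠ 0 := fun e => hm ((smul_eq_zero_iff_eq d).mp e)
  rcases h.P_cases hx hxj hdm hdm0 hj hn with e | e | e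
  · exact ⟨d, hg, e.symm⟩
  · exact ⟨c * d, by rw [map_mul, Equiv.Perm.sign_mul, hg, hx.sign, one_mul], by rw [mul_smul, e]⟩
  · exact ⟨c * (c * d), by rw [map_mul, Equiv.Perm.sign_mul, map_mul, Equiv.Perm.sign_mul, hg, hx.sign]; rfl,
      by rw [mul_smul, mul_smul, e]⟩

/-- irreducibility under the even part -/
theorem irr (h : Nat5 ρ M) {U : AddSubgroup M}
    (hU : ∀ c, Equiv.Perm.sign (ρ c) = 1 → ∀ m ∈ U, c • m ∈ U) {m : M} (hm : m ∈ U) (hm0 : m ≠ 0) (n : M) :
    n ∈ U := by
  by_cases hn : n = 0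
  · rw [hn]; exact zero_mem _
  · obtain ⟨c, hc, rfl⟩ := h.trans hm0 hn
    exact hU c hc m hm

/-- the pointwise stabiliser of `P i` is the four-group -/
theorem k4_of_P (h : Nat5 ρ M) {i : Fin 5} {c : C} (hc : ∀ m ∈ P ρ M i, c • m = m) : K4 i (ρ c) := by
  obtain ⟨m, hm, hm0⟩ := h.exists_ne_zero i
  have hci := h.idx_fix hm hm0 (hc m hm)
  by_contra hK
  rcases exists_comm_o3 i _ hci hK with h1 | ⟨g, hgi, hg, h3⟩
  · exact hm0 (h.fpf c h1 m (hc m hm))
  · obtain ⟨d, rfl⟩ := h.even g hg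
    have h4 : O3 (ρ (c * d * c⁻¹ * d⁻¹)) := by simpa using h3
    refine hm0 (h.fpf _ h4 m ?_)
    have hdi : ρ d⁻¹ i = i := by
      rw [map_inv]
      calc (ρ d)⁻¹ i = (ρ d)⁻¹ (ρ d i) := by rw [hgi]
        _ = i := by simp
    have hc' : ∀ m ∈ P ρ M i, c⁻¹ • m = m := fun m hm => by
      calc c⁻¹ • m = c⁻¹ • c • m := by rw [hc m hm]
        _ = m := by simp
    have h5 := h.smul_mem_P' hm hdi
    rw [mul_smul, mul_smul, mul_smul, hc' _ h5, smul_inv_smul, hc m hm]

/-- elements acting trivially on `M / P i` are in the four-group -/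
theorem k4_of_quot (h : Nat5 ρ M) {i : Fin 5} {c : C} (hci : ρ c i = i)
    (hc : ∀ m : M, c • m + m ∈ P ρ M i) : K4 i (ρ c) := by
  have := h.finite
  have hr : (dd M c).range ≤ P ρ M i := by
    rintro _ ⟨m, rfl⟩
    exact hc m
  have h1 : Nat.card (dd M c).range ≤ 4 := by
    rw [← h.card_P i]; exact AddSubgroup.card_le_of_le hr
  have h2 := h.card_fix_ge h1
  refine h.k4_of_P fun m hm => ?_
  rcases k4_sq i _ hci with h3 | h3
  · exfalso
    have h4 : Nat.card (fx M c) = 1 := by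
      rw [AddSubgroup.card_eq_one, eq_bot_iff]
      intro x hx
      exact h.fpf c h3 x hx
    omega
  by_cases h4 : ρ c * ρ c = 1
  · by_cases h5 : ρ c = 1
    · exact h.ker c h5 m
    · have h6 := h.card_fx h4 h5
      have h7 : fx M c = P ρ M i := by
        rw [← h.fx_eq_range h4 h5] at h6 ⊢
        exact AddSubgroup.eq_of_le_of_card_ge hr (by rw [h6, h.card_P])
      rw [← h7] at hm
      exact hm
  · have h5 : fx M (c * c) = P ρ M i := h.fx_eq_P (by rw [map_mul]; exact h3) (by rw [map_mul]; exact h4)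
    have h6 : fx M c ≤ P ρ M i := by
      rw [← h5]
      intro x hx
      rw [mem_fx] at hx ⊢
      rw [mul_smul, hx, hx]
    have h7 : fx M c = P ρ M i := AddSubgroup.eq_of_le_of_card_ge h6 (by rw [h.card_P]; omega)
    rw [← h7] at hm
    exact hm

/-- elements of the four-group act trivially on `M / P i` -/
theorem quot_of_k4 (h : Nat5 ρ M) {i : Fin 5} {c : C} (hc : K4 i (ρ c)) (m : M) :
    c • m + m ∈ P ρ M i := by
  by_cases h1 : ρ c = 1
  · rw [h.ker c h1, h.add_self]; exact zero_mem _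
  · rw [← h.fx_eq_P hc h1, ← h.fx_eq_range hc.2.2 h1]
    exact ⟨m, rfl⟩

/-- every two-dimensional subspace is normalised by an element of order three -/
theorem exists_cyc (h : Nat5 ρ M) {m n : M} (hm : m ≠ 0) (hn : n ≠ 0) (hmn : m ≠ n) :
    ∃ c, O3 (ρ c) ∧ c • m = n ∧ c • n = m + n := by
  classical
  have := h.finite
  obtain ⟨i, hi⟩ := h.exists_P m
  -- it is enough to find `c` with `c • m = n`
  have key : (∃ c, O3 (ρ c) ∧ c • m = n) → ∃ c, O3 (ρ c) ∧ c • m = n ∧ c • n = m + n := by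
    rintro ⟨c, hc, h1⟩
    refine ⟨c, hc, h1, ?_⟩
    have h2 := h.three_sum hc m
    rw [h1] at h2
    exact (h.eq_of_add h2).symm
  apply key
  by_cases hni : n ∈ P ρ M i
  · obtain ⟨x, hx, hxi⟩ := exists_o3_fix i
    obtain ⟨c, rfl⟩ := h.even x hx.sign
    rcases h.P_cases hx hxi hi hm hni hn with e | e | e
    · exact absurd e.symm hmn
    · exact ⟨c, hx, e.symm⟩
    · refine ⟨c * c, ⟨?_, ?_⟩, by rw [mul_smul, e]⟩
      · rw [map_mul]
        calc ρ c * ρ c * (ρ c * ρ c) * (ρ c * ρ c) = (ρ c * ρ c * ρ c) * (ρ c * ρ c * ρ c) := by group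
          _ = 1 := by rw [hx.1, one_mul]
      · rw [map_mul]
        intro e2
        apply hx.2
        calc ρ c = ρ c * ρ c * ρ c := by rw [e2, one_mul]
          _ = 1 := hx.1
  · -- counting
    let T := {g : S5 // O3 g ∧ g i ≠ i}
    let N := {x : M // x ∉ P ρ M i}
    have hl : ∀ g : T, ∃ c, ρ c = g.1 := fun g => h.even g.1 g.2.1.sign
    choose l hl using hl
    have hmem : ∀ g : T, l g • m ∉ P ρ M i := by
      intro g hg
      have h1 := h.smul_mem_P hi (l g)
      have h2 : l g • m = 0 := h.P_inf (by rw [hl g]; exact g.2.2) h1 hg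
      exact hm ((smul_eq_zero_iff_eq _).mp h2)
    let f : T → N := fun g => ⟨l g • m, hmem g⟩
    have hT : Nat.card T = 12 := by rw [Nat.card_eq_fintype_card]; exact card_o3 i
    have hN : Nat.card N = 12 := by
      have h1 : Nat.card (P ρ M i) + Nat.card N = 16 := by
        rw [← h.card]
        have := Fintype.ofFinite M
        have h2 := Nat.card_congr (Equiv.sumCompl (fun x : M => x ∈ P ρ M i))
        rw [Nat.card_sum] at h2
        exact h2
      rw [h.card_P] at h1
      omega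
    have hinj : Function.Injective f := by
      intro g k hgk
      have h1 : l g • m = l k • m := congrArg Subtype.val hgk
      have hg3 : O3 (ρ (l g)) := by rw [hl g]; exact g.2.1
      have hk3 : O3 (ρ (l k)) := by rw [hl k]; exact k.2.1
      have h2 : l g • l g • m = l k • l k • m := by
        have e1 := h.three_sum hg3 m
        have e2 := h.three_sum hk3 m
        rw [← h.eq_of_add e1, ← h.eq_of_add e2, h1]
      obtain ⟨j, hj⟩ := h.exists_P (l g • m)
      have hji : j ≠ i := fun e => hmem g (e ▸ hj)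
      have hs : Equiv.Perm.sign (ρ ((l g)⁻¹ * l k)) = 1 := by
        rw [map_mul, map_inv, Equiv.Perm.sign_mul, Equiv.Perm.sign_inv, hg3.sign, hk3.sign, one_mul]
      have e1 : ((l g)⁻¹ * l k) • m = m := by rw [mul_smul, ← h1, inv_smul_smul]
      have e2 : ((l g)⁻¹ * l k) • (l g • m) = l g • m := by
        conv_lhs => rw [h1]
        rw [mul_smul, ← h2, inv_smul_smul]
      have hm0' : l g • m ≠ 0 := fun e => hm ((smul_eq_zero_iff_eq _).mp e)
      have k1 := h.k4_of_fix hi hm e1 hs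
      have k2 := h.k4_of_fix hj hm0' e2 hs
      -- the intersection of the four-groups is trivial
      have h3 : ρ ((l g)⁻¹ * l k) = 1 := by
        by_contra hne
        have h4 := h.fx_eq_P k1 hne
        have h5 := h.fx_eq_P k2 hne
        rw [h4] at h5
        obtain ⟨y, hy, hy0⟩ := h.exists_ne_zero i
        exact hy0 (h.P_inf hji (h5 ▸ hy) hy)
      have h6 : ρ (l g) = ρ (l k) := by
        rw [map_mul, map_inv] at h3
        exact (inv_mul_eq_one.mp h3)
      apply Subtype.ext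
      rw [← hl g, ← hl k, h6]
    have hbij : Function.Bijective f := by
      have : Finite N := Subtype.finite
      rw [Nat.bijective_iff_injective_and_card]
      exact ⟨hinj, by rw [hT, hN]⟩
    obtain ⟨g, hg⟩ := hbij.2 ⟨n, hni⟩
    exact ⟨l g, by rw [hl g]; exact g.2.1, congrArg Subtype.val hg⟩

end Nat5

end Cfsg.Agent.OddCyclic.GamMod
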