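import Mathlib
import Cfsg.Agent.MinSimple.Sec
import Cfsg.Agent.OddCyclic.GamMod

/-!
# An elementary abelian group of order 32 with `ΓL₂(4)` on the quotient by `⟨x⟩`, inside a group

`Loc W x ρ`: `W` is elementary abelian of order 32, normalised by `C_G(x)`, `x ∈ W`, and `ρ : C_G(x) → S₅` makes
`W/⟨x⟩` the natural `ΓL₂(4)`-module. All consequences of `GamMod` are transferred to statements on elements of `G`.
-/

set_option autoImplicit false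
set_option linter.dupNamespace false
set_option linter.unusedSectionVars false

namespace Cfsg.Agent.OddCyclic.GamLoc

open Subgroup Cfsg.Agent.MinSimple Cfsg.Agent.MinSimple.Sec GamPerm GamMod

universe u

variable {G : Type u} [Group G]

/-- `a` and `b` agree modulo `⟨x⟩` -/
def Cg (x a b : G) : Prop := a = b ∨ a = b * x

structure Loc (W : Subgroup G) (x : G) (ρ : centralizer ({x} : Set G) →* S5) : Prop where
  x_ne : x ≠ 1
  x_mem : x ∈ W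
  comm : ∀ a ∈ W, ∀ b ∈ W, a * b = b * a
  sq : ∀ a ∈ W, a * a = 1
  norm : ∀ c ∈ centralizer ({x} : Set G), ∀ w ∈ W, c * w * c⁻¹ ∈ W
  card : Nat.card W = 32
  even : ∀ g : S5, Equiv.Perm.sign g = 1 → ∃ c, ρ c = g
  ker : ∀ c, ρ c = 1 ↔ ∀ w ∈ W, Cg x ((c : G) * w * (c : G)⁻¹) w
  fpf : ∀ c, O3 (ρ c) → ∀ w ∈ W, Cg x ((c : G) * w * (c : G)⁻¹) w → w = 1 ∨ w = x

namespace Loc

variable {W : Subgroup G} {x : G} {ρ : centralizer ({x} : Set G) →* S5}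

theorem xx (h : Loc W x ρ) : x * x = 1 := h.sq x h.x_mem

theorem inv (h : Loc W x ρ) {a : G} (ha : a ∈ W) : a⁻¹ = a := inv_eq_of_mul_eq_one_left (h.sq a ha)

theorem le_centralizer (h : Loc W x ρ) : W ≤ centralizer ({x} : Set G) := fun a ha =>
  mem_centralizer_singleton_iff.mpr (h.comm a ha x h.x_mem)

theorem sec (h : Loc W x ρ) : Sec W (centralizer ({x} : Set G)) x where
  zN := h.x_mem
  zz := h.xx
  NC := h.le_centralizer
  zC := fun _ hc => mem_centralizer_singleton_iff.mp hc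
  CN := h.norm
  sq := fun n hn => Or.inl (h.sq n hn)

theorem mk_eq_iff (h : Loc W x ρ) {a b : G} (ha : a ∈ W) (hb : b ∈ W) :
    Sec.Mod.mk h.sec a ha = Sec.Mod.mk h.sec b hb ↔ Cg x a b := by
  rw [Sec.Mod.mk_eq, mem_zpowers h.xx]
  unfold Cg
  constructor
  · rintro (e | e)
    · left; exact (inv_mul_eq_one.mp e)
    · right
      rw [inv_mul_eq_iff_eq_mul] at e
      rw [e, mul_assoc, h.xx, mul_one]
  · rintro (e | e)
    · left; rw [e, inv_mul_cancel]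
    · right
      rw [e]
      have h1 : b * x = x * b := h.comm b hb x h.x_mem
      calc (b * x)⁻¹ * b = x⁻¹ * (b⁻¹ * b) := by group
        _ = x := by rw [inv_mul_cancel, mul_one, h.inv h.x_mem]

theorem mk_eq_zero_iff (h : Loc W x ρ) {a : G} (ha : a ∈ W) :
    Sec.Mod.mk h.sec a ha = 0 ↔ a = 1 ∨ a = x := by
  rw [Sec.Mod.mk_eq_zero, mem_zpowers h.xx]

theorem finite_W (h : Loc W x ρ) : Finite W := Nat.finite_of_card_ne_zero (by rw [h.card]; norm_num)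

theorem card_zpowers (h : Loc W x ρ) : Nat.card (zpowers x) = 2 := by
  rw [Nat.card_zpowers]
  exact orderOf_eq_prime (by rw [pow_two]; exact h.xx) h.x_ne

/-- the cardinality of a preimage -/
theorem card_eq (h : Loc W x ρ) {U : Subgroup G} (hU : U ≤ W) (hx : x ∈ U) :
    Nat.card U = 2 * Nat.card (Sec.Mod.sub h.sec U) := by
  have := h.finite_W
  -- the map `U → sub U`
  have hfin : Finite U := Finite.of_injective (Subgroup.inclusion hU) (Subgroup.inclusion_injective hU)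
  let f : U →* Multiplicative (Sec.Mod.sub h.sec U) :=
    { toFun := fun u => Multiplicative.ofAdd ⟨Sec.Mod.mk h.sec u (hU u.2), (Sec.Mod.mem_sub hx (hU u.2)).mpr u.2⟩
      map_one' := rfl
      map_mul' := fun a b => rfl }
  have hf : Function.Surjective f := by
    intro y
    obtain ⟨m, hm⟩ : ∃ m, Multiplicative.ofAdd m = y := ⟨Multiplicative.toAdd y, rfl⟩
    obtain ⟨u, hu, hu', e⟩ := m.2
    refine ⟨⟨u, hu⟩, ?_⟩
    rw [← hm]
    change Multiplicative.ofAdd _ = _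
    congr 1
    exact Subtype.ext e
  have hk : Nat.card f.ker = 2 := by
    rw [← h.card_zpowers]
    refine Nat.card_congr ⟨fun u => ⟨u.1.1, ?_⟩, fun y => ⟨⟨y.1, ?_⟩, ?_⟩, ?_, ?_⟩
    · have h1 : f u.1 = 1 := u.2
      have h2 : Sec.Mod.mk h.sec u.1.1 (hU u.1.2) = 0 := congrArg (fun t => (Multiplicative.toAdd t).1) h1
      rwa [Sec.Mod.mk_eq_zero] at h2
    · exact (zpowers_le.mpr hx) y.2
    · change f _ = 1
      change Multiplicative.ofAdd _ = Multiplicative.ofAdd _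
      congr 1
      apply Subtype.ext
      change Sec.Mod.mk h.sec y.1 _ = 0
      rw [Sec.Mod.mk_eq_zero]; exact y.2
    · intro u; rfl
    · intro y; rfl
  have h1 := Subgroup.card_eq_card_quotient_mul_card_subgroup f.ker
  rw [h1, hk, mul_comm]
  congr 1
  have h2 := Nat.card_congr (QuotientGroup.quotientKerEquivOfSurjective f hf).toEquiv
  rw [h2]
  exact Nat.card_congr Multiplicative.toAdd

theorem sub_W (h : Loc W x ρ) : Sec.Mod.sub h.sec W = ⊤ := by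
  rw [eq_top_iff]
  intro m _
  obtain ⟨n, hn, rfl⟩ := Sec.Mod.mk_surj m
  exact (Sec.Mod.mem_sub h.x_mem hn).mpr hn

theorem card_mod (h : Loc W x ρ) : Nat.card (Sec.Mod h.sec) = 16 := by
  have h1 := h.card_eq le_rfl h.x_mem
  rw [h.card, h.sub_W] at h1
  have h2 : Nat.card (⊤ : AddSubgroup (Sec.Mod h.sec)) = Nat.card (Sec.Mod h.sec) := AddSubgroup.card_top
  omega

theorem nat5 (h : Loc W x ρ) : Nat5 ρ (Sec.Mod h.sec) where
  even := h.even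
  ker := by
    intro c hc m
    obtain ⟨n, hn, rfl⟩ := Sec.Mod.mk_surj m
    rw [Sec.Mod.smul_mk, h.mk_eq_iff]
    exact (h.ker c).mp hc n hn
  card := h.card_mod
  add_self := Sec.Mod.add_self
  fpf := by
    intro c hc m hm
    obtain ⟨n, hn, rfl⟩ := Sec.Mod.mk_surj m
    rw [Sec.Mod.smul_mk, h.mk_eq_iff] at hm
    rw [h.mk_eq_zero_iff]
    exact h.fpf c hc n hn hm

/-- the five planes on `x` in `W` -/
def pg (h : Loc W x ρ) (i : Fin 5) : Subgroup G where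
  carrier := {w | ∃ hw : w ∈ W, Sec.Mod.mk h.sec w hw ∈ P ρ (Sec.Mod h.sec) i}
  one_mem' := ⟨one_mem _, zero_mem _⟩
  mul_mem' := by
    rintro a b ⟨ha, ha'⟩ ⟨hb, hb'⟩
    exact ⟨mul_mem ha hb, by rw [Sec.Mod.mk_mul ha hb]; exact add_mem ha' hb'⟩
  inv_mem' := by
    rintro a ⟨ha, ha'⟩
    exact ⟨inv_mem ha, by rw [Sec.Mod.mk_inv]; exact ha'⟩

theorem pg_le (h : Loc W x ρ) (i : Fin 5) : h.pg i ≤ W := fun _ hw => hw.1

theorem mem_pg (h : Loc W x ρ) {i : Fin 5} {w : G} (hw : w ∈ W) :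
    w ∈ h.pg i ↔ Sec.Mod.mk h.sec w hw ∈ P ρ (Sec.Mod h.sec) i := ⟨fun h => h.2, fun h => ⟨hw, h⟩⟩

theorem x_mem_pg (h : Loc W x ρ) (i : Fin 5) : x ∈ h.pg i := by
  rw [h.mem_pg h.x_mem, (h.mk_eq_zero_iff h.x_mem).mpr (Or.inr rfl)]
  exact zero_mem _

theorem sub_pg (h : Loc W x ρ) (i : Fin 5) : Sec.Mod.sub h.sec (h.pg i) = P ρ (Sec.Mod h.sec) i := by
  ext m
  obtain ⟨n, hn, rfl⟩ := Sec.Mod.mk_surj m
  rw [Sec.Mod.mem_sub (h.x_mem_pg i) hn, h.mem_pg hn]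

theorem card_pg (h : Loc W x ρ) (i : Fin 5) : Nat.card (h.pg i) = 8 := by
  rw [h.card_eq (h.pg_le i) (h.x_mem_pg i), h.sub_pg, h.nat5.card_P]

theorem exists_pg (h : Loc W x ρ) {w : G} (hw : w ∈ W) : ∃ i, w ∈ h.pg i := by
  obtain ⟨i, hi⟩ := h.nat5.exists_P (Sec.Mod.mk h.sec w hw)
  exact ⟨i, hw, hi⟩

theorem pg_inf (h : Loc W x ρ) {i j : Fin 5} (hij : i ≠ j) {w : G} (hi : w ∈ h.pg i) (hj : w ∈ h.pg j) :
    w = 1 ∨ w = x := by
  rw [← h.mk_eq_zero_iff hi.1]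
  exact h.nat5.P_inf hij hi.2 hj.2

theorem conj_mem_pg (h : Loc W x ρ) {i : Fin 5} {w : G} (hw : w ∈ h.pg i)
    (c : centralizer ({x} : Set G)) : (c : G) * w * (c : G)⁻¹ ∈ h.pg (ρ c i) := by
  have h1 := h.nat5.smul_mem_P hw.2 c
  exact ⟨h.norm c c.2 w hw.1, h1⟩

/-- the fixed points of `c` modulo `⟨x⟩` -/
def cx (h : Loc W x ρ) (c : centralizer ({x} : Set G)) : Subgroup G where
  carrier := {w | ∃ hw : w ∈ W, Sec.Mod.mk h.sec w hw ∈ fx (Sec.Mod h.sec) c}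
  one_mem' := ⟨one_mem _, zero_mem _⟩
  mul_mem' := by
    rintro a b ⟨ha, ha'⟩ ⟨hb, hb'⟩
    exact ⟨mul_mem ha hb, by rw [Sec.Mod.mk_mul ha hb]; exact add_mem ha' hb'⟩
  inv_mem' := by
    rintro a ⟨ha, ha'⟩
    exact ⟨inv_mem ha, by rw [Sec.Mod.mk_inv]; exact ha'⟩

theorem cx_le (h : Loc W x ρ) (c : centralizer ({x} : Set G)) : h.cx c ≤ W := fun _ hw => hw.1

theorem mem_cx (h : Loc W x ρ) {c : centralizer ({x} : Set G)} {w : G} :
    w ∈ h.cx c ↔ w ∈ W ∧ Cg x ((c : G) * w * (c : G)⁻¹) w := by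
  constructor
  · rintro ⟨hw, h1⟩
    refine ⟨hw, ?_⟩
    rw [mem_fx, Sec.Mod.smul_mk, h.mk_eq_iff] at h1
    exact h1
  · rintro ⟨hw, h1⟩
    refine ⟨hw, ?_⟩
    rw [mem_fx, Sec.Mod.smul_mk, h.mk_eq_iff]
    exact h1

theorem x_mem_cx (h : Loc W x ρ) (c : centralizer ({x} : Set G)) : x ∈ h.cx c := by
  rw [h.mem_cx]
  refine ⟨h.x_mem, Or.inl ?_⟩
  rw [mem_centralizer_singleton_iff.mp c.2, mul_inv_cancel_right]

theorem sub_cx (h : Loc W x ρ) (c : centralizer ({x} : Set G)) :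
    Sec.Mod.sub h.sec (h.cx c) = fx (Sec.Mod h.sec) c := by
  ext m
  obtain ⟨n, hn, rfl⟩ := Sec.Mod.mk_surj m
  rw [Sec.Mod.mem_sub (h.x_mem_cx c) hn]
  exact ⟨fun h => h.2, fun h => ⟨hn, h⟩⟩

theorem card_cx (h : Loc W x ρ) {c : centralizer ({x} : Set G)} (hc : ρ c * ρ c = 1) (hc1 : ρ c ≠ 1) :
    Nat.card (h.cx c) = 8 := by
  rw [h.card_eq (h.cx_le c) (h.x_mem_cx c), h.sub_cx, h.nat5.card_fx hc hc1]

theorem cx_eq_pg (h : Loc W x ρ) {i : Fin 5} {c : centralizer ({x} : Set G)} (hc : K4 i (ρ c))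
    (hc1 : ρ c ≠ 1) : h.cx c = h.pg i := by
  have h1 := h.nat5.fx_eq_P hc hc1
  ext w
  constructor
  · rintro ⟨hw, h2⟩
    rw [h1] at h2
    exact ⟨hw, h2⟩
  · rintro ⟨hw, h2⟩
    rw [← h1] at h2
    exact ⟨hw, h2⟩

theorem comm_mem (h : Loc W x ρ) {c : G} (hc : c ∈ centralizer ({x} : Set G)) {w : G} (hw : w ∈ W) :
    c * w * c⁻¹ * w ∈ W := mul_mem (h.norm c hc w hw) hw

/-- commutators with an involution are fixed modulo `x` -/
theorem comm_mem_cx (h : Loc W x ρ) {c : centralizer ({x} : Set G)} (hc : ρ c * ρ c = 1) (hc1 : ρ c ≠ 1)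
    {w : G} (hw : w ∈ W) : (c : G) * w * (c : G)⁻¹ * w ∈ h.cx c := by
  refine ⟨h.comm_mem c.2 hw, ?_⟩
  rw [Sec.Mod.mk_mul (h.norm c c.2 w hw) hw, ← Sec.Mod.smul_mk c hw]
  rw [mem_fx, h.nat5.mem_fx_iff hc hc1]
  exact ⟨_, rfl⟩

/-- ... and conversely -/
theorem exists_comm (h : Loc W x ρ) {c : centralizer ({x} : Set G)} (hc : ρ c * ρ c = 1) (hc1 : ρ c ≠ 1)
    {w : G} (hw : w ∈ h.cx c) : ∃ v ∈ W, Cg x w ((c : G) * v * (c : G)⁻¹ * v) := by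
  obtain ⟨m, hm⟩ := (h.nat5.mem_fx_iff hc hc1).mp hw.2
  obtain ⟨v, hv, rfl⟩ := Sec.Mod.mk_surj m
  rw [Sec.Mod.smul_mk, ← Sec.Mod.mk_mul, h.mk_eq_iff] at hm
  exact ⟨v, hv, hm⟩

theorem idx_fix (h : Loc W x ρ) {i : Fin 5} {w : G} (hw : w ∈ h.pg i) (hw1 : w ≠ 1) (hwx : w ≠ x)
    {c : centralizer ({x} : Set G)} (hc : Cg x ((c : G) * w * (c : G)⁻¹) w) : ρ c i = i := by
  refine h.nat5.idx_fix hw.2 ?_ (c := c) ?_
  · rw [Ne, h.mk_eq_zero_iff]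
    tauto
  · rw [Sec.Mod.smul_mk, h.mk_eq_iff]
    exact hc

theorem k4_of_fix (h : Loc W x ρ) {i : Fin 5} {w : G} (hw : w ∈ h.pg i) (hw1 : w ≠ 1) (hwx : w ≠ x)
    {c : centralizer ({x} : Set G)} (hc : Cg x ((c : G) * w * (c : G)⁻¹) w)
    (hs : Equiv.Perm.sign (ρ c) = 1) : K4 i (ρ c) := by
  refine h.nat5.k4_of_fix hw.2 ?_ (c := c) ?_ hs
  · rw [Ne, h.mk_eq_zero_iff]
    tauto
  · rw [Sec.Mod.smul_mk, h.mk_eq_iff]
    exact hc

theorem k4_of_pg (h : Loc W x ρ) {i : Fin 5} {c : centralizer ({x} : Set G)}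
    (hc : ∀ w ∈ h.pg i, Cg x ((c : G) * w * (c : G)⁻¹) w) : K4 i (ρ c) := by
  refine h.nat5.k4_of_P fun m hm => ?_
  obtain ⟨w, hw, rfl⟩ := Sec.Mod.mk_surj m
  rw [Sec.Mod.smul_mk, h.mk_eq_iff]
  exact hc w ⟨hw, hm⟩

theorem k4_of_quot (h : Loc W x ρ) {i : Fin 5} {c : centralizer ({x} : Set G)} (hci : ρ c i = i)
    (hc : ∀ w ∈ W, (c : G) * w * (c : G)⁻¹ * w ∈ h.pg i) : K4 i (ρ c) := by
  refine h.nat5.k4_of_quot hci fun m => ?_
  obtain ⟨w, hw, rfl⟩ := Sec.Mod.mk_surj m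
  rw [Sec.Mod.smul_mk, ← Sec.Mod.mk_mul]
  exact (hc w hw).2

theorem quot_of_k4 (h : Loc W x ρ) {i : Fin 5} {c : centralizer ({x} : Set G)} (hc : K4 i (ρ c))
    {w : G} (hw : w ∈ W) : (c : G) * w * (c : G)⁻¹ * w ∈ h.pg i := by
  have h1 := h.nat5.quot_of_k4 hc (Sec.Mod.mk h.sec w hw)
  rw [Sec.Mod.smul_mk, ← Sec.Mod.mk_mul] at h1
  exact ⟨_, h1⟩

theorem fix_of_k4 (h : Loc W x ρ) {i : Fin 5} {c : centralizer ({x} : Set G)} (hc : K4 i (ρ c))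
    {w : G} (hw : w ∈ h.pg i) : Cg x ((c : G) * w * (c : G)⁻¹) w := by
  have h1 := hw.2 c hc
  rw [Sec.Mod.smul_mk, h.mk_eq_iff] at h1
  exact h1

theorem exists_cyc (h : Loc W x ρ) {p q : G} (hp : p ∈ W) (hq : q ∈ W) (hp1 : p ≠ 1) (hpx : p ≠ x)
    (hq1 : q ≠ 1) (hqx : q ≠ x) (hpq : p ≠ q) (hpqx : p * q ≠ x) :
    ∃ c, O3 (ρ c) ∧ Cg x ((c : G) * p * (c : G)⁻¹) q ∧ Cg x ((c : G) * q * (c : G)⁻¹) (p * q) := by
  have hpm : Sec.Mod.mk h.sec p hp ≠ 0 := by rw [Ne, h.mk_eq_zero_iff]; tauto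
  have hqm : Sec.Mod.mk h.sec q hq ≠ 0 := by rw [Ne, h.mk_eq_zero_iff]; tauto
  have hne : Sec.Mod.mk h.sec p hp ≠ Sec.Mod.mk h.sec q hq := by
    rw [Ne, h.mk_eq_iff]
    rintro (e | e)
    · exact hpq e
    · apply hpqx
      rw [e, mul_assoc, h.comm x h.x_mem q hq, ← mul_assoc, h.sq q hq, one_mul]
  obtain ⟨c, hc, h1, h2⟩ := h.nat5.exists_cyc hpm hqm hne
  refine ⟨c, hc, ?_, ?_⟩
  · rwa [Sec.Mod.smul_mk, h.mk_eq_iff] at h1
  · rwa [Sec.Mod.smul_mk, ← Sec.Mod.mk_mul, h.mk_eq_iff] at h2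

theorem trans (h : Loc W x ρ) {p q : G} (hp : p ∈ W) (hq : q ∈ W) (hp1 : p ≠ 1) (hpx : p ≠ x)
    (hq1 : q ≠ 1) (hqx : q ≠ x) :
    ∃ c, Equiv.Perm.sign (ρ c) = 1 ∧ Cg x ((c : G) * p * (c : G)⁻¹) q := by
  have hpm : Sec.Mod.mk h.sec p hp ≠ 0 := by rw [Ne, h.mk_eq_zero_iff]; tauto
  have hqm : Sec.Mod.mk h.sec q hq ≠ 0 := by rw [Ne, h.mk_eq_zero_iff]; tauto
  obtain ⟨c, hc, h1⟩ := h.nat5.trans hpm hqm
  refine ⟨c, hc, ?_⟩
  rwa [Sec.Mod.smul_mk, h.mk_eq_iff] at h1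

theorem irr (h : Loc W x ρ) {U : Subgroup G} (hxU : x ∈ U)
    (hinv : ∀ c ∈ centralizer ({x} : Set G), ∀ w ∈ U, c * w * c⁻¹ ∈ U) {u : G} (hu : u ∈ U) (huW : u ∈ W)
    (hu1 : u ≠ 1) (hux : u ≠ x) {w : G} (hw : w ∈ W) : w ∈ U := by
  by_cases hw1 : w = 1
  · rw [hw1]; exact one_mem _
  by_cases hwx : w = x
  · rw [hwx]; exact hxU
  obtain ⟨c, _, hc⟩ := h.trans huW hw hu1 hux hw1 hwx
  have h1 := hinv c c.2 u hu
  rcases hc with e | e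
  · rw [← e]; exact h1
  · have : w = (c : G) * u * (c : G)⁻¹ * x := by rw [e, mul_assoc, h.xx, mul_one]
    rw [this]; exact mul_mem h1 hxU

/-- the sum of an orbit of an element of order three -/
theorem three_sum (h : Loc W x ρ) {c : centralizer ({x} : Set G)} (hc : O3 (ρ c)) {w : G} (hw : w ∈ W) :
    w * ((c : G) * w * (c : G)⁻¹) * ((c : G) * ((c : G) * w * (c : G)⁻¹) * (c : G)⁻¹) = 1 ∨
    w * ((c : G) * w * (c : G)⁻¹) * ((c : G) * ((c : G) * w * (c : G)⁻¹) * (c : G)⁻¹) = x := by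
  have h1 := h.nat5.three_sum hc (Sec.Mod.mk h.sec w hw)
  have hcw := h.norm c c.2 w hw
  have hccw := h.norm c c.2 _ hcw
  rw [Sec.Mod.smul_mk, Sec.Mod.smul_mk, ← Sec.Mod.mk_mul, ← Sec.Mod.mk_mul, h.mk_eq_zero_iff] at h1
  exact h1

theorem cyc_of (h : Loc W x ρ) {c : centralizer ({x} : Set G)} (hc : O3 (ρ c)) {p q : G} (hp : p ∈ W)
    (hq : q ∈ W) (h1 : Cg x ((c : G) * p * (c : G)⁻¹) q) : Cg x ((c : G) * q * (c : G)⁻¹) (p * q) := by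
  have h2 := h.nat5.three_sum hc (Sec.Mod.mk h.sec p hp)
  have h3 : c • Sec.Mod.mk h.sec p hp = Sec.Mod.mk h.sec q hq := by
    rw [Sec.Mod.smul_mk, h.mk_eq_iff]; exact h1
  rw [h3] at h2
  have h4 := (h.nat5.eq_of_add h2).symm
  rw [Sec.Mod.smul_mk, ← Sec.Mod.mk_mul, h.mk_eq_iff] at h4
  exact h4

/-- elements with the same image act in the same way modulo `⟨x⟩` -/
theorem congr (h : Loc W x ρ) {c d : centralizer ({x} : Set G)} (hcd : ρ c = ρ d) {w : G} (hw : w ∈ W) :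
    Cg x ((c : G) * w * (c : G)⁻¹) ((d : G) * w * (d : G)⁻¹) := by
  have h1 := h.nat5.congr hcd (Sec.Mod.mk h.sec w hw)
  rw [Sec.Mod.smul_mk, Sec.Mod.smul_mk, h.mk_eq_iff] at h1
  exact h1

end Loc

end Cfsg.Agent.OddCyclic.GamLoc
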