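import Mathlib
import Cfsg.Agent.MinSimple.OddBase
import Cfsg.Agent.OddCyclic.CompBasic
import Cfsg.Agent.OddCyclic.GamLoc

/-!
# (E1) with `C_G(z)` acting as (a group containing `A₅` in) `S₅ = ΓL₂(4)` on the natural module `ws V z / ⟨z⟩`

* structure `Gam V z`, `Gam.conj`, `Gam.loc_pt`;
* `exists_neg`, `exists_hom`: the kernel induces all of `Hom(ws V x/⟨x⟩, ⟨x⟩)`;
* `exists_three`: lifts of order three; `star`; `noThree`.
-/

set_option autoImplicit false
set_option linter.dupNamespace false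
set_option linter.unusedSectionVars false

namespace Cfsg.Agent.OddCyclic.GamBase

open Subgroup Cfsg Cfsg.Agent.ZN Cfsg.Agent.MinSimple.Geo Cfsg.Agent.MinSimple.OddBase
open Cfsg.Agent.OddCyclic.T1Defs GamPerm GamMod GamLoc
open Cfsg.Agent.ZN.Block (conj_mem_of_normalizer conj_mem_of_normalizer' le_normalizer_of_forall
  mem_normalizer_of)

universe u

variable {G : Type u} [Group G]

theorem lines_cj' (V : Subgroup G) (g x : G) : lines (cj g V) x = lines V x := by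
  ext L
  constructor
  · rintro ⟨⟨k, rfl⟩, hx⟩
    exact ⟨⟨k * g, cj_cj _ _ _⟩, hx⟩
  · rintro ⟨⟨k, rfl⟩, hx⟩
    refine ⟨⟨k * g⁻¹, ?_⟩, hx⟩
    rw [cj_cj, inv_mul_cancel_right]

theorem ws_cj' (V : Subgroup G) (g x : G) : ws (cj g V) x = ws V x := by
  unfold ws; rw [lines_cj']

/-- `C_G(g x g⁻¹) → C_G(x)` -/
def cc (g x : G) : centralizer ({g * x * g⁻¹} : Set G) →* centralizer ({x} : Set G) where
  toFun c := ⟨g⁻¹ * c * g, by
    have h := mem_centralizer_singleton_iff.mp c.2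
    rw [mem_centralizer_singleton_iff]
    calc g⁻¹ * c * g * x = g⁻¹ * (c * (g * x * g⁻¹)) * g := by group
      _ = g⁻¹ * (g * x * g⁻¹ * c) * g := by rw [h]
      _ = x * (g⁻¹ * c * g) := by group⟩
  map_one' := by ext; simp
  map_mul' := by
    intro a b; ext
    change g⁻¹ * (a * b) * g = g⁻¹ * a * g * (g⁻¹ * b * g)
    group

theorem cc_surj (g x : G) (c : centralizer ({x} : Set G)) : ∃ d, cc g x d = c := by
  refine ⟨⟨g * c * g⁻¹, ?_⟩, ?_⟩
  · have h := mem_centralizer_singleton_iff.mp c.2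
    rw [mem_centralizer_singleton_iff]
    calc g * c * g⁻¹ * (g * x * g⁻¹) = g * (c * x) * g⁻¹ := by group
      _ = g * (x * c) * g⁻¹ := by rw [h]
      _ = g * x * g⁻¹ * (g * c * g⁻¹) := by group
  · ext
    change g⁻¹ * (g * c * g⁻¹) * g = c
    group

theorem cg_conj {x a b : G} (g : G) : Cg (g * x * g⁻¹) a b ↔ Cg x (g⁻¹ * a * g) (g⁻¹ * b * g) := by
  unfold Cg
  constructor
  · rintro (e | e)
    · left; rw [e]
    · right; rw [e]; group
  · rintro (e | e)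
    · left
      calc a = g * (g⁻¹ * a * g) * g⁻¹ := by group
        _ = b := by rw [e]; group
    · right
      calc a = g * (g⁻¹ * a * g) * g⁻¹ := by group
        _ = b * (g * x * g⁻¹) := by rw [e]; group

theorem loc_conj {W : Subgroup G} {x : G} {ρ : centralizer ({x} : Set G) →* S5} (h : Loc W x ρ) (g : G) :
    Loc (cj g W) (g * x * g⁻¹) (ρ.comp (cc g x)) where
  x_ne := conj_ne_one h.x_ne
  x_mem := conj_mem_cj h.x_mem
  comm := by
    intro a ha b hb
    rw [mem_cj] at ha hb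
    have := h.comm _ ha _ hb
    calc a * b = g * (g⁻¹ * a * g * (g⁻¹ * b * g)) * g⁻¹ := by group
      _ = g * (g⁻¹ * b * g * (g⁻¹ * a * g)) * g⁻¹ := by rw [this]
      _ = b * a := by group
  sq := by
    intro a ha
    rw [mem_cj] at ha
    calc a * a = g * (g⁻¹ * a * g * (g⁻¹ * a * g)) * g⁻¹ := by group
      _ = 1 := by rw [h.sq _ ha]; group
  norm := by
    intro c hc w hw
    rw [mem_cj] at hw ⊢
    have := h.norm _ (cc g x ⟨c, hc⟩).2 _ hw
    have e : ((cc g x ⟨c, hc⟩ : centralizer ({x} : Set G)) : G) = g⁻¹ * c * g := rfl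
    rw [e] at this
    convert this using 1; group
  card := by rw [card_cj]; exact h.card
  even := by
    intro k hk
    obtain ⟨c, rfl⟩ := h.even k hk
    obtain ⟨d, rfl⟩ := cc_surj g x c
    exact ⟨d, rfl⟩
  ker := by
    intro c
    have h1 := h.ker (cc g x c)
    rw [MonoidHom.comp_apply, h1]
    constructor
    · intro h2 w hw
      rw [mem_cj] at hw
      rw [cg_conj]
      have h3 := h2 _ hw
      have e : ((cc g x c : centralizer ({x} : Set G)) : G) = g⁻¹ * c * g := rfl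
      rw [e] at h3
      convert h3 using 1; group
    · intro h2 w hw
      have h3 := h2 (g * w * g⁻¹) (conj_mem_cj hw)
      rw [cg_conj] at h3
      have e : ((cc g x c : centralizer ({x} : Set G)) : G) = g⁻¹ * c * g := rfl
      rw [e]
      convert h3 using 1 <;> group
  fpf := by
    intro c hc w hw hcg
    rw [mem_cj] at hw
    rw [cg_conj] at hcg
    have e : ((cc g x c : centralizer ({x} : Set G)) : G) = g⁻¹ * c * g := rfl
    have h1 := h.fpf (cc g x c) hc _ hw (by rw [e]; convert hcg using 1; group)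
    rcases h1 with h1 | h1
    · left
      calc w = g * (g⁻¹ * w * g) * g⁻¹ := by group
        _ = 1 := by rw [h1]; group
    · right
      calc w = g * (g⁻¹ * w * g) * g⁻¹ := by group
        _ = g * x * g⁻¹ := by rw [h1]

/-- The situation (E1), `|V| = 4`, `ws V z` abelian of order 32, `C_G(z)` induces `A₅` or `S₅ = ΓL₂(4)` on the natural
module `ws V z/⟨z⟩`. -/
structure Gam (V : Subgroup G) (z : G) : Prop where
  cyc : OddCyc G
  card_V : Nat.card V = 4
  sq : ∀ v ∈ V, v * v = 1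
  z_mem : z ∈ V
  trans : ∀ v ∈ V, v ≠ 1 → ∃ g ∈ normalizer (V : Set G), g * z * g⁻¹ = v
  move : ∃ t ∈ centralizer ({z} : Set G), ∃ v ∈ V, t * v * t⁻¹ = v * z ∧ v ≠ 1 ∧ v ≠ z
  loc : ∃ ρ, Loc (ws V z) z ρ
  core : ∀ U : Subgroup G, IsPGroup 2 U → normalizer (V : Set G) ≤ normalizer (U : Set G) →
    centralizer ({z} : Set G) ≤ normalizer (U : Set G) → U = ⊥
  three : ∀ g ∈ centralizer (V : Set G), orderOf g ≠ 3

namespace Gam

variable {V : Subgroup G} {z : G}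

theorem z_ne (h : Gam V z) : z ≠ 1 := by
  obtain ⟨ρ, hρ⟩ := h.loc
  exact hρ.x_ne

theorem conj (h : Gam V z) (g : G) : Gam (cj g V) (g * z * g⁻¹) where
  cyc := h.cyc
  card_V := by rw [card_cj]; exact h.card_V
  sq := by
    intro v hv
    rw [mem_cj] at hv
    have := h.sq _ hv
    have e : v * v = g * (g⁻¹ * v * g * (g⁻¹ * v * g)) * g⁻¹ := by group
    rw [e, this]; group
  z_mem := conj_mem_cj h.z_mem
  trans := by
    intro v hv hv1
    rw [mem_cj] at hv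
    obtain ⟨k, hk, hk2⟩ := h.trans _ hv (fun e => hv1 (by
      have : v = g * (g⁻¹ * v * g) * g⁻¹ := by group
      rw [this, e]; group))
    refine ⟨g * k * g⁻¹, ?_, ?_⟩
    · rw [← cj_normalizer]; exact conj_mem_cj hk
    · calc g * k * g⁻¹ * (g * z * g⁻¹) * (g * k * g⁻¹)⁻¹ = g * (k * z * k⁻¹) * g⁻¹ := by group
        _ = v := by rw [hk2]; group
  move := by
    obtain ⟨t, ht, v, hv, h1, h2, h3⟩ := h.move
    refine ⟨g * t * g⁻¹, ?_, g * v * g⁻¹, conj_mem_cj hv, ?_, conj_ne_one h2, fun e => h3 (conj_inj e)⟩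
    · rw [← cj_centralizer_singleton]; exact conj_mem_cj ht
    · calc g * t * g⁻¹ * (g * v * g⁻¹) * (g * t * g⁻¹)⁻¹ = g * (t * v * t⁻¹) * g⁻¹ := by group
        _ = g * v * g⁻¹ * (g * z * g⁻¹) := by rw [h1]; group
  loc := by
    obtain ⟨ρ, hρ⟩ := h.loc
    refine ⟨ρ.comp (cc g z), ?_⟩
    rw [ws_cj', ← cj_ws]
    exact loc_conj hρ g
  core := by
    intro U hU h1 h2
    have h3 := h.core (cj g⁻¹ U) (hU.map _) (by
      rw [← cj_normalizer, ← cj_le_iff, cj_normalizer]; exact h1) (by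
      rw [← cj_normalizer, ← cj_le_iff, cj_centralizer_singleton]; exact h2)
    have := congrArg (cj g) h3
    rw [cj_cj_inv] at this
    rw [this]
    exact Subgroup.map_bot _
  three := by
    intro k hk hk3
    apply h.three (g⁻¹ * k * g)
    · rw [mem_centralizer_iff] at hk ⊢
      intro v hv
      have := hk (g * v * g⁻¹) (conj_mem_cj hv)
      calc v * (g⁻¹ * k * g) = g⁻¹ * (g * v * g⁻¹ * k) * g := by group
        _ = g⁻¹ * (k * (g * v * g⁻¹)) * g := by rw [this]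
        _ = g⁻¹ * k * g * v := by group
    · rw [← hk3]
      have e : g⁻¹ * k * g = MulAut.conj g⁻¹ k := by simp
      rw [e]
      exact orderOf_injective (MulAut.conj g⁻¹).toMonoidHom (MulAut.conj g⁻¹).injective k

/-- every point is the point of a flag conjugate to `(z, V)` -/
theorem exists_gam (h : Gam V z) {x : G} (hx : Pt z x) :
    ∃ g : G, x = g * z * g⁻¹ ∧ Gam (cj g V) x := by
  obtain ⟨g, rfl⟩ := hx
  exact ⟨g, rfl, h.conj g⟩

theorem loc_pt (h : Gam V z) {x : G} (hx : Pt z x) : ∃ ρ, Loc (ws V x) x ρ := by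
  obtain ⟨g, rfl⟩ := hx
  have := (h.conj g).loc
  rwa [ws_cj'] at this

theorem ne_one (h : Gam V z) {x : G} (hx : Pt z x) : x ≠ 1 := by
  obtain ⟨ρ, hρ⟩ := h.loc_pt hx
  exact hρ.x_ne

theorem self_mem (h : Gam V z) {x : G} (hx : Pt z x) : x ∈ ws V x := by
  obtain ⟨ρ, hρ⟩ := h.loc_pt hx
  exact hρ.x_mem

theorem comm (h : Gam V z) {x : G} (hx : Pt z x) {a b : G} (ha : a ∈ ws V x) (hb : b ∈ ws V x) :
    a * b = b * a := by
  obtain ⟨ρ, hρ⟩ := h.loc_pt hx
  exact hρ.comm a ha b hb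

theorem sq_ws (h : Gam V z) {x : G} (hx : Pt z x) {a : G} (ha : a ∈ ws V x) : a * a = 1 := by
  obtain ⟨ρ, hρ⟩ := h.loc_pt hx
  exact hρ.sq a ha

theorem xx (h : Gam V z) {x : G} (hx : Pt z x) : x * x = 1 := h.sq_ws hx (h.self_mem hx)

theorem inv_ws (h : Gam V z) {x : G} (hx : Pt z x) {a : G} (ha : a ∈ ws V x) : a⁻¹ = a :=
  inv_eq_of_mul_eq_one_left (h.sq_ws hx ha)

theorem ws_le (h : Gam V z) {x : G} (hx : Pt z x) : ws V x ≤ centralizer ({x} : Set G) := by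
  obtain ⟨ρ, hρ⟩ := h.loc_pt hx
  exact hρ.le_centralizer

theorem pt_of_mem_line (h : Gam V z) {L : Subgroup G} {x y : G} (hL : L ∈ lines V x) (hy : y ∈ L)
    (hy1 : y ≠ 1) : Pt z y := by
  obtain ⟨⟨g, rfl⟩, _⟩ := hL
  rw [mem_cj] at hy
  obtain ⟨k, _, hk⟩ := h.trans _ hy (fun e => hy1 (by
    have : y = g * (g⁻¹ * y * g) * g⁻¹ := by group
    rw [this, e]; group))
  refine ⟨g * k, ?_⟩
  have : y = g * (g⁻¹ * y * g) * g⁻¹ := by group
  rw [this, ← hk]; group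

theorem norm (h : Gam V z) {x : G} (hx : Pt z x) {c w : G} (hc : c * x = x * c) (hw : w ∈ ws V x) :
    c * w * c⁻¹ ∈ ws V x := by
  obtain ⟨ρ, hρ⟩ := h.loc_pt hx
  exact hρ.norm c (mem_centralizer_singleton_iff.mpr hc) w hw

/-- all elements of `ws V x` outside `⟨x⟩` are on lines through `x` -/
theorem exists_line (h : Gam V z) {x u : G} (hx : Pt z x) (hu : u ∈ ws V x) (hu1 : u ≠ 1) (hux : u ≠ x) :
    ∃ L ∈ lines V x, u ∈ L := by
  obtain ⟨g, hg, hG⟩ := h.exists_gam hx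
  obtain ⟨ρ, hρ⟩ := h.loc_pt hx
  obtain ⟨t, _, v, hv, _, hv1, hvx⟩ := hG.move
  have hVx : cj g V ∈ lines V x := ⟨⟨g, rfl⟩, hG.z_mem⟩
  have hvW : v ∈ ws V x := le_ws hVx hv
  obtain ⟨c, _, hc⟩ := hρ.trans hvW hu hv1 hvx hu1 hux
  have hcx : (c : G) * x = x * c := mem_centralizer_singleton_iff.mp c.2
  have hL := mem_lines_cj (g := (c : G)) hVx
  rw [hcx, mul_inv_cancel_right] at hL
  refine ⟨_, hL, ?_⟩
  have h1 : (c : G) * v * (c : G)⁻¹ ∈ cj (c : G) (cj g V) := conj_mem_cj hv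
  rcases hc with e | e
  · rw [← e]; exact h1
  · have : u = (c : G) * v * (c : G)⁻¹ * x := by rw [e, mul_assoc, hρ.xx, mul_one]
    rw [this]; exact mul_mem h1 hL.2

theorem col (h : Gam V z) {x u : G} (hx : Pt z x) (hu : u ∈ ws V x) (hu1 : u ≠ 1) (hux : u ≠ x) :
    Col V x u := by
  obtain ⟨L, hL, huL⟩ := h.exists_line hx hu hu1 hux
  exact ⟨h.ne_one hx, hu1, hux.symm, L, hL, huL⟩

theorem pt (h : Gam V z) {x u : G} (hx : Pt z x) (hu : u ∈ ws V x) (hu1 : u ≠ 1) : Pt z u := by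
  by_cases hux : u = x
  · rw [hux]; exact hx
  · obtain ⟨L, hL, huL⟩ := h.exists_line hx hu hu1 hux
    exact h.pt_of_mem_line hL huL hu1

theorem mem_symm (h : Gam V z) {x u : G} (hx : Pt z x) (hu : u ∈ ws V x) (hu1 : u ≠ 1) : x ∈ ws V u := by
  by_cases hux : u = x
  · rw [hux]; exact h.self_mem hx
  · exact (h.col hx hu hu1 hux).symm.mem_ws

/-! ### the kernel -/

theorem fix_of_ker {W : Subgroup G} {x : G} {ρ : centralizer ({x} : Set G) →* S5} (h : Loc W x ρ)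
    (hK : ∀ k, ρ k = 1 → ∀ w ∈ W, (k : G) * w * (k : G)⁻¹ = w) {c : centralizer ({x} : Set G)}
    (hc : ρ c * ρ c = 1) {v : G} (hv : v ∈ W) (hcv : Cg x ((c : G) * v * (c : G)⁻¹) v) :
    (c : G) * v * (c : G)⁻¹ = v := by
  by_cases hc1 : ρ c = 1
  · exact hK c hc1 v hv
  · obtain ⟨w, hw, hvw⟩ := h.exists_comm hc hc1 (h.mem_cx.mpr ⟨hv, hcv⟩)
    have h1 : (c : G) * ((c : G) * w * (c : G)⁻¹ * w) * (c : G)⁻¹ = (c : G) * w * (c : G)⁻¹ * w := by
      have h2 := hK (c * c) (by rw [map_mul, hc]) w hw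
      have e : ((c * c : centralizer ({x} : Set G)) : G) = c * c := rfl
      rw [e] at h2
      calc (c : G) * ((c : G) * w * (c : G)⁻¹ * w) * (c : G)⁻¹ =
          ((c : G) * c * w * ((c : G) * c)⁻¹) * ((c : G) * w * (c : G)⁻¹) := by group
        _ = w * ((c : G) * w * (c : G)⁻¹) := by rw [h2]
        _ = (c : G) * w * (c : G)⁻¹ * w := h.comm w hw _ (h.norm c c.2 w hw)
    rcases hvw with e | e
    · rw [e]; exact h1
    · have h3 : (c : G) * x * (c : G)⁻¹ = x := by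
        rw [mem_centralizer_singleton_iff.mp c.2, mul_inv_cancel_right]
      rw [e]
      calc (c : G) * ((c : G) * w * (c : G)⁻¹ * w * x) * (c : G)⁻¹ =
          ((c : G) * ((c : G) * w * (c : G)⁻¹ * w) * (c : G)⁻¹) * ((c : G) * x * (c : G)⁻¹) := by group
        _ = (c : G) * w * (c : G)⁻¹ * w * x := by rw [h1, h3]

/-- the kernel moves every element of `ws V x` outside `⟨x⟩` -/
theorem exists_neg (h : Gam V z) {x : G} (hx : Pt z x) {ρ : centralizer ({x} : Set G) →* S5}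
    (hρ : Loc (ws V x) x ρ) {u : G} (hu : u ∈ ws V x) (hu1 : u ≠ 1) (hux : u ≠ x) :
    ∃ k, ρ k = 1 ∧ (k : G) * u * (k : G)⁻¹ = u * x := by
  by_contra hcon
  push Not at hcon
  have hfix : ∀ k, ρ k = 1 → (k : G) * u * (k : G)⁻¹ = u := by
    intro k hk
    rcases (hρ.ker k).mp hk u hu with e | e
    · exact e
    · exact absurd e (hcon k hk)
  let U : Subgroup G :=
    { carrier := {w | w ∈ ws V x ∧ ∀ k, ρ k = 1 → (k : G) * w * (k : G)⁻¹ = w}
      one_mem' := ⟨one_mem _, fun k _ => by group⟩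
      mul_mem' := by
        rintro a b ⟨ha, ha'⟩ ⟨hb, hb'⟩
        refine ⟨mul_mem ha hb, fun k hk => ?_⟩
        calc (k : G) * (a * b) * (k : G)⁻¹ = (k : G) * a * (k : G)⁻¹ * ((k : G) * b * (k : G)⁻¹) := by group
          _ = a * b := by rw [ha' k hk, hb' k hk]
      inv_mem' := by
        rintro a ⟨ha, ha'⟩
        refine ⟨inv_mem ha, fun k hk => ?_⟩
        calc (k : G) * a⁻¹ * (k : G)⁻¹ = ((k : G) * a * (k : G)⁻¹)⁻¹ := by group
          _ = a⁻¹ := by rw [ha' k hk] }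
  have hxU : x ∈ U := ⟨hρ.x_mem, fun k _ => by
    rw [mem_centralizer_singleton_iff.mp k.2, mul_inv_cancel_right]⟩
  have hinv : ∀ c ∈ centralizer ({x} : Set G), ∀ w ∈ U, c * w * c⁻¹ ∈ U := by
    rintro c hc w ⟨hw, hw'⟩
    refine ⟨hρ.norm c hc w hw, fun k hk => ?_⟩
    have h1 := hw' (⟨c, hc⟩⁻¹ * k * ⟨c, hc⟩) (by rw [map_mul, map_mul, hk, mul_one, map_inv, inv_mul_cancel])
    have e : (((⟨c, hc⟩⁻¹ * k * ⟨c, hc⟩ : centralizer ({x} : Set G))) : G) = c⁻¹ * k * c := rfl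
    rw [e] at h1
    calc (k : G) * (c * w * c⁻¹) * (k : G)⁻¹ = c * (c⁻¹ * k * c * w * (c⁻¹ * k * c)⁻¹) * c⁻¹ := by group
      _ = c * w * c⁻¹ := by rw [h1]
  have hK : ∀ k, ρ k = 1 → ∀ w ∈ ws V x, (k : G) * w * (k : G)⁻¹ = w := by
    intro k hk w hw
    have : w ∈ U := hρ.irr hxU hinv (u := u) ⟨hu, hfix⟩ hu hu1 hux hw
    exact this.2 k hk
  obtain ⟨g, hg, hG⟩ := h.exists_gam hx
  obtain ⟨t, ht, v, hv, htv, hv1, hvx⟩ := hG.move
  have hvW : v ∈ ws V x := le_ws (⟨⟨g, rfl⟩, hG.z_mem⟩ : cj g V ∈ lines V x) hv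
  obtain ⟨i, hi⟩ := hρ.exists_pg hvW
  have hti : ρ ⟨t, ht⟩ i = i := hρ.idx_fix hi hv1 hvx (c := ⟨t, ht⟩) (Or.inr htv)
  rcases exists_k4_mul i _ hti with h3 | ⟨k, hk4, hk⟩
  · rcases hρ.fpf ⟨t, ht⟩ h3 v hvW (Or.inr htv) with e | e
    · exact hv1 e
    · exact hvx e
  · obtain ⟨d, rfl⟩ := hρ.even k hk4.2.1
    have hd := hρ.fix_of_k4 hk4 hi
    have h1 := fix_of_ker hρ hK hk4.2.2 hvW hd
    have hdx : (d : G) * x * (d : G)⁻¹ = x := by
      rw [mem_centralizer_singleton_iff.mp d.2, mul_inv_cancel_right]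
    have e : ((d * ⟨t, ht⟩ : centralizer ({x} : Set G)) : G) = d * t := rfl
    have h2 : (d : G) * t * v * ((d : G) * t)⁻¹ = v * x := by
      calc (d : G) * t * v * ((d : G) * t)⁻¹ = (d : G) * (t * v * t⁻¹) * (d : G)⁻¹ := by group
        _ = ((d : G) * v * (d : G)⁻¹) * ((d : G) * x * (d : G)⁻¹) := by rw [htv]; group
        _ = v * x := by rw [h1, hdx]
    have h4 := fix_of_ker hρ hK (c := d * ⟨t, ht⟩) (by rw [map_mul]; exact hk) hvW (by
      rw [e, h2]; exact Or.inr rfl)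
    rw [e, h2] at h4
    exact hρ.x_ne (by simpa using h4)

theorem hom_aux (h : Gam V z) {x : G} (hx : Pt z x) {ρ : centralizer ({x} : Set G) →* S5}
    (hρ : Loc (ws V x) x ρ) {p q : G} (hp : p ∈ ws V x) (hq : q ∈ ws V x) (hp1 : p ≠ 1) (hpx : p ≠ x)
    (hpq : p ≠ q) (hpqx : p * q ≠ x) :
    ∃ k, ρ k = 1 ∧ (k : G) * p * (k : G)⁻¹ = p * x ∧ (k : G) * q * (k : G)⁻¹ = q := by
  have hxc : ∀ k : centralizer ({x} : Set G), (k : G) * x * (k : G)⁻¹ = x := fun k => by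
    rw [mem_centralizer_singleton_iff.mp k.2, mul_inv_cancel_right]
  have hpq1 : p * q ≠ 1 := fun e => hpq (by rw [mul_eq_one_iff_eq_inv.mp e, hρ.inv hq])
  obtain ⟨k, hk, h1⟩ := h.exists_neg hx hρ hp hp1 hpx
  rcases (hρ.ker k).mp hk q hq with h2 | h2
  · exact ⟨k, hk, h1, h2⟩
  · obtain ⟨l, hl, h3⟩ := h.exists_neg hx hρ (mul_mem hp hq) hpq1 hpqx
    have h3' : (l : G) * p * (l : G)⁻¹ * ((l : G) * q * (l : G)⁻¹) = p * q * x := by
      rw [← h3]; group
    rcases (hρ.ker l).mp hl p hp with h4 | h4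
    · -- `l` fixes `p`, moves `q`
      rw [h4] at h3'
      have h5 : (l : G) * q * (l : G)⁻¹ = q * x := by
        have := congrArg (fun t => p⁻¹ * t) h3'
        simpa [mul_assoc] using this
      refine ⟨k * l, by rw [map_mul, hk, hl, one_mul], ?_, ?_⟩
      · change (k : G) * l * p * ((k : G) * l)⁻¹ = _
        calc (k : G) * l * p * ((k : G) * l)⁻¹ = (k : G) * ((l : G) * p * (l : G)⁻¹) * (k : G)⁻¹ := by group
          _ = p * x := by rw [h4, h1]
      · change (k : G) * l * q * ((k : G) * l)⁻¹ = _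
        calc (k : G) * l * q * ((k : G) * l)⁻¹ = (k : G) * ((l : G) * q * (l : G)⁻¹) * (k : G)⁻¹ := by group
          _ = ((k : G) * q * (k : G)⁻¹) * ((k : G) * x * (k : G)⁻¹) := by rw [h5]; group
          _ = q := by rw [h2, hxc, mul_assoc, hρ.xx, mul_one]
    · rw [h4] at h3'
      have h5 : (l : G) * q * (l : G)⁻¹ = q := by
        have h6 : p * x * ((l : G) * q * (l : G)⁻¹) = p * x * q := by
          rw [h3', mul_assoc, mul_assoc, hρ.comm q hq x hρ.x_mem]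
        exact mul_left_cancel h6
      exact ⟨l, hl, h4, h5⟩

/-- the kernel induces all of `Hom(W/⟨x⟩, ⟨x⟩)` (on two-dimensional subspaces) -/
theorem exists_hom (h : Gam V z) {x : G} (hx : Pt z x) {ρ : centralizer ({x} : Set G) →* S5}
    (hρ : Loc (ws V x) x ρ) {p q : G} (hp : p ∈ ws V x) (hq : q ∈ ws V x) (hp1 : p ≠ 1) (hpx : p ≠ x)
    (hq1 : q ≠ 1) (hqx : q ≠ x) (hpq : p ≠ q) (hpqx : p * q ≠ x) {e f : G} (he : e = 1 ∨ e = x)
    (hf : f = 1 ∨ f = x) :
    ∃ k, ρ k = 1 ∧ (k : G) * p * (k : G)⁻¹ = p * e ∧ (k : G) * q * (k : G)⁻¹ = q * f := by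
  have hxc : ∀ k : centralizer ({x} : Set G), (k : G) * x * (k : G)⁻¹ = x := fun k => by
    rw [mem_centralizer_singleton_iff.mp k.2, mul_inv_cancel_right]
  obtain ⟨k, hk, h1, h2⟩ := h.hom_aux hx hρ hp hq hp1 hpx hpq hpqx
  obtain ⟨l, hl, h3, h4⟩ := h.hom_aux hx hρ hq hp hq1 hqx hpq.symm (by rwa [hρ.comm q hq p hp])
  rcases he with rfl | rfl
  · rcases hf with rfl | rfl
    · exact ⟨1, map_one _, by simp, by simp⟩
    · exact ⟨l, hl, by rw [h4, mul_one], h3⟩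
  · rcases hf with rfl | hf
    · exact ⟨k, hk, h1, by rw [h2, mul_one]⟩
    · rw [hf]
      refine ⟨k * l, by rw [map_mul, hk, hl, one_mul], ?_, ?_⟩
      · change (k : G) * l * p * ((k : G) * l)⁻¹ = _
        calc (k : G) * l * p * ((k : G) * l)⁻¹ = (k : G) * ((l : G) * p * (l : G)⁻¹) * (k : G)⁻¹ := by group
          _ = _ := by rw [h4, h1]
      · change (k : G) * l * q * ((k : G) * l)⁻¹ = _
        calc (k : G) * l * q * ((k : G) * l)⁻¹ = (k : G) * ((l : G) * q * (l : G)⁻¹) * (k : G)⁻¹ := by group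
          _ = ((k : G) * q * (k : G)⁻¹) * ((k : G) * e * (k : G)⁻¹) := by rw [h3]; group
          _ = _ := by rw [h2, hxc]

/-- `C_G(x)` is transitive on `ws V x` minus `⟨x⟩` -/
theorem trans_ws (h : Gam V z) {x : G} (hx : Pt z x) {u v : G} (hu : u ∈ ws V x) (hv : v ∈ ws V x)
    (hu1 : u ≠ 1) (hux : u ≠ x) (hv1 : v ≠ 1) (hvx : v ≠ x) :
    ∃ c : G, c * x = x * c ∧ c * u * c⁻¹ = v := by
  obtain ⟨ρ, hρ⟩ := h.loc_pt hx
  obtain ⟨c, _, hc⟩ := hρ.trans hu hv hu1 hux hv1 hvx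
  rcases hc with e | e
  · exact ⟨c, mem_centralizer_singleton_iff.mp c.2, e⟩
  · obtain ⟨k, _, hk⟩ := h.exists_neg hx hρ hv hv1 hvx
    refine ⟨k * c, mem_centralizer_singleton_iff.mp (k * c).2, ?_⟩
    have hxk : (k : G) * x * (k : G)⁻¹ = x := by
      rw [mem_centralizer_singleton_iff.mp k.2, mul_inv_cancel_right]
    calc (k : G) * c * u * ((k : G) * c)⁻¹ = (k : G) * ((c : G) * u * (c : G)⁻¹) * (k : G)⁻¹ := by group
      _ = ((k : G) * v * (k : G)⁻¹) * ((k : G) * x * (k : G)⁻¹) := by rw [e]; group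
      _ = v := by rw [hk, hxk, mul_assoc, hρ.xx, mul_one]

/-- the kernel has no elements of order three -/
theorem ker_three (h : Gam V z) {x : G} (hx : Pt z x) {ρ : centralizer ({x} : Set G) →* S5}
    (hρ : Loc (ws V x) x ρ) {k : centralizer ({x} : Set G)} (hk : ρ k = 1) (hk3 : (k : G) ^ 3 = 1) :
    (k : G) = 1 := by
  have hfix : ∀ w ∈ ws V x, (k : G) * w * (k : G)⁻¹ = w := by
    intro w hw
    rcases (hρ.ker k).mp hk w hw with e | e
    · exact e
    · exfalso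
      have hxk : (k : G) * x * (k : G)⁻¹ = x := by
        rw [mem_centralizer_singleton_iff.mp k.2, mul_inv_cancel_right]
      have e2 : (k : G) * ((k : G) * w * (k : G)⁻¹) * (k : G)⁻¹ = w := by
        rw [e]
        calc (k : G) * (w * x) * (k : G)⁻¹ = ((k : G) * w * (k : G)⁻¹) * ((k : G) * x * (k : G)⁻¹) := by group
          _ = w := by rw [e, hxk, mul_assoc, hρ.xx, mul_one]
      have e3 : (k : G) * ((k : G) * ((k : G) * w * (k : G)⁻¹) * (k : G)⁻¹) * (k : G)⁻¹ = w := by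
        calc (k : G) * ((k : G) * ((k : G) * w * (k : G)⁻¹) * (k : G)⁻¹) * (k : G)⁻¹ =
            (k : G) ^ 3 * w * ((k : G) ^ 3)⁻¹ := by simp only [pow_succ, pow_zero, one_mul]; group
          _ = w := by rw [hk3]; group
      rw [e2, e] at e3
      exact hρ.x_ne (by simpa using e3)
  obtain ⟨g, hg, hG⟩ := h.exists_gam hx
  by_contra hne
  refine hG.three k ?_ (orderOf_eq_prime hk3 hne)
  rw [mem_centralizer_iff]
  intro v hv
  have hvW : v ∈ ws V x := le_ws (⟨⟨g, rfl⟩, hG.z_mem⟩ : cj g V ∈ lines V x) hv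
  have := hfix v hvW
  calc v * (k : G) = ((k : G) * v * (k : G)⁻¹) * k := by rw [this]
    _ = k * v := by group

variable [Finite G]

/-- lifts of order three -/
theorem exists_three (h : Gam V z) {x : G} (hx : Pt z x) {ρ : centralizer ({x} : Set G) →* S5}
    (hρ : Loc (ws V x) x ρ) {c : centralizer ({x} : Set G)} (hc : O3 (ρ c)) :
    ∃ m : ℕ, (c : G) ^ ((3 * m + 1) * 3) = 1 ∧ ρ (c ^ (3 * m + 1)) = ρ c := by
  have hcop : Nat.Coprime (Nat.card ρ.ker) 3 := by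
    rw [Nat.coprime_comm, Nat.Prime.coprime_iff_not_dvd Nat.prime_three]
    intro hd
    have : Fact (Nat.Prime 3) := ⟨Nat.prime_three⟩
    obtain ⟨k, hk⟩ := exists_prime_orderOf_dvd_card' (G := ρ.ker) 3 hd
    have h1 : ((k : centralizer ({x} : Set G)) : G) ^ 3 = 1 := by
      have := pow_orderOf_eq_one k
      rw [hk] at this
      exact congrArg (fun t : ρ.ker => ((t : centralizer ({x} : Set G)) : G)) this
    have h2 := h.ker_three hx hρ (k := k.1) k.2 h1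
    have h3 : k = 1 := Subtype.ext (Subtype.ext h2)
    rw [h3, orderOf_one] at hk
    exact absurd hk (by norm_num)
  obtain ⟨e, he1, he2⟩ := Nat.chineseRemainder hcop 0 1
  obtain ⟨m, rfl⟩ : ∃ m, e = 3 * m + 1 := by
    have : e % 3 = 1 := he2
    exact ⟨e / 3, by omega⟩
  have hc3 : ρ c ^ 3 = 1 := by rw [pow_succ, pow_two]; exact hc.1
  refine ⟨m, ?_, ?_⟩
  · have h1 : c ^ 3 ∈ ρ.ker := by rw [MonoidHom.mem_ker, map_pow, hc3]
    have h2 : Nat.card ρ.ker ∣ 3 * m + 1 := (Nat.modEq_zero_iff_dvd.mp he1)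
    have h3 : (⟨c ^ 3, h1⟩ : ρ.ker) ^ (3 * m + 1) = 1 := by
      obtain ⟨k, hk⟩ := h2
      rw [hk, pow_mul, pow_card_eq_one', one_pow]
    have h4 : (c ^ 3) ^ (3 * m + 1) = 1 := congrArg Subtype.val h3
    have h5 : ((c : G) ^ 3) ^ (3 * m + 1) = 1 := congrArg Subtype.val h4
    rw [mul_comm, pow_mul]; exact h5
  · rw [map_pow, pow_succ, pow_mul, hc3, one_pow, one_mul]

/-- powers acting as the element itself -/
theorem conj_pow {c p : G} (hc : c ^ 3 * p = p * c ^ 3) (m : ℕ) :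
    c ^ (3 * m + 1) * p * (c ^ (3 * m + 1))⁻¹ = c * p * c⁻¹ := by
  have h1 : (c ^ 3) ^ m * p = p * (c ^ 3) ^ m := by
    have : Commute (c ^ 3) p := hc
    exact this.pow_left m
  have e : c ^ (3 * m + 1) = c * (c ^ 3) ^ m := by rw [← pow_mul, pow_succ']
  rw [e, mul_inv_rev, mul_assoc c, h1]
  group

/-- an element of order three modulo the kernel which rotates `p, q, pq` modulo `r` lifts to an element of order three
which rotates `p, q, pq` -/
theorem star' (h : Gam V z) {r : G} (hr : Pt z r) {ρ : centralizer ({r} : Set G) →* S5}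
    (hρ : Loc (ws V r) r ρ) {p q : G} (hp : p ∈ ws V r) (hq : q ∈ ws V r)
    (hp1 : p ≠ 1) (hpr : p ≠ r) (hq1 : q ≠ 1) (hqr : q ≠ r) (hpq : p ≠ q) (hpqr : p * q ≠ r)
    {c : centralizer ({r} : Set G)} (hc : O3 (ρ c)) (h1 : Cg r ((c : G) * p * (c : G)⁻¹) q)
    (h2 : Cg r ((c : G) * q * (c : G)⁻¹) (p * q)) :
    ∃ d : centralizer ({r} : Set G), ρ d = ρ c ∧ (d : G) ^ 3 = 1 ∧ (d : G) * p * (d : G)⁻¹ = q ∧
      (d : G) * q * (d : G)⁻¹ = p * q := by
  have hrc : ∀ k : centralizer ({r} : Set G), (k : G) * r * (k : G)⁻¹ = r := fun k => by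
    rw [mem_centralizer_singleton_iff.mp k.2, mul_inv_cancel_right]
  obtain ⟨e, he, h1'⟩ : ∃ e, (e = 1 ∨ e = r) ∧ (c : G) * p * (c : G)⁻¹ = q * e := by
    rcases h1 with h1 | h1
    · exact ⟨1, Or.inl rfl, by rw [h1, mul_one]⟩
    · exact ⟨r, Or.inr rfl, h1⟩
  obtain ⟨f, hf, h2'⟩ : ∃ f, (f = 1 ∨ f = r) ∧ (c : G) * q * (c : G)⁻¹ = p * q * f := by
    rcases h2 with h2 | h2
    · exact ⟨1, Or.inl rfl, by rw [h2, mul_one]⟩
    · exact ⟨r, Or.inr rfl, h2⟩
  have hpq1 : p * q ≠ 1 := fun e => hpq (by rw [mul_eq_one_iff_eq_inv.mp e, hρ.inv hq])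
  have hqpq : q * (p * q) = p := by
    rw [hρ.comm p hp q hq, ← mul_assoc, hρ.sq q hq, one_mul]
  obtain ⟨k, hk, h3, h4⟩ := h.exists_hom hr hρ hq (mul_mem hp hq) hq1 hqr hpq1 hpqr
    (fun e => hp1 (by simpa using e.symm)) (by rw [hqpq]; exact hpr) he hf
  have hee : ∀ e : G, (e = 1 ∨ e = r) → e * e = 1 ∧ (k : G) * e * (k : G)⁻¹ = e := by
    rintro e (rfl | rfl)
    · simp
    · exact ⟨hρ.xx, hrc k⟩
  have a1 : (k : G) * c * p * ((k : G) * c)⁻¹ = q := by
    calc (k : G) * c * p * ((k : G) * c)⁻¹ = (k : G) * ((c : G) * p * (c : G)⁻¹) * (k : G)⁻¹ := by group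
      _ = ((k : G) * q * (k : G)⁻¹) * ((k : G) * e * (k : G)⁻¹) := by rw [h1']; group
      _ = q := by rw [h3, (hee e he).2, mul_assoc, (hee e he).1, mul_one]
  have a2 : (k : G) * c * q * ((k : G) * c)⁻¹ = p * q := by
    calc (k : G) * c * q * ((k : G) * c)⁻¹ = (k : G) * ((c : G) * q * (c : G)⁻¹) * (k : G)⁻¹ := by group
      _ = ((k : G) * (p * q) * (k : G)⁻¹) * ((k : G) * f * (k : G)⁻¹) := by rw [h2']; group
      _ = p * q := by rw [h4, (hee f hf).2, mul_assoc, (hee f hf).1, mul_one]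
  have hO : O3 (ρ (k * c)) := by rw [map_mul, hk, one_mul]; exact hc
  obtain ⟨m, hm, hm2⟩ := h.exists_three hr hρ hO
  have e1 : ((k * c : centralizer ({r} : Set G)) : G) = (k : G) * c := rfl
  rw [e1] at hm
  set d : G := (k : G) * c with hd
  have a3 : d * (p * q) * d⁻¹ = p := by
    calc d * (p * q) * d⁻¹ = (d * p * d⁻¹) * (d * q * d⁻¹) := by group
      _ = p := by rw [a1, a2, hqpq]
  have d3 : ∀ t : G, d ^ 3 * t * (d ^ 3)⁻¹ = d * (d * (d * t * d⁻¹) * d⁻¹) * d⁻¹ := fun t => by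
    simp only [pow_succ, pow_zero, one_mul]; group
  have c1 : d ^ 3 * p = p * d ^ 3 := by
    have := d3 p
    rw [a1, a2, a3] at this
    exact mul_inv_eq_iff_eq_mul.mp this
  have c2 : d ^ 3 * q = q * d ^ 3 := by
    have := d3 q
    rw [a2, a3, a1] at this
    exact mul_inv_eq_iff_eq_mul.mp this
  have e2 : (((k * c) ^ (3 * m + 1) : centralizer ({r} : Set G)) : G) = d ^ (3 * m + 1) := rfl
  refine ⟨(k * c) ^ (3 * m + 1), ?_, ?_, ?_, ?_⟩
  · rw [hm2, map_mul, hk, one_mul]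
  · rw [e2, ← pow_mul]; exact hm
  · rw [e2, conj_pow c1, a1]
  · rw [e2, conj_pow c2, a2]

/-- a four-subgroup of `ws V r` avoiding `r` is rotated by an element of order three of `C_G(r)` -/
theorem star (h : Gam V z) {r : G} (hr : Pt z r) {p q : G} (hp : p ∈ ws V r) (hq : q ∈ ws V r)
    (hp1 : p ≠ 1) (hpr : p ≠ r) (hq1 : q ≠ 1) (hqr : q ≠ r) (hpq : p ≠ q) (hpqr : p * q ≠ r) :
    ∃ c : G, c * r = r * c ∧ c ^ 3 = 1 ∧ c * p * c⁻¹ = q ∧ c * q * c⁻¹ = p * q := by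
  obtain ⟨ρ, hρ⟩ := h.loc_pt hr
  obtain ⟨c, hc, h1, h2⟩ := hρ.exists_cyc hp hq hp1 hpr hq1 hqr hpq hpqr
  obtain ⟨d, _, h3, h4, h5⟩ := h.star' hr hρ hp hq hp1 hpr hq1 hqr hpq hpqr hc h1 h2
  exact ⟨d, mem_centralizer_singleton_iff.mp d.2, h3, h4, h5⟩

/-- (P1) -/
theorem noThree (h : Gam V z) {c p q g : G} (hc3 : c ^ 3 = 1) (h1 : c * p * c⁻¹ = q)
    (h2 : c * q * c⁻¹ = p * q) (hpq : p ≠ q) (hg3 : g ^ 3 = 1) (hgp : g * p = p * g) (hgq : g * q = q * g) :
    g = 1 := by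
  by_contra hg1
  have hc1 : c ≠ 1 := by
    rintro rfl
    apply hpq; rw [← h1]; group
  set A : Subgroup G := closure {p, q} with hA
  have hpA : p ∈ A := subset_closure (Or.inl rfl)
  have hqA : q ∈ A := subset_closure (Or.inr rfl)
  have hcA : c ∈ normalizer (A : Set G) := by
    rw [mem_normalizer_iff_cj]
    have hle : cj c A ≤ A := by
      rw [cj_le_iff, hA, closure_le]
      rintro t (rfl | ht)
      · rw [SetLike.mem_coe, mem_cj, inv_inv, h1]; exact hqA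
      · rw [Set.mem_singleton_iff] at ht
        rw [ht, SetLike.mem_coe, mem_cj, inv_inv, h2]; exact mul_mem hpA hqA
    exact Subgroup.eq_of_le_of_card_ge hle (by rw [card_cj])
  have hgA : g ∈ centralizer (A : Set G) := by
    rw [hA, centralizer_closure, mem_centralizer_iff]
    rintro t (rfl | ht)
    · exact hgp.symm
    · rw [Set.mem_singleton_iff] at ht; rw [ht]; exact hgq.symm
  have hCN : centralizer (A : Set G) ≤ normalizer (A : Set G) := centralizer_le_normalizer _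
  have hpr : Fact (Nat.Prime 3) := ⟨Nat.prime_three⟩
  have hor : orderOf g = 3 := orderOf_eq_prime hg3 hg1
  have hor' : orderOf c = 3 := orderOf_eq_prime hc3 hc1
  have hcyc := CompBasic.oddCyc_subgroup h.cyc (normalizer (A : Set G))
  have hdvd : 3 ∣ Nat.card ((centralizer (A : Set G)).subgroupOf (normalizer (A : Set G))) := by
    have h3 : (⟨g, hCN hgA⟩ : normalizer (A : Set G)) ∈
        (centralizer (A : Set G)).subgroupOf (normalizer (A : Set G)) := mem_subgroupOf.mpr hgA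
    have h4 : orderOf (⟨⟨g, hCN hgA⟩, h3⟩ :
        (centralizer (A : Set G)).subgroupOf (normalizer (A : Set G))) = 3 := by
      rw [Subgroup.orderOf_mk, Subgroup.orderOf_mk, hor]
    rw [← h4]; exact orderOf_dvd_natCard _
  have hn : ((centralizer (A : Set G)).subgroupOf (normalizer (A : Set G))).Normal := by
    constructor
    rintro ⟨t, ht⟩ ht' ⟨n, hn⟩
    rw [mem_subgroupOf] at ht' ⊢
    change n * t * n⁻¹ ∈ centralizer (A : Set G)
    change t ∈ centralizer (A : Set G) at ht'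
    rw [mem_centralizer_iff] at ht' ⊢
    intro a ha
    have h3 := ht' (n⁻¹ * a * n) (conj_mem_of_normalizer' le_rfl hn ha)
    calc a * (n * t * n⁻¹) = n * (n⁻¹ * a * n * t) * n⁻¹ := by group
      _ = n * (t * (n⁻¹ * a * n)) * n⁻¹ := by rw [h3]
      _ = n * t * n⁻¹ * a := by group
  have h4 := CompBasic.mem_of_orderOf hcyc Nat.prime_three (by norm_num) hn hdvd
    (x := ⟨c, hcA⟩) (by rw [Subgroup.orderOf_mk, hor'])
  rw [mem_subgroupOf] at h4
  have h5 := mem_centralizer_iff.mp h4 p hpA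
  apply hpq
  have h6 : p * c = c * p := h5
  rw [← h1, ← h6]; group

end Gam

end Cfsg.Agent.OddCyclic.GamBase
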