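import Mathlib
import Cfsg.Agent.OddCyclic.GamBase

/-!
# `Gam`: there are collinear points `x`, `y` with `[ws V x, ws V y] ≠ 1`

* `far_core`: no two points at distance `≥ 2` as in the critical case;
* `exists_noncomm`: the critical distance is one; `pair_trans`; `act_ne`: `ws V u` acts nontrivially on
  `ws V x/⟨x⟩` for all collinear `x ≠ u`.
-/

set_option autoImplicit false
set_option linter.dupNamespace false
set_option linter.unusedSectionVars false

namespace Cfsg.Agent.OddCyclic.GamBase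

open Subgroup Cfsg Cfsg.Agent.ZN Cfsg.Agent.MinSimple.Geo Cfsg.Agent.MinSimple.OddBase
open Cfsg.Agent.OddCyclic.T1Defs GamPerm GamMod GamLoc
open Cfsg.Agent.ZN.Block (conj_mem_of_normalizer conj_mem_of_normalizer' le_normalizer_of_forall
  mem_normalizer_of)

universe u

variable {G : Type u} [Group G]

/-- the elements of a four-group -/
theorem mem_four {R : Subgroup G} (hcard : Nat.card R = 4) {r s t : G} (hr : r ∈ R) (hs : s ∈ R)
    (hr2 : r * r = 1) (hs2 : s * s = 1)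
    (hr1 : r ≠ 1) (hs1 : s ≠ 1) (hrs : r ≠ s) (ht : t ∈ R) : t = 1 ∨ t = r ∨ t = s ∨ t = r * s := by
  have hfin : Finite R := Nat.finite_of_card_ne_zero (by rw [hcard]; norm_num)
  have hpq1 : r * s ≠ 1 := fun e => hrs (by
    rw [mul_eq_one_iff_eq_inv.mp e]; exact inv_eq_of_mul_eq_one_left hs2)
  have hpqp : r * s ≠ r := fun e => hs1 (by simpa using e)
  have hpqq : r * s ≠ s := fun e => hr1 (by simpa using e)
  have h1 : ({1, r, s, r * s} : Set G) ⊆ (R : Set G) := by
    rintro x (rfl | rfl | rfl | rfl)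
    · exact R.one_mem
    · exact hr
    · exact hs
    · exact R.mul_mem hr hs
  have h2 : ({1, r, s, r * s} : Set G).ncard = 4 := by
    rw [Set.ncard_insert_of_notMem, Set.ncard_insert_of_notMem, Set.ncard_pair (Ne.symm hpqq)]
    · rintro (e | e)
      · exact hrs e
      · exact hpqp e.symm
    · rintro (e | e | e)
      · exact hr1 e.symm
      · exact hs1 e.symm
      · exact hpq1 e.symm
  have h3 : (R : Set G).ncard = 4 := by rw [← hcard]; rfl
  have h4 : ({1, r, s, r * s} : Set G) = R := Set.eq_of_subset_of_ncard_le h1 (by rw [h2, h3])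
    (Set.toFinite _)
  have : t ∈ ({1, r, s, r * s} : Set G) := by rw [h4]; exact ht
  simpa using this

/-- a subgroup of order four contains two different nontrivial elements -/
theorem exists_two {R : Subgroup G} (hcard : Nat.card R = 4) : ∃ r ∈ R, ∃ s ∈ R, r ≠ 1 ∧ s ≠ 1 ∧ r ≠ s := by
  have hfin : Finite R := Nat.finite_of_card_ne_zero (by rw [hcard]; norm_num)
  have h3 : (R : Set G).ncard = 4 := by rw [← hcard]; rfl
  have h1 : ∃ r ∈ R, r ≠ 1 := by
    by_contra hcon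
    push Not at hcon
    have : (R : Set G) ⊆ {1} := fun x hx => hcon x hx
    have := Set.ncard_le_ncard this (Set.toFinite _)
    rw [h3, Set.ncard_singleton] at this
    omega
  obtain ⟨r, hr, hr1⟩ := h1
  by_contra hcon
  push Not at hcon
  have : (R : Set G) ⊆ {1, r} := by
    intro x hx
    by_cases hx1 : x = 1
    · exact Or.inl hx1
    · exact Or.inr (hcon r hr x hx hr1 hx1).symm
  have := Set.ncard_le_ncard this (Set.toFinite _)
  rw [h3, Set.ncard_pair hr1.symm] at this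
  omega

namespace Gam

variable {V : Subgroup G} {z : G} [Finite G]

/-- elements of `ws V p` acting on `ws V q` -/
def el {p q : G} (hpq : ∀ a ∈ ws V p, a * q = q * a) {a : G} (ha : a ∈ ws V p) :
    centralizer ({q} : Set G) := ⟨a, mem_centralizer_singleton_iff.mpr (hpq a ha)⟩

theorem far_core (h : Gam V z) {p q : G} (hp : Pt z p) (hq : Pt z q)
    (hpq : ∀ a ∈ ws V p, a * q = q * a) (hqp : ∀ b ∈ ws V q, b * p = p * b) (hp' : p ∉ ws V q)
    (hq' : q ∉ ws V p) {ρ : centralizer ({q} : Set G) →* S5} (hρ : Loc (ws V q) q ρ) {a : G}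
    (ha : a ∈ ws V p) (hne : ρ (el hpq ha) ≠ 1) : False := by
  set c := el hpq ha with hc
  have hca : (c : G) = a := rfl
  have hcc : ρ c * ρ c = 1 := by
    rw [← map_mul]
    have : c * c = 1 := Subtype.ext (h.sq_ws hp ha)
    rw [this, map_one]
  set R : Subgroup G := ws V p ⊓ ws V q with hR
  have hRc : R ≤ hρ.cx c := by
    rintro r ⟨hrp, hrq⟩
    rw [hρ.mem_cx]
    refine ⟨hrq, Or.inl ?_⟩
    rw [hca, h.comm hp ha hrp, mul_inv_cancel_right]
  have hcxR : ∀ w ∈ hρ.cx c, w ∈ R ∨ w * q ∈ R := by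
    intro w hw
    obtain ⟨v, hv, hwv⟩ := hρ.exists_comm hcc hne hw
    have h1 : (c : G) * v * (c : G)⁻¹ * v ∈ R := by
      refine ⟨?_, mul_mem (hρ.norm c c.2 v hv) hv⟩
      have h2 : v * a⁻¹ * v⁻¹ ∈ ws V p := h.norm hp (hqp v hv) (inv_mem ha)
      rw [h.inv_ws hq hv] at h2
      rw [hca]
      have : a * v * a⁻¹ * v = a * (v * a⁻¹ * v) := by group
      rw [this]; exact mul_mem ha h2
    rcases hwv with e | e
    · left; rw [e]; exact h1
    · right
      rw [e, mul_assoc, hρ.xx, mul_one]; exact h1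
  have hcard8 := hρ.card_cx hcc hne
  have hcard : Nat.card R = 4 := by
    have h1 : Nat.card R ∣ 8 := by rw [← hcard8]; exact card_dvd_of_le hRc
    have h2 : Nat.card R ≠ 8 := by
      intro e
      have : R = hρ.cx c := Subgroup.eq_of_le_of_card_ge hRc (by rw [e, hcard8])
      have hqR : q ∈ R := by rw [this]; exact hρ.x_mem_cx c
      exact hq' hqR.1
    have h3 : 8 ≤ 2 * Nat.card R := by
      rw [← hcard8]
      have : Nat.card (hρ.cx c) ≤ Nat.card (Bool × R) := by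
        refine Nat.card_le_card_of_surjective
          (fun t : Bool × R => (if t.1 then ⟨(t.2 : G), hRc t.2.2⟩ else
            ⟨(t.2 : G) * q, mul_mem (hRc t.2.2) (hρ.x_mem_cx c)⟩ : hρ.cx c)) ?_
        rintro ⟨w, hw⟩
        rcases hcxR w hw with h4 | h4
        · exact ⟨(true, ⟨w, h4⟩), by simp⟩
        · refine ⟨(false, ⟨w * q, h4⟩), ?_⟩
          simp only [Bool.false_eq_true, if_false]
          apply Subtype.ext
          change w * q * q = w
          rw [mul_assoc, hρ.xx, mul_one]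
      rw [Nat.card_prod] at this
      simpa using this
    have h4 : Nat.card R ≤ 8 := Nat.le_of_dvd (by norm_num) h1
    interval_cases (Nat.card R) <;> omega
  obtain ⟨r, hr, s, hs, hr1, hs1, hrs⟩ := exists_two hcard
  have hnp : ∀ t ∈ R, t ≠ p := fun t ht e => hp' (e ▸ ht.2)
  have hnq : ∀ t ∈ R, t ≠ q := fun t ht e => hq' (e ▸ ht.1)
  have hp1 := h.ne_one hp
  have hq1 := h.ne_one hq
  have hpqne : p ≠ q := fun e => hq' (e ▸ h.self_mem hp)
  have key : ∀ t ∈ R, t ≠ 1 → Pt z t ∧ p ∈ ws V t ∧ q ∈ ws V t := fun t ht ht1 =>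
    ⟨h.pt hp ht.1 ht1, h.mem_symm hp ht.1 ht1, h.mem_symm hq ht.2 ht1⟩
  obtain ⟨hrpt, hpr, hqr⟩ := key r hr hr1
  have hpqr : p * q ≠ r := by
    intro e
    apply hq'
    have : q = p * r := by rw [← e, ← mul_assoc, h.xx hp, one_mul]
    rw [this]; exact mul_mem (h.self_mem hp) hr.1
  obtain ⟨g, hgr, hg3, hgp, hgq⟩ := h.star hrpt hpr hqr hp1 (hnp r hr).symm hq1 (hnq r hr).symm hpqne hpqr
  have hpq1 : p * q ≠ 1 := fun e => hpqne (by
    rw [mul_eq_one_iff_eq_inv.mp e]; exact inv_eq_of_mul_eq_one_left (h.xx hq))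
  have hRpq : R ≤ ws V (p * q) := by
    intro t ht
    by_cases ht1 : t = 1
    · rw [ht1]; exact one_mem _
    · obtain ⟨h1, h2, h3⟩ := key t ht ht1
      exact h.mem_symm h1 (mul_mem h2 h3) hpq1
  have hcj : cj g R = R := by
    have h1 : cj g R = ws V q ⊓ ws V (p * q) := by
      rw [hR, cj_inf, cj_ws, cj_ws, hgp, hgq]
    have h2 : R ≤ cj g R := by rw [h1]; exact le_inf inf_le_right hRpq
    exact (Subgroup.eq_of_le_of_card_ge h2 (by rw [card_cj])).symm
  have hr2 : r * r = 1 := h.sq_ws hp hr.1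
  have hs2 : s * s = 1 := h.sq_ws hp hs.1
  have hgr' : g * r * g⁻¹ = r := by rw [hgr, mul_inv_cancel_right]
  have hsR : g * s * g⁻¹ ∈ R := by
    have : g * s * g⁻¹ ∈ cj g R := conj_mem_cj hs
    rwa [hcj] at this
  have hgs : g * s = s * g := by
    rcases mem_four hcard hr hs hr2 hs2 hr1 hs1 hrs hsR with e | e | e | e
    · exact absurd e (conj_ne_one hs1)
    · exact absurd (conj_inj (hgr'.trans e.symm)) hrs
    · calc g * s = (g * s * g⁻¹) * g := by group
        _ = s * g := by rw [e]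
    · exfalso
      have e2 : g * (r * s) * g⁻¹ = s := by
        calc g * (r * s) * g⁻¹ = (g * r * g⁻¹) * (g * s * g⁻¹) := by group
          _ = s := by rw [hgr', e, ← mul_assoc, hr2, one_mul]
      have e3 : g ^ 3 * s * (g ^ 3)⁻¹ = g * (g * (g * s * g⁻¹) * g⁻¹) * g⁻¹ := by
        simp only [pow_succ, pow_zero, one_mul]; group
      rw [hg3, e, e2, e] at e3
      apply hr1
      have e4 : s = r * s := by simpa using e3
      exact right_eq_mul.mp e4
  -- `g` centralises `R`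
  have hrs_p : r * s ≠ p := hnp _ (mul_mem hr hs)
  obtain ⟨d, _, hd3, hdr, hds⟩ := h.star hp hr.1 hs.1 hr1 (hnp r hr) hs1 (hnp s hs) hrs hrs_p
  have hg1 := h.noThree hd3 hdr hds hrs hg3 hgr hgs
  apply hpqne
  rw [← hgp, hg1]; group

theorem walk_pt (h : Gam V z) {n : ℕ} {x y : G} (hx : Pt z x) (hw : Walk V n x y) : Pt z y := by
  induction n generalizing y with
  | zero =>
    have e : x = y := hw
    rwa [← e]
  | succ n ih =>
    obtain ⟨w, hw, h1⟩ := hw
    rcases h1 with rfl | h1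
    · exact ih hw
    · obtain ⟨_, h2, _, L, hL, hy⟩ := h1
      exact h.pt_of_mem_line hL hy h2

/-- one of two noncommuting groups acts nontrivially -/
theorem act_or (h : Gam V z) {p q : G} (hp : Pt z p) (hq : Pt z q) (hne : p ≠ q)
    {a b : G} (ha : a ∈ ws V p) (hb : b ∈ ws V q) (hab : a * b ≠ b * a) :
    ¬ Cg q (a * b * a⁻¹) b ∨ ¬ Cg p (b * a * b⁻¹) a := by
  by_contra hcon
  push Not at hcon
  obtain ⟨h1, h2⟩ := hcon
  rcases h1 with e | e
  · exact hab (mul_inv_eq_iff_eq_mul.mp e)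
  rcases h2 with e' | e'
  · exact hab (mul_inv_eq_iff_eq_mul.mp e').symm
  · -- `a b a⁻¹ = b q`, `b a b⁻¹ = a p`
    apply hne
    have ha' := h.inv_ws hp ha
    have hb' := h.inv_ws hq hb
    have e1 : a * b * a⁻¹ * b⁻¹ = q := by
      rw [e]
      have : b * q = q * b := h.comm hq hb (h.self_mem hq)
      rw [this, mul_inv_cancel_right]
    have e2 : b * a * b⁻¹ * a⁻¹ = p := by
      rw [e']
      have : a * p = p * a := h.comm hp ha (h.self_mem hp)
      rw [this, mul_inv_cancel_right]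
    have e3 : b * a * b⁻¹ * a⁻¹ = (a * b * a⁻¹ * b⁻¹)⁻¹ := by group
    rw [e2, e1] at e3
    rw [e3]
    exact inv_eq_of_mul_eq_one_left (h.xx hq)

theorem not_far (h : Gam V z) {n : ℕ} (hn : 2 ≤ n)
    (hlt : ∀ x y m, m < n → Pt z x → Walk V m x y → ∀ a ∈ ws V x, ∀ b ∈ ws V y, a * b = b * a) {p q : G}
    (hp : Pt z p) (hw : Walk V n p q) {a b : G} (ha : a ∈ ws V p) (hb : b ∈ ws V q)
    (hab : a * b ≠ b * a) : False := by
  have hq : Pt z q := h.walk_pt hp hw
  obtain ⟨m, rfl⟩ : ∃ m, n = m + 1 := ⟨n - 1, by omega⟩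
  have h1 : ∀ {p q : G}, Pt z p → Walk V (m + 1) p q → ∀ {a b : G}, a ∈ ws V p → b ∈ ws V q → a * b ≠ b * a →
      ∀ a ∈ ws V p, a * q = q * a := by
    intro p q hp hw a b ha hb hab c hc
    obtain ⟨w, hw1, hw2⟩ := hw
    rcases hw2 with rfl | hw2
    · exact absurd (hlt p w m (Nat.lt_succ_self m) hp hw1 a ha b hb) hab
    · exact hlt p w m (Nat.lt_succ_self m) hp hw1 c hc q hw2.mem_ws
  have hpq := h1 hp hw ha hb hab
  have hqp := h1 hq hw.symm hb ha (fun e => hab e.symm)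
  have h2 : ∀ {p q : G}, Pt z p → Pt z q → (∃ a ∈ ws V p, ∃ b ∈ ws V q, a * b ≠ b * a) → p ∉ ws V q := by
    intro p q hp hq ⟨a, ha, b, hb, hab⟩ hpq
    by_cases he : p = q
    · rw [he] at ha; exact hab (h.comm hq ha hb)
    · have := h.col hq hpq (h.ne_one hp) he
      exact hab (hlt q p 1 (by omega) hq this.walk b hb a ha).symm
  have hp' := h2 hp hq ⟨a, ha, b, hb, hab⟩
  have hq' := h2 hq hp ⟨b, hb, a, ha, fun e => hab e.symm⟩
  have hne : p ≠ q := fun e => hp' (e ▸ h.self_mem hp)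
  rcases h.act_or hp hq hne ha hb hab with h3 | h3
  · obtain ⟨ρ, hρ⟩ := h.loc_pt hq
    refine h.far_core hp hq hpq hqp hp' hq' hρ ha ?_
    intro e
    exact h3 ((hρ.ker _).mp e b hb)
  · obtain ⟨ρ, hρ⟩ := h.loc_pt hp
    refine h.far_core hq hp hqp hpq hq' hp' hρ hb ?_
    intro e
    exact h3 ((hρ.ker _).mp e a ha)

theorem walk_of_mem_normalizer (h : Gam V z) {g : G} (hg : g ∈ normalizer (V : Set G)) :
    Walk V 1 z (g * z * g⁻¹) := by
  rw [walk_one]
  by_cases e : z = g * z * g⁻¹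
  · exact Or.inl e
  · exact Or.inr ⟨h.z_ne, conj_ne_one h.z_ne, e, V, ⟨⟨1, (cj_one V).symm⟩, h.z_mem⟩,
      (mem_normalizer_iff.mp hg z).mp h.z_mem⟩

/-- some `ws V x`, `ws V y` do not commute -/
theorem exists_walk (h : Gam V z) : ∃ m, ∃ x y, Pt z x ∧ Walk V m x y ∧ ∃ a ∈ ws V x, ∃ b ∈ ws V y,
    a * b ≠ b * a := by
  by_contra hex
  push Not at hex
  -- the group generated by all `ws V w`, `w` connected with `z`
  let S : Set (Subgroup G) := {U | ∃ m w, Walk V m z w ∧ U = ws V w}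
  let U : Subgroup G := sSup S
  have hle : ∀ {m w}, Walk V m z w → ws V w ≤ U := fun {m w} hw => le_sSup ⟨m, w, hw, rfl⟩
  have hUle : ∀ {K : Subgroup G}, (∀ m w, Walk V m z w → ws V w ≤ K) → U ≤ K := fun {K} hK =>
    sSup_le (by rintro _ ⟨m, w, hw, rfl⟩; exact hK m w hw)
  have hpt : ∀ {m w}, Walk V m z w → Pt z w := fun {m w} hw => h.walk_pt (Pt.refl z) hw
  have hcomm1 : ∀ {m w}, Walk V m z w → U ≤ centralizer (ws V w : Set G) := by
    intro m w hw
    refine hUle fun m' w' hw' => fun b hb => mem_centralizer_iff.mpr fun a ha => ?_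
    exact hex (m + m') w w' (hpt hw) (hw.symm.trans hw') a ha b hb
  have hcomm : U ≤ centralizer (U : Set G) := by
    rw [Subgroup.le_centralizer_iff]
    exact hUle fun m w hw => by
      rw [Subgroup.le_centralizer_iff]
      exact hcomm1 hw
  have hUU : ∀ a ∈ U, ∀ b ∈ U, a * b = b * a := fun a ha b hb =>
    (mem_centralizer_iff.mp (hcomm hb)) a ha
  let A : Subgroup G :=
    { carrier := {w | w ∈ U ∧ w * w = 1}
      mul_mem' := by
        rintro a b ⟨ha, ha1⟩ ⟨hb, hb1⟩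
        refine ⟨mul_mem ha hb, ?_⟩
        calc a * b * (a * b) = a * (b * a) * b := by group
          _ = (a * a) * (b * b) := by rw [hUU b hb a ha]; group
          _ = 1 := by rw [ha1, hb1, one_mul]
      one_mem' := ⟨one_mem _, one_mul 1⟩
      inv_mem' := by
        rintro a ⟨ha, ha1⟩
        refine ⟨inv_mem ha, ?_⟩
        have : a⁻¹ * a⁻¹ = (a * a)⁻¹ := by group
        rw [this, ha1, inv_one] }
  have hUA : U ≤ A := hUle fun m w hw => fun a ha => ⟨hle hw ha, h.sq_ws (hpt hw) ha⟩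
  have h2 : IsPGroup 2 U := by
    rintro ⟨a, ha⟩
    refine ⟨1, ?_⟩
    ext
    change a ^ 2 ^ 1 = 1
    rw [pow_one, pow_two]
    exact (hUA ha).2
  have hnorm : ∀ g : G, Walk V 1 z (g * z * g⁻¹) → ∀ u ∈ U, g * u * g⁻¹ ∈ U := by
    intro g hg u hu
    have : U ≤ cj g⁻¹ U := hUle fun m w hw => by
      rw [← cj_le_iff, cj_ws]
      exact hle (hg.trans (hw.conj g))
    have h3 := this hu
    rw [mem_cj, inv_inv] at h3
    exact h3
  have hbot := h.core U h2 (le_normalizer_of_forall fun g hg u hu =>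
    hnorm g (h.walk_of_mem_normalizer hg) u hu) (le_normalizer_of_forall fun g hg u hu =>
    hnorm g (by
      have : g * z * g⁻¹ = z := by rw [mem_centralizer_singleton_iff.mp hg]; group
      rw [this]; exact Walk.refl V 1 z) u hu)
  have hzU : z ∈ U := hle (Walk.refl V 0 z) (h.self_mem (Pt.refl z))
  rw [hbot, mem_bot] at hzU
  exact h.z_ne hzU

/-- the critical distance is one -/
theorem exists_noncomm (h : Gam V z) : ∃ x y, Pt z x ∧ y ∈ ws V x ∧ y ≠ 1 ∧ y ≠ x ∧
    ∃ a ∈ ws V x, ∃ b ∈ ws V y, a * b ≠ b * a := by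
  classical
  have hex := h.exists_walk
  have hlt : ∀ x y m, m < Nat.find hex → Pt z x → Walk V m x y → ∀ a ∈ ws V x, ∀ b ∈ ws V y,
      a * b = b * a := by
    intro x y m hm hx hw a ha b hb
    by_contra hab
    exact Nat.find_min hex hm ⟨x, y, hx, hw, a, ha, b, hb, hab⟩
  obtain ⟨x, y, hx, hw, a, ha, b, hb, hab⟩ := Nat.find_spec hex
  by_cases h2 : 2 ≤ Nat.find hex
  · exact (h.not_far h2 hlt hx hw ha hb hab).elim
  · have hw1 : Walk V 1 x y := hw.mono (by omega)
    rcases walk_one.mp hw1 with rfl | hc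
    · exact absurd (h.comm hx ha hb) hab
    · exact ⟨x, y, hx, hc.mem_ws, hc.2.1, hc.2.2.1.symm, a, ha, b, hb, hab⟩

/-- `G` is transitive on ordered pairs of collinear points -/
theorem pair_trans (h : Gam V z) {x u x' u' : G} (hx : Pt z x) (hu : u ∈ ws V x) (hu1 : u ≠ 1)
    (hux : u ≠ x) (hx' : Pt z x') (hu' : u' ∈ ws V x') (hu1' : u' ≠ 1) (hux' : u' ≠ x') :
    ∃ g : G, g * x * g⁻¹ = x' ∧ g * u * g⁻¹ = u' := by
  obtain ⟨k, hk⟩ := hx.symm.trans hx'
  have hku : k * u * k⁻¹ ∈ ws V x' := by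
    rw [hk, ← cj_ws]; exact conj_mem_cj hu
  obtain ⟨c, hc, hcu⟩ := h.trans_ws hx' hku hu' (conj_ne_one hu1) (fun e => hux (conj_inj (e.trans hk)))
    hu1' hux'
  refine ⟨c * k, ?_, ?_⟩
  · calc c * k * x * (c * k)⁻¹ = c * (k * x * k⁻¹) * c⁻¹ := by group
      _ = x' := by rw [← hk, hc, mul_inv_cancel_right]
  · calc c * k * u * (c * k)⁻¹ = c * (k * u * k⁻¹) * c⁻¹ := by group
      _ = u' := hcu

/-- `ws V u` acts nontrivially on `ws V x/⟨x⟩` for all collinear `x ≠ u` -/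
theorem act_ne (h : Gam V z) {x u : G} (hx : Pt z x) (hu : u ∈ ws V x) (hu1 : u ≠ 1) (hux : u ≠ x) :
    ∃ b ∈ ws V u, ∃ w ∈ ws V x, ¬ Cg x (b * w * b⁻¹) w := by
  have key : ∃ x u, Pt z x ∧ u ∈ ws V x ∧ u ≠ 1 ∧ u ≠ x ∧ ∃ b ∈ ws V u, ∃ w ∈ ws V x,
      ¬ Cg x (b * w * b⁻¹) w := by
    obtain ⟨x, y, hx, hy, hy1, hyx, a, ha, b, hb, hab⟩ := h.exists_noncomm
    have hyp := h.pt hx hy hy1
    have hxy : x ∈ ws V y := h.mem_symm hx hy hy1
    rcases h.act_or hx hyp hyx.symm ha hb hab with h3 | h3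
    · exact ⟨y, x, hyp, hxy, h.ne_one hx, hyx.symm, a, ha, b, hb, h3⟩
    · exact ⟨x, y, hx, hy, hy1, hyx, b, hb, a, ha, h3⟩
  obtain ⟨x', u', hx', hu', hu1', hux', b, hb, w, hw, hn⟩ := key
  obtain ⟨g, rfl, rfl⟩ := h.pair_trans hx' hu' hu1' hux' hx hu hu1 hux
  refine ⟨g * b * g⁻¹, ?_, g * w * g⁻¹, ?_, ?_⟩
  · rw [← cj_ws]; exact conj_mem_cj hb
  · rw [← cj_ws]; exact conj_mem_cj hw
  · intro hc
    apply hn
    rw [cg_conj] at hc
    convert hc using 1 <;> group

end Gam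

end Cfsg.Agent.OddCyclic.GamBase
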