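import Cfsg.Agent.OddCyclic.CompBasic
import Cfsg.Agent.LieExceptional.CITBasic
import Cfsg.Agent.Lib.NormalAbelian
import Cfsg.Agent.Blocks.SylowIn
import Cfsg.Prelude.Def_Involutions

/-!
# S0342, component type: the standard component

Section 1 of blueprints/S0342-component.md. `Std p K`: all odd Sylow subgroups of `G` are cyclic,
`K` is a component of the centralizer of some involution, of order divisible by the odd prime `p`, and
of maximal order with these properties.

* `Std.cmp`, `Std.le_normalizer` (1.1): `K` is the component of order divisible by `p` of the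
  centralizer of each involution of `C(K)`, `C(s) ≤ N(K)`.
* `Std.isStandard`, `Std.odd`, `Std.not_dvd`, `Std.normalizer_eq` (1.2), `Std.mem_of_dvd`,
  `Std.mem_cent_of_dvd` (1.3).
* `Std.exists_even` (1.4) from Aschbacher's criterion.
* `Std.pair` (1.5), `Std.mem_conj_of_dvd` (1.6).
-/

set_option autoImplicit false

namespace Cfsg.Agent.OddCyclic.CompStandard

open Subgroup Cfsg
open Cfsg.Agent.OddCyclic.T1Defs Cfsg.Agent.OddCyclic.CompBasic
open Cfsg.Agent.LieExceptional Cfsg.Agent.LieExceptional.CITDefs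
open Cfsg.Agent.LieExceptional.CITBasic

variable {G : Type*} [Group G]

/-- `g H g⁻¹` -/
def cj (g : G) (H : Subgroup G) : Subgroup G := H.map (MulAut.conj g).toMonoidHom

theorem mem_cj {g x : G} {H : Subgroup G} : x ∈ cj g H ↔ g⁻¹ * x * g ∈ H := by
  constructor
  · rintro ⟨y, hy, rfl⟩
    have : g⁻¹ * ((MulAut.conj g).toMonoidHom y) * g = y := by
      simp only [MulEquiv.coe_toMonoidHom, MulAut.conj_apply]
      group
    rw [this]; exact hy
  · intro hx
    refine ⟨_, hx, ?_⟩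
    simp only [MulEquiv.coe_toMonoidHom, MulAut.conj_apply]
    group

theorem conj_mem_cj {g x : G} {H : Subgroup G} (hx : x ∈ H) : g * x * g⁻¹ ∈ cj g H := ⟨x, hx, rfl⟩

theorem cj_mono {g : G} {H L : Subgroup G} (h : H ≤ L) : cj g H ≤ cj g L := Subgroup.map_mono h

theorem cj_mul (g h : G) (H : Subgroup G) : cj (g * h) H = cj g (cj h H) := by
  ext x
  rw [mem_cj, mem_cj, mem_cj]
  have : (g * h)⁻¹ * x * (g * h) = h⁻¹ * (g⁻¹ * x * g) * h := by group
  rw [this]

theorem cj_one (H : Subgroup G) : cj 1 H = H := by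
  ext x; rw [mem_cj]; simp

theorem cj_inv_cj (g : G) (H : Subgroup G) : cj g⁻¹ (cj g H) = H := by
  rw [← cj_mul, inv_mul_cancel, cj_one]

theorem cj_cj_inv (g : G) (H : Subgroup G) : cj g (cj g⁻¹ H) = H := by
  rw [← cj_mul, mul_inv_cancel, cj_one]

theorem card_cj (g : G) (H : Subgroup G) : Nat.card (cj g H) = Nat.card H :=
  Subgroup.card_map_of_injective (MulAut.conj g).injective

theorem cj_inf (g : G) (H L : Subgroup G) : cj g (H ⊓ L) = cj g H ⊓ cj g L :=
  Subgroup.map_inf _ _ _ (MulAut.conj g).injective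

theorem cj_centralizer (g : G) (H : Subgroup G) :
    cj g (centralizer (H : Set G)) = centralizer (cj g H : Set G) := by
  ext x
  rw [mem_cj, mem_centralizer_iff, mem_centralizer_iff]
  constructor
  · intro h y hy
    have hy' : g⁻¹ * y * g ∈ H := mem_cj.mp hy
    have h1 := h _ hy'
    calc y * x = g * ((g⁻¹ * y * g) * (g⁻¹ * x * g)) * g⁻¹ := by group
      _ = g * ((g⁻¹ * x * g) * (g⁻¹ * y * g)) * g⁻¹ := by rw [h1]
      _ = x * y := by group
  · intro h y hy
    have h1 := h _ (conj_mem_cj (g := g) hy)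
    calc y * (g⁻¹ * x * g) = g⁻¹ * ((g * y * g⁻¹) * x) * g := by group
      _ = g⁻¹ * (x * (g * y * g⁻¹)) * g := by rw [h1]
      _ = g⁻¹ * x * g * y := by group

theorem cj_centralizer_singleton (g x : G) :
    cj g (centralizer ({x} : Set G)) = centralizer ({g * x * g⁻¹} : Set G) :=
  Cfsg.Agent.SignalizersComponents.DistinctComponents.map_conj_centralizer_singleton g x

theorem mem_normalizer_of_forall {H : Subgroup G} [Finite G] {g : G}
    (h : ∀ x ∈ H, g * x * g⁻¹ ∈ H) : g ∈ normalizer (H : Set G) := by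
  have h1 : cj g H = H := by
    apply Subgroup.eq_of_le_of_card_ge
    · rintro _ ⟨x, hx, rfl⟩
      exact h x hx
    · rw [card_cj]
  rw [mem_normalizer_iff]
  intro x
  refine ⟨h x, fun hx => ?_⟩
  rw [← h1, mem_cj] at hx
  have : g⁻¹ * (g * x * g⁻¹) * g = x := by group
  rwa [this] at hx

theorem forall_of_mem_normalizer {H : Subgroup G} {g : G} (h : g ∈ normalizer (H : Set G)) :
    ∀ x ∈ H, g * x * g⁻¹ ∈ H := fun x hx => (mem_normalizer_iff.mp h x).mp hx

theorem cj_eq_iff [Finite G] {g : G} {H : Subgroup G} : cj g H = H ↔ g ∈ normalizer (H : Set G) := by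
  constructor
  · intro h
    exact mem_normalizer_of_forall fun x hx => by rw [← h]; exact conj_mem_cj hx
  · intro h
    apply Subgroup.eq_of_le_of_card_ge
    · rintro _ ⟨x, hx, rfl⟩
      exact forall_of_mem_normalizer h x hx
    · rw [card_cj]

theorem cj_normalizer [Finite G] (g : G) (H : Subgroup G) :
    cj g (normalizer (H : Set G)) = normalizer (cj g H : Set G) := by
  ext x
  rw [mem_cj, ← cj_eq_iff, ← cj_eq_iff]
  constructor
  · intro h
    rw [← cj_mul]
    have e : x * g = g * (g⁻¹ * x * g) := by group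
    rw [e, cj_mul, h]
  · intro h
    rw [← cj_mul] at h
    have e : g⁻¹ * x * g = g⁻¹ * (x * g) := by group
    rw [e, cj_mul, h, cj_inv_cj]

theorem orderOf_conj (g x : G) : orderOf (g * x * g⁻¹) = orderOf x := by
  rw [← MulAut.conj_apply]
  exact orderOf_injective (MulAut.conj g).toMonoidHom (MulAut.conj g).injective x

theorem exists_involution [Finite G] {H : Subgroup G} (h : Even (Nat.card H)) :
    ∃ x ∈ H, orderOf x = 2 := by
  have hpf : Fact (Nat.Prime 2) := ⟨Nat.prime_two⟩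
  obtain ⟨⟨x, hx⟩, h2⟩ := exists_prime_orderOf_dvd_card' (G := H) 2 (even_iff_two_dvd.mp h)
  rw [Subgroup.orderOf_mk] at h2
  exact ⟨x, hx, h2⟩

theorem even_of_mem [Finite G] {H : Subgroup G} {x : G} (hx : x ∈ H) (h2 : orderOf x = 2) :
    Even (Nat.card H) := by
  rw [even_iff_two_dvd, ← h2]
  exact H.orderOf_dvd_natCard hx

theorem isPGroup_zpowers {x : G} (h2 : orderOf x = 2) : IsPGroup 2 (zpowers x) :=
  IsPGroup.of_card (n := 1) (by rw [Nat.card_zpowers, h2, pow_one])

theorem eq_bot_of_odd [Finite G] {A O : Subgroup G} (hA : IsPGroup 2 A) (hAO : A ≤ O)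
    (hO : Odd (Nat.card O)) : A = ⊥ := by
  rw [← Subgroup.card_eq_one]
  obtain ⟨n, hn⟩ := IsPGroup.iff_card.mp hA
  have h3 : Odd (Nat.card A) := Odd.of_dvd_nat hO (Subgroup.card_dvd_of_le hAO)
  rw [hn] at h3 ⊢
  rcases Nat.eq_zero_or_pos n with h4 | h4
  · rw [h4, pow_zero]
  · exact absurd (Nat.even_pow.mpr ⟨even_two, h4.ne'⟩) (Nat.not_even_iff_odd.mpr h3)

/-- The intersection of a Sylow 2-subgroup with a normal subgroup. -/
theorem isSyl2_inf [Finite G] {D W P : Subgroup G} (hP : IsSyl2 D P) (hW : W ≤ D)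
    (hn : ∀ d ∈ D, ∀ w ∈ W, d * w * d⁻¹ ∈ W) : IsSyl2 W (P ⊓ W) := by
  refine ⟨inf_le_right, hP.two.to_le inf_le_left, fun Y hYW hY hle => ?_⟩
  obtain ⟨Q, hQ, hYQ⟩ := exists_isSyl2 D Y (hYW.trans hW) hY
  obtain ⟨m, hm, hmQ⟩ := CITBasic.IsSyl2.conj hQ hP
  -- `P = m Q m⁻¹`, so `m Y m⁻¹ ≤ P ⊓ W`
  have h1 : cj m Y ≤ P ⊓ W := by
    rintro _ ⟨y, hy, rfl⟩
    refine ⟨?_, hn m hm y (hYW hy)⟩
    rw [hmQ]
    exact ⟨y, hYQ hy, rfl⟩
  have h2 : Nat.card Y ≤ Nat.card (P ⊓ W : Subgroup G) := by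
    rw [← card_cj m Y]
    exact Subgroup.card_le_of_le h1
  exact (Subgroup.eq_of_le_of_card_ge hle h2).symm

/-- `K` is a component of maximal order among the components of centralizers of involutions with
order divisible by `p`. -/
structure Std (p : ℕ) (K : Subgroup G) : Prop where
  cyc : OddCyc G
  prime : p.Prime
  ne_two : p ≠ 2
  dvd : p ∣ Nat.card K
  ex : ∃ t : G, orderOf t = 2 ∧ Cmp (centralizer {t}) K
  max : ∀ t : G, orderOf t = 2 → ∀ J : Subgroup G, Cmp (centralizer {t}) J → p ∣ Nat.card J →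
    Nat.card J ≤ Nat.card K

theorem exists_std [Finite G] (hG : OddCyc G) {p : ℕ} (hp : p.Prime) (hp2 : p ≠ 2) {t : G}
    (ht : orderOf t = 2) {J : Subgroup G} (hJ : Cmp (centralizer {t}) J) (hpJ : p ∣ Nat.card J) :
    ∃ K : Subgroup G, Std p K := by
  classical
  obtain ⟨K, ⟨hpK, t', ht', hK⟩, hmax⟩ := Set.exists_max_image
    {K : Subgroup G | p ∣ Nat.card K ∧ ∃ t : G, orderOf t = 2 ∧ Cmp (centralizer {t}) K}
    (fun K => Nat.card K) (Set.toFinite _) ⟨J, hpJ, t, ht, hJ⟩
  exact ⟨K, hG, hp, hp2, hpK, ⟨t', ht', hK⟩, fun s hs L hL hpL => hmax L ⟨hpL, s, hs, hL⟩⟩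

section

variable [Finite G] {p : ℕ} {K : Subgroup G}

omit [Finite G] in
theorem mem_centralizer_of_cmp {t : G} (h : Cmp (centralizer {t}) K) :
    t ∈ centralizer (K : Set G) := by
  rw [mem_centralizer_iff]
  intro k hk
  exact mem_centralizer_singleton_iff.mp (h.le hk)

omit [Finite G] in
theorem Std.quasi (h : Std p K) : IsQuasisimple K := by
  obtain ⟨t, -, hK⟩ := h.ex
  exact hK.quasi

theorem Std.step (h : Std p K) {t s : G} (hKt : Cmp (centralizer {t}) K) (ht : orderOf t = 2)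
    (hs : orderOf s = 2) (hsK : s ∈ centralizer (K : Set G)) (hst : Commute s t) :
    Cmp (centralizer {s}) K := by
  have hKs : K ≤ centralizer ({s} : Set G) := by
    intro k hk
    rw [mem_centralizer_singleton_iff]
    exact mem_centralizer_iff.mp hsK k hk
  have hle : (zpowers t) ≤ centralizer ({s} : Set G) := by
    rw [zpowers_le, mem_centralizer_singleton_iff]
    exact hst.symm
  have h1 : Cmp (centralizer ({s} : Set G) ⊓ centralizer (zpowers t : Set G)) K := by
    refine hKt.mono (le_inf hKs ?_) ?_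
    · intro k hk
      rw [mem_centralizer_iff]
      rintro _ ⟨n, rfl⟩
      have h2 : Commute k t := mem_centralizer_singleton_iff.mp (hKt.le hk)
      exact (h2.zpow_right n).symm
    · intro x hx
      rw [mem_centralizer_singleton_iff]
      exact (mem_centralizer_iff.mp hx.2 t (mem_zpowers t)).symm
  have h2 := h1.lbal h.cyc (isPGroup_zpowers ht) hle
  obtain ⟨J, hJ, hpJ, hKJ⟩ := exists_cmp h.cyc hKt.quasi h2 h.prime h.ne_two h.dvd
  have h3 : K = J := Subgroup.eq_of_le_of_card_ge hKJ (h.max s hs J hJ hpJ)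
  rw [h3]; exact hJ

/-- (1.1) -/
theorem Std.cmp (h : Std p K) {s : G} (hs : orderOf s = 2) (hsK : s ∈ centralizer (K : Set G)) :
    Cmp (centralizer {s}) K := by
  have hpf : Fact (Nat.Prime 2) := ⟨Nat.prime_two⟩
  obtain ⟨t, ht, hKt⟩ := h.ex
  have htK := mem_centralizer_of_cmp hKt
  obtain ⟨R, hR, htR⟩ := exists_isSyl2 (centralizer (K : Set G)) (zpowers t)
    (zpowers_le.mpr htK) (isPGroup_zpowers ht)
  obtain ⟨R', hR', hsR'⟩ := exists_isSyl2 (centralizer (K : Set G)) (zpowers s)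
    (zpowers_le.mpr hsK) (isPGroup_zpowers hs)
  have htR' : t ∈ R := htR (mem_zpowers t)
  have hsR'' : s ∈ R' := hsR' (mem_zpowers s)
  obtain ⟨m, hm, hmR⟩ := CITBasic.IsSyl2.conj hR hR'
  -- a central involution of `R`
  have hR1 : Nontrivial R := by
    rw [Subgroup.nontrivial_iff_ne_bot]
    intro hb
    rw [hb, Subgroup.mem_bot] at htR'
    rw [htR', orderOf_one] at ht
    omega
  obtain ⟨z, hzR, hz2, hzc⟩ : ∃ z ∈ R, orderOf z = 2 ∧ ∀ y ∈ R, z * y = y * z := by
    have h1 := hR.two.bot_lt_center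
    have h2 : Nontrivial (center R) := (Subgroup.nontrivial_iff_ne_bot _).mpr h1.ne'
    have h3 : IsPGroup 2 (center R) := hR.two.to_subgroup _
    obtain ⟨n, hn0, hn⟩ := h3.nontrivial_iff_card.mp h2
    obtain ⟨⟨⟨z, hzR⟩, hzc⟩, hz2⟩ := exists_prime_orderOf_dvd_card' (G := center R) 2
      (by rw [hn]; exact dvd_pow_self 2 (Nat.pos_iff_ne_zero.mp hn0))
    rw [Subgroup.orderOf_mk, Subgroup.orderOf_mk] at hz2
    refine ⟨z, hzR, hz2, fun y hy => ?_⟩
    exact (congrArg Subtype.val (mem_center_iff.mp hzc ⟨y, hy⟩)).symm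
  have hzK := hR.le hzR
  have h1 : Cmp (centralizer {z}) K := h.step hKt ht hz2 hzK (hzc t htR')
  -- the conjugate of `s` in `R`
  have hs' : m⁻¹ * s * m ∈ R := by
    rw [hmR] at hsR''
    exact mem_cj.mp hsR''
  have hs2 : orderOf (m⁻¹ * s * m) = 2 := by
    have := orderOf_conj m⁻¹ s
    rw [inv_inv] at this
    rw [this, hs]
  have h2 : Cmp (centralizer {m⁻¹ * s * m}) K := h.step h1 hz2 hs2 (hR.le hs') (hzc _ hs').symm
  have h3 := h2.conj m
  have h4 : K.map (MulAut.conj m).toMonoidHom = K := by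
    apply Subgroup.eq_of_le_of_card_ge
    · rintro _ ⟨k, hk, rfl⟩
      have : m * k * m⁻¹ = k := by
        rw [← mem_centralizer_iff.mp hm k hk]; group
      simp only [MulEquiv.coe_toMonoidHom, MulAut.conj_apply]
      rw [this]; exact hk
    · rw [Subgroup.card_map_of_injective (MulAut.conj m).injective]
  rw [h4] at h3
  have h5 : (centralizer ({m⁻¹ * s * m} : Set G)).map (MulAut.conj m).toMonoidHom =
      centralizer ({s} : Set G) := by
    have := cj_centralizer_singleton m (m⁻¹ * s * m)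
    have e : m * (m⁻¹ * s * m) * m⁻¹ = s := by group
    rw [e] at this
    exact this
  rwa [h5] at h3

/-- (1.1) -/
theorem Std.le_normalizer (h : Std p K) {s : G} (hs : orderOf s = 2)
    (hsK : s ∈ centralizer (K : Set G)) : centralizer ({s} : Set G) ≤ normalizer (K : Set G) :=
  (h.cmp hs hsK).le_normalizer h.cyc h.prime h.ne_two h.dvd

omit [Finite G] in
theorem Std.conj (h : Std p K) (g : G) : Std p (cj g K) := by
  refine ⟨h.cyc, h.prime, h.ne_two, by rw [card_cj]; exact h.dvd, ?_, fun s hs J hJ hpJ => ?_⟩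
  · obtain ⟨t, ht, hK⟩ := h.ex
    refine ⟨g * t * g⁻¹, by rw [orderOf_conj, ht], ?_⟩
    have := hK.conj g
    rw [← cj_centralizer_singleton]
    exact this
  · rw [card_cj]; exact h.max s hs J hJ hpJ

theorem Std.mem_of_involution (h : Std p K) {g s : G} (hs : orderOf s = 2)
    (h1 : s ∈ centralizer (K : Set G)) (h2 : s ∈ cj g (centralizer (K : Set G))) :
    g ∈ normalizer (K : Set G) := by
  rw [cj_centralizer] at h2
  have h3 := (h.cmp hs h1).eq_of_dvd h.cyc ((h.conj g).cmp hs h2) h.prime h.ne_two h.dvd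
    (h.conj g).dvd
  exact cj_eq_iff.mp h3.symm

/-- (1.2) -/
theorem Std.odd (h : Std p K) {g : G} (hg : g ∉ normalizer (K : Set G)) :
    Odd (Nat.card (centralizer (K : Set G) ⊓ cj g (centralizer (K : Set G)) : Subgroup G)) := by
  rw [← Nat.not_even_iff_odd]
  intro heven
  obtain ⟨s, hs, hs2⟩ := exists_involution heven
  exact hg (h.mem_of_involution hs2 hs.1 hs.2)

omit [Finite G] in
theorem centralizer_comm {x k : G} (hx : x ∈ centralizer (K : Set G)) (hk : k ∈ K) :
    k * x = x * k := mem_centralizer_iff.mp hx k hk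

/-- (1.2) -/
theorem Std.not_dvd (h : Std p K) {q : ℕ} (hq : q.Prime) (hq2 : q ≠ 2) (hqK : q ∣ Nat.card K) :
    ¬ q ∣ Nat.card (centralizer (K : Set G)) := fun hqY =>
  false_of_commute h.cyc h.quasi (fun _ hx _ hy => centralizer_comm hy hx) hq hq2 hqK hqY

omit [Finite G] in
theorem normalizer_le_centralizer (K : Subgroup G) :
    normalizer (K : Set G) ≤ normalizer (centralizer (K : Set G) : Set G) := by
  have key : ∀ g ∈ normalizer (K : Set G), ∀ x ∈ centralizer (K : Set G),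
      g * x * g⁻¹ ∈ centralizer (K : Set G) := by
    intro g hg x hx
    rw [mem_centralizer_iff] at hx ⊢
    intro k hk
    have h1 : g⁻¹ * k * g ∈ K := by
      have := forall_of_mem_normalizer (inv_mem hg) k hk
      rwa [inv_inv] at this
    have h2 := hx _ h1
    calc k * (g * x * g⁻¹) = g * ((g⁻¹ * k * g) * x) * g⁻¹ := by group
      _ = g * (x * (g⁻¹ * k * g)) * g⁻¹ := by rw [h2]
      _ = g * x * g⁻¹ * k := by group
  intro g hg
  rw [mem_normalizer_iff]
  intro x
  refine ⟨key g hg x, fun hx => ?_⟩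
  have h1 := key g⁻¹ (inv_mem hg) _ hx
  have e : g⁻¹ * (g * x * g⁻¹) * g⁻¹⁻¹ = x := by group
  rwa [e] at h1

/-- (1.2) -/
theorem Std.normalizer_eq (h : Std p K) :
    normalizer (K : Set G) = normalizer (centralizer (K : Set G) : Set G) := by
  apply le_antisymm (normalizer_le_centralizer K)
  intro g hg
  obtain ⟨t, ht, hK⟩ := h.ex
  have htK := mem_centralizer_of_cmp hK
  refine h.mem_of_involution ht htK ?_
  rw [cj_eq_iff.mpr hg]
  exact htK

/-- (1.2) `K` is a standard component. -/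
theorem Std.isStandard (h : Std p K) : IsStandardSubgroup K := by
  refine ⟨h.quasi, ⟨?_, ?_⟩, ?_, h.normalizer_eq⟩
  · obtain ⟨t, ht, hK⟩ := h.ex
    exact even_of_mem (mem_centralizer_of_cmp hK) ht
  · intro g hg
    rw [← h.normalizer_eq] at hg
    exact h.odd hg
  · intro g _ hcomm
    rw [commutator_eq_bot_iff_le_centralizer] at hcomm
    have h1 : ∀ x ∈ K, ∀ y ∈ K.map (MulAut.conj g).toMonoidHom, x * y = y * x :=
      fun x hx y hy => (mem_centralizer_iff.mp (hcomm hx) y hy).symm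
    exact false_of_commute h.cyc h.quasi h1 h.prime h.ne_two h.dvd (by
      rw [Subgroup.card_map_of_injective (MulAut.conj g).injective]; exact h.dvd)

/-- (1.3) Elements of `N(K)` of odd prime order dividing `|K|` lie in `K`. -/
theorem Std.mem_of_dvd (h : Std p K) {q : ℕ} (hq : q.Prime) (hq2 : q ≠ 2) (hqK : q ∣ Nat.card K)
    {x : G} (hx : x ∈ normalizer (K : Set G)) (hxq : orderOf x = q) : x ∈ K :=
  mem_of_le_normalizer h.cyc Subgroup.le_normalizer le_rfl hq hq2 hqK hx hxq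

/-- (1.3) Elements of `N(K)` of odd prime order dividing `|C(K)|` lie in `C(K)`. -/
theorem Std.mem_cent_of_dvd (h : Std p K) {q : ℕ} (hq : q.Prime) (hq2 : q ≠ 2)
    (hqK : q ∣ Nat.card (centralizer (K : Set G))) {x : G} (hx : x ∈ normalizer (K : Set G))
    (hxq : orderOf x = q) : x ∈ centralizer (K : Set G) := by
  rw [h.normalizer_eq] at hx
  exact mem_of_le_normalizer h.cyc Subgroup.le_normalizer le_rfl hq hq2 hqK hx hxq

/-- (1.6) Elements of `N(K^g)` of odd prime order dividing `|K|` lie in `K^g`. -/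
theorem Std.mem_cj_of_dvd (h : Std p K) (g : G) {q : ℕ} (hq : q.Prime) (hq2 : q ≠ 2)
    (hqK : q ∣ Nat.card K) {x : G} (hx : x ∈ cj g (normalizer (K : Set G)))
    (hxq : orderOf x = q) : x ∈ cj g K := by
  rw [cj_normalizer] at hx
  exact (h.conj g).mem_of_dvd hq hq2 (by rw [card_cj]; exact hqK) hx hxq

/-- (1.6) They commute with `C(K)^g`. -/
theorem Std.commute_of_dvd (h : Std p K) (g : G) {q : ℕ} (hq : q.Prime) (hq2 : q ≠ 2)
    (hqK : q ∣ Nat.card K) {x : G} (hx : x ∈ cj g (normalizer (K : Set G)))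
    (hxq : orderOf x = q) {y : G} (hy : y ∈ cj g (centralizer (K : Set G))) : x * y = y * x := by
  rw [cj_centralizer] at hy
  exact mem_centralizer_iff.mp hy x (h.mem_cj_of_dvd g hq hq2 hqK hx hxq)

omit [Finite G] in
theorem Std.ne_top [IsSimpleGroup G] (h : Std p K) : normalizer (K : Set G) ≠ ⊤ := by
  intro htop
  have hn : K.Normal := Subgroup.normalizer_eq_top_iff.mp htop
  rcases hn.eq_bot_or_eq_top with h1 | h1
  · have := h.quasi.1
    have hnt := Cfsg.Agent.SignalizersComponents.Components.quasisimple_nontrivial h.quasi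
    rw [Subgroup.nontrivial_iff_ne_bot] at hnt
    exact hnt h1
  · obtain ⟨t, ht, hK⟩ := h.ex
    have htK := mem_centralizer_of_cmp hK
    rw [h1] at htK
    have htc : t ∈ center G := by
      rw [mem_center_iff]
      intro g
      exact mem_centralizer_iff.mp htK g (mem_top g)
    have hcn : (center G).Normal := inferInstance
    rcases hcn.eq_bot_or_eq_top with h2 | h2
    · rw [h2, mem_bot] at htc
      rw [htc, orderOf_one] at ht
      omega
    · have hp := h.quasi
      have h3 : IsMulCommutative K := ⟨⟨fun a b => by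
        apply Subtype.ext
        have : (a : G) ∈ center G := by rw [h2]; exact mem_top _
        exact (mem_center_iff.mp this b).symm⟩⟩
      exact Cfsg.Agent.SignalizersComponents.Components.quasisimple_not_isMulCommutative hp h3

/-- (1.4) Some conjugate of `C(K)` different from `C(K)` meets `N(K)` in a group of even order. -/
theorem Std.exists_even [IsSimpleGroup G] (h : Std p K)
    (hA : ∀ M : Subgroup G, M ≠ ⊤ → ∀ z : G, orderOf z = 2 → z ∈ M →
      (∃ S : Sylow 2 G, z ∈ S ∧ ∀ s ∈ S, Commute s z) → (∀ g : G, g * z * g⁻¹ ∈ M → g ∈ M) →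
      (∀ g : G, Commute z (g * z * g⁻¹) → g * z * g⁻¹ ≠ z →
        centralizer ({z * (g * z * g⁻¹)} : Set G) ≤ M) → ∃ H : Subgroup G, IsStronglyEmbedded H)
    (hSE : ¬ ∃ H : Subgroup G, IsStronglyEmbedded H) :
    ∃ g, g ∉ normalizer (K : Set G) ∧
      Even (Nat.card (cj g (centralizer (K : Set G)) ⊓ normalizer (K : Set G) : Subgroup G)) := by
  have hpf : Fact (Nat.Prime 2) := ⟨Nat.prime_two⟩
  by_contra hno
  push Not at hno
  apply hSE
  set M := normalizer (K : Set G) with hM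
  set Y := centralizer (K : Set G) with hY
  have hYM : Y ≤ M := centralizer_le_normalizer _
  have hkey : ∀ g s : G, orderOf s = 2 → s ∈ cj g Y → s ∈ M → g ∈ M := by
    intro g s hs h1 h2
    by_contra hg
    exact hno g hg (even_of_mem ⟨h1, h2⟩ hs)
  -- a Sylow 2-subgroup of `M`
  obtain ⟨S, hS, -⟩ := exists_isSyl2 M ⊥ bot_le IsPGroup.of_bot
  have hR : IsSyl2 Y (S ⊓ Y) := isSyl2_inf hS hYM fun d hd w hw =>
    forall_of_mem_normalizer (normalizer_le_centralizer K hd) w hw
  obtain ⟨t, ht, hKt⟩ := h.ex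
  have htY : t ∈ Y := mem_centralizer_of_cmp hKt
  have hR1 : S ⊓ Y ≠ ⊥ := by
    intro hb
    obtain ⟨R', hR', htR'⟩ := exists_isSyl2 Y (zpowers t) (zpowers_le.mpr htY)
      (isPGroup_zpowers ht)
    obtain ⟨m, -, hmR⟩ := CITBasic.IsSyl2.conj hR hR'
    rw [hb, Subgroup.map_bot] at hmR
    have := htR' (mem_zpowers t)
    rw [hmR, mem_bot] at this
    rw [this, orderOf_one] at ht
    omega
  -- it is a Sylow 2-subgroup of `G`
  obtain ⟨T, hST⟩ := hS.two.exists_le_sylow
  obtain ⟨r, hrR, hr2⟩ : ∃ r ∈ S ⊓ Y, orderOf r = 2 := by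
    have h2 : Nontrivial (S ⊓ Y : Subgroup G) := (Subgroup.nontrivial_iff_ne_bot _).mpr hR1
    obtain ⟨n, hn0, hn⟩ := hR.two.nontrivial_iff_card.mp h2
    refine exists_involution ?_
    rw [hn]
    exact (Nat.even_pow.mpr ⟨even_two, Nat.pos_iff_ne_zero.mp hn0⟩)
  have hnS : normalizer (S : Set G) ⊓ (T : Subgroup G) ≤ S := by
    have h1 : normalizer (S : Set G) ≤ M := by
      intro x hx
      refine hkey x (x * r * x⁻¹) (by rw [orderOf_conj, hr2]) (conj_mem_cj hrR.2) ?_
      exact hS.le (forall_of_mem_normalizer hx r hrR.1)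
    have h2 : IsPGroup 2 (normalizer (S : Set G) ⊓ (T : Subgroup G) : Subgroup G) :=
      T.isPGroup'.to_le inf_le_right
    have h3 := hS.max _ (inf_le_left.trans h1) h2 (le_inf Subgroup.le_normalizer hST)
    exact h3.le
  have hTS : S = (T : Subgroup G) :=
    (Cfsg.Agent.Blocks.SylowIn.eq_of_normalizer_inf_le (p := 2) T.isPGroup' hST hnS).symm
  -- a central involution in `S ⊓ Y`
  obtain ⟨z, hzR, hz2, hzc⟩ : ∃ z ∈ S ⊓ Y, orderOf z = 2 ∧ ∀ y ∈ S, z * y = y * z := by
    have h1 : ((S ⊓ Y).subgroupOf S).Normal := by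
      refine Subgroup.normal_subgroupOf_of_le_normalizer ?_
      intro s hs
      refine mem_normalizer_of_forall fun x hx => ⟨?_, ?_⟩
      · exact S.mul_mem (S.mul_mem hs hx.1) (S.inv_mem hs)
      · exact forall_of_mem_normalizer (normalizer_le_centralizer K (hS.le hs)) x hx.2
    have h2 : (S ⊓ Y).subgroupOf S ≠ ⊥ := by
      intro hb
      apply hR1
      have := congrArg (Subgroup.map S.subtype) hb
      rw [Subgroup.subgroupOf_map_subtype, Subgroup.map_bot] at this
      rwa [inf_eq_left.mpr inf_le_left] at this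
    have h4 : Group.IsNilpotent S := hS.two.isNilpotent
    have h3 := Cfsg.Agent.Lib.NormalAbelian.normal_inf_center_ne_bot ((S ⊓ Y).subgroupOf S) h2
    have h5 : IsPGroup 2 ((S ⊓ Y).subgroupOf S ⊓ center S : Subgroup S) :=
      hS.two.to_subgroup _
    have h6 := (Subgroup.nontrivial_iff_ne_bot _).mpr h3
    obtain ⟨n, hn0, hn⟩ := h5.nontrivial_iff_card.mp h6
    obtain ⟨⟨z, hzS⟩, hz, hz2⟩ := exists_involution
      (H := ((S ⊓ Y).subgroupOf S ⊓ center S : Subgroup S))
      (by rw [hn]; exact (Nat.even_pow.mpr ⟨even_two, Nat.pos_iff_ne_zero.mp hn0⟩))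
    rw [Subgroup.orderOf_mk] at hz2
    exact ⟨z, hz.1, hz2, fun y hy =>
      (congrArg Subtype.val (mem_center_iff.mp hz.2 ⟨y, hy⟩)).symm⟩
  refine hA M h.ne_top z hz2 (hYM hzR.2) ⟨T, ?_, fun s hs => ?_⟩ ?_ ?_
  · show z ∈ (T : Subgroup G)
    rw [← hTS]; exact hzR.1
  · have hs' : s ∈ (T : Subgroup G) := hs
    rw [← hTS] at hs'
    exact (hzc s hs').symm
  · intro g hg
    exact hkey g _ (by rw [orderOf_conj, hz2]) (conj_mem_cj hzR.2) hg
  · intro g hg hne
    have h1 : g * z * g⁻¹ ∈ M := by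
      refine h.le_normalizer hz2 hzR.2 ?_
      rw [mem_centralizer_singleton_iff]
      exact hg.symm
    have h2 : g ∈ M := hkey g _ (by rw [orderOf_conj, hz2]) (conj_mem_cj hzR.2) h1
    have h3 : g * z * g⁻¹ ∈ Y :=
      forall_of_mem_normalizer (normalizer_le_centralizer K h2) z hzR.2
    refine h.le_normalizer ?_ (Y.mul_mem hzR.2 h3)
    have hzz : z * z = 1 := by rw [← pow_two, ← hz2, pow_orderOf_eq_one]
    have hzg : (g * z * g⁻¹) * (g * z * g⁻¹) = 1 := by
      calc (g * z * g⁻¹) * (g * z * g⁻¹) = g * (z * z) * g⁻¹ := by group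
        _ = 1 := by rw [hzz]; group
    refine orderOf_eq_prime ?_ ?_
    · rw [pow_two]
      calc z * (g * z * g⁻¹) * (z * (g * z * g⁻¹))
          = z * ((g * z * g⁻¹) * z) * (g * z * g⁻¹) := by group
        _ = z * (z * (g * z * g⁻¹)) * (g * z * g⁻¹) := by rw [← hg.eq]
        _ = (z * z) * ((g * z * g⁻¹) * (g * z * g⁻¹)) := by group
        _ = 1 := by rw [hzz, hzg, one_mul]
    · intro hz1
      apply hne
      have h4 : g * z * g⁻¹ = z⁻¹ := (eq_inv_of_mul_eq_one_right hz1)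
      rw [h4]
      exact inv_eq_of_mul_eq_one_right hzz

/-! ### (1.5) -/

/-- Centralizers of involutions of `C(K)^g` lie in `N(K)^g`. -/
theorem Std.centralizer_le_cj (h : Std p K) {g a : G} (ha : orderOf a = 2)
    (haY : a ∈ cj g (centralizer (K : Set G))) :
    centralizer ({a} : Set G) ≤ cj g (normalizer (K : Set G)) := by
  rw [cj_normalizer]
  rw [cj_centralizer] at haY
  exact (h.conj g).le_normalizer ha haY

theorem Std.inf_eq_bot (h : Std p K) {g : G} (hg : g ∉ normalizer (K : Set G)) {A : Subgroup G}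
    (hA : IsPGroup 2 A) (hAY : A ≤ cj g (centralizer (K : Set G))) :
    A ⊓ centralizer (K : Set G) = ⊥ :=
  eq_bot_of_odd (hA.to_le inf_le_left) (le_inf inf_le_right (inf_le_left.trans hAY)) (h.odd hg)

/-- `P` is a Sylow 2-subgroup of `N(K) ∩ N(K)^g`, contained in the Sylow 2-subgroup `S` of
`N(K)`. -/
structure PairAt (K : Subgroup G) (g : G) (S P : Subgroup G) : Prop where
  sylM : IsSyl2 (normalizer (K : Set G)) S
  sylD : IsSyl2 (normalizer (K : Set G) ⊓ cj g (normalizer (K : Set G))) P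
  le : P ≤ S

theorem exists_pairAt (K : Subgroup G) (g : G) {Q : Subgroup G} (hQ : IsPGroup 2 Q)
    (hQD : Q ≤ normalizer (K : Set G) ⊓ cj g (normalizer (K : Set G))) :
    ∃ S P : Subgroup G, PairAt K g S P ∧ Q ≤ P := by
  obtain ⟨P, hP, hQP⟩ := exists_isSyl2 _ Q hQD hQ
  obtain ⟨S, hS, hPS⟩ := exists_isSyl2 _ P (hP.le.trans inf_le_left) hP.two
  exact ⟨S, P, ⟨hS, hP, hPS⟩, hQP⟩

omit [Finite G] in
theorem cj_centralizer_le_normalizer (g : G) (K : Subgroup G) :
    cj g (centralizer (K : Set G)) ≤ cj g (normalizer (K : Set G)) :=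
  cj_mono (centralizer_le_normalizer _)

omit [Finite G] in
theorem normal_cent (K : Subgroup G) : ∀ d ∈ normalizer (K : Set G),
    ∀ w ∈ centralizer (K : Set G), d * w * d⁻¹ ∈ centralizer (K : Set G) :=
  fun _ hd w hw => forall_of_mem_normalizer (normalizer_le_centralizer K hd) w hw

omit [Finite G] in
theorem normal_cj_cent (g : G) (K : Subgroup G) : ∀ d ∈ cj g (normalizer (K : Set G)),
    ∀ w ∈ cj g (centralizer (K : Set G)), d * w * d⁻¹ ∈ cj g (centralizer (K : Set G)) := by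
  intro d hd w hw
  rw [mem_cj] at hd hw ⊢
  have h1 := normal_cent K _ hd _ hw
  have e : g⁻¹ * d * g * (g⁻¹ * w * g) * (g⁻¹ * d * g)⁻¹ = g⁻¹ * (d * w * d⁻¹) * g := by group
  rwa [e] at h1

/-- `A ∈ Syl₂(C(K)^g ∩ N(K))` -/
theorem PairAt.sylA {g : G} {S P : Subgroup G} (hP : PairAt K g S P) :
    IsSyl2 (cj g (centralizer (K : Set G)) ⊓ normalizer (K : Set G))
      (P ⊓ cj g (centralizer (K : Set G))) := by
  have h1 := isSyl2_inf hP.sylD
    (W := cj g (centralizer (K : Set G)) ⊓ normalizer (K : Set G))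
    (le_inf inf_le_right (inf_le_left.trans (cj_centralizer_le_normalizer g K)))
    (fun d hd w hw => Subgroup.mem_inf.mpr ⟨normal_cj_cent g K d hd.2 w hw.1,
      Subgroup.mul_mem _ (Subgroup.mul_mem _ hd.1 hw.2) (Subgroup.inv_mem _ hd.1)⟩)
  have h2 : P ⊓ (cj g (centralizer (K : Set G)) ⊓ normalizer (K : Set G)) =
      P ⊓ cj g (centralizer (K : Set G)) :=
    le_antisymm (le_inf inf_le_left (inf_le_right.trans inf_le_left))
      (le_inf inf_le_left (le_inf inf_le_right
        (inf_le_left.trans (hP.sylD.le.trans inf_le_left))))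
  rwa [h2] at h1

/-- `A' ∈ Syl₂(C(K) ∩ N(K)^g)` -/
theorem PairAt.sylA' {g : G} {S P : Subgroup G} (hP : PairAt K g S P) :
    IsSyl2 (centralizer (K : Set G) ⊓ cj g (normalizer (K : Set G)))
      (P ⊓ centralizer (K : Set G)) := by
  have h1 := isSyl2_inf hP.sylD
    (W := centralizer (K : Set G) ⊓ cj g (normalizer (K : Set G)))
    (le_inf (inf_le_left.trans (centralizer_le_normalizer _)) inf_le_right)
    (fun d hd w hw => Subgroup.mem_inf.mpr ⟨normal_cent K d hd.1 w hw.1,
      Subgroup.mul_mem _ (Subgroup.mul_mem _ hd.2 hw.2) (Subgroup.inv_mem _ hd.2)⟩)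
  have h2 : P ⊓ (centralizer (K : Set G) ⊓ cj g (normalizer (K : Set G))) =
      P ⊓ centralizer (K : Set G) :=
    le_antisymm (le_inf inf_le_left (inf_le_right.trans inf_le_left))
      (le_inf inf_le_left (le_inf inf_le_right
        (inf_le_left.trans (hP.sylD.le.trans inf_le_right))))
  rwa [h2] at h1

/-- `R ∈ Syl₂(C(K))` -/
theorem PairAt.sylR {g : G} {S P : Subgroup G} (hP : PairAt K g S P) :
    IsSyl2 (centralizer (K : Set G)) (S ⊓ centralizer (K : Set G)) :=
  isSyl2_inf hP.sylM (centralizer_le_normalizer _) (normal_cent K)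

/-- `[A, A'] = 1` -/
theorem PairAt.comm {g : G} {S P : Subgroup G} (h : Std p K) (hg : g ∉ normalizer (K : Set G))
    (hP : PairAt K g S P) : ∀ a ∈ P ⊓ cj g (centralizer (K : Set G)),
      ∀ b ∈ P ⊓ centralizer (K : Set G), a * b = b * a := by
  intro a ha b hb
  have h1 : a * b * a⁻¹ * b⁻¹ ∈ P ⊓ (cj g (centralizer (K : Set G)) ⊓ centralizer (K : Set G)) := by
    have haM := hP.sylD.le ha.1
    have hbM := hP.sylD.le hb.1
    refine Subgroup.mem_inf.mpr ⟨Subgroup.mul_mem _ (Subgroup.mul_mem _ (Subgroup.mul_mem _ ha.1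
      hb.1) (Subgroup.inv_mem _ ha.1)) (Subgroup.inv_mem _ hb.1), Subgroup.mem_inf.mpr ⟨?_, ?_⟩⟩
    · have h2 := normal_cj_cent g K b hbM.2 a⁻¹ (Subgroup.inv_mem _ ha.2)
      have e : a * b * a⁻¹ * b⁻¹ = a * (b * a⁻¹ * b⁻¹) := by group
      rw [e]; exact Subgroup.mul_mem _ ha.2 h2
    · exact Subgroup.mul_mem _ (normal_cent K a haM.1 b hb.2) (Subgroup.inv_mem _ hb.2)
  have h2 : P ⊓ (cj g (centralizer (K : Set G)) ⊓ centralizer (K : Set G)) = ⊥ := by
    rw [← inf_assoc]
    exact h.inf_eq_bot hg (hP.sylD.two.to_le inf_le_left) inf_le_right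
  rw [h2, mem_bot] at h1
  have h3 : a * b * a⁻¹ = b := mul_inv_eq_one.mp h1
  exact mul_inv_eq_iff_eq_mul.mp h3

/-- `C_R(a) = A'` for each involution `a` of `A`. -/
theorem PairAt.cent_eq {g : G} {S P : Subgroup G} (h : Std p K) (hg : g ∉ normalizer (K : Set G))
    (hP : PairAt K g S P) {a : G} (ha : a ∈ P ⊓ cj g (centralizer (K : Set G)))
    (ha2 : orderOf a = 2) :
    S ⊓ centralizer (K : Set G) ⊓ centralizer ({a} : Set G) = P ⊓ centralizer (K : Set G) := by
  refine hP.sylA'.max _ (le_inf (inf_le_left.trans inf_le_right)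
    (inf_le_right.trans (h.centralizer_le_cj ha2 ha.2)))
    (hP.sylM.two.to_le (inf_le_left.trans inf_le_left)) ?_
  intro b hb
  refine Subgroup.mem_inf.mpr ⟨⟨hP.le hb.1, hb.2⟩, ?_⟩
  rw [mem_centralizer_singleton_iff]
  exact (hP.comm h hg a ha b hb).symm

/-- `C_R(a) = A'`, in elements. -/
theorem PairAt.mem_iff {g : G} {S P : Subgroup G} (h : Std p K) (hg : g ∉ normalizer (K : Set G))
    (hP : PairAt K g S P) {a : G} (ha : a ∈ P ⊓ cj g (centralizer (K : Set G)))
    (ha2 : orderOf a = 2) {r : G} (hrS : r ∈ S) (hrK : r ∈ centralizer (K : Set G)) :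
    a * r = r * a ↔ r ∈ P := by
  have h1 := hP.cent_eq h hg ha ha2
  constructor
  · intro hr
    have h2 : r ∈ S ⊓ centralizer (K : Set G) ⊓ centralizer ({a} : Set G) :=
      ⟨⟨hrS, hrK⟩, mem_centralizer_singleton_iff.mpr hr.symm⟩
    rw [h1] at h2
    exact h2.1
  · intro hr
    exact hP.comm h hg a ha r ⟨hr, hrK⟩

/-- `A' ≠ 1` if `A ≠ 1`: the situation is symmetric. -/
theorem PairAt.ne_bot {g : G} {S P : Subgroup G} (h : Std p K) (hg : g ∉ normalizer (K : Set G))
    (hP : PairAt K g S P) (hA : P ⊓ cj g (centralizer (K : Set G)) ≠ ⊥) :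
    P ⊓ centralizer (K : Set G) ≠ ⊥ := by
  have hpf : Fact (Nat.Prime 2) := ⟨Nat.prime_two⟩
  intro hbot
  have h1 : IsPGroup 2 (P ⊓ cj g (centralizer (K : Set G)) : Subgroup G) :=
    hP.sylD.two.to_le inf_le_left
  obtain ⟨n, hn0, hn⟩ := h1.nontrivial_iff_card.mp ((Subgroup.nontrivial_iff_ne_bot _).mpr hA)
  obtain ⟨a, ha, ha2⟩ := exists_involution (H := P ⊓ cj g (centralizer (K : Set G)))
    (by rw [hn]; exact (Nat.even_pow.mpr ⟨even_two, Nat.pos_iff_ne_zero.mp hn0⟩))
  have h2 := hP.cent_eq h hg ha ha2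
  rw [hbot] at h2
  -- `R` is nontrivial and normalized by `a`
  set R := S ⊓ centralizer (K : Set G) with hR
  have hRn : a ∈ normalizer (R : Set G) := by
    refine mem_normalizer_of_forall fun x hx => Subgroup.mem_inf.mpr ⟨?_, ?_⟩
    · exact Subgroup.mul_mem _ (Subgroup.mul_mem _ (hP.le ha.1) hx.1)
        (Subgroup.inv_mem _ (hP.le ha.1))
    · exact normal_cent K a (hP.sylD.le ha.1).1 x hx.2
  have hR1 : R ≠ ⊥ := by
    intro hb
    obtain ⟨t, ht, hKt⟩ := h.ex
    obtain ⟨R', hR', htR'⟩ := exists_isSyl2 (centralizer (K : Set G)) (zpowers t)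
      (zpowers_le.mpr (mem_centralizer_of_cmp hKt)) (isPGroup_zpowers ht)
    obtain ⟨m, -, hmR⟩ := CITBasic.IsSyl2.conj hP.sylR hR'
    rw [← hR, hb, Subgroup.map_bot] at hmR
    have := htR' (mem_zpowers t)
    rw [hmR, mem_bot] at this
    rw [this, orderOf_one] at ht
    omega
  have haR : a ∉ R := by
    intro haR
    have h3 : a ∈ R ⊓ centralizer ({a} : Set G) := ⟨haR, mem_centralizer_singleton_iff.mpr rfl⟩
    rw [h2, mem_bot] at h3
    rw [h3, orderOf_one] at ha2
    omega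
  -- in the 2-group `R⟨a⟩` the normal subgroup `R` meets the centre nontrivially
  set Q : Subgroup G := R ⊔ zpowers a with hQ
  have hQ2 : IsPGroup 2 Q := by
    have : Q ≤ S := sup_le inf_le_left (zpowers_le.mpr (hP.le ha.1))
    exact hP.sylM.two.to_le this
  have hRQ : (R.subgroupOf Q).Normal := Subgroup.normal_subgroupOf_of_le_normalizer
    (sup_le Subgroup.le_normalizer (zpowers_le.mpr hRn))
  have hne : R.subgroupOf Q ≠ ⊥ := by
    intro hb
    apply hR1
    have h3 := congrArg (Subgroup.map Q.subtype) hb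
    rw [Subgroup.subgroupOf_map_subtype, Subgroup.map_bot] at h3
    rwa [inf_eq_left.mpr le_sup_left] at h3
  have h4 : Group.IsNilpotent Q := hQ2.isNilpotent
  have h5 := Cfsg.Agent.Lib.NormalAbelian.normal_inf_center_ne_bot (R.subgroupOf Q) hne
  obtain ⟨⟨⟨z, hzQ⟩, hz⟩, hz1⟩ := Subgroup.ne_bot_iff_exists_ne_one.mp h5
  apply hz1
  have h6 : z ∈ R ⊓ centralizer ({a} : Set G) := by
    refine ⟨hz.1, mem_centralizer_singleton_iff.mpr ?_⟩
    exact (congrArg Subtype.val (mem_center_iff.mp hz.2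
      ⟨a, Subgroup.mem_sup_right (mem_zpowers a)⟩)).symm
  rw [h2, mem_bot] at h6
  exact Subtype.ext (Subtype.ext h6)

/-- If `C(K)^g ∩ N(K)` has even order, so has `C(K) ∩ N(K)^g`. -/
theorem Std.even_symm (h : Std p K) {g : G} (hg : g ∉ normalizer (K : Set G))
    (he : Even (Nat.card (cj g (centralizer (K : Set G)) ⊓ normalizer (K : Set G) : Subgroup G))) :
    Even (Nat.card (centralizer (K : Set G) ⊓ cj g (normalizer (K : Set G)) : Subgroup G)) := by
  have hpf : Fact (Nat.Prime 2) := ⟨Nat.prime_two⟩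
  obtain ⟨a, ha, ha2⟩ := exists_involution he
  obtain ⟨S, P, hP, haP⟩ := exists_pairAt K g (isPGroup_zpowers ha2)
    (zpowers_le.mpr ⟨ha.2, cj_centralizer_le_normalizer g K ha.1⟩)
  have h1 : P ⊓ cj g (centralizer (K : Set G)) ≠ ⊥ := by
    intro hb
    have h2 : a ∈ P ⊓ cj g (centralizer (K : Set G)) := ⟨haP (mem_zpowers a), ha.1⟩
    rw [hb, mem_bot] at h2
    rw [h2, orderOf_one] at ha2
    omega
  have h2 := hP.ne_bot h hg h1
  have h3 : IsPGroup 2 (P ⊓ centralizer (K : Set G) : Subgroup G) := hP.sylA'.two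
  obtain ⟨n, hn0, hn⟩ := h3.nontrivial_iff_card.mp ((Subgroup.nontrivial_iff_ne_bot _).mpr h2)
  rw [even_iff_two_dvd]
  refine dvd_trans ?_ (Subgroup.card_dvd_of_le hP.sylA'.le)
  rw [hn]
  exact dvd_pow_self 2 (Nat.pos_iff_ne_zero.mp hn0)

end

end Cfsg.Agent.OddCyclic.CompStandard
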