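import Mathlib
import Cfsg.Prelude.Def_Local
import Cfsg.Prelude.Def_Sz
import Cfsg.Agent.Lib.Cores
import Cfsg.Agent.Lib.GenFitting
import Cfsg.Agent.LieExceptional.CITSylow
import Cfsg.Agent.OddCyclic.T1Defs
import Cfsg.Agent.S1163
import Cfsg.Agent.SignalizersComponents.CompBasic
import Cfsg.Agent.SignalizersComponents.Components
import Cfsg.Agent.ThreePrime.ACFacts
import Cfsg.Agent.ThreePrime.OrderThree

/-!
# Components of 3'-groups with cyclic odd Sylow subgroups (S0342, T₀ = 1)
-/

set_option autoImplicit false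

namespace Cfsg.Agent.OddCyclic.T1SzComp

open Cfsg Subgroup
open Cfsg.Agent.OddCyclic.T1Defs
open Cfsg.Agent.SignalizersComponents.CompBasic
open Cfsg.Agent.SignalizersComponents.Components

universe u

open scoped IsMulCommutative in
/-- central `p`-elements of a perfect group with abelian Sylow `p`-subgroups are trivial -/
theorem eq_one_of_center {K : Type*} [Group K] [Finite K] (hK : Group.IsPerfect K) {p : ℕ} [Fact p.Prime]
    (P : Sylow p K) (hP : IsMulCommutative (P : Subgroup K)) {z : K} (hz : z ∈ center K) {n : ℕ}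
    (hn : z ^ p ^ n = 1) : z = 1 := by
  have h1 : (MonoidHom.transfer (MonoidHom.id (P : Subgroup K))) z = 1 := hom_eq_one_of_perfect hK _ z
  have key : ∀ (k : ℕ) (g₀ : K), g₀⁻¹ * z ^ k * g₀ ∈ (P : Subgroup K) → g₀⁻¹ * z ^ k * g₀ = z ^ k := by
    intro k g _
    have h2 : z ^ k ∈ center K := pow_mem hz k
    rw [mul_assoc, ← mem_center_iff.1 h2 g, ← mul_assoc, inv_mul_cancel, one_mul]
  rw [MonoidHom.transfer_eq_pow _ _ key] at h1
  have h3 : z ^ (P : Subgroup K).index = 1 := congrArg Subtype.val h1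
  have hidx : ¬ p ∣ (P : Subgroup K).index := P.not_dvd_index
  have hcop : (p ^ n).Coprime (P : Subgroup K).index :=
    Nat.Coprime.pow_left n (((Fact.out : p.Prime).coprime_iff_not_dvd).2 hidx)
  exact Cfsg.Agent.LieExceptional.CITSylow.eq_one_of_coprime_pow hcop hn h3

theorem mem_iff_pow_card {C : Type*} [Group C] [Finite C] [IsCyclic C] (A : Subgroup C) (x : C) :
    x ∈ A ↔ x ^ Nat.card A = 1 := by
  classical
  have := Fintype.ofFinite C
  have h0 : ∀ x ∈ A, x ^ Nat.card A = 1 := by
    intro x h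
    have h1 := pow_card_eq_one' (x := (⟨x, h⟩ : A))
    have h2 := congrArg (Subtype.val) h1
    rwa [SubmonoidClass.coe_pow] at h2
  constructor
  · exact h0 x
  · intro h
    have h1 := IsCyclic.card_pow_eq_one_le (α := C) (n := Nat.card A) Nat.card_pos
    have h2 : (Finset.univ.filter fun a : C => a ∈ A) ⊆
        (Finset.univ.filter fun a : C => a ^ Nat.card A = 1) := by
      intro a ha
      rw [Finset.mem_filter] at ha ⊢
      exact ⟨Finset.mem_univ _, h0 a ha.2⟩
    have h3 : (Finset.univ.filter fun a : C => a ∈ A).card = Nat.card A := by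
      rw [Nat.card_eq_fintype_card, Fintype.card_subtype]
    have h4 := Finset.eq_of_subset_of_card_le h2 (h1.trans h3.ge)
    have : x ∈ (Finset.univ.filter fun a : C => a ^ Nat.card A = 1) :=
      Finset.mem_filter.2 ⟨Finset.mem_univ _, h⟩
    rw [← h4] at this
    exact (Finset.mem_filter.1 this).2

/-- elements of the same order in a cyclic subgroup -/
theorem mem_zpowers_of_cyclic {G : Type*} [Group G] [Finite G] {R : Subgroup G} (hR : IsCyclic R) {x y : G}
    (hx : x ∈ R) (hy : y ∈ R) (h : orderOf x = orderOf y) : x ∈ zpowers y := by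
  have h1 : (⟨x, hx⟩ : R) ∈ zpowers (⟨y, hy⟩ : R) := by
    rw [mem_iff_pow_card, Nat.card_zpowers]
    apply Subtype.ext
    rw [SubmonoidClass.coe_pow, Subgroup.orderOf_mk, ← h]
    exact pow_orderOf_eq_one x
  obtain ⟨k, hk⟩ := h1
  exact ⟨k, congrArg Subtype.val hk⟩

theorem five_dvd {K : Type*} [Group K] (h : Cfsg.Lie.IsoSuzuki K) : 5 ∣ Nat.card K := by
  obtain ⟨F, iF, iFin, m, hm, hF, ⟨e⟩⟩ := h
  rw [Nat.card_congr e.toEquiv, (Cfsg.Agent.S1163.result hm hF).1]
  have h1 : 5 ∣ (2 ^ (2 * m + 1)) ^ 2 + 1 := by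
    have h2 : (2 ^ (2 * m + 1)) ^ 2 = 4 * 16 ^ m := by
      rw [← pow_mul, show (2 * m + 1) * 2 = 2 + 4 * m by ring, pow_add, pow_mul]
      norm_num
    rw [h2, Nat.dvd_iff_mod_eq_zero, Nat.add_mod, Nat.mul_mod, Nat.pow_mod]
    norm_num
  exact Dvd.dvd.mul_left h1 _

theorem suzuki_of_K1 {K : Type*} [Group K] [Finite K] (h : K1 K) (h3 : ¬ 3 ∣ Nat.card K) :
    Cfsg.Lie.IsoSuzuki K := by
  rcases h with ⟨F, iF, iF', -, -, ⟨e⟩⟩ | ⟨F, iF, iF', -, -, -, ⟨e⟩⟩ | h | ⟨g, hg⟩
  · exfalso
    rw [Nat.card_congr e.toEquiv] at h3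
    exact h3 (Cfsg.Agent.ThreePrime.OrderThree.three_dvd_card_psl F)
  · exfalso
    rw [Nat.card_congr e.toEquiv] at h3
    exact h3 (Cfsg.Agent.ThreePrime.OrderThree.three_dvd_card_psl F)
  · exact h
  · exfalso
    apply h3
    have : (6 : ℕ) ∣ Nat.card K := hg ▸ orderOf_dvd_natCard g
    exact (show (3 : ℕ) ∣ 6 by norm_num).trans this

theorem not_comm_of_component {H : Type*} [Group H] {E : Subgroup H} (hE : IsComponent E) :
    ∃ a b : E ⧸ center E, a * b ≠ b * a := by
  have hp := hE.2.1
  have hs : IsSimpleGroup (E ⧸ center E) := hE.2.2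
  by_contra hcon
  push Not at hcon
  have hperf : Group.IsPerfect (E ⧸ center E) := inferInstance
  have hab : IsMulCommutative (E ⧸ center E) := ⟨⟨hcon⟩⟩
  exact Group.IsPerfect.not_isMulCommutative _ hab

variable {H : Type u} [Group H] [Finite H]

omit [Finite H] in
/-- subgroups of odd prime power order are cyclic -/
theorem isCyclic_of_oddCyc (hc : OddCyc H) {p : ℕ} (hp : p.Prime) (h2 : p ≠ 2) {P : Subgroup H}
    (hP : IsPGroup p P) : IsCyclic P := by
  have : Fact p.Prime := ⟨hp⟩
  obtain ⟨Q, hQ⟩ := hP.exists_le_sylow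
  have := hc p Q hp h2
  exact Subgroup.isCyclic_of_le hQ

/-- in a 3'-group with `O₂ = 1`, cyclic odd Sylows and simple sections in `K1` a component is a Suzuki group -/
theorem component (hO : pCore 2 H = ⊥) (hc : OddCyc H) (hK : KSec H) (h3 : ¬ 3 ∣ Nat.card H) {E : Subgroup H}
    (hE : IsComponent E) : center E = ⊥ ∧ Cfsg.Lie.IsoSuzuki E := by
  have hs : IsSimpleGroup (E ⧸ center E) := hE.2.2
  have h1 : Cfsg.Lie.IsoSuzuki (E ⧸ center E) := by
    refine suzuki_of_K1 (hK E (center E) hs (not_comm_of_component hE)) ?_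
    intro h
    exact h3 ((h.trans (card_quotient_dvd_card _)).trans (card_subgroup_dvd_card E))
  have h2 : center E = ⊥ := by
    rw [eq_bot_iff]
    intro z hz
    rw [mem_bot]
    by_contra hz1
    -- a central element of prime order
    obtain ⟨p, hp, hpz⟩ := Nat.exists_prime_and_dvd (fun h => hz1 (orderOf_eq_one_iff.1 h) : orderOf z ≠ 1)
    have : Fact p.Prime := ⟨hp⟩
    obtain ⟨y, hy, hyo⟩ : ∃ y ∈ center E, orderOf y = p := by
      refine ⟨z ^ (orderOf z / p), pow_mem hz _, ?_⟩
      exact orderOf_pow_orderOf_div (orderOf_pos z).ne' hpz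
    have hy1 : y ≠ 1 := by
      intro h
      rw [h, orderOf_one] at hyo
      exact hp.one_lt.ne hyo
    have hyp : y ^ p ^ 1 = 1 := by rw [pow_one, ← hyo]; exact pow_orderOf_eq_one y
    by_cases h2 : p = 2
    · subst h2
      -- `zpowers y` is a subnormal 2-subgroup
      have hn : (zpowers y).Normal := by
        refine ⟨?_⟩
        rintro _ ⟨k, rfl⟩ g
        have h1 : y ^ k ∈ center E := zpow_mem hy k
        have h2 := mem_center_iff.1 h1 g
        simp only [h2, mul_inv_cancel_right]
        exact ⟨k, rfl⟩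
      have hsub : ((zpowers y).map E.subtype).IsSubnormal := (hn.isSubnormal).trans' hE.1
      have h2g : IsPGroup 2 (zpowers y) := IsPGroup.of_card (n := 1) (by rw [Nat.card_zpowers, hyo, pow_one])
      have hle := subnormal_pGroup_le_pCore hsub (h2g.map E.subtype)
      rw [hO, le_bot_iff, map_eq_bot_iff_of_injective _ E.subtype_injective, zpowers_eq_bot] at hle
      exact hy1 hle
    · let P : Sylow p E := default
      have hPc : IsCyclic (P : Subgroup E) := by
        have := isCyclic_of_oddCyc hc hp h2 (P.isPGroup'.map E.subtype)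
        have e := (P : Subgroup E).equivMapOfInjective E.subtype E.subtype_injective
        exact isCyclic_of_surjective e.symm e.symm.surjective
      have hPm : IsMulCommutative (P : Subgroup E) := IsCyclic.isMulCommutative
      exact hy1 (eq_one_of_center hE.2.1 P hPm hy hyp)
  refine ⟨h2, ?_⟩
  exact Cfsg.Agent.ThreePrime.ACFacts.isoSuzuki_of_equiv
    ((QuotientGroup.quotientMulEquivOfEq h2).trans QuotientGroup.quotientBot).symm h1

/-- there is at most one component -/
theorem component_unique (hO : pCore 2 H = ⊥) (hc : OddCyc H) (hK : KSec H) (h3 : ¬ 3 ∣ Nat.card H) {E E' : Subgroup H}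
    (hE : IsComponent E) (hE' : IsComponent E') : E = E' := by
  by_contra hne
  have h5 : Fact (Nat.Prime 5) := ⟨Nat.prime_five⟩
  have hcomm := component_commutator_eq_bot_of_ne hE hE' hne
  rw [commutator_eq_bot_iff_le_centralizer] at hcomm
  obtain ⟨hz, hs⟩ := component hO hc hK h3 hE
  obtain ⟨-, hs'⟩ := component hO hc hK h3 hE'
  obtain ⟨x, hx⟩ := exists_prime_orderOf_dvd_card' 5 (five_dvd hs)
  obtain ⟨y, hy⟩ := exists_prime_orderOf_dvd_card' 5 (five_dvd hs')
  have hxy : (x : H) * y = y * x := (mem_centralizer_iff.1 (hcomm x.2) y y.2).symm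
  have hxo : orderOf (x : H) = 5 := by rw [Subgroup.orderOf_coe, hx]
  have hyo : orderOf (y : H) = 5 := by rw [Subgroup.orderOf_coe, hy]
  -- the group generated by both
  have hpx : IsPGroup 5 (zpowers (x : H)) := IsPGroup.of_card (n := 1) (by rw [Nat.card_zpowers, hxo, pow_one])
  have hpy : IsPGroup 5 (zpowers (y : H)) := IsPGroup.of_card (n := 1) (by rw [Nat.card_zpowers, hyo, pow_one])
  have hn : zpowers (x : H) ≤ normalizer ((zpowers (y : H) : Subgroup H) : Set H) := by
    rw [zpowers_le]
    refine Subgroup.centralizer_le_normalizer _ ?_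
    rw [mem_centralizer_iff]
    rintro _ ⟨k, rfl⟩
    exact (Commute.zpow_right (show Commute (x : H) y from hxy) k).eq.symm
  have hp : IsPGroup 5 (zpowers (x : H) ⊔ zpowers (y : H) : Subgroup H) :=
    IsPGroup.to_sup_of_normal_right' hpx hpy hn
  have hcyc := isCyclic_of_oddCyc hc Nat.prime_five (by norm_num) hp
  have heq := mem_zpowers_of_cyclic hcyc
    (le_sup_left (a := zpowers (x : H)) (mem_zpowers _)) (le_sup_right (b := zpowers (y : H)) (mem_zpowers _))
    (hxo.trans hyo.symm)
  have hxE' : (x : H) ∈ E' := by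
    have h1 : zpowers (y : H) ≤ E' := zpowers_le.2 y.2
    exact h1 heq
  have hxc : x ∈ center E := by
    rw [mem_center_iff]
    intro g
    apply Subtype.ext
    exact mem_centralizer_iff.1 (hcomm g.2) x hxE' |>.symm
  rw [hz, mem_bot] at hxc
  rw [hxc, orderOf_one] at hx
  norm_num at hx

/-- either there is no component or the component is a normal Suzuki group -/
theorem layer_or (hO : pCore 2 H = ⊥) (hc : OddCyc H) (hK : KSec H) (h3 : ¬ 3 ∣ Nat.card H) :
    layer H = ⊥ ∨ ∃ E : Subgroup H, E.Normal ∧ center E = ⊥ ∧ Cfsg.Lie.IsoSuzuki E := by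
  by_cases h : ∃ E : Subgroup H, IsComponent E
  · right
    obtain ⟨E, hE⟩ := h
    obtain ⟨hz, hs⟩ := component hO hc hK h3 hE
    refine ⟨E, ?_, hz, hs⟩
    refine ⟨fun e he g => ?_⟩
    have h1 := component_unique hO hc hK h3 (isComponent_conj g hE) hE
    rw [← h1]
    exact ⟨e, he, rfl⟩
  · left
    rw [eq_bot_iff, layer_le_iff]
    intro E hE
    exact absurd ⟨E, hE⟩ h

/-- the Fitting subgroup is cyclic -/
theorem fitting_cyclic (hO : pCore 2 H = ⊥) (hc : OddCyc H) : IsCyclic (fittingSubgroup H) := by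
  have hodd := Cfsg.Agent.LieExceptional.CITSylow.odd_card_fitting hO
  have hnil : Group.IsNilpotent (fittingSubgroup H) := Cfsg.Agent.Lib.Cores.fittingSubgroup_isNilpotent
  have : IsZGroup (fittingSubgroup H) := by
    refine ⟨fun p hp P => ?_⟩
    by_cases h2 : p = 2
    · subst h2
      have : Fact (Nat.Prime 2) := ⟨Nat.prime_two⟩
      have h1 : Nat.card P = 1 := by
        obtain ⟨n, hn⟩ := P.isPGroup'.exists_card_eq
        rcases Nat.eq_zero_or_pos n with rfl | hpos
        · rw [hn, pow_zero]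
        · exfalso
          have h3 : 2 ∣ Nat.card (fittingSubgroup H) :=
            (hn ▸ dvd_pow_self 2 hpos.ne').trans (card_subgroup_dvd_card _)
          exact (Nat.not_even_iff_odd.2 hodd) (even_iff_two_dvd.2 h3)
      have : Subsingleton P := (Nat.card_eq_one_iff_unique.1 h1).1
      infer_instance
    · have := isCyclic_of_oddCyc hc hp h2 (P.isPGroup'.map (fittingSubgroup H).subtype)
      have e := (P : Subgroup (fittingSubgroup H)).equivMapOfInjective (fittingSubgroup H).subtype
        (fittingSubgroup H).subtype_injective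
      exact isCyclic_of_surjective e.symm e.symm.surjective
  infer_instance

theorem centralizer_fitting_le (hl : layer H = ⊥) :
    centralizer (fittingSubgroup H : Set H) ≤ fittingSubgroup H := by
  have h3 : generalizedFittingSubgroup H = fittingSubgroup H := by
    rw [Cfsg.Agent.Lib.GenFitting.genFitting_def, hl, bot_sup_eq]
  have h4 := Cfsg.Agent.Lib.GenFitting.centralizer_genFitting_le (G := H)
  rwa [h3] at h4

end Cfsg.Agent.OddCyclic.T1SzComp
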