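import Mathlib
import Cfsg.Agent.ThreePrime.SzDataExists

/-!
# More facts on the Suzuki groups (case "no elements of order 6" of S0342)

For `J ≃* Sz(q)` and a Sylow 2-subgroup `P`: the normaliser of `P` is transitive on the nontrivial elements of
`P/Z(P)`, `|P| = |Z(P)|²`, every element of `Z(P)` is a square, elementary abelian subgroups of `P` are central, and
`J` contains a Frobenius group `5:4` whose complement lies in `P`.
-/

set_option autoImplicit false

namespace Cfsg.Agent.OddCyclic.T1SzFacts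

open Cfsg.Agent.LieRecognition Cfsg.Agent.ThreePrime Cfsg.Agent.ThreePrime.SzRel

/-- Facts on the Sylow 2-subgroup `T` of `J ≃* Sz(q)`. -/
structure SzMore (J : Type*) [Group J] (T : Subgroup J) : Prop where
  /-- `T` has order the square of that of its centre -/
  card_eq : Nat.card T = Nat.card (T ⊓ Subgroup.centralizer (T : Set J) : Subgroup J) ^ 2
  /-- the centre has order at least 8 -/
  eight_le : 8 ≤ Nat.card (T ⊓ Subgroup.centralizer (T : Set J) : Subgroup J)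
  /-- elements of `T` with square one are exactly the central ones -/
  sq_iff : ∀ x ∈ T, (x * x = 1 ↔ ∀ y ∈ T, x * y = y * x)
  /-- squares of elements of `T` are central -/
  sq_sq : ∀ x ∈ T, (x * x) * (x * x) = 1
  /-- every central element is a square -/
  exists_sq : ∀ z ∈ T, z * z = 1 → ∃ x ∈ T, x * x = z
  /-- the normaliser of `T` is transitive on the nontrivial elements of `T/Z(T)` -/
  trans : ∀ x ∈ T, ∀ y ∈ T, x * x ≠ 1 → y * y ≠ 1 →
    ∃ d ∈ Subgroup.normalizer (T : Set J), ∃ z ∈ T, z * z = 1 ∧ d * x * d⁻¹ = z * y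
  /-- the normaliser of `T` is transitive on the involutions of `T` -/
  trans_inv : ∀ x ∈ T, ∀ y ∈ T, x * x = 1 → y * y = 1 → x ≠ 1 → y ≠ 1 →
    ∃ d ∈ Subgroup.normalizer (T : Set J), d * x * d⁻¹ = y
  /-- `T` is a TI-subgroup. -/
  ti : ∀ g x : J, x ∈ T → x ≠ 1 → g * x * g⁻¹ ∈ T → g ∈ Subgroup.normalizer (T : Set J)

section rel

variable {J : Type*} [Group J] {F : Type*} [Field F]

theorem unip_bij (R : SzRel.Rel J F) : Function.Bijective (fun p : F × F => (⟨R.u p.1 p.2, R.u_mem p.1 p.2⟩ : R.T)) := by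
  constructor
  · rintro ⟨a, b⟩ ⟨c, e⟩ h
    obtain ⟨h1, h2⟩ := R.u_inj (congrArg Subtype.val h)
    exact Prod.ext h1 h2
  · rintro ⟨g, a, b, rfl⟩
    exact ⟨(a, b), rfl⟩

theorem card_T (R : SzRel.Rel J F) [Finite F] : Nat.card R.T = Nat.card F ^ 2 := by
  rw [← Nat.card_congr (Equiv.ofBijective _ (unip_bij R)), Nat.card_prod, pow_two]

theorem card_Z (R : SzRel.Rel J F) [Finite F] (h8 : 8 ≤ Nat.card F) :
    Nat.card (R.T ⊓ Subgroup.centralizer (R.T : Set J) : Subgroup J) = Nat.card F := by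
  have h : Function.Bijective (fun b : F => (⟨R.u 0 b, (R.mem_center_iff h8 _).2 ⟨b, rfl⟩⟩ :
      (R.T ⊓ Subgroup.centralizer (R.T : Set J) : Subgroup J))) := by
    constructor
    · intro b c h
      exact (R.u_inj (congrArg Subtype.val h)).2
    · rintro ⟨g, hg⟩
      obtain ⟨b, rfl⟩ := (R.mem_center_iff h8 _).1 hg
      exact ⟨b, rfl⟩
  exact (Nat.card_congr (Equiv.ofBijective _ h)).symm

theorem szMore_of_rel (R : SzRel.Rel J F) [Finite F] [Finite J] (h8 : 8 ≤ Nat.card F) : SzMore J R.T where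
  card_eq := by rw [card_T, card_Z R h8]
  eight_le := by rw [card_Z R h8]; exact h8
  sq_iff := R.sq_iff h8
  sq_sq := R.sq_sq
  exists_sq := by
    rintro _ ⟨a, b, rfl⟩ hz
    rw [R.u_sq_iff] at hz
    subst hz
    by_cases hb : b = 0
    · subst hb
      exact ⟨1, one_mem _, by rw [R.u_zero, mul_one]⟩
    · obtain ⟨k, hk⟩ := R.exists_mul_theta (Units.mk0 b hb)
      exact ⟨R.u k 0, R.u_mem _ _, by rw [R.u_mul_self, hk, Units.val_mk0]⟩
  trans := by
    rintro _ ⟨a, b, rfl⟩ _ ⟨c, e, rfl⟩ hx hy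
    have ha : a ≠ 0 := fun h => hx ((R.u_sq_iff a b).2 h)
    have hc : c ≠ 0 := fun h => hy ((R.u_sq_iff c e).2 h)
    obtain ⟨k, hk⟩ := R.exists_sq_div (Units.mk0 (c / a) (div_ne_zero hc ha))
    refine ⟨R.d k, R.D_le (R.d_mem k), R.u 0 (b * R.θ k + e), R.u_mem _ _, (R.u_sq_iff _ _).2 rfl, ?_⟩
    rw [R.conj_d, R.u_mul, mul_assoc a, hk, Units.val_mk0]
    congr 1
    · field_simp
      rw [zero_add]
    · linear_combination (- e) * R.two
  trans_inv := by
    intro x hx y hy hx2 hy2 hx1 hy1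
    obtain ⟨d, hd, h⟩ := R.trans x hx y hy hx1 hy1 hx2 hy2
    exact ⟨d, R.D_le hd, h⟩
  ti := fun g x hx hx1 h => R.ti hx hx1 h

end rel

theorem szMore {J : Type*} [Group J] [Finite J] (h : Cfsg.Lie.IsoSuzuki J) (P : Sylow 2 J) :
    SzMore J (P : Subgroup J) := by
  have : Fact (Nat.Prime 2) := ⟨Nat.prime_two⟩
  obtain ⟨F, iF, iF', m, hm, hF, ⟨R₀⟩⟩ := exists_rel h
  have h8 : 8 ≤ Nat.card F := by
    rw [Nat.card_eq_fintype_card, hF]
    exact SzRel.Rel.eight_le hm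
  obtain ⟨P₀, hP₀⟩ := R₀.exists_sylow_eq hm hF
  obtain ⟨g, hg⟩ := MulAction.exists_smul_eq J P₀ P
  let R : SzRel.Rel J F := R₀.map (MulAut.conj g)
  have hT : R.T = (P : Subgroup J) := by
    rw [← hg]
    ext x
    rw [Sylow.coe_subgroup_smul, Subgroup.mem_pointwise_smul_iff_inv_smul_mem, hP₀]
    constructor
    · rintro ⟨a, b, rfl⟩
      refine ⟨a, b, ?_⟩
      show (MulAut.conj g)⁻¹ (MulAut.conj g (R₀.u a b)) = _
      rw [MulAut.inv_apply_self]
    · rintro ⟨a, b, hx⟩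
      refine ⟨a, b, ?_⟩
      show x = MulAut.conj g (R₀.u a b)
      rw [← hx]
      show x = MulAut.conj g ((MulAut.conj g)⁻¹ x)
      rw [MulAut.apply_inv_self]
  rw [← hT]
  exact szMore_of_rel R h8

/-! ### The subgroup `5:4` -/

/-- the matrix of `s` over `𝔽₂` -/
def sMat : Matrix (Fin 4) (Fin 4) (ZMod 2) :=
  !![1, 1, 0, 1; 0, 1, 1, 1; 0, 0, 1, 1; 0, 0, 0, 1]

/-- the matrix of `w` over `𝔽₂` -/
def wMat : Matrix (Fin 4) (Fin 4) (ZMod 2) :=
  !![0, 0, 0, 1; 0, 0, 1, 0; 0, 1, 0, 0; 1, 0, 0, 0]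

theorem mat_rel : sMat * (sMat * sMat * wMat) =
    (sMat * sMat * wMat) * (sMat * sMat * wMat) * (sMat * sMat * wMat) * sMat := by decide

theorem mat_five : (sMat * sMat * wMat) * (sMat * sMat * wMat) * (sMat * sMat * wMat) * (sMat * sMat * wMat) *
    (sMat * sMat * wMat) = 1 := by decide

theorem exists_five_good {F : Type*} [Field F] {θ : F →+* F} {e : ℕ} (H : SzMatrix.Good F θ e) :
    H.u 1 0 * (H.u 1 0 * H.u 1 0 * H.w) = (H.u 1 0 * H.u 1 0 * H.w) * (H.u 1 0 * H.u 1 0 * H.w) *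
      (H.u 1 0 * H.u 1 0 * H.w) * H.u 1 0 ∧
    (H.u 1 0 * H.u 1 0 * H.w) * (H.u 1 0 * H.u 1 0 * H.w) * (H.u 1 0 * H.u 1 0 * H.w) * (H.u 1 0 * H.u 1 0 * H.w) *
      (H.u 1 0 * H.u 1 0 * H.w) = 1 := by
  have hc : CharP F 2 := CharTwo.of_one_ne_zero_of_two_eq_zero one_ne_zero H.two
  let f : ZMod 2 →+* F := ZMod.castHom (dvd_refl 2) F
  have hs : ((H.u 1 0).1.1 : Matrix (Fin 4) (Fin 4) F) = f.mapMatrix sMat := by
    show SzMatrix.Umat θ 1 0 = _
    ext i j
    fin_cases i <;> fin_cases j <;> simp [SzMatrix.Umat, sMat]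
  have hw : ((H.w).1.1 : Matrix (Fin 4) (Fin 4) F) = f.mapMatrix wMat := by
    show SzMatrix.J F = _
    ext i j
    fin_cases i <;> fin_cases j <;> simp [SzMatrix.J, wMat]
  constructor
  · apply Subtype.ext
    apply Units.ext
    have := congrArg f.mapMatrix mat_rel
    simp only [map_mul] at this
    rw [← hs, ← hw] at this
    exact this
  · apply Subtype.ext
    apply Units.ext
    have := congrArg f.mapMatrix mat_five
    simp only [map_mul, map_one] at this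
    rw [← hs, ← hw] at this
    exact this

/-- `5:4` in `Sz(q)`, with the element of order 4 in a given Sylow 2-subgroup -/
theorem exists_five {J : Type*} [Group J] [Finite J] (h : Cfsg.Lie.IsoSuzuki J) (P : Sylow 2 J) :
    ∃ y s : J, y ≠ 1 ∧ y ^ 5 = 1 ∧ orderOf y = 5 ∧ s ∈ (P : Subgroup J) ∧ s * s ≠ 1 ∧ s ^ 4 = 1 ∧ orderOf s = 4 ∧
      s * y * s⁻¹ = y ^ 3 ∧ s⁻¹ * y * s = y ^ 2 := by
  have : Fact (Nat.Prime 2) := ⟨Nat.prime_two⟩
  obtain ⟨F, iF, iF', m, hm, hc, ⟨f⟩⟩ := h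
  let H := SzMatrix.good hc
  obtain ⟨h1, h2⟩ := exists_five_good H
  let R₀ : SzRel.Rel J F := (ofGood H).map f.symm
  obtain ⟨P₀, hP₀⟩ := R₀.exists_sylow_eq hm hc
  obtain ⟨g, hg⟩ := MulAction.exists_smul_eq J P₀ P
  let F' : ↥(Cfsg.Lie.Sz F (2 ^ (m + 1))) ≃* J := f.symm.trans (MulAut.conj g)
  set s : J := F' (H.u 1 0) with hs
  set y : J := F' (H.u 1 0 * H.u 1 0 * H.w) with hy
  have hsP : s ∈ (P : Subgroup J) := by
    rw [← hg, Sylow.coe_subgroup_smul, hP₀, Subgroup.mem_pointwise_smul_iff_inv_smul_mem]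
    refine ⟨1, 0, ?_⟩
    show (MulAut.conj g)⁻¹ (MulAut.conj g (f.symm (H.u 1 0))) = _
    rw [MulAut.inv_apply_self]
    rfl
  have hss : s * s ≠ 1 := by
    intro h
    rw [hs, ← map_mul, map_eq_one_iff _ F'.injective] at h
    have := ((ofGood H).u_sq_iff 1 0).1 h
    exact one_ne_zero this
  have hs4 : s ^ 4 = 1 := by
    rw [hs, ← map_pow, map_eq_one_iff _ F'.injective]
    exact (ofGood H).pow_four ((ofGood H).u_mem 1 0)
  have hy1 : y ≠ 1 := by
    intro h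
    rw [hy, map_eq_one_iff _ F'.injective] at h
    have h3 : H.w = (H.u 1 0 * H.u 1 0)⁻¹ := (inv_eq_of_mul_eq_one_right h).symm
    have h4 : H.w ∈ (ofGood H).T := by
      rw [h3]
      exact inv_mem (mul_mem ((ofGood H).u_mem 1 0) ((ofGood H).u_mem 1 0))
    exact (ofGood H).w_not_mem_normalizer (Subgroup.le_normalizer h4)
  have hy5 : y ^ 5 = 1 := by
    rw [hy, ← map_pow, map_eq_one_iff _ F'.injective, ← h2]
    simp only [pow_succ, pow_zero, one_mul]
  have hrel : s * y = y ^ 3 * s := by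
    rw [hs, hy, ← map_pow, ← map_mul, ← map_mul, h1]
    simp only [pow_succ, pow_zero, one_mul]
  have hconj : s * y * s⁻¹ = y ^ 3 := by
    rw [hrel, mul_inv_cancel_right]
  refine ⟨y, s, hy1, hy5, ?_, hsP, hss, hs4, ?_, hconj, ?_⟩
  · have : Fact (Nat.Prime 5) := ⟨by norm_num⟩
    exact orderOf_eq_prime hy5 hy1
  · have h3 := orderOf_eq_prime_pow (p := 2) (n := 1) (x := s) (by
      rw [pow_one, pow_two]
      exact hss) (by
      exact hs4)
    rw [h3]
    norm_num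
  · -- `(s⁻¹ y s) ^ 3 = y`
    have h3 : (s⁻¹ * y * s) ^ 3 = y := by
      have h4 : (s⁻¹ * y * s) ^ 3 = s⁻¹ * y ^ 3 * s := by
        have := conj_pow (i := 3) (a := s⁻¹) (b := y)
        rw [inv_inv] at this
        exact this
      rw [h4, ← hconj]
      group
    have h4 : (s⁻¹ * y * s) ^ 5 = 1 := by
      have := conj_pow (i := 5) (a := s⁻¹) (b := y)
      rw [inv_inv, hy5, mul_one, inv_mul_cancel] at this
      exact this
    calc s⁻¹ * y * s = (s⁻¹ * y * s) ^ 5 * (s⁻¹ * y * s) := by rw [h4, one_mul]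
      _ = ((s⁻¹ * y * s) ^ 3) ^ 2 := by rw [← pow_succ, ← pow_mul]
      _ = y ^ 2 := by rw [h3]

/-- elementary abelian subgroups of the Sylow 2-subgroup are central -/
theorem SzMore.elem_le {J : Type*} [Group J] {T : Subgroup J} (h : SzMore J T) {A : Subgroup J} (hA : A ≤ T)
    (hA2 : ∀ a ∈ A, a * a = 1) : A ≤ T ⊓ Subgroup.centralizer (T : Set J) := by
  intro a ha
  rw [Subgroup.mem_inf, Subgroup.mem_centralizer_iff]
  exact ⟨hA ha, fun y hy => ((h.sq_iff a (hA ha)).1 (hA2 a ha) y hy).symm⟩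

theorem SzMore.mem_Z {J : Type*} [Group J] {T : Subgroup J} (h : SzMore J T) {a : J} :
    a ∈ T ⊓ Subgroup.centralizer (T : Set J) ↔ a ∈ T ∧ a * a = 1 := by
  rw [Subgroup.mem_inf, Subgroup.mem_centralizer_iff]
  constructor
  · rintro ⟨h1, h2⟩
    exact ⟨h1, (h.sq_iff a h1).2 fun y hy => (h2 y hy).symm⟩
  · rintro ⟨h1, h2⟩
    exact ⟨h1, fun y hy => ((h.sq_iff a h1).1 h2 y hy).symm⟩

/-- a subgroup between `Z(T)` and `T` which is normalised by `N(T)` is `Z(T)` or `T` -/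
theorem SzMore.eq_or {J : Type*} [Group J] {T : Subgroup J} (h : SzMore J T) {K : Subgroup J} (hK : K ≤ T)
    (hZ : ∀ z ∈ T, z * z = 1 → z ∈ K) (hN : ∀ d ∈ Subgroup.normalizer (T : Set J), ∀ k ∈ K, d * k * d⁻¹ ∈ K) :
    K = T ⊓ Subgroup.centralizer (T : Set J) ∨ K = T := by
  by_cases hx : ∃ x ∈ K, x * x ≠ 1
  · right
    obtain ⟨x, hxK, hx2⟩ := hx
    refine le_antisymm hK fun y hy => ?_
    by_cases hy2 : y * y = 1
    · exact hZ y hy hy2
    · obtain ⟨d, hd, z, hz, hz2, hzy⟩ := h.trans x (hK hxK) y hy hx2 hy2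
      have h1 : z * y ∈ K := by
        rw [← hzy]
        exact hN d hd x hxK
      have h2 := mul_mem (inv_mem (hZ z hz hz2)) h1
      rwa [inv_mul_cancel_left] at h2
  · left
    push Not at hx
    apply le_antisymm (h.elem_le hK hx)
    intro z hz
    obtain ⟨hz1, hz2⟩ := h.mem_Z.1 hz
    exact hZ z hz1 hz2

end Cfsg.Agent.OddCyclic.T1SzFacts
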