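import Mathlib

/-!
# Groups acting on their Sylow `ℓ`-subgroups as Zassenhaus groups

`IsZT B ℓ u t`: `B` has order `(u + 1) u t` and acts by conjugation on the set of its `u + 1` Sylow `ℓ`-subgroups (of
order `u`) in such a way that each of them is transitive on the other ones and three-point stabilisers are trivial.
-/

set_option autoImplicit false

namespace Cfsg.Agent.OddCyclic.Zass

open Subgroup
open scoped Pointwise

/-- see the header -/
structure IsZT (B : Type*) [Group B] (l u t : ℕ) : Prop where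
  prime : l.Prime
  two_le : 2 ≤ u
  card : Nat.card B = (u + 1) * u * t
  sylow : ∀ P : Sylow l B, Nat.card P = u
  num : Nat.card (Sylow l B) = u + 1
  trans : ∀ P Q R : Sylow l B, Q ≠ P → R ≠ P → ∃ x ∈ P, x • Q = R
  three : ∀ (b : B) (P Q R : Sylow l B), P ≠ Q → Q ≠ R → P ≠ R → b • P = P → b • Q = Q → b • R = R → b = 1

variable {B : Type*} [Group B] {l u t : ℕ}

theorem mem_smul {P : Sylow l B} {x y : B} : y ∈ x • P ↔ x⁻¹ * y * x ∈ P := by
  rw [← SetLike.mem_coe, Sylow.coe_smul, Set.mem_smul_set_iff_inv_smul_mem]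
  simp [MulAut.smul_def]

theorem smul_eq_iff (P : Sylow l B) (x : B) : x • P = P ↔ x ∈ normalizer (P : Set B) :=
  Sylow.smul_eq_iff_mem_normalizer

variable [Finite B]

omit [Finite B] in
theorem smul_self {P : Sylow l B} {x : B} (hx : x ∈ P) : x • P = P :=
  (smul_eq_iff P x).2 (le_normalizer hx)

/-- regularity -/
theorem IsZT.reg (h : IsZT B l u t) (P Q : Sylow l B) (hQ : Q ≠ P) {x : B} (hx : x ∈ P) (hxQ : x • Q = Q) : x = 1 := by
  have : Fact l.Prime := ⟨h.prime⟩
  have hfin : Finite (Sylow l B) := inferInstance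
  let f : P → {R : Sylow l B // R ≠ P} := fun y => ⟨(y : B) • Q, fun hy => hQ (by
    have h1 : (y : B) • Q = (y : B) • P := by rw [hy, smul_self y.2]
    exact smul_left_cancel _ h1)⟩
  have hf : Function.Surjective f := by
    rintro ⟨R, hR⟩
    obtain ⟨y, hy, hyR⟩ := h.trans P Q R hQ hR
    exact ⟨⟨y, hy⟩, Subtype.ext hyR⟩
  have hcard : Nat.card P = Nat.card {R : Sylow l B // R ≠ P} := by
    have h1 : Nat.card {R : Sylow l B // R ≠ P} = Nat.card (Sylow l B) - 1 := by
      classical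
      have := Fintype.ofFinite (Sylow l B)
      rw [Nat.card_eq_fintype_card, Nat.card_eq_fintype_card, Fintype.card_subtype_compl,
        Fintype.card_subtype_eq]
    rw [h1, h.num, h.sylow P]
    rfl
  have hinj := ((Nat.bijective_iff_surjective_and_card f).2 ⟨hf, hcard⟩).1
  have h2 : f ⟨x, hx⟩ = f ⟨1, P.one_mem⟩ := Subtype.ext (by
    show x • Q = (1 : B) • Q
    rw [hxQ, one_smul])
  exact congrArg Subtype.val (hinj h2)

theorem IsZT.card_normalizer (h : IsZT B l u t) (P : Sylow l B) : Nat.card (normalizer (P : Set B)) = u * t := by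
  have : Fact l.Prime := ⟨h.prime⟩
  have h1 : Nat.card (Sylow l B) = (normalizer (P : Set B)).index := P.card_eq_index_normalizer
  have h2 := (normalizer (P : Set B)).card_mul_index
  rw [← h1, h.num, h.card] at h2
  have h3 : Nat.card (normalizer (P : Set B)) * (u + 1) = (u * t) * (u + 1) := by rw [h2]; ring
  exact Nat.eq_of_mul_eq_mul_right (Nat.succ_pos u) h3

/-- the constructor from an action -/
theorem IsZT.of_hom {Ω : Type*} (φ : B →* Equiv.Perm Ω) (hl : l.Prime) (hu : 2 ≤ u)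
    (hΩ : Nat.card Ω = u + 1) (o : Ω) (U : Subgroup B) (hU : Nat.card U = u) (hpow : ∃ k, u = l ^ k) (hcop : ¬ l ∣ t)
    (hcard : Nat.card B = (u + 1) * u * t) (hUn : ∀ b : B, φ b o = o → ∀ x ∈ U, b * x * b⁻¹ ∈ U)
    (hUfix : ∀ x ∈ U, φ x o = o) (hUtrans : ∀ a b : Ω, a ≠ o → b ≠ o → ∃ x ∈ U, φ x a = b)
    (htr : ∀ ω : Ω, ∃ b : B, φ b o = ω)
    (h3 : ∀ (b : B) (x y z : Ω), x ≠ y → y ≠ z → x ≠ z → φ b x = x → φ b y = y → φ b z = z → b = 1) :
    IsZT B l u t := by
  have : Fact l.Prime := ⟨hl⟩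
  obtain ⟨k, hk⟩ := hpow
  have hk0 : k ≠ 0 := by rintro rfl; simp at hk; omega
  have hlu : l ∣ u := by rw [hk]; exact dvd_pow_self l hk0
  have hUp : IsPGroup l U := IsPGroup.of_card (by rw [hU, hk])
  have hidx : ¬ l ∣ U.index := by
    intro h
    have h1 := U.card_mul_index
    rw [hU, hcard] at h1
    have h2 : U.index = (u + 1) * t := by
      have h3 : u * U.index = u * ((u + 1) * t) := by rw [h1]; ring
      exact Nat.eq_of_mul_eq_mul_left (by omega) h3
    rw [h2] at h
    rcases hl.dvd_mul.1 h with h | h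
    · have := (Nat.dvd_add_right hlu).1 h
      exact hl.one_lt.ne' (Nat.dvd_one.1 this)
    · exact hcop h
  let P0 : Sylow l B := hUp.toSylow hidx
  have hP0 : ∀ x, x ∈ P0 ↔ x ∈ U := fun x => Iff.rfl
  have hmul : ∀ (a b : B) (ω : Ω), φ (a * b) ω = φ a (φ b ω) := fun a b ω => by rw [map_mul]; rfl
  have hone : ∀ ω : Ω, φ 1 ω = ω := fun ω => by rw [map_one]; rfl
  have hinv : ∀ (a : B) (ω : Ω), φ a⁻¹ (φ a ω) = ω := fun a ω => by rw [← hmul, inv_mul_cancel, hone]
  have hinv' : ∀ (a : B) (ω : Ω), φ a (φ a⁻¹ ω) = ω := fun a ω => by rw [← hmul, mul_inv_cancel, hone]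
  -- two points different from `o`
  have htwo : ∃ a b : Ω, a ≠ o ∧ b ≠ o ∧ a ≠ b := by
    have : Finite Ω := Nat.finite_of_card_ne_zero (by rw [hΩ]; omega)
    classical
    have := Fintype.ofFinite Ω
    rw [Nat.card_eq_fintype_card] at hΩ
    have h1 : 1 < (Finset.univ.erase o).card := by
      rw [Finset.card_erase_of_mem (Finset.mem_univ _), Finset.card_univ, hΩ]; omega
    obtain ⟨a, ha, b, hb, hab⟩ := Finset.one_lt_card.1 h1
    exact ⟨a, b, (Finset.mem_erase.1 ha).1, (Finset.mem_erase.1 hb).1, hab⟩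
  have hUone : ∀ ω : Ω, (∀ x ∈ U, φ x ω = ω) → ω = o := by
    intro ω hω
    by_contra hne
    obtain ⟨a, b, ha, hb, hab⟩ := htwo
    have : ∃ c : Ω, c ≠ o ∧ c ≠ ω := by
      by_cases h : a = ω
      · exact ⟨b, hb, fun hh => hab (h.trans hh.symm)⟩
      · exact ⟨a, ha, h⟩
    obtain ⟨c, hc, hcω⟩ := this
    obtain ⟨x, hx, hxc⟩ := hUtrans ω c hne hc
    exact hcω (by rw [← hxc, hω x hx])
  have hstab : ∀ b : B, b • P0 = P0 ↔ φ b o = o := by
    intro b
    constructor
    · intro h
      apply hUone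
      intro x hx
      have h1 : x ∈ b • P0 := by rw [h]; exact hx
      rw [mem_smul] at h1
      have h2 := hUfix _ ((hP0 _).1 h1)
      rw [hmul, hmul] at h2
      have h3 := congrArg (φ b) h2
      rwa [hinv'] at h3
    · intro h
      have hle : ∀ b : B, φ b o = o → b • P0 ≤ P0 := by
        intro b h x hx
        rw [mem_smul] at hx
        have := hUn b h _ ((hP0 _).1 hx)
        have h4 : b * (b⁻¹ * x * b) * b⁻¹ = x := by group
        rwa [h4] at this
      apply le_antisymm (hle b h)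
      have h5 := hle b⁻¹ (by rw [← h, hinv, h])
      intro x hx
      rw [mem_smul]
      have : b⁻¹ * x * b ∈ b⁻¹ • P0 := by
        rw [mem_smul]
        have h4 : b⁻¹⁻¹ * (b⁻¹ * x * b) * b⁻¹ = x := by group
        rw [h4]; exact hx
      exact h5 this
  have hex : ∀ P : Sylow l B, ∃ b : B, b • P0 = P := fun P => MulAction.exists_smul_eq B P0 P
  choose c hc using hex
  let e : Sylow l B → Ω := fun P => φ (c P) o
  have hwd : ∀ (P : Sylow l B) (b : B), b • P0 = P → e P = φ b o := by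
    intro P b hb
    have h1 : (b⁻¹ * c P) • P0 = P0 := by rw [mul_smul, hc, ← hb, inv_smul_smul]
    have h2 := (hstab _).1 h1
    rw [hmul] at h2
    have h3 := congrArg (φ b) h2
    rwa [hinv'] at h3
  have hequiv : ∀ (x : B) (P : Sylow l B), e (x • P) = φ x (e P) := by
    intro x P
    rw [hwd (x • P) (x * c P) (by rw [mul_smul, hc]), hmul]
  have hinje : Function.Injective e := by
    intro P Q h
    have h1 : φ (c P) o = φ (c Q) o := h
    have h2 : φ ((c Q)⁻¹ * c P) o = o := by rw [hmul, h1, hinv]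
    have h3 := (hstab _).2 h2
    rw [mul_smul, hc, inv_smul_eq_iff, hc] at h3
    exact h3
  have hsurj : Function.Surjective e := by
    intro ω
    obtain ⟨b, hb⟩ := htr ω
    exact ⟨b • P0, by rw [hwd _ b rfl, hb]⟩
  have he0 : e P0 = o := by rw [hwd P0 1 (one_smul _ _), hone]
  refine ⟨hl, hu, hcard, ?_, ?_, ?_, ?_⟩
  · intro P
    rw [← hU]
    exact Nat.card_congr (P.equiv P0).toEquiv
  · rw [← hΩ]
    exact Nat.card_congr (Equiv.ofBijective e ⟨hinje, hsurj⟩)
  · intro P Q R hQ hR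
    have h1 : e ((c P)⁻¹ • Q) ≠ o := by
      rw [← he0]
      intro h
      apply hQ
      have := hinje h
      rw [inv_smul_eq_iff, hc] at this
      exact this
    have h2 : e ((c P)⁻¹ • R) ≠ o := by
      rw [← he0]
      intro h
      apply hR
      have := hinje h
      rw [inv_smul_eq_iff, hc] at this
      exact this
    obtain ⟨x, hx, hxe⟩ := hUtrans _ _ h1 h2
    refine ⟨c P * x * (c P)⁻¹, ?_, ?_⟩
    · have : c P * x * (c P)⁻¹ ∈ c P • P0 := by
        rw [mem_smul]
        have h4 : (c P)⁻¹ * (c P * x * (c P)⁻¹) * c P = x := by group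
        rw [h4]; exact hx
      rwa [hc] at this
    · rw [← hequiv] at hxe
      have := hinje hxe
      rw [mul_smul, mul_smul, this, smul_inv_smul]
  · intro b P Q R hPQ hQR hPR h1 h2 h3'
    exact h3 b (e P) (e Q) (e R) (fun h => hPQ (hinje h)) (fun h => hQR (hinje h)) (fun h => hPR (hinje h))
      (by rw [← hequiv, h1]) (by rw [← hequiv, h2]) (by rw [← hequiv, h3'])

/-- transport -/
theorem IsZT.of_mulEquiv {B' : Type*} [Group B'] [Finite B'] (h : IsZT B l u t) (e : B ≃* B')
    (hpow : ∃ k, u = l ^ k) (hcop : ¬ l ∣ t) : IsZT B' l u t := by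
  have : Fact l.Prime := ⟨h.prime⟩
  obtain ⟨P⟩ : Nonempty (Sylow l B) := inferInstance
  have hmul : ∀ (a b : B') (Q : Sylow l B), e.symm (a * b) • Q = e.symm a • e.symm b • Q := by
    intro a b Q
    rw [map_mul, mul_smul]
  have hmap : ∀ x : B', x ∈ (P : Subgroup B).map e.toMonoidHom ↔ e.symm x ∈ P := by
    intro x
    constructor
    · rintro ⟨y, hy, rfl⟩
      simpa using hy
    · intro hx
      exact ⟨e.symm x, hx, by simp⟩
  refine IsZT.of_hom ((MulAction.toPermHom B (Sylow l B)).comp e.symm.toMonoidHom) h.prime h.two_le h.num P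
    ((P : Subgroup B).map e.toMonoidHom) ?_ hpow hcop ?_ ?_ ?_ ?_ ?_ ?_
  · rw [← h.sylow P]
    exact (Nat.card_congr ((P : Subgroup B).equivMapOfInjective e.toMonoidHom e.injective).toEquiv).symm
  · rw [← h.card]
    exact (Nat.card_congr e.toEquiv).symm
  · intro b hb x hx
    have hb' : e.symm b • P = P := hb
    rw [hmap] at hx ⊢
    have h1 : e.symm b * e.symm x * (e.symm b)⁻¹ ∈ e.symm b • P := by
      rw [mem_smul]
      have h4 : (e.symm b)⁻¹ * (e.symm b * e.symm x * (e.symm b)⁻¹) * e.symm b = e.symm x := by group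
      rw [h4]; exact hx
    rw [hb'] at h1
    simpa using h1
  · intro x hx
    rw [hmap] at hx
    exact smul_self hx
  · intro Q R hQ hR
    obtain ⟨x, hx, hxQ⟩ := h.trans P Q R hQ hR
    refine ⟨e x, (hmap _).2 (by simpa using hx), ?_⟩
    show e.symm (e x) • Q = R
    rw [e.symm_apply_apply, hxQ]
  · intro Q
    obtain ⟨b, hb⟩ := MulAction.exists_smul_eq B P Q
    refine ⟨e b, ?_⟩
    show e.symm (e b) • P = Q
    rw [e.symm_apply_apply, hb]
  · intro b Q R S h1 h2 h3 h4 h5 h6
    have := h.three (e.symm b) Q R S h1 h2 h3 h4 h5 h6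
    simpa using this

omit [Finite B] in
/-- two different Sylow subgroups generate a simple group -/
theorem IsZT.sup_eq_top [IsSimpleGroup B] (h : IsZT B l u t) {P Q : Sylow l B} (hPQ : P ≠ Q) :
    (P : Subgroup B) ⊔ (Q : Subgroup B) = ⊤ := by
  have hall : ∀ R : Sylow l B, (R : Subgroup B) ≤ (P : Subgroup B) ⊔ (Q : Subgroup B) := by
    intro R
    by_cases hR : R = P
    · rw [hR]; exact le_sup_left
    · obtain ⟨x, hx, hxR⟩ := h.trans P Q R hPQ.symm hR
      intro z hz
      have hz' : z ∈ x • Q := by rw [hxR]; exact hz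
      rw [mem_smul] at hz'
      have h1 : x * (x⁻¹ * z * x) * x⁻¹ ∈ (P : Subgroup B) ⊔ (Q : Subgroup B) :=
        mul_mem (mul_mem (mem_sup_left hx) (mem_sup_right hz')) (inv_mem (mem_sup_left hx))
      have h4 : x * (x⁻¹ * z * x) * x⁻¹ = z := by group
      rwa [h4] at h1
  have hle : normalClosure (P : Set B) ≤ (P : Subgroup B) ⊔ (Q : Subgroup B) := by
    unfold normalClosure
    rw [closure_le]
    intro z hz
    obtain ⟨a, ha, hza⟩ := Group.mem_conjugatesOfSet_iff.1 hz
    obtain ⟨g, rfl⟩ := isConj_iff.1 hza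
    apply hall (g • P)
    show g * a * g⁻¹ ∈ g • P
    rw [mem_smul]
    have h4 : g⁻¹ * (g * a * g⁻¹) * g = a := by group
    rw [h4]; exact ha
  rcases (normalClosure_normal (s := (P : Set B))).eq_bot_or_eq_top with h1 | h1
  · exfalso
    have h2 : (P : Subgroup B) ≤ ⊥ := by
      rw [← h1]; exact subset_normalClosure
    have h3 := h.sylow P
    have h5 : (P : Subgroup B) = ⊥ := le_bot_iff.1 h2
    have h6 : Nat.card (P : Subgroup B) = 1 := by rw [h5]; exact Subgroup.card_bot
    have := h.two_le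
    rw [← h3] at this
    have h7 : Nat.card P = 1 := h6
    omega
  · rw [h1] at hle
    exact top_le_iff.1 hle

/-- an element of prime order `r ∣ u - 1` does not commute with an element of prime order `s ∣ u + 1` -/
theorem IsZT.false_of_commute (h : IsZT B l u t) {r s : ℕ} (hr : r.Prime) (hr2 : r ≠ 2) (hru : r ∣ u - 1)
    (hs : s.Prime) (hs2 : s ≠ 2) (hsn : ¬ s ∣ u * t) {x y : B} (hx : orderOf x = r) (hy : orderOf y = s)
    (hxy : Commute x y) : False := by
  have : Fact l.Prime := ⟨h.prime⟩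
  have : Fact r.Prime := ⟨hr⟩
  have hfin : Finite (Sylow l B) := inferInstance
  have h2 := h.two_le
  have hxp : IsPGroup r (zpowers x) := IsPGroup.of_card (n := 1) (by rw [Nat.card_zpowers, hx, pow_one])
  have hdvd : ¬ r ∣ Nat.card (Sylow l B) := by
    rw [h.num]
    intro h3
    have h4 : r ∣ 2 := by
      have : u + 1 = (u - 1) + 2 := by omega
      rw [this] at h3
      exact (Nat.dvd_add_right hru).1 h3
    exact hr2 ((Nat.prime_dvd_prime_iff_eq hr Nat.prime_two).1 h4)
  obtain ⟨P, hP⟩ := hxp.nonempty_fixed_point_of_prime_not_dvd_card (Sylow l B) hdvd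
  have hxP : x • P = P := hP ⟨x, mem_zpowers x⟩
  have hno : ∀ z : B, orderOf z = s → ∀ R : Sylow l B, z • R ≠ R := by
    intro z hz R hR
    rw [smul_eq_iff] at hR
    apply hsn
    rw [← h.card_normalizer R, ← hz]
    have := Subgroup.orderOf_dvd_natCard (normalizer (R : Set B)) hR
    exact this
  have hy2 : orderOf (y ^ 2) = s := by
    rw [Nat.Coprime.orderOf_pow, hy]
    rw [hy]
    exact (Nat.coprime_primes hs Nat.prime_two).2 hs2
  have h1 : x = 1 := by
    refine h.three x P (y • P) (y ^ 2 • P) (hno y hy P).symm ?_ (hno _ hy2 P).symm hxP ?_ ?_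
    · intro h3
      rw [pow_two, mul_smul] at h3
      exact hno y hy (y • P) h3.symm
    · rw [← mul_smul, hxy.eq, mul_smul, hxP]
    · rw [← mul_smul, (hxy.pow_right 2).eq, mul_smul, hxP]
  rw [h1, orderOf_one] at hx
  exact hr.one_lt.ne hx

/-! ### Automorphisms -/

omit [Finite B] in
theorem mem_aut_smul {α : MulAut B} {Q : Sylow l B} {z : B} : z ∈ α • Q ↔ α⁻¹ z ∈ Q := by
  have h1 : z ∈ α • Q ↔ z ∈ ((α • Q : Sylow l B) : Subgroup B) := Iff.rfl
  rw [h1, Sylow.pointwise_smul_def, Subgroup.mem_pointwise_smul_iff_inv_smul_mem]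
  rfl

omit [Finite B] in
theorem aut_smul_smul (α : MulAut B) (x : B) (Q : Sylow l B) : α • (x • Q) = (α x) • (α • Q) := by
  ext z
  show z ∈ α • (x • Q) ↔ z ∈ (α x) • (α • Q)
  rw [mem_aut_smul, mem_smul, mem_smul, mem_aut_smul, map_mul, map_mul, map_inv]
  have h1 : α⁻¹ (α x) = x := by
    rw [← MulAut.mul_apply, inv_mul_cancel, MulAut.one_apply]
  rw [h1]

omit [Finite B] in
/-- three Sylow subgroups -/
theorem IsZT.exists_three (h : IsZT B l u t) (P : Sylow l B) : ∃ Q R : Sylow l B, P ≠ Q ∧ Q ≠ R ∧ P ≠ R := by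
  classical
  have hn := h.num
  have h2 := h.two_le
  have : Finite (Sylow l B) := Nat.finite_of_card_ne_zero (by rw [hn]; omega)
  have := Fintype.ofFinite (Sylow l B)
  rw [Nat.card_eq_fintype_card] at hn
  have h1 : 1 < (Finset.univ.erase P).card := by
    rw [Finset.card_erase_of_mem (Finset.mem_univ _), Finset.card_univ, hn]; omega
  obtain ⟨a, ha, b, hb, hab⟩ := Finset.one_lt_card.1 h1
  exact ⟨a, b, (Finset.mem_erase.1 ha).1.symm, hab, (Finset.mem_erase.1 hb).1.symm⟩

omit [Finite B] in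
theorem IsZT.aut_eq_one (h : IsZT B l u t) (α : MulAut B) (hα : ∀ R : Sylow l B, α • R = R) : α = 1 := by
  obtain ⟨P⟩ : Nonempty (Sylow l B) := inferInstance
  obtain ⟨Q, R, h1, h2, h3⟩ := h.exists_three P
  ext b
  have key : ∀ S : Sylow l B, (b⁻¹ * α b) • S = S := by
    intro S
    have h4 := aut_smul_smul α b S
    rw [hα, hα] at h4
    rw [mul_smul, ← h4, inv_smul_smul]
  have h5 := h.three (b⁻¹ * α b) P Q R h1 h2 h3 (key P) (key Q) (key R)
  rw [MulAut.one_apply]
  exact (inv_mul_eq_one.1 h5).symm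

end Cfsg.Agent.OddCyclic.Zass
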