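import Mathlib
import Cfsg.Prelude.Def_Sz
import Cfsg.Agent.OddCyclic.ZT
import Cfsg.Agent.S1163
import Cfsg.Agent.ThreePrime.SzDataExists

/-!
# The Suzuki groups act on their Sylow 2-subgroups as Zassenhaus groups
-/

set_option autoImplicit false

namespace Cfsg.Agent.OddCyclic.Zass

open Subgroup

/-- Suzuki groups -/
theorem isZT_suzuki {B : Type*} [Group B] [Finite B] (h : Cfsg.Lie.IsoSuzuki B) :
    ∃ m : ℕ, 1 ≤ m ∧ IsZT B 2 ((2 ^ (2 * m + 1)) ^ 2) (2 ^ (2 * m + 1) - 1) := by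
  have : Fact (Nat.Prime 2) := ⟨Nat.prime_two⟩
  obtain ⟨F, iF, iF', m, hm, hF, ⟨e⟩⟩ := h
  refine ⟨m, hm, ?_⟩
  have hfinJ : Finite (Cfsg.Lie.Sz F (2 ^ (m + 1))) := Finite.of_equiv B e.toEquiv
  obtain ⟨hcard, S, hN, hidx, h2tr, hreg⟩ := S1163.result hm hF
  obtain ⟨D, hD⟩ := Cfsg.Agent.ThreePrime.SzRel.exists_szData
    (J := Cfsg.Lie.Sz F (2 ^ (m + 1))) ⟨F, iF, iF', m, hm, hF, ⟨MulEquiv.refl _⟩⟩ S
  set q := 2 ^ (2 * m + 1) with hq
  have hq2 : 2 ∣ q := dvd_pow_self 2 (by omega)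
  have hq8 : 8 ≤ q := by
    rw [hq]
    calc 8 = 2 ^ 3 := by norm_num
      _ ≤ 2 ^ (2 * m + 1) := Nat.pow_le_pow_right (by norm_num) (by omega)
  have hcop : ¬ 2 ∣ q - 1 := by omega
  set N := normalizer ((S : Subgroup (Cfsg.Lie.Sz F (2 ^ (m + 1)))) : Set (Cfsg.Lie.Sz F (2 ^ (m + 1)))) with hNdef
  have hSN : (S : Subgroup _) ≤ N := le_normalizer
  have hfix : ∀ b : Cfsg.Lie.Sz F (2 ^ (m + 1)), b • (QuotientGroup.mk 1 : _ ⧸ N) = QuotientGroup.mk 1 ↔ b ∈ N := by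
    intro b
    rw [MulAction.Quotient.smul_mk, smul_eq_mul, mul_one, QuotientGroup.eq, mul_one, inv_mem_iff]
  have hmove : ∀ s ∈ (S : Subgroup (Cfsg.Lie.Sz F (2 ^ (m + 1)))), ∀ a : _ ⧸ N, a ≠ QuotientGroup.mk 1 →
      s • a ≠ QuotientGroup.mk 1 := by
    intro s hs a ha h1
    apply ha
    rw [← (hfix s).2 (hSN hs)] at h1
    exact smul_left_cancel _ h1
  have hone : ∀ s ∈ (S : Subgroup (Cfsg.Lie.Sz F (2 ^ (m + 1)))), ∀ a : _ ⧸ N, a ≠ QuotientGroup.mk 1 →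
      s • a = a → s = 1 := by
    intro s hs a ha h1
    obtain ⟨x, -, hx⟩ := hreg a a ha ha
    have h2 := hx ⟨s, hs⟩ h1
    have h3 := hx ⟨1, one_mem _⟩ (one_smul _ _)
    exact congrArg Subtype.val (h2.trans h3.symm)
  have hcS : Nat.card S = q ^ 2 := by
    have hΩ : Nat.card (_ ⧸ N) = q ^ 2 + 1 := hidx
    have h1 : ∃ a : (Cfsg.Lie.Sz F (2 ^ (m + 1))) ⧸ N, a ≠ QuotientGroup.mk 1 := by
      by_contra h
      push Not at h
      have : Nat.card ((Cfsg.Lie.Sz F (2 ^ (m + 1))) ⧸ N) ≤ 1 := by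
        have : Subsingleton ((Cfsg.Lie.Sz F (2 ^ (m + 1))) ⧸ N) := ⟨fun a b => (h a).trans (h b).symm⟩
        exact Finite.card_le_one_iff_subsingleton.2 this
      rw [hΩ] at this
      have : 0 < q ^ 2 := by positivity
      omega
    obtain ⟨a, ha⟩ := h1
    let f : S → {x : (Cfsg.Lie.Sz F (2 ^ (m + 1))) ⧸ N // x ≠ QuotientGroup.mk 1} :=
      fun s => ⟨(s : Cfsg.Lie.Sz F (2 ^ (m + 1))) • a, hmove _ s.2 a ha⟩
    have hf : Function.Bijective f := by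
      constructor
      · intro s s' h
        have h1 : (s : Cfsg.Lie.Sz F (2 ^ (m + 1))) • a = (s' : Cfsg.Lie.Sz F (2 ^ (m + 1))) • a :=
          congrArg Subtype.val h
        obtain ⟨x, -, hx⟩ := hreg a _ ha (hmove _ s.2 a ha)
        exact (hx s rfl).trans (hx s' h1.symm).symm
      · rintro ⟨y, hy⟩
        obtain ⟨s, hs, -⟩ := hreg a y ha hy
        exact ⟨s, Subtype.ext hs⟩
    refine (Nat.card_congr (Equiv.ofBijective f hf)).trans ?_
    classical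
    have := Fintype.ofFinite ((Cfsg.Lie.Sz F (2 ^ (m + 1))) ⧸ N)
    have h1 : Nat.card {x : (Cfsg.Lie.Sz F (2 ^ (m + 1))) ⧸ N // x ≠ QuotientGroup.mk 1} =
        Nat.card (_ ⧸ N) - 1 := by
      rw [Nat.card_eq_fintype_card, Nat.card_eq_fintype_card, Fintype.card_subtype_compl,
        Fintype.card_subtype_eq]
    rw [h1, hΩ]; rfl
  have hpow : ∃ k, q ^ 2 = 2 ^ k := ⟨(2 * m + 1) * 2, by rw [hq, ← pow_mul]⟩
  have key : IsZT (Cfsg.Lie.Sz F (2 ^ (m + 1))) 2 (q ^ 2) (q - 1) := by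
    refine IsZT.of_hom (MulAction.toPermHom _ ((Cfsg.Lie.Sz F (2 ^ (m + 1))) ⧸ N)) Nat.prime_two (by nlinarith)
      hidx (QuotientGroup.mk 1) (S : Subgroup _) hcS hpow hcop (by rw [hcard]; ring) ?_ ?_ ?_ ?_ ?_
    · intro b hb x hx
      have hb' : b ∈ N := (hfix b).1 hb
      exact (Subgroup.mem_normalizer_iff.1 hb' x).1 hx
    · intro x hx
      exact (hfix x).2 (hSN hx)
    · intro a b ha hb
      obtain ⟨s, hs, -⟩ := hreg a b ha hb
      exact ⟨s, s.2, hs⟩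
    · intro ω
      obtain ⟨b, rfl⟩ := QuotientGroup.mk_surjective ω
      refine ⟨b, ?_⟩
      show b • (QuotientGroup.mk 1 : _ ⧸ N) = _
      rw [MulAction.Quotient.smul_mk, smul_eq_mul, mul_one]
    · intro b x y z hxy hyz hxz hx hy hz
      replace hx : b • x = x := hx
      replace hy : b • y = y := hy
      replace hz : b • z = z := hz
      obtain ⟨g, rfl⟩ := QuotientGroup.mk_surjective x
      have hg : (QuotientGroup.mk g : (Cfsg.Lie.Sz F (2 ^ (m + 1))) ⧸ N) = g • QuotientGroup.mk 1 := by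
        rw [MulAction.Quotient.smul_mk, smul_eq_mul, mul_one]
      rw [hg] at hxy hxz hx
      have hc : ∀ p : (Cfsg.Lie.Sz F (2 ^ (m + 1))) ⧸ N, b • (g • p) = g • p → (g⁻¹ * b * g) • p = p := by
        intro p hp
        rw [mul_smul, mul_smul, hp, inv_smul_smul]
      have hb1 := hc _ hx
      have hb2 := hc (g⁻¹ • y) (by rw [smul_inv_smul, hy])
      have hb3 := hc (g⁻¹ • z) (by rw [smul_inv_smul, hz])
      have hy1 : g⁻¹ • y ≠ (QuotientGroup.mk 1 : _ ⧸ N) := fun h1 => hxy (by rw [← h1, smul_inv_smul])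
      have hz1 : g⁻¹ • z ≠ (QuotientGroup.mk 1 : _ ⧸ N) := fun h1 => hxz (by rw [← h1, smul_inv_smul])
      have hyz1 : g⁻¹ • y ≠ g⁻¹ • z := fun h1 => hyz (smul_left_cancel _ h1)
      set b' := g⁻¹ * b * g with hb'
      have hbN : b' ∈ N := (hfix b').1 hb1
      obtain ⟨s, hs, -⟩ := hreg _ _ hy1 hz1
      have hs1 : (s : Cfsg.Lie.Sz F (2 ^ (m + 1))) ≠ 1 := by
        intro h1
        rw [h1, one_smul] at hs
        exact hyz1 hs
      have hbs : b' * s * b'⁻¹ ∈ (S : Subgroup (Cfsg.Lie.Sz F (2 ^ (m + 1)))) :=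
        (Subgroup.mem_normalizer_iff.1 hbN s).1 s.2
      have hcomm : (s : Cfsg.Lie.Sz F (2 ^ (m + 1)))⁻¹ * (b' * s * b'⁻¹) = 1 := by
        apply hone _ (mul_mem (inv_mem s.2) hbs) _ hy1
        have h2 : b'⁻¹ • g⁻¹ • y = g⁻¹ • y := by rw [inv_smul_eq_iff]; exact hb2.symm
        rw [mul_smul, mul_smul, mul_smul, h2, hs, hb3, ← hs, inv_smul_smul]
      have hcomm' : b' * s * b'⁻¹ = s := (inv_mul_eq_one.1 hcomm).symm
      have hb'1 : b' = 1 := by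
        obtain ⟨t₀, ht₀, d, hd, hbd⟩ := hD.norm b' hbN
        by_cases hd1 : d = 1
        · rw [hd1, mul_one] at hbd
          rw [hbd] at hb2 ⊢
          exact hone _ ht₀ _ hy1 hb2
        · exfalso
          have hdN := hD.D_le hd
          let f : S → S := fun t => ⟨(t : Cfsg.Lie.Sz F (2 ^ (m + 1)))⁻¹ * (d * t * d⁻¹),
            mul_mem (inv_mem t.2) ((Subgroup.mem_normalizer_iff.1 hdN t).1 t.2)⟩
          have hfinj : Function.Injective f := by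
            intro t t' h
            have h1 : (t : Cfsg.Lie.Sz F (2 ^ (m + 1)))⁻¹ * (d * t * d⁻¹) =
                (t' : Cfsg.Lie.Sz F (2 ^ (m + 1)))⁻¹ * (d * t' * d⁻¹) := congrArg Subtype.val h
            have h2 : d * ((t : Cfsg.Lie.Sz F (2 ^ (m + 1))) * (t' : Cfsg.Lie.Sz F (2 ^ (m + 1)))⁻¹) * d⁻¹ =
                (t : Cfsg.Lie.Sz F (2 ^ (m + 1))) * (t' : Cfsg.Lie.Sz F (2 ^ (m + 1)))⁻¹ := by
              calc d * ((t : Cfsg.Lie.Sz F (2 ^ (m + 1))) * (t' : Cfsg.Lie.Sz F (2 ^ (m + 1)))⁻¹) * d⁻¹ =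
                  t * ((t : Cfsg.Lie.Sz F (2 ^ (m + 1)))⁻¹ * (d * t * d⁻¹)) *
                    (d * (t' : Cfsg.Lie.Sz F (2 ^ (m + 1)))⁻¹ * d⁻¹) := by group
                _ = t * ((t' : Cfsg.Lie.Sz F (2 ^ (m + 1)))⁻¹ * (d * t' * d⁻¹)) *
                    (d * (t' : Cfsg.Lie.Sz F (2 ^ (m + 1)))⁻¹ * d⁻¹) := by rw [h1]
                _ = _ := by group
            rcases hD.fpf d hd _ (mul_mem t.2 (inv_mem t'.2)) h2 with h3 | h3
            · exact absurd h3 hd1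
            · exact Subtype.ext (mul_inv_eq_one.1 h3)
          obtain ⟨t, ht⟩ := (Finite.injective_iff_surjective.1 hfinj) ⟨t₀, ht₀⟩
          have ht' : (t : Cfsg.Lie.Sz F (2 ^ (m + 1)))⁻¹ * (d * t * d⁻¹) = t₀ := congrArg Subtype.val ht
          have hb'' : b' = (t : Cfsg.Lie.Sz F (2 ^ (m + 1)))⁻¹ * d * t := by
            rw [hbd, ← ht']; group
          have h4 : d * ((t : Cfsg.Lie.Sz F (2 ^ (m + 1))) * s * (t : Cfsg.Lie.Sz F (2 ^ (m + 1)))⁻¹) * d⁻¹ =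
              t * s * (t : Cfsg.Lie.Sz F (2 ^ (m + 1)))⁻¹ := by
            calc _ = t * (((t : Cfsg.Lie.Sz F (2 ^ (m + 1)))⁻¹ * d * t) * s *
                  ((t : Cfsg.Lie.Sz F (2 ^ (m + 1)))⁻¹ * d * t)⁻¹) * (t : Cfsg.Lie.Sz F (2 ^ (m + 1)))⁻¹ := by group
              _ = _ := by rw [← hb'', hcomm']
          rcases hD.fpf d hd _ (mul_mem (mul_mem t.2 s.2) (inv_mem t.2)) h4 with h3 | h3
          · exact hd1 h3
          · apply hs1
            have h5 := mul_inv_eq_one.1 h3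
            exact mul_left_cancel (h5.trans (mul_one _).symm)
      have h6 : b = g * b' * g⁻¹ := by rw [hb']; group
      rw [h6, hb'1, mul_one, mul_inv_cancel]
  exact key.of_mulEquiv e.symm hpow hcop

end Cfsg.Agent.OddCyclic.Zass
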