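import Mathlib
import Cfsg.Agent.LieExceptional.CITDefs
import Cfsg.Agent.Blocks.SylowIn
import Cfsg.Agent.Lib.NormalAbelian

/-!
# S0342, component type, case A4 with `K = A₅`: the Sylow 2-subgroup of `C(E)`

(5b) of blueprints/S0342-caseA.md, last section: an `h`-invariant 2-group `P > V = R × E`,
`|R| = |E| = 4`, `E` central in `P`, `C_P(t) = V` for `1 ≠ t ∈ R`, `C_P(h) = R`. Then `|P| = 64`,
`P = F R` with `F` abelian of order 16, `F ∩ V = E`.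
-/

set_option autoImplicit false

namespace Cfsg.Agent.OddCyclic.A4ELayer

open Subgroup
open Cfsg.Agent.LieExceptional.CITDefs

variable {G : Type*} [Group G]

theorem card_mul_relIndex {V S : Subgroup G} (h : V ≤ S) :
    Nat.card V * V.relIndex S = Nat.card S := by
  rw [← Nat.card_congr (Subgroup.subgroupOfEquivOfLe h).toEquiv]
  exact (V.subgroupOf S).card_mul_index

/-- An element of order three permuting a coset of a 2-group has a fixed point in it. -/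
theorem exists_fixed [Finite G] {h x : G} (h3 : h * h * h = 1) {K : Subgroup G} (hK : IsPGroup 2 K)
    (hh : ∀ y ∈ K, h * y * h⁻¹ ∈ K) (hx : x⁻¹ * (h * x * h⁻¹) ∈ K) :
    ∃ k ∈ K, h * (x * k) = (x * k) * h := by
  classical
  have hpf : Fact (Nat.Prime 2) := ⟨Nat.prime_two⟩
  have hpf3 : Fact (Nat.Prime 3) := ⟨Nat.prime_three⟩
  let _ : Fintype K := Fintype.ofFinite K
  let τ : K → K := fun y => ⟨(x⁻¹ * (h * x * h⁻¹)) * (h * y * h⁻¹), K.mul_mem hx (hh y y.2)⟩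
  have hτ : ∀ y : K, (τ y : G) = x⁻¹ * (h * (x * y) * h⁻¹) := by
    intro y
    show (x⁻¹ * (h * x * h⁻¹)) * (h * y * h⁻¹) = _
    group
  have h33 : ∀ z : G, h * (h * (h * z * h⁻¹) * h⁻¹) * h⁻¹ = z := by
    intro z
    calc h * (h * (h * z * h⁻¹) * h⁻¹) * h⁻¹ = (h * h * h) * z * (h * h * h)⁻¹ := by group
      _ = z := by rw [h3]; group
  have hτ3 : ∀ y : K, τ (τ (τ y)) = y := by
    intro y
    apply Subtype.ext
    rw [hτ, hτ, hτ]
    simp only [mul_inv_cancel_left]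
    rw [h33]
    group
  let σ : Equiv.Perm K :=
    { toFun := τ
      invFun := fun y => τ (τ y)
      left_inv := fun y => hτ3 y
      right_inv := fun y => hτ3 y }
  have hσ : σ ^ 3 ^ 1 = 1 := by
    ext y
    show ((σ ^ 3) y : K) = (y : G)
    rw [show (σ ^ 3) y = σ (σ (σ y)) by rfl]
    exact congrArg Subtype.val (hτ3 y)
  have hcard : ¬ 3 ∣ Fintype.card K := by
    rw [← Nat.card_eq_fintype_card]
    obtain ⟨n, hn⟩ := IsPGroup.iff_card.mp hK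
    rw [hn]
    intro hd
    have := Nat.prime_three.dvd_of_dvd_pow hd
    omega
  obtain ⟨k, hk⟩ := Equiv.Perm.exists_fixed_point_of_prime hcard hσ
  refine ⟨k, k.2, ?_⟩
  have h1 : (τ k : G) = k := congrArg Subtype.val hk
  rw [hτ] at h1
  have h2 : h * (x * k) * h⁻¹ = x * k := by
    calc h * (x * k) * h⁻¹ = x * (x⁻¹ * (h * (x * k) * h⁻¹)) := by group
      _ = x * k := by rw [h1]
  calc h * (x * k) = (h * (x * k) * h⁻¹) * h := by group
    _ = x * k * h := by rw [h2]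

/-- The data: `V = R × E`, `E ≤ Z(P)`. -/
structure Lay (P V R E : Subgroup G) (h : G) : Prop where
  two : IsPGroup 2 P
  VP : V ≤ P
  elemR : Elem R
  elemE : Elem E
  cardR : Nat.card R = 4
  cardE : Nat.card E = 4
  memV : ∀ v, v ∈ V ↔ ∃ r ∈ R, ∃ e ∈ E, v = r * e
  EP : ∀ e ∈ E, ∀ x ∈ P, e * x = x * e
  h3 : h * h * h = 1
  hP : ∀ x ∈ P, h * x * h⁻¹ ∈ P
  hE : ∀ e ∈ E, h * e * h⁻¹ ∈ E
  hR : ∀ r ∈ R, h * r = r * h
  fpE : ∀ e ∈ E, h * e = e * h → e = 1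
  fix : ∀ x ∈ P, h * x = x * h → x ∈ R
  cent : ∀ t ∈ R, t ≠ 1 → ∀ x ∈ P, x * t = t * x → x ∈ V
  ne : V ≠ P

section

variable [Finite G] {P V R E : Subgroup G} {h : G}

omit [Finite G] in
theorem Lay.RV (L : Lay P V R E h) : R ≤ V := fun r hr =>
  (L.memV r).mpr ⟨r, hr, 1, E.one_mem, (mul_one r).symm⟩

omit [Finite G] in
theorem Lay.EV (L : Lay P V R E h) : E ≤ V := fun e he =>
  (L.memV e).mpr ⟨1, R.one_mem, e, he, (one_mul e).symm⟩

omit [Finite G] in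
theorem Lay.EP' (L : Lay P V R E h) : E ≤ P := L.EV.trans L.VP

omit [Finite G] in
theorem Lay.RP (L : Lay P V R E h) : R ≤ P := L.RV.trans L.VP

omit [Finite G] in
theorem Lay.inf (L : Lay P V R E h) {x : G} (hR : x ∈ R) (hE : x ∈ E) : x = 1 :=
  L.fpE x hE (L.hR x hR)

omit [Finite G] in
theorem Lay.h33 (L : Lay P V R E h) (z : G) : h * (h * (h * z * h⁻¹) * h⁻¹) * h⁻¹ = z := by
  calc h * (h * (h * z * h⁻¹) * h⁻¹) * h⁻¹ = (h * h * h) * z * (h * h * h)⁻¹ := by group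
    _ = z := by rw [L.h3]; group

omit [Finite G] in
theorem Lay.hr (L : Lay P V R E h) {r : G} (hr : r ∈ R) : h * r * h⁻¹ = r := by
  rw [L.hR r hr]; group

omit [Finite G] in
theorem Lay.hV (L : Lay P V R E h) : ∀ v ∈ V, h * v * h⁻¹ ∈ V := by
  intro v hv
  obtain ⟨r, hr, e, he, rfl⟩ := (L.memV v).mp hv
  have e1 : h * (r * e) * h⁻¹ = (h * r * h⁻¹) * (h * e * h⁻¹) := by group
  rw [e1, L.hr hr]
  exact V.mul_mem (L.RV hr) (L.EV (L.hE e he))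

omit [Finite G] in
theorem Lay.elemV (L : Lay P V R E h) : Elem V := by
  intro v hv
  obtain ⟨r, hr, e, he, rfl⟩ := (L.memV v).mp hv
  calc r * e * (r * e) = r * (e * r) * e := by group
    _ = r * (r * e) * e := by rw [L.EP e he r (L.RP hr)]
    _ = (r * r) * (e * e) := by group
    _ = 1 := by rw [L.elemR r hr, L.elemE e he, one_mul]

/-- Subgroups covering `X` modulo the fixed points of `h` -/
theorem Lay.le_of_fix (L : Lay P V R E h) {X K : Subgroup G} (hX : X ≤ P)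
    (hK : K ≤ X) (hhK : ∀ x ∈ K, h * x * h⁻¹ ∈ K) (hRK : ∀ r ∈ R, r ∈ X → r ∈ K)
    (hfix : ∀ x ∈ X, x⁻¹ * (h * x * h⁻¹) ∈ K) : X ≤ K := by
  intro x hx
  obtain ⟨k, hk, hc⟩ := exists_fixed L.h3 (L.two.to_le (hK.trans hX)) hhK (hfix x hx)
  have h1 : x * k ∈ X := X.mul_mem hx (hK hk)
  have h2 : x * k ∈ R := L.fix _ (hX h1) hc
  have h3 := hRK _ h2 h1
  have e : x = (x * k) * k⁻¹ := by group
  rw [e]
  exact K.mul_mem h3 (K.inv_mem hk)

/-- if `X` normalises `A` and `AR` then `[X, R] ≤ A` -/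
theorem Lay.comm_mem (L : Lay P V R E h) {X A : Subgroup G} (hX : X ≤ P)
    (hhX : ∀ x ∈ X, h * x * h⁻¹ ∈ X) (hXA : ∀ x ∈ X, ∀ a ∈ A, x * a * x⁻¹ ∈ A)
    (hhA : ∀ a ∈ A, h * a * h⁻¹ ∈ A) (hRX : R ≤ X)
    (hR : ∀ x ∈ X, ∀ t ∈ R, ∃ t' ∈ R, ∃ a ∈ A, x * t * x⁻¹ = t' * a) :
    ∀ x ∈ X, ∀ t ∈ R, x * t * x⁻¹ * t⁻¹ ∈ A := by
  let K : Subgroup G :=
    { carrier := {x | x ∈ X ∧ ∀ t ∈ R, x * t * x⁻¹ * t⁻¹ ∈ A}
      one_mem' := ⟨X.one_mem, fun t _ => by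
        have : (1 : G) * t * 1⁻¹ * t⁻¹ = 1 := by group
        rw [this]; exact A.one_mem⟩
      mul_mem' := by
        rintro x y ⟨hx, hxt⟩ ⟨hy, hyt⟩
        refine ⟨X.mul_mem hx hy, fun t ht => ?_⟩
        have : x * y * t * (x * y)⁻¹ * t⁻¹ =
            (x * (y * t * y⁻¹ * t⁻¹) * x⁻¹) * (x * t * x⁻¹ * t⁻¹) := by group
        rw [this]
        exact A.mul_mem (hXA x hx _ (hyt t ht)) (hxt t ht)
      inv_mem' := by
        rintro x ⟨hx, hxt⟩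
        refine ⟨X.inv_mem hx, fun t ht => ?_⟩
        have : x⁻¹ * t * x⁻¹⁻¹ * t⁻¹ = x⁻¹ * (x * t * x⁻¹ * t⁻¹)⁻¹ * x⁻¹⁻¹ := by group
        rw [this]
        exact hXA _ (X.inv_mem hx) _ (A.inv_mem (hxt t ht)) }
  have hK : ∀ x, x ∈ K ↔ x ∈ X ∧ ∀ t ∈ R, x * t * x⁻¹ * t⁻¹ ∈ A := fun x => Iff.rfl
  have hle : X ≤ K := by
    refine L.le_of_fix hX (fun x hx => hx.1) ?_ ?_ ?_
    · rintro x ⟨hx, hxt⟩
      refine ⟨hhX x hx, fun t ht => ?_⟩
      have e : h * x * h⁻¹ * t * (h * x * h⁻¹)⁻¹ * t⁻¹ = h * (x * t * x⁻¹ * t⁻¹) * h⁻¹ := by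
        have h1 : h⁻¹ * t * h = t := by
          calc h⁻¹ * t * h = h⁻¹ * (t * h) := by group
            _ = h⁻¹ * (h * t) := by rw [L.hR t ht]
            _ = t := by group
        have h2 : h⁻¹ * t⁻¹ * h = t⁻¹ := by
          calc h⁻¹ * t⁻¹ * h = (h⁻¹ * t * h)⁻¹ := by group
            _ = t⁻¹ := by rw [h1]
        calc h * x * h⁻¹ * t * (h * x * h⁻¹)⁻¹ * t⁻¹
            = h * x * (h⁻¹ * t * h) * x⁻¹ * (h⁻¹ * t⁻¹ * h) * h⁻¹ := by group
          _ = h * (x * t * x⁻¹ * t⁻¹) * h⁻¹ := by rw [h1, h2]; group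
      rw [e]
      exact hhA _ (hxt t ht)
    · intro r hr hrX
      refine ⟨hrX, fun t ht => ?_⟩
      have : r * t * r⁻¹ * t⁻¹ = 1 := by
        rw [L.elemR.comm hr ht]; group
      rw [this]; exact A.one_mem
    · intro x hx
      refine ⟨X.mul_mem (X.inv_mem hx) (hhX x hx), fun t ht => ?_⟩
      obtain ⟨t', ht', a, ha, hxt⟩ := hR x hx t ht
      have h1 : (h * x * h⁻¹) * t * (h * x * h⁻¹)⁻¹ = t' * (h * a * h⁻¹) := by
        have h2 : h⁻¹ * t * h = t := by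
          calc h⁻¹ * t * h = h⁻¹ * (t * h) := by group
            _ = h⁻¹ * (h * t) := by rw [L.hR t ht]
            _ = t := by group
        calc (h * x * h⁻¹) * t * (h * x * h⁻¹)⁻¹ = h * (x * (h⁻¹ * t * h) * x⁻¹) * h⁻¹ := by group
          _ = h * (t' * a) * h⁻¹ := by rw [h2, hxt]
          _ = (h * t' * h⁻¹) * (h * a * h⁻¹) := by group
          _ = t' * (h * a * h⁻¹) := by rw [L.hr ht']
      have h3 : t' = x * t * x⁻¹ * a⁻¹ := by rw [hxt]; group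
      have h4 : x⁻¹ * (h * x * h⁻¹) * t * (x⁻¹ * (h * x * h⁻¹))⁻¹ * t⁻¹ =
          t * (x⁻¹ * (a⁻¹ * (h * a * h⁻¹)) * x⁻¹⁻¹) * t⁻¹ := by
        calc x⁻¹ * (h * x * h⁻¹) * t * (x⁻¹ * (h * x * h⁻¹))⁻¹ * t⁻¹
            = x⁻¹ * ((h * x * h⁻¹) * t * (h * x * h⁻¹)⁻¹) * x * t⁻¹ := by group
          _ = x⁻¹ * (t' * (h * a * h⁻¹)) * x * t⁻¹ := by rw [h1]
          _ = x⁻¹ * (x * t * x⁻¹ * a⁻¹ * (h * a * h⁻¹)) * x * t⁻¹ := by rw [← h3]
          _ = t * (x⁻¹ * (a⁻¹ * (h * a * h⁻¹)) * x⁻¹⁻¹) * t⁻¹ := by group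
      rw [h4]
      exact hXA t (hRX ht) _ (hXA _ (X.inv_mem hx) _ (A.mul_mem (A.inv_mem ha) (hhA a ha)))
  exact fun x hx => (hle hx).2

omit [Finite G] in
/-- the order of a group `X` acting on `Et` -/
theorem card_eq_of_comm {X E : Subgroup G} {t : G} (hE : Elem E)
    (hEX : ∀ e ∈ E, ∀ x ∈ X, e * x = x * e) (hc : ∀ x ∈ X, x * t * x⁻¹ * t⁻¹ ∈ E) :
    ∃ m, m ∣ Nat.card E ∧ Nat.card X = m * Nat.card (X ⊓ centralizer ({t} : Set G) : Subgroup G) := by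
  let φ : X →* E := MonoidHom.mk' (fun x => ⟨x * t * (x : G)⁻¹ * t⁻¹, hc x x.2⟩) (by
    intro x y
    apply Subtype.ext
    show (x * y : G) * t * ((x : G) * y)⁻¹ * t⁻¹ =
      (x * t * (x : G)⁻¹ * t⁻¹) * (y * t * (y : G)⁻¹ * t⁻¹)
    have h1 := hEX _ (hc y y.2) x x.2
    calc (x * y : G) * t * ((x : G) * y)⁻¹ * t⁻¹
        = x * ((y * t * (y : G)⁻¹ * t⁻¹)) * (t * (x : G)⁻¹ * t⁻¹) := by group
      _ = ((y * t * (y : G)⁻¹ * t⁻¹) * x) * (t * (x : G)⁻¹ * t⁻¹) := by rw [h1]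
      _ = (y * t * (y : G)⁻¹ * t⁻¹) * (x * t * (x : G)⁻¹ * t⁻¹) := by group
      _ = (x * t * (x : G)⁻¹ * t⁻¹) * (y * t * (y : G)⁻¹ * t⁻¹) :=
        hE.comm (hc y y.2) (hc x x.2))
  have hker : (φ.ker).map X.subtype = X ⊓ centralizer ({t} : Set G) := by
    ext x
    rw [mem_inf, mem_centralizer_singleton_iff]
    constructor
    · rintro ⟨y, hy, rfl⟩
      refine ⟨y.2, ?_⟩
      have h1 : (y : G) * t * (y : G)⁻¹ * t⁻¹ = 1 := congrArg Subtype.val hy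
      have h2 : (y : G) * t * (y : G)⁻¹ = t := mul_inv_eq_one.mp h1
      exact mul_inv_eq_iff_eq_mul.mp h2
    · rintro ⟨hx, hxt⟩
      refine ⟨⟨x, hx⟩, ?_, rfl⟩
      apply Subtype.ext
      show x * t * x⁻¹ * t⁻¹ = 1
      rw [hxt]; group
  refine ⟨Nat.card φ.range, Subgroup.card_subgroup_dvd_card _, ?_⟩
  rw [← hker, Subgroup.card_map_of_injective X.subtype_injective, ← Subgroup.index_ker, mul_comm,
    Subgroup.card_mul_index]

theorem four_cases {E : Subgroup G} (h4 : Nat.card E = 4) {a b c d f : G} (ha : a ∈ E)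
    (hb : b ∈ E) (hc : c ∈ E) (hd : d ∈ E) (hf : f ∈ E) (hab : a ≠ b) (hac : a ≠ c) (had : a ≠ d)
    (hbc : b ≠ c) (hbd : b ≠ d) (hcd : c ≠ d) : f = a ∨ f = b ∨ f = c ∨ f = d := by
  classical
  let _ : Fintype E := Fintype.ofFinite E
  let s : Finset E := {⟨a, ha⟩, ⟨b, hb⟩, ⟨c, hc⟩, ⟨d, hd⟩}
  have hs : s.card = 4 := by
    simp only [s]
    rw [Finset.card_insert_of_notMem, Finset.card_insert_of_notMem, Finset.card_insert_of_notMem,
      Finset.card_singleton]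
    · simpa using hcd
    · simpa using ⟨hbc, hbd⟩
    · simpa using ⟨hab, hac, had⟩
  have hu : s = Finset.univ := by
    rw [← Finset.card_eq_iff_eq_univ, hs, ← Nat.card_eq_fintype_card, h4]
  have hfs : (⟨f, hf⟩ : E) ∈ s := by rw [hu]; exact Finset.mem_univ _
  simpa [s] using hfs

omit [Finite G] in
theorem Lay.exists_ne (L : Lay P V R E h) : ∃ t ∈ R, t ≠ 1 := by
  by_contra hno
  push Not at hno
  have h1 : R = ⊥ := (Subgroup.eq_bot_iff_forall R).mpr hno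
  have := L.cardR
  rw [h1, Subgroup.card_bot] at this
  omega

/-- `E = {1, e, e^h, e^(h²)}` -/
theorem Lay.E_cases (L : Lay P V R E h) {e f : G} (he : e ∈ E) (he1 : e ≠ 1) (hf : f ∈ E) :
    f = 1 ∨ f = e ∨ f = h * e * h⁻¹ ∨ f = h * (h * e * h⁻¹) * h⁻¹ := by
  have h1 := L.hE e he
  have h2 := L.hE _ h1
  have key : ∀ a : G, a ∈ E → a ≠ 1 → h * a * h⁻¹ ≠ a := by
    intro a ha ha1 hh
    apply ha1
    apply L.fpE a ha
    calc h * a = (h * a * h⁻¹) * h := by group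
      _ = a * h := by rw [hh]
  have hne1 : h * e * h⁻¹ ≠ 1 := fun hh => he1 (by
    have : e = h⁻¹ * (h * e * h⁻¹) * h := by group
    rw [this, hh]; group)
  have hne2 : h * (h * e * h⁻¹) * h⁻¹ ≠ 1 := fun hh => hne1 (by
    have : h * e * h⁻¹ = h⁻¹ * (h * (h * e * h⁻¹) * h⁻¹) * h := by group
    rw [this, hh]; group)
  have hne3 : h * (h * e * h⁻¹) * h⁻¹ ≠ e := by
    intro hh
    have h3 := L.h33 e
    rw [hh] at h3
    exact key e he he1 h3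
  exact four_cases L.cardE E.one_mem he h1 h2 hf he1.symm hne1.symm hne2.symm
    (key e he he1).symm hne3.symm (key _ h1 hne1).symm

/-! ### the first layer -/

omit [Finite G] in
theorem Lay.hV' (L : Lay P V R E h) : ∀ v ∈ V, h⁻¹ * v * h ∈ V := by
  intro v hv
  have h1 := L.hV _ (L.hV v hv)
  have h2 : h * (h * v * h⁻¹) * h⁻¹ = h⁻¹ * v * h := by
    calc h * (h * v * h⁻¹) * h⁻¹ = h⁻¹ * (h * (h * (h * v * h⁻¹) * h⁻¹) * h⁻¹) * h := by group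
      _ = h⁻¹ * v * h := by rw [L.h33]
  rwa [h2] at h1

omit [Finite G] in
theorem Lay.h_norm (L : Lay P V R E h) : h ∈ normalizer (V : Set G) := by
  rw [mem_normalizer_iff]
  intro x
  refine ⟨fun hx => L.hV x hx, fun hx => ?_⟩
  have h1 := L.hV' _ hx
  have e : h⁻¹ * (h * x * h⁻¹) * h = x := by group
  rwa [e] at h1

omit [Finite G] in
theorem Lay.R_comm_E (L : Lay P V R E h) {r e : G} (hr : r ∈ R) (he : e ∈ E) : e * r = r * e :=
  L.EP e he r (L.RP hr)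

/-- `N_P(V)` -/
def S1 (P V : Subgroup G) : Subgroup G := normalizer (V : Set G) ⊓ P

omit [Finite G] in
theorem Lay.V_le_S1 (L : Lay P V R E h) : V ≤ S1 P V := le_inf Subgroup.le_normalizer L.VP

omit [Finite G] in
theorem Lay.h_S1 (L : Lay P V R E h) : ∀ x ∈ S1 P V, h * x * h⁻¹ ∈ S1 P V := fun x hx =>
  ⟨Subgroup.mul_mem _ (Subgroup.mul_mem _ L.h_norm hx.1) (Subgroup.inv_mem _ L.h_norm),
    L.hP x hx.2⟩

omit [Finite G] in
theorem Lay.E_conj (L : Lay P V R E h) {x e : G} (hx : x ∈ P) (he : e ∈ E) : x * e * x⁻¹ = e := by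
  rw [← L.EP e he x hx]; group

theorem Lay.comm_E (L : Lay P V R E h) : ∀ x ∈ S1 P V, ∀ t ∈ R, x * t * x⁻¹ * t⁻¹ ∈ E := by
  refine L.comm_mem inf_le_right L.h_S1 ?_ L.hE (L.RV.trans L.V_le_S1) ?_
  · intro x hx a ha
    rw [L.E_conj hx.2 ha]; exact ha
  · intro x hx t ht
    have h1 : x * t * x⁻¹ ∈ V := (mem_normalizer_iff.mp hx.1 t).mp (L.RV ht)
    obtain ⟨r, hr, e, he, hre⟩ := (L.memV _).mp h1
    exact ⟨r, hr, e, he, hre⟩

omit [Finite G] in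
theorem Lay.cent_inf (L : Lay P V R E h) {t : G} (ht : t ∈ R) (ht1 : t ≠ 1) {X : Subgroup G}
    (hX : X ≤ P) (hVX : V ≤ X) : X ⊓ centralizer ({t} : Set G) = V := by
  apply le_antisymm
  · intro x hx
    exact L.cent t ht ht1 x (hX hx.1) (mem_centralizer_singleton_iff.mp hx.2)
  · intro v hv
    exact ⟨hVX hv, mem_centralizer_singleton_iff.mpr (L.elemV.comm hv (L.RV ht))⟩

omit [Finite G] in
theorem Lay.card_V (L : Lay P V R E h) : Nat.card V = 16 := by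
  have h1 : Function.Bijective (fun x : R × E => (⟨x.1 * x.2, (L.memV _).mpr
      ⟨x.1, x.1.2, x.2, x.2.2, rfl⟩⟩ : V)) := by
    constructor
    · rintro ⟨r, e⟩ ⟨r', e'⟩ hh
      have h2 : (r : G) * e = r' * e' := congrArg Subtype.val hh
      have h3 : (r' : G)⁻¹ * r = e' * (e : G)⁻¹ := by
        calc (r' : G)⁻¹ * r = (r' : G)⁻¹ * (r * e) * (e : G)⁻¹ := by group
          _ = e' * (e : G)⁻¹ := by rw [h2]; group
      have h4 : (r' : G)⁻¹ * r = 1 := by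
        apply L.inf (R.mul_mem (R.inv_mem r'.2) r.2)
        rw [h3]; exact E.mul_mem e'.2 (E.inv_mem e.2)
      have h5 : r = r' := Subtype.ext (by
        calc (r : G) = r' * ((r' : G)⁻¹ * r) := by group
          _ = r' := by rw [h4, mul_one])
      have h6 : e = e' := Subtype.ext (by
        rw [h4] at h3
        exact (mul_inv_eq_one.mp h3.symm).symm)
      rw [h5, h6]
    · rintro ⟨v, hv⟩
      obtain ⟨r, hr, e, he, rfl⟩ := (L.memV v).mp hv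
      exact ⟨(⟨r, hr⟩, ⟨e, he⟩), rfl⟩
  rw [← Nat.card_congr (Equiv.ofBijective _ h1), Nat.card_prod, L.cardR, L.cardE]

theorem Lay.exists_S1 (L : Lay P V R E h) : ∃ x ∈ S1 P V, x ∉ V := by
  have hpf : Fact (Nat.Prime 2) := ⟨Nat.prime_two⟩
  by_contra hno
  push Not at hno
  exact L.ne (Cfsg.Agent.Blocks.SylowIn.eq_of_normalizer_inf_le (p := 2) L.two L.VP hno).symm

theorem Lay.card_S1 (L : Lay P V R E h) : Nat.card (S1 P V) = 64 := by
  obtain ⟨t, ht, ht1⟩ := L.exists_ne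
  obtain ⟨m, hm, hc⟩ := card_eq_of_comm (X := S1 P V) (t := t) L.elemE
    (fun e he x hx => L.EP e he x hx.2) (fun x hx => L.comm_E x hx t ht)
  rw [L.cent_inf (X := S1 P V) ht ht1 inf_le_right L.V_le_S1, L.card_V] at hc
  rw [L.cardE] at hm
  have h4 : m = 1 ∨ m = 2 ∨ m = 4 := by
    have := Nat.le_of_dvd (by norm_num) hm
    interval_cases m <;> simp_all
  rcases h4 with rfl | rfl | rfl
  · exfalso
    obtain ⟨x, hx, hxV⟩ := L.exists_S1
    have : V = S1 P V := Subgroup.eq_of_le_of_card_ge L.V_le_S1 (by rw [hc, L.card_V])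
    rw [← this] at hx
    exact hxV hx
  · exfalso
    have h2 : V.relIndex (S1 P V) = 2 := by
      have := card_mul_relIndex L.V_le_S1
      rw [hc, L.card_V] at this
      omega
    obtain ⟨x, hx, hxV⟩ := L.exists_S1
    apply hxV
    refine L.le_of_fix inf_le_right L.V_le_S1 L.hV (fun r hr _ => L.RV hr) ?_ hx
    intro y hy
    by_cases hyV : y ∈ V
    · exact V.mul_mem (V.inv_mem hyV) (L.hV y hyV)
    · have h3 : h * y * h⁻¹ ∉ V := by
        intro hh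
        apply hyV
        have := L.hV' _ hh
        have e : h⁻¹ * (h * y * h⁻¹) * h = y := by group
        rwa [e] at this
      have h5 : y⁻¹ ∉ V := fun hh => hyV (by rw [← inv_inv y]; exact V.inv_mem hh)
      have := Subgroup.mul_mem_iff_of_index_two (H := V.subgroupOf (S1 P V)) h2
        (a := ⟨y⁻¹, Subgroup.inv_mem _ hy⟩) (b := ⟨_, L.h_S1 y hy⟩)
      rw [mem_subgroupOf, mem_subgroupOf, mem_subgroupOf] at this
      exact this.mpr (iff_of_false h5 h3)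
  · rw [hc]

/-- squares of elements of `N_P(V)` lie in `E` -/
theorem Lay.sq_mem (L : Lay P V R E h) {x : G} (hx : x ∈ S1 P V) : x * x ∈ E := by
  by_cases hxV : x ∈ V
  · rw [L.elemV x hxV]; exact E.one_mem
  obtain ⟨t, ht, ht1⟩ := L.exists_ne
  have hxP : x ∈ P := hx.2
  have h1 : (x * x) * t = t * (x * x) := by
    have h2 := L.comm_E x hx t ht
    have h3 := L.elemE _ h2
    have h4 := L.E_conj hxP h2
    have h5 : x * t * x⁻¹ = (x * t * x⁻¹ * t⁻¹) * t := by group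
    have h6 : (x * x) * t * (x * x)⁻¹ = t := by
      calc (x * x) * t * (x * x)⁻¹ = x * (x * t * x⁻¹) * x⁻¹ := by group
        _ = x * ((x * t * x⁻¹ * t⁻¹) * t) * x⁻¹ := by rw [← h5]
        _ = (x * (x * t * x⁻¹ * t⁻¹) * x⁻¹) * (x * t * x⁻¹) := by group
        _ = (x * t * x⁻¹ * t⁻¹) * ((x * t * x⁻¹ * t⁻¹) * t) := by rw [h4, ← h5]
        _ = ((x * t * x⁻¹ * t⁻¹) * (x * t * x⁻¹ * t⁻¹)) * t := by group
        _ = t := by rw [h3, one_mul]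
    exact mul_inv_eq_iff_eq_mul.mp h6
  have h2 : x * x ∈ V := L.cent t ht ht1 _ (P.mul_mem hxP hxP) h1
  obtain ⟨r, hr, e, he, hre⟩ := (L.memV _).mp h2
  by_cases hr1 : r = 1
  · rw [hre, hr1, one_mul]; exact he
  · exfalso
    apply hxV
    apply L.cent r hr hr1 x hxP
    have h3 : r = x * x * e⁻¹ := by rw [hre]; group
    have h4 : e⁻¹ * x = x * e⁻¹ := L.EP _ (E.inv_mem he) x hxP
    rw [h3]
    calc x * (x * x * e⁻¹) = x * x * (x * e⁻¹) := by group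
      _ = x * x * (e⁻¹ * x) := by rw [h4]
      _ = x * x * e⁻¹ * x := by group

/-- `N_P(V) / E` is abelian -/
theorem Lay.comm_S1 (L : Lay P V R E h) {x y : G} (hx : x ∈ S1 P V) (hy : y ∈ S1 P V) :
    x * y * x⁻¹ * y⁻¹ ∈ E := by
  have h1 := L.sq_mem hx
  have h2 := L.sq_mem hy
  have h3 := L.sq_mem ((S1 P V).mul_mem hx hy)
  have hx' : x⁻¹ = (x * x)⁻¹ * x := by group
  have hy' : y⁻¹ = (y * y)⁻¹ * y := by group
  have h4 := L.EP _ (E.inv_mem h1) (x * y) (P.mul_mem hx.2 hy.2)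
  have h5 := L.EP _ (E.inv_mem h2) (x * y * x) (P.mul_mem (P.mul_mem hx.2 hy.2) hx.2)
  have e : x * y * x⁻¹ * y⁻¹ = (x * x)⁻¹ * ((y * y)⁻¹ * (x * y * (x * y))) := by
    calc x * y * x⁻¹ * y⁻¹ = (x * y * (x * x)⁻¹) * x * ((y * y)⁻¹ * y) := by
          rw [hx', hy']; group
      _ = ((x * x)⁻¹ * (x * y)) * x * ((y * y)⁻¹ * y) := by rw [h4]
      _ = (x * x)⁻¹ * (x * y * x * (y * y)⁻¹) * y := by group
      _ = (x * x)⁻¹ * ((y * y)⁻¹ * (x * y * x)) * y := by rw [h5]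
      _ = (x * x)⁻¹ * ((y * y)⁻¹ * (x * y * (x * y))) := by group
  rw [e]
  exact E.mul_mem (E.inv_mem h1) (E.mul_mem (E.inv_mem h2) h3)

/-- `x x^h x^(h²)` -/
def nm (h x : G) : G := x * (h * x * h⁻¹) * (h * (h * x * h⁻¹) * h⁻¹)

theorem Lay.swap (L : Lay P V R E h) {x y : G} (hx : x ∈ S1 P V) (hy : y ∈ S1 P V) :
    ∃ e ∈ E, y * x = x * y * e := by
  refine ⟨y⁻¹ * x⁻¹ * y⁻¹⁻¹ * x⁻¹⁻¹, L.comm_S1 ((S1 P V).inv_mem hy) ((S1 P V).inv_mem hx), ?_⟩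
  group

theorem Lay.nm_mul (L : Lay P V R E h) {x y : G} (hx : x ∈ S1 P V) (hy : y ∈ S1 P V) :
    ∃ e ∈ E, nm h (x * y) = nm h x * nm h y * e := by
  have hx1 := L.h_S1 x hx
  have hx2 := L.h_S1 _ hx1
  have hy1 := L.h_S1 y hy
  have hy2 := L.h_S1 _ hy1
  set x1 := h * x * h⁻¹ with hx1'
  set x2 := h * x1 * h⁻¹ with hx2'
  set y1 := h * y * h⁻¹ with hy1'
  set y2 := h * y1 * h⁻¹ with hy2'
  have e1 : nm h (x * y) = x * y * (x1 * y1) * (x2 * y2) := by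
    show x * y * (h * (x * y) * h⁻¹) * (h * (h * (x * y) * h⁻¹) * h⁻¹) = _
    rw [hx2', hy2', hx1', hy1']; group
  obtain ⟨a, ha, h1⟩ := L.swap hx1 hy
  obtain ⟨b, hb, h2⟩ := L.swap hx2 hy1
  obtain ⟨c, hc, h3⟩ := L.swap hx2 hy
  have ca := L.EP a ha
  have cb := L.EP b hb
  have cc := L.EP c hc
  refine ⟨a * b * c, E.mul_mem (E.mul_mem ha hb) hc, ?_⟩
  rw [e1]
  show _ = x * x1 * x2 * (y * y1 * y2) * (a * b * c)
  have d1 : y1 * x2 ∈ P := P.mul_mem hy1.2 hx2.2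
  calc x * y * (x1 * y1) * (x2 * y2) = x * (y * x1) * (y1 * x2) * y2 := by group
    _ = x * (x1 * y * a) * (x2 * y1 * b) * y2 := by rw [h1, h2]
    _ = x * x1 * y * (a * x2) * y1 * (b * y2) := by group
    _ = x * x1 * y * (x2 * a) * y1 * (y2 * b) := by rw [ca x2 hx2.2, cb y2 hy2.2]
    _ = x * x1 * (y * x2) * (a * (y1 * y2)) * b := by group
    _ = x * x1 * (x2 * y * c) * ((y1 * y2) * a) * b := by
        rw [h3, ca (y1 * y2) (P.mul_mem hy1.2 hy2.2)]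
    _ = x * x1 * x2 * y * (c * (y1 * y2 * a * b)) := by group
    _ = x * x1 * x2 * y * ((y1 * y2 * a * b) * c) := by
        rw [cc _ (P.mul_mem (P.mul_mem (P.mul_mem hy1.2 hy2.2) (L.EP' ha)) (L.EP' hb))]
    _ = x * x1 * x2 * (y * y1 * y2) * (a * b * c) := by group

omit [Finite G] in
theorem Lay.nm_E (L : Lay P V R E h) {x : G} (hx : x ∈ E) : nm h x ∈ E :=
  E.mul_mem (E.mul_mem hx (L.hE x hx)) (L.hE _ (L.hE x hx))

omit [Finite G] in
theorem nm_one : nm h 1 = 1 := by unfold nm; group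

/-- `F = {x ∈ N_P(V) : x x^h x^(h²) ∈ E}` -/
def Lay.F (L : Lay P V R E h) : Subgroup G where
  carrier := {x | x ∈ S1 P V ∧ nm h x ∈ E}
  one_mem' := ⟨(S1 P V).one_mem, by rw [nm_one]; exact E.one_mem⟩
  mul_mem' := by
    rintro x y ⟨hx, hxE⟩ ⟨hy, hyE⟩
    obtain ⟨e, he, h1⟩ := L.nm_mul hx hy
    exact ⟨(S1 P V).mul_mem hx hy, by rw [h1]; exact E.mul_mem (E.mul_mem hxE hyE) he⟩
  inv_mem' := by
    rintro x ⟨hx, hxE⟩
    refine ⟨(S1 P V).inv_mem hx, ?_⟩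
    obtain ⟨e, he, h1⟩ := L.nm_mul hx ((S1 P V).inv_mem hx)
    rw [mul_inv_cancel, nm_one] at h1
    have : nm h x⁻¹ = (nm h x)⁻¹ * e⁻¹ := by
      calc nm h x⁻¹ = (nm h x)⁻¹ * (nm h x * nm h x⁻¹ * e) * e⁻¹ := by group
        _ = (nm h x)⁻¹ * e⁻¹ := by rw [← h1, mul_one]
    rw [this]
    exact E.mul_mem (E.inv_mem hxE) (E.inv_mem he)

theorem Lay.mem_F (L : Lay P V R E h) {x : G} : x ∈ L.F ↔ x ∈ S1 P V ∧ nm h x ∈ E := Iff.rfl

theorem Lay.F_le (L : Lay P V R E h) : L.F ≤ S1 P V := fun _ hx => hx.1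

theorem Lay.F_le_P (L : Lay P V R E h) : L.F ≤ P := fun _ hx => hx.1.2

theorem Lay.E_le_F (L : Lay P V R E h) : E ≤ L.F := fun _ hx =>
  ⟨L.V_le_S1 (L.EV hx), L.nm_E hx⟩

theorem Lay.h_F (L : Lay P V R E h) : ∀ x ∈ L.F, h * x * h⁻¹ ∈ L.F := by
  rintro x ⟨hx, hxE⟩
  refine ⟨L.h_S1 x hx, ?_⟩
  have : nm h (h * x * h⁻¹) = h * nm h x * h⁻¹ := by unfold nm; group
  rw [this]
  exact L.hE _ hxE

/-- `F ∩ V = E` -/
theorem Lay.F_inf_V (L : Lay P V R E h) {x : G} (hF : x ∈ L.F) (hV : x ∈ V) : x ∈ E := by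
  obtain ⟨r, hr, e, he, rfl⟩ := (L.memV x).mp hV
  have h1 := hF.2
  obtain ⟨e', he', h2⟩ := L.nm_mul (L.V_le_S1 (L.RV hr)) (L.V_le_S1 (L.EV he))
  rw [h2] at h1
  have h3 : nm h r ∈ E := by
    have : nm h r = nm h r * nm h e * e' * (nm h e * e')⁻¹ := by group
    rw [this]
    exact E.mul_mem h1 (E.inv_mem (E.mul_mem (L.nm_E he) he'))
  have h4 : nm h r = r := by
    unfold nm
    rw [L.hr hr, L.hr hr, L.elemR r hr, one_mul]
  rw [h4] at h3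
  rw [L.inf hr h3, one_mul]; exact he

/-- `N_P(V) = F R` -/
theorem Lay.S1_eq (L : Lay P V R E h) {x : G} (hx : x ∈ S1 P V) :
    ∃ f ∈ L.F, ∃ r ∈ R, x = f * r := by
  have hx1 := L.h_S1 x hx
  have hx2 := L.h_S1 _ hx1
  have hn : nm h x ∈ S1 P V := (S1 P V).mul_mem ((S1 P V).mul_mem hx hx1) hx2
  have h1 : (nm h x)⁻¹ * (h * nm h x * h⁻¹) ∈ E := by
    have e : h * nm h x * h⁻¹ = x⁻¹ * nm h x * x := by
      have := L.h33 x
      calc h * nm h x * h⁻¹ = x⁻¹ * (x * (h * x * h⁻¹) * (h * (h * x * h⁻¹) * h⁻¹)) *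
            (h * (h * (h * x * h⁻¹) * h⁻¹) * h⁻¹) := by unfold nm; group
        _ = x⁻¹ * nm h x * x := by rw [this]; rfl
    rw [e]
    have h2 := L.comm_S1 ((S1 P V).inv_mem hn) ((S1 P V).inv_mem hx)
    have e2 : (nm h x)⁻¹ * (x⁻¹ * nm h x * x) = (nm h x)⁻¹ * x⁻¹ * (nm h x)⁻¹⁻¹ * x⁻¹⁻¹ := by
      group
    rw [e2]; exact h2
  obtain ⟨e, he, hc⟩ := exists_fixed L.h3 (L.two.to_le L.EP') L.hE h1
  have hr : nm h x * e ∈ R := L.fix _ (P.mul_mem hn.2 (L.EP' he)) hc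
  set r := nm h x * e with hrdef
  refine ⟨x * r⁻¹, ⟨(S1 P V).mul_mem hx ((S1 P V).inv_mem (L.V_le_S1 (L.RV hr))), ?_⟩, r, hr,
    by group⟩
  obtain ⟨e', he', h2⟩ := L.nm_mul hx ((S1 P V).inv_mem (L.V_le_S1 (L.RV hr)))
  have h4 : nm h r⁻¹ = r := by
    have hrr := L.elemR r hr
    have hinv : r⁻¹ = r := inv_eq_of_mul_eq_one_left hrr
    rw [hinv]
    unfold nm
    rw [L.hr hr, L.hr hr, hrr, one_mul]
  rw [h2, h4]
  have h5 : nm h x = r * e⁻¹ := by rw [hrdef]; group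
  rw [h5]
  have h6 := L.EP _ (E.inv_mem he) r (L.RP hr)
  have : r * e⁻¹ * r * e' = (r * r) * (e⁻¹ * e') := by
    calc r * e⁻¹ * r * e' = r * (e⁻¹ * r) * e' := by group
      _ = r * (r * e⁻¹) * e' := by rw [h6]
      _ = (r * r) * (e⁻¹ * e') := by group
  rw [this, L.elemR r hr, one_mul]
  exact E.mul_mem (E.inv_mem he) he'

theorem Lay.F_inf_R (L : Lay P V R E h) {x : G} (hF : x ∈ L.F) (hR : x ∈ R) : x = 1 :=
  L.inf hR (L.F_inf_V hF (L.RV hR))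

theorem Lay.card_F (L : Lay P V R E h) : Nat.card L.F = 16 := by
  have h1 : Function.Bijective (fun x : L.F × R => (⟨x.1 * x.2, (S1 P V).mul_mem (L.F_le x.1.2)
      (L.V_le_S1 (L.RV x.2.2))⟩ : S1 P V)) := by
    constructor
    · rintro ⟨f, r⟩ ⟨f', r'⟩ hh
      have h2 : (f : G) * r = f' * r' := congrArg Subtype.val hh
      have h3 : (f' : G)⁻¹ * f = r' * (r : G)⁻¹ := by
        calc (f' : G)⁻¹ * f = (f' : G)⁻¹ * (f * r) * (r : G)⁻¹ := by group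
          _ = r' * (r : G)⁻¹ := by rw [h2]; group
      have h4 : (f' : G)⁻¹ * f = 1 := by
        apply L.F_inf_R (L.F.mul_mem (L.F.inv_mem f'.2) f.2)
        rw [h3]; exact R.mul_mem r'.2 (R.inv_mem r.2)
      have h5 : f = f' := Subtype.ext (by
        calc (f : G) = f' * ((f' : G)⁻¹ * f) := by group
          _ = f' := by rw [h4, mul_one])
      have h6 : r = r' := Subtype.ext (by
        rw [h4] at h3
        exact (mul_inv_eq_one.mp h3.symm).symm)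
      rw [h5, h6]
    · rintro ⟨x, hx⟩
      obtain ⟨f, hf, r, hr, rfl⟩ := L.S1_eq hx
      exact ⟨(⟨f, hf⟩, ⟨r, hr⟩), rfl⟩
  have h2 := Nat.card_congr (Equiv.ofBijective _ h1)
  rw [Nat.card_prod, L.cardR, L.card_S1] at h2
  omega

theorem Lay.exists_F (L : Lay P V R E h) : ∃ u ∈ L.F, u ∉ E := by
  by_contra hno
  push Not at hno
  have h1 := Subgroup.card_le_of_le (show L.F ≤ E from hno)
  rw [L.card_F, L.cardE] at h1
  omega

/-- the cosets of `E` in `F` -/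
theorem Lay.F_cases (L : Lay P V R E h) {u v : G} (hu : u ∈ L.F) (huE : u ∉ E) (hv : v ∈ L.F) :
    ∃ e ∈ E, v = e ∨ v = u * e ∨ v = (h * u * h⁻¹) * e ∨ v = (h * (h * u * h⁻¹) * h⁻¹) * e := by
  obtain ⟨t, ht, ht1⟩ := L.exists_ne
  have hu1 := L.h_F u hu
  have hu2 := L.h_F _ hu1
  have hth : ∀ x : G, (h * x * h⁻¹) * t * (h * x * h⁻¹)⁻¹ * t⁻¹ = h * (x * t * x⁻¹ * t⁻¹) * h⁻¹ := by
    intro x
    have h1 : h⁻¹ * t * h = t := by
      calc h⁻¹ * t * h = h⁻¹ * (t * h) := by group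
        _ = h⁻¹ * (h * t) := by rw [L.hR t ht]
        _ = t := by group
    have h2 : h⁻¹ * t⁻¹ * h = t⁻¹ := by
      calc h⁻¹ * t⁻¹ * h = (h⁻¹ * t * h)⁻¹ := by group
        _ = t⁻¹ := by rw [h1]
    calc (h * x * h⁻¹) * t * (h * x * h⁻¹)⁻¹ * t⁻¹
        = h * x * (h⁻¹ * t * h) * x⁻¹ * (h⁻¹ * t⁻¹ * h) * h⁻¹ := by group
      _ = h * (x * t * x⁻¹ * t⁻¹) * h⁻¹ := by rw [h1, h2]; group
  have ha := L.comm_E u (L.F_le hu) t ht
  have hb := L.comm_E v (L.F_le hv) t ht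
  have key : ∀ x ∈ L.F, v * t * v⁻¹ * t⁻¹ = x * t * x⁻¹ * t⁻¹ → x⁻¹ * v ∈ E := by
    intro x hx hh
    refine L.F_inf_V (L.F.mul_mem (L.F.inv_mem hx) hv) ?_
    refine L.cent t ht ht1 _ (P.mul_mem (P.inv_mem (L.F_le_P hx)) (L.F_le_P hv)) ?_
    have h1 : v * t * v⁻¹ = x * t * x⁻¹ := mul_right_cancel hh
    calc x⁻¹ * v * t = x⁻¹ * (v * t * v⁻¹) * v := by group
      _ = x⁻¹ * (x * t * x⁻¹) * v := by rw [h1]
      _ = t * (x⁻¹ * v) := by group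
  have ha1 : u * t * u⁻¹ * t⁻¹ ≠ 1 := by
    intro hh
    apply huE
    refine L.F_inf_V hu (L.cent t ht ht1 u (L.F_le_P hu) ?_)
    exact mul_inv_eq_iff_eq_mul.mp (mul_inv_eq_one.mp hh)
  rcases L.E_cases ha ha1 hb with h1 | h1 | h1 | h1
  · have h2 := key 1 L.F.one_mem (by rw [h1]; group)
    rw [inv_one, one_mul] at h2
    exact ⟨v, h2, Or.inl rfl⟩
  · exact ⟨u⁻¹ * v, key u hu h1, Or.inr (Or.inl (by group))⟩
  · rw [← hth] at h1
    exact ⟨_, key _ hu1 h1, Or.inr (Or.inr (Or.inl (by group)))⟩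
  · rw [← hth, ← hth] at h1
    exact ⟨_, key _ hu2 h1, Or.inr (Or.inr (Or.inr (by group)))⟩

theorem Lay.comm_h (L : Lay P V R E h) {u : G} (hu : u ∈ L.F) :
    u * (h * u * h⁻¹) = (h * u * h⁻¹) * u := by
  have hu1 := L.h_F u hu
  set u1 := h * u * h⁻¹ with hu1'
  have hc := L.comm_S1 (L.F_le hu) (L.F_le hu1)
  set c := u * u1 * u⁻¹ * u1⁻¹ with hc'
  have hn : nm h u ∈ E := hu.2
  have huP := L.F_le_P hu
  have hu1P := L.F_le_P hu1
  have h2 : h * u1 * h⁻¹ = (u * u1)⁻¹ * nm h u := by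
    show _ = (u * u1)⁻¹ * (u * u1 * (h * u1 * h⁻¹))
    group
  have h3 : h * c * h⁻¹ = c := by
    have e1 : h * c * h⁻¹ = u1 * (h * u1 * h⁻¹) * u1⁻¹ * (h * u1 * h⁻¹)⁻¹ := by
      rw [hc']
      have : h * (u * u1 * u⁻¹ * u1⁻¹) * h⁻¹ = (h * u * h⁻¹) * (h * u1 * h⁻¹) * (h * u * h⁻¹)⁻¹ *
        (h * u1 * h⁻¹)⁻¹ := by group
      rw [this, ← hu1']
    have h4 := L.EP _ hn (u1⁻¹) (P.inv_mem hu1P)
    have h5 : c⁻¹ * (u * u1) = u1 * u := by rw [hc']; group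
    have h6 := L.EP _ (E.inv_mem hc) (u * u1) (P.mul_mem huP hu1P)
    rw [e1, h2]
    calc u1 * ((u * u1)⁻¹ * nm h u) * u1⁻¹ * ((u * u1)⁻¹ * nm h u)⁻¹
        = u1 * (u * u1)⁻¹ * (nm h u * u1⁻¹) * (nm h u)⁻¹ * (u * u1) := by group
      _ = u1 * (u * u1)⁻¹ * (u1⁻¹ * nm h u) * (nm h u)⁻¹ * (u * u1) := by rw [h4]
      _ = (u1 * u)⁻¹ * (u * u1) := by group
      _ = (c⁻¹ * (u * u1))⁻¹ * (u * u1) := by rw [h5]
      _ = ((u * u1) * c⁻¹)⁻¹ * (u * u1) := by rw [h6]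
      _ = c := by group
  have h4 : c = 1 := by
    apply L.fpE c hc
    calc h * c = (h * c * h⁻¹) * h := by group
      _ = c * h := by rw [h3]
  rw [hc'] at h4
  exact (mul_inv_eq_iff_eq_mul.mp (mul_inv_eq_one.mp h4))

/-- `F` is abelian -/
theorem Lay.F_comm (L : Lay P V R E h) {u v : G} (hu : u ∈ L.F) (hv : v ∈ L.F) :
    u * v = v * u := by
  by_cases huE : u ∈ E
  · exact L.EP u huE v (L.F_le_P hv)
  have h1 := L.comm_h hu
  have hn : nm h u ∈ E := hu.2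
  have h2 : h * (h * u * h⁻¹) * h⁻¹ = (u * (h * u * h⁻¹))⁻¹ * nm h u := by
    unfold nm; group
  have h3 : Commute u (h * u * h⁻¹) := h1
  have hE : ∀ e ∈ E, Commute u e := fun e he => (L.EP e he u (L.F_le_P hu)).symm
  have h4 : Commute u (h * (h * u * h⁻¹) * h⁻¹) := by
    rw [h2]
    exact (((Commute.refl u).mul_right h3).inv_right).mul_right (hE _ hn)
  obtain ⟨e, he, rfl | rfl | rfl | rfl⟩ := L.F_cases hu huE hv
  · exact hE _ he
  · exact (Commute.refl u).mul_right (hE _ he)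
  · exact h3.mul_right (hE _ he)
  · exact h4.mul_right (hE _ he)

/-! ### `P` normalises `V` -/

/-- `N_P(N_P(V))` -/
def S2 (P V : Subgroup G) : Subgroup G := normalizer (S1 P V : Set G) ⊓ P

omit [Finite G] in
theorem Lay.S1_le_S2 (_L : Lay P V R E h) : S1 P V ≤ S2 P V :=
  le_inf Subgroup.le_normalizer inf_le_right

omit [Finite G] in
theorem Lay.h_norm1 (L : Lay P V R E h) : h ∈ normalizer (S1 P V : Set G) := by
  rw [mem_normalizer_iff]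
  intro x
  refine ⟨fun hx => L.h_S1 x hx, fun hx => ?_⟩
  have h1 := L.h_S1 _ (L.h_S1 _ hx)
  rwa [L.h33] at h1

omit [Finite G] in
theorem Lay.h_S2 (L : Lay P V R E h) : ∀ x ∈ S2 P V, h * x * h⁻¹ ∈ S2 P V := fun x hx =>
  ⟨Subgroup.mul_mem _ (Subgroup.mul_mem _ L.h_norm1 hx.1) (Subgroup.inv_mem _ L.h_norm1),
    L.hP x hx.2⟩

theorem Lay.lt_S2 (L : Lay P V R E h) (hne : S1 P V ≠ P) : 64 < Nat.card (S2 P V) := by
  have hpf : Fact (Nat.Prime 2) := ⟨Nat.prime_two⟩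
  rw [← L.card_S1]
  by_contra hle
  have h1 : S1 P V = S2 P V := Subgroup.eq_of_le_of_card_ge L.S1_le_S2 (not_lt.mp hle)
  exact hne (Cfsg.Agent.Blocks.SylowIn.eq_of_normalizer_inf_le (p := 2) L.two inf_le_right
    (h1 ▸ le_rfl : S2 P V ≤ S1 P V)).symm

omit [Finite G] in
theorem Lay.card_le (L : Lay P V R E h) {X : Subgroup G} (hX : X ≤ P) {t : G} (ht : t ∈ R)
    (ht1 : t ≠ 1) (hVX : V ≤ X) (hc : ∀ x ∈ X, x * t * x⁻¹ * t⁻¹ ∈ E) : Nat.card X ≤ 64 := by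
  obtain ⟨m, hm, h1⟩ := card_eq_of_comm (X := X) (t := t) L.elemE
    (fun e he x hx => L.EP e he x (hX hx)) hc
  rw [L.cent_inf ht ht1 hX hVX, L.card_V] at h1
  rw [L.cardE] at hm
  have := Nat.le_of_dvd (by norm_num) hm
  omega

/-- a normal subgroup above `E` meets the centre modulo `E` -/
theorem exists_central_mod {S N E : Subgroup G} (hS : IsPGroup 2 S) (hNS : N ≤ S)
    (hE : ∀ s ∈ S, ∀ e ∈ E, s * e * s⁻¹ ∈ E) (hN : ∀ s ∈ S, ∀ n ∈ N, s * n * s⁻¹ ∈ N)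
    (hne : ¬ N ≤ E) : ∃ w ∈ N, w ∉ E ∧ ∀ s ∈ S, s * w * s⁻¹ * w⁻¹ ∈ E := by
  have hpf : Fact (Nat.Prime 2) := ⟨Nat.prime_two⟩
  have hEn : (E.subgroupOf S).Normal := ⟨fun e he s => hE s s.2 e he⟩
  have hNn : (N.subgroupOf S).Normal := ⟨fun e he s => hN s s.2 e he⟩
  have h1 : IsPGroup 2 (S ⧸ E.subgroupOf S) := hS.to_quotient _
  have h2 : Group.IsNilpotent (S ⧸ E.subgroupOf S) := h1.isNilpotent
  set π := QuotientGroup.mk' (E.subgroupOf S) with hπ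
  have hker : ∀ x : S, π x = 1 ↔ (x : G) ∈ E := by
    intro x
    rw [← MonoidHom.mem_ker, hπ, QuotientGroup.ker_mk']
    rfl
  have h3 : ((N.subgroupOf S).map π).Normal :=
    hNn.map π (QuotientGroup.mk'_surjective _)
  have h4 : (N.subgroupOf S).map π ≠ ⊥ := by
    intro hb
    apply hne
    intro n hn
    have : π ⟨n, hNS hn⟩ ∈ (N.subgroupOf S).map π := ⟨⟨n, hNS hn⟩, hn, rfl⟩
    rw [hb, mem_bot, hker] at this
    exact this
  have h5 := Cfsg.Agent.Lib.NormalAbelian.normal_inf_center_ne_bot _ h4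
  obtain ⟨⟨q, ⟨w, hw, hwq⟩, hqc⟩, hq1'⟩ := Subgroup.ne_bot_iff_exists_ne_one.mp h5
  have hq1 : q ≠ 1 := fun hh => hq1' (Subtype.ext hh)
  refine ⟨w, hw, fun hwE => hq1 ?_, fun s hs => ?_⟩
  · rw [← hwq]
    exact (hker w).mpr hwE
  · have h6 := mem_center_iff.mp hqc (π ⟨s, hs⟩)
    have h7 : π (⟨s, hs⟩ * w * ⟨s, hs⟩⁻¹ * w⁻¹) = 1 := by
      rw [map_mul, map_mul, map_mul, map_inv, map_inv, hwq, h6]
      group
    rw [hker] at h7
    exact h7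

/-- `N_P(V)/E` is centralised by `N_P(N_P(V))` on `F/E` -/
theorem Lay.F_central (L : Lay P V R E h) (hne : S1 P V ≠ P) :
    ∀ u ∈ L.F, ∀ x ∈ S2 P V, x * u * x⁻¹ * u⁻¹ ∈ E := by
  have hlt := L.lt_S2 hne
  have hS2 : ∀ s ∈ S2 P V, ∀ n ∈ S1 P V, s * n * s⁻¹ ∈ S1 P V := fun s hs n hn =>
    (mem_normalizer_iff.mp hs.1 n).mp hn
  have hE2 : ∀ s ∈ S2 P V, ∀ e ∈ E, s * e * s⁻¹ = e := fun s hs e he => L.E_conj hs.2 he
  let D : Subgroup G :=
    { carrier := {w | w ∈ S1 P V ∧ ∀ x ∈ S2 P V, x * w * x⁻¹ * w⁻¹ ∈ E}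
      one_mem' := ⟨(S1 P V).one_mem, fun x _ => by
        have : x * 1 * x⁻¹ * 1⁻¹ = 1 := by group
        rw [this]; exact E.one_mem⟩
      mul_mem' := by
        rintro w w' ⟨hw, hwx⟩ ⟨hw', hwx'⟩
        refine ⟨(S1 P V).mul_mem hw hw', fun x hx => ?_⟩
        have h1 := L.E_conj hw.2 (hwx' x hx)
        have : x * (w * w') * x⁻¹ * (w * w')⁻¹ =
            (x * w * x⁻¹ * w⁻¹) * (w * (x * w' * x⁻¹ * w'⁻¹) * w⁻¹) := by group
        rw [this, h1]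
        exact E.mul_mem (hwx x hx) (hwx' x hx)
      inv_mem' := by
        rintro w ⟨hw, hwx⟩
        refine ⟨(S1 P V).inv_mem hw, fun x hx => ?_⟩
        have h1 := L.E_conj (P.inv_mem hw.2) (E.inv_mem (hwx x hx))
        have : x * w⁻¹ * x⁻¹ * w⁻¹⁻¹ = w⁻¹ * (x * w * x⁻¹ * w⁻¹)⁻¹ * w⁻¹⁻¹ := by group
        rw [this, h1]
        exact E.inv_mem (hwx x hx) }
  have hD : ∀ w, w ∈ D ↔ w ∈ S1 P V ∧ ∀ x ∈ S2 P V, x * w * x⁻¹ * w⁻¹ ∈ E := fun w => Iff.rfl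
  have hED : E ≤ D := by
    intro e he
    refine ⟨L.V_le_S1 (L.EV he), fun x hx => ?_⟩
    rw [hE2 x hx e he, mul_inv_cancel]
    exact E.one_mem
  have hhS2 : ∀ x ∈ S2 P V, h⁻¹ * x * h ∈ S2 P V := by
    intro x hx
    have h1 := L.h_S2 _ (L.h_S2 _ hx)
    have h2 : h * (h * x * h⁻¹) * h⁻¹ = h⁻¹ * x * h := by
      calc h * (h * x * h⁻¹) * h⁻¹ = h⁻¹ * (h * (h * (h * x * h⁻¹) * h⁻¹) * h⁻¹) * h := by group
        _ = h⁻¹ * x * h := by rw [L.h33]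
    rwa [h2] at h1
  have hhD : ∀ w ∈ D, h * w * h⁻¹ ∈ D := by
    rintro w ⟨hw, hwx⟩
    refine ⟨L.h_S1 w hw, fun x hx => ?_⟩
    have h1 := L.hE _ (hwx _ (hhS2 x hx))
    have : h * (h⁻¹ * x * h * w * (h⁻¹ * x * h)⁻¹ * w⁻¹) * h⁻¹ =
        x * (h * w * h⁻¹) * x⁻¹ * (h * w * h⁻¹)⁻¹ := by group
    rwa [this] at h1
  have hDV : ∀ w ∈ D, w ∈ V → w ∈ E := by
    intro w hw hwV
    obtain ⟨r, hr, e, he, rfl⟩ := (L.memV w).mp hwV
    by_cases hr1 : r = 1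
    · rw [hr1, one_mul]; exact he
    exfalso
    have hrD : r ∈ D := by
      have : r = (r * e) * e⁻¹ := by group
      rw [this]
      exact D.mul_mem hw (D.inv_mem (hED he))
    have := L.card_le (X := S2 P V) inf_le_right hr hr1 (L.V_le_S1.trans L.S1_le_S2) hrD.2
    omega
  obtain ⟨w, hwS1, hwE, hwx⟩ := exists_central_mod (S := S2 P V) (N := S1 P V) (E := E)
    (L.two.to_le inf_le_right) L.S1_le_S2
    (fun s hs e he => by rw [hE2 s hs e he]; exact he) hS2 (by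
      intro hle
      have := Subgroup.card_le_of_le hle
      rw [L.card_S1, L.cardE] at this
      omega)
  have hwD : w ∈ D := ⟨hwS1, hwx⟩
  -- `w ∈ F`
  have hwF : w ∈ L.F := by
    obtain ⟨f, hf, r, hr, hwfr⟩ := L.S1_eq hwS1
    have hn : nm h w ∈ D := D.mul_mem (D.mul_mem hwD (hhD w hwD)) (hhD _ (hhD w hwD))
    obtain ⟨e, he, h1⟩ := L.nm_mul (L.F_le hf) (L.V_le_S1 (L.RV hr))
    have h4 : nm h r = r := by
      unfold nm
      rw [L.hr hr, L.hr hr, L.elemR r hr, one_mul]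
    rw [← hwfr, h4] at h1
    have hrD : r ∈ D := by
      have : r = (nm h f)⁻¹ * nm h w * e⁻¹ := by rw [h1]; group
      rw [this]
      exact D.mul_mem (D.mul_mem (D.inv_mem (hED hf.2)) hn) (D.inv_mem (hED he))
    have hr1 := L.inf hr (hDV r hrD (L.RV hr))
    rw [hwfr, hr1, mul_one]; exact hf
  intro u hu
  have huD : u ∈ D := by
    obtain ⟨e, he, rfl | rfl | rfl | rfl⟩ := L.F_cases hwF hwE hu
    · exact hED he
    · exact D.mul_mem hwD (hED he)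
    · exact D.mul_mem (hhD _ hwD) (hED he)
    · exact D.mul_mem (hhD _ (hhD _ hwD)) (hED he)
  exact huD.2

/-- `P` normalises `V` -/
theorem Lay.S1_eq_P (L : Lay P V R E h) : S1 P V = P := by
  by_contra hne
  have hlt := L.lt_S2 hne
  have hFc := L.F_central hne
  have hF2 : ∀ x ∈ S2 P V, ∀ u ∈ L.F, x * u * x⁻¹ ∈ L.F := by
    intro x hx u hu
    have : x * u * x⁻¹ = (x * u * x⁻¹ * u⁻¹) * u := by group
    rw [this]
    exact L.F.mul_mem (L.E_le_F (hFc u hu x hx)) hu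
  have hcm := L.comm_mem (X := S2 P V) (A := L.F) inf_le_right L.h_S2 hF2 L.h_F
    (L.RV.trans (L.V_le_S1.trans L.S1_le_S2)) (by
      intro x hx t ht
      have h1 : x * t * x⁻¹ ∈ S1 P V := (mem_normalizer_iff.mp hx.1 t).mp (L.V_le_S1 (L.RV ht))
      obtain ⟨f, hf, r, hr, hfr⟩ := L.S1_eq h1
      refine ⟨r, hr, r⁻¹ * f * r, ?_, by rw [hfr]; group⟩
      have h2 := hF2 r⁻¹ (L.S1_le_S2 (L.V_le_S1 (L.RV (R.inv_mem hr)))) f hf
      rwa [inv_inv] at h2)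
  -- an element `x` outside
  obtain ⟨x, hx, hx1⟩ : ∃ x ∈ S2 P V, x ∉ S1 P V := by
    by_contra hno
    push Not at hno
    have := Subgroup.card_le_of_le (show S2 P V ≤ S1 P V from hno)
    rw [L.card_S1] at this
    omega
  have hxP : x ∈ P := hx.2
  -- `[x, t] ∉ E`
  have hnot : ∀ t ∈ R, t ≠ 1 → x * t * x⁻¹ * t⁻¹ ∉ E := by
    intro t ht ht1 hxt
    let K : Subgroup G :=
      { carrier := {y | y ∈ S2 P V ∧ y * t * y⁻¹ * t⁻¹ ∈ E}
        one_mem' := ⟨(S2 P V).one_mem, by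
          have : (1 : G) * t * 1⁻¹ * t⁻¹ = 1 := by group
          rw [this]; exact E.one_mem⟩
        mul_mem' := by
          rintro y y' ⟨hy, hyt⟩ ⟨hy', hyt'⟩
          refine ⟨(S2 P V).mul_mem hy hy', ?_⟩
          have h1 := L.E_conj hy.2 hyt'
          have : y * y' * t * (y * y')⁻¹ * t⁻¹ =
              (y * (y' * t * y'⁻¹ * t⁻¹) * y⁻¹) * (y * t * y⁻¹ * t⁻¹) := by group
          rw [this, h1]
          exact E.mul_mem hyt' hyt
        inv_mem' := by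
          rintro y ⟨hy, hyt⟩
          refine ⟨(S2 P V).inv_mem hy, ?_⟩
          have h1 := L.E_conj (P.inv_mem hy.2) (E.inv_mem hyt)
          have : y⁻¹ * t * y⁻¹⁻¹ * t⁻¹ = y⁻¹ * (y * t * y⁻¹ * t⁻¹)⁻¹ * y⁻¹⁻¹ := by group
          rw [this, h1]
          exact E.inv_mem hyt }
    have hK1 : S1 P V ≤ K := fun y hy => ⟨L.S1_le_S2 hy, L.comm_E y hy t ht⟩
    have hK2 : Nat.card K ≤ 64 := L.card_le (X := K) (fun y hy => hy.1.2) ht ht1
      (L.V_le_S1.trans hK1) (fun y hy => hy.2)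
    have hK3 : S1 P V = K := Subgroup.eq_of_le_of_card_ge hK1 (by rw [L.card_S1]; exact hK2)
    apply hx1
    rw [hK3]
    exact ⟨hx, hxt⟩
  -- `t` inverts `F`
  have hinv : ∀ t ∈ R, t ≠ 1 → ∀ u ∈ L.F, t * u * t⁻¹ = u⁻¹ := by
    intro t ht ht1 u hu
    have hz := hcm x hx t ht
    have hzE := hnot t ht ht1
    set z := x * t * x⁻¹ * t⁻¹ with hz'
    have htt := L.elemR t ht
    have ht' : t⁻¹ = t := inv_eq_of_mul_eq_one_left htt
    have hz1 : t * z * t⁻¹ = z⁻¹ := by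
      have h1 : (z * t) * (z * t) = 1 := by
        have h2 : z * t = x * t * x⁻¹ := by rw [hz']; group
        rw [h2]
        calc x * t * x⁻¹ * (x * t * x⁻¹) = x * (t * t) * x⁻¹ := by group
          _ = 1 := by rw [htt]; group
      have h3 : z * (t * z * t⁻¹) = 1 := by
        rw [ht', ← h1]; group
      exact (inv_eq_of_mul_eq_one_right h3).symm
    have hth : ∀ y : G, t * (h * y * h⁻¹) * t⁻¹ = h * (t * y * t⁻¹) * h⁻¹ := by
      intro y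
      have h1 := L.hR t ht
      have h2 : h⁻¹ * t⁻¹ = t⁻¹ * h⁻¹ := by
        rw [← mul_inv_rev, ← mul_inv_rev, h1]
      calc t * (h * y * h⁻¹) * t⁻¹ = (t * h) * y * (h⁻¹ * t⁻¹) := by group
        _ = (h * t) * y * (t⁻¹ * h⁻¹) := by rw [h1, h2]
        _ = h * (t * y * t⁻¹) * h⁻¹ := by group
    have hgen : ∀ y ∈ L.F, t * y * t⁻¹ = y⁻¹ → ∀ e ∈ E, t * (y * e) * t⁻¹ = (y * e)⁻¹ := by
      intro y hy hyt e he
      have h1 := L.E_conj (L.RP ht) he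
      have h2 : e⁻¹ = e := inv_eq_of_mul_eq_one_left (L.elemE e he)
      have h3 := L.EP e he y⁻¹ (P.inv_mem (L.F_le_P hy))
      calc t * (y * e) * t⁻¹ = (t * y * t⁻¹) * (t * e * t⁻¹) := by group
        _ = y⁻¹ * e := by rw [hyt, h1]
        _ = e * y⁻¹ := h3.symm
        _ = (y * e)⁻¹ := by rw [mul_inv_rev, h2]
    have hz2 : t * (h * z * h⁻¹) * t⁻¹ = (h * z * h⁻¹)⁻¹ := by rw [hth, hz1]; group
    have hz3 : t * (h * (h * z * h⁻¹) * h⁻¹) * t⁻¹ = (h * (h * z * h⁻¹) * h⁻¹)⁻¹ := by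
      rw [hth, hz2, ← conj_inv]
    obtain ⟨e, he, rfl | rfl | rfl | rfl⟩ := L.F_cases hz hzE hu
    · have := hgen 1 L.F.one_mem (by group) u he
      rwa [one_mul] at this
    · exact hgen z hz hz1 e he
    · exact hgen _ (L.h_F _ hz) hz2 e he
    · exact hgen _ (L.h_F _ (L.h_F _ hz)) hz3 e he
  -- two elements
  obtain ⟨t, ht, ht1⟩ := L.exists_ne
  obtain ⟨t', ht', ht'1, hne'⟩ : ∃ t' ∈ R, t' ≠ 1 ∧ t' ≠ t := by
    by_contra hno
    push Not at hno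
    have h1 : R ≤ zpowers t := by
      intro r hr
      by_cases hr1 : r = 1
      · rw [hr1]; exact one_mem _
      · rw [hno r hr hr1]; exact mem_zpowers t
    have h2 := Subgroup.card_le_of_le h1
    have h3 : orderOf t ∣ 2 := orderOf_dvd_of_pow_eq_one (by rw [sq]; exact L.elemR t ht)
    have h4 := Nat.le_of_dvd (by norm_num) h3
    rw [L.cardR, Nat.card_zpowers] at h2
    omega
  obtain ⟨u, hu, huE⟩ := L.exists_F
  apply huE
  have htt' : t * t' ≠ 1 := by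
    intro hh
    apply hne'
    have h1 : t' = t⁻¹ := (inv_eq_of_mul_eq_one_right hh).symm
    rw [h1]
    exact inv_eq_of_mul_eq_one_left (L.elemR t ht)
  refine L.F_inf_V hu (L.cent _ (R.mul_mem ht ht') htt' u (L.F_le_P hu) ?_)
  have h1 := hinv t ht ht1 u⁻¹ (L.F.inv_mem hu)
  have h2 := hinv t' ht' ht'1 u hu
  have h3 : (t * t') * u * (t * t')⁻¹ = u := by
    calc (t * t') * u * (t * t')⁻¹ = t * (t' * u * t'⁻¹) * t⁻¹ := by group
      _ = u := by rw [h2, h1, inv_inv]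
  exact (mul_inv_eq_iff_eq_mul.mp h3).symm

end

end Cfsg.Agent.OddCyclic.A4ELayer
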