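import Cfsg.Agent.OddCyclic.B2Defs
import Cfsg.Agent.SmallSimple.SylowEight
import Cfsg.Agent.SmallSimple.TransferInvol

/-!
# S0342, case B2, piece A: transfer

`tt`: Thompson transfer in a nonabelian simple group; `tc`: transfer into a cyclic quotient of order 4
of the Sylow 2-subgroup.
-/

set_option autoImplicit false
universe u

namespace Cfsg.Agent.OddCyclic.B2Trans

open Cfsg.Agent.LieExceptional.CITDefs Cfsg.Agent.OddCyclic.B2Defs

variable {G : Type u} [Group G] [Finite G]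

/-- `IsSyl2 ⊤ T` as a Sylow subgroup -/
def syl {T : Subgroup G} (h : IsSyl2 (⊤ : Subgroup G) T) : Sylow 2 G :=
  { T with
    isPGroup' := h.two
    is_maximal' := fun {Q} hQ hle => h.max Q le_top hQ hle }

omit [Finite G] in
theorem coe_syl {T : Subgroup G} (h : IsSyl2 (⊤ : Subgroup G) T) : (syl h : Subgroup G) = T := rfl

omit [Finite G] in
theorem not_comm (hnab : ∃ a b : G, a * b ≠ b * a) : ¬ IsMulCommutative G := by
  obtain ⟨a, b, hab⟩ := hnab
  intro h
  exact hab (h.is_comm.comm a b)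

/-- Thompson transfer -/
theorem tt [IsSimpleGroup G] (hnab : ∃ a b : G, a * b ≠ b * a) {t : G} (ht : t * t = 1) : TT t := by
  intro T T₀ hT hle hidx htT ht₀
  have hne : t ≠ 1 := fun h => ht₀ (h ▸ T₀.one_mem)
  have ho : orderOf t = 2 := orderOf_eq_prime (by rw [sq]; exact ht) hne
  exact Cfsg.Agent.SmallSimple.SylowEight.exists_conj_mem (not_comm hnab) (syl hT) T₀ hle hidx t ho

/-- in a cyclic group there is at most one element of order two -/
theorem eq_of_sq {C : Type*} [Group C] [Finite C] (hC : IsCyclic C) {a b : C} (ha : a * a = 1) (hb : b * b = 1)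
    (ha1 : a ≠ 1) (hb1 : b ≠ 1) : a = b := by
  have h := Cfsg.Agent.Classification.TransferSign.eq_of_isCyclic (⊤ : Subgroup C)
    (isCyclic_of_surjective (Subgroup.topEquiv (G := C)).symm (Subgroup.topEquiv (G := C)).symm.surjective)
    (Subgroup.mem_top a) (Subgroup.mem_top b) ha hb ha1 hb1
  exact h

/-- transfer with a cyclic quotient: the index does not matter -/
theorem tc' [IsSimpleGroup G] (hnab : ∃ a b : G, a * b ≠ b * a) {t : G} (ht : t * t = 1) {T T₀ : Subgroup G}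
    (hT : IsSyl2 ⊤ T) (hn : ∀ x ∈ T, ∀ u ∈ T₀, x * u * x⁻¹ ∈ T₀)
    (hcyc : ∃ y ∈ T, ∀ x ∈ T, ∃ k : ℕ, x * y ^ k ∈ T₀) (htT : t ∈ T) (ht₀ : t ∉ T₀) :
    ∃ g : G, g * t * g⁻¹ ∈ T₀ := by
  by_contra hcon
  push Not at hcon
  obtain ⟨y, hyT, hy⟩ := hcyc
  have hN : (T₀.subgroupOf T).Normal := by
    refine ⟨fun u hu x => ?_⟩
    exact hn x x.2 u hu
  have hQc : IsCyclic (T ⧸ T₀.subgroupOf T) := by
    refine ⟨⟨QuotientGroup.mk' _ (⟨y, hyT⟩ : T), fun q => ?_⟩⟩
    obtain ⟨⟨x, hx⟩, rfl⟩ := QuotientGroup.mk'_surjective (T₀.subgroupOf T) q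
    obtain ⟨k, hk⟩ := hy x hx
    refine ⟨-(k : ℤ), ?_⟩
    have h1 : (⟨x, hx⟩ : T) * (⟨y, hyT⟩ : T) ^ k ∈ T₀.subgroupOf T := hk
    have h2 : QuotientGroup.mk' (T₀.subgroupOf T) ((⟨x, hx⟩ : T) * (⟨y, hyT⟩ : T) ^ k) = 1 := by
      rw [← MonoidHom.mem_ker, QuotientGroup.ker_mk']
      exact h1
    rw [map_mul, map_pow] at h2
    show _ ^ (-(k : ℤ)) = _
    rw [zpow_neg, zpow_natCast]
    exact (eq_inv_of_mul_eq_one_left h2).symm
  let _ : CommGroup (T ⧸ T₀.subgroupOf T) := IsCyclic.commGroup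
  set φ : T →* T ⧸ T₀.subgroupOf T := QuotientGroup.mk' (T₀.subgroupOf T) with hφ
  have hker : ∀ x : T, φ x = 1 ↔ (x : G) ∈ T₀ := by
    intro x
    rw [← MonoidHom.mem_ker, hφ, QuotientGroup.ker_mk']
    rfl
  have ht2 : (⟨t, htT⟩ : T) * ⟨t, htT⟩ = 1 := Subtype.ext ht
  have he : φ ⟨t, htT⟩ * φ ⟨t, htT⟩ = 1 := by rw [← map_mul, ht2, map_one]
  have he1 : φ ⟨t, htT⟩ ≠ 1 := fun h => ht₀ ((hker _).1 h)
  have hodd : Odd T.index := by
    rw [← Nat.not_even_iff_odd, even_iff_two_dvd]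
    exact (syl hT).not_dvd_index
  have h1 := Cfsg.Agent.SmallSimple.TransferInvol.transfer_eq_of_odd_index T φ t (by rw [sq]; exact ht) hodd
    (φ ⟨t, htT⟩) (by rw [sq]; exact he) (by
      intro x hx
      obtain ⟨c, hc⟩ := isConj_iff.1 hx
      have hx2 : x * x = 1 := by
        apply Subtype.ext
        show (x : G) * x = 1
        rw [← hc]
        calc c * t * c⁻¹ * (c * t * c⁻¹) = c * (t * t) * c⁻¹ := by group
          _ = 1 := by rw [ht]; group
      refine eq_of_sq hQc ?_ he ?_ he1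
      · rw [← map_mul, hx2, map_one]
      · intro h
        apply hcon c
        rw [hc]
        exact (hker _).1 h)
  rw [Cfsg.Agent.SmallSimple.SylowEight.hom_eq_one (not_comm hnab) (fun a b => mul_comm a b)] at h1
  exact he1 h1.symm

theorem tc [IsSimpleGroup G] (hnab : ∃ a b : G, a * b ≠ b * a) {t : G} (ht : t * t = 1) : TC t := by
  intro T T₀ hT _ hn _ hcyc htT ht₀
  exact tc' hnab ht hT hn hcyc htT ht₀

end Cfsg.Agent.OddCyclic.B2Trans
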