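import Cfsg.Agent.OddCyclic.CaseACount
import Cfsg.Agent.OddCyclic.A4ELayer
import Cfsg.Agent.OddCyclic.A4EInv
import Cfsg.Agent.OddCyclic.B2Trans

/-!
# S0342, component type, case A4 with `K = A₅` and field automorphisms: the Sylow 2-subgroup of `N(K)`

blueprints/S0342-caseA.md, last section, (5). `R ∈ Syl₂(Y)` and `E ∈ Syl₂(K)` are four-groups,
`V = R × E`, `S ∈ Syl₂(M)`, `|S : V| = 2`.
-/

set_option autoImplicit false

namespace Cfsg.Agent.OddCyclic.A4EBase

open Subgroup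
open Cfsg.Agent.LieExceptional Cfsg.Agent.LieExceptional.CITDefs
open Cfsg.Agent.LieExceptional.CITBasic
open Cfsg.Agent.OddCyclic.T1Tools
open Cfsg.Agent.OddCyclic.CompBasic Cfsg.Agent.OddCyclic.CompStandard
open Cfsg.Agent.OddCyclic.CaseADefs Cfsg.Agent.OddCyclic.CaseABase
open Cfsg.Agent.OddCyclic.CaseACount

variable {G : Type*} [Group G] {p : ℕ} {K R E H : Subgroup G}

/-- The input of [A4-E]. -/
structure Base (p : ℕ) (K R E H : Subgroup G) : Prop where
  std : Std p K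
  l2 : L2K K 4
  sylR : IsSyl2 (centralizer (K : Set G)) R
  sylE : IsSyl2 K E
  bor : Borel K E H 4
  elemR : Elem R
  cardR : Nat.card R = 4
  ex : ∃ g : G, g ∉ normalizer (K : Set G) ∧ cj g R ≤ R ⊔ E
  outer : ∃ x ∈ normalizer (K : Set G), (∃ n : ℕ, x ^ 2 ^ n = 1) ∧
    x ∉ K ⊔ centralizer (K : Set G)

theorem Base.comm (b : Base p K R E H) : ∀ r ∈ R, ∀ e ∈ E, r * e = e * r :=
  fun r hr e he => (comm_KY e (b.sylE.le he) r (b.sylR.le hr)).symm

theorem Base.mem_V (b : Base p K R E H) {v : G} :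
    v ∈ R ⊔ E ↔ ∃ r ∈ R, ∃ e ∈ E, v = r * e := mem_sup_comm b.comm

theorem Base.inf (b : Base p K R E H) {x : G} (hR : x ∈ R) (hE : x ∈ E) : x = 1 := by
  have h1 : x ∈ K ⊓ centralizer (K : Set G) := ⟨b.sylE.le hE, b.sylR.le hR⟩
  rwa [b.l2.inf, mem_bot] at h1

theorem Base.elemV (b : Base p K R E H) : Elem (R ⊔ E : Subgroup G) := by
  intro v hv
  obtain ⟨r, hr, e, he, rfl⟩ := b.mem_V.mp hv
  calc r * e * (r * e) = r * (e * r) * e := by group
    _ = r * (r * e) * e := by rw [b.comm r hr e he]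
    _ = (r * r) * (e * e) := by group
    _ = 1 := by rw [b.elemR r hr, b.bor.elem e he, one_mul]

theorem Base.mem_R (b : Base p K R E H) {v : G} (hv : v ∈ R ⊔ E)
    (hY : v ∈ centralizer (K : Set G)) : v ∈ R := by
  obtain ⟨r, hr, e, he, rfl⟩ := b.mem_V.mp hv
  have h1 : e ∈ centralizer (K : Set G) := by
    have h2 := Subgroup.mul_mem _ (Subgroup.inv_mem _ (b.sylR.le hr)) hY
    rwa [inv_mul_cancel_left] at h2
  have h2 : e ∈ K ⊓ centralizer (K : Set G) := ⟨b.sylE.le he, h1⟩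
  rw [b.l2.inf, mem_bot] at h2
  rw [h2, mul_one]; exact hr

theorem Base.mem_E (b : Base p K R E H) {v : G} (hv : v ∈ R ⊔ E) (hK : v ∈ K) : v ∈ E := by
  obtain ⟨r, hr, e, he, rfl⟩ := b.mem_V.mp hv
  have h1 : r ∈ K := by
    have h2 := Subgroup.mul_mem _ hK (Subgroup.inv_mem _ (b.sylE.le he))
    rwa [mul_inv_cancel_right] at h2
  have h2 : r ∈ K ⊓ centralizer (K : Set G) := ⟨h1, b.sylR.le hr⟩
  rw [b.l2.inf, mem_bot] at h2
  rw [h2, one_mul]; exact he

theorem Base.V_le (b : Base p K R E H) : R ⊔ E ≤ normalizer (K : Set G) :=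
  sup_le (b.sylR.le.trans (centralizer_le_normalizer _))
    (b.sylE.le.trans Subgroup.le_normalizer)

theorem Base.S_inf_Y (b : Base p K R E H) {S : Subgroup G}
    (hS : IsSyl2 (normalizer (K : Set G)) S) (hR : R ≤ S) : S ⊓ centralizer (K : Set G) = R :=
  b.sylR.max _ inf_le_right (hS.two.to_le inf_le_left) (le_inf hR b.sylR.le)

theorem Base.S_inf_K (b : Base p K R E H) {S : Subgroup G}
    (hS : IsSyl2 (normalizer (K : Set G)) S) (hE : E ≤ S) : S ⊓ K = E :=
  b.sylE.max _ inf_le_right (hS.two.to_le inf_le_left) (le_inf hE b.sylE.le)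

theorem Base.S_norm_E (b : Base p K R E H) {S : Subgroup G}
    (hS : IsSyl2 (normalizer (K : Set G)) S) (hE : E ≤ S) : ∀ s ∈ S, ∀ e ∈ E, s * e * s⁻¹ ∈ E := by
  intro s hs e he
  rw [← b.S_inf_K hS hE]
  exact Subgroup.mem_inf.mpr ⟨Subgroup.mul_mem _ (Subgroup.mul_mem _ hs (hE he))
    (Subgroup.inv_mem _ hs), by
      have := Subgroup.mem_normalizer_iff.mp (hS.le hs) e
      exact this.mp (b.sylE.le he)⟩

theorem Base.S_norm_R (b : Base p K R E H) {S : Subgroup G}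
    (hS : IsSyl2 (normalizer (K : Set G)) S) (hR : R ≤ S) : ∀ s ∈ S, ∀ e ∈ R, s * e * s⁻¹ ∈ R := by
  intro s hs e he
  rw [← b.S_inf_Y hS hR]
  exact Subgroup.mem_inf.mpr ⟨Subgroup.mul_mem _ (Subgroup.mul_mem _ hs (hR he))
    (Subgroup.inv_mem _ hs), normal_cent K s (hS.le hs) e (b.sylR.le he)⟩

/-- an element of `S` centralizing `E` lies in `V` -/
theorem Base.mem_V_of_comm (b : Base p K R E H) {S : Subgroup G}
    (hS : IsSyl2 (normalizer (K : Set G)) S) (hV : R ⊔ E ≤ S) {s : G} (hs : s ∈ S)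
    (hc : ∀ e ∈ E, s * e = e * s) : s ∈ R ⊔ E := by
  obtain ⟨y, hy, e, he, rfl⟩ := b.l2.centE E b.sylE s (hS.le hs) hc
  have h1 : y ∈ S := by
    have : y = y * e * e⁻¹ := by group
    rw [this]
    exact S.mul_mem hs (S.inv_mem (hV (mem_sup_right he)))
  have h2 : y ∈ R := by
    rw [← b.S_inf_Y hS (le_sup_left.trans hV)]
    exact ⟨h1, hy⟩
  exact Subgroup.mul_mem _ (mem_sup_left h2) (mem_sup_right he)

variable [Finite G]

theorem Base.card_V (b : Base p K R E H) : Nat.card (R ⊔ E : Subgroup G) = 16 := by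
  rw [card_sup_comm b.comm, b.bor.cardE, b.cardR]
  rw [eq_bot_iff]
  exact fun x hx => b.inf hx.1 hx.2

/-- a four-group and an automorphism -/
theorem four_mul {A : Subgroup G} (h4 : Nat.card A = 4) (hA : Elem A) {a c x : G} (ha : a ∈ A)
    (ha1 : a ≠ 1) (hc : c ∈ A) (hc1 : c ≠ 1) (hac : c ≠ a) (hx : x ∈ A) :
    x = 1 ∨ x = a ∨ x = c ∨ x = c * a := by
  have haa := hA a ha
  refine A4ELayer.four_cases h4 A.one_mem ha hc (A.mul_mem hc ha) hx ha1.symm hc1.symm ?_ hac.symm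
    ?_ ?_
  · intro hh
    apply hac
    calc c = (c * a) * a := by rw [mul_assoc, haa, mul_one]
      _ = a := by rw [← hh, one_mul]
  · intro hh
    apply hc1
    exact mul_eq_right.mp hh.symm
  · intro hh
    exact ha1 (mul_eq_left.mp hh.symm)

/-- an element normalising the four-group `A`, fixing `a ≠ 1` and not centralising `A` -/
theorem act_four {A : Subgroup G} (h4 : Nat.card A = 4) (hA : Elem A) {a c s : G} (ha : a ∈ A)
    (ha1 : a ≠ 1) (hs : ∀ x ∈ A, s * x * s⁻¹ ∈ A) (hsa : s * a = a * s) (hc : c ∈ A)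
    (hsc : s * c ≠ c * s) : s * c * s⁻¹ = c * a := by
  have hc1 : c ≠ 1 := by rintro rfl; exact hsc (by rw [mul_one, one_mul])
  have hac : c ≠ a := by rintro rfl; exact hsc hsa
  have hsa' : s * a * s⁻¹ = a := by rw [hsa]; group
  rcases four_mul h4 hA ha ha1 hc hc1 hac (hs c hc) with h1 | h1 | h1 | h1
  · exfalso
    apply hc1
    have : c = s⁻¹ * (s * c * s⁻¹) * s := by group
    rw [this, h1]; group
  · exfalso
    apply hac
    have : c = s⁻¹ * (s * c * s⁻¹) * s := by group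
    rw [this, h1, mul_assoc, ← hsa]; group
  · exact absurd (mul_inv_eq_iff_eq_mul.mp h1) hsc
  · exact h1

theorem act_four_comm {A : Subgroup G} (h4 : Nat.card A = 4) (hA : Elem A) {a c s : G} (ha : a ∈ A)
    (ha1 : a ≠ 1) (hsa : s * a = a * s) (hc : c ∈ A)
    (hsc : s * c ≠ c * s) {x : G} (hx : x ∈ A) (hsx : s * x = x * s) : x = 1 ∨ x = a := by
  have hc1 : c ≠ 1 := by rintro rfl; exact hsc (by rw [mul_one, one_mul])
  have hac : c ≠ a := by rintro rfl; exact hsc hsa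
  rcases four_mul h4 hA ha ha1 hc hc1 hac hx with h1 | h1 | h1 | h1
  · exact Or.inl h1
  · exact Or.inr h1
  · exact absurd (by rw [← h1]; exact hsx) hsc
  · exfalso
    apply hsc
    have h2 : c = x * a⁻¹ := by rw [h1]; group
    rw [h2]
    have : Commute s x := hsx
    exact this.mul_right (Commute.inv_right hsa)

/-- a 2-group normalising a four-group fixes an element of it -/
theorem exists_fixed_four {A S : Subgroup G} (h4 : Nat.card A = 4) (hS : IsPGroup 2 S)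
    (hn : ∀ s ∈ S, ∀ x ∈ A, s * x * s⁻¹ ∈ A) : ∃ a ∈ A, a ≠ 1 ∧ ∀ s ∈ S, s * a = a * s := by
  have hpf : Fact (Nat.Prime 2) := ⟨Nat.prime_two⟩
  let X : Type _ := {x : A // x ≠ 1}
  let act : MulAction S X :=
    { smul := fun s x => ⟨⟨(s : G) * x.1 * (s : G)⁻¹, hn s s.2 _ x.1.2⟩, fun hh => x.2 (by
        have h1 : (s : G) * x.1 * (s : G)⁻¹ = 1 := congrArg Subtype.val hh
        apply Subtype.ext
        have : (x.1 : G) = (s : G)⁻¹ * ((s : G) * x.1 * (s : G)⁻¹) * s := by group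
        rw [this, h1]; simp)⟩
      one_smul := fun x => Subtype.ext (Subtype.ext (by
        show (1 : G) * x.1 * (1 : G)⁻¹ = x.1
        group))
      mul_smul := fun s t x => Subtype.ext (Subtype.ext (by
        show ((s : G) * t) * x.1 * ((s : G) * t)⁻¹ = (s : G) * ((t : G) * x.1 * (t : G)⁻¹) * (s : G)⁻¹
        group)) }
  have hX : ¬ 2 ∣ Nat.card X := by
    have := card_ne_one A
    rw [h4] at this
    show ¬ 2 ∣ Nat.card {x : A // x ≠ 1}
    rw [this]; norm_num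
  obtain ⟨x, hx⟩ := hS.nonempty_fixed_point_of_prime_not_dvd_card X hX
  refine ⟨x.1, x.1.2, fun hh => x.2 (Subtype.ext hh), fun s hs => ?_⟩
  have h1 : (s : G) * x.1 * (s : G)⁻¹ = x.1 :=
    congrArg (fun z : X => ((z.1 : A) : G)) (hx ⟨s, hs⟩)
  exact mul_inv_eq_iff_eq_mul.mp h1

/-- The structure of `S`. -/
structure SData (K R E S : Subgroup G) (e₀ : G) : Prop where
  syl : IsSyl2 (normalizer (K : Set G)) S
  hV : R ⊔ E ≤ S
  he₀ : e₀ ∈ E
  ne : e₀ ≠ 1
  fix : ∀ s ∈ S, s * e₀ = e₀ * s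

theorem Base.sdata (b : Base p K R E H) {S : Subgroup G}
    (hS : IsSyl2 (normalizer (K : Set G)) S) (hV : R ⊔ E ≤ S) : ∃ e₀, SData K R E S e₀ := by
  obtain ⟨e₀, he₀, hne, hfix⟩ := exists_fixed_four b.bor.cardE hS.two
    (b.S_norm_E hS (le_sup_right.trans hV))
  exact ⟨e₀, hS, hV, he₀, hne, hfix⟩

/-- `C_E(s) = ⟨e₀⟩` for `s ∈ S - V` -/
theorem Base.fix_E (b : Base p K R E H) {S : Subgroup G} {e₀ : G} (d : SData K R E S e₀) {s : G}
    (hs : s ∈ S) (hsV : s ∉ R ⊔ E) {e : G} (he : e ∈ E) (hc : s * e = e * s) :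
    e = 1 ∨ e = e₀ := by
  obtain ⟨c, hcE, hsc⟩ : ∃ c ∈ E, s * c ≠ c * s := by
    by_contra hno
    push Not at hno
    exact hsV (b.mem_V_of_comm d.syl d.hV hs hno)
  exact act_four_comm b.bor.cardE b.bor.elem d.he₀ d.ne (d.fix s hs) hcE hsc he hc

/-- `|S : V| ≤ 2` -/
theorem Base.mul_mem_V (b : Base p K R E H) {S : Subgroup G} {e₀ : G} (d : SData K R E S e₀)
    {s s' : G} (hs : s ∈ S) (hsV : s ∉ R ⊔ E) (hs' : s' ∈ S) (hsV' : s' ∉ R ⊔ E) :
    s * s' ∈ R ⊔ E := by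
  have hE := b.S_norm_E d.syl (le_sup_right.trans d.hV)
  refine b.mem_V_of_comm d.syl d.hV (S.mul_mem hs hs') fun e he => ?_
  by_cases h1 : e = 1
  · rw [h1, mul_one, one_mul]
  by_cases h2 : e = e₀
  · rw [h2]; exact d.fix _ (S.mul_mem hs hs')
  have h3 : s' * e * s'⁻¹ = e * e₀ := act_four b.bor.cardE b.bor.elem d.he₀ d.ne (hE s' hs')
    (d.fix s' hs') he (fun hh => by
      rcases b.fix_E d hs' hsV' he hh with h | h
      · exact h1 h
      · exact h2 h)
  have h4 : s * e * s⁻¹ = e * e₀ := act_four b.bor.cardE b.bor.elem d.he₀ d.ne (hE s hs)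
    (d.fix s hs) he (fun hh => by
      rcases b.fix_E d hs hsV he hh with h | h
      · exact h1 h
      · exact h2 h)
  have h5 : (s * s') * e * (s * s')⁻¹ = e := by
    calc (s * s') * e * (s * s')⁻¹ = s * (s' * e * s'⁻¹) * s⁻¹ := by group
      _ = (s * e * s⁻¹) * (s * e₀ * s⁻¹) := by rw [h3]; group
      _ = (e * e₀) * e₀ := by rw [h4, d.fix s hs]; group
      _ = e := by rw [mul_assoc, b.bor.elem e₀ d.he₀, mul_one]
  exact mul_inv_eq_iff_eq_mul.mp h5

omit [Finite G] in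
theorem Base.inv_notMem (_b : Base p K R E H) {s : G} (hsV : s ∉ R ⊔ E) : s⁻¹ ∉ R ⊔ E :=
  fun hh => hsV (by rw [← inv_inv s]; exact Subgroup.inv_mem _ hh)

/-- `V ≠ S` -/
theorem Base.exists_outer (b : Base p K R E H) {S : Subgroup G} {e₀ : G} (d : SData K R E S e₀) :
    ∃ s ∈ S, s ∉ R ⊔ E := by
  obtain ⟨x, hxM, hx2, hxKY⟩ := b.outer
  obtain ⟨Q, hQ, hxQ⟩ := exists_isSyl2 (normalizer (K : Set G)) (zpowers x)
    (zpowers_le.mpr hxM) (isPGroup_zpowers_of_pow hx2)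
  obtain ⟨m, hm, hmQ⟩ := isSyl2_conj d.syl hQ
  have hxQ' : x ∈ Q := hxQ (mem_zpowers x)
  rw [hmQ, mem_cj] at hxQ'
  refine ⟨_, hxQ', fun hV => hxKY ?_⟩
  have h1 : m⁻¹ * x * m ∈ K ⊔ centralizer (K : Set G) := by
    obtain ⟨r, hr, e, he, hre⟩ := b.mem_V.mp hV
    rw [hre]
    exact Subgroup.mul_mem _ (mem_sup_right (b.sylR.le hr)) (mem_sup_left (b.sylE.le he))
  obtain ⟨k, hk, y, hy, hky⟩ := mem_KY.mp h1
  have h2 : x = (m * k * m⁻¹) * (m * y * m⁻¹) := by
    calc x = m * (m⁻¹ * x * m) * m⁻¹ := by group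
      _ = (m * k * m⁻¹) * (m * y * m⁻¹) := by rw [hky]; group
  rw [h2]
  exact Subgroup.mul_mem _ (mem_sup_left (forall_of_mem_normalizer hm k hk))
    (mem_sup_right (normal_cent K m hm y hy))

/-- `|S| = 32` -/
theorem Base.card_S (b : Base p K R E H) {S : Subgroup G} {e₀ : G} (d : SData K R E S e₀) :
    Nat.card S = 32 := by
  obtain ⟨s, hs, hsV⟩ := b.exists_outer d
  have h1 : (R ⊔ E : Subgroup G).relIndex S = 2 := by
    refine Subgroup.index_eq_two_iff'.mpr ⟨⟨s, hs⟩, fun c => ?_⟩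
    rw [mem_subgroupOf, mem_subgroupOf]
    by_cases hc : (c : G) ∈ R ⊔ E
    · refine Or.inr ⟨hc, fun hh => hsV ?_⟩
      have h1 : s * c ∈ R ⊔ E := hh
      have : s = s * c * (c : G)⁻¹ := by group
      rw [this]
      exact Subgroup.mul_mem _ h1 (Subgroup.inv_mem _ hc)
    · exact Or.inl ⟨b.mul_mem_V d hs hsV c.2 hc, hc⟩
  have h2 := T1Tools.card_mul_relIndex d.hV
  rw [b.card_V, h1] at h2
  omega

/-! ### (5a) -/

omit [Finite G] in
theorem Base.exists_t (b : Base p K R E H) : ∃ t ∈ R, t ≠ 1 := by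
  by_contra hno
  push Not at hno
  have h1 : R = ⊥ := (Subgroup.eq_bot_iff_forall R).mpr hno
  have := b.cardR
  rw [h1, Subgroup.card_bot] at this
  omega

/-- elements of the form `y ∈ Y ∩ Y^g`, `y ≠ 1` an involution -/
theorem Base.mem_M (b : Base p K R E H) {t g : G} (ht : t ∈ R) (ht1 : t ≠ 1)
    (h : g * t * g⁻¹ ∈ centralizer (K : Set G)) : g ∈ normalizer (K : Set G) := by
  refine b.std.mem_of_involution (s := g * t * g⁻¹) ?_ h (conj_mem_cj (b.sylR.le ht))
  rw [orderOf_conj]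
  exact orderOf_eq_two ht1 (b.elemR t ht)

theorem Base.syl_top (_b : Base p K R E H) {S : Subgroup G} {e₀ : G} (d : SData K R E S e₀)
    (hN : normalizer (S : Set G) ≤ normalizer (K : Set G)) : IsSyl2 ⊤ S := by
  have hpf : Fact (Nat.Prime 2) := ⟨Nat.prime_two⟩
  obtain ⟨T, hT, hST⟩ := exists_isSyl2 ⊤ S le_top d.syl.two
  have h1 : normalizer (S : Set G) ⊓ T ≤ S := by
    have h2 := d.syl.max (normalizer (S : Set G) ⊓ T) (inf_le_left.trans hN)
      (hT.two.to_le inf_le_right) (le_inf Subgroup.le_normalizer hST)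
    exact h2.le
  have h3 : T = S := Cfsg.Agent.Blocks.SylowIn.eq_of_normalizer_inf_le (p := 2) hT.two hST h1
  rw [← h3]; exact hT

/-- **(5a)** `S` does not centralize `R` -/
theorem Base.exists_not_comm (b : Base p K R E H) {S : Subgroup G} {e₀ : G}
    (d : SData K R E S e₀) : ∃ s ∈ S, ∃ r ∈ R, s * r ≠ r * s := by
  by_contra hno
  push Not at hno
  obtain ⟨s, hs, hsV⟩ := b.exists_outer d
  set Z : Subgroup G := R ⊔ zpowers e₀ with hZ
  have hRz : ∀ r ∈ R, ∀ z ∈ zpowers e₀, r * z = z * r := by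
    intro r hr z hz
    obtain ⟨k, rfl⟩ := hz
    exact (show Commute r e₀ from b.comm r hr e₀ d.he₀).zpow_right k
  have hd : R ⊓ zpowers e₀ = ⊥ := by
    rw [eq_bot_iff]
    intro x hx
    exact b.inf hx.1 ((zpowers_le.mpr d.he₀) hx.2)
  have hcardZ : Nat.card Z = 8 := by
    rw [hZ, card_sup_comm hRz hd, b.cardR, Nat.card_zpowers,
      orderOf_eq_two d.ne (b.bor.elem e₀ d.he₀)]
  have hZV : Z ≤ R ⊔ E := sup_le le_sup_left ((zpowers_le.mpr d.he₀).trans le_sup_right)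
  have hmemZ : ∀ z ∈ S, (∀ x ∈ S, x * z = z * x) → z ∈ Z := by
    intro z hz hc
    have h1 : z ∈ R ⊔ E := b.mem_V_of_comm d.syl d.hV hz
      (fun e he => (hc e (d.hV (mem_sup_right he))).symm)
    obtain ⟨r, hr, e, he, rfl⟩ := b.mem_V.mp h1
    have h2 : s * e = e * s := by
      have h3 := hc s hs
      have h4 := hno s hs r hr
      have h5 : r * (s * e) = r * (e * s) := by
        calc r * (s * e) = (r * s) * e := by group
          _ = (s * r) * e := by rw [h4]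
          _ = s * (r * e) := by group
          _ = (r * e) * s := h3
          _ = r * (e * s) := by group
      exact mul_left_cancel h5
    rcases b.fix_E d hs hsV he h2 with h3 | h3
    · rw [h3, mul_one]; exact mem_sup_left hr
    · rw [h3]; exact Subgroup.mul_mem _ (mem_sup_left hr) (mem_sup_right (mem_zpowers e₀))
  have hRS : R ≤ S := le_sup_left.trans d.hV
  have hN : normalizer (S : Set G) ≤ normalizer (K : Set G) := by
    intro x hx
    have h1 : cj x R ≤ Z := by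
      rintro _ ⟨t, ht, rfl⟩
      simp only [MulEquiv.coe_toMonoidHom, MulAut.conj_apply]
      refine hmemZ _ (forall_of_mem_normalizer hx t (hRS ht)) fun y hy => ?_
      have h2 : x⁻¹ * y * x ∈ S := by
        have := forall_of_mem_normalizer (Subgroup.inv_mem _ hx) y hy
        rwa [inv_inv] at this
      have h3 := hno _ h2 t ht
      calc y * (x * t * x⁻¹) = x * ((x⁻¹ * y * x) * t) * x⁻¹ := by group
        _ = x * (t * (x⁻¹ * y * x)) * x⁻¹ := by rw [h3]
        _ = x * t * x⁻¹ * y := by group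
    have h2 := card_le_inf (A := R) (B := cj x R) (X := Z) le_sup_left h1 (n := 2)
      (by rw [hcardZ, b.cardR])
    rw [card_cj, b.cardR] at h2
    obtain ⟨⟨u, hu1, hu2⟩, hu⟩ : ∃ u : (R ⊓ cj x R : Subgroup G), u ≠ 1 := by
      by_contra hcon
      push Not at hcon
      have h3 : (R ⊓ cj x R : Subgroup G) = ⊥ := by
        rw [eq_bot_iff]
        intro y hy
        exact congrArg Subtype.val (hcon ⟨y, hy⟩)
      rw [h3, Subgroup.card_bot] at h2
      omega
    have hu0 : u ≠ 1 := fun hh => hu (Subtype.ext hh)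
    obtain ⟨t, ht, rfl⟩ := hu2
    simp only [MulEquiv.coe_toMonoidHom, MulAut.conj_apply] at hu1 hu0
    have ht1 : t ≠ 1 := by
      rintro rfl
      apply hu0; group
    exact b.mem_M ht ht1 (b.sylR.le hu1)
  have hST := b.syl_top d hN
  obtain ⟨g, hg, hgR⟩ := b.ex
  have h2 := card_le_inf (A := Z) (B := cj g R) (X := R ⊔ E) hZV hgR (n := 2)
    (by rw [hcardZ, b.card_V])
  rw [card_cj, b.cardR] at h2
  obtain ⟨⟨u, hu1, hu2⟩, hu⟩ : ∃ u : (Z ⊓ cj g R : Subgroup G), u ≠ 1 := by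
    by_contra hcon
    push Not at hcon
    have h3 : (Z ⊓ cj g R : Subgroup G) = ⊥ := by
      rw [eq_bot_iff]
      intro y hy
      exact congrArg Subtype.val (hcon ⟨y, hy⟩)
    rw [h3, Subgroup.card_bot] at h2
    omega
  have hu0 : u ≠ 1 := fun hh => hu (Subtype.ext hh)
  obtain ⟨t, ht, htu⟩ := hu2
  simp only [MulEquiv.coe_toMonoidHom, MulAut.conj_apply] at htu
  have ht1 : t ≠ 1 := by
    rintro rfl
    apply hu0; rw [← htu]; group
  have hZc : ∀ z ∈ Z, z ∈ centralizer (S : Set G) := by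
    intro z hz
    rw [mem_centralizer_iff]
    intro y hy
    have hle : Z ≤ centralizer (S : Set G) := by
      refine sup_le (fun r hr => mem_centralizer_iff.mpr fun y hy => hno y hy r hr) ?_
      rw [zpowers_le]
      exact mem_centralizer_iff.mpr fun y hy => d.fix y hy
    exact mem_centralizer_iff.mp (hle hz) y hy
  obtain ⟨n, hn, hnt⟩ := Sylow.conj_eq_normalizer_conj_of_mem_centralizer
    (B2Trans.syl hST) u g (hZc u hu1) (by
      have : g⁻¹ * u * g = t := by rw [← htu]; group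
      rw [this]
      exact hZc t (mem_sup_left ht))
  have hnM := hN hn
  apply hg
  refine b.mem_M ht ht1 ?_
  have h5 : g * t * g⁻¹ = n * t * n⁻¹ := by
    have h6 : g⁻¹ * u * g = t := by rw [← htu]; group
    rw [h6] at hnt
    rw [htu, hnt]; group
  rw [h5]
  exact normal_cent K n hnM t (b.sylR.le ht)

/-! ### (5b) -/

theorem Base.not_comm_R (b : Base p K R E H) {S : Subgroup G} {e₀ : G} (d : SData K R E S e₀)
    {s : G} (hs : s ∈ S) (hsV : s ∉ R ⊔ E) : ∃ c ∈ R, s * c ≠ c * s := by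
  obtain ⟨x, hx, r, hr, hxr⟩ := b.exists_not_comm d
  have hxV : x ∉ R ⊔ E := fun hh => hxr (b.elemV.comm hh (mem_sup_left hr))
  refine ⟨r, hr, fun hsr => hxr ?_⟩
  have h1 := b.mul_mem_V d hx hxV hs hsV
  have h2 : (x * s) * r = r * (x * s) := b.elemV.comm h1 (mem_sup_left hr)
  have h3 : Commute r (x * s * s⁻¹) :=
    (show Commute r (x * s) from h2.symm).mul_right (show Commute r s from hsr.symm).inv_right
  have h4 : x * s * s⁻¹ = x := by group
  rw [h4] at h3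
  exact h3.symm

/-- the fixed element of `R` -/
structure RData (R S : Subgroup G) (ρ : G) : Prop where
  mem : ρ ∈ R
  ne : ρ ≠ 1
  fix : ∀ s ∈ S, s * ρ = ρ * s

theorem Base.rdata (b : Base p K R E H) {S : Subgroup G} {e₀ : G} (d : SData K R E S e₀) :
    ∃ ρ, RData R S ρ := by
  obtain ⟨ρ, hρ, hne, hfix⟩ := exists_fixed_four b.cardR d.syl.two
    (b.S_norm_R d.syl (le_sup_left.trans d.hV))
  exact ⟨ρ, hρ, hne, hfix⟩

/-- `C_R(s) = ⟨ρ⟩` for `s ∈ S - V` -/
theorem Base.fix_R (b : Base p K R E H) {S : Subgroup G} {e₀ ρ : G} (d : SData K R E S e₀)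
    (dr : RData R S ρ) {s : G} (hs : s ∈ S) (hsV : s ∉ R ⊔ E) {r : G} (hr : r ∈ R)
    (hc : s * r = r * s) : r = 1 ∨ r = ρ := by
  obtain ⟨c, hcR, hsc⟩ := b.not_comm_R d hs hsV
  exact act_four_comm b.cardR b.elemR dr.mem dr.ne (dr.fix s hs) hcR hsc hr hc

/-- `V` is the only `E₁₆` of `S` -/
theorem Base.uniq (b : Base p K R E H) {S D : Subgroup G}
    (hS : IsSyl2 (normalizer (K : Set G)) S) (hV : R ⊔ E ≤ S) (hDS : D ≤ S) (hD : Elem D)
    (hc : 16 ≤ Nat.card D) : D = R ⊔ E := by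
  by_cases hDV : D ≤ R ⊔ E
  · exact Subgroup.eq_of_le_of_card_ge hDV (by rw [b.card_V]; exact hc)
  exfalso
  obtain ⟨e₀, d⟩ := b.sdata hS hV
  obtain ⟨ρ, dr⟩ := b.rdata d
  obtain ⟨x, hxD, hxV⟩ := SetLike.not_le_iff_exists.mp hDV
  have hxS := hDS hxD
  have h1 := card_le_inf (A := R ⊔ E) (B := D) (X := S) hV hDS (n := 2)
    (by rw [b.card_S d, b.card_V])
  have hzz : ∀ r ∈ zpowers ρ, ∀ z ∈ zpowers e₀, r * z = z * r := by
    rintro _ ⟨j, rfl⟩ _ ⟨k, rfl⟩
    exact ((show Commute ρ e₀ from b.comm ρ dr.mem e₀ d.he₀).zpow_left j).zpow_right k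
  have hdis : zpowers ρ ⊓ zpowers e₀ = ⊥ := by
    rw [eq_bot_iff]
    intro y hy
    exact b.inf ((zpowers_le.mpr dr.mem) hy.1) ((zpowers_le.mpr d.he₀) hy.2)
  have hle : (R ⊔ E) ⊓ D ≤ zpowers ρ ⊔ zpowers e₀ := by
    intro v hv
    have hvx : x * v = v * x := hD.comm hxD hv.2
    obtain ⟨r, hr, e, he, rfl⟩ := b.mem_V.mp hv.1
    have hr' := b.S_norm_R d.syl (le_sup_left.trans d.hV) x hxS r hr
    have he' := b.S_norm_E d.syl (le_sup_right.trans d.hV) x hxS e he
    have h2 : (x * r * x⁻¹) * (x * e * x⁻¹) = r * e := by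
      calc (x * r * x⁻¹) * (x * e * x⁻¹) = x * (r * e) * x⁻¹ := by group
        _ = (r * e) * x * x⁻¹ := by rw [hvx]
        _ = r * e := by group
    have h3 : r⁻¹ * (x * r * x⁻¹) = e * (x * e * x⁻¹)⁻¹ := by
      calc r⁻¹ * (x * r * x⁻¹) = r⁻¹ * ((x * r * x⁻¹) * (x * e * x⁻¹)) * (x * e * x⁻¹)⁻¹ := by
            group
        _ = r⁻¹ * (r * e) * (x * e * x⁻¹)⁻¹ := by rw [h2]
        _ = e * (x * e * x⁻¹)⁻¹ := by group
    have h4 : r⁻¹ * (x * r * x⁻¹) = 1 := by
      apply b.inf (R.mul_mem (R.inv_mem hr) hr')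
      rw [h3]; exact E.mul_mem he (E.inv_mem he')
    have h5 : x * r = r * x := (mul_inv_eq_iff_eq_mul.mp (inv_mul_eq_one.mp h4).symm)
    have h6 : x * e = e * x := by
      rw [h4] at h3
      exact (mul_inv_eq_iff_eq_mul.mp (mul_inv_eq_one.mp h3.symm).symm)
    have h7 : r ∈ zpowers ρ := by
      rcases b.fix_R d dr hxS hxV hr h5 with h | h
      · rw [h]; exact one_mem _
      · rw [h]; exact mem_zpowers ρ
    have h8 : e ∈ zpowers e₀ := by
      rcases b.fix_E d hxS hxV he h6 with h | h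
      · rw [h]; exact one_mem _
      · rw [h]; exact mem_zpowers e₀
    exact Subgroup.mul_mem _ (mem_sup_left h7) (mem_sup_right h8)
  have h2 := Subgroup.card_le_of_le hle
  rw [card_sup_comm hzz hdis, Nat.card_zpowers, Nat.card_zpowers,
    orderOf_eq_two dr.ne (b.elemR ρ dr.mem), orderOf_eq_two d.ne (b.bor.elem e₀ d.he₀)] at h2
  omega

theorem Base.beta (b : Base p K R E H) : A4EDefs.Beta K R E H 4 :=
  ⟨b.l2, b.sylR, b.sylE, b.bor, b.elemR, b.cardR.le, b.ex, fun _ _ hS hV hDS hD hc =>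
    b.uniq hS hV hDS hD (by rw [b.cardR] at hc; exact hc)⟩

theorem Base.four (b : Base p K R E H) : A4EInv.Four K R E H 4 := by
  refine A4EInv.four b.std b.beta ?_
  rcases A4EDelta.card_delta b.std b.beta with h | ⟨-, h⟩
  · exact h
  · rw [b.cardR] at h
    omega

end Cfsg.Agent.OddCyclic.A4EBase
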