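import Cfsg.Agent.OddCyclic.A4EInv
import Cfsg.Agent.S0024
import Cfsg.Agent.S0025

/-!
# S0342, component type, case A (`K = A₅`, copy with `A4EDefs.Beta`): A4 (v)

`C = C_G(E)`, `P ∈ Syl₂(C)` invariant under `H` and `N_S(H)`; `C_P(t) = V` for `1 ≠ t ∈ R`, `C_P(x) = R` for
`1 ≠ x ∈ H`.
-/

set_option autoImplicit false

namespace Cfsg.Agent.OddCyclic.A4EFive

open Subgroup
open scoped Pointwise
open Cfsg.Agent.LieExceptional Cfsg.Agent.LieExceptional.CITDefs
open Cfsg.Agent.LieExceptional.CITBasic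
open Cfsg.Agent.OddCyclic.T1Tools
open Cfsg.Agent.OddCyclic.CompBasic Cfsg.Agent.OddCyclic.CompStandard
open Cfsg.Agent.OddCyclic.CaseADefs hiding Beta
open Cfsg.Agent.OddCyclic.A4EDefs Cfsg.Agent.OddCyclic.CaseABase
open Cfsg.Agent.OddCyclic.CaseACount Cfsg.Agent.OddCyclic.A4EFour
open Cfsg.Agent.OddCyclic.A4EDelta Cfsg.Agent.OddCyclic.A4EKer

variable {G : Type*} [Group G] [Finite G] {p : ℕ} {K R E H : Subgroup G} {q : ℕ}

omit [Finite G] in
theorem exists_E_ne (b : Beta K R E H q) : ∃ e ∈ E, e ≠ 1 := by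
  by_contra hno
  push Not at hno
  have h4 := b.l2.four
  have h1 : E = ⊥ := (eq_bot_iff).mpr fun e he => by rw [Subgroup.mem_bot]; exact hno e he
  have h2 := b.bor.cardE
  rw [h1, Subgroup.card_bot] at h2
  omega

omit [Finite G] in
/-- an element of `H` commuting with `E` is trivial -/
theorem H_comm_E (b : Beta K R E H q) {x : G} (hx : x ∈ H)
    (hc : ∀ e ∈ E, x * e = e * x) : x = 1 := by
  obtain ⟨e, he, he1⟩ := exists_E_ne b
  exact H_inf b.l2 b.bor hx (b.bor.cent e he he1 x (b.bor.leH hx) (hc e he))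

theorem H_norm_C (b : Beta K R E H q) :
    H ≤ normalizer (centralizer (E : Set G) : Set G) := fun x hx =>
  (normalizer_le_centralizer E) (mem_normalizer_of_forall (b.bor.norm x hx))

/-- `|C_G(E)|` is prime to `q - 1` -/
theorem cop (h : Std p K) (b : Beta K R E H q) :
    (Nat.card H).Coprime (Nat.card (centralizer (E : Set G))) := by
  refine Nat.Coprime.symm (Nat.coprime_of_dvd ?_)
  intro r hr hrC hrH
  have hrf : Fact r.Prime := ⟨hr⟩
  have hr2 : r ≠ 2 := by
    rintro rfl
    rw [b.bor.cardH] at hrH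
    exact (Nat.not_even_iff_odd.mpr (odd_card_H b.l2)) (even_iff_two_dvd.mpr hrH)
  have hfH := finite_H b
  obtain ⟨x, hx⟩ := exists_prime_orderOf_dvd_card' r hrH
  have hxr : orderOf (x : G) = r := by rw [← hx, Subgroup.orderOf_coe]
  have h1 := mem_of_le_normalizer h.cyc
    (H := normalizer (centralizer (E : Set G) : Set G)) Subgroup.le_normalizer le_rfl hr hr2 hrC
    (H_norm_C b x.2) hxr
  have h2 := H_comm_E b x.2 (fun e he => (mem_centralizer_iff.mp h1 e he).symm)
  rw [h2, orderOf_one] at hxr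
  exact hr.one_lt.ne hxr

theorem normR_le (h : Std p K) (b : Beta K R E H q) :
    normalizer (R : Set G) ≤ normalizer (K : Set G) := by
  intro u hu
  obtain ⟨t, htR, ht2⟩ := exists_involution_of_ne_bot b.sylR.two (sylR_ne_bot h b.sylR)
  have h1 : u * t * u⁻¹ ∈ cj 1 (centralizer (K : Set G)) := by
    rw [cj_one]; exact b.sylR.le (forall_of_mem_normalizer hu t htR)
  have h2 := mem_of_cj h (by rw [orderOf_conj, ht2]) h1 (conj_mem_cj (b.sylR.le htR))
  rwa [inv_one, one_mul] at h2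

omit [Finite G] in
/-- `C_M(E) = YE` -/
theorem C_inf_M (b : Beta K R E H q) {x : G} (hx : x ∈ centralizer (E : Set G))
    (hM : x ∈ normalizer (K : Set G)) : ∃ y ∈ centralizer (K : Set G), ∃ e ∈ E, x = y * e :=
  b.l2.centE E b.sylE x hM fun e he => (mem_centralizer_iff.mp hx e he).symm

omit [Finite G] in
/-- an element of `YE` commuting with a nontrivial element of `H` is in `Y` -/
theorem mem_Y_of_comm (b : Beta K R E H q) {x y e : G} (hx : x ∈ H) (hx1 : x ≠ 1)
    (hy : y ∈ centralizer (K : Set G)) (he : e ∈ E) (hc : (y * e) * x = x * (y * e)) : e = 1 := by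
  by_contra he1
  have h1 : x * y = y * x := comm_KY x (b.bor.leH hx) y hy
  have h2 : y * (e * x) = y * (x * e) := by
    calc y * (e * x) = (y * e) * x := by group
      _ = x * (y * e) := hc
      _ = (x * y) * e := by group
      _ = (y * x) * e := by rw [h1]
      _ = y * (x * e) := by group
  have h3 := mul_left_cancel h2
  exact hx1 (H_inf b.l2 b.bor hx (b.bor.cent e he he1 x (b.bor.leH hx) h3.symm))

/-- `R` is a maximal 2-subgroup of `C_C(x)`, `1 ≠ x ∈ H` -/
theorem eq_R (h : Std p K) (b : Beta K R E H q) {U : Subgroup G} (hU : IsPGroup 2 U)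
    (hRU : R ≤ U) (hUC : U ≤ centralizer (E : Set G)) {x : G} (hx : x ∈ H) (hx1 : x ≠ 1)
    (hUx : ∀ u ∈ U, u * x = x * u) : U = R := by
  have hpf : Fact (Nat.Prime 2) := ⟨Nat.prime_two⟩
  refine Cfsg.Agent.Blocks.SylowIn.eq_of_normalizer_inf_le (p := 2) hU hRU ?_
  rintro u ⟨huN, huU⟩
  obtain ⟨y, hy, e, he, hye⟩ := C_inf_M b (hUC huU) (normR_le h b huN)
  have he1 : e = 1 := mem_Y_of_comm b hx hx1 hy he (by rw [← hye]; exact hUx u huU)
  rw [he1, mul_one] at hye
  rw [hye] at huN huU ⊢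
  exact mem_isSyl2 b.sylR hy (mem_of_pow_two hU huU) (forall_of_mem_normalizer huN)

/-! ### Sylow subgroups in ambient form -/

omit [Finite G] in
theorem ofSylow {C : Subgroup G} (Q : Sylow 2 C) :
    IsSyl2 C ((Q : Subgroup C).map C.subtype) := by
  refine ⟨Subgroup.map_subtype_le _, Q.isPGroup'.map _, fun Y hY hY2 hle => ?_⟩
  have h1 : (Q : Subgroup C) ≤ Y.subgroupOf C := by
    intro x hx
    exact Subgroup.mem_subgroupOf.mpr (hle ⟨x, hx, rfl⟩)
  have h2 : IsPGroup 2 (Y.subgroupOf C) := hY2.comap_subtype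
  have h3 := Q.is_maximal' h2 h1
  have h4 : (Y.subgroupOf C).map C.subtype = Y := by
    rw [Subgroup.subgroupOf_map_subtype, inf_eq_left.mpr hY]
  rw [← h4, h3]

omit [Finite G] in
theorem toSylow {C P : Subgroup G} (hP : IsSyl2 C P) :
    ∃ Q : Sylow 2 C, (Q : Subgroup C).map C.subtype = P := by
  have h2 : IsPGroup 2 (P.subgroupOf C) := hP.two.comap_subtype
  have h4 : (P.subgroupOf C).map C.subtype = P := by
    rw [Subgroup.subgroupOf_map_subtype, inf_eq_left.mpr hP.le]
  refine ⟨⟨P.subgroupOf C, h2, fun {Y} hY hle => ?_⟩, h4⟩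
  have h5 := hP.max (Y.map C.subtype) (Subgroup.map_subtype_le _) (hY.map _) (by
    rw [← h4]; exact Subgroup.map_mono hle)
  have h6 : Y.map C.subtype = (P.subgroupOf C).map C.subtype := by rw [h5, h4]
  exact Subgroup.map_injective C.subtype_injective h6

/-- orbit-stabilizer for conjugates -/
theorem card_conj (L P : Subgroup G) :
    Nat.card {X : Subgroup G | ∃ n ∈ L, X = cj n P} *
      Nat.card (L ⊓ normalizer (P : Set G) : Subgroup G) = Nat.card L := by
  classical
  set W : Subgroup L := (normalizer (P : Set G)).subgroupOf L with hW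
  have hiff : ∀ a c : L, cj (a : G) P = cj (c : G) P ↔ (a : G)⁻¹ * c ∈ normalizer (P : Set G) := by
    intro a c
    rw [← cj_eq_iff, cj_mul]
    constructor
    · intro h; rw [← h, cj_inv_cj]
    · intro h
      have := congrArg (cj (a : G)) h
      rw [cj_cj_inv] at this
      exact this.symm
  let f : L ⧸ W → {X : Subgroup G | ∃ n ∈ L, X = cj n P} :=
    Quotient.lift (fun n : L => (⟨cj (n : G) P, n, n.2, rfl⟩ :
      {X : Subgroup G | ∃ n ∈ L, X = cj n P})) (by
      intro a c hac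
      have h1 : a⁻¹ * c ∈ W := QuotientGroup.leftRel_apply.mp hac
      exact Subtype.ext ((hiff a c).mpr h1))
  have hf : Function.Bijective f := by
    constructor
    · intro a c
      refine Quotient.inductionOn₂ a c ?_
      intro a c hac
      have h1 : cj (a : G) P = cj (c : G) P := congrArg Subtype.val hac
      exact Quotient.sound (QuotientGroup.leftRel_apply.mpr ((hiff a c).mp h1))
    · rintro ⟨X, n, hn, rfl⟩
      exact ⟨Quotient.mk _ ⟨n, hn⟩, rfl⟩
  rw [← Nat.card_eq_of_bijective f hf]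
  have h1 := Subgroup.card_eq_card_quotient_mul_card_subgroup W
  have h2 : Nat.card W = Nat.card (L ⊓ normalizer (P : Set G) : Subgroup G) := by
    rw [hW, ← Subgroup.inf_subgroupOf_left]
    exact card_subgroupOf inf_le_left
  rw [h1, h2]

omit [Finite G] in
/-- a 2-group acting on an odd number of subgroups fixes one -/
theorem exists_fixed {W : Subgroup G} (hW : IsPGroup 2 W) {Ω : Set (Subgroup G)}
    (hodd : ¬ 2 ∣ Nat.card Ω) (hact : ∀ w ∈ W, ∀ X ∈ Ω, cj w X ∈ Ω) :
    ∃ X ∈ Ω, ∀ w ∈ W, cj w X = X := by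
  have hpf : Fact (Nat.Prime 2) := ⟨Nat.prime_two⟩
  let act : MulAction W Ω :=
    { smul := fun w X => ⟨cj (w : G) X.1, hact w w.2 X.1 X.2⟩
      one_smul := fun X => Subtype.ext (cj_one X.1)
      mul_smul := fun x y X => Subtype.ext (cj_mul (x : G) (y : G) X.1) }
  obtain ⟨X, hX⟩ := hW.nonempty_fixed_point_of_prime_not_dvd_card Ω hodd
  exact ⟨X.1, X.2, fun w hw => congrArg Subtype.val (hX ⟨w, hw⟩)⟩

/-- The data of A4 (v). -/
structure Five (K R E H : Subgroup G) (q : ℕ) (S P : Subgroup G) : Prop where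
  syl : IsSyl2 (centralizer (E : Set G)) P
  H_norm : ∀ x ∈ H, ∀ y ∈ P, x * y * x⁻¹ ∈ P
  S_norm : ∀ s ∈ S, s ∈ normalizer (H : Set G) → ∀ y ∈ P, s * y * s⁻¹ ∈ P
  V_le : R ⊔ E ≤ P
  inf_M : ∀ x ∈ P, x ∈ normalizer (K : Set G) → x ∈ R ⊔ E
  cent_t : ∀ t ∈ R, t ≠ 1 → ∀ x ∈ P, x * t = t * x → x ∈ R ⊔ E
  cent_tv : ∀ t ∈ R, t ≠ 1 → ∀ v ∈ E, ∀ x ∈ P, x * (t * v) = (t * v) * x → x ∈ R ⊔ E
  cent_H : ∀ x ∈ H, x ≠ 1 → ∀ y ∈ P, y * x = x * y → y ∈ R

omit [Finite G] in
theorem V_le_C (b : Beta K R E H q) : R ⊔ E ≤ centralizer (E : Set G) := by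
  intro v hv
  rw [mem_centralizer_iff]
  intro e he
  exact b.elemV.comm (mem_sup_right he) hv

/-- **(v)** -/
theorem exists_five (h : Std p K) (b : Beta K R E H q) {S : Subgroup G}
    (hS : IsSyl2 (normalizer (K : Set G)) S) (hV : R ⊔ E ≤ S) :
    ∃ P : Subgroup G, Five K R E H q S P := by
  have hpf : Fact (Nat.Prime 2) := ⟨Nat.prime_two⟩
  have hcyc := b.bor.cyc
  have hfH := finite_H b
  set C := centralizer (E : Set G) with hC
  have hcop := cop h b
  have hsolv : Group.IsSolvable H ∨ Group.IsSolvable C := Or.inl (by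
    have := IsCyclic.commGroup (α := H)
    infer_instance)
  have hRC : R ≤ C := le_sup_left.trans (V_le_C b)
  have hRH : H ≤ normalizer (R : Set G) := by
    intro x hx
    refine mem_normalizer_of_forall fun r hr => ?_
    rw [comm_KY x (b.bor.leH hx) r (b.sylR.le hr), mul_inv_cancel_right]
    exact hr
  -- an `H`-invariant Sylow 2-subgroup containing `R`
  obtain ⟨Q₀, hRQ, hHQ⟩ := Cfsg.Agent.S0025.result H C (H_norm_C b) hcop hsolv 2 R hRC b.sylR.two hRH
  set P₀ : Subgroup G := (Q₀ : Subgroup C).map C.subtype with hP₀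
  have hP₀s : IsSyl2 C P₀ := ofSylow Q₀
  set D : Subgroup G := C ⊓ centralizer (H : Set G) with hD
  let Ω : Set (Subgroup G) := {P | IsSyl2 C P ∧ H ≤ normalizer (P : Set G)}
  -- a nontrivial element of `H`
  obtain ⟨x₀, hx₀, hx₀1⟩ : ∃ x ∈ H, x ≠ 1 := by
    by_contra hno
    push Not at hno
    have h1 : H = ⊥ := (eq_bot_iff).mpr fun e he => by rw [Subgroup.mem_bot]; exact hno e he
    have h2 := b.bor.cardH
    have h4 := b.l2.four
    rw [h1, Subgroup.card_bot] at h2
    omega
  have hΩ : Ω = {X : Subgroup G | ∃ n ∈ D, X = cj n P₀} := by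
    ext P
    constructor
    · rintro ⟨hP, hHP⟩
      obtain ⟨Q, hQ⟩ := toSylow hP
      obtain ⟨c, hc, hcQ⟩ := Cfsg.Agent.S0024.result H C (H_norm_C b) hcop hsolv 2 Q₀ Q hHQ
        (by rw [hQ]; exact hHP)
      refine ⟨c, ⟨c.2, hc⟩, ?_⟩
      rw [← hQ, ← hcQ]
      ext y
      constructor
      · rintro ⟨z, hz, rfl⟩
        have hz' : z ∈ MulAut.conj c • (Q₀ : Subgroup C) := hz
        rw [Subgroup.mem_pointwise_smul_iff_inv_smul_mem] at hz'
        rw [mem_cj]
        refine ⟨_, hz', ?_⟩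
        simp [MulAut.smul_def, mul_assoc]
      · intro hy
        rw [mem_cj] at hy
        obtain ⟨z, hz, hzy⟩ := hy
        refine ⟨c * z * c⁻¹, ?_, ?_⟩
        · show c * z * c⁻¹ ∈ MulAut.conj c • (Q₀ : Subgroup C)
          rw [Subgroup.mem_pointwise_smul_iff_inv_smul_mem]
          have : (MulAut.conj c)⁻¹ • (c * z * c⁻¹) = z := by
            simp [MulAut.smul_def, mul_assoc]
          rw [this]; exact hz
        · have h1 : (z : G) = (c : G)⁻¹ * y * c := hzy
          simp only [Subgroup.coe_subtype, Subgroup.coe_mul, Subgroup.coe_inv, h1]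
          group
    · rintro ⟨n, hn, rfl⟩
      refine ⟨?_, ?_⟩
      · have h1 := isSyl2_cj n hP₀s
        have h2 : cj n C = C := cj_eq_iff.mpr (Subgroup.le_normalizer hn.1)
        rwa [h2] at h1
      · intro x hx
        have h2 : x = n * x * n⁻¹ := by
          have h3 : x * n = n * x := mem_centralizer_iff.mp hn.2 x hx
          rw [← h3]; group
        rw [← cj_normalizer, h2]
        exact conj_mem_cj (hHQ hx)
  -- `R` is a Sylow 2-subgroup of `D`
  have hRD : IsSyl2 D R := by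
    refine ⟨le_inf hRC ?_, b.sylR.two, fun U hU hU2 hle => ?_⟩
    · intro r hr
      rw [mem_centralizer_iff]
      intro x hx
      exact comm_KY x (b.bor.leH hx) r (b.sylR.le hr)
    · exact eq_R h b hU2 hle (hU.trans inf_le_left) hx₀ hx₀1
        (fun u hu => (mem_centralizer_iff.mp (hU hu).2 x₀ hx₀).symm)
  have hodd : ¬ 2 ∣ Nat.card Ω := by
    rw [hΩ]
    intro h2
    have h3 := card_conj D P₀
    obtain ⟨a, ha⟩ := IsPGroup.iff_card.mp b.sylR.two
    have h4 : R ≤ D ⊓ normalizer (P₀ : Set G) :=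
      le_inf hRD.le (fun r hr => Subgroup.le_normalizer (hRQ hr))
    have h5 : 2 ^ (a + 1) ∣ Nat.card D := by
      rw [← h3, pow_succ, mul_comm]
      exact mul_dvd_mul h2 (by rw [← ha]; exact Subgroup.card_dvd_of_le h4)
    have h6 := pow_le_of_dvd hRD h5
    rw [ha, pow_succ] at h6
    have : 0 < 2 ^ a := by positivity
    omega
  -- the 2-group `S ∩ N(H)`
  set W : Subgroup G := S ⊓ normalizer (H : Set G) with hW
  have hW2 : IsPGroup 2 W := hS.two.to_le inf_le_left
  have hWC : ∀ w ∈ W, cj w C = C := by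
    intro w hw
    rw [cj_eq_iff]
    exact normalizer_le_centralizer E (mem_normalizer_of_forall
      (S_norm_E b hS (le_sup_right.trans hV) w hw.1))
  obtain ⟨P, ⟨hP, hHP⟩, hfix⟩ := exists_fixed hW2 hodd (by
    rintro w hw P ⟨hP, hHP⟩
    refine ⟨?_, ?_⟩
    · have h1 := isSyl2_cj w hP
      rwa [hWC w hw] at h1
    · have h1 : cj w H = H := cj_eq_iff.mpr hw.2
      rw [← cj_normalizer, ← h1]
      exact cj_mono hHP)
  have hRP : R ≤ P := by
    intro r hr
    have hrW : r ∈ W := ⟨hV (mem_sup_left hr), by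
      refine mem_normalizer_of_forall fun x hx => ?_
      rw [← comm_KY x (b.bor.leH hx) r (b.sylR.le hr), mul_inv_cancel_right]
      exact hx⟩
    exact mem_isSyl2 hP (hRC hr) (mem_of_pow_two b.sylR.two hr)
      (forall_of_mem_normalizer (cj_eq_iff.mp (hfix r hrW)))
  have hEP : E ≤ P := by
    refine le_isSyl2 hP (le_sup_right.trans (V_le_C b)) (isPGroup_of_elem b.bor.elem)
      fun s hs e he => ?_
    have h1 : e * s = s * e := mem_centralizer_iff.mp (hP.le hs) e he
    rw [← h1, mul_inv_cancel_right]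
    exact he
  have hVP : R ⊔ E ≤ P := sup_le hRP hEP
  have hPY : P ⊓ centralizer (K : Set G) = R :=
    b.sylR.max _ inf_le_right (hP.two.to_le inf_le_left) (le_inf hRP b.sylR.le)
  have hinf : ∀ x ∈ P, x ∈ normalizer (K : Set G) → x ∈ R ⊔ E := by
    intro x hx hxM
    obtain ⟨y, hy, e, he, hye⟩ := C_inf_M b (hP.le hx) hxM
    have hyP : y ∈ P := by
      have : y = x * e⁻¹ := by rw [hye]; group
      rw [this]
      exact P.mul_mem hx (P.inv_mem (hEP he))
    have hyR : y ∈ R := by rw [← hPY]; exact ⟨hyP, hy⟩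
    rw [hye]
    exact Subgroup.mul_mem _ (mem_sup_left hyR) (mem_sup_right he)
  have hct : ∀ t ∈ R, t ≠ 1 → ∀ x ∈ P, x * t = t * x → x ∈ R ⊔ E := by
    intro t ht ht1 x hx hc
    refine hinf x hx (h.le_normalizer (orderOf_eq_two ht1 (b.elemR t ht)) (b.sylR.le ht) ?_)
    exact mem_centralizer_singleton_iff.mpr hc
  refine ⟨P, hP, fun x hx => forall_of_mem_normalizer (hHP hx), fun s hs hsH =>
    forall_of_mem_normalizer (cj_eq_iff.mp (hfix s ⟨hs, hsH⟩)), hVP, hinf, hct, ?_, ?_⟩
  · intro t ht ht1 v hv x hx hc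
    refine hct t ht ht1 x hx ?_
    have h1 : v * x = x * v := mem_centralizer_iff.mp (hP.le hx) v hv
    have h2 : (x * t) * v = (t * x) * v := by
      calc (x * t) * v = x * (t * v) := by group
        _ = t * v * x := hc
        _ = t * (v * x) := by group
        _ = t * (x * v) := by rw [h1]
        _ = (t * x) * v := by group
    exact mul_right_cancel h2
  · intro x hx hx1 y hy hc
    have h1 : P ⊓ centralizer ({x} : Set G) = R := by
      refine eq_R h b (hP.two.to_le inf_le_left) (le_inf hRP ?_) (inf_le_left.trans hP.le) hx hx1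
        (fun u hu => mem_centralizer_singleton_iff.mp hu.2)
      intro r hr
      exact mem_centralizer_singleton_iff.mpr
        (comm_KY x (b.bor.leH hx) r (b.sylR.le hr)).symm
    rw [← h1]
    exact ⟨hy, mem_centralizer_singleton_iff.mpr hc⟩

end Cfsg.Agent.OddCyclic.A4EFive
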