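import Cfsg.Agent.OddCyclic.A4EBase
import Cfsg.Agent.OddCyclic.A4EFive

/-!
# S0342, component type, case A4 with `K = A₅` and field automorphisms: the configuration

`P ∈ Syl₂(C(E))`, `|P| = 64`, `c ∈ N_S(H)` of order 4, `c² = ρ ∈ R`, `c` inverts `H`.
-/

set_option autoImplicit false

namespace Cfsg.Agent.OddCyclic.A4ECfg

open Subgroup
open Cfsg.Agent.LieExceptional Cfsg.Agent.LieExceptional.CITDefs
open Cfsg.Agent.LieExceptional.CITBasic
open Cfsg.Agent.OddCyclic.T1Tools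
open Cfsg.Agent.OddCyclic.CompBasic Cfsg.Agent.OddCyclic.CompStandard
open Cfsg.Agent.OddCyclic.CaseADefs Cfsg.Agent.OddCyclic.CaseABase
open Cfsg.Agent.OddCyclic.CaseACount
open Cfsg.Agent.OddCyclic.A4EBase

variable {G : Type*} [Group G] [Finite G] {p : ℕ} {K R E H : Subgroup G}

/-- the product of two elements fixing `a` and not centralising the four-group `A` centralises it -/
theorem mul_comm_four {A : Subgroup G} (h4 : Nat.card A = 4) (hA : Elem A) {a s s' : G}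
    (ha : a ∈ A) (ha1 : a ≠ 1) (hs : ∀ x ∈ A, s * x * s⁻¹ ∈ A) (hs' : ∀ x ∈ A, s' * x * s'⁻¹ ∈ A)
    (hsa : s * a = a * s) (hsa' : s' * a = a * s') {u u' : G} (hu : u ∈ A) (hsu : s * u ≠ u * s)
    (hu' : u' ∈ A) (hsu' : s' * u' ≠ u' * s') : ∀ e ∈ A, (s * s') * e = e * (s * s') := by
  intro e he
  by_cases h1 : e = 1
  · rw [h1, mul_one, one_mul]
  by_cases h2 : e = a
  · rw [h2]
    calc s * s' * a = s * (s' * a) := by group
      _ = (s * a) * s' := by rw [hsa']; group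
      _ = a * (s * s') := by rw [hsa]; group
  have hx1 : ∀ (x : G), x * a = a * x → ∀ w ∈ A, x * w ≠ w * x → x * e ≠ e * x := by
    intro x hxa w hw hxw hh
    rcases act_four_comm h4 hA ha ha1 hxa hw hxw he hh with h | h
    · exact h1 h
    · exact h2 h
  have h3 : s' * e * s'⁻¹ = e * a := act_four h4 hA ha ha1 hs' hsa' he (hx1 s' hsa' u' hu' hsu')
  have h4' : s * e * s⁻¹ = e * a := act_four h4 hA ha ha1 hs hsa he (hx1 s hsa u hu hsu)
  have h5 : (s * s') * e * (s * s')⁻¹ = e := by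
    calc (s * s') * e * (s * s')⁻¹ = s * (s' * e * s'⁻¹) * s⁻¹ := by group
      _ = (s * e * s⁻¹) * (s * a * s⁻¹) := by rw [h3]; group
      _ = (e * a) * a := by rw [h4', hsa]; group
      _ = e := by rw [mul_assoc, hA a ha, mul_one]
  exact mul_inv_eq_iff_eq_mul.mp h5

/-- `|T| ≤ 2 |C_T(A)|` for a 2-group `T` normalising a four-group `A` -/
theorem card_le_cent {A T : Subgroup G} (h4 : Nat.card A = 4) (hA : Elem A) (hT : IsPGroup 2 T)
    (hn : ∀ s ∈ T, ∀ x ∈ A, s * x * s⁻¹ ∈ A) :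
    Nat.card T ≤ 2 * Nat.card (T ⊓ centralizer (A : Set G) : Subgroup G) := by
  obtain ⟨a, ha, ha1, hfix⟩ := exists_fixed_four h4 hT hn
  by_cases hle : T ≤ centralizer (A : Set G)
  · rw [inf_eq_left.mpr hle]; omega
  obtain ⟨s, hs, hsC⟩ := SetLike.not_le_iff_exists.mp hle
  have hnc : ∀ x, x ∉ centralizer (A : Set G) → ∃ u ∈ A, x * u ≠ u * x := by
    intro x hx
    by_contra hno
    push Not at hno
    exact hx (mem_centralizer_iff.mpr fun u hu => (hno u hu).symm)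
  have h1 : (T ⊓ centralizer (A : Set G) : Subgroup G).relIndex T = 2 := by
    refine Subgroup.index_eq_two_iff'.mpr ⟨⟨s, hs⟩, fun c => ?_⟩
    rw [mem_subgroupOf, mem_subgroupOf]
    by_cases hc : (c : G) ∈ centralizer (A : Set G)
    · refine Or.inr ⟨⟨c.2, hc⟩, fun hh => hsC ?_⟩
      have h1 : s * c ∈ centralizer (A : Set G) := hh.2
      have : s = s * c * (c : G)⁻¹ := by group
      rw [this]
      exact Subgroup.mul_mem _ h1 (Subgroup.inv_mem _ hc)
    · refine Or.inl ⟨⟨T.mul_mem hs c.2, ?_⟩, fun hh => hc hh.2⟩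
      obtain ⟨u, hu, hsu⟩ := hnc s hsC
      obtain ⟨u', hu', hsu'⟩ := hnc c hc
      have := mul_comm_four h4 hA ha ha1 (hn s hs) (hn c c.2) (hfix s hs) (hfix c c.2) hu hsu
        hu' hsu'
      exact mem_centralizer_iff.mpr fun e he => (this e he).symm
  have h2 := T1Tools.card_mul_relIndex (inf_le_left : T ⊓ centralizer (A : Set G) ≤ T)
  rw [h1] at h2
  omega

/-- the order of a Sylow 2-subgroup of `N(E)` -/
theorem card_syl_le {E P T : Subgroup G} (h4 : Nat.card E = 4) (hE : Elem E)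
    (hP : IsSyl2 (centralizer (E : Set G)) P) (hT : IsPGroup 2 T)
    (hTE : T ≤ normalizer (E : Set G)) : Nat.card T ≤ 2 * Nat.card P := by
  have h1 := card_le_cent h4 hE hT (fun s hs => forall_of_mem_normalizer (hTE hs))
  have h2 := card_le_of_isSyl2 hP inf_le_right (hT.to_le (inf_le_left : T ⊓ centralizer
    (E : Set G) ≤ T))
  omega

theorem card_P (b : Base p K R E H) {S P : Subgroup G} {e₀ : G} (d : SData K R E S e₀)
    (f : A4EFive.Five K R E H 4 S P) : 64 ≤ Nat.card P := by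
  have F := b.four
  have h1 := A4EDelta.card_N b.std b.beta
  rw [F.card] at h1
  have hSN : S ≤ normalizer ((R ⊔ E : Subgroup G) : Set G) ⊓ normalizer (K : Set G) :=
    le_inf (A4EFour.S_le_N b.beta d.syl d.hV) d.syl.le
  have h2 := Subgroup.card_dvd_of_le hSN
  rw [b.card_S d] at h2
  have h3 : 2 ^ 7 ∣ Nat.card (normalizer (E : Set G)) := by
    refine dvd_trans ?_ (Subgroup.card_dvd_of_le F.N_le)
    rw [← h1]
    have : (2 : ℕ) ^ 7 = 4 * 32 := by norm_num
    rw [this]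
    exact mul_dvd_mul_left 4 h2
  obtain ⟨T, hT, -⟩ := exists_isSyl2 (normalizer (E : Set G)) ⊥ bot_le IsPGroup.of_bot
  have h4 := A4EDelta.pow_le_of_dvd hT h3
  have h5 := card_syl_le b.bor.cardE b.bor.elem f.syl hT.two hT.le
  omega

/-- an element of order 3 of `H` -/
theorem exists_h (b : Base p K R E H) : ∃ h ∈ H, h ≠ 1 ∧ h * h * h = 1 ∧
    ∀ x ∈ H, x = 1 ∨ x = h ∨ x = h⁻¹ := by
  have hpf : Fact (Nat.Prime 3) := ⟨Nat.prime_three⟩
  have h3 : Nat.card H = 3 := b.bor.cardH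
  obtain ⟨h, hh⟩ := exists_prime_orderOf_dvd_card' (G := H) 3 (by rw [h3])
  have hh' : orderOf (h : G) = 3 := by rw [← hh, Subgroup.orderOf_coe]
  refine ⟨h, h.2, ?_, ?_, ?_⟩
  · intro h1
    rw [h1, orderOf_one] at hh'
    omega
  · have := pow_orderOf_eq_one (h : G)
    rw [hh'] at this
    rw [← this, pow_succ, pow_two]
  · have h1 : zpowers (h : G) = H :=
      Subgroup.eq_of_le_of_card_ge (zpowers_le.mpr h.2) (by rw [Nat.card_zpowers, hh', h3])
    intro x hx
    rw [← h1] at hx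
    obtain ⟨k, hk⟩ := hx
    have hk' : (h : G) ^ k = x := hk
    have hmod : x = (h : G) ^ (k % 3) := by
      rw [← hk', ← zpow_mod_orderOf, hh']
      rfl
    have h5 : k % 3 = 0 ∨ k % 3 = 1 ∨ k % 3 = 2 := by omega
    rcases h5 with h5 | h5 | h5
    · left; rw [hmod, h5, zpow_zero]
    · right; left; rw [hmod, h5, zpow_one]
    · right; right
      rw [hmod, h5]
      have h6 : (h : G) ^ (3 : ℤ) = 1 := by
        have := pow_orderOf_eq_one (h : G)
        rw [hh'] at this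
        exact_mod_cast this
      have h7 : (h : G) ^ (2 : ℤ) * h = 1 := by
        rw [← h6]
        group
      exact eq_inv_of_mul_eq_one_left h7

theorem lay (b : Base p K R E H) {S P : Subgroup G} {e₀ h : G} (d : SData K R E S e₀)
    (f : A4EFive.Five K R E H 4 S P) (hh : h ∈ H) (h1 : h ≠ 1) (h3 : h * h * h = 1) :
    A4ELayer.Lay P (R ⊔ E) R E h where
  two := f.syl.two
  VP := f.V_le
  elemR := b.elemR
  elemE := b.bor.elem
  cardR := b.cardR
  cardE := b.bor.cardE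
  memV := fun v => b.mem_V
  EP := fun e he x hx => (mem_centralizer_iff.mp (f.syl.le hx) e he)
  h3 := h3
  hP := f.H_norm h hh
  hE := b.bor.norm h hh
  hR := fun r hr => comm_KY h (b.bor.leH hh) r (b.sylR.le hr)
  fpE := fun e he hc => by
    by_contra he1
    exact h1 (H_inf b.l2 b.bor hh (b.bor.cent e he he1 h (b.bor.leH hh) hc))
  fix := fun x hx hc => f.cent_H h hh h1 x hx hc.symm
  cent := f.cent_t
  ne := fun hh => by
    have h4 := card_P b d f
    rw [← hh, b.card_V] at h4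
    omega

/-- The configuration. -/
structure Cfg (p : ℕ) (K R E H S P : Subgroup G) (e₀ ρ h c : G) : Prop where
  b : Base p K R E H
  d : SData K R E S e₀
  dr : RData R S ρ
  f : A4EFive.Five K R E H 4 S P
  L : A4ELayer.Lay P (R ⊔ E) R E h
  hH : h ∈ H
  h1 : h ≠ 1
  cS : c ∈ S
  cV : c ∉ R ⊔ E
  cc : c * c = ρ
  ch : c * h * c⁻¹ = h⁻¹
  Heq : ∀ x ∈ H, x = 1 ∨ x = h ∨ x = h⁻¹

/-- an element of `S - V` normalising `H` -/
theorem exists_c0 (b : Base p K R E H) {S P : Subgroup G} {e₀ h : G} (d : SData K R E S e₀)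
    (L : A4ELayer.Lay P (R ⊔ E) R E h) (hh : h ∈ H) (h1 : h ≠ 1)
    (hH : ∀ x ∈ H, x = 1 ∨ x = h ∨ x = h⁻¹) : ∃ c ∈ S, c ∉ R ⊔ E ∧ c * h * c⁻¹ = h⁻¹ := by
  obtain ⟨x, hx, hxV⟩ := b.exists_outer d
  have hxE := b.S_norm_E d.syl (le_sup_right.trans d.hV)
  have hxM := d.syl.le hx
  have hK : x * h * x⁻¹ ∈ K := forall_of_mem_normalizer hxM h (b.bor.leH hh)
  have hn : ∀ e ∈ E, (x * h * x⁻¹) * e * (x * h * x⁻¹)⁻¹ ∈ E := by
    intro e he
    have e1 : (x * h * x⁻¹) * e * (x * h * x⁻¹)⁻¹ = x * (h * (x⁻¹ * e * x⁻¹⁻¹) * h⁻¹) * x⁻¹ := by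
      group
    rw [e1]
    exact hxE x hx _ (b.bor.norm h hh _ (hxE _ (S.inv_mem hx) e he))
  obtain ⟨e, he, h', hh', heq⟩ := b.bor.nK _ hK hn
  have h3 : (x * h * x⁻¹) * (x * h * x⁻¹) * (x * h * x⁻¹) = 1 := by
    calc (x * h * x⁻¹) * (x * h * x⁻¹) * (x * h * x⁻¹) = x * (h * h * h) * x⁻¹ := by group
      _ = 1 := by rw [L.h3]; group
  have hh'1 : h' ≠ 1 := by
    rintro rfl
    rw [mul_one] at heq
    rw [heq, b.bor.elem e he, one_mul] at h3
    rw [h3] at heq
    apply h1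
    have : h = x⁻¹ * (x * h * x⁻¹) * x := by group
    rw [this, heq]; group
  have hh3 : h' * h' * h' = 1 := by
    rcases hH h' hh' with h6 | h6 | h6
    · rw [h6]; group
    · rw [h6]; exact L.h3
    · rw [h6]
      calc h⁻¹ * h⁻¹ * h⁻¹ = (h * h * h)⁻¹ := by group
        _ = 1 := by rw [L.h3, inv_one]
  have he1 := b.bor.norm h' hh' e he
  have he2 := b.bor.norm h' hh' _ he1
  have he3 : h' * (h' * (h' * e * h'⁻¹) * h'⁻¹) * h'⁻¹ = e := by
    calc h' * (h' * (h' * e * h'⁻¹) * h'⁻¹) * h'⁻¹ = (h' * h' * h') * e * (h' * h' * h')⁻¹ := by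
          group
      _ = e := by rw [hh3]; group
  set e1 := h' * e * h'⁻¹ with he1'
  set e2 := h' * e1 * h'⁻¹ with he2'
  -- the norm of `e` under `h'` is trivial
  have hnorm : e * e1 * e2 = 1 := by
    have hnE : e * e1 * e2 ∈ E := E.mul_mem (E.mul_mem he he1) he2
    have h5 : h' * (e * e1 * e2) * h'⁻¹ = e * e1 * e2 := by
      calc h' * (e * e1 * e2) * h'⁻¹ = (h' * e * h'⁻¹) * (h' * e1 * h'⁻¹) * (h' * e2 * h'⁻¹) := by
            group
        _ = e1 * e2 * e := by rw [← he1', ← he2', he3]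
        _ = e * (e1 * e2) := by rw [b.bor.elem.comm (E.mul_mem he1 he2) he]
        _ = e * e1 * e2 := by group
    have h6 : h' * (e * e1 * e2) = (e * e1 * e2) * h' := mul_inv_eq_iff_eq_mul.mp h5
    apply L.fpE _ hnE
    rcases hH h' hh' with h7 | h7 | h7
    · exact absurd h7 hh'1
    · rw [h7] at h6; exact h6
    · rw [h7] at h6
      have h8 : Commute h⁻¹ (e * e1 * e2) := h6
      exact (Commute.inv_left_iff.mp h8)
  -- the corrected element
  have hE : E ≤ S := le_sup_right.trans d.hV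
  set c := e1⁻¹ * x with hc
  have hcS : c ∈ S := S.mul_mem (S.inv_mem (hE he1)) hx
  have hcV : c ∉ R ⊔ E := by
    intro hh
    apply hxV
    have : x = e1 * c := by rw [hc]; group
    rw [this]
    exact Subgroup.mul_mem _ (mem_sup_right he1) hh
  have hch : c * h * c⁻¹ = h' := by
    have h5 : e1⁻¹ * e * e2 = 1 := by
      have h6 : e1⁻¹ = e1 := inv_eq_of_mul_eq_one_left (b.bor.elem e1 he1)
      rw [h6, b.bor.elem.comm he1 he]
      exact hnorm
    calc c * h * c⁻¹ = e1⁻¹ * (x * h * x⁻¹) * e1 := by rw [hc]; group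
      _ = e1⁻¹ * (e * h') * e1 := by rw [heq]
      _ = (e1⁻¹ * e * (h' * e1 * h'⁻¹)) * h' := by group
      _ = h' := by rw [← he2', h5, one_mul]
  refine ⟨c, hcS, hcV, ?_⟩
  rw [hch]
  rcases hH h' hh' with h7 | h7 | h7
  · exact absurd h7 hh'1
  · exfalso
    -- `c` commutes with `h`
    rw [h7] at hch
    have h8 : c * h = h * c := mul_inv_eq_iff_eq_mul.mp hch
    have h9 : c * (h * e₀ * h⁻¹) = (h * e₀ * h⁻¹) * c := by
      have h10 := d.fix c hcS
      have h11 : Commute c h := h8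
      exact (h11.mul_right h10).mul_right h11.inv_right
    rcases b.fix_E d hcS hcV (b.bor.norm h hh e₀ d.he₀) h9 with h12 | h12
    · apply d.ne
      have : e₀ = h⁻¹ * (h * e₀ * h⁻¹) * h := by group
      rw [this, h12]; group
    · exact d.ne (L.fpE e₀ d.he₀ (mul_inv_eq_iff_eq_mul.mp h12))
  · exact h7

/-- the configuration exists -/
theorem exists_cfg (b : Base p K R E H) : ∃ (S P : Subgroup G) (e₀ ρ h c : G),
    Cfg p K R E H S P e₀ ρ h c := by
  obtain ⟨S, hS, hVS⟩ := exists_isSyl2 (normalizer (K : Set G)) (R ⊔ E) b.V_le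
    (isPGroup_of_elem b.elemV)
  obtain ⟨e₀, d⟩ := b.sdata hS hVS
  obtain ⟨ρ, dr⟩ := b.rdata d
  obtain ⟨P, f⟩ := A4EFive.exists_five b.std b.beta hS hVS
  obtain ⟨h, hh, h1, h3, hH⟩ := exists_h b
  have L := lay b d f hh h1 h3
  obtain ⟨c, hcS, hcV, hch⟩ := exists_c0 b d L hh h1 hH
  -- `c² ∈ R`
  have hccV := b.mul_mem_V d hcS hcV hcS hcV
  have hcch : h * (c * c) = (c * c) * h := by
    have h4 : c * h⁻¹ * c⁻¹ = h := by
      calc c * h⁻¹ * c⁻¹ = (c * h * c⁻¹)⁻¹ := by group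
        _ = h := by rw [hch, inv_inv]
    have h5 : (c * c) * h * (c * c)⁻¹ = h := by
      calc (c * c) * h * (c * c)⁻¹ = c * (c * h * c⁻¹) * c⁻¹ := by group
        _ = h := by rw [hch, h4]
    exact (mul_inv_eq_iff_eq_mul.mp h5).symm
  have hccR : c * c ∈ R := L.fix _ (f.V_le hccV) hcch
  rcases b.fix_R d dr hcS hcV hccR (by group) with h4 | h4
  · -- `c² = 1`
    obtain ⟨t, ht, hct⟩ := b.not_comm_R d hcS hcV
    have hRn := b.S_norm_R d.syl (le_sup_left.trans d.hV)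
    have h5 : c * t * c⁻¹ = t * ρ :=
      act_four b.cardR b.elemR dr.mem dr.ne (hRn c hcS) (dr.fix c hcS) ht hct
    have htS : t ∈ S := d.hV (mem_sup_left ht)
    refine ⟨S, P, e₀, ρ, h, t * c, b, d, dr, f, L, hh, h1, S.mul_mem htS hcS, ?_, ?_, ?_, hH⟩
    · intro hh'
      apply hcV
      have : c = t⁻¹ * (t * c) := by group
      rw [this]
      exact Subgroup.mul_mem _ (Subgroup.inv_mem _ (mem_sup_left ht)) hh'
    · calc t * c * (t * c) = t * (c * t * c⁻¹) * (c * c) := by group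
        _ = (t * t) * ρ := by rw [h5, h4]; group
        _ = ρ := by rw [b.elemR t ht, one_mul]
    · have h6 := L.hR t ht
      calc t * c * h * (t * c)⁻¹ = t * (c * h * c⁻¹) * t⁻¹ := by group
        _ = (h * t⁻¹)⁻¹ * t⁻¹ := by rw [hch]; group
        _ = (t⁻¹ * h)⁻¹ * t⁻¹ := by rw [L.hR _ (R.inv_mem ht)]
        _ = h⁻¹ := by group
  · exact ⟨S, P, e₀, ρ, h, c, b, d, dr, f, L, hh, h1, hcS, hcV, h4, hch, hH⟩

end Cfsg.Agent.OddCyclic.A4ECfg
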