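import Cfsg.Agent.OddCyclic.CaseADefs

/-!
# S0342, component type, case A4 with `K = A₅` and field automorphisms: the data

The structure `Beta` of `CaseADefs` with the uniqueness of `V = R × E` instead of `Big K q`.
-/

set_option autoImplicit false

namespace Cfsg.Agent.OddCyclic.A4EDefs

open Subgroup
open Cfsg.Agent.LieExceptional Cfsg.Agent.LieExceptional.CITDefs
open Cfsg.Agent.OddCyclic.CompStandard
open Cfsg.Agent.OddCyclic.CaseADefs hiding Beta

variable {G : Type*} [Group G]

/-- `R ∈ Syl₂(Y)`, `E ∈ Syl₂(K)`, `H` a complement, `V = R × E`; `R` is elementary abelian of order at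
most `q`, some conjugate of `R` by an element outside `M` lies in `V`, and `V` is the only elementary
abelian subgroup of its order in the Sylow 2-subgroups of `M` containing it. -/
structure Beta (K R E H : Subgroup G) (q : ℕ) : Prop where
  l2 : L2K K q
  sylR : IsSyl2 (centralizer (K : Set G)) R
  sylE : IsSyl2 K E
  bor : Borel K E H q
  elemR : Elem R
  cardR : Nat.card R ≤ q
  ex : ∃ g : G, g ∉ normalizer (K : Set G) ∧ cj g R ≤ R ⊔ E
  uniq : ∀ S D : Subgroup G, IsSyl2 (normalizer (K : Set G)) S → R ⊔ E ≤ S → D ≤ S → Elem D →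
    Nat.card R * q ≤ Nat.card D → D = R ⊔ E

end Cfsg.Agent.OddCyclic.A4EDefs
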