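import Cfsg.Agent.OddCyclic.CaseACount
import Cfsg.Agent.OddCyclic.A4EDefs

/-!
# S0342, component type, case A (`K = A₅`, copy with `A4EDefs.Beta`): `V = R × E`, A4 (i)

`V = R × E`, `N = N_G(V)`, `Δ = {Rⁿ : n ∈ N}`.
-/

set_option autoImplicit false

namespace Cfsg.Agent.OddCyclic.A4EFour

open Subgroup
open Cfsg.Agent.LieExceptional Cfsg.Agent.LieExceptional.CITDefs
open Cfsg.Agent.LieExceptional.CITBasic
open Cfsg.Agent.OddCyclic.T1Tools
open Cfsg.Agent.OddCyclic.CompBasic Cfsg.Agent.OddCyclic.CompStandard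
open Cfsg.Agent.OddCyclic.CaseADefs hiding Beta
open Cfsg.Agent.OddCyclic.A4EDefs Cfsg.Agent.OddCyclic.CaseABase
open Cfsg.Agent.OddCyclic.CaseACount

variable {G : Type*} [Group G] {p : ℕ} {K R E H : Subgroup G} {q : ℕ}

/-- the conjugates of `R` under `N_G(V)` -/
def Delta (R V : Subgroup G) : Set (Subgroup G) :=
  {X | ∃ n ∈ normalizer (V : Set G), X = cj n R}

section

theorem _root_.Cfsg.Agent.OddCyclic.A4EDefs.Beta.comm (b : Beta K R E H q) :
    ∀ r ∈ R, ∀ e ∈ E, r * e = e * r :=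
  fun r hr e he => (comm_KY e (b.sylE.le he) r (b.sylR.le hr)).symm

theorem _root_.Cfsg.Agent.OddCyclic.A4EDefs.Beta.mem_V (b : Beta K R E H q) {v : G} :
    v ∈ R ⊔ E ↔ ∃ r ∈ R, ∃ e ∈ E, v = r * e := mem_sup_comm b.comm

theorem _root_.Cfsg.Agent.OddCyclic.A4EDefs.Beta.inf (b : Beta K R E H q) {x : G} (hR : x ∈ R) (hE : x ∈ E) :
    x = 1 := by
  have h1 : x ∈ K ⊓ centralizer (K : Set G) := ⟨b.sylE.le hE, b.sylR.le hR⟩
  rwa [b.l2.inf, mem_bot] at h1

theorem _root_.Cfsg.Agent.OddCyclic.A4EDefs.Beta.elemV (b : Beta K R E H q) : Elem (R ⊔ E : Subgroup G) := by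
  intro v hv
  obtain ⟨r, hr, e, he, rfl⟩ := b.mem_V.mp hv
  calc r * e * (r * e) = r * (e * r) * e := by group
    _ = r * (r * e) * e := by rw [b.comm r hr e he]
    _ = (r * r) * (e * e) := by group
    _ = 1 := by rw [b.elemR r hr, b.bor.elem e he, one_mul]

theorem _root_.Cfsg.Agent.OddCyclic.A4EDefs.Beta.mem_R (b : Beta K R E H q) {v : G} (hv : v ∈ R ⊔ E)
    (hY : v ∈ centralizer (K : Set G)) : v ∈ R := by
  obtain ⟨r, hr, e, he, rfl⟩ := b.mem_V.mp hv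
  have h1 : e ∈ centralizer (K : Set G) := by
    have h2 := Subgroup.mul_mem _ (Subgroup.inv_mem _ (b.sylR.le hr)) hY
    rwa [inv_mul_cancel_left] at h2
  have h2 : e ∈ K ⊓ centralizer (K : Set G) := ⟨b.sylE.le he, h1⟩
  rw [b.l2.inf, mem_bot] at h2
  rw [h2, mul_one]; exact hr

theorem _root_.Cfsg.Agent.OddCyclic.A4EDefs.Beta.mem_E (b : Beta K R E H q) {v : G} (hv : v ∈ R ⊔ E)
    (hK : v ∈ K) : v ∈ E := by
  obtain ⟨r, hr, e, he, rfl⟩ := b.mem_V.mp hv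
  have h1 : r ∈ K := by
    have h2 := Subgroup.mul_mem _ hK (Subgroup.inv_mem _ (b.sylE.le he))
    rwa [mul_inv_cancel_right] at h2
  have h2 : r ∈ K ⊓ centralizer (K : Set G) := ⟨h1, b.sylR.le hr⟩
  rw [b.l2.inf, mem_bot] at h2
  rw [h2, one_mul]; exact he

theorem _root_.Cfsg.Agent.OddCyclic.A4EDefs.Beta.V_le (b : Beta K R E H q) :
    R ⊔ E ≤ normalizer (K : Set G) :=
  sup_le (b.sylR.le.trans (centralizer_le_normalizer _))
    (b.sylE.le.trans Subgroup.le_normalizer)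

theorem _root_.Cfsg.Agent.OddCyclic.A4EDefs.Beta.H_le (b : Beta K R E H q) : ∀ h ∈ H, ∀ v ∈ R ⊔ E, h * v * h⁻¹ ∈ R ⊔ E := by
  intro h hh v hv
  obtain ⟨r, hr, e, he, rfl⟩ := b.mem_V.mp hv
  have h1 : h * r = r * h := comm_KY h (b.bor.leH hh) r (b.sylR.le hr)
  have e1 : h * (r * e) * h⁻¹ = r * (h * e * h⁻¹) := by
    calc h * (r * e) * h⁻¹ = (h * r) * e * h⁻¹ := by group
      _ = (r * h) * e * h⁻¹ := by rw [h1]
      _ = r * (h * e * h⁻¹) := by group
  rw [e1]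
  exact Subgroup.mul_mem _ (mem_sup_left hr) (mem_sup_right (b.bor.norm h hh e he))

variable [Finite G]

theorem _root_.Cfsg.Agent.OddCyclic.A4EDefs.Beta.card_V (b : Beta K R E H q) :
    Nat.card (R ⊔ E : Subgroup G) = Nat.card R * q := by
  rw [card_sup_comm b.comm, b.bor.cardE]
  rw [eq_bot_iff]
  exact fun x hx => b.inf hx.1 hx.2

theorem H_le_N (b : Beta K R E H q) : H ≤ normalizer ((R ⊔ E : Subgroup G) : Set G) :=
  fun _ hh => mem_normalizer_of_forall (b.H_le _ hh)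

theorem card_R_two (h : Std p K) (b : Beta K R E H q) : 2 ≤ Nat.card R := by
  have h1 : Nat.card R ≠ 1 := fun hh => sylR_ne_bot h b.sylR (Subgroup.card_eq_one.mp hh)
  have h2 : 0 < Nat.card R := Nat.card_pos
  omega

/-- `N ∩ M` normalizes `R` -/
theorem cj_R (b : Beta K R E H q) {n : G} (hn : n ∈ normalizer ((R ⊔ E : Subgroup G) : Set G))
    (hM : n ∈ normalizer (K : Set G)) : cj n R = R := by
  rw [cj_eq_iff]
  exact mem_normalizer_of_forall fun x hx => b.mem_R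
    (forall_of_mem_normalizer hn x (mem_sup_left hx)) (normal_cent K n hM x (b.sylR.le hx))

/-- `N ∩ M` normalizes `E` -/
theorem cj_E (b : Beta K R E H q) {n : G} (hn : n ∈ normalizer ((R ⊔ E : Subgroup G) : Set G))
    (hM : n ∈ normalizer (K : Set G)) : cj n E = E := by
  rw [cj_eq_iff]
  exact mem_normalizer_of_forall fun x hx => b.mem_E
    (forall_of_mem_normalizer hn x (mem_sup_right hx)) (forall_of_mem_normalizer hM x
      (b.sylE.le hx))

theorem cj_eq_cj_iff (h : Std p K) (b : Beta K R E H q) {n n' : G}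
    (hn : n ∈ normalizer ((R ⊔ E : Subgroup G) : Set G))
    (hn' : n' ∈ normalizer ((R ⊔ E : Subgroup G) : Set G)) :
    cj n R = cj n' R ↔ n⁻¹ * n' ∈ normalizer (K : Set G) := by
  constructor
  · intro heq
    obtain ⟨t, htR, ht2⟩ := exists_involution_of_ne_bot b.sylR.two (sylR_ne_bot h b.sylR)
    have h1 : n * t * n⁻¹ ∈ cj n R := conj_mem_cj htR
    have h2 : n * t * n⁻¹ ∈ cj n' R := by rw [← heq]; exact h1
    exact mem_of_cj h (by rw [orderOf_conj, ht2]) (cj_mono b.sylR.le h1) (cj_mono b.sylR.le h2)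
  · intro hM
    have h1 := cj_R b (Subgroup.mul_mem _ (Subgroup.inv_mem _ hn) hn') hM
    calc cj n R = cj n (cj (n⁻¹ * n') R) := by rw [h1]
      _ = cj n' R := by rw [← cj_mul, mul_inv_cancel_left]

theorem cj_eq_R_iff (h : Std p K) (b : Beta K R E H q) {n : G}
    (hn : n ∈ normalizer ((R ⊔ E : Subgroup G) : Set G)) :
    cj n R = R ↔ n ∈ normalizer (K : Set G) := by
  have h1 := cj_eq_cj_iff h b (Subgroup.one_mem _) hn
  rw [cj_one, inv_one, one_mul] at h1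
  rw [← h1]
  exact eq_comm

/-- `Δ` is a TI-set -/
theorem delta_ti (h : Std p K) (b : Beta K R E H q) {X X' : Subgroup G}
    (hX : X ∈ Delta R (R ⊔ E)) (hX' : X' ∈ Delta R (R ⊔ E)) {s : G} (hs : s ≠ 1) (h1 : s ∈ X)
    (h2 : s ∈ X') : X = X' := by
  obtain ⟨n, hn, rfl⟩ := hX
  obtain ⟨n', hn', rfl⟩ := hX'
  have ho : orderOf s = 2 := orderOf_eq_two hs (elem_cj b.elemR s h1)
  rw [cj_eq_cj_iff h b hn hn']
  exact mem_of_cj h ho (cj_mono b.sylR.le h1) (cj_mono b.sylR.le h2)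

omit [Finite G] in
theorem R_mem_delta : R ∈ Delta R (R ⊔ E) := ⟨1, Subgroup.one_mem _, (cj_one R).symm⟩

omit [Finite G] in
theorem cj_mem_delta {X : Subgroup G} {V : Subgroup G} (hX : X ∈ Delta R V) {n : G}
    (hn : n ∈ normalizer (V : Set G)) : cj n X ∈ Delta R V := by
  obtain ⟨m, hm, rfl⟩ := hX
  exact ⟨n * m, Subgroup.mul_mem _ hn hm, (cj_mul _ _ _).symm⟩

omit [Finite G] in
theorem le_of_mem_delta {X : Subgroup G} (hX : X ∈ Delta R (R ⊔ E)) : X ≤ R ⊔ E := by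
  obtain ⟨m, hm, rfl⟩ := hX
  rintro _ ⟨x, hx, rfl⟩
  exact forall_of_mem_normalizer hm x (mem_sup_left hx)

omit [Finite G] in
theorem card_of_mem_delta {X V : Subgroup G} (hX : X ∈ Delta R V) : Nat.card X = Nat.card R := by
  obtain ⟨m, -, rfl⟩ := hX
  exact card_cj m R

/-! ### uniqueness of `V` -/

omit [Finite G] in
theorem S_inf_Y (b : Beta K R E H q) {S : Subgroup G} (hS : IsSyl2 (normalizer (K : Set G)) S)
    (hR : R ≤ S) : S ⊓ centralizer (K : Set G) = R :=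
  b.sylR.max _ inf_le_right (hS.two.to_le inf_le_left) (le_inf hR b.sylR.le)

omit [Finite G] in
theorem S_inf_K (b : Beta K R E H q) {S : Subgroup G} (hS : IsSyl2 (normalizer (K : Set G)) S)
    (hE : E ≤ S) : S ⊓ K = E :=
  b.sylE.max _ inf_le_right (hS.two.to_le inf_le_left) (le_inf hE b.sylE.le)

omit [Finite G] in
theorem S_norm_E (b : Beta K R E H q) {S : Subgroup G} (hS : IsSyl2 (normalizer (K : Set G)) S)
    (hE : E ≤ S) : ∀ s ∈ S, ∀ e ∈ E, s * e * s⁻¹ ∈ E := by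
  intro s hs e he
  rw [← S_inf_K b hS hE]
  exact Subgroup.mem_inf.mpr ⟨Subgroup.mul_mem _ (Subgroup.mul_mem _ hs (hE he))
    (Subgroup.inv_mem _ hs), forall_of_mem_normalizer (hS.le hs) e (b.sylE.le he)⟩

omit [Finite G] in
theorem S_norm_R (b : Beta K R E H q) {S : Subgroup G} (hS : IsSyl2 (normalizer (K : Set G)) S)
    (hR : R ≤ S) : ∀ s ∈ S, ∀ e ∈ R, s * e * s⁻¹ ∈ R := by
  intro s hs e he
  rw [← S_inf_Y b hS hR]
  exact Subgroup.mem_inf.mpr ⟨Subgroup.mul_mem _ (Subgroup.mul_mem _ hs (hR he))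
    (Subgroup.inv_mem _ hs), normal_cent K s (hS.le hs) e (b.sylR.le he)⟩

/-- `S ≤ N` -/
theorem S_le_N (b : Beta K R E H q) {S : Subgroup G} (hS : IsSyl2 (normalizer (K : Set G)) S)
    (hV : R ⊔ E ≤ S) : S ≤ normalizer ((R ⊔ E : Subgroup G) : Set G) := by
  intro s hs
  refine mem_normalizer_of_forall fun v hv => ?_
  obtain ⟨r, hr, e, he, rfl⟩ := b.mem_V.mp hv
  have e1 : s * (r * e) * s⁻¹ = (s * r * s⁻¹) * (s * e * s⁻¹) := by group
  rw [e1]
  exact Subgroup.mul_mem _ (mem_sup_left (S_norm_R b hS (le_sup_left.trans hV) s hs r hr))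
    (mem_sup_right (S_norm_E b hS (le_sup_right.trans hV) s hs e he))

/-- `S ∩ YK = R × E` -/
theorem S_inf_KY (b : Beta K R E H q) {S : Subgroup G} (hS : IsSyl2 (normalizer (K : Set G)) S)
    (hV : R ⊔ E ≤ S) {x : G} (hx : x ∈ S) (hxKY : x ∈ K ⊔ centralizer (K : Set G)) :
    x ∈ R ⊔ E := by
  obtain ⟨k, hk, y, hy, hxk⟩ := mem_KY.mp hxKY
  obtain ⟨n, hn⟩ := mem_of_pow_two hS.two hx
  have hn' : (k * y) ^ 2 ^ n = 1 := by rw [← hxk]; exact hn
  obtain ⟨hk2, -⟩ := pow_eq_one_KY b.l2.inf hk hy hn'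
  have hkE : k ∈ E := by
    refine mem_isSyl2 b.sylE hk ⟨n, hk2⟩ fun e he => ?_
    have h3 := S_norm_E b hS (le_sup_right.trans hV) x hx e he
    have h4 : y * e = e * y := (comm_KY e (b.sylE.le he) y hy).symm
    have e1 : x * e * x⁻¹ = k * e * k⁻¹ := by
      rw [hxk]
      calc k * y * e * (k * y)⁻¹ = k * (y * e) * y⁻¹ * k⁻¹ := by group
        _ = k * (e * y) * y⁻¹ * k⁻¹ := by rw [h4]
        _ = k * e * k⁻¹ := by group
    rwa [e1] at h3
  have hyR : y ∈ R := by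
    rw [← S_inf_Y b hS (le_sup_left.trans hV)]
    refine ⟨?_, hy⟩
    have e1 : y = k⁻¹ * x := by rw [hxk]; group
    rw [e1]
    exact S.mul_mem (S.inv_mem (hV (mem_sup_right hkE))) hx
  rw [hxk]
  exact Subgroup.mul_mem _ (mem_sup_right hkE) (mem_sup_left hyR)

omit [Finite G] in
/-- **(U)** `V` is the only elementary abelian subgroup of its order in `S`. -/
theorem unique_V (b : Beta K R E H q) {S D : Subgroup G}
    (hS : IsSyl2 (normalizer (K : Set G)) S) (hV : R ⊔ E ≤ S) (hDS : D ≤ S) (hD : Elem D)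
    (hc : Nat.card R * q ≤ Nat.card D) : D = R ⊔ E := b.uniq S D hS hV hDS hD hc

/-- **(i)** -/
theorem exists_n (h : Std p K) (b : Beta K R E H q) :
    ∃ n ∈ normalizer ((R ⊔ E : Subgroup G) : Set G), n ∉ normalizer (K : Set G) := by
  obtain ⟨g, hg, hgR⟩ := b.ex
  obtain ⟨S, hS, hVS⟩ := exists_isSyl2 (normalizer (K : Set G)) (R ⊔ E) b.V_le
    (isPGroup_of_elem b.elemV)
  obtain ⟨t, htR, ht2⟩ := exists_involution_of_ne_bot b.sylR.two (sylR_ne_bot h b.sylR)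
  -- `V ≤ M^g`
  have hVg : R ⊔ E ≤ cj g (normalizer (K : Set G)) := by
    intro v hv
    have h1 : g * t * g⁻¹ ∈ cj g R := conj_mem_cj htR
    refine h.centralizer_le_cj (a := g * t * g⁻¹) (by rw [orderOf_conj, ht2])
      (cj_mono b.sylR.le h1) ?_
    rw [mem_centralizer_singleton_iff]
    exact b.elemV.comm hv (hgR h1)
  have hVg' : cj g⁻¹ (R ⊔ E) ≤ normalizer (K : Set G) := by
    have := cj_mono (g := g⁻¹) hVg
    rwa [cj_inv_cj] at this
  obtain ⟨S₂, hS₂, hVS₂⟩ := exists_isSyl2 (normalizer (K : Set G)) (cj g⁻¹ (R ⊔ E)) hVg'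
    (isPGroup_of_elem (elem_cj b.elemV))
  obtain ⟨m, hm, hmS⟩ := isSyl2_conj hS₂ hS
  have h1 : cj m (cj g⁻¹ (R ⊔ E)) ≤ S := by rw [hmS]; exact cj_mono hVS₂
  rw [← cj_mul] at h1
  have h2 := unique_V b hS hVS h1 (elem_cj b.elemV) (by rw [card_cj, b.card_V])
  refine ⟨m * g⁻¹, cj_eq_iff.mp h2, fun h3 => hg ?_⟩
  have h4 := Subgroup.mul_mem _ (Subgroup.inv_mem _ h3) hm
  have e1 : (m * g⁻¹)⁻¹ * m = g := by group
  rwa [e1] at h4

end

end Cfsg.Agent.OddCyclic.A4EFour
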