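import Cfsg.Agent.OddCyclic.A4EDelta

/-!
# S0342, component type, case A (`K = A₅`, copy with `A4EDefs.Beta`): A4 (iii), (iv)

Here `|Δ| = q`. 2-elements of `N` fixing all members of `Δ` lie in `V`; `V - ⋃Δ = E - {1}`, so `N`
normalizes `E`; `N_Y(R) = C_Y(R)`.
-/

set_option autoImplicit false

namespace Cfsg.Agent.OddCyclic.A4EKer

open Subgroup
open Cfsg.Agent.LieExceptional Cfsg.Agent.LieExceptional.CITDefs
open Cfsg.Agent.LieExceptional.CITBasic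
open Cfsg.Agent.OddCyclic.T1Tools
open Cfsg.Agent.OddCyclic.CompBasic Cfsg.Agent.OddCyclic.CompStandard
open Cfsg.Agent.OddCyclic.CaseADefs hiding Beta
open Cfsg.Agent.OddCyclic.A4EDefs Cfsg.Agent.OddCyclic.CaseABase
open Cfsg.Agent.OddCyclic.CaseACount Cfsg.Agent.OddCyclic.A4EFour
open Cfsg.Agent.OddCyclic.A4EDelta

variable {G : Type*} [Group G] [Finite G] {p : ℕ} {K R E H : Subgroup G} {q : ℕ}

omit [Finite G] in
theorem finite_H (b : Beta K R E H q) : Finite H := by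
  have := b.l2.four
  exact Nat.finite_of_card_ne_zero (by rw [b.bor.cardH]; omega)

/-- `H` is transitive on `E - {1}` -/
theorem H_trans_E (b : Beta K R E H q) {e e' : G} (he : e ∈ E) (he1 : e ≠ 1) (he' : e' ∈ E)
    (he1' : e' ≠ 1) : ∃ x ∈ H, x * e * x⁻¹ = e' := by
  have hinj : Function.Injective (fun x : H => (⟨⟨(x : G) * e * (x : G)⁻¹,
      b.bor.norm x x.2 e he⟩, fun hh => he1 (by
        have h1 : (x : G) * e * (x : G)⁻¹ = 1 := congrArg Subtype.val hh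
        have : e = (x : G)⁻¹ * ((x : G) * e * (x : G)⁻¹) * x := by group
        rw [this, h1]; group)⟩ : {y : E // y ≠ 1})) := by
    intro x y hxy
    have h1 : (x : G) * e * (x : G)⁻¹ = (y : G) * e * (y : G)⁻¹ :=
      congrArg (fun z : {y : E // y ≠ 1} => ((z : E) : G)) hxy
    have h2 : ((y : G)⁻¹ * x) * e = e * ((y : G)⁻¹ * x) := by
      calc ((y : G)⁻¹ * x) * e = (y : G)⁻¹ * ((x : G) * e * (x : G)⁻¹) * x := by group
        _ = (y : G)⁻¹ * ((y : G) * e * (y : G)⁻¹) * x := by rw [h1]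
        _ = e * ((y : G)⁻¹ * x) := by group
    have h3 := H_inf b.l2 b.bor (H.mul_mem (H.inv_mem y.2) x.2)
      (b.bor.cent e he he1 _ (b.bor.leH (H.mul_mem (H.inv_mem y.2) x.2)) h2)
    exact Subtype.ext (inv_mul_eq_one.mp h3).symm
  have hbij := hinj.bijective_of_nat_card_le (by
    rw [card_ne_one, b.bor.cardE, b.bor.cardH])
  obtain ⟨x, hx⟩ := hbij.2 ⟨⟨e', he'⟩, fun hh => he1' (congrArg Subtype.val hh)⟩
  exact ⟨x, x.2, congrArg (fun z : {y : E // y ≠ 1} => ((z : E) : G)) hx⟩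

theorem card_delta' (hD : Nat.card (Delta R (R ⊔ E)) = q) :
    Nat.card {X : Subgroup G // X ∈ Delta R (R ⊔ E) ∧ X ≠ R} = q - 1 := by
  classical
  have h1 := Nat.card_congr (Equiv.sumCompl (fun X : Delta R (R ⊔ E) => (X : Subgroup G) = R))
  rw [Nat.card_sum, hD] at h1
  have h2 : Nat.card {X : Delta R (R ⊔ E) // (X : Subgroup G) = R} = 1 := by
    rw [Nat.card_eq_one_iff_unique]
    exact ⟨⟨fun a b => Subtype.ext (Subtype.ext (a.2.trans b.2.symm))⟩,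
      ⟨⟨⟨R, R_mem_delta⟩, rfl⟩⟩⟩
  have h3 : Nat.card {X : Delta R (R ⊔ E) // ¬ (X : Subgroup G) = R} =
      Nat.card {X : Subgroup G // X ∈ Delta R (R ⊔ E) ∧ X ≠ R} := Nat.card_congr
      { toFun := fun X => ⟨X.1.1, X.1.2, X.2⟩
        invFun := fun X => ⟨⟨X.1, X.2.1⟩, X.2.2⟩
        left_inv := fun _ => rfl
        right_inv := fun _ => rfl }
  omega

theorem cj_ne_R (b : Beta K R E H q) {X : Subgroup G} (hne : X ≠ R) {n : G}
    (hn : n ∈ normalizer ((R ⊔ E : Subgroup G) : Set G)) (hM : n ∈ normalizer (K : Set G)) :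
    cj n X ≠ R := by
  intro hh
  apply hne
  have h1 : cj n⁻¹ R = R := cj_R b (Subgroup.inv_mem _ hn) (Subgroup.inv_mem _ hM)
  rw [← cj_inv_cj n X, hh, h1]

/-- `H` is transitive on `Δ - {R}` -/
theorem H_trans (h : Std p K) (b : Beta K R E H q) (hD : Nat.card (Delta R (R ⊔ E)) = q)
    {X X' : Subgroup G} (hX : X ∈ Delta R (R ⊔ E)) (hne : X ≠ R) (hX' : X' ∈ Delta R (R ⊔ E))
    (hne' : X' ≠ R) : ∃ x ∈ H, cj x X = X' := by
  have hinj : Function.Injective (fun x : H => (⟨cj (x : G) X, cj_mem_delta hX (H_le_N b x.2),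
      cj_ne_R b hne (H_le_N b x.2) (Subgroup.le_normalizer (b.bor.leH x.2))⟩ :
      {X : Subgroup G // X ∈ Delta R (R ⊔ E) ∧ X ≠ R})) := by
    intro x y hxy
    have h1 : cj (x : G) X = cj (y : G) X := congrArg Subtype.val hxy
    have h2 : cj ((y : G)⁻¹ * x) X = X := by rw [cj_mul, h1, cj_inv_cj]
    have h3 := H_free h b hX hne (H.mul_mem (H.inv_mem y.2) x.2) h2
    exact Subtype.ext (inv_mul_eq_one.mp h3).symm
  have hbij := hinj.bijective_of_nat_card_le (by rw [card_delta' hD, b.bor.cardH])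
  obtain ⟨x, hx⟩ := hbij.2 ⟨X', hX', hne'⟩
  exact ⟨x, x.2, congrArg Subtype.val hx⟩

theorem exists_ne_R (h : Std p K) (b : Beta K R E H q) :
    ∃ X ∈ Delta R (R ⊔ E), X ≠ R := by
  obtain ⟨n, hn, hnM⟩ := exists_n h b
  exact ⟨cj n R, ⟨n, hn, rfl⟩, fun hh => hnM ((cj_eq_R_iff h b hn).mp hh)⟩

theorem V_fix (b : Beta K R E H q) {X : Subgroup G} (hX : X ∈ Delta R (R ⊔ E)) {v : G}
    (hv : v ∈ R ⊔ E) : cj v X = X :=
  cj_eq_of_comm fun _ hx => b.elemV.comm hv (le_of_mem_delta hX hx)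

omit [Finite G] in
theorem fix_inv {X : Subgroup G} {z : G} (hz : cj z X = X) : cj z⁻¹ X = X := by
  rw [← hz, cj_inv_cj, hz]

/-- **(iii)** 2-elements fixing all members of `Δ` lie in `V`. -/
theorem ker (h : Std p K) (b : Beta K R E H q) {z : G}
    (hz : z ∈ normalizer ((R ⊔ E : Subgroup G) : Set G)) (h2 : ∃ n : ℕ, z ^ 2 ^ n = 1)
    (hfix : ∀ X ∈ Delta R (R ⊔ E), cj z X = X) : z ∈ R ⊔ E := by
  have h4 := b.l2.four
  have hfH := finite_H b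
  have hcyc := b.bor.cyc
  have hHc : ∀ x ∈ H, ∀ y ∈ H, x * y = y * x := by
    intro x hx y hy
    have := IsCyclic.commGroup (α := H)
    exact congrArg Subtype.val (IsMulCommutative.is_comm.comm (⟨x, hx⟩ : H) ⟨y, hy⟩)
  have hzM : z ∈ normalizer (K : Set G) := (cj_eq_R_iff h b hz).mp (hfix R R_mem_delta)
  have hzE : ∀ e ∈ E, z * e * z⁻¹ ∈ E := forall_of_mem_normalizer (cj_eq_iff.mp (cj_E b hz hzM))
  obtain ⟨X₁, hX₁, hne₁⟩ := exists_ne_R h b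
  -- `[z, x] ∈ E` for `x ∈ H`
  have hw : ∀ x ∈ H, z * x * z⁻¹ * x⁻¹ ∈ E := by
    intro x hx
    have hxN := H_le_N b hx
    have h1 : z * x * z⁻¹ * x⁻¹ ∈ K := K.mul_mem (forall_of_mem_normalizer hzM x (b.bor.leH hx))
      (K.inv_mem (b.bor.leH hx))
    have h2 : ∀ e ∈ E, (z * x * z⁻¹ * x⁻¹) * e * (z * x * z⁻¹ * x⁻¹)⁻¹ ∈ E := by
      intro e he
      have hzE' : ∀ e ∈ E, z⁻¹ * e * z ∈ E := by
        intro e he
        have := forall_of_mem_normalizer (Subgroup.inv_mem _ (cj_eq_iff.mp (cj_E b hz hzM))) e he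
        rwa [inv_inv] at this
      have a1 : x⁻¹ * e * x ∈ E := by
        have := b.bor.norm x⁻¹ (H.inv_mem hx) e he
        rwa [inv_inv] at this
      have a2 := hzE _ (b.bor.norm x hx _ (hzE' _ a1))
      have e1 : z * x * z⁻¹ * x⁻¹ * e * (z * x * z⁻¹ * x⁻¹)⁻¹ =
          z * (x * (z⁻¹ * (x⁻¹ * e * x) * z) * x⁻¹) * z⁻¹ := by group
      rw [e1]; exact a2
    obtain ⟨e, he, x₁, hx₁, hwe⟩ := b.bor.nK _ h1 h2
    have h3 : cj (z * x * z⁻¹ * x⁻¹) X₁ = X₁ := by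
      have a1 : cj x⁻¹ X₁ ∈ Delta R (R ⊔ E) := cj_mem_delta hX₁ (Subgroup.inv_mem _ hxN)
      rw [cj_mul, cj_mul, cj_mul, fix_inv (hfix _ a1), cj_cj_inv, hfix _ hX₁]
    have h4 : cj x₁ X₁ = X₁ := by
      have a1 : x₁ = e⁻¹ * (z * x * z⁻¹ * x⁻¹) := by rw [hwe]; group
      rw [a1, cj_mul, h3]
      exact V_fix b hX₁ (mem_sup_right (E.inv_mem he))
    have h5 := H_free h b hX₁ hne₁ hx₁ h4
    rw [hwe, h5, mul_one]
    exact he
  -- a nontrivial element of `E`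
  obtain ⟨e₀, he₀, he₀1⟩ : ∃ e ∈ E, e ≠ 1 := by
    by_contra hno
    push Not at hno
    have h1 : E = ⊥ := (eq_bot_iff).mpr fun e he => by rw [Subgroup.mem_bot]; exact hno e he
    have h2 := b.bor.cardE
    rw [h1, Subgroup.card_bot] at h2
    omega
  have hze₀1 : z * e₀ * z⁻¹ ≠ 1 := by
    intro hh
    apply he₀1
    have : e₀ = z⁻¹ * (z * e₀ * z⁻¹) * z := by group
    rw [this, hh]; group
  obtain ⟨x₀, hx₀, hx₀e⟩ := H_trans_E b he₀ he₀1 (hzE e₀ he₀) hze₀1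
  have hact : ∀ e ∈ E, z * e * z⁻¹ = x₀ * e * x₀⁻¹ := by
    intro e he
    by_cases he1 : e = 1
    · rw [he1]; group
    · obtain ⟨x, hx, hxe⟩ := H_trans_E b he₀ he₀1 he he1
      have h1 := hw x hx
      have h2 : x * (x₀ * e₀ * x₀⁻¹) * x⁻¹ ∈ E := b.bor.norm x hx _ (b.bor.norm x₀ hx₀ _ he₀)
      have h3 : x * x₀ = x₀ * x := hHc x hx x₀ hx₀
      have h5 : x₀⁻¹ * x⁻¹ = x⁻¹ * x₀⁻¹ := by
        rw [← mul_inv_rev, ← mul_inv_rev, h3]
      calc z * e * z⁻¹ = (z * x * z⁻¹ * x⁻¹) * (x * (z * e₀ * z⁻¹) * x⁻¹) *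
            (z * x * z⁻¹ * x⁻¹)⁻¹ := by rw [← hxe]; group
        _ = (z * x * z⁻¹ * x⁻¹) * (x * (x₀ * e₀ * x₀⁻¹) * x⁻¹) *
            (z * x * z⁻¹ * x⁻¹)⁻¹ := by rw [hx₀e]
        _ = (x * (x₀ * e₀ * x₀⁻¹) * x⁻¹) := by
            rw [b.bor.elem.comm h1 h2, mul_inv_cancel_right]
        _ = (x * x₀) * e₀ * (x₀⁻¹ * x⁻¹) := by group
        _ = (x₀ * x) * e₀ * (x⁻¹ * x₀⁻¹) := by rw [h3, h5]
        _ = x₀ * (x * e₀ * x⁻¹) * x₀⁻¹ := by group
        _ = x₀ * e * x₀⁻¹ := by rw [hxe]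
  have hpow : ∀ m : ℕ, ∀ e ∈ E, z ^ m * e * (z ^ m)⁻¹ = x₀ ^ m * e * (x₀ ^ m)⁻¹ := by
    intro m
    induction m with
    | zero => intro e _; simp
    | succ m ih =>
      intro e he
      have h1 : x₀ * e * x₀⁻¹ ∈ E := b.bor.norm x₀ hx₀ e he
      calc z ^ (m + 1) * e * (z ^ (m + 1))⁻¹ = z ^ m * (z * e * z⁻¹) * (z ^ m)⁻¹ := by
            rw [pow_succ]; group
        _ = z ^ m * (x₀ * e * x₀⁻¹) * (z ^ m)⁻¹ := by rw [hact e he]
        _ = x₀ ^ m * (x₀ * e * x₀⁻¹) * (x₀ ^ m)⁻¹ := ih _ h1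
        _ = x₀ ^ (m + 1) * e * (x₀ ^ (m + 1))⁻¹ := by rw [pow_succ]; group
  obtain ⟨n, hn⟩ := h2
  have hx₀1 : x₀ = 1 := by
    have h1 := hpow (2 ^ n) e₀ he₀
    rw [hn, one_mul, inv_one, mul_one] at h1
    have h2 : x₀ ^ 2 ^ n * e₀ = e₀ * x₀ ^ 2 ^ n := mul_inv_eq_iff_eq_mul.mp h1.symm
    have h3 : x₀ ^ 2 ^ n = 1 := H_inf b.l2 b.bor (H.pow_mem hx₀ _)
      (b.bor.cent e₀ he₀ he₀1 _ (b.bor.leH (H.pow_mem hx₀ _)) h2)
    have h5 : orderOf x₀ ∣ 2 ^ n := orderOf_dvd_of_pow_eq_one h3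
    have h6 : orderOf x₀ ∣ q - 1 := by
      rw [← b.bor.cardH]; exact H.orderOf_dvd_natCard hx₀
    have h7 : Nat.Coprime (q - 1) (2 ^ n) :=
      Nat.Coprime.pow_right n (Nat.coprime_two_right.mpr (odd_card_H b.l2))
    have h8 : orderOf x₀ ∣ 1 := by
      rw [← Nat.Coprime.gcd_eq_one h7]
      exact Nat.dvd_gcd h6 h5
    exact orderOf_eq_one_iff.mp (Nat.dvd_one.mp h8)
  have hzc : ∀ e ∈ E, z * e = e * z := by
    intro e he
    have h1 := hact e he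
    rw [hx₀1, one_mul, inv_one, mul_one] at h1
    exact mul_inv_eq_iff_eq_mul.mp h1
  obtain ⟨y, hy, e, he, hye⟩ := b.l2.centE E b.sylE z hzM hzc
  have hyz : y = z * e⁻¹ := by rw [hye]; group
  have hyN : y ∈ normalizer ((R ⊔ E : Subgroup G) : Set G) := by
    rw [hyz]
    exact Subgroup.mul_mem _ hz (Subgroup.le_normalizer (mem_sup_right (E.inv_mem he)))
  have hyR : y ∈ R := by
    refine mem_isSyl2 b.sylR hy ⟨n + 1, ?_⟩ (forall_of_mem_normalizer (cj_eq_iff.mp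
      (cj_R b hyN (centralizer_le_normalizer _ hy))))
    have hcom : Commute z e⁻¹ := (show Commute z e from hzc e he).inv_right
    rw [hyz, hcom.mul_pow, pow_succ, pow_mul, hn, one_pow, one_mul, inv_pow, mul_comm, pow_mul,
      pow_two, b.bor.elem e he, one_pow, inv_one]
  rw [hye]
  exact Subgroup.mul_mem _ (mem_sup_left hyR) (mem_sup_right he)

/-- A Sylow 2-subgroup of `N` is transitive on `Δ`. -/
theorem trans_W (h : Std p K) (b : Beta K R E H q) (hD : Nat.card (Delta R (R ⊔ E)) = q)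
    {W : Subgroup G} (hW : IsSyl2 (normalizer ((R ⊔ E : Subgroup G) : Set G)) W)
    {X : Subgroup G} (hX : X ∈ Delta R (R ⊔ E)) : ∃ s ∈ W, X = cj s R := by
  have hpf : Fact (Nat.Prime 2) := ⟨Nat.prime_two⟩
  have h1 := card_orbit h b hW.le
  have h2 := card_N h b
  rw [hD] at h2
  obtain ⟨f, hf⟩ := b.l2.pow
  obtain ⟨a, ha⟩ := IsPGroup.iff_card.mp (hW.two.to_le
    (inf_le_left : W ⊓ normalizer (K : Set G) ≤ W))
  have h3 : 2 ^ (f + a) ∣ Nat.card (normalizer ((R ⊔ E : Subgroup G) : Set G)) := by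
    rw [← h2, pow_add, ← hf, ← ha]
    exact mul_dvd_mul_left _ (Subgroup.card_dvd_of_le (inf_le_inf_right _ hW.le))
  have h4 := pow_le_of_dvd hW h3
  rw [← h1, ha, pow_add] at h4
  have h5 : 2 ^ f ≤ Nat.card {X : Subgroup G | ∃ n ∈ W, X = cj n R} :=
    Nat.le_of_mul_le_mul_right h4 (by positivity)
  have h6 : {X : Subgroup G | ∃ n ∈ W, X = cj n R} ⊆ Delta R (R ⊔ E) := by
    rintro X ⟨n, hn, rfl⟩
    exact ⟨n, hW.le hn, rfl⟩
  have h7 : {X : Subgroup G | ∃ n ∈ W, X = cj n R} = Delta R (R ⊔ E) := by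
    refine Set.eq_of_subset_of_ncard_le h6 ?_ (Set.toFinite _)
    rw [← Nat.card_coe_set_eq, ← Nat.card_coe_set_eq, hD, hf]
    exact h5
  rw [← h7] at hX
  exact hX

end Cfsg.Agent.OddCyclic.A4EKer
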