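import Cfsg.Agent.OddCyclic.A4ESylow

/-!
# S0342, component type, case A4 with `K = A₅` and field automorphisms: the contradiction
-/

set_option autoImplicit false

namespace Cfsg.Agent.OddCyclic.A4EMain

open Subgroup
open Cfsg.Agent.LieExceptional Cfsg.Agent.LieExceptional.CITDefs
open Cfsg.Agent.LieExceptional.CITBasic
open Cfsg.Agent.OddCyclic.T1Tools
open Cfsg.Agent.OddCyclic.CompBasic Cfsg.Agent.OddCyclic.CompStandard
open Cfsg.Agent.OddCyclic.CaseADefs Cfsg.Agent.OddCyclic.CaseABase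
open Cfsg.Agent.OddCyclic.CaseACount
open Cfsg.Agent.OddCyclic.A4EBase Cfsg.Agent.OddCyclic.A4ECfg Cfsg.Agent.OddCyclic.A4ESylow

variable {G : Type*} [Group G] [Finite G] {p : ℕ} {K R E H S P : Subgroup G} {e₀ ρ h c : G}

/-! ### centralisers of the involutions of `R` -/

/-- `|C(t)|₂ ≤ 32` -/
theorem card_le_32 (C : Cfg p K R E H S P e₀ ρ h c) {t : G} (ht : t ∈ R) (ht1 : t ≠ 1)
    {A : Subgroup G} (hA : IsPGroup 2 A) (hAt : ∀ a ∈ A, a * t = t * a) : Nat.card A ≤ 32 := by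
  rw [← C.b.card_S C.d]
  refine card_le_of_isSyl2 C.d.syl (fun a ha => ?_) hA
  exact C.b.std.le_normalizer (orderOf_eq_two ht1 (C.b.elemR t ht)) (C.b.sylR.le ht)
    (mem_centralizer_singleton_iff.mpr (hAt a ha))

/-- elements of `R` conjugate in `Y` are equal -/
theorem eq_of_conj_Y (C : Cfg p K R E H S P e₀ ρ h c) {t t' y : G} (ht : t ∈ R) (ht' : t' ∈ R)
    (hy : y ∈ centralizer (K : Set G)) (heq : y * t' * y⁻¹ = t) : t' = t := by
  set Y := centralizer (K : Set G) with hY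
  set W := Y ⊓ centralizer ({t} : Set G) with hW
  have hmono : ∀ Q : Subgroup G, IsSyl2 Y Q → Q ≤ W → IsSyl2 W Q := fun Q hQ hle =>
    ⟨hle, hQ.two, fun Z hZ hZ2 hQZ => hQ.max Z (hZ.trans inf_le_left) hZ2 hQZ⟩
  have h1 : IsSyl2 W R := by
    refine hmono R C.b.sylR (le_inf C.b.sylR.le fun r hr => ?_)
    exact mem_centralizer_singleton_iff.mpr (C.b.elemR.comm hr ht)
  have h2 : IsSyl2 W (cj y R) := by
    have h3 : IsSyl2 Y (cj y R) := by
      have := isSyl2_cj y C.b.sylR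
      rwa [cj_eq_iff.mpr (Subgroup.le_normalizer hy : y ∈ normalizer (Y : Set G))] at this
    refine hmono _ h3 (le_inf h3.le ?_)
    rintro _ ⟨r, hr, rfl⟩
    rw [mem_centralizer_singleton_iff]
    simp only [MulEquiv.coe_toMonoidHom, MulAut.conj_apply]
    rw [← heq]
    have := C.b.elemR.comm hr ht'
    calc y * r * y⁻¹ * (y * t' * y⁻¹) = y * (r * t') * y⁻¹ := by group
      _ = y * (t' * r) * y⁻¹ := by rw [this]
      _ = y * t' * y⁻¹ * (y * r * y⁻¹) := by group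
  obtain ⟨z, hz, hzR⟩ := isSyl2_conj h2 h1
  rw [← cj_mul] at hzR
  have hn : z * y ∈ normalizer (R : Set G) := cj_eq_iff.mp hzR.symm
  have h3 := C.b.four.centR (z * y) (Y.mul_mem hz.1 hy) hn t' ht'
  have h4 : z * t * z⁻¹ = t := by
    have := mem_centralizer_singleton_iff.mp hz.2
    rw [this]; group
  calc t' = (z * y) * t' * (z * y)⁻¹ := by rw [h3]; group
    _ = z * (y * t' * y⁻¹) * z⁻¹ := by group
    _ = t := by rw [heq, h4]

/-- (M7) `M = KY ∪ KYc` -/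
theorem mem_KY_or (C : Cfg p K R E H S P e₀ ρ h c) {m : G} (hm : m ∈ normalizer (K : Set G)) :
    m ∈ K ⊔ centralizer (K : Set G) ∨ m * c ∈ K ⊔ centralizer (K : Set G) := by
  have hcM := C.d.syl.le C.cS
  obtain ⟨k, hk, hkE⟩ := isSyl2_conj C.b.sylE (by
    have := isSyl2_cj m C.b.sylE
    rwa [cj_eq_iff.mpr hm] at this)
  -- `n = k⁻¹ m` normalises `E`
  have hn : cj (k⁻¹ * m) E = E := by rw [cj_mul, hkE, cj_inv_cj]
  have hkM := Subgroup.le_normalizer hk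
  set n := k⁻¹ * m with hn'
  have hnM : n ∈ normalizer (K : Set G) := Subgroup.mul_mem _ (Subgroup.inv_mem _ hkM) hm
  have hnE := forall_of_mem_normalizer (cj_eq_iff.mp hn)
  -- correct by `H`
  have hhK := C.b.bor.leH C.hH
  obtain ⟨j, hj, hjn⟩ : ∃ j ∈ H, (j * n) * e₀ = e₀ * (j * n) := by
    have h1 := hnE e₀ C.d.he₀
    have key : ∀ x : G, x⁻¹ * (n * e₀ * n⁻¹) * x = e₀ → (x⁻¹ * n) * e₀ = e₀ * (x⁻¹ * n) := by
      intro x hx
      have : x⁻¹ * (n * e₀ * n⁻¹) * x = (x⁻¹ * n) * e₀ * (x⁻¹ * n)⁻¹ := by group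
      rw [this] at hx
      exact mul_inv_eq_iff_eq_mul.mp hx
    rcases C.L.E_cases C.d.he₀ C.d.ne h1 with h2 | h2 | h2 | h2
    · exfalso
      apply C.d.ne
      have : e₀ = n⁻¹ * (n * e₀ * n⁻¹) * n := by group
      rw [this, h2]; group
    · exact ⟨1, H.one_mem, by rw [one_mul]; exact mul_inv_eq_iff_eq_mul.mp h2⟩
    · refine ⟨h⁻¹, H.inv_mem C.hH, key h ?_⟩
      rw [h2]; group
    · refine ⟨(h * h)⁻¹, H.inv_mem (H.mul_mem C.hH C.hH), key (h * h) ?_⟩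
      rw [h2]; group
  have hjK := C.b.bor.leH hj
  have hjM := Subgroup.le_normalizer hjK
  have hmk : m = k * j⁻¹ * (j * n) := by rw [hn']; group
  have hkj : k * j⁻¹ ∈ K := K.mul_mem hk (K.inv_mem hjK)
  have hn'M : j * n ∈ normalizer (K : Set G) := Subgroup.mul_mem _ hjM hnM
  have hn'E : ∀ e ∈ E, (j * n) * e * (j * n)⁻¹ ∈ E := by
    intro e he
    have : (j * n) * e * (j * n)⁻¹ = j * (n * e * n⁻¹) * j⁻¹ := by group
    rw [this]
    exact C.b.bor.norm j hj _ (hnE e he)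
  have hfin : ∀ z : G, z ∈ normalizer (K : Set G) → (∀ e ∈ E, z * e = e * z) →
      k * j⁻¹ * z ∈ K ⊔ centralizer (K : Set G) := by
    intro z hz hze
    obtain ⟨y, hy, e, he, rfl⟩ := C.b.l2.centE E C.b.sylE z hz hze
    exact Subgroup.mul_mem _ (mem_sup_left hkj) (Subgroup.mul_mem _ (mem_sup_right hy)
      (mem_sup_left (C.b.sylE.le he)))
  by_cases hcE : ∀ e ∈ E, (j * n) * e = e * (j * n)
  · left
    rw [hmk]
    exact hfin _ hn'M hcE
  · right
    push Not at hcE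
    obtain ⟨u, hu, hnu⟩ := hcE
    obtain ⟨u', hu', hcu⟩ : ∃ u ∈ E, c * u ≠ u * c := by
      by_contra hno
      push Not at hno
      exact C.cV (C.b.mem_V_of_comm C.d.syl C.d.hV C.cS hno)
    have h1 := mul_comm_four C.b.bor.cardE C.b.bor.elem C.d.he₀ C.d.ne hn'E (cEn C) hjn
      (C.d.fix c C.cS) hu hnu hu' hcu
    have h2 := hfin (j * n * c) (Subgroup.mul_mem _ hn'M hcM) h1
    have h3 : m * c = k * j⁻¹ * (j * n * c) := by rw [hn']; group
    rw [h3]; exact h2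

/-- `|C(t)|₂ ≤ 16` for `t ∈ R`, `t ≠ ρ` -/
theorem card_le_16 (C : Cfg p K R E H S P e₀ ρ h c) {t : G} (ht : t ∈ R) (ht1 : t ≠ 1)
    (htρ : t ≠ ρ) {A : Subgroup G} (hA : IsPGroup 2 A) (hAt : ∀ a ∈ A, a * t = t * a) :
    Nat.card A ≤ 16 := by
  have hAM : ∀ a ∈ A, a ∈ normalizer (K : Set G) := fun a ha =>
    C.b.std.le_normalizer (orderOf_eq_two ht1 (C.b.elemR t ht)) (C.b.sylR.le ht)
      (mem_centralizer_singleton_iff.mpr (hAt a ha))
  -- `A ≤ KY`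
  have hAKY : A ≤ K ⊔ centralizer (K : Set G) := by
    intro a ha
    rcases mem_KY_or C (hAM a ha) with h1 | h1
    · exact h1
    exfalso
    obtain ⟨k, hk, y, hy, hky⟩ := mem_KY.mp h1
    have hct := cRn C t ht
    -- `t' = c⁻¹ t c`
    have ht' : c⁻¹ * t * c ∈ R := by
      have h2 := C.b.S_norm_R C.d.syl (le_sup_left.trans C.d.hV) c⁻¹ (S.inv_mem C.cS) t ht
      rwa [inv_inv] at h2
    have hat : a * t * a⁻¹ = t := by rw [hAt a ha]; group
    have h2 : k * (y * (c⁻¹ * t * c) * y⁻¹) * k⁻¹ = t := by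
      have hae : a = k * y * c⁻¹ := by rw [← hky]; group
      have hae2 : a * t * a⁻¹ = k * (y * (c⁻¹ * t * c) * y⁻¹) * k⁻¹ := by rw [hae]; group
      rw [← hae2]; exact hat
    have hyt : y * (c⁻¹ * t * c) * y⁻¹ ∈ centralizer (K : Set G) :=
      Subgroup.mul_mem _ (Subgroup.mul_mem _ hy (C.b.sylR.le ht')) (Subgroup.inv_mem _ hy)
    have h3 : y * (c⁻¹ * t * c) * y⁻¹ = t := by
      have h4 := comm_KY k hk _ hyt
      rw [h4] at h2
      have : y * (c⁻¹ * t * c) * y⁻¹ * k * k⁻¹ = y * (c⁻¹ * t * c) * y⁻¹ := by group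
      rw [this] at h2
      exact h2
    have h4 := eq_of_conj_Y C ht ht' hy h3
    have h5 : c * t = t * c := by
      calc c * t = c * (c⁻¹ * t * c) := by rw [h4]
        _ = t * c := by group
    rcases C.b.fix_R C.d C.dr C.cS C.cV ht h5 with h6 | h6
    · exact ht1 h6
    · exact htρ h6
  -- a Sylow 2-subgroup of `KY` is `V`
  have h1 : IsSyl2 (K ⊔ centralizer (K : Set G)) (S ⊓ (K ⊔ centralizer (K : Set G))) := by
    refine isSyl2_inf C.d.syl KY_le fun d hd w hw => ?_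
    obtain ⟨k, hk, y, hy, rfl⟩ := mem_KY.mp hw
    have : d * (k * y) * d⁻¹ = (d * k * d⁻¹) * (d * y * d⁻¹) := by group
    rw [this]
    exact Subgroup.mul_mem _ (mem_sup_left (forall_of_mem_normalizer hd k hk))
      (mem_sup_right (normal_cent K d hd y hy))
  have h2 := card_le_of_isSyl2 h1 hAKY hA
  have h3 : S ⊓ (K ⊔ centralizer (K : Set G)) ≤ R ⊔ E := fun x hx =>
    A4EFour.S_inf_KY C.b.beta C.d.syl C.d.hV hx.1 hx.2
  have h4 := Subgroup.card_le_of_le h3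
  rw [C.b.card_V] at h4
  omega

/-! ### `F` contains no conjugate of an involution of `R` -/

omit [Finite G] in
/-- conjugating a 2-subgroup of `C(w)`, `w = g t g⁻¹`, into `C(t)` -/
theorem conj_comm {A : Subgroup G} {w t g : G} (hA : IsPGroup 2 A) (hw : g * t * g⁻¹ = w)
    (hAw : ∀ a ∈ A, a * w = w * a) : IsPGroup 2 (cj g⁻¹ A) ∧ (∀ a ∈ cj g⁻¹ A, a * t = t * a) ∧
      Nat.card (cj g⁻¹ A) = Nat.card A := by
  refine ⟨isPGroup_cj hA, ?_, card_cj _ _⟩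
  intro a ha
  rw [mem_cj, inv_inv] at ha
  have h1 := hAw _ ha
  rw [← hw] at h1
  calc a * t = g⁻¹ * ((g * a * g⁻¹) * (g * t * g⁻¹)) * g := by group
    _ = g⁻¹ * ((g * t * g⁻¹) * (g * a * g⁻¹)) * g := by rw [h1]
    _ = t * a := by group

/-- the involutions of `F` form `E` or all of `F` -/
theorem F_elem (C : Cfg p K R E H S P e₀ ρ h c) {w : G} (hw : w ∈ C.L.F) (hwE : w ∉ E)
    (hww : w * w = 1) : Elem C.L.F := by
  have hhom : ∀ x y : G, x ∈ C.L.F → y ∈ C.L.F → x * x = 1 → y * y = 1 → (x * y) * (x * y) = 1 := by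
    intro x y hx hy hxx hyy
    calc (x * y) * (x * y) = x * (y * x) * y := by group
      _ = x * (x * y) * y := by rw [C.L.F_comm hy hx]
      _ = (x * x) * (y * y) := by group
      _ = 1 := by rw [hxx, hyy, one_mul]
  have h1 : (h * w * h⁻¹) * (h * w * h⁻¹) = 1 := by
    calc (h * w * h⁻¹) * (h * w * h⁻¹) = h * (w * w) * h⁻¹ := by group
      _ = 1 := by rw [hww]; group
  have h2 : (h * (h * w * h⁻¹) * h⁻¹) * (h * (h * w * h⁻¹) * h⁻¹) = 1 := by
    calc (h * (h * w * h⁻¹) * h⁻¹) * (h * (h * w * h⁻¹) * h⁻¹)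
        = h * ((h * w * h⁻¹) * (h * w * h⁻¹)) * h⁻¹ := by group
      _ = 1 := by rw [h1]; group
  intro x hx
  obtain ⟨e, he, rfl | rfl | rfl | rfl⟩ := C.L.F_cases hw hwE hx
  · exact C.b.bor.elem _ he
  · exact hhom _ _ hw (C.L.E_le_F he) hww (C.b.bor.elem e he)
  · exact hhom _ _ (C.L.h_F _ hw) (C.L.E_le_F he) h1 (C.b.bor.elem e he)
  · exact hhom _ _ (C.L.h_F _ (C.L.h_F _ hw)) (C.L.E_le_F he) h2 (C.b.bor.elem e he)

/-- `c` normalises `F` -/
theorem c_F (C : Cfg p K R E H S P e₀ ρ h c) : ∀ x ∈ C.L.F, c * x * c⁻¹ ∈ C.L.F := by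
  rintro x hx
  have hxF := hx
  obtain ⟨hx1, hxE⟩ := hx
  have hS1 := C.L.S1_eq_P
  have hcP := cPn C
  have hcx : c * x * c⁻¹ ∈ A4ELayer.S1 P (R ⊔ E) := by
    rw [hS1] at hx1 ⊢
    exact hcP x hx1
  refine ⟨hcx, ?_⟩
  have hch : h * c = c * h⁻¹ := by
    have h2 : c * h⁻¹ * c⁻¹ = h := by
      calc c * h⁻¹ * c⁻¹ = (c * h * c⁻¹)⁻¹ := by group
        _ = h := by rw [C.ch, inv_inv]
    calc h * c = (c * h⁻¹ * c⁻¹) * c := by rw [h2]
      _ = c * h⁻¹ := by group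
  have hconj : ∀ z : G, h * (c * z * c⁻¹) * h⁻¹ = c * (h⁻¹ * z * h) * c⁻¹ := by
    intro z
    calc h * (c * z * c⁻¹) * h⁻¹ = (h * c) * z * (h * c)⁻¹ := by group
      _ = c * (h⁻¹ * z * h) * c⁻¹ := by rw [hch]; group
  have h3 : ∀ z : G, h * (h * z * h⁻¹) * h⁻¹ = h⁻¹ * z * h := by
    intro z
    calc h * (h * z * h⁻¹) * h⁻¹ = h⁻¹ * (h * (h * (h * z * h⁻¹) * h⁻¹) * h⁻¹) * h := by group
      _ = h⁻¹ * z * h := by rw [C.L.h33]
  have h4 : ∀ z : G, h⁻¹ * (h⁻¹ * z * h) * h = h * z * h⁻¹ := by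
    intro z
    rw [← h3, ← h3, C.L.h33]
  have e1 : A4ELayer.nm h (c * x * c⁻¹) =
      c * (x * (h * (h * x * h⁻¹) * h⁻¹) * (h * x * h⁻¹)) * c⁻¹ := by
    unfold A4ELayer.nm
    rw [hconj, hconj, h4, ← h3]
    group
  have hx2 := C.L.h_F _ hxF
  have hx3 := C.L.h_F _ hx2
  rw [e1]
  have e2 : x * (h * (h * x * h⁻¹) * h⁻¹) * (h * x * h⁻¹) = A4ELayer.nm h x := by
    unfold A4ELayer.nm
    rw [mul_assoc, C.L.F_comm hx3 hx2, ← mul_assoc]
  rw [e2]
  exact cEn C _ hxE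

/-- `T` normalises `F` -/
theorem T_F (C : Cfg p K R E H S P e₀ ρ h c) : ∀ y ∈ TT C, ∀ x ∈ C.L.F, y * x * y⁻¹ ∈ C.L.F := by
  have hP : ∀ y ∈ P, ∀ x ∈ C.L.F, y * x * y⁻¹ ∈ C.L.F := by
    intro y hy x hx
    have h1 : y * x * y⁻¹ * x⁻¹ ∈ E :=
      C.L.comm_S1 (by rw [C.L.S1_eq_P]; exact hy) (C.L.F_le hx)
    have : y * x * y⁻¹ = (y * x * y⁻¹ * x⁻¹) * x := by group
    rw [this]
    exact C.L.F.mul_mem (C.L.E_le_F h1) hx
  rintro y (hy | ⟨y, hy, rfl⟩) x hx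
  · exact hP y hy x hx
  · have : y * c * x * (y * c)⁻¹ = y * (c * x * c⁻¹) * y⁻¹ := by group
    rw [this]
    exact hP y hy _ (c_F C x hx)

/-- `T` normalises `V` -/
theorem T_V (C : Cfg p K R E H S P e₀ ρ h c) : ∀ y ∈ TT C, ∀ x ∈ R ⊔ E, y * x * y⁻¹ ∈ R ⊔ E := by
  have hP : ∀ y ∈ P, ∀ x ∈ R ⊔ E, y * x * y⁻¹ ∈ R ⊔ E := by
    intro y hy x hx
    have h1 : y ∈ A4ELayer.S1 P (R ⊔ E) := by rw [C.L.S1_eq_P]; exact hy
    exact (mem_normalizer_iff.mp h1.1 x).mp hx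
  rintro y (hy | ⟨y, hy, rfl⟩) x hx
  · exact hP y hy x hx
  · have : y * c * x * (y * c)⁻¹ = y * (c * x * c⁻¹) * y⁻¹ := by group
    rw [this]
    refine hP y hy _ ?_
    obtain ⟨r, hr, e, he, rfl⟩ := C.b.mem_V.mp hx
    have e1 : c * (r * e) * c⁻¹ = (c * r * c⁻¹) * (c * e * c⁻¹) := by group
    rw [e1]
    exact Subgroup.mul_mem _ (mem_sup_left (cRn C r hr)) (mem_sup_right (cEn C e he))

/-- the normal `E₁₆`'s of `T` if `F` is elementary -/
theorem V_or_F (C : Cfg p K R E H S P e₀ ρ h c) (hF : Elem C.L.F) {D : Subgroup G}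
    (hDT : D ≤ TT C) (hD : Elem D) (h16 : Nat.card D = 16) (hED : E ≤ D) :
    D = R ⊔ E ∨ D = C.L.F := by
  have hDP : D ≤ P := fun x hx => mem_P_of_comm C (hDT hx) fun e he => hD.comm hx (hED he)
  by_cases hex : ∃ x ∈ D, x ∈ R ⊔ E ∧ x ∉ E
  · left
    obtain ⟨x, hx, hxV, hxE⟩ := hex
    obtain ⟨r, hr, e, he, rfl⟩ := C.b.mem_V.mp hxV
    have hr1 : r ≠ 1 := by
      rintro rfl
      rw [one_mul] at hxE
      exact hxE he
    have hrD : r ∈ D := by
      have : r = r * e * e⁻¹ := by group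
      rw [this]
      exact D.mul_mem hx (D.inv_mem (hED he))
    refine Subgroup.eq_of_le_of_card_ge (fun y hy => ?_) (by rw [h16, C.b.card_V])
    exact C.L.cent r hr hr1 y (hDP hy) (hD.comm hy hrD)
  · right
    push Not at hex
    refine Subgroup.eq_of_le_of_card_ge (fun y hy => ?_) (by rw [h16, C.L.card_F])
    have hyP := hDP hy
    obtain ⟨f, hf, r, hr, rfl⟩ := C.L.S1_eq (x := y) (by rw [C.L.S1_eq_P]; exact hyP)
    have hyy := hD _ hy
    have h1 : r * f * r⁻¹ = f⁻¹ := by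
      have h2 : f * (r * f * r⁻¹) * (r * r) = 1 := by rw [← hyy]; group
      rw [C.b.elemR r hr, mul_one] at h2
      exact (inv_eq_of_mul_eq_one_right h2).symm
    have h2 : f⁻¹ = f := inv_eq_of_mul_eq_one_left (hF f hf)
    rw [h2] at h1
    have h3 : r * f = f * r := mul_inv_eq_iff_eq_mul.mp h1
    by_cases hr1 : r = 1
    · rw [hr1, mul_one]; exact hf
    exfalso
    have hfV := C.L.cent r hr hr1 f (C.L.F_le_P hf) h3.symm
    have hfE := C.L.F_inf_V hf hfV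
    have h4 := hex (f * r) hy (Subgroup.mul_mem _ hfV (mem_sup_left hr))
    apply hr1
    apply C.b.inf hr
    have : r = f⁻¹ * (f * r) := by group
    rw [this]
    exact E.mul_mem (E.inv_mem hfE) h4

/-- `V` is not conjugate to `F` -/
theorem not_conj_F (C : Cfg p K R E H S P e₀ ρ h c) (hF : Elem C.L.F) (y : G) :
    cj y (R ⊔ E) ≠ C.L.F := by
  intro hy
  have hT := T_syl C
  -- a conjugating element in `N(T)`
  have hTF : TT C ≤ normalizer (C.L.F : Set G) := fun x hx =>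
    mem_normalizer_of_forall (T_F C x hx)
  have hTV : TT C ≤ normalizer ((R ⊔ E : Subgroup G) : Set G) := fun x hx =>
    mem_normalizer_of_forall (T_V C x hx)
  have hmono : ∀ Q : Subgroup G, IsSyl2 ⊤ Q → Q ≤ normalizer (C.L.F : Set G) →
      IsSyl2 (normalizer (C.L.F : Set G)) Q := fun Q hQ hle =>
    ⟨hle, hQ.two, fun Z _ hZ2 hQZ => hQ.max Z le_top hZ2 hQZ⟩
  have h1 := hmono _ hT hTF
  have h2 : IsSyl2 (normalizer (C.L.F : Set G)) (cj y (TT C)) := by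
    refine hmono _ ?_ ?_
    · have := isSyl2_cj y hT
      rwa [show cj y (⊤ : Subgroup G) = ⊤ from Subgroup.map_top_of_surjective _
        (MulAut.conj y).surjective] at this
    · rw [← hy, ← cj_normalizer]
      exact cj_mono hTV
  obtain ⟨n, hn, hnT⟩ := isSyl2_conj h2 h1
  rw [← cj_mul] at hnT
  obtain ⟨u, hu⟩ : ∃ u, u = n * y := ⟨_, rfl⟩
  rw [← hu] at hnT
  have huT : u ∈ normalizer (TT C : Set G) := cj_eq_iff.mp hnT.symm
  have huV : cj u (R ⊔ E) = C.L.F := by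
    rw [hu, cj_mul, hy]
    exact cj_eq_iff.mpr hn
  have hVF : R ⊔ E ≠ C.L.F := by
    intro hh
    obtain ⟨t, ht, ht1⟩ := C.b.exists_t
    have h3 : t ∈ C.L.F := by rw [← hh]; exact mem_sup_left ht
    exact ht1 (C.L.F_inf_R h3 ht)
  have hswap : ∀ D : Subgroup G, (D = R ⊔ E ∨ D = C.L.F) → ∀ x ∈ normalizer (TT C : Set G),
      cj x D = R ⊔ E ∨ cj x D = C.L.F := by
    intro D hD x hx
    have hx1 : cj x (TT C) = TT C := cj_eq_iff.mpr hx
    have hx2 : cj x E = E := cj_eq_iff.mpr (NT_le C hx)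
    have h3 : D ≤ TT C := by
      rcases hD with rfl | rfl
      · exact C.L.VP.trans (P_le C)
      · exact C.L.F_le_P.trans (P_le C)
    have h4 : Elem D := by
      rcases hD with rfl | rfl
      · exact C.b.elemV
      · exact hF
    have h5 : Nat.card D = 16 := by
      rcases hD with rfl | rfl
      · exact C.b.card_V
      · exact C.L.card_F
    have h6 : E ≤ D := by
      rcases hD with rfl | rfl
      · exact le_sup_right
      · exact C.L.E_le_F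
    refine V_or_F C hF ?_ (elem_cj h4) (by rw [card_cj, h5]) ?_
    · rw [← hx1]; exact cj_mono h3
    · rw [← hx2]; exact cj_mono h6
  have huF : cj u C.L.F = R ⊔ E := by
    rcases hswap _ (Or.inr rfl) u huT with h3 | h3
    · exact h3
    · exfalso
      apply hVF
      rw [← huV] at h3
      have := congrArg (cj u⁻¹) h3
      rw [cj_inv_cj, cj_inv_cj] at this
      rw [← huV]
      exact this.symm
  have huu : ∀ k : ℕ, cj (u ^ (2 * k)) (R ⊔ E) = R ⊔ E := by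
    intro k
    induction k with
    | zero => rw [mul_zero, pow_zero, cj_one]
    | succ k ih =>
      have : u ^ (2 * (k + 1)) = u * (u * u ^ (2 * k)) := by
        rw [show 2 * (k + 1) = (2 * k + 1) + 1 by ring, pow_succ', pow_succ']
      rw [this, cj_mul, cj_mul, ih, huV, huF]
  -- an odd power of `u` lies in `T`
  obtain ⟨k, hk⟩ : ∃ k : ℕ, u ^ (2 * k + 1) ∈ TT C := by
    obtain ⟨a, m, hm, ham⟩ := Nat.exists_eq_two_pow_mul_odd (orderOf_pos u).ne'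
    obtain ⟨k, rfl⟩ := hm
    refine ⟨k, mem_isSyl2 hT (mem_top _) ⟨a, ?_⟩ ?_⟩
    · rw [← pow_mul, mul_comm, ← ham, pow_orderOf_eq_one]
    · exact forall_of_mem_normalizer (Subgroup.pow_mem _ huT _)
  have h3 : cj (u ^ (2 * k + 1)) (R ⊔ E) = R ⊔ E := cj_eq_iff.mpr (hTV hk)
  rw [pow_succ', cj_mul, huu, huV] at h3
  exact hVF h3.symm

/-- `F` contains no conjugate of an involution of `R` -/
theorem not_mem_F (C : Cfg p K R E H S P e₀ ρ h c) {t g : G} (ht : t ∈ R) (ht1 : t ≠ 1) :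
    g * t * g⁻¹ ∉ C.L.F := by
  intro hw
  obtain ⟨w, hwdef⟩ : ∃ w, w = g * t * g⁻¹ := ⟨_, rfl⟩
  rw [← hwdef] at hw
  by_cases hwE : w ∈ E
  · obtain ⟨h1, h2, h3⟩ := conj_comm (A := P) (w := w) C.L.two hwdef.symm
      (fun a ha => (C.L.EP w hwE a ha).symm)
    have h4 := card_le_32 C ht ht1 h1 h2
    rw [h3, card_P_eq C] at h4
    omega
  have hww : w * w = 1 := by
    rw [hwdef]
    calc g * t * g⁻¹ * (g * t * g⁻¹) = g * (t * t) * g⁻¹ := by group
      _ = 1 := by rw [C.b.elemR t ht]; group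
  have hF := F_elem C hw hwE hww
  obtain ⟨h1, h2, h3⟩ := conj_comm (A := C.L.F) (w := w) (C.L.two.to_le C.L.F_le_P) hwdef.symm
    (fun a ha => C.L.F_comm ha hw)
  -- `F^(g⁻¹) ≤ M`
  have hM : cj g⁻¹ C.L.F ≤ normalizer (K : Set G) := fun a ha =>
    C.b.std.le_normalizer (orderOf_eq_two ht1 (C.b.elemR t ht)) (C.b.sylR.le ht)
      (mem_centralizer_singleton_iff.mpr (h2 a ha))
  obtain ⟨Q, hQ, hFQ⟩ := exists_isSyl2 _ _ hM h1
  obtain ⟨m, hm, hmS⟩ := isSyl2_conj hQ C.d.syl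
  have h4 : cj m (cj g⁻¹ C.L.F) ≤ S := (cj_mono hFQ).trans hmS.ge
  rw [← cj_mul] at h4
  have h5 := C.b.uniq C.d.syl C.d.hV h4 (elem_cj hF) (by rw [card_cj, C.L.card_F])
  apply not_conj_F C hF (m * g⁻¹)⁻¹
  have h6 := congrArg (cj (m * g⁻¹)⁻¹) h5
  rw [cj_inv_cj] at h6
  exact h6.symm

/-! ### transfer -/

theorem card_le_of_comm {T E : Subgroup G} {w : G} (hc : ∀ y ∈ T, y * w * y⁻¹ * w⁻¹ ∈ E) :
    Nat.card T ≤ Nat.card E * Nat.card (T ⊓ centralizer ({w} : Set G) : Subgroup G) := by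
  set W : Subgroup T := (centralizer ({w} : Set G)).subgroupOf T with hW
  let φ : T ⧸ W → E := Quotient.lift (fun y : T => (⟨y * w * (y : G)⁻¹ * w⁻¹, hc y y.2⟩ : E)) (by
    intro a b hab
    have h1 : a⁻¹ * b ∈ W := QuotientGroup.leftRel_apply.mp hab
    have h2 : ((a : G)⁻¹ * b) * w = w * ((a : G)⁻¹ * b) := mem_centralizer_singleton_iff.mp h1
    apply Subtype.ext
    show (a : G) * w * (a : G)⁻¹ * w⁻¹ = b * w * (b : G)⁻¹ * w⁻¹
    congr 1
    calc (a : G) * w * (a : G)⁻¹ = a * (w * ((a : G)⁻¹ * b)) * (b : G)⁻¹ := by group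
      _ = a * (((a : G)⁻¹ * b) * w) * (b : G)⁻¹ := by rw [h2]
      _ = b * w * (b : G)⁻¹ := by group)
  have hφ : Function.Injective φ := by
    intro a b
    refine Quotient.inductionOn₂ a b ?_
    intro a b hab
    have h1 : (a : G) * w * (a : G)⁻¹ * w⁻¹ = b * w * (b : G)⁻¹ * w⁻¹ := congrArg Subtype.val hab
    have h2 : (a : G) * w * (a : G)⁻¹ = b * w * (b : G)⁻¹ := mul_right_cancel h1
    apply Quotient.sound
    refine QuotientGroup.leftRel_apply.mpr ?_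
    show (a : G)⁻¹ * b ∈ centralizer ({w} : Set G)
    rw [mem_centralizer_singleton_iff]
    calc (a : G)⁻¹ * b * w = (a : G)⁻¹ * (b * w * (b : G)⁻¹) * b := by group
      _ = (a : G)⁻¹ * (a * w * (a : G)⁻¹) * b := by rw [h2]
      _ = w * ((a : G)⁻¹ * b) := by group
  have h1 := Subgroup.card_eq_card_quotient_mul_card_subgroup W
  have h2 : Nat.card W = Nat.card (T ⊓ centralizer ({w} : Set G) : Subgroup G) := by
    rw [hW, ← Subgroup.inf_subgroupOf_left]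
    exact card_subgroupOf inf_le_left
  rw [h1, h2]
  exact Nat.mul_le_mul_right _ (Nat.card_le_card_of_injective φ hφ)

omit [Finite G] in
theorem c_ρ (C : Cfg p K R E H S P e₀ ρ h c) : c * ρ = ρ * c := C.dr.fix c C.cS

omit [Finite G] in
theorem zpow_c (C : Cfg p K R E H S P e₀ ρ h c) (i : ℤ) :
    c ^ i = 1 ∨ c ^ i = c ∨ c ^ i = ρ ∨ c ^ i = ρ * c := by
  have h4 : c ^ (4 : ℤ) = 1 := by
    have : c ^ (4 : ℤ) = (c * c) * (c * c) := by
      rw [show (4 : ℤ) = ((4 : ℕ) : ℤ) from rfl, zpow_natCast, pow_succ, pow_succ, pow_two]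
      group
    rw [this, C.cc, C.b.elemR ρ C.dr.mem]
  have hmod : c ^ i = c ^ (i % 4) := by
    conv_lhs => rw [← Int.emod_add_mul_ediv i 4]
    rw [zpow_add, zpow_mul, h4, one_zpow, mul_one]
  have h5 : i % 4 = 0 ∨ i % 4 = 1 ∨ i % 4 = 2 ∨ i % 4 = 3 := by omega
  rw [hmod]
  rcases h5 with h5 | h5 | h5 | h5
  · left; rw [h5, zpow_zero]
  · right; left; rw [h5, zpow_one]
  · right; right; left
    rw [h5, ← C.cc, show (2 : ℤ) = ((2 : ℕ) : ℤ) from rfl, zpow_natCast, pow_two]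
  · right; right; right
    rw [h5, ← C.cc, show (3 : ℤ) = ((3 : ℕ) : ℤ) from rfl, zpow_natCast, pow_succ, pow_two]

/-- `T₀ = F⟨c⟩` -/
def T0 (C : Cfg p K R E H S P e₀ ρ h c) : Subgroup G where
  carrier := {x | ∃ f ∈ C.L.F, ∃ i : ℤ, x = f * c ^ i}
  one_mem' := ⟨1, C.L.F.one_mem, 0, by group⟩
  mul_mem' := by
    rintro _ _ ⟨f, hf, i, rfl⟩ ⟨f', hf', j, rfl⟩
    have hn : c ^ i ∈ normalizer (C.L.F : Set G) :=
      Subgroup.zpow_mem _ (mem_normalizer_of_forall (c_F C)) i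
    refine ⟨f * (c ^ i * f' * (c ^ i)⁻¹), C.L.F.mul_mem hf (forall_of_mem_normalizer hn f' hf'),
      i + j, ?_⟩
    rw [zpow_add]; group
  inv_mem' := by
    rintro _ ⟨f, hf, i, rfl⟩
    have hn : c ^ (-i) ∈ normalizer (C.L.F : Set G) :=
      Subgroup.zpow_mem _ (mem_normalizer_of_forall (c_F C)) _
    refine ⟨c ^ (-i) * f⁻¹ * (c ^ (-i))⁻¹, forall_of_mem_normalizer hn _ (C.L.F.inv_mem hf), -i, ?_⟩
    group

theorem F_le_T0 (C : Cfg p K R E H S P e₀ ρ h c) : C.L.F ≤ T0 C := fun f hf =>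
  ⟨f, hf, 0, by group⟩

theorem c_T0 (C : Cfg p K R E H S P e₀ ρ h c) : c ∈ T0 C := ⟨1, C.L.F.one_mem, 1, by group⟩

theorem ρ_T0 (C : Cfg p K R E H S P e₀ ρ h c) : ρ ∈ T0 C := by
  have h1 := (T0 C).mul_mem (c_T0 C) (c_T0 C)
  rwa [C.cc] at h1

theorem T0_le (C : Cfg p K R E H S P e₀ ρ h c) : T0 C ≤ TT C := by
  rintro _ ⟨f, hf, i, rfl⟩
  exact (TT C).mul_mem (P_le C (C.L.F_le_P hf)) ((TT C).zpow_mem (c_mem C) i)

theorem t_notMem (C : Cfg p K R E H S P e₀ ρ h c) {t : G} (ht : t ∈ R) (ht1 : t ≠ 1)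
    (htρ : t ≠ ρ) : t ∉ T0 C := by
  rintro ⟨f, hf, i, hti⟩
  have hfP := C.L.F_le_P hf
  have htP := C.L.RP ht
  have hρP := ρP C
  rcases zpow_c C i with h1 | h1 | h1 | h1
  · rw [h1, mul_one] at hti
    rw [← hti] at hf
    exact ht1 (C.L.F_inf_R hf ht)
  · rw [h1] at hti
    apply c_notMem C
    have : c = f⁻¹ * t := by rw [hti]; group
    rw [this]
    exact P.mul_mem (P.inv_mem hfP) htP
  · rw [h1] at hti
    have h2 : f = t * ρ⁻¹ := by rw [hti]; group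
    have h3 : f ∈ R := by rw [h2]; exact R.mul_mem ht (R.inv_mem C.dr.mem)
    have h4 := C.L.F_inf_R hf h3
    rw [h4, one_mul] at hti
    exact htρ hti
  · rw [h1] at hti
    apply c_notMem C
    have : c = ρ⁻¹ * f⁻¹ * t := by rw [hti]; group
    rw [this]
    exact P.mul_mem (P.mul_mem (P.inv_mem hρP) (P.inv_mem hfP)) htP

theorem relIndex_T0 (C : Cfg p K R E H S P e₀ ρ h c) {t : G} (ht : t ∈ R) (ht1 : t ≠ 1)
    (htρ : t ≠ ρ) : (T0 C).relIndex (TT C) = 2 := by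
  have htT : t ∈ TT C := P_le C (C.L.RP ht)
  have htn := t_notMem C ht ht1 htρ
  have htt := C.b.elemR t ht
  refine Subgroup.index_eq_two_iff'.mpr ⟨⟨t, htT⟩, fun x => ?_⟩
  rw [mem_subgroupOf, mem_subgroupOf]
  have key : (x : G) ∈ T0 C ∨ t * (x : G) ∈ T0 C := by
    have hP : ∀ y ∈ P, y ∈ T0 C ∨ t * y ∈ T0 C := by
      intro y hy
      obtain ⟨f, hf, r, hr, rfl⟩ := C.L.S1_eq (x := y) (by rw [C.L.S1_eq_P]; exact hy)
      have h1 := F_le_T0 C hf
      have h2 : t * f * t⁻¹ ∈ T0 C := F_le_T0 C (T_F C t htT f hf)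
      rcases four_mul C.b.cardR C.b.elemR C.dr.mem C.dr.ne ht ht1 htρ hr with h3 | h3 | h3 | h3
      · left; rw [h3, mul_one]; exact h1
      · left; rw [h3]; exact (T0 C).mul_mem h1 (ρ_T0 C)
      · right
        have : t * (f * r) = (t * f * t⁻¹) * (t * t) := by rw [h3]; group
        rw [this, htt, mul_one]; exact h2
      · right
        have : t * (f * r) = (t * f * t⁻¹) * (t * t) * ρ := by rw [h3]; group
        rw [this, htt, mul_one]; exact (T0 C).mul_mem h2 (ρ_T0 C)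
    rcases x.2 with h1 | ⟨y, hy, h1⟩
    · exact hP _ h1
    · rw [h1]
      rcases hP y hy with h2 | h2
      · exact Or.inl ((T0 C).mul_mem h2 (c_T0 C))
      · right
        rw [← mul_assoc]
        exact (T0 C).mul_mem h2 (c_T0 C)
  have hnot : ¬ ((x : G) ∈ T0 C ∧ t * (x : G) ∈ T0 C) := by
    rintro ⟨h1, h2⟩
    apply htn
    have : t = t * x * (x : G)⁻¹ := by group
    rw [this]
    exact (T0 C).mul_mem h2 ((T0 C).inv_mem h1)
  by_cases hx : (x : G) ∈ T0 C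
  · exact Or.inr ⟨hx, fun hh => hnot ⟨hx, hh⟩⟩
  · exact Or.inl ⟨key.resolve_left hx, hx⟩

/-- **(5)** -/
theorem false_of_cfg [IsSimpleGroup G] (hnab : ∃ a b : G, a * b ≠ b * a)
    (C : Cfg p K R E H S P e₀ ρ h c) : False := by
  obtain ⟨t, ht, ht1, htρ, hct⟩ := exists_t C
  have htt := C.b.elemR t ht
  have hρρ := C.b.elemR ρ C.dr.mem
  obtain ⟨g, hg⟩ := B2Trans.tt hnab htt (TT C) (T0 C) (T_syl C) (T0_le C)
    (relIndex_T0 C ht ht1 htρ) (P_le C (C.L.RP ht)) (t_notMem C ht ht1 htρ)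
  obtain ⟨w, hw⟩ : ∃ w, w = g * t * g⁻¹ := ⟨_, rfl⟩
  rw [← hw] at hg
  have hww : w * w = 1 := by
    rw [hw]
    calc g * t * g⁻¹ * (g * t * g⁻¹) = g * (t * t) * g⁻¹ := by group
      _ = 1 := by rw [htt]; group
  obtain ⟨f, hf, i, hwf⟩ := hg
  have hcf := c_F C f hf
  have hρn : ρ ∉ C.L.F := fun hh => C.dr.ne (C.L.F_inf_R hh C.dr.mem)
  rcases zpow_c C i with h1 | h1 | h1 | h1
  · -- `w ∈ F`
    rw [h1, mul_one] at hwf
    exact not_mem_F C (g := g) ht ht1 (by rw [← hw, hwf]; exact hf)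
  · rw [h1] at hwf
    apply hρn
    have h2 : f * (c * f * c⁻¹) * ρ = 1 := by
      rw [← hww, hwf, ← C.cc]; group
    have hm := C.L.F.inv_mem (C.L.F.mul_mem hf hcf)
    rw [← eq_inv_of_mul_eq_one_right h2] at hm
    exact hm
  · -- `w = fρ`
    rw [h1] at hwf
    by_cases hfE : f ∈ E
    · -- `w` is conjugate to `ρ`
      obtain ⟨x, hx, hxE⟩ := C.L.exists_F
      have hth : ∀ y : G, (h * y * h⁻¹) * ρ * (h * y * h⁻¹)⁻¹ * ρ⁻¹ =
          h * (y * ρ * y⁻¹ * ρ⁻¹) * h⁻¹ := by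
        intro y
        have h2 := C.L.hR ρ C.dr.mem
        have h3 : h⁻¹ * ρ * h = ρ := by rw [mul_assoc, ← h2]; group
        have h4 : h⁻¹ * ρ⁻¹ * h = ρ⁻¹ := by
          calc h⁻¹ * ρ⁻¹ * h = (h⁻¹ * ρ * h)⁻¹ := by group
            _ = ρ⁻¹ := by rw [h3]
        calc (h * y * h⁻¹) * ρ * (h * y * h⁻¹)⁻¹ * ρ⁻¹
            = h * y * (h⁻¹ * ρ * h) * y⁻¹ * (h⁻¹ * ρ⁻¹ * h) * h⁻¹ := by group
          _ = h * (y * ρ * y⁻¹ * ρ⁻¹) * h⁻¹ := by rw [h3, h4]; group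
      have ha := comm_PR C (C.L.F_le_P hx) C.dr.mem
      have ha1 : x * ρ * x⁻¹ * ρ⁻¹ ≠ 1 := by
        intro hh
        apply hxE
        refine C.L.F_inf_V hx (C.L.cent ρ C.dr.mem C.dr.ne x (C.L.F_le_P hx) ?_)
        exact mul_inv_eq_iff_eq_mul.mp (mul_inv_eq_one.mp hh)
      obtain ⟨u, hu⟩ : ∃ u, u * ρ * u⁻¹ = w := by
        rw [hwf]
        have key : ∀ u : G, f = u * ρ * u⁻¹ * ρ⁻¹ → u * ρ * u⁻¹ = f * ρ := by
          intro u hu
          rw [hu]; group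
        rcases C.L.E_cases ha ha1 hfE with h2 | h2 | h2 | h2
        · exact ⟨1, key 1 (by rw [h2]; group)⟩
        · exact ⟨x, key x h2⟩
        · exact ⟨_, key (h * x * h⁻¹) (by rw [hth]; exact h2)⟩
        · exact ⟨_, key (h * (h * x * h⁻¹) * h⁻¹) (by rw [hth, hth]; exact h2)⟩
      obtain ⟨h2, h3, h4⟩ := conj_comm (A := S) (w := ρ) (t := t) (g := u⁻¹ * g) C.d.syl.two (by
        have : u⁻¹ * g * t * (u⁻¹ * g)⁻¹ = u⁻¹ * (g * t * g⁻¹) * u := by group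
        rw [this, ← hw, ← hu]; group) (fun a ha => C.dr.fix a ha)
      have h5 := card_le_16 C ht ht1 htρ h2 h3
      rw [h4, C.b.card_S C.d] at h5
      omega
    · -- a conjugate `xρ`, `x` fixed by `c` modulo `E`
      have hch : ∀ z : G, c * (h * z * h⁻¹) * c⁻¹ = h⁻¹ * (c * z * c⁻¹) * h := by
        intro z
        have h2 : c * h = h⁻¹ * c := by rw [← C.ch]; group
        calc c * (h * z * h⁻¹) * c⁻¹ = (c * h) * z * (c * h)⁻¹ := by group
          _ = h⁻¹ * (c * z * c⁻¹) * h := by rw [h2]; group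
      have hEi : ∀ e ∈ E, h⁻¹ * e * h ∈ E := by
        intro e he
        have h2 := C.b.bor.norm h⁻¹ (H.inv_mem C.hH) e he
        rwa [inv_inv] at h2
      have h3 : ∀ z : G, h * (h * z * h⁻¹) * h⁻¹ = h⁻¹ * z * h := by
        intro z
        calc h * (h * z * h⁻¹) * h⁻¹ = h⁻¹ * (h * (h * (h * z * h⁻¹) * h⁻¹) * h⁻¹) * h := by group
          _ = h⁻¹ * z * h := by rw [C.L.h33]
      have hρh : ∀ z : G, h * (z * ρ) * h⁻¹ = (h * z * h⁻¹) * ρ := by
        intro z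
        have h2 := C.L.hr C.dr.mem
        calc h * (z * ρ) * h⁻¹ = (h * z * h⁻¹) * (h * ρ * h⁻¹) := by group
          _ = (h * z * h⁻¹) * ρ := by rw [h2]
      obtain ⟨x, hx, hcx, g', hg'⟩ : ∃ x ∈ C.L.F, c * x * c⁻¹ * x⁻¹ ∈ E ∧
          ∃ g', x * ρ = g' * w * g'⁻¹ := by
        have hcE : ∀ y ∈ C.L.F, ∀ e ∈ E, y * e * y⁻¹ ∈ E := fun y hy e he => by
          rw [C.L.E_conj (C.L.F_le_P hy) he]; exact he
        obtain ⟨e, he, h4⟩ := C.L.F_cases hf hfE hcf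
        rcases h4 with h4 | h4 | h4 | h4
        · exfalso
          apply hfE
          have h5 : f = c⁻¹ * e * c⁻¹⁻¹ := by rw [← h4]; group
          rw [h5]
          exact C.b.S_norm_E C.d.syl (le_sup_right.trans C.d.hV) c⁻¹ (S.inv_mem C.cS) e he
        · refine ⟨f, hf, ?_, 1, by rw [hwf]; group⟩
          rw [h4]; exact hcE f hf e he
        · refine ⟨_, C.L.h_F _ (C.L.h_F _ hf), ?_, h * h, ?_⟩
          · have h5 : c * (h * (h * f * h⁻¹) * h⁻¹) * c⁻¹ =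
                (h * (h * f * h⁻¹) * h⁻¹) * (h⁻¹ * (h⁻¹ * e * h) * h) := by
              rw [hch, hch, h4, h3]; group
            rw [h5]
            exact hcE _ (C.L.h_F _ (C.L.h_F _ hf)) _ (hEi _ (hEi e he))
          · rw [← hρh, ← hρh, hwf]; group
        · refine ⟨_, C.L.h_F _ hf, ?_, h, ?_⟩
          · have h5 : c * (h * f * h⁻¹) * c⁻¹ = (h * f * h⁻¹) * (h⁻¹ * e * h) := by
              rw [hch, h4]; group
            rw [h5]
            exact hcE _ (C.L.h_F _ hf) _ (hEi e he)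
          · rw [← hρh, hwf]
      have hxρP : x * ρ ∈ P := P.mul_mem (C.L.F_le_P hx) (ρP C)
      have hS1 : ∀ y ∈ P, y ∈ A4ELayer.S1 P (R ⊔ E) := fun y hy => by
        rw [C.L.S1_eq_P]; exact hy
      have hcomm : ∀ y ∈ TT C, y * (x * ρ) * y⁻¹ * (x * ρ)⁻¹ ∈ E := by
        rintro y (hy | ⟨y, hy, rfl⟩)
        · exact C.L.comm_S1 (hS1 y hy) (hS1 _ hxρP)
        · have h4 : c * (x * ρ) * c⁻¹ * (x * ρ)⁻¹ ∈ E := by
            have h5 : c * (x * ρ) * c⁻¹ * (x * ρ)⁻¹ = c * x * c⁻¹ * x⁻¹ := by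
              calc c * (x * ρ) * c⁻¹ * (x * ρ)⁻¹ = c * x * (ρ * c⁻¹) * ρ⁻¹ * x⁻¹ := by group
                _ = c * x * (c⁻¹ * ρ) * ρ⁻¹ * x⁻¹ := by
                    rw [((show Commute c ρ from c_ρ C).inv_left).eq]
                _ = c * x * c⁻¹ * x⁻¹ := by group
            rw [h5]; exact hcx
          have h5 := C.L.comm_S1 (hS1 y hy) (hS1 _ hxρP)
          have h6 := C.L.E_conj hy h4
          have h7 : y * c * (x * ρ) * (y * c)⁻¹ * (x * ρ)⁻¹ =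
              (y * (c * (x * ρ) * c⁻¹ * (x * ρ)⁻¹) * y⁻¹) * (y * (x * ρ) * y⁻¹ * (x * ρ)⁻¹) := by
            group
          rw [h7, h6]
          exact E.mul_mem h4 h5
      have h4 := card_le_of_comm hcomm
      rw [card_T C, C.b.bor.cardE] at h4
      obtain ⟨h5, h6, h7⟩ := conj_comm (A := TT C ⊓ centralizer ({x * ρ} : Set G)) (w := x * ρ)
        (t := t) (g := g' * g) ((T_two C).to_le inf_le_left) (by
          rw [hg', hw]; group) (fun a ha => mem_centralizer_singleton_iff.mp ha.2)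
      have h8 := card_le_16 C ht ht1 htρ h5 h6
      rw [h7] at h8
      omega
  · rw [h1] at hwf
    apply hρn
    have h2 : f * (ρ * (c * f * c⁻¹) * ρ⁻¹) * ρ = 1 := by
      have h3 : ρ * c * (ρ * c) = ρ := by
        calc ρ * c * (ρ * c) = ρ * (c * ρ) * c := by group
          _ = ρ * (ρ * c) * c := by rw [c_ρ C]
          _ = (ρ * ρ) * (c * c) := by group
          _ = ρ := by rw [hρρ, C.cc, one_mul]
      calc f * (ρ * (c * f * c⁻¹) * ρ⁻¹) * ρ = f * (ρ * (c * f * c⁻¹) * ρ⁻¹) * (ρ * c * (ρ * c)) := by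
            rw [h3]
        _ = f * (ρ * c) * (f * (ρ * c)) := by group
        _ = 1 := by rw [← hwf, hww]
    have hm := C.L.F.inv_mem (C.L.F.mul_mem hf (T_F C ρ (P_le C (ρP C)) _ hcf))
    rw [← eq_inv_of_mul_eq_one_right h2] at hm
    exact hm

/-- **[A4-E]** `K = A₅`, `|M/YK|₂ = 2`, `R` a four-group: contradiction. -/
theorem false_of_base [IsSimpleGroup G] (hnab : ∃ a b : G, a * b ≠ b * a)
    (b : Base p K R E H) : False := by
  obtain ⟨S, P, e₀, ρ, h, c, C⟩ := exists_cfg b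
  exact false_of_cfg hnab C

end Cfsg.Agent.OddCyclic.A4EMain
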