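import Cfsg.Agent.OddCyclic.CompStandard

/-!
# S0342, component type, case A: the data

Facts on `K ≅ PSL₂(q)`, `q = 2^f ≥ 4`, in the ambient group `G`, with `M = N(K)`, `Y = C(K)`
(blueprints/S0342-caseA.md, (K1), (K2)).
-/

set_option autoImplicit false

namespace Cfsg.Agent.OddCyclic.CaseADefs

open Subgroup
open Cfsg.Agent.LieExceptional Cfsg.Agent.LieExceptional.CITDefs
open Cfsg.Agent.OddCyclic.CompStandard

variable {G : Type*} [Group G]

/-- `E` is a Sylow 2-subgroup of `K ≅ PSL₂(q)`, `H` a complement of `E` in its normalizer. -/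
structure Borel (K E H : Subgroup G) (q : ℕ) : Prop where
  leE : E ≤ K
  leH : H ≤ K
  elem : Elem E
  cardE : Nat.card E = q
  cardH : Nat.card H = q - 1
  cyc : IsCyclic H
  norm : ∀ h ∈ H, ∀ e ∈ E, h * e * h⁻¹ ∈ E
  cent : ∀ e ∈ E, e ≠ 1 → ∀ k ∈ K, k * e = e * k → k ∈ E
  /-- `N_K(E) = EH` -/
  nK : ∀ k ∈ K, (∀ e ∈ E, k * e * k⁻¹ ∈ E) → ∃ e ∈ E, ∃ h ∈ H, k = e * h

/-- The facts on `K ≅ PSL₂(q)` used in the counting arguments. -/
structure L2K (K : Subgroup G) (q : ℕ) : Prop where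
  four : 4 ≤ q
  pow : ∃ f : ℕ, q = 2 ^ f
  inf : K ⊓ centralizer (K : Set G) = ⊥
  borel : ∀ E : Subgroup G, IsSyl2 K E → ∃ H : Subgroup G, Borel K E H q
  /-- `C_M(E) = YE` -/
  centE : ∀ E : Subgroup G, IsSyl2 K E → ∀ x ∈ normalizer (K : Set G),
    (∀ e ∈ E, x * e = e * x) → ∃ y ∈ centralizer (K : Set G), ∃ e ∈ E, x = y * e
  /-- the fixed points on `E` of a field automorphism -/
  field : ∀ E : Subgroup G, IsSyl2 K E → ∀ x ∈ normalizer (K : Set G),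
    (∀ e ∈ E, x * e * x⁻¹ ∈ E) → (∃ n : ℕ, x ^ 2 ^ n = 1) →
    (∃ y ∈ centralizer (K : Set G), ∃ e ∈ E, x = y * e) ∨
      Nat.card (E ⊓ centralizer ({x} : Set G) : Subgroup G) ^ 2 ≤ q
  /-- `Out K` has at most one involution -/
  out : ∀ x ∈ normalizer (K : Set G), ∀ y ∈ normalizer (K : Set G),
    x * x ∈ K ⊔ centralizer (K : Set G) → y * y ∈ K ⊔ centralizer (K : Set G) →
    x ∈ K ⊔ centralizer (K : Set G) ∨ y ∈ K ⊔ centralizer (K : Set G) ∨
      x * y ∈ K ⊔ centralizer (K : Set G)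

/-- `k = 0` or `q ≥ 16` -/
def Big (K : Subgroup G) (q : ℕ) : Prop :=
  16 ≤ q ∨ ∀ x ∈ normalizer (K : Set G), (∃ n : ℕ, x ^ 2 ^ n = 1) →
    x ∈ K ⊔ centralizer (K : Set G)

/-- `R ∈ Syl₂(Y)`, `E ∈ Syl₂(K)`, `H` a complement, `V = R × E`; `R` is elementary abelian of order at
most `q` and some conjugate of `R` by an element outside `M` lies in `V`. This is the output of A1. -/
structure Beta (K R E H : Subgroup G) (q : ℕ) : Prop where
  l2 : L2K K q
  big : Big K q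
  sylR : IsSyl2 (centralizer (K : Set G)) R
  sylE : IsSyl2 K E
  bor : Borel K E H q
  elemR : Elem R
  cardR : Nat.card R ≤ q
  ex : ∃ g : G, g ∉ normalizer (K : Set G) ∧ cj g R ≤ R ⊔ E

end Cfsg.Agent.OddCyclic.CaseADefs
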