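import Mathlib
import Cfsg.Agent.OddCyclic.L2Borel
import Cfsg.Agent.LieExceptional.CITBasic

/-!
# `K ≅ SL(2,F)`, `F` of characteristic two, inside a group `G`: the action of `N(K)`
-/

set_option autoImplicit false
set_option linter.unusedSectionVars false

namespace Cfsg.Agent.OddCyclic.L2Abs

open Matrix Subgroup Cfsg.Agent.Lib.SL2Mat Cfsg.Agent.Lib.AutSL2 Cfsg.Agent.Lib.AutSL2Out
open Cfsg.Agent.Classification.QDW.TypeHom
open Cfsg.Agent.OddCyclic.L2Model Cfsg.Agent.OddCyclic.L2Borel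
open Cfsg.Agent.LieExceptional.CITDefs

local notation "UI" => Cfsg.Agent.OddCyclic.T1Sl2.UI
local notation "tu" => Cfsg.Agent.OddCyclic.T1Sl2.up
local notation "td" => Cfsg.Agent.OddCyclic.T1Sl2.dg

variable {F : Type*} [Field F] [Finite F] [CharP F 2]

local notation "SL2" => Matrix.SpecialLinearGroup (Fin 2) F

variable {G : Type*} [Group G] {K : Subgroup G} (e : K ≃* Matrix.SpecialLinearGroup (Fin 2) F)

/-- the action of `N(K)` on `SL(2,F)` -/
noncomputable def act : normalizer (K : Set G) →* MulAut SL2 :=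
  (MulAut.congr e).toMonoidHom.comp K.normalizerMonoidHom

theorem act_apply (x : normalizer (K : Set G)) (k : K) :
    act e x (e k) = e ⟨x.1 * k.1 * x.1⁻¹, (mem_normalizer_iff.mp x.2 k.1).mp k.2⟩ := by
  change e (K.normalizerMonoidHom x (e.symm (e k))) = _
  rw [e.symm_apply_apply]
  rfl

theorem act_eq_one_iff (x : normalizer (K : Set G)) :
    act e x = 1 ↔ x.1 ∈ centralizer (K : Set G) := by
  rw [mem_centralizer_iff]
  constructor
  · intro h k hk
    have h1 := act_apply e x ⟨k, hk⟩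
    rw [h] at h1
    have h2 := congrArg Subtype.val (e.injective h1)
    change k = x.1 * k * x.1⁻¹ at h2
    nth_rw 1 [h2]; group
  · intro h
    ext1 y
    obtain ⟨k, rfl⟩ := e.surjective y
    rw [act_apply]
    refine congrArg e (Subtype.ext ?_)
    change x.1 * k.1 * x.1⁻¹ = k.1
    rw [← h k.1 k.2]; group

theorem act_coe (k : K) : act e ⟨k.1, le_normalizer k.2⟩ = MulAut.conj (e k) := by
  ext1 y
  obtain ⟨k', rfl⟩ := e.surjective y
  rw [act_apply, MulAut.conj_apply, ← map_inv, ← map_mul, ← map_mul]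
  rfl

theorem act_eq_iff (x y : normalizer (K : Set G)) :
    act e x = act e y ↔ ∃ c ∈ centralizer (K : Set G), y.1 = x.1 * c := by
  constructor
  · intro h
    refine ⟨(x⁻¹ * y : normalizer (K : Set G)).1, ?_, ?_⟩
    · rw [← act_eq_one_iff e, map_mul, map_inv, h, inv_mul_cancel]
    · change y.1 = x.1 * (x.1⁻¹ * y.1)
      group
  · rintro ⟨c, hc, h⟩
    have h1 : act e (x⁻¹ * y) = 1 := by
      rw [act_eq_one_iff]
      change x.1⁻¹ * y.1 ∈ _
      rw [h]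
      have : x.1⁻¹ * (x.1 * c) = c := by group
      rw [this]; exact hc
    rw [map_mul, map_inv, inv_mul_eq_one] at h1
    exact h1

theorem mem_sup_iff (x : G) : x ∈ K ⊔ centralizer (K : Set G) ↔
    ∃ k ∈ K, ∃ c ∈ centralizer (K : Set G), x = k * c := by
  constructor
  · intro hx
    rw [← SetLike.mem_coe, Subgroup.coe_mul_of_right_le_normalizer_left] at hx
    · obtain ⟨k, hk, c, hc, rfl⟩ := hx
      exact ⟨k, hk, c, hc, rfl⟩
    · exact Subgroup.centralizer_le_normalizer _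
  · rintro ⟨k, hk, c, hc, rfl⟩
    exact mul_mem (mem_sup_left hk) (mem_sup_right hc)

/-- `x` acts as an inner automorphism iff `x ∈ K C(K)` -/
theorem typ_eq_one_iff' (x : normalizer (K : Set G)) :
    typ (act e x) = 1 ↔ x.1 ∈ K ⊔ centralizer (K : Set G) := by
  rw [inner_iff, mem_sup_iff]
  constructor
  · rintro ⟨s, hs⟩
    obtain ⟨k, rfl⟩ := e.surjective s
    rw [← act_coe] at hs
    obtain ⟨c, hc, h⟩ := (act_eq_iff e _ _).mp hs.symm
    exact ⟨k.1, k.2, c, hc, h⟩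
  · rintro ⟨k, hk, c, hc, h⟩
    refine ⟨e ⟨k, hk⟩, ?_⟩
    rw [← act_coe, eq_comm, act_eq_iff]
    exact ⟨c, hc, h⟩

/-! ### frames -/

/-- the isomorphism `e` maps `E` to the upper unitriangular matrices -/
def Fr (E : Subgroup G) : Prop := ∀ k : K, (k : G) ∈ E ↔ e k ∈ UI F

/-- the isomorphism `e` maps `H` to the diagonal matrices -/
def Ft (H : Subgroup G) : Prop := ∀ k : K, (k : G) ∈ H ↔ ∃ s : Fˣ, e k = td s

omit [Finite F] in
theorem exists_frame [Fintype F] (e₀ : K ≃* Matrix.SpecialLinearGroup (Fin 2) F) {E : Subgroup G}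
    (hE : IsSyl2 K E) : ∃ e : K ≃* Matrix.SpecialLinearGroup (Fin 2) F, Fr e E := by
  have h1 : IsPGroup 2 ((E.subgroupOf K).map e₀.toMonoidHom) :=
    (hE.two.comap_of_injective K.subtype K.subtype_injective).map _
  obtain ⟨Q, hQ⟩ := h1.exists_le_sylow
  obtain ⟨Q', hQ'⟩ : ∃ Q' : Subgroup G, Q' = ((Q : Subgroup SL2).comap e₀.toMonoidHom).map
    K.subtype := ⟨_, rfl⟩
  have h2 : IsPGroup 2 Q' := by
    rw [hQ']
    exact (Q.isPGroup'.comap_of_injective e₀.toMonoidHom e₀.injective).map _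
  have hmem : ∀ k : K, (k : G) ∈ Q' ↔ e₀ k ∈ Q := by
    intro k
    rw [hQ', Subgroup.mem_map]
    constructor
    · rintro ⟨x, hx, hxk⟩
      have : x = k := Subtype.ext hxk
      rw [← this]; exact hx
    · intro h
      exact ⟨k, h, rfl⟩
  have h3 : E ≤ Q' := by
    intro x hx
    have hxK := hE.le hx
    have := (hmem ⟨x, hxK⟩).mpr (hQ ⟨⟨x, hxK⟩, hx, rfl⟩)
    exact this
  have h4 : Q' ≤ K := by
    rw [hQ']
    rintro _ ⟨x, -, rfl⟩
    exact x.2
  have h5 : Q' = E := hE.max Q' h4 h2 h3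
  obtain ⟨g, hg⟩ := T1Sl2.exists_smul_SU Q
  refine ⟨e₀.trans (MulAut.conj g⁻¹), fun k => ?_⟩
  rw [← h5, hmem, ← hg, T1Sl2.mem_smul]
  have : (e₀.trans (MulAut.conj g⁻¹)) k = g⁻¹ * e₀ k * g := by
    rw [MulEquiv.trans_apply, MulAut.conj_apply, inv_inv]
  rw [this]
  exact Iff.rfl

section frame

variable {e} {E H : Subgroup G}

theorem Fr.symm_mem (h : Fr e E) {x : SL2} : ((e.symm x : K) : G) ∈ E ↔ x ∈ UI F := by
  rw [h, e.apply_symm_apply]

theorem Fr.exists_tu (h : Fr e E) {x : G} (hx : x ∈ E) (hxK : x ∈ K) :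
    ∃ a : F, e ⟨x, hxK⟩ = tu a :=
  ⟨_, T1Sl2.eq_up ((h ⟨x, hxK⟩).mp hx)⟩

theorem Fr.elem (h : Fr e E) (hE : E ≤ K) : Elem E := by
  intro x hx
  obtain ⟨a, ha⟩ := h.exists_tu hx (hE hx)
  have h1 : e (⟨x, hE hx⟩ * ⟨x, hE hx⟩) = 1 := by
    rw [map_mul, ha, T1Sl2.up_mul, CharTwo.add_self_eq_zero, T1Sl2.up_zero]
  exact congrArg Subtype.val ((map_eq_one_iff e e.injective).mp h1)

/-- `a ↦ e⁻¹(up a)` -/
noncomputable def ee (e : K ≃* Matrix.SpecialLinearGroup (Fin 2) F) (a : F) : G :=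
  ((e.symm (tu a) : K) : G)

theorem ee_mem_K (a : F) : ee e a ∈ K := (e.symm (tu a)).2

theorem Fr.ee_mem (h : Fr e E) (a : F) : ee e a ∈ E := h.symm_mem.mpr (T1Sl2.up_mem a)

theorem ee_inj {a b : F} (h : ee e a = ee e b) : a = b :=
  tu_inj (e.symm.injective (Subtype.ext h))

theorem ee_mul (a b : F) : ee e a * ee e b = ee e (a + b) := by
  unfold ee
  rw [← T1Sl2.up_mul, map_mul]
  rfl

theorem ee_zero : ee e 0 = 1 := by
  unfold ee
  rw [T1Sl2.up_zero, map_one]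
  rfl

theorem ee_inv (a : F) : (ee e a)⁻¹ = ee e a := by
  rw [inv_eq_iff_mul_eq_one, ee_mul, CharTwo.add_self_eq_zero, ee_zero]

theorem ee_ne_one {a : F} : ee e a ≠ 1 ↔ a ≠ 0 := by
  constructor
  · rintro h rfl
    exact h ee_zero
  · intro h h1
    rw [← ee_zero (e := e)] at h1
    exact h (ee_inj h1)

theorem e_ee (a : F) (h : ee e a ∈ K) : e ⟨ee e a, h⟩ = tu a := by
  have : (⟨ee e a, h⟩ : K) = e.symm (tu a) := rfl
  rw [this, e.apply_symm_apply]

theorem Fr.exists_ee (h : Fr e E) (hE : E ≤ K) {x : G} (hx : x ∈ E) : ∃ a : F, x = ee e a := by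
  obtain ⟨a, ha⟩ := h.exists_tu hx (hE hx)
  refine ⟨a, ?_⟩
  unfold ee
  rw [← ha, e.symm_apply_apply]

theorem Fr.card (h : Fr e E) (hE : E ≤ K) : Nat.card E = Nat.card F := by
  apply Nat.card_congr
  refine Equiv.symm (Equiv.ofBijective (fun a : F => (⟨ee e a, h.ee_mem a⟩ : E)) ⟨?_, ?_⟩)
  · intro a b hab
    have h1 : ee e a = ee e b := congrArg (fun z : E => (z : G)) hab
    exact ee_inj h1
  · rintro ⟨x, hx⟩
    obtain ⟨a, ha⟩ := h.exists_ee hE hx
    exact ⟨a, Subtype.ext ha.symm⟩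

/-- `C_K(e) = E` -/
theorem Fr.cent (h : Fr e E) (hE : E ≤ K) {x : G} (hx : x ∈ E) (hx1 : x ≠ 1) {k : G} (hk : k ∈ K)
    (hkx : k * x = x * k) : k ∈ E := by
  have hxK := hE hx
  obtain ⟨a, ha⟩ := h.exists_tu hx hxK
  have ha0 : a ≠ 0 := by
    rintro rfl
    rw [T1Sl2.up_zero] at ha
    exact hx1 (congrArg Subtype.val ((map_eq_one_iff e e.injective).mp ha))
  have h1 : e ⟨k, hk⟩ * tu a = tu a * e ⟨k, hk⟩ := by
    rw [← ha, ← map_mul, ← map_mul]
    congr 1
    exact Subtype.ext hkx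
  obtain ⟨g, hg⟩ : ∃ g, g = e ⟨k, hk⟩ := ⟨_, rfl⟩
  rw [← hg] at h1
  have e1 := congrArg (fun y : SL2 => y 0 0) h1
  have e2 := congrArg (fun y : SL2 => y 0 1) h1
  simp only [T1Sl2.mul00, T1Sl2.mul01, T1Sl2.up00, T1Sl2.up01, T1Sl2.up10, T1Sl2.up11] at e1 e2
  have h2 : g 1 0 = 0 := by
    have : a * g 1 0 = 0 := by linear_combination -e1
    exact (mul_eq_zero.mp this).resolve_left ha0
  have h3 : g 0 0 = g 1 1 := by
    have : a * (g 0 0 - g 1 1) = 0 := by linear_combination e2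
    exact sub_eq_zero.mp ((mul_eq_zero.mp this).resolve_left ha0)
  have h4 := T1Sl2.det g
  rw [h2, ← h3] at h4
  have h5 : g 0 0 = 1 := by
    apply eq_of_sq
    linear_combination h4
  exact (h ⟨k, hk⟩).mpr (by rw [← hg]; exact ⟨h5, h2⟩)

/-- `a ↦ e⁻¹(dg a)` -/
noncomputable def hh (e : K ≃* Matrix.SpecialLinearGroup (Fin 2) F) : Fˣ →* G :=
  K.subtype.comp (e.symm.toMonoidHom.comp T1Sl2.dgHom)

theorem hh_mem_K (s : Fˣ) : hh e s ∈ K := (e.symm (td s)).2

theorem hh_injective : Function.Injective (hh e) :=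
  K.subtype_injective.comp (e.symm.injective.comp T1Sl2.dgHom_injective)

theorem e_hh (s : Fˣ) (h : hh e s ∈ K) : e ⟨hh e s, h⟩ = td s := by
  have : (⟨hh e s, h⟩ : K) = e.symm (td s) := rfl
  rw [this, e.apply_symm_apply]

theorem hh_conj_ee (s : Fˣ) (a : F) : hh e s * ee e a * (hh e s)⁻¹ = ee e (s * s * a) := by
  have h1 : e.symm (td s) * e.symm (tu a) * (e.symm (td s))⁻¹ = e.symm (tu (s * s * a)) := by
    rw [← map_inv, ← map_mul, ← map_mul, td_conj_tu]
  exact congrArg Subtype.val h1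

theorem Ft.eq_range (h : Ft e H) (hH : H ≤ K) : H = (hh e).range := by
  ext x
  constructor
  · intro hx
    obtain ⟨s, hs⟩ := (h ⟨x, hH hx⟩).mp hx
    refine ⟨s, ?_⟩
    change ((e.symm (td s) : K) : G) = x
    rw [← hs, e.symm_apply_apply]
  · rintro ⟨s, rfl⟩
    exact (h ⟨hh e s, hh_mem_K s⟩).mpr ⟨s, e_hh s _⟩

theorem ft_range : Ft e (hh e).range := by
  intro k
  constructor
  · rintro ⟨s, hs⟩
    refine ⟨s, ?_⟩
    have : k = e.symm (td s) := Subtype.ext hs.symm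
    rw [this, e.apply_symm_apply]
  · rintro ⟨s, hs⟩
    refine ⟨s, ?_⟩
    change ((e.symm (td s) : K) : G) = k
    rw [← hs, e.symm_apply_apply]

theorem range_le : (hh e).range ≤ K := by
  rintro _ ⟨s, rfl⟩
  exact hh_mem_K s

theorem card_range : Nat.card (hh e).range = Nat.card F - 1 := by
  classical
  have := Fintype.ofFinite F
  rw [← Nat.card_congr (MonoidHom.ofInjective (hh_injective (e := e))).toEquiv,
    Nat.card_eq_fintype_card, Fintype.card_units, Nat.card_eq_fintype_card]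

theorem isCyclic_range : IsCyclic (hh e).range := by
  exact isCyclic_of_surjective (hh e).rangeRestrict (hh e).rangeRestrict_surjective

/-- `N_K(E) = E H` -/
theorem Fr.nK (h : Fr e E) {k : G} (hk : k ∈ K) (hn : ∀ x ∈ E, k * x * k⁻¹ ∈ E) :
    ∃ (a : F) (s : Fˣ), k = ee e a * hh e s := by
  have := Fintype.ofFinite F
  have h1 : e ⟨k, hk⟩ * tu 1 * (e ⟨k, hk⟩)⁻¹ ∈ UI F := by
    have h2 : ee e (1 : F) ∈ K := ee_mem_K 1
    have h3 := (h (⟨k, hk⟩ * ⟨ee e 1, h2⟩ * ⟨k, hk⟩⁻¹)).mp (hn _ (h.ee_mem 1))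
    rwa [map_mul, map_mul, map_inv, e_ee] at h3
  obtain ⟨t, s, hts⟩ := T1Sl2.borel_decomp (conj_tu_mem h1)
  refine ⟨t, s, ?_⟩
  have h2 : (⟨k, hk⟩ : K) = e.symm (tu t) * e.symm (td s) := by
    rw [← map_mul, ← hts, e.symm_apply_apply]
  exact congrArg Subtype.val h2

/-! ### elements of `N(K) ∩ N(E)` -/

theorem conj_ee_eq (x : normalizer (K : Set G)) {α : MulAut SL2} (hα : act e x = α) {a b : F}
    (h : α (tu a) = tu b) : x.1 * ee e a * x.1⁻¹ = ee e b := by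
  have h1 := act_apply e x ⟨ee e a, ee_mem_K a⟩
  rw [e_ee, hα, h] at h1
  have h2 := congrArg e.symm h1
  rw [e.symm_apply_apply] at h2
  exact (congrArg Subtype.val h2).symm

theorem conj_hh_eq (x : normalizer (K : Set G)) {α : MulAut SL2} (hα : act e x = α) {a b : Fˣ}
    (h : α (td a) = td b) : x.1 * hh e a * x.1⁻¹ = hh e b := by
  have h1 := act_apply e x ⟨hh e a, hh_mem_K a⟩
  rw [e_hh, hα, h] at h1
  have h2 := congrArg e.symm h1
  rw [e.symm_apply_apply] at h2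
  exact (congrArg Subtype.val h2).symm

theorem Fr.form (h : Fr e E) (_hE : E ≤ K) (x : normalizer (K : Set G))
    (hx : ∀ y ∈ E, x.1 * y * x.1⁻¹ ∈ E) :
    ∃ (t : F) (s : Fˣ), act e x = MulAut.conj (tu t * td s) * fieldAut (typ (act e x)) := by
  apply exists_form_UI
  intro y hy
  obtain ⟨k, rfl⟩ := e.surjective y
  rw [act_apply]
  have h1 : (k : G) ∈ E := (h k).mpr hy
  exact (h _).mp (hx _ h1)

theorem act_ee (a : F) : act e ⟨ee e a, le_normalizer (ee_mem_K a)⟩ = MulAut.conj (tu a) := by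
  have h1 := act_coe e ⟨ee e a, ee_mem_K a⟩
  rw [e_ee] at h1
  exact h1

theorem act_hh (s : Fˣ) : act e ⟨hh e s, le_normalizer (hh_mem_K s)⟩ = MulAut.conj (td s) := by
  have h1 := act_coe e ⟨hh e s, hh_mem_K s⟩
  rw [e_hh] at h1
  exact h1

end frame

end Cfsg.Agent.OddCyclic.L2Abs
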