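import Mathlib
import Cfsg.Agent.OddCyclic.L2Abs
import Cfsg.Agent.OddCyclic.CaseADefs
import Cfsg.Agent.LieExceptional.CITBasic

/-!
# S0342, component type, case A: the facts (K1), (K2) for `K ≅ PSL(2,q)`, `q = 2^f ≥ 4`
-/

set_option autoImplicit false
set_option linter.unusedSectionVars false

namespace Cfsg.Agent.OddCyclic.CaseAFacts

open Matrix Subgroup Cfsg.Agent.Lib.SL2Mat Cfsg.Agent.Lib.AutSL2
open Cfsg.Agent.Classification.QDW.TypeHom
open Cfsg.Agent.OddCyclic.L2Model Cfsg.Agent.OddCyclic.L2Borel Cfsg.Agent.OddCyclic.L2Abs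
open Cfsg.Agent.LieExceptional.CITDefs
open Cfsg.Agent.OddCyclic.CaseADefs

local notation "UI" => Cfsg.Agent.OddCyclic.T1Sl2.UI
local notation "tu" => Cfsg.Agent.OddCyclic.T1Sl2.up
local notation "td" => Cfsg.Agent.OddCyclic.T1Sl2.dg

variable {F : Type*} [Field F] [Finite F] [CharP F 2]

local notation "SL2" => Matrix.SpecialLinearGroup (Fin 2) F

variable {G : Type*} [Group G] {K : Subgroup G} {e : K ≃* Matrix.SpecialLinearGroup (Fin 2) F}
  {E H : Subgroup G}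

theorem borel (h : Fr e E) (hE : E ≤ K) : Borel K E (hh e).range (Nat.card F) where
  leE := hE
  leH := range_le
  elem := h.elem hE
  cardE := h.card hE
  cardH := card_range
  cyc := isCyclic_range
  norm := by
    rintro _ ⟨s, rfl⟩ x hx
    obtain ⟨a, rfl⟩ := h.exists_ee hE hx
    rw [hh_conj_ee]
    exact h.ee_mem _
  cent := fun x hx hx1 k hk hkx => h.cent hE hx hx1 hk hkx
  nK := by
    intro k hk hn
    obtain ⟨a, s, hks⟩ := h.nK hk hn
    exact ⟨_, h.ee_mem a, _, ⟨s, rfl⟩, hks⟩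

theorem inf_centralizer (e : K ≃* Matrix.SpecialLinearGroup (Fin 2) F) :
    K ⊓ centralizer (K : Set G) = ⊥ := by
  rw [eq_bot_iff]
  intro x hx
  have h1 : ∀ y, e ⟨x, hx.1⟩ * y = y * e ⟨x, hx.1⟩ := by
    intro y
    obtain ⟨k, rfl⟩ := e.surjective y
    rw [← map_mul, ← map_mul]
    congr 1
    exact Subtype.ext (mem_centralizer_iff.mp hx.2 k.1 k.2).symm
  have h2 := eq_one_of_central h1
  rw [Subgroup.mem_bot]
  exact congrArg Subtype.val ((map_eq_one_iff e e.injective).mp h2)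

/-- `C_M(E) = Y E` -/
theorem centE (h : Fr e E) (hE : E ≤ K) {x : G} (hx : x ∈ normalizer (K : Set G))
    (hc : ∀ y ∈ E, x * y = y * x) : ∃ y ∈ centralizer (K : Set G), ∃ z ∈ E, x = y * z := by
  have hn : ∀ y ∈ E, x * y * x⁻¹ ∈ E := by
    intro y hy
    rw [hc y hy, mul_inv_cancel_right]; exact hy
  obtain ⟨t, s, hts⟩ := h.form hE ⟨x, hx⟩ hn
  obtain ⟨σ, hσ⟩ : ∃ σ, σ = typ (act e ⟨x, hx⟩) := ⟨_, rfl⟩
  rw [← hσ] at hts
  have h1 : ∀ a : F, (s : F) * s * σ a = a := by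
    intro a
    have h2 := conj_ee_eq ⟨x, hx⟩ hts (form_tu t s σ a)
    change x * ee e a * x⁻¹ = _ at h2
    rw [hc _ (h.ee_mem a), mul_inv_cancel_right] at h2
    exact (ee_inj h2).symm
  have h2 : (s : F) * s = 1 := by
    have := h1 1
    rwa [map_one, mul_one] at this
  have h3 : σ = 1 := by
    ext a
    have := h1 a
    rwa [h2, one_mul] at this
  have h4 : s = 1 := by
    apply Units.ext
    apply eq_of_sq
    rw [h2, Units.val_one, one_mul]
  have h5 : act e ⟨x, hx⟩ = act e ⟨ee e t, le_normalizer (ee_mem_K t)⟩ := by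
    rw [act_ee, hts, h3, h4, map_one, mul_one]
    have : td (1 : Fˣ) = (1 : SL2) := map_one T1Sl2.dgHom
    rw [this, mul_one]
  obtain ⟨c, hc', hcx⟩ := (act_eq_iff e _ _).mp h5.symm
  refine ⟨c, hc', ee e t, h.ee_mem t, ?_⟩
  change x = ee e t * c at hcx
  rw [hcx]
  exact mem_centralizer_iff.mp hc' _ (ee_mem_K t)

/-- the order of `C_E(x)` -/
theorem card_inf_centralizer (h : Fr e E) (hE : E ≤ K) {x : G} (hx : x ∈ normalizer (K : Set G))
    {t : F} {s : Fˣ} {σ : F ≃+* F}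
    (hts : act e ⟨x, hx⟩ = MulAut.conj (tu t * td s) * fieldAut σ) :
    Nat.card (E ⊓ centralizer ({x} : Set G) : Subgroup G) =
      Nat.card {a : F // ((s : F) * s) * σ a = a} := by
  have key : ∀ a : F, ee e a ∈ centralizer ({x} : Set G) ↔ ((s : F) * s) * σ a = a := by
    intro a
    have h2 := conj_ee_eq ⟨x, hx⟩ hts (form_tu t s σ a)
    change x * ee e a * x⁻¹ = _ at h2
    rw [mem_centralizer_singleton_iff]
    constructor
    · intro h3
      rw [← h3, mul_inv_cancel_right] at h2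
      exact (ee_inj h2).symm
    · intro h3
      rw [h3] at h2
      rw [mul_inv_eq_iff_eq_mul] at h2
      exact h2.symm
  symm
  apply Nat.card_congr
  refine Equiv.ofBijective (fun a : {a : F // ((s : F) * s) * σ a = a} =>
    (⟨ee e a.1, h.ee_mem a.1, (key a.1).mpr a.2⟩ :
      (E ⊓ centralizer ({x} : Set G) : Subgroup G))) ⟨?_, ?_⟩
  · intro a b hab
    have h1 : ee e a.1 = ee e b.1 :=
      congrArg (fun z : (E ⊓ centralizer ({x} : Set G) : Subgroup G) => (z : G)) hab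
    exact Subtype.ext (ee_inj h1)
  · rintro ⟨y, hy, hyx⟩
    obtain ⟨a, rfl⟩ := h.exists_ee hE hy
    exact ⟨⟨a, (key a).mp hyx⟩, rfl⟩

theorem pow_two_pow_eq_one {c : F} {n : ℕ} (h : c ^ 2 ^ n = 1) : c = 1 := by
  induction n with
  | zero => rwa [pow_zero, pow_one] at h
  | succ n ih =>
    apply ih
    rw [pow_succ, pow_mul, pow_two] at h
    apply eq_of_sq
    rw [h, one_mul]

/-- the fixed points on `E` of a field automorphism -/
theorem field (h : Fr e E) (hE : E ≤ K) {x : G} (hx : x ∈ normalizer (K : Set G))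
    (hn : ∀ y ∈ E, x * y * x⁻¹ ∈ E) (h2 : ∃ n : ℕ, x ^ 2 ^ n = 1) :
    (∃ y ∈ centralizer (K : Set G), ∃ z ∈ E, x = y * z) ∨
      Nat.card (E ⊓ centralizer ({x} : Set G) : Subgroup G) ^ 2 ≤ Nat.card F := by
  obtain ⟨t, s, hts⟩ := h.form hE ⟨x, hx⟩ hn
  obtain ⟨σ, hσ⟩ : ∃ σ, σ = typ (act e ⟨x, hx⟩) := ⟨_, rfl⟩
  rw [← hσ] at hts
  by_cases hσ1 : σ = 1
  · left
    obtain ⟨n, hn'⟩ := h2
    apply centE h hE hx
    -- `s = 1`
    have h3 : ∀ (m : ℕ) (a : F), (act e ⟨x, hx⟩ ^ m) (tu a) = tu (((s : F) * s) ^ m * a) := by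
      intro m
      induction m with
      | zero => intro a; rw [pow_zero, pow_zero, one_mul]; rfl
      | succ m ih =>
        intro a
        rw [pow_succ, MulAut.mul_apply, hts, form_tu, ← hts, ih, hσ1, pow_succ]
        congr 1
        change _ * (_ * a) = _
        ring
    have h4 : act e ⟨x, hx⟩ ^ 2 ^ n = 1 := by
      rw [← map_pow]
      have : (⟨x, hx⟩ : normalizer (K : Set G)) ^ 2 ^ n = 1 := Subtype.ext hn'
      rw [this, map_one]
    have h5 := h3 (2 ^ n) 1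
    rw [h4, mul_one] at h5
    have h6 : ((s : F) * s) ^ 2 ^ n = 1 := (tu_inj h5).symm
    have h7 := pow_two_pow_eq_one h6
    intro y hy
    obtain ⟨a, rfl⟩ := h.exists_ee hE hy
    have h8 := conj_ee_eq ⟨x, hx⟩ hts (form_tu t s σ a)
    change x * ee e a * x⁻¹ = _ at h8
    rw [h7, hσ1, one_mul] at h8
    rw [mul_inv_eq_iff_eq_mul] at h8
    exact h8
  · right
    rw [card_inf_centralizer h hE hx hts]
    exact card_fixed_sq_le hσ1 _

theorem out (e : K ≃* Matrix.SpecialLinearGroup (Fin 2) F) {x y : G}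
    (hx : x ∈ normalizer (K : Set G)) (hy : y ∈ normalizer (K : Set G))
    (hxx : x * x ∈ K ⊔ centralizer (K : Set G)) (hyy : y * y ∈ K ⊔ centralizer (K : Set G)) :
    x ∈ K ⊔ centralizer (K : Set G) ∨ y ∈ K ⊔ centralizer (K : Set G) ∨
      x * y ∈ K ⊔ centralizer (K : Set G) := by
  have h1 := typ_eq_one_iff' e ⟨x, hx⟩
  have h2 := typ_eq_one_iff' e ⟨y, hy⟩
  have h3 := typ_eq_one_iff' e (⟨x, hx⟩ * ⟨y, hy⟩)
  have h4 := (typ_eq_one_iff' e (⟨x, hx⟩ * ⟨x, hx⟩)).mpr hxx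
  have h5 := (typ_eq_one_iff' e (⟨y, hy⟩ * ⟨y, hy⟩)).mpr hyy
  rw [map_mul, map_mul] at h4 h5
  by_cases hx1 : typ (act e ⟨x, hx⟩) = 1
  · exact Or.inl (h1.mp hx1)
  by_cases hy1 : typ (act e ⟨y, hy⟩) = 1
  · exact Or.inr (Or.inl (h2.mp hy1))
  right; right
  apply h3.mp
  rw [map_mul, map_mul, ringAut_invol h4 h5 hx1 hy1]
  exact h5

theorem l2k_of_equiv {f : ℕ} (hF : Nat.card F = 2 ^ f) (hf : 2 ≤ f)
    (e : K ≃* Matrix.SpecialLinearGroup (Fin 2) F) : L2K K (2 ^ f) := by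
  have := Fintype.ofFinite F
  refine ⟨?_, ⟨f, rfl⟩, inf_centralizer e, ?_, ?_, ?_, ?_⟩
  · calc 4 = 2 ^ 2 := rfl
      _ ≤ 2 ^ f := Nat.pow_le_pow_right (by norm_num) hf
  · intro E hE
    obtain ⟨e', he'⟩ := exists_frame e hE
    rw [← hF]
    exact ⟨_, borel he' hE.le⟩
  · intro E hE x hx hc
    obtain ⟨e', he'⟩ := exists_frame e hE
    exact centE he' hE.le hx hc
  · intro E hE x hx hn h2
    obtain ⟨e', he'⟩ := exists_frame e hE
    rw [← hF]
    exact field he' hE.le hx hn h2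
  · intro x hx y hy hxx hyy
    exact out e hx hy hxx hyy

/-- in characteristic two `PSL(2,F) = SL(2,F)` -/
noncomputable def slEquiv : SL2 ≃* Matrix.ProjectiveSpecialLinearGroup (Fin 2) F :=
  MulEquiv.ofBijective (QuotientGroup.mk' (center SL2)) (by
    refine ⟨?_, QuotientGroup.mk'_surjective _⟩
    rw [← MonoidHom.ker_eq_bot_iff, QuotientGroup.ker_mk', eq_bot_iff]
    intro x hx
    rw [Subgroup.mem_bot]
    exact eq_one_of_central fun y => (mem_center_iff.mp hx y).symm)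

end Cfsg.Agent.OddCyclic.CaseAFacts

namespace Cfsg.Agent.OddCyclic.CaseAFacts

open Matrix Subgroup
open Cfsg.Agent.OddCyclic.CaseADefs

variable {G : Type*} [Group G] {K : Subgroup G}

theorem charP_of_card {F : Type*} [Field F] [Fintype F] {f : ℕ} (hF : Fintype.card F = 2 ^ f) :
    CharP F 2 := by
  obtain ⟨q, hq⟩ := CharP.exists F
  obtain ⟨n, hqp, hn⟩ := FiniteField.card F q
  have : q ∣ 2 ^ f := by
    rw [← hF, hn]
    exact dvd_pow_self q n.pos.ne'
  have hqp' : q = 2 :=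
    (Nat.prime_dvd_prime_iff_eq hqp Nat.prime_two).1 (hqp.dvd_of_dvd_pow this)
  rwa [← hqp']

/-- **[A-0]** the facts (K1), (K2). -/
theorem l2k {F : Type*} [Field F] [Fintype F] {f : ℕ} (hF : Fintype.card F = 2 ^ f) (hf : 2 ≤ f)
    (e : K ≃* Matrix.ProjectiveSpecialLinearGroup (Fin 2) F) : L2K K (2 ^ f) := by
  have := charP_of_card hF
  exact l2k_of_equiv (by rw [Nat.card_eq_fintype_card, hF]) hf (e.trans slEquiv.symm)

end Cfsg.Agent.OddCyclic.CaseAFacts
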