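import Cfsg.Agent.OddCyclic.CompPslOuter
import Cfsg.Agent.OddCyclic.A4EMain
import Cfsg.Agent.OddCyclic.CaseAFacts
import Cfsg.Agent.S0252
import Cfsg.Agent.S0253

/-!
# S0342, component type, case A4: `K = A₅` and an outer 2-element: `|R| = 2`

`K ≅ PSL(2,4) ≅ PSL(2,5)`, `R ∈ Syl₂(C(K))`. `card_two`: in a simple group `|R| = 2`.

* all involutions of `C(K)^g ∩ N(K)`, `g ∉ N(K)`, are outer: `CompPsl.card_two_of_outer`;
* otherwise the Sylow 2-subgroup `A` of `C(K)^g ∩ N(K)` is cyclic or a four-group of inner elements; `R` is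
  cyclic (and then `CompPsl.exists_moves`, `CompPsl.card_two_of_cyclic`) or a four-group with a conjugate in
  `R × E` (and then `A4EMain.false_of_base`).
-/

set_option autoImplicit false

namespace Cfsg.Agent.OddCyclic.A4EMainTwo

open Subgroup
open Cfsg.Agent.LieExceptional Cfsg.Agent.LieExceptional.CITDefs
open Cfsg.Agent.LieExceptional.CITBasic
open Cfsg.Agent.OddCyclic.T1Defs Cfsg.Agent.OddCyclic.T1Tools
open Cfsg.Agent.OddCyclic.CompBasic Cfsg.Agent.OddCyclic.CompStandard
open Cfsg.Agent.OddCyclic.CaseADefs Cfsg.Agent.OddCyclic.CaseABase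
open Cfsg.Agent.OddCyclic.PGLTorus
open Cfsg.Agent.OddCyclic.CompPsl (Data ac ac_mul ac_eq_one ac_of_mem ac_fix ac_congr ac_inn ac_apply)

variable {G : Type*} [Group G] [Finite G] {K : Subgroup G}
variable {F : Type*} [Field F] [Finite F]

/-! ### inner elements -/

/-- 2-elements of `K` are involutions -/
theorem sq_of_two (l2 : L2K K 4) {k : G} (hk : k ∈ K) (h2 : ∃ n : ℕ, k ^ 2 ^ n = 1) :
    k * k = 1 := by
  obtain ⟨E, hE, hkE⟩ := exists_isSyl2 K (zpowers k) (zpowers_le.2 hk)
    (isPGroup_zpowers_of_pow h2)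
  obtain ⟨H, hB⟩ := l2.borel E hE
  exact hB.elem k (hkE (mem_zpowers k))

omit [Finite G] in
theorem mul_mul_KY {k y : G} (hk : k ∈ K) (hy : y ∈ centralizer (K : Set G)) :
    k * y * (k * y) = (k * k) * (y * y) := by
  have h := comm_KY k hk y hy
  calc k * y * (k * y) = k * (y * k) * y := by group
    _ = k * (k * y) * y := by rw [h]
    _ = (k * k) * (y * y) := by group

/-- inner elements of a 2-group acting faithfully are involutions -/
theorem sq_of_inner (l2 : L2K K 4) {A : Subgroup G} (hA2 : IsPGroup 2 A)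
    (hAK : A ⊓ centralizer (K : Set G) = ⊥) {a : G} (ha : a ∈ A)
    (hi : a ∈ K ⊔ centralizer (K : Set G)) : a * a = 1 := by
  obtain ⟨k, hk, y, hy, rfl⟩ := mem_KY.1 hi
  obtain ⟨n, hn⟩ := mem_of_pow_two hA2 ha
  have h1 := (pow_eq_one_KY l2.inf hk hy hn).1
  have h2 := sq_of_two l2 hk ⟨n, h1⟩
  have h3 : k * y * (k * y) = y * y := by rw [mul_mul_KY hk hy, h2, one_mul]
  have h4 : k * y * (k * y) ∈ A ⊓ centralizer (K : Set G) :=
    ⟨A.mul_mem ha ha, by rw [h3]; exact mul_mem hy hy⟩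
  rwa [hAK, mem_bot] at h4

omit [Finite G] in
theorem ac_mem_iff {x : G} (hx : x ∈ normalizer (K : Set G)) :
    ac K hx ∈ (MulAut.conj : K →* MulAut K).range ↔ x ∈ K ⊔ centralizer (K : Set G) := by
  rw [ac_inn, mem_KY]
  constructor
  · rintro ⟨k, hk, h⟩
    exact ⟨k, hk, _, h, by group⟩
  · rintro ⟨k, hk, y, hy, rfl⟩
    exact ⟨k, hk, by rwa [inv_mul_cancel_left]⟩

omit [Finite G] in
/-- the product of two outer elements is inner -/
theorem mul_outer (D : Data K F) {x y : G} (hx : x ∈ normalizer (K : Set G))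
    (hy : y ∈ normalizer (K : Set G)) (hx' : x ∉ K ⊔ centralizer (K : Set G))
    (hy' : y ∉ K ⊔ centralizer (K : Set G)) : x * y ∈ K ⊔ centralizer (K : Set G) := by
  rw [← ac_mem_iff (mul_mem hx hy), ac_mul hx hy]
  rw [← ac_mem_iff hx] at hx'
  rw [← ac_mem_iff hy] at hy'
  exact mul_mem_inn D.R (D.mem_PGL _) (D.mem_PGL _) hx' hy'

/-- the inner elements of `S ∈ Syl₂(N(K))` lie in `R × E` -/
theorem decomp (l2 : L2K K 4) {S : Subgroup G} (hS : IsSyl2 (normalizer (K : Set G)) S) {a : G}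
    (ha : a ∈ S) (hi : a ∈ K ⊔ centralizer (K : Set G)) :
    ∃ k ∈ S ⊓ K, ∃ y ∈ S ⊓ centralizer (K : Set G), a = k * y ∧ k * k = 1 := by
  obtain ⟨k, hk, y, hy, rfl⟩ := mem_KY.1 hi
  obtain ⟨n, hn⟩ := mem_of_pow_two hS.two ha
  obtain ⟨h1, h2⟩ := pow_eq_one_KY l2.inf hk hy hn
  have hR : IsSyl2 (centralizer (K : Set G)) (S ⊓ centralizer (K : Set G)) :=
    isSyl2_inf hS (centralizer_le_normalizer _) (normal_cent K)
  have hyR : y ∈ S ⊓ centralizer (K : Set G) := by
    refine mem_isSyl2 hR hy ⟨n, h2⟩ fun r hr => ?_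
    have h3 : y * r * y⁻¹ ∈ centralizer (K : Set G) := mul_mem (mul_mem hy hr.2) (inv_mem hy)
    refine Subgroup.mem_inf.mpr ⟨?_, h3⟩
    have h4 : k * y * r * (k * y)⁻¹ = y * r * y⁻¹ := by
      calc k * y * r * (k * y)⁻¹ = k * (y * r * y⁻¹) * k⁻¹ := by group
        _ = y * r * y⁻¹ := by rw [comm_KY k hk _ h3, mul_inv_cancel_right]
    rw [← h4]
    exact mul_mem (mul_mem ha hr.1) (inv_mem ha)
  refine ⟨k, ⟨?_, hk⟩, y, hyR, rfl, sq_of_two l2 hk ⟨n, h1⟩⟩
  have h3 : k = k * y * y⁻¹ := by group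
  rw [h3]
  exact S.mul_mem ha (S.inv_mem hyR.1)

theorem card_E (l2 : L2K K 4) {S : Subgroup G} (hS : IsSyl2 (normalizer (K : Set G)) S) :
    Nat.card (S ⊓ K : Subgroup G) = 4 := by
  have hSK : IsSyl2 K (S ⊓ K) := isSyl2_inf hS Subgroup.le_normalizer
    (fun d hd w hw => forall_of_mem_normalizer hd w hw)
  obtain ⟨H, hB⟩ := l2.borel _ hSK
  exact hB.cardE

/-- a 2-group of inner elements acting faithfully has order at most 4 -/
theorem card_inner_le (l2 : L2K K 4) {A : Subgroup G} (hA2 : IsPGroup 2 A)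
    (hAK : A ⊓ centralizer (K : Set G) = ⊥) (hi : A ≤ K ⊔ centralizer (K : Set G)) :
    Nat.card A ≤ 4 := by
  obtain ⟨S, hS, hAS⟩ := exists_isSyl2 (normalizer (K : Set G)) A (hi.trans KY_le) hA2
  set R := S ⊓ centralizer (K : Set G) with hR
  have hc : ∀ r ∈ R, ∀ e ∈ S ⊓ K, r * e = e * r := fun r hr e he =>
    (comm_KY e he.2 r hr.2).symm
  have h1 : A ≤ R ⊔ (S ⊓ K) := by
    intro a ha
    obtain ⟨k, hk, y, hy, rfl, -⟩ := decomp l2 hS (hAS ha) (hi ha)
    exact mul_mem (mem_sup_right hk) (mem_sup_left hy)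
  have h2 : Nat.card (R ⊔ (S ⊓ K) : Subgroup G) = Nat.card R * 4 := by
    rw [card_sup_comm hc, card_E l2 hS]
    rw [eq_bot_iff]
    intro x hx
    have h3 : x ∈ K ⊓ centralizer (K : Set G) := ⟨hx.2.2, hx.1.2⟩
    rwa [l2.inf] at h3
  have h3 : A ≤ normalizer (R : Set G) := by
    intro a ha
    refine mem_normalizer_of_forall fun r hr => Subgroup.mem_inf.mpr ⟨?_, ?_⟩
    · exact mul_mem (mul_mem (hAS ha) hr.1) (inv_mem (hAS ha))
    · exact normal_cent K a (hS.le (hAS ha)) r hr.2
  have h4 := card_sup_mul (K := R) (H := A) h3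
  have h5 : R ⊓ A = ⊥ := by
    rw [eq_bot_iff, ← hAK]
    exact le_inf inf_le_right (inf_le_left.trans inf_le_right)
  rw [h5, Subgroup.card_bot, mul_one] at h4
  have h6 : Nat.card (R ⊔ A : Subgroup G) ≤ Nat.card (R ⊔ (S ⊓ K) : Subgroup G) :=
    Subgroup.card_le_of_le (sup_le le_sup_left h1)
  rw [h4, h2] at h6
  exact Nat.le_of_mul_le_mul_left h6 Nat.card_pos

/-! ### the types of `A` -/

/-- A 2-group acting faithfully on `K`, whose involutions are inner, is cyclic or a four-group of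
inner elements. -/
theorem cyclic_or (D : Data K F) (l2 : L2K K 4) {A : Subgroup G} (hA2 : IsPGroup 2 A)
    (hAM : A ≤ normalizer (K : Set G)) (hAK : A ⊓ centralizer (K : Set G) = ⊥)
    (hin : ∀ a ∈ A, orderOf a = 2 → a ∈ K ⊔ centralizer (K : Set G)) :
    IsCyclic A ∨ (Nat.card A = 4 ∧ A ≤ K ⊔ centralizer (K : Set G)) := by
  classical
  have hsq : ∀ a ∈ A, a ∈ K ⊔ centralizer (K : Set G) → a * a = 1 := fun a ha hi =>
    sq_of_inner l2 hA2 hAK ha hi
  by_cases hout : ∃ x ∈ A, x ∉ K ⊔ centralizer (K : Set G)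
  · left
    obtain ⟨x, hxA, hx⟩ := hout
    have hxM := hAM hxA
    have hx1 : x ≠ 1 := by
      rintro rfl
      exact hx (one_mem _)
    have hout2 : ∀ y ∈ A, y ∉ K ⊔ centralizer (K : Set G) → y * y ≠ 1 := by
      intro y hyA hy h1
      refine hy (hin y hyA (orderOf_eq_two ?_ h1))
      rintro rfl
      exact hy (one_mem _)
    set e := x * x with he
    have heA : e ∈ A := mul_mem hxA hxA
    have hei : e ∈ K ⊔ centralizer (K : Set G) := mul_outer D hxM hxM hx hx
    have he1 : e ≠ 1 := hout2 x hxA hx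
    have hee : e * e = 1 := hsq e heA hei
    have hxe : x * e = e * x := by rw [he]; group
    -- the inner elements
    set A₀ : Subgroup G := A ⊓ (K ⊔ centralizer (K : Set G)) with hA₀
    have hA₀c : Nat.card A₀ ≤ 4 := card_inner_le l2 (hA2.to_le inf_le_left)
      (by rw [eq_bot_iff, ← hAK]; exact inf_le_inf_right _ inf_le_left) inf_le_right
    have hcomm : ∀ a ∈ A₀, ∀ b ∈ A₀, a * b = b * a := by
      intro a ha b hb
      have h1 := hsq a ha.1 ha.2
      have h2 := hsq b hb.1 hb.2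
      have h3 := hsq (a * b) (mul_mem ha.1 hb.1) (mul_mem ha.2 hb.2)
      have ha' : a⁻¹ = a := inv_eq_of_mul_eq_one_left h1
      have hb' : b⁻¹ = b := inv_eq_of_mul_eq_one_left h2
      calc a * b = (a * b)⁻¹ := (inv_eq_of_mul_eq_one_left h3).symm
        _ = b⁻¹ * a⁻¹ := mul_inv_rev _ _
        _ = b * a := by rw [ha', hb']
    have key : ∀ f ∈ A₀, f = 1 ∨ f = e := by
      intro f hf
      by_contra hno
      push Not at hno
      obtain ⟨hf1, hfe⟩ := hno
      have hff := hsq f hf.1 hf.2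
      have hef := hcomm e ⟨heA, hei⟩ f hf
      have hefne : e * f ≠ 1 := by
        intro h1
        apply hfe
        calc f = (e * e) * f := by rw [hee, one_mul]
          _ = e * (e * f) := by group
          _ = e := by rw [h1, mul_one]
      -- the four elements
      have hfour : ∀ c ∈ A₀, c = 1 ∨ c = e ∨ c = f ∨ c = e * f := by
        intro c hc
        by_contra hno
        push Not at hno
        obtain ⟨c1, ce, cf, cef⟩ := hno
        have hsub : (({1, e, f, e * f, c} : Finset G) : Set G) ⊆ (A₀ : Set G) := by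
          intro z hz
          simp only [Finset.coe_insert, Finset.coe_singleton, Set.mem_insert_iff,
            Set.mem_singleton_iff] at hz
          rcases hz with rfl | rfl | rfl | rfl | rfl
          · exact one_mem _
          · exact ⟨heA, hei⟩
          · exact hf
          · exact mul_mem (show e ∈ A₀ from ⟨heA, hei⟩) hf
          · exact hc
        have h5 : ({1, e, f, e * f, c} : Finset G).card = 5 := by
          have hfe' : e ≠ f := fun h => hfe h.symm
          have h1 : e ≠ e * f := by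
            intro h
            apply hf1
            have : e * 1 = e * f := by rw [mul_one]; exact h
            exact (mul_left_cancel this).symm
          have h2 : f ≠ e * f := by
            intro h
            apply he1
            have : 1 * f = e * f := by rw [one_mul]; exact h
            exact (mul_right_cancel this).symm
          rw [Finset.card_insert_of_notMem, Finset.card_insert_of_notMem,
            Finset.card_insert_of_notMem, Finset.card_insert_of_notMem, Finset.card_singleton]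
          · simp only [Finset.mem_singleton]; exact fun h => cef h.symm
          · simp only [Finset.mem_insert, Finset.mem_singleton, not_or]
            exact ⟨h2, fun h => cf h.symm⟩
          · simp only [Finset.mem_insert, Finset.mem_singleton, not_or]
            exact ⟨hfe', h1, fun h => ce h.symm⟩
          · simp only [Finset.mem_insert, Finset.mem_singleton, not_or]
            exact ⟨he1.symm, hf1.symm, hefne.symm, c1.symm⟩
        have h6 : 5 ≤ Nat.card A₀ := by
          calc 5 = (({1, e, f, e * f, c} : Finset G) : Set G).ncard := by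
                rw [Set.ncard_coe_finset, h5]
            _ ≤ (A₀ : Set G).ncard := Set.ncard_le_ncard hsub (Set.toFinite _)
            _ = Nat.card A₀ := rfl
        omega
      -- the commutator
      have hKYn : x * f * x⁻¹ ∈ K ⊔ centralizer (K : Set G) := by
        obtain ⟨k, hk, y, hy, hfk⟩ := mem_KY.1 hf.2
        rw [mem_KY]
        refine ⟨x * k * x⁻¹, forall_of_mem_normalizer hxM k hk, x * y * x⁻¹,
          normal_cent K x hxM y hy, ?_⟩
        rw [hfk]; group
      have hxf : x * f * x⁻¹ ∈ A₀ :=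
        Subgroup.mem_inf.mpr ⟨mul_mem (mul_mem hxA hf.1) (inv_mem hxA), hKYn⟩
      have hxfo : x * f ∉ K ⊔ centralizer (K : Set G) := fun h1 =>
        hx ((Subgroup.mul_mem_cancel_right _ hf.2).1 h1)
      have hsqxf := hout2 (x * f) (mul_mem hxA hf.1) hxfo
      have hcomp : x * f * (x * f) = (x * f * x⁻¹) * (e * f) := by rw [he]; group
      rw [hcomp] at hsqxf
      have hxff : x * f = f * x := by
        rcases hfour _ hxf with h1 | h1 | h1 | h1
        · exfalso
          apply hf1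
          have : x * f * x⁻¹ = x * 1 * x⁻¹ := by rw [h1]; group
          exact mul_left_cancel (mul_right_cancel this)
        · exfalso
          apply hfe
          have : x * f * x⁻¹ = x * e * x⁻¹ := by rw [h1, hxe, mul_inv_cancel_right]
          exact mul_left_cancel (mul_right_cancel this)
        · exact mul_inv_eq_iff_eq_mul.1 h1
        · exfalso
          apply hsqxf
          rw [h1]
          calc e * f * (e * f) = e * (f * e) * f := by group
            _ = e * (e * f) * f := by rw [hef]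
            _ = (e * e) * (f * f) := by group
            _ = 1 := by rw [hee, hff, one_mul]
      -- `x` centralizes a four-group of `K`
      obtain ⟨k₁, hk₁, y₁, hy₁, hek⟩ := mem_KY.1 hei
      obtain ⟨k₂, hk₂, y₂, hy₂, hfk⟩ := mem_KY.1 hf.2
      have huniq : ∀ {k k' y y' : G}, k ∈ K → k' ∈ K → y ∈ centralizer (K : Set G) →
          y' ∈ centralizer (K : Set G) → k * y = k' * y' → k = k' ∧ y = y' := by
        intro k k' y y' hk hk' hy hy' h
        have h1 : k'⁻¹ * k = y' * y⁻¹ := by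
          calc k'⁻¹ * k = k'⁻¹ * (k * y) * y⁻¹ := by group
            _ = k'⁻¹ * (k' * y') * y⁻¹ := by rw [h]
            _ = y' * y⁻¹ := by group
        have h2 : k'⁻¹ * k ∈ K ⊓ centralizer (K : Set G) :=
          Subgroup.mem_inf.mpr ⟨mul_mem (inv_mem hk') hk, by
            rw [h1]; exact mul_mem hy' (inv_mem hy)⟩
        rw [l2.inf, mem_bot] at h2
        have h3 : k = k' := (inv_mul_eq_one.1 h2).symm
        refine ⟨h3, ?_⟩
        rw [h3] at h
        exact mul_left_cancel h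
      have hnotc : ∀ a ∈ A₀, a ≠ 1 → a ∉ centralizer (K : Set G) := by
        intro a ha ha1 hac
        have h1 : a ∈ A ⊓ centralizer (K : Set G) := ⟨ha.1, hac⟩
        rw [hAK, mem_bot] at h1
        exact ha1 h1
      have hk₁1 : k₁ ≠ 1 := by
        rintro rfl
        exact hnotc e ⟨heA, hei⟩ he1 (by rw [hek, one_mul]; exact hy₁)
      have hk₂1 : k₂ ≠ 1 := by
        rintro rfl
        exact hnotc f hf hf1 (by rw [hfk, one_mul]; exact hy₂)
      have hk₁₁ : k₁ * k₁ = 1 := by
        have h1 : (k₁ * k₁) * (y₁ * y₁) = 1 * 1 := by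
          rw [← mul_mul_KY hk₁ hy₁, ← hek, hee, one_mul]
        exact (huniq (mul_mem hk₁ hk₁) (one_mem _) (mul_mem hy₁ hy₁) (one_mem _) h1).1
      have hk₂₂ : k₂ * k₂ = 1 := by
        have h1 : (k₂ * k₂) * (y₂ * y₂) = 1 * 1 := by
          rw [← mul_mul_KY hk₂ hy₂, ← hfk, hff, one_mul]
        exact (huniq (mul_mem hk₂ hk₂) (one_mem _) (mul_mem hy₂ hy₂) (one_mem _) h1).1
      have hprod : e * f = (k₁ * k₂) * (y₁ * y₂) := by
        calc e * f = k₁ * y₁ * (k₂ * y₂) := by rw [hek, hfk]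
          _ = k₁ * (y₁ * k₂) * y₂ := by group
          _ = k₁ * (k₂ * y₁) * y₂ := by rw [comm_KY k₂ hk₂ y₁ hy₁]
          _ = (k₁ * k₂) * (y₁ * y₂) := by group
      have hprod' : f * e = (k₂ * k₁) * (y₂ * y₁) := by
        calc f * e = k₂ * y₂ * (k₁ * y₁) := by rw [hek, hfk]
          _ = k₂ * (y₂ * k₁) * y₁ := by group
          _ = k₂ * (k₁ * y₂) * y₁ := by rw [comm_KY k₁ hk₁ y₂ hy₂]
          _ = (k₂ * k₁) * (y₂ * y₁) := by group
      have hk₁₂ : k₁ * k₂ = k₂ * k₁ := by
        refine (huniq (mul_mem hk₁ hk₂) (mul_mem hk₂ hk₁) (mul_mem hy₁ hy₂)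
          (mul_mem hy₂ hy₁) ?_).1
        rw [← hprod, ← hprod', hef]
      have hkne : k₁ ≠ k₂ := by
        rintro rfl
        refine hnotc (e * f) (mul_mem (show e ∈ A₀ from ⟨heA, hei⟩) hf) hefne ?_
        rw [hprod, hk₁₁, one_mul]
        exact mul_mem hy₁ hy₂
      have hfix : ∀ {a k y : G}, k ∈ K → y ∈ centralizer (K : Set G) → a = k * y →
          x * a = a * x → x * k = k * x := by
        intro a k y hk hy hak hxa
        have h1 : (x * k * x⁻¹) * (x * y * x⁻¹) = k * y := by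
          calc (x * k * x⁻¹) * (x * y * x⁻¹) = x * (k * y) * x⁻¹ := by group
            _ = k * y := by rw [← hak, hxa, mul_inv_cancel_right]
        have h2 := (huniq (forall_of_mem_normalizer hxM k hk) hk (normal_cent K x hxM y hy) hy
          h1).1
        exact mul_inv_eq_iff_eq_mul.1 h2
      have hx₁ := hfix hk₁ hy₁ hek hxe
      have hx₂ := hfix hk₂ hy₂ hfk hxff
      have hfour' : Cfsg.Agent.GH.L2Aut.Four (⟨k₁, hk₁⟩ : K) ⟨k₂, hk₂⟩ :=
        ⟨Subtype.ext hk₁₁, Subtype.ext hk₂₂, fun h => hk₁1 (congrArg Subtype.val h),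
          fun h => hk₂1 (congrArg Subtype.val h), fun h => hkne (congrArg Subtype.val h),
          Subtype.ext hk₁₂⟩
      apply hx
      rw [← ac_mem_iff hxM]
      rcases D.R.fix_four hfour' (D.mem_PGL (ac K hxM)) ((ac_fix hxM hk₁).2 hx₁)
        ((ac_fix hxM hk₂).2 hx₂) with h3 | h3 | h3 | h3
      · rw [h3]; exact one_mem _
      · rw [h3]; exact ⟨_, rfl⟩
      · rw [h3]; exact ⟨_, rfl⟩
      · rw [h3]; exact ⟨_, rfl⟩
    have hgen : ∀ a ∈ A, a ∈ zpowers x := by
      intro a ha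
      have hez : e ∈ zpowers x := mul_mem (mem_zpowers x) (mem_zpowers x)
      by_cases hai : a ∈ K ⊔ centralizer (K : Set G)
      · rcases key a ⟨ha, hai⟩ with rfl | rfl
        · exact one_mem _
        · exact hez
      · have hx' : x⁻¹ ∉ K ⊔ centralizer (K : Set G) := fun h => hx ((inv_mem_iff).1 h)
        have h1 : x⁻¹ * a ∈ A₀ := Subgroup.mem_inf.mpr
          ⟨mul_mem (inv_mem hxA) ha, mul_outer D (inv_mem hxM) (hAM ha) hx' hai⟩
        have h2 : a = x * (x⁻¹ * a) := by group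
        rcases key _ h1 with h3 | h3
        · rw [h2, h3, mul_one]; exact mem_zpowers x
        · rw [h2, h3]; exact mul_mem (mem_zpowers x) hez
    have h1 : A = zpowers x := le_antisymm hgen (zpowers_le.2 hxA)
    rw [h1]
    infer_instance
  · push Not at hout
    have h4 := card_inner_le l2 hA2 hAK hout
    obtain ⟨n, hn⟩ := IsPGroup.iff_card.1 hA2
    have hn2 : n ≤ 2 := by
      by_contra hlt
      have : (2 : ℕ) ^ 3 ≤ 2 ^ n := Nat.pow_le_pow_right (by norm_num) (by omega)
      omega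
    have hpf : Fact (Nat.Prime 2) := ⟨Nat.prime_two⟩
    interval_cases n
    · left
      have : A = ⊥ := Subgroup.card_eq_one.1 (by rw [hn, pow_zero])
      rw [this]; infer_instance
    · left
      exact isCyclic_of_prime_card (p := 2) (by rw [hn, pow_one])
    · right
      exact ⟨by rw [hn]; norm_num, hout⟩

/-! ### inner and outer involutions of `C(K)^g ∩ N(K)` -/

/-- `C(K)^g ∩ N(K)` does not contain both inner and outer involutions -/
theorem not_both {p₀ : ℕ} (h : Std p₀ K) (D : Data K F) (hF : Nat.card F = 5) {g : G}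
    {a b : G} (haY : a ∈ cj g (centralizer (K : Set G)))
    (haM : a ∈ normalizer (K : Set G)) (ha2 : orderOf a = 2)
    (haK : a ∉ centralizer (K : Set G))
    (hai : a ∈ K ⊔ centralizer (K : Set G))
    (hbY : b ∈ cj g (centralizer (K : Set G))) (hbM : b ∈ normalizer (K : Set G))
    (hb2 : orderOf b = 2) (hbi : b ∉ K ⊔ centralizer (K : Set G)) : False := by
  have hmu : mu (Nat.card F) = 6 := by rw [hF]; rfl
  have hbi' : ac K hbM ∉ (MulAut.conj : K →* MulAut K).range := by rwa [ac_mem_iff hbM]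
  have h3 : 3 ∣ mu (Nat.card F) / 2 := by rw [hmu]
  obtain ⟨x, hxK, hxg, hxo, -, -⟩ := CompPsl.exists_x h D hbY hbM hb2 hbi' Nat.prime_three
    (by norm_num) h3
  have hax : a * x = x * a := by
    rw [cj_centralizer] at haY
    exact (mem_centralizer_iff.1 haY x hxg).symm
  have h1 : ac K haM ≠ 1 := fun h' => haK ((ac_eq_one haM).1 h')
  refine CompPsl.not_inner_of_dvd_mu D h1 (CompPsl.ac_sq haM ha2) (y := ⟨x, hxK⟩)
    ((ac_fix haM hxK).2 hax) Nat.prime_three (by norm_num) ?_ ?_ ((ac_mem_iff haM).2 hai)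
  · rw [Subgroup.orderOf_mk]; exact hxo
  · rw [hmu]; norm_num

/-- A 2-group acting faithfully on `K`, whose involutions are outer, has order at most 2. -/
theorem cyclic_of_outer (D : Data K F) (l2 : L2K K 4) {A : Subgroup G} (hA2 : IsPGroup 2 A)
    (hAM : A ≤ normalizer (K : Set G)) (hAK : A ⊓ centralizer (K : Set G) = ⊥)
    (hout : ∀ a ∈ A, orderOf a = 2 → a ∉ K ⊔ centralizer (K : Set G)) : IsCyclic A := by
  have hin : ∀ a ∈ A, a ∈ K ⊔ centralizer (K : Set G) → a = 1 := by
    intro a ha hi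
    by_contra h1
    exact hout a ha (orderOf_eq_two h1 (sq_of_inner l2 hA2 hAK ha hi)) hi
  by_cases hex : ∃ x ∈ A, x ≠ 1
  · obtain ⟨x, hxA, hx1⟩ := hex
    have hx : x ∉ K ⊔ centralizer (K : Set G) := fun h => hx1 (hin x hxA h)
    have hx' : x⁻¹ ∉ K ⊔ centralizer (K : Set G) := fun h => hx ((inv_mem_iff).1 h)
    have h1 : A = zpowers x := by
      refine le_antisymm (fun a ha => ?_) (zpowers_le.2 hxA)
      by_cases ha1 : a = 1
      · rw [ha1]; exact one_mem _
      · have h2 : a ∉ K ⊔ centralizer (K : Set G) := fun h => ha1 (hin a ha h)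
        have h3 := hin (x⁻¹ * a) (mul_mem (inv_mem hxA) ha)
          (mul_outer D (inv_mem (hAM hxA)) (hAM ha) hx' h2)
        rw [← inv_mul_eq_one.1 h3]
        exact mem_zpowers x
    rw [h1]; infer_instance
  · push Not at hex
    have : A = ⊥ := by
      rw [eq_bot_iff]
      exact fun a ha => hex a ha
    rw [this]; infer_instance

/-- The types of a 2-subgroup of `C(K)^g ∩ N(K)`. -/
theorem types {p₀ : ℕ} (h : Std p₀ K) (D : Data K F) (hF : Nat.card F = 5) (l2 : L2K K 4) {g : G}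
    (hg : g ∉ normalizer (K : Set G)) {A : Subgroup G} (hA2 : IsPGroup 2 A)
    (hAY : A ≤ cj g (centralizer (K : Set G))) (hAM : A ≤ normalizer (K : Set G)) :
    IsCyclic A ∨ (Nat.card A = 4 ∧ A ≤ K ⊔ centralizer (K : Set G)) := by
  have hAK := h.inf_eq_bot hg hA2 hAY
  by_cases hin : ∃ a ∈ A, orderOf a = 2 ∧ a ∈ K ⊔ centralizer (K : Set G)
  · obtain ⟨a, haA, ha2, hai⟩ := hin
    refine cyclic_or D l2 hA2 hAM hAK fun b hbA hb2 => ?_
    by_contra hbi
    refine not_both h D hF (hAY haA) (hAM haA) ha2 (fun haK => ?_) hai (hAY hbA) (hAM hbA) hb2 hbi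
    have h1 : a ∈ A ⊓ centralizer (K : Set G) := ⟨haA, haK⟩
    rw [hAK, mem_bot] at h1
    exact ne_one_of_orderOf ha2 h1
  · push Not at hin
    exact Or.inl (cyclic_of_outer D l2 hA2 hAM hAK hin)

/-! ### `R` is cyclic if `A'` is -/

/-- a central involution of a 2-group -/
theorem exists_central_inv {R : Subgroup G} (hR2 : IsPGroup 2 R) (hR1 : R ≠ ⊥) :
    ∃ z ∈ R, orderOf z = 2 ∧ ∀ w ∈ R, z * w = w * z := by
  have hpf : Fact (Nat.Prime 2) := ⟨Nat.prime_two⟩
  have hnt : Nontrivial R := (Subgroup.nontrivial_iff_ne_bot _).mpr hR1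
  have h1 := hR2.bot_lt_center
  have h2 : Nontrivial (center R) := (Subgroup.nontrivial_iff_ne_bot _).mpr h1.ne'
  have h3 : IsPGroup 2 (center R) := hR2.to_subgroup _
  obtain ⟨n, hn0, hn⟩ := h3.nontrivial_iff_card.mp h2
  obtain ⟨⟨⟨z, hzR⟩, hzc⟩, hz2⟩ := exists_prime_orderOf_dvd_card' (G := center R) 2
    (by rw [hn]; exact dvd_pow_self 2 (Nat.pos_iff_ne_zero.mp hn0))
  rw [Subgroup.orderOf_mk, Subgroup.orderOf_mk] at hz2
  refine ⟨z, hzR, hz2, fun y hy => ?_⟩
  exact (congrArg Subtype.val (mem_center_iff.mp hzc ⟨y, hy⟩)).symm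

/-- The action of an inner involution `a = k y` of `A` on `R`. -/
theorem iff_mem {p₀ : ℕ} (h : Std p₀ K) {g : G} (hg : g ∉ normalizer (K : Set G))
    {S P : Subgroup G} (hP : PairAt K g S P) {k y : G}
    (haP : k * y ∈ P) (haY : k * y ∈ cj g (centralizer (K : Set G)))
    (ha2 : orderOf (k * y) = 2) (hk : k ∈ K) :
    ∀ r ∈ S ⊓ centralizer (K : Set G), y * r = r * y ↔ r ∈ P := by
  intro r hr
  rw [← hP.mem_iff h hg ⟨haP, haY⟩ ha2 hr.1 hr.2]
  have hkr := comm_KY k hk r hr.2
  constructor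
  · intro h2
    calc k * y * r = k * (y * r) := by group
      _ = (k * r) * y := by rw [h2]; group
      _ = r * (k * y) := by rw [hkr]; group
  · intro h2
    have h3 : k * (y * r) = k * (r * y) := by
      calc k * (y * r) = k * y * r := by group
        _ = r * k * y := by rw [h2]; group
        _ = k * (r * y) := by rw [← hkr]; group
    exact mul_left_cancel h3

theorem cyclic_of_A' {p₀ : ℕ} (h : Std p₀ K) (l2 : L2K K 4) {g : G}
    (hg : g ∉ normalizer (K : Set G)) {S P : Subgroup G} (hP : PairAt K g S P) {a : G}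
    (haP : a ∈ P) (haY : a ∈ cj g (centralizer (K : Set G)))
    (ha2 : orderOf a = 2) (hai : a ∈ K ⊔ centralizer (K : Set G))
    (hA'c : IsCyclic (P ⊓ centralizer (K : Set G) : Subgroup G)) :
    IsCyclic (S ⊓ centralizer (K : Set G) : Subgroup G) := by
  set R := S ⊓ centralizer (K : Set G) with hR
  have hRs : IsSyl2 (centralizer (K : Set G)) R := hP.sylR
  obtain ⟨k, hk, y, hyR, rfl, hkk⟩ := decomp l2 hP.sylM (hP.le haP) hai
  have hiff := iff_mem h hg hP haP haY ha2 hk.2
  have hyy : y * y = 1 := by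
    have h1 := sq_of_orderOf ha2
    rwa [mul_mul_KY hk.2 hyR.2, hkk, one_mul] at h1
  suffices hle : R ≤ P ⊓ centralizer (K : Set G) by
    exact isCyclic_of_injective (Subgroup.inclusion hle) (Subgroup.inclusion_injective hle)
  by_cases hy1 : y = 1
  · intro r hr
    exact ⟨(hiff r hr).1 (by rw [hy1, one_mul, mul_one]), hr.2⟩
  · have hyo : orderOf y = 2 := orderOf_eq_two hy1 hyy
    have hyP : y ∈ P := (hiff y hyR).1 rfl
    obtain ⟨z, hzR, hz2, hzc⟩ := exists_central_inv hRs.two (by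
      intro hb
      rw [← hR, hb, mem_bot] at hyR
      exact hy1 hyR)
    have hzP : z ∈ P := (hiff z hzR).1 (hzc y hyR).symm
    have hzy : z = y := CompPsl.eq_of_cyclic hA'c ⟨hzP, hzR.2⟩ ⟨hyP, hyR.2⟩ hz2 hyo
    intro r hr
    exact ⟨(hiff r hr).1 (by rw [← hzy]; exact hzc r hr), hr.2⟩

theorem isCyclic_of_syl {Y R R' : Subgroup G} (hR : IsSyl2 Y R) (hR' : IsSyl2 Y R')
    (hc : IsCyclic R) : IsCyclic R' := by
  obtain ⟨m, -, rfl⟩ := isSyl2_conj hR hR'
  exact isCyclic_of_surjective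
    (R.equivMapOfInjective (MulAut.conj m).toMonoidHom (MulAut.conj m).injective).toMonoidHom
    (R.equivMapOfInjective _ (MulAut.conj m).injective).surjective

omit [Finite G] in
theorem isCyclic_cj {R : Subgroup G} {g : G} (hc : IsCyclic R) : IsCyclic (cj g R) :=
  isCyclic_of_surjective
    (R.equivMapOfInjective (MulAut.conj g).toMonoidHom (MulAut.conj g).injective).toMonoidHom
    (R.equivMapOfInjective _ (MulAut.conj g).injective).surjective

omit [Finite G] in
theorem isCyclic_of_cj {R : Subgroup G} {g : G} (hc : IsCyclic (cj g R)) : IsCyclic R := by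
  rw [← cj_inv_cj g R]
  exact isCyclic_cj hc

/-- If `A`, `A'` are four-groups of inner elements, then `R = A'`. -/
theorem eq_A' {p₀ : ℕ} (h : Std p₀ K) (l2 : L2K K 4) {g : G}
    (hg : g ∉ normalizer (K : Set G)) {S P : Subgroup G} (hP : PairAt K g S P)
    (hA4 : Nat.card (P ⊓ cj g (centralizer (K : Set G)) : Subgroup G) = 4)
    (hAi : P ⊓ cj g (centralizer (K : Set G)) ≤ K ⊔ centralizer (K : Set G))
    (hA'4 : Nat.card (P ⊓ centralizer (K : Set G) : Subgroup G) = 4) :
    S ⊓ centralizer (K : Set G) = P ⊓ centralizer (K : Set G) := by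
  classical
  set R := S ⊓ centralizer (K : Set G) with hR
  set A := P ⊓ cj g (centralizer (K : Set G)) with hA
  set A' := P ⊓ centralizer (K : Set G) with hA'
  have hRs : IsSyl2 (centralizer (K : Set G)) R := hP.sylR
  have hA2 : IsPGroup 2 A := hP.sylA.two
  have hAK : A ⊓ centralizer (K : Set G) = ⊥ := h.inf_eq_bot hg hA2 inf_le_right
  have hsq : ∀ a ∈ A, a * a = 1 := fun a ha => sq_of_inner l2 hA2 hAK ha (hAi ha)
  have hA'R : A' ≤ R := inf_le_inf_right _ hP.le
  apply le_antisymm _ hA'R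
  have hdec : ∀ a : A, ∃ y : A', ∃ k ∈ K, (a : G) = k * y ∧
      ∀ r ∈ R, a ≠ 1 → ((y : G) * r = r * y ↔ r ∈ P) := by
    intro a
    by_cases ha1 : a = 1
    · exact ⟨1, 1, one_mem _, by rw [ha1]; simp, fun _ _ h' => absurd ha1 h'⟩
    · have ha1' : (a : G) ≠ 1 := fun h' => ha1 (Subtype.ext h')
      have ha2 : orderOf (a : G) = 2 := orderOf_eq_two ha1' (hsq a a.2)
      obtain ⟨k, hk, y, hyR, hay, -⟩ := decomp l2 hP.sylM (hP.le a.2.1) (hAi a.2)
      have hmem := a.2
      rw [hay] at ha2 hmem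
      have hiff := iff_mem h hg hP hmem.1 hmem.2 ha2 hk.2
      exact ⟨⟨y, (hiff y hyR).1 rfl, hyR.2⟩, k, hk.2, hay, fun r hr _ => hiff r hr⟩
  choose y k hk hay hiff using hdec
  by_cases hinj : Function.Injective y
  · -- surjective
    have hsurj : Function.Surjective y := by
      have h1 : Nat.card A = Nat.card A' := by rw [hA4, hA'4]
      exact ((Nat.bijective_iff_injective_and_card y).2 ⟨hinj, h1⟩).2
    have hA'1 : A' ≠ ⊥ := by
      intro hb
      rw [hb, Subgroup.card_bot] at hA'4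
      omega
    have hR1 : R ≠ ⊥ := fun hb => hA'1 (by rw [eq_bot_iff, ← hb]; exact hA'R)
    obtain ⟨z, hzR, hz2, hzc⟩ := exists_central_inv hRs.two hR1
    have hA1 : ∃ a : A, a ≠ 1 := by
      have : Nontrivial A := by
        rw [Subgroup.nontrivial_iff_ne_bot]
        intro hb
        rw [hb, Subgroup.card_bot] at hA4
        omega
      exact exists_ne 1
    obtain ⟨a₀, ha₀⟩ := hA1
    have hzP : z ∈ P := (hiff a₀ z hzR ha₀).1 (hzc _ (hA'R (y a₀).2)).symm
    obtain ⟨a, ha⟩ := hsurj ⟨z, hzP, hzR.2⟩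
    have ha' : ((y a : A') : G) = z := congrArg Subtype.val ha
    have ha1 : a ≠ 1 := by
      rintro rfl
      -- `1 = k z`
      have h1 := hay 1
      rw [ha'] at h1
      have h2 : z ∈ K ⊓ centralizer (K : Set G) := by
        refine ⟨?_, hzR.2⟩
        have h3 : z = (k 1)⁻¹ := by
          have h4 : k 1 * z = 1 := by rw [← h1]; rfl
          exact eq_inv_of_mul_eq_one_right h4
        rw [h3]; exact K.inv_mem (hk 1)
      rw [l2.inf, mem_bot] at h2
      exact ne_one_of_orderOf hz2 h2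
    intro r hr
    exact ⟨(hiff a r hr ha1).1 (by rw [ha']; exact hzc r hr), hr.2⟩
  · -- an element of `A ∩ K`
    rw [Function.Injective] at hinj
    push Not at hinj
    obtain ⟨a, b, hab, hne⟩ := hinj
    have hc : (a : G) * (b : G)⁻¹ ∈ K := by
      rw [hay a, hay b, hab]
      have : k a * (y b : G) * (k b * (y b : G))⁻¹ = k a * (k b)⁻¹ := by group
      rw [this]
      exact mul_mem (hk a) (inv_mem (hk b))
    have hcA : (a : G) * (b : G)⁻¹ ∈ A := mul_mem a.2 (inv_mem b.2)
    have hc1 : (a : G) * (b : G)⁻¹ ≠ 1 := fun h' => hne (Subtype.ext (mul_inv_eq_one.1 h'))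
    have hc2 := orderOf_eq_two hc1 (hsq _ hcA)
    intro r hr
    exact ⟨(hP.mem_iff h hg hcA hc2 hr.1 hr.2).1 (comm_KY _ hc r hr.2), hr.2⟩

/-- the pair for `K^g` and `g⁻¹` -/
theorem exists_pair_symm {g : G} {S P : Subgroup G} (hP : PairAt K g S P) :
    ∃ S' : Subgroup G, PairAt (cj g K) g⁻¹ S' P := by
  have hle : P ≤ normalizer (cj g K : Set G) := by
    rw [← cj_normalizer]; exact hP.sylD.le.trans inf_le_right
  obtain ⟨S', hS', hPS'⟩ := exists_isSyl2 _ P hle hP.sylD.two
  refine ⟨S', hS', ?_, hPS'⟩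
  have h1 := hP.sylD
  rw [← cj_normalizer, cj_inv_cj, inf_comm]
  exact h1

/-- In the inner case `R` is cyclic, or a four-group with a conjugate in `R × E`. -/
theorem cyclic_or_four {p₀ : ℕ} (h : Std p₀ K) (D : Data K F) (hF : Nat.card F = 5)
    (hl2 : ∀ g, L2K (cj g K) 4) {g : G}
    (hg : g ∉ normalizer (K : Set G)) {a : G} (haY : a ∈ cj g (centralizer (K : Set G)))
    (haM : a ∈ normalizer (K : Set G)) (ha2 : orderOf a = 2)
    (hai : a ∈ K ⊔ centralizer (K : Set G)) :
    (∃ R, IsSyl2 (centralizer (K : Set G)) R ∧ IsCyclic R) ∨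
      ∃ R E : Subgroup G, IsSyl2 (centralizer (K : Set G)) R ∧ IsSyl2 K E ∧ Elem R ∧
        Nat.card R = 4 ∧ ∃ g : G, g ∉ normalizer (K : Set G) ∧ cj g R ≤ R ⊔ E := by
  have l2 : L2K K 4 := by
    have := hl2 1
    rwa [cj_one] at this
  obtain ⟨S, P, hP, haP⟩ := exists_pairAt K g (isPGroup_zpowers ha2)
    (zpowers_le.mpr ⟨haM, cj_centralizer_le_normalizer g K haY⟩)
  have haP' : a ∈ P := haP (mem_zpowers a)
  have hA := types h D hF l2 hg hP.sylA.two inf_le_right
    (inf_le_left.trans (hP.sylD.le.trans inf_le_left))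
  obtain ⟨S', hP'⟩ := exists_pair_symm hP
  have hg' : g⁻¹ ∉ normalizer (cj g K : Set G) := CompPsl.inv_notMem_normalizer_cj hg
  have hYY : cj g⁻¹ (centralizer (cj g K : Set G)) = centralizer (K : Set G) := by
    rw [← cj_centralizer, cj_inv_cj]
  have hA' := types (h.conj g) (D.conj g) hF (hl2 g) hg' hP'.sylA.two inf_le_right
    (inf_le_left.trans (hP'.sylD.le.trans inf_le_left))
  rw [hYY] at hA'
  rcases hA' with hA'c | ⟨hA'4, hA'i⟩
  · exact Or.inl ⟨_, hP.sylR, cyclic_of_A' h l2 hg hP haP' haY ha2 hai hA'c⟩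
  · rcases hA with hAc | ⟨hA4, hAi⟩
    · left
      -- an involution of `A'`
      obtain ⟨b, hb, hb2⟩ := exists_involution (H := P ⊓ centralizer (K : Set G))
        (by rw [hA'4]; decide)
      have hAc' : IsCyclic (P ⊓ centralizer (cj g K : Set G) : Subgroup G) := by
        rw [← cj_centralizer]; exact hAc
      have h1 := cyclic_of_A' (h.conj g) (hl2 g) hg' hP' hb.1 (by rw [hYY]; exact hb.2) hb2
        (hA'i hb) hAc'
      obtain ⟨R, hR, -⟩ := exists_isSyl2 (centralizer (K : Set G)) ⊥ bot_le IsPGroup.of_bot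
      refine ⟨R, hR, ?_⟩
      have h2 := isSyl2_cj g hR
      rw [cj_centralizer] at h2
      exact isCyclic_of_cj (isCyclic_of_syl hP'.sylR h2 h1)
    · right
      have hR := eq_A' h l2 hg hP hA4 hAi hA'4
      set R := S ⊓ centralizer (K : Set G) with hRdef
      have hRs : IsSyl2 (centralizer (K : Set G)) R := hP.sylR
      have hR4 : Nat.card R = 4 := by rw [hR, hA'4]
      have hA'K : (P ⊓ centralizer (K : Set G)) ⊓ centralizer (cj g K : Set G) = ⊥ := by
        have := (h.conj g).inf_eq_bot hg' hP'.sylA.two inf_le_right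
        rwa [hYY] at this
      have hRe : Elem R := by
        intro r hr
        rw [hR] at hr
        exact sq_of_inner (hl2 g) hP.sylA'.two hA'K hr (hA'i hr)
      -- move back by `g⁻¹`
      have hRi : cj g⁻¹ R ≤ K ⊔ centralizer (K : Set G) := by
        have h1 := cj_mono (g := g⁻¹) hA'i
        rw [← cj_centralizer, ← CaseACount.cj_sup, cj_inv_cj] at h1
        rw [hR]; exact h1
      obtain ⟨S₁, hS₁, hRS₁⟩ := exists_isSyl2 (normalizer (K : Set G)) (cj g⁻¹ R)
        (hRi.trans KY_le) (isPGroup_cj hRs.two)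
      have hR₁ : IsSyl2 (centralizer (K : Set G)) (S₁ ⊓ centralizer (K : Set G)) :=
        isSyl2_inf hS₁ (centralizer_le_normalizer _) (normal_cent K)
      have hE₁ : IsSyl2 K (S₁ ⊓ K) := isSyl2_inf hS₁ Subgroup.le_normalizer
        (fun d hd w hw => forall_of_mem_normalizer hd w hw)
      obtain ⟨m, hm, hmR⟩ := isSyl2_conj hR₁ hRs
      refine ⟨S₁ ⊓ centralizer (K : Set G), S₁ ⊓ K, hR₁, hE₁, ?_, ?_, g⁻¹ * m, ?_, ?_⟩
      · have h1 : S₁ ⊓ centralizer (K : Set G) = cj m⁻¹ R := by rw [hmR, cj_inv_cj]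
        rw [h1]; exact elem_cj hRe
      · rw [isSyl2_card hRs hR₁, hR4]
      · intro h1
        have h2 : m ∈ normalizer (K : Set G) := centralizer_le_normalizer _ hm
        have h3 := (Subgroup.mul_mem_cancel_right _ h2).1 h1
        exact hg (inv_mem_iff.1 h3)
      · rw [cj_mul, ← hmR]
        intro x hx
        obtain ⟨k, hk, y, hy, rfl, -⟩ := decomp l2 hS₁ (hRS₁ hx) (hRi hx)
        exact mul_mem (mem_sup_right hk) (mem_sup_left hy)

theorem nonempty_equiv {F₄ : Type*} [Field F₄] [Fintype F₄] (h4 : Fintype.card F₄ = 4) :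
    Nonempty (Matrix.ProjectiveSpecialLinearGroup (Fin 2) F₄ ≃*
      Matrix.ProjectiveSpecialLinearGroup (Fin 2) (ZMod 5)) := by
  have : Fact (Nat.Prime 5) := ⟨by norm_num⟩
  obtain ⟨e⟩ := Cfsg.Agent.S0252.result h4
  obtain ⟨f⟩ := Cfsg.Agent.S0253.result (F := ZMod 5) (ZMod.card 5)
  exact ⟨e.trans f.symm⟩

/-- **The rest of A4**: `K ≅ PSL(2,4)` with an outer 2-element: the Sylow 2-subgroups of `C(K)` have
order 2. -/
theorem card_two [IsSimpleGroup G] (hnab : ∃ a b : G, a * b ≠ b * a) {p : ℕ} (h : Std p K)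
    {F₄ : Type*} [Field F₄] [Fintype F₄] (h4 : Fintype.card F₄ = 4)
    (e : K ≃* Matrix.ProjectiveSpecialLinearGroup (Fin 2) F₄)
    (hout : ∃ x ∈ normalizer (K : Set G), (∃ n : ℕ, x ^ 2 ^ n = 1) ∧
      x ∉ K ⊔ centralizer (K : Set G))
    (hev : ∃ g, g ∉ normalizer (K : Set G) ∧
      Even (Nat.card (cj g (centralizer (K : Set G)) ⊓ normalizer (K : Set G) : Subgroup G)))
    {R : Subgroup G} (hR : IsSyl2 (centralizer (K : Set G)) R) : Nat.card R = 2 := by
  have hp5 : Fact (Nat.Prime 5) := ⟨by norm_num⟩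
  obtain ⟨f⟩ := nonempty_equiv h4
  have hF : Nat.card (ZMod 5) = 5 := by rw [Nat.card_eq_fintype_card, ZMod.card]
  let D : Data K (ZMod 5) := ⟨e.trans f, by rw [hF]; norm_num, by rw [hF]⟩
  have hl2 : ∀ g, L2K (cj g K) 4 := fun g =>
    CaseAFacts.l2k (f := 2) h4 le_rfl
      ((K.equivMapOfInjective _ (MulAut.conj g).injective).symm.trans e)
  have l2 : L2K K 4 := by
    have := hl2 1
    rwa [cj_one] at this
  by_cases hin : ∃ g, g ∉ normalizer (K : Set G) ∧ ∃ a ∈ cj g (centralizer (K : Set G)),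
      ∃ haM : a ∈ normalizer (K : Set G), orderOf a = 2 ∧
        ac K haM ∈ (MulAut.conj : K →* MulAut K).range
  · obtain ⟨g, hg, a, haY, haM, ha2, hi⟩ := hin
    rcases cyclic_or_four h D hF hl2 hg haY haM ha2 ((ac_mem_iff haM).1 hi) with
      ⟨R', hR', hc⟩ | ⟨R', E, hR', hE, hRe, hR4, hex⟩
    · obtain ⟨S, hS, -⟩ := exists_isSyl2 (normalizer (K : Set G)) ⊥ bot_le IsPGroup.of_bot
      have hRs : IsSyl2 (centralizer (K : Set G)) (S ⊓ centralizer (K : Set G)) :=
        isSyl2_inf hS (centralizer_le_normalizer _) (normal_cent K)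
      have hRc := isCyclic_of_syl hR' hRs hc
      obtain ⟨t, ht, ht2⟩ := exists_involution_of_ne_bot hRs.two (sylR_ne_bot h hRs)
      obtain ⟨x, hx, hxt⟩ := CompPsl.exists_moves h D hg haY haM ha2 hi hS hRc ht ht2
      rw [isSyl2_card hRs hR]
      exact CompPsl.card_two_of_cyclic D hS hRc ht ht2 hx hxt
    · exfalso
      obtain ⟨H, hB⟩ := l2.borel E hE
      exact A4EMain.false_of_base hnab ⟨h, l2, hR', hE, hB, hRe, hR4, hex, hout⟩
  · push Not at hin
    obtain ⟨g, hg, he⟩ := hev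
    obtain ⟨a, ha, ha2⟩ := exists_involution he
    exact CompPsl.card_two_of_outer h D (fun g hg a ha haM ha2 => hin g hg a ha haM ha2)
      ⟨g, hg, a, ha.1, ha.2, ha2⟩ hR

end Cfsg.Agent.OddCyclic.A4EMainTwo
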