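import Cfsg.Agent.OddCyclic.A4ECfg

/-!
# S0342, component type, case A4 with `K = A₅` and field automorphisms: the Sylow 2-subgroup

`T = P⟨c⟩` is a Sylow 2-subgroup of `G` of order 128.
-/

set_option autoImplicit false

namespace Cfsg.Agent.OddCyclic.A4ESylow

open Subgroup
open Cfsg.Agent.LieExceptional Cfsg.Agent.LieExceptional.CITDefs
open Cfsg.Agent.LieExceptional.CITBasic
open Cfsg.Agent.OddCyclic.T1Tools
open Cfsg.Agent.OddCyclic.CompBasic Cfsg.Agent.OddCyclic.CompStandard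
open Cfsg.Agent.OddCyclic.CaseADefs Cfsg.Agent.OddCyclic.CaseABase
open Cfsg.Agent.OddCyclic.CaseACount
open Cfsg.Agent.OddCyclic.A4EBase Cfsg.Agent.OddCyclic.A4ECfg

variable {G : Type*} [Group G] [Finite G] {p : ℕ} {K R E H S P : Subgroup G} {e₀ ρ h c : G}

omit [Finite G] in
theorem cRn (C : Cfg p K R E H S P e₀ ρ h c) : ∀ r ∈ R, c * r * c⁻¹ ∈ R :=
  C.b.S_norm_R C.d.syl (le_sup_left.trans C.d.hV) c C.cS

omit [Finite G] in
theorem cEn (C : Cfg p K R E H S P e₀ ρ h c) : ∀ e ∈ E, c * e * c⁻¹ ∈ E :=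
  C.b.S_norm_E C.d.syl (le_sup_right.trans C.d.hV) c C.cS

theorem cPn (C : Cfg p K R E H S P e₀ ρ h c) : ∀ x ∈ P, c * x * c⁻¹ ∈ P := by
  refine C.f.S_norm c C.cS (mem_normalizer_of_forall fun x hx => ?_)
  rcases C.Heq x hx with h1 | h1 | h1
  · rw [h1]
    have : c * 1 * c⁻¹ = 1 := by group
    rw [this]; exact H.one_mem
  · rw [h1, C.ch]; exact H.inv_mem C.hH
  · rw [h1]
    have : c * h⁻¹ * c⁻¹ = (c * h * c⁻¹)⁻¹ := by group
    rw [this, C.ch, inv_inv]; exact C.hH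

omit [Finite G] in
theorem c_notMem (C : Cfg p K R E H S P e₀ ρ h c) : c ∉ P := fun hh =>
  C.cV (C.f.inf_M c hh (C.d.syl.le C.cS))

omit [Finite G] in
theorem ρP (C : Cfg p K R E H S P e₀ ρ h c) : ρ ∈ P := C.L.RP C.dr.mem

theorem cP_eq (C : Cfg p K R E H S P e₀ ρ h c) : cj c P = P := by
  rw [cj_eq_iff]
  exact mem_normalizer_of_forall (cPn C)

theorem cPn' (C : Cfg p K R E H S P e₀ ρ h c) : ∀ x ∈ P, c⁻¹ * x * c ∈ P := by
  intro x hx
  rw [← cP_eq C, mem_cj] at hx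
  exact hx

/-- `T = P⟨c⟩` -/
def TT (C : Cfg p K R E H S P e₀ ρ h c) : Subgroup G where
  carrier := {x | x ∈ P ∨ ∃ y ∈ P, x = y * c}
  one_mem' := Or.inl P.one_mem
  mul_mem' := by
    rintro x y (hx | ⟨x, hx, rfl⟩) (hy | ⟨y, hy, rfl⟩)
    · exact Or.inl (P.mul_mem hx hy)
    · exact Or.inr ⟨x * y, P.mul_mem hx hy, by group⟩
    · exact Or.inr ⟨x * (c * y * c⁻¹), P.mul_mem hx (cPn C y hy), by group⟩
    · left
      have : x * c * (y * c) = x * (c * y * c⁻¹) * (c * c) := by group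
      rw [this, C.cc]
      exact P.mul_mem (P.mul_mem hx (cPn C y hy)) (ρP C)
  inv_mem' := by
    rintro x (hx | ⟨x, hx, rfl⟩)
    · exact Or.inl (P.inv_mem hx)
    · right
      refine ⟨c⁻¹ * x⁻¹ * c * (c * c)⁻¹, ?_, by group⟩
      rw [C.cc]
      exact P.mul_mem (cPn' C _ (P.inv_mem hx)) (P.inv_mem (ρP C))

theorem mem_TT (C : Cfg p K R E H S P e₀ ρ h c) {x : G} :
    x ∈ TT C ↔ x ∈ P ∨ ∃ y ∈ P, x = y * c := Iff.rfl

theorem P_le (C : Cfg p K R E H S P e₀ ρ h c) : P ≤ TT C := fun _ hx => Or.inl hx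

theorem c_mem (C : Cfg p K R E H S P e₀ ρ h c) : c ∈ TT C := Or.inr ⟨1, P.one_mem, by group⟩

theorem card_P_eq (C : Cfg p K R E H S P e₀ ρ h c) : Nat.card P = 64 := by
  rw [← C.L.S1_eq_P]; exact C.L.card_S1

theorem card_T (C : Cfg p K R E H S P e₀ ρ h c) : Nat.card (TT C) = 128 := by
  have h1 : P.relIndex (TT C) = 2 := by
    refine Subgroup.index_eq_two_iff'.mpr ⟨⟨c⁻¹, (TT C).inv_mem (c_mem C)⟩, fun x => ?_⟩
    rw [mem_subgroupOf, mem_subgroupOf]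
    by_cases hx : (x : G) ∈ P
    · refine Or.inr ⟨hx, fun hh => c_notMem C ?_⟩
      have h1 : c⁻¹ * x ∈ P := hh
      have : c = x * (c⁻¹ * x)⁻¹ := by group
      rw [this]
      exact P.mul_mem hx (P.inv_mem h1)
    · refine Or.inl ⟨?_, hx⟩
      rcases x.2 with h2 | ⟨y, hy, h2⟩
      · exact absurd h2 hx
      · show c⁻¹ * (x : G) ∈ P
        rw [h2, ← mul_assoc]
        exact cPn' C y hy
  have h2 := T1Tools.card_mul_relIndex (P_le C)
  rw [card_P_eq C, h1] at h2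
  omega

theorem T_two (C : Cfg p K R E H S P e₀ ρ h c) : IsPGroup 2 (TT C) :=
  IsPGroup.of_card (n := 7) (by rw [card_T C]; norm_num)

theorem T_norm_E (C : Cfg p K R E H S P e₀ ρ h c) : ∀ x ∈ TT C, ∀ e ∈ E, x * e * x⁻¹ ∈ E := by
  rintro x (hx | ⟨x, hx, rfl⟩) e he
  · rw [C.L.E_conj hx he]; exact he
  · have : x * c * e * (x * c)⁻¹ = x * (c * e * c⁻¹) * x⁻¹ := by group
    rw [this, C.L.E_conj hx (cEn C e he)]
    exact cEn C e he

/-- `T` is a Sylow 2-subgroup of `N(E)` -/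
theorem T_syl_NE (C : Cfg p K R E H S P e₀ ρ h c) : IsSyl2 (normalizer (E : Set G)) (TT C) := by
  obtain ⟨T', hT', hle⟩ := exists_isSyl2 (normalizer (E : Set G)) (TT C)
    (fun x hx => mem_normalizer_of_forall (T_norm_E C x hx)) (T_two C)
  have h1 := card_syl_le C.b.bor.cardE C.b.bor.elem C.f.syl hT'.two hT'.le
  have h2 : TT C = T' := Subgroup.eq_of_le_of_card_ge hle (by
    rw [card_T C]
    rw [card_P_eq C] at h1
    omega)
  rw [h2]; exact hT'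

theorem e₀_central (C : Cfg p K R E H S P e₀ ρ h c) : ∀ x ∈ TT C, x * e₀ = e₀ * x := by
  rintro x (hx | ⟨x, hx, rfl⟩)
  · exact (C.L.EP e₀ C.d.he₀ x hx).symm
  · have h1 := (C.L.EP e₀ C.d.he₀ x hx).symm
    have h2 := C.d.fix c C.cS
    calc x * c * e₀ = x * (c * e₀) := by group
      _ = (x * e₀) * c := by rw [h2]; group
      _ = e₀ * (x * c) := by rw [h1]; group

/-- `C_T(E) = P` -/
theorem mem_P_of_comm (C : Cfg p K R E H S P e₀ ρ h c) {x : G} (hx : x ∈ TT C)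
    (hc : ∀ e ∈ E, x * e = e * x) : x ∈ P := by
  rcases hx with hx | ⟨x, hx, rfl⟩
  · exact hx
  · exfalso
    apply C.cV
    refine C.b.mem_V_of_comm C.d.syl C.d.hV C.cS fun e he => ?_
    have h1 := hc e he
    have h2 := C.L.EP e he x hx
    have h3 : x * (c * e) = x * (e * c) := by
      calc x * (c * e) = x * c * e := by group
        _ = e * (x * c) := h1
        _ = (e * x) * c := by group
        _ = x * (e * c) := by rw [h2]; group
    exact mul_left_cancel h3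

/-- elements of `P` commuting with `P` -/
theorem mem_E_of_central (C : Cfg p K R E H S P e₀ ρ h c) {x : G} (hx : x ∈ P)
    (hc : ∀ y ∈ P, y * x = x * y) : x ∈ E := by
  obtain ⟨t, ht, ht1⟩ := C.b.exists_t
  have h1 : x ∈ R ⊔ E := C.L.cent t ht ht1 x hx (hc t (C.L.RP ht)).symm
  obtain ⟨r, hr, e, he, rfl⟩ := C.b.mem_V.mp h1
  by_cases hr1 : r = 1
  · rw [hr1, one_mul]; exact he
  exfalso
  have h2 : P ≤ R ⊔ E := by
    intro y hy
    refine C.L.cent r hr hr1 y hy ?_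
    have h3 := hc y hy
    have h4 := C.L.EP e he y hy
    have h5 : (y * r) * e = (r * y) * e := by
      calc (y * r) * e = y * (r * e) := by group
        _ = r * e * y := h3
        _ = r * (e * y) := by group
        _ = (r * y) * e := by rw [h4]; group
    exact mul_right_cancel h5
  have h3 := Subgroup.card_le_of_le h2
  rw [card_P_eq C, C.b.card_V] at h3
  omega

/-- the centre of `T` is `⟨e₀⟩` -/
theorem center_T (C : Cfg p K R E H S P e₀ ρ h c) {x : G} (hx : x ∈ TT C)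
    (hc : ∀ y ∈ TT C, y * x = x * y) : x = 1 ∨ x = e₀ := by
  have h1 : x ∈ P := mem_P_of_comm C hx fun e he => (hc e (P_le C (C.L.EP' he))).symm
  have h2 := mem_E_of_central C h1 fun y hy => hc y (P_le C hy)
  exact C.b.fix_E C.d C.cS C.cV h2 (hc c (c_mem C))

/-- `P` normalises `V` -/
theorem comm_PR (C : Cfg p K R E H S P e₀ ρ h c) {x t : G} (hx : x ∈ P) (ht : t ∈ R) :
    x * t * x⁻¹ * t⁻¹ ∈ E := by
  rw [← C.L.S1_eq_P] at hx
  exact C.L.comm_E x hx t ht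

/-- an element of `R` moved by `c` -/
theorem exists_t (C : Cfg p K R E H S P e₀ ρ h c) : ∃ t ∈ R, t ≠ 1 ∧ t ≠ ρ ∧
    c * t * c⁻¹ = t * ρ := by
  obtain ⟨t, ht, hct⟩ := C.b.not_comm_R C.d C.cS C.cV
  refine ⟨t, ht, ?_, ?_, act_four C.b.cardR C.b.elemR C.dr.mem C.dr.ne (cRn C)
    (C.dr.fix c C.cS) ht hct⟩
  · rintro rfl; apply hct; group
  · rintro rfl; exact hct (C.dr.fix c C.cS)

/-- `E` is the second centre of `T` -/
theorem mem_E (C : Cfg p K R E H S P e₀ ρ h c) {z : G} (hz : z ∈ TT C)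
    (hc : ∀ y ∈ TT C, y * z * y⁻¹ * z⁻¹ = 1 ∨ y * z * y⁻¹ * z⁻¹ = e₀) : z ∈ E := by
  obtain ⟨t, ht, ht1, htρ, hct⟩ := exists_t C
  have hρ := C.dr.mem
  have htt := C.b.elemR t ht
  have ht' : t⁻¹ = t := inv_eq_of_mul_eq_one_left htt
  have hzP : z ∈ P := by
    rcases hz with hz | ⟨x, hx, rfl⟩
    · exact hz
    exfalso
    have h1 : t * (x * c) * t⁻¹ * (x * c)⁻¹ ∈ E := by
      rcases hc t (P_le C (C.L.RP ht)) with h | h
      · rw [h]; exact E.one_mem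
      · rw [h]; exact C.d.he₀
    have h2 : t * (x * c) * t⁻¹ * (x * c)⁻¹ = ρ * (ρ⁻¹ * t * (x * (t * ρ) * x⁻¹ * (t * ρ)⁻¹) *
        (t * ρ)) := by
      have h3 : c * t⁻¹ * c⁻¹ = t * ρ := by rw [ht', hct]
      calc t * (x * c) * t⁻¹ * (x * c)⁻¹ = t * x * (c * t⁻¹ * c⁻¹) * x⁻¹ := by group
        _ = t * x * (t * ρ) * x⁻¹ := by rw [h3]
        _ = ρ * (ρ⁻¹ * t * (x * (t * ρ) * x⁻¹ * (t * ρ)⁻¹) * (t * ρ)) := by group
    have h4 := comm_PR C hx (R.mul_mem ht hρ)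
    have h5 : ρ⁻¹ * t * (x * (t * ρ) * x⁻¹ * (t * ρ)⁻¹) * (t * ρ) =
        (x * (t * ρ) * x⁻¹ * (t * ρ)⁻¹) := by
      have h6 := C.L.EP _ h4 (ρ⁻¹ * t) (P.mul_mem (P.inv_mem (C.L.RP hρ)) (C.L.RP ht))
      rw [← h6]
      have h7 : ρ⁻¹ * t * (t * ρ) = 1 := by
        calc ρ⁻¹ * t * (t * ρ) = ρ⁻¹ * (t * t) * ρ := by group
          _ = 1 := by rw [htt]; group
      calc x * (t * ρ) * x⁻¹ * (t * ρ)⁻¹ * (ρ⁻¹ * t) * (t * ρ)
          = x * (t * ρ) * x⁻¹ * (t * ρ)⁻¹ * (ρ⁻¹ * t * (t * ρ)) := by group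
        _ = x * (t * ρ) * x⁻¹ * (t * ρ)⁻¹ := by rw [h7, mul_one]
    rw [h2, h5] at h1
    apply C.dr.ne
    apply C.b.inf hρ
    have : ρ = ρ * (x * (t * ρ) * x⁻¹ * (t * ρ)⁻¹) * (x * (t * ρ) * x⁻¹ * (t * ρ)⁻¹)⁻¹ := by group
    rw [this]
    exact E.mul_mem h1 (E.inv_mem h4)
  by_cases hzV : z ∈ R ⊔ E
  · obtain ⟨r, hr, e, he, rfl⟩ := C.b.mem_V.mp hzV
    by_cases hr1 : r = 1
    · rw [hr1, one_mul]; exact he
    exfalso
    have h1 : ∀ y ∈ P, y * r * y⁻¹ * r⁻¹ ∈ zpowers e₀ := by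
      intro y hy
      have h2 : y * r * y⁻¹ * r⁻¹ = y * (r * e) * y⁻¹ * (r * e)⁻¹ := by
        have h3 := C.L.EP e he y⁻¹ (P.inv_mem hy)
        calc y * r * y⁻¹ * r⁻¹ = y * r * (y⁻¹ * e) * e⁻¹ * r⁻¹ := by group
          _ = y * r * (e * y⁻¹) * e⁻¹ * r⁻¹ := by rw [h3]
          _ = y * (r * e) * y⁻¹ * (r * e)⁻¹ := by group
      rw [h2]
      rcases hc y (P_le C hy) with h | h
      · rw [h]; exact one_mem _
      · rw [h]; exact mem_zpowers e₀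
    have hle : zpowers e₀ ≤ E := zpowers_le.mpr C.d.he₀
    obtain ⟨m, hm, h2⟩ := A4ELayer.card_eq_of_comm (X := P) (t := r) (E := zpowers e₀)
      (fun x hx => C.b.bor.elem x (hle hx)) (fun x hx y hy => C.L.EP x (hle hx) y hy) h1
    rw [C.L.cent_inf hr hr1 le_rfl C.L.VP, C.b.card_V, card_P_eq C] at h2
    rw [Nat.card_zpowers, orderOf_eq_two C.d.ne (C.b.bor.elem e₀ C.d.he₀)] at hm
    have := Nat.le_of_dvd (by norm_num) hm
    omega
  · exfalso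
    have key : ∀ u ∈ R, u ≠ 1 → u * z * u⁻¹ * z⁻¹ = e₀ := by
      intro u hu hu1
      rcases hc u (P_le C (C.L.RP hu)) with h | h
      · exfalso
        apply hzV
        refine C.L.cent u hu hu1 z hzP ?_
        exact (mul_inv_eq_iff_eq_mul.mp (mul_inv_eq_one.mp h)).symm
      · exact h
    have h1 := key t ht ht1
    have h2 := key ρ hρ C.dr.ne
    have htρ1 : t * ρ ≠ 1 := by
      intro hh
      apply htρ
      rw [eq_inv_of_mul_eq_one_left hh]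
      exact inv_eq_of_mul_eq_one_left (C.b.elemR ρ hρ)
    have h3 := key (t * ρ) (R.mul_mem ht hρ) htρ1
    have h4 : t * ρ * z * (t * ρ)⁻¹ * z⁻¹ = (t * (ρ * z * ρ⁻¹ * z⁻¹) * t⁻¹) * (t * z * t⁻¹ * z⁻¹) := by
      group
    rw [h3, h2, C.L.E_conj (C.L.RP ht) C.d.he₀, h1] at h4
    exact C.d.ne (mul_eq_left.mp h4.symm)

/-- `N(T) ≤ N(E)` -/
theorem NT_le (C : Cfg p K R E H S P e₀ ρ h c) :
    normalizer (TT C : Set G) ≤ normalizer (E : Set G) := by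
  intro x hx
  have hx' := forall_of_mem_normalizer hx
  have hxi := forall_of_mem_normalizer (Subgroup.inv_mem _ hx)
  have hET : E ≤ TT C := C.L.EP'.trans (P_le C)
  -- `x` centralises `e₀`
  have h0 : x * e₀ * x⁻¹ = e₀ := by
    have h1 : x * e₀ * x⁻¹ = 1 ∨ x * e₀ * x⁻¹ = e₀ := by
      refine center_T C (hx' _ (hET C.d.he₀)) fun y hy => ?_
      have h2 := e₀_central C _ (hxi y hy)
      calc y * (x * e₀ * x⁻¹) = x * ((x⁻¹ * y * x⁻¹⁻¹) * e₀) * x⁻¹ := by group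
        _ = x * (e₀ * (x⁻¹ * y * x⁻¹⁻¹)) * x⁻¹ := by rw [h2]
        _ = x * e₀ * x⁻¹ * y := by group
    rcases h1 with h1 | h1
    · exfalso
      apply C.d.ne
      have : e₀ = x⁻¹ * (x * e₀ * x⁻¹) * x := by group
      rw [this, h1]; group
    · exact h1
  refine mem_normalizer_of_forall fun e he => ?_
  refine mem_E C (hx' _ (hET he)) fun y hy => ?_
  have h1 := hxi y hy
  have h2 : (x⁻¹ * y * x⁻¹⁻¹) * e * (x⁻¹ * y * x⁻¹⁻¹)⁻¹ * e⁻¹ = 1 ∨
      (x⁻¹ * y * x⁻¹⁻¹) * e * (x⁻¹ * y * x⁻¹⁻¹)⁻¹ * e⁻¹ = e₀ := by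
    set w := x⁻¹ * y * x⁻¹⁻¹ with hw
    by_cases hwe : w * e = e * w
    · left; rw [hwe]; group
    · right
      have h3 := act_four C.b.bor.cardE C.b.bor.elem C.d.he₀ C.d.ne (T_norm_E C w h1)
        (e₀_central C w h1) he hwe
      rw [h3, C.b.bor.elem.comm he C.d.he₀]; group
  have h3 : y * (x * e * x⁻¹) * y⁻¹ * (x * e * x⁻¹)⁻¹ =
      x * ((x⁻¹ * y * x⁻¹⁻¹) * e * (x⁻¹ * y * x⁻¹⁻¹)⁻¹ * e⁻¹) * x⁻¹ := by group
  rw [h3]
  rcases h2 with h2 | h2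
  · left; rw [h2]; group
  · right; rw [h2, h0]

/-- `T` is a Sylow 2-subgroup of `G` -/
theorem T_syl (C : Cfg p K R E H S P e₀ ρ h c) : IsSyl2 ⊤ (TT C) := by
  have hpf : Fact (Nat.Prime 2) := ⟨Nat.prime_two⟩
  obtain ⟨T, hT, hle⟩ := exists_isSyl2 ⊤ (TT C) le_top (T_two C)
  have h1 : normalizer (TT C : Set G) ⊓ T ≤ TT C := by
    have h2 := (T_syl_NE C).max (normalizer (TT C : Set G) ⊓ T) (inf_le_left.trans (NT_le C))
      (hT.two.to_le inf_le_right) (le_inf Subgroup.le_normalizer hle)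
    exact h2.le
  have h3 : T = TT C := Cfsg.Agent.Blocks.SylowIn.eq_of_normalizer_inf_le (p := 2) hT.two hle h1
  rw [← h3]; exact hT

end Cfsg.Agent.OddCyclic.A4ESylow
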