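import Cfsg.Agent.OddCyclic.AOneSwTwo

/-!
# S0342, T_cyc: noncommuting `SL₂(4)`-blocks over the Baumann subgroup: the contradiction
-/

set_option autoImplicit false
set_option linter.unusedSectionVars false

universe u

namespace Cfsg.Agent.OddCyclic.AOneSit

open Subgroup
open Cfsg.Agent.LieExceptional Cfsg.Agent.LieExceptional.CITDefs Cfsg.Agent.LieExceptional.CITBasic
open Cfsg.Agent.OddCyclic.CompBasic Cfsg.Agent.OddCyclic.CompStandard
open Cfsg.Agent.OddCyclic.T1Defs

variable {G : Type u} [Group G] [Finite G] {S B V W Z : Subgroup G} {x : G}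

/-- **(A1), `q = 4`**: the configuration `Sit` is impossible in a simple group of characteristic 2 type with cyclic odd
Sylow subgroups and an element of order 6. -/
theorem false_of_sit [IsSimpleGroup G] (hnab : ∃ a b : G, a * b ≠ b * a) (hG : OddCyc G) (hc : CharTwo G)
    (h : Sit S B V W Z x) (h6 : ∃ g : G, orderOf g = 6) : False := by
  obtain ⟨z, hz⟩ := h.exists_z
  obtain ⟨U, y, hu⟩ := h.exists_UD hnab hc hz h6
  obtain ⟨u, huU, huB⟩ := SetLike.not_le_iff_exists.1 (hu.not_le hG h)
  obtain ⟨s, hsS, hsB, hss, hsx⟩ := h.exists_inv hG hc (hu.U_le h huU) huB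
  rcases h.cj_pair (h.cjS hsS) with h1 | h1
  · exact TD.false hnab hG hc ⟨h, hsS, hsB, hss, h1.1⟩ hu
  · refine SD.false hnab hG (U := U) (y := y) ⟨h, hu, fun k hk hkB => ?_⟩
    have h2 := h.mul_mem_B hk hsS hkB hsB
    have e : k = (k * s) * s := by rw [mul_assoc, hss, mul_one]
    have key : ∀ {A A' : Subgroup G}, cj s A = A' → cj (k * s) A' = A' → cj k A = A' := by
      intro A A' h3 h4
      calc cj k A = cj ((k * s) * s) A := congrArg (fun g => cj g A) e
        _ = cj (k * s) (cj s A) := cj_mul _ _ _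
        _ = A' := by rw [h3, h4]
    exact ⟨key h1.1 (h.symm.cjV_B h2), key h1.2 (h.cjV_B h2)⟩

end Cfsg.Agent.OddCyclic.AOneSit
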