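import Cfsg.Agent.OddCyclic.AOneU

/-!
# S0342, T_cyc: noncommuting `SL₂(4)`-blocks, the normaliser of `B`
-/

set_option autoImplicit false
set_option linter.unusedSectionVars false

universe u

namespace Cfsg.Agent.OddCyclic.AOneSit

open Subgroup
open Cfsg.Agent.LieExceptional Cfsg.Agent.LieExceptional.CITDefs Cfsg.Agent.LieExceptional.CITBasic
open Cfsg.Agent.OddCyclic.CompBasic Cfsg.Agent.OddCyclic.CompStandard
open Cfsg.Agent.OddCyclic.T1Defs

theorem prime_of_mem_two {G : Type*} [Group G] {P : Subgroup G} (hP : IsPGroup 2 P) {r : ℕ} (hr : r.Prime)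
    (hr2 : r ≠ 2) {d : G} (hd : d ∈ P) (hdr : orderOf d = r) : False := by
  obtain ⟨k, hk⟩ := CaseABase.mem_of_pow_two hP hd
  have h3 := orderOf_dvd_of_pow_eq_one hk
  rw [hdr] at h3
  exact hr2 ((Nat.prime_dvd_prime_iff_eq hr Nat.prime_two).1 (hr.dvd_of_dvd_pow h3))

variable {G : Type u} [Group G] [Finite G] {S B V W Z : Subgroup G} {x : G}

namespace Sit

/-- `C_G(V) ≤ V` -/
theorem cent_V (hc : CharTwo G) (h : Sit S B V W Z x) : centralizer (V : Set G) ≤ V := by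
  have hf : Fact (Nat.Prime 2) := ⟨Nat.prime_two⟩
  have hV2 : IsPGroup 2 V := h.two.to_le h.VB
  have hVne : V ≠ ⊥ := by
    intro h0
    have h1 := h.cV
    rw [h0, Subgroup.card_bot] at h1
    omega
  have hVc : V ≤ centralizer (V : Set G) := fun v hv => mem_centralizer_iff.2 fun c hc => h.eV.comm hc hv
  obtain ⟨X, hX⟩ := exists_isO2 (normalizer (V : Set G))
  have hVX : V ≤ X := hX.max V le_normalizer hV2 fun m hm v hv => forall_of_mem_normalizer hm v hv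
  have hXc := hc V X hV2 hVne hX
  have hP : X ⊓ centralizer (V : Set G) ≤ V := h.le_of_two (hX.two.to_le inf_le_left) (le_inf hVX hVc)
    fun p hp v hv => (mem_centralizer_iff.1 hp.2 v hv).symm
  have h2 : IsPGroup 2 (centralizer (V : Set G)) := by
    apply CaseABase.isPGroup_two_of_forall
    intro r hr hr2 d hd hdr
    have hdN : d ∈ normalizer (V : Set G) := centralizer_le_normalizer _ hd
    have hdV : ∀ v ∈ V, d * v = v * d := fun v hv => (mem_centralizer_iff.1 hd v hv).symm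
    have h1 : zpowers d ≤ centralizer (X : Set G) := by
      apply Cfsg.Agent.Lib.ThompsonPQ.thompson_p_times_q 2 V (zpowers d) X hV2
      · rw [Nat.card_zpowers, hdr]
        exact (Nat.coprime_primes hr Nat.prime_two).2 hr2
      · exact hX.two
      · intro c hc
        rw [mem_centralizer_iff]
        rintro _ ⟨n, rfl⟩
        exact ((show Commute d c from hdV c hc).zpow_left n).eq
      · exact hVX.trans le_normalizer
      · rw [zpowers_le]
        exact mem_normalizer_of_forall fun u hu' => hX.normal d hdN u hu'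
      · intro u hu'
        rw [mem_centralizer_iff]
        rintro _ ⟨n, rfl⟩
        exact ((show Commute d u from hdV u (hP hu')).zpow_left n).eq
    exact prime_of_mem_two hX.two hr hr2 (hXc (h1 (mem_zpowers d))) hdr
  exact h.le_of_two h2 hVc fun p hp v hv => (mem_centralizer_iff.1 hp v hv).symm

/-- an element of odd order normalising `B` normalises `V` -/
theorem cj_V_of_odd (h : Sit S B V W Z x) {d : G} (hd : Odd (orderOf d)) (hB : cj d B = B) : cj d V = V := by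
  have h1 : cj (d * d) V = V := by
    rw [cj_mul]
    rcases h.cj_pair hB with h1 | h1
    · rw [h1.1, h1.1]
    · rw [h1.1, h1.2]
  rw [cj_eq_iff] at h1 ⊢
  obtain ⟨k, hk⟩ := hd
  have h2 : d = (d * d) ^ (k + 1) := by
    have h3 := pow_orderOf_eq_one d
    rw [hk] at h3
    calc d = d ^ (2 * k + 1) * d := by rw [h3, one_mul]
      _ = d ^ (2 * (k + 1)) := by rw [← pow_succ]; ring_nf
      _ = (d * d) ^ (k + 1) := by rw [pow_mul, pow_two]
  rw [h2]
  exact pow_mem h1 _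

/-- a `3'`-element of odd order centralising `Z` and normalising `V` is trivial -/
theorem cent_of_odd (hG : OddCyc G) (hc : CharTwo G) (h : Sit S B V W Z x) {r : ℕ} (hr : r.Prime) (hr2 : r ≠ 2)
    {d : G} (hdr : orderOf d = r) (hdZ : ∀ z ∈ Z, d * z = z * d) (hdV : cj d V = V) : False := by
  have hodd : Odd (orderOf d) := by rw [hdr]; exact hr.odd_of_ne_two hr2
  by_cases hr3 : r = 3
  · exact h.no_three hG (hdr.trans hr3) hdZ
  · have h3 : ¬ 3 ∣ orderOf d := by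
      rw [hdr]
      intro h3
      exact hr3 ((Nat.prime_dvd_prime_iff_eq Nat.prime_three hr).1 h3).symm
    have h1 := T1Tools.commute_of_index_le_four hodd h3 (h.two.to_le h.VB)
      (fun v hv => by have := conj_mem_cj (g := d) hv; rwa [hdV] at this) h.ZV hdZ (by rw [h.cV, h.cZ])
    have h2 : d ∈ V := h.cent_V hc (mem_centralizer_iff.2 fun v hv => (h1 v hv).symm)
    exact prime_of_mem_two (h.two.to_le h.VB) hr hr2 h2 hdr

/-- `N_G(B) ∩ C_G(Z) = B` -/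
theorem C0_le (hG : OddCyc G) (hc : CharTwo G) (h : Sit S B V W Z x) {c : G} (hcB : cj c B = B)
    (hcZ : ∀ z ∈ Z, c * z = z * c) : c ∈ B := by
  set C := normalizer (B : Set G) ⊓ centralizer (Z : Set G) with hC
  have h2 : IsPGroup 2 C := by
    apply CaseABase.isPGroup_two_of_forall
    intro r hr hr2 d hd hdr
    have hdB : cj d B = B := cj_eq_iff.2 hd.1
    have hodd : Odd (orderOf d) := by rw [hdr]; exact hr.odd_of_ne_two hr2
    exact h.cent_of_odd hG hc hr hr2 hdr (fun z hz => (mem_centralizer_iff.1 hd.2 z hz).symm)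
      (h.cj_V_of_odd hodd hdB)
  have h3 : C ≤ S := by
    apply CaseABase.le_isSyl2 h.syl le_top h2
    intro s hs e he
    rw [hC, Subgroup.mem_inf] at he ⊢
    constructor
    · have hsN : s ∈ normalizer (B : Set G) := cj_eq_iff.1 (h.cjS hs)
      exact (normalizer (B : Set G)).mul_mem ((normalizer (B : Set G)).mul_mem hsN he.1)
        ((normalizer (B : Set G)).inv_mem hsN)
    · rw [mem_centralizer_iff]
      intro z hz
      have h4 := h.conjZ (S.inv_mem hs) hz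
      rw [inv_inv] at h4
      have h5 := mem_centralizer_iff.1 he.2 _ h4
      calc z * (s * e * s⁻¹) = s * ((s⁻¹ * z * s) * e) * s⁻¹ := by group
        _ = s * (e * (s⁻¹ * z * s)) * s⁻¹ := by rw [h5]
        _ = s * e * s⁻¹ * z := by group
  have h4 : c ∈ C := ⟨cj_eq_iff.1 hcB, mem_centralizer_iff.2 fun z hz => (hcZ z hz).symm⟩
  exact h.centZ c (h3 h4) hcZ

/-- `C_B(x) = 1` -/
theorem fB (h : Sit S B V W Z x) {b : G} (hb : b ∈ B) (hc : x * b = b * x) : b = 1 := by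
  obtain ⟨v, hv, w, hw, rfl⟩ := h.dec b hb
  -- `v⁻¹ (x v x⁻¹) ∈ Z`
  have h1 : v⁻¹ * (x * v * x⁻¹) ∈ Z := by
    have h2 : (x * v * x⁻¹) * (x * w * x⁻¹) = v * w := by
      calc (x * v * x⁻¹) * (x * w * x⁻¹) = x * (v * w) * x⁻¹ := by group
        _ = v * w := by rw [hc]; group
    have h3 : v⁻¹ * (x * v * x⁻¹) = w * (x * w * x⁻¹)⁻¹ := by
      have h4 : x * v * x⁻¹ = v * w * (x * w * x⁻¹)⁻¹ := by rw [← h2]; group
      rw [h4]; group
    apply h.mem_Z (V.mul_mem (V.inv_mem hv) (h.xV v hv))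
    rw [h3]
    exact W.mul_mem hw (W.inv_mem (h.xW w hw))
  -- `Z = {ζ⁻¹ (x ζ x⁻¹)}`
  have hxZ : ∀ a ∈ Z, x * a * x⁻¹ ∈ Z := fun a ha => h.mem_Z (h.xV a (h.ZV ha)) (h.xW a (h.ZW ha))
  have key : ∀ c ∈ Z, ∃ ζ ∈ Z, ζ⁻¹ * (x * ζ * x⁻¹) = c := by
    have hfin : Finite Z := inferInstance
    let f : Z → Z := fun ζ => ⟨(ζ : G)⁻¹ * (x * ζ * x⁻¹), Z.mul_mem (Z.inv_mem ζ.2) (hxZ ζ ζ.2)⟩
    have hf : Function.Injective f := by
      intro a b hab
      have h2 : (a : G)⁻¹ * (x * a * x⁻¹) = (b : G)⁻¹ * (x * b * x⁻¹) := congrArg Subtype.val hab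
      have hcab := h.eZ.comm a.2 b.2
      have h3 : x * ((b : G)⁻¹ * a) = ((b : G)⁻¹ * a) * x := by
        have hcm := h.eZ.comm a.2 (Z.inv_mem b.2)
        have e1 : x * a * x⁻¹ = a * ((b : G)⁻¹ * (x * b * x⁻¹)) := by rw [← h2]; group
        have e2 : x * ((b : G)⁻¹ * a) * x⁻¹ = (x * b * x⁻¹)⁻¹ * (x * a * x⁻¹) := by group
        have e3 : (b : G)⁻¹ * (x * b * x⁻¹) ∈ Z := Z.mul_mem (Z.inv_mem b.2) (hxZ b b.2)
        have e4 : x * ((b : G)⁻¹ * a) * x⁻¹ = (b : G)⁻¹ * a := by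
          rw [e2, e1]
          have e5 := h.eZ.comm (Z.inv_mem (hxZ b b.2)) a.2
          calc (x * b * x⁻¹)⁻¹ * (a * ((b : G)⁻¹ * (x * b * x⁻¹)))
              = ((x * b * x⁻¹)⁻¹ * a) * (b : G)⁻¹ * (x * b * x⁻¹) := by group
            _ = (a * (x * b * x⁻¹)⁻¹) * (b : G)⁻¹ * (x * b * x⁻¹) := by rw [e5]
            _ = a * ((x * b * x⁻¹)⁻¹ * (b : G)⁻¹) * (x * b * x⁻¹) := by group
            _ = a * ((b : G)⁻¹ * (x * b * x⁻¹)⁻¹) * (x * b * x⁻¹) := by
                rw [h.eZ.comm (Z.inv_mem (hxZ b b.2)) (Z.inv_mem b.2)]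
            _ = a * (b : G)⁻¹ := by group
            _ = (b : G)⁻¹ * a := hcm
        exact mul_inv_eq_iff_eq_mul.1 e4
      have h4 := h.fV _ (h.ZV (Z.mul_mem (Z.inv_mem b.2) a.2)) h3
      exact Subtype.ext (inv_mul_eq_one.1 h4).symm
    intro c hcZ
    obtain ⟨ζ, hζ⟩ := Finite.surjective_of_injective hf ⟨c, hcZ⟩
    exact ⟨ζ, ζ.2, congrArg Subtype.val hζ⟩
  obtain ⟨ζ, hζ, he⟩ := key _ h1
  have h5 : x * (v * ζ⁻¹) = (v * ζ⁻¹) * x := by
    have e1 : x * v * x⁻¹ = v * (ζ⁻¹ * (x * ζ * x⁻¹)) := by rw [he]; group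
    have e2 := h.eZ.comm (Z.inv_mem hζ) (hxZ ζ hζ)
    have e3 : x * (v * ζ⁻¹) * x⁻¹ = v * ζ⁻¹ := by
      calc x * (v * ζ⁻¹) * x⁻¹ = (x * v * x⁻¹) * (x * ζ * x⁻¹)⁻¹ := by group
        _ = v * (ζ⁻¹ * (x * ζ * x⁻¹)) * (x * ζ * x⁻¹)⁻¹ := by rw [e1]
        _ = v * ζ⁻¹ := by group
    exact mul_inv_eq_iff_eq_mul.1 e3
  have h6 := h.fV _ (V.mul_mem hv (V.inv_mem (h.ZV hζ))) h5
  have h7 : v = ζ := mul_inv_eq_one.1 h6
  rw [h7] at hc ⊢
  exact h.fW _ (W.mul_mem (h.ZW hζ) hw) hc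

theorem xB (h : Sit S B V W Z x) : cj x B = B := by
  rw [cj_eq_iff]
  apply mem_normalizer_of_forall
  intro b hb
  obtain ⟨v, hv, w, hw, rfl⟩ := h.dec b hb
  have e : x * (v * w) * x⁻¹ = (x * v * x⁻¹) * (x * w * x⁻¹) := by group
  rw [e]
  exact B.mul_mem (h.VB (h.xV v hv)) (h.WB (h.xW w hw))

theorem xxx (h : Sit S B V W Z x) : x * x * x = 1 := by
  have := pow_orderOf_eq_one x
  rw [h.x3, pow_succ, pow_two] at this
  exact this

/-- there is an involution in `S ∖ B` inverting `x` -/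
theorem exists_inv (hG : OddCyc G) (hc : CharTwo G) (h : Sit S B V W Z x) {s₀ : G} (hs₀ : s₀ ∈ S) (hs₀B : s₀ ∉ B) :
    ∃ s ∈ S, s ∉ B ∧ s * s = 1 ∧ s * x * s⁻¹ = x⁻¹ := by
  obtain ⟨z, hz⟩ := h.exists_z
  have hxZ : ∀ a ∈ Z, x * a * x⁻¹ ∈ Z := fun a ha => h.mem_Z (h.xV a (h.ZV ha)) (h.xW a (h.ZW ha))
  set a := x * z * x⁻¹ with had
  have haZ : a ∈ Z := hxZ z hz.mem
  have ha1 : a ≠ 1 := by
    intro h0
    apply hz.ne
    have h1 : z = x⁻¹ * (x * z * x⁻¹) * x := by group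
    rw [h1, ← had, h0]; group
  have haz : a ≠ z := fun h0 => hz.ne (h.fV z (h.ZV hz.mem) (mul_inv_eq_iff_eq_mul.1 h0))
  have hzz := h.eZ z hz.mem
  have haa := h.eZ a haZ
  have hza := h.eZ.comm hz.mem haZ
  -- `x a x⁻¹ = z a`
  have hx2 : x * a * x⁻¹ = z * a := by
    have h1 : x * (z * a * (x * a * x⁻¹)) = (z * a * (x * a * x⁻¹)) * x := by
      have h2 : x * (x * a * x⁻¹) * x⁻¹ = z := by
        rw [had]
        calc x * (x * (x * z * x⁻¹) * x⁻¹) * x⁻¹ = (x * x * x) * z * (x * x * x)⁻¹ := by group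
          _ = z := by rw [h.xxx]; group
      have h3 : x * (z * a * (x * a * x⁻¹)) * x⁻¹ = z * a * (x * a * x⁻¹) := by
        calc x * (z * a * (x * a * x⁻¹)) * x⁻¹
            = (x * z * x⁻¹) * (x * a * x⁻¹) * (x * (x * a * x⁻¹) * x⁻¹) := by group
          _ = a * (x * a * x⁻¹) * z := by rw [h2, ← had]
          _ = z * (a * (x * a * x⁻¹)) := h.eZ.comm (Z.mul_mem haZ (hxZ a haZ)) hz.mem
          _ = _ := by group
      exact mul_inv_eq_iff_eq_mul.1 h3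
    have h2 := h.fV _ (h.ZV (Z.mul_mem (Z.mul_mem hz.mem haZ) (hxZ a haZ))) h1
    have h3 : x * a * x⁻¹ = (z * a)⁻¹ := (inv_eq_of_mul_eq_one_right h2).symm
    rw [h3]
    exact inv_eq_of_mul_eq_one_left (h.eZ _ (Z.mul_mem hz.mem haZ))
  have hx3 : x * (z * a) * x⁻¹ = z := by
    calc x * (z * a) * x⁻¹ = (x * z * x⁻¹) * (x * a * x⁻¹) := by group
      _ = a * (z * a) := by rw [← had, hx2]
      _ = z := by rw [hza, ← mul_assoc, haa, one_mul]
  have hs1 : ∀ t ∈ S, t ∉ B → t * a * t⁻¹ = z * a := fun t ht htB => h.act hz ht htB haZ ha1 haz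
  have hsz : ∀ t ∈ S, t * z * t⁻¹ = z := fun t ht => mul_inv_eq_iff_eq_mul.2 (hz.comm t ht)
  have hs2 : ∀ t ∈ S, t ∉ B → t * (z * a) * t⁻¹ = a := by
    intro t ht htB
    calc t * (z * a) * t⁻¹ = (t * z * t⁻¹) * (t * a * t⁻¹) := by group
      _ = z * (z * a) := by rw [hsz t ht, hs1 t ht htB]
      _ = a := by rw [← mul_assoc, hzz, one_mul]
  have hs₀' : s₀⁻¹ ∈ S := S.inv_mem hs₀
  have hs₀B' : s₀⁻¹ ∉ B := fun h0 => hs₀B (by simpa using B.inv_mem h0)
  -- `c₀ = s₀ x s₀⁻¹ x ∈ B`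
  have hc₀ : s₀ * x * s₀⁻¹ * x ∈ B := by
    apply h.C0_le hG hc
    · rw [cj_mul, cj_mul, cj_mul, h.xB, h.cjS hs₀', h.xB, h.cjS hs₀]
    · have k1 : (s₀ * x * s₀⁻¹ * x) * z * (s₀ * x * s₀⁻¹ * x)⁻¹ = z := by
        calc (s₀ * x * s₀⁻¹ * x) * z * (s₀ * x * s₀⁻¹ * x)⁻¹
            = s₀ * (x * (s₀⁻¹ * (x * z * x⁻¹) * s₀⁻¹⁻¹) * x⁻¹) * s₀⁻¹ := by group
          _ = z := by rw [← had, hs1 _ hs₀' hs₀B', hx3, hsz s₀ hs₀]
      have k2 : (s₀ * x * s₀⁻¹ * x) * a * (s₀ * x * s₀⁻¹ * x)⁻¹ = a := by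
        calc (s₀ * x * s₀⁻¹ * x) * a * (s₀ * x * s₀⁻¹ * x)⁻¹
            = s₀ * (x * (s₀⁻¹ * (x * a * x⁻¹) * s₀⁻¹⁻¹) * x⁻¹) * s₀⁻¹ := by group
          _ = a := by rw [hx2, hs2 _ hs₀' hs₀B', hx2, hs2 s₀ hs₀ hs₀B]
      have k1' := mul_inv_eq_iff_eq_mul.1 k1
      have k2' := mul_inv_eq_iff_eq_mul.1 k2
      intro c hcZ
      rcases h.four hz.mem haZ hz.ne ha1 haz hcZ with h0 | h0 | h0 | h0
      · rw [h0]; simp
      · rw [h0]; exact k1'
      · rw [h0]; exact k2'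
      · rw [h0]
        exact ((show Commute (s₀ * x * s₀⁻¹ * x) z from k1').mul_right
          (show Commute (s₀ * x * s₀⁻¹ * x) a from k2')).eq
  -- Sylow in `B⟨x⟩`
  set M := B ⊔ zpowers x with hM
  have hxM : x ∈ M := mem_sup_right (mem_zpowers x)
  have hx'M : s₀ * x * s₀⁻¹ ∈ M := by
    have e : s₀ * x * s₀⁻¹ = (s₀ * x * s₀⁻¹ * x) * x⁻¹ := by group
    rw [e]
    exact M.mul_mem (mem_sup_left hc₀) (M.inv_mem hxM)
  obtain ⟨g, hg, hgx⟩ := exists_conj_zpowers hG Nat.prime_three (by norm_num) hxM hx'M h.x3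
    (by rw [CompStandard.orderOf_conj, h.x3])
  have hxBn : ∀ s ∈ zpowers x, ∀ b ∈ B, s * b * s⁻¹ ∈ B := by
    have h1 : zpowers x ≤ normalizer (B : Set G) := by
      rw [zpowers_le]; exact cj_eq_iff.1 h.xB
    exact fun s hs b hb => forall_of_mem_normalizer (h1 hs) b hb
  obtain ⟨b, hb, k, hk, rfl⟩ := (CaseATools.mem_sup_iff hxBn).1 hg
  set s := (k⁻¹ * b * k) * s₀ with hs
  have hbk : k⁻¹ * b * k ∈ B := by
    have := hxBn k⁻¹ (inv_mem hk) b hb
    rwa [inv_inv] at this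
  have hsS : s ∈ S := S.mul_mem (h.BS hbk) hs₀
  have hsB : s ∉ B := by
    intro h0
    apply hs₀B
    have h1 := B.mul_mem (B.inv_mem hbk) h0
    have e : (k⁻¹ * b * k)⁻¹ * s = s₀ := by rw [hs, inv_mul_cancel_left]
    rwa [e] at h1
  have hxk : x * k = k * x := by
    obtain ⟨n, rfl⟩ := hk
    exact ((Commute.refl x).zpow_right n).eq
  obtain ⟨n, hn⟩ := hgx
  have hn' : (s * x * s⁻¹) ^ n = x := by
    have e : s * x * s⁻¹ = k⁻¹ * ((b * k) * (s₀ * x * s₀⁻¹) * (b * k)⁻¹) * k⁻¹⁻¹ := by rw [hs]; group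
    have h1 : ((b * k) * (s₀ * x * s₀⁻¹) * (b * k)⁻¹) ^ n = x := hn
    rw [e, conj_zpow, h1, inv_inv, mul_assoc, hxk, inv_mul_cancel_left]
  -- `s x s⁻¹ = x⁻¹`
  have hord : orderOf (s * x * s⁻¹) = 3 := by rw [CompStandard.orderOf_conj, h.x3]
  have hsx : s * x * s⁻¹ = x⁻¹ := by
    have h1 : zpowers (s * x * s⁻¹) = zpowers x := by
      symm
      apply Subgroup.eq_of_le_of_card_ge
      · rw [zpowers_le]; exact ⟨n, hn'⟩
      · rw [Nat.card_zpowers, Nat.card_zpowers, hord, h.x3]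
    have h2 : s * x * s⁻¹ ∈ zpowers x := by rw [← h1]; exact mem_zpowers _
    classical
    rw [mem_zpowers_iff_mem_range_orderOf, h.x3] at h2
    simp only [Finset.mem_image, Finset.mem_range] at h2
    obtain ⟨i, hi, hi'⟩ := h2
    have hne : s * x * s⁻¹ ≠ x := by
      intro h0
      have h3 : s * a * s⁻¹ = a := by
        rw [had]
        calc s * (x * z * x⁻¹) * s⁻¹ = (s * x * s⁻¹) * (s * z * s⁻¹) * (s * x * s⁻¹)⁻¹ := by group
          _ = x * z * x⁻¹ := by rw [h0, hsz s hsS]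
      rw [hs1 s hsS hsB] at h3
      exact hz.ne (by simpa using h3)
    have hi0 : i ≠ 0 := by
      rintro rfl
      rw [pow_zero] at hi'
      rw [← hi', orderOf_one] at hord
      omega
    have hi1 : i ≠ 1 := by
      rintro rfl
      rw [pow_one] at hi'
      exact hne hi'.symm
    have hi2 : i = 2 := by omega
    subst hi2
    rw [← hi']
    have h3 := h.xxx
    rw [eq_inv_iff_mul_eq_one, pow_two, h3]
  refine ⟨s, hsS, hsB, ?_, hsx⟩
  apply h.fB (h.sq_mem_B hsS)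
  have h1 : (s * s) * x * (s * s)⁻¹ = x := by
    calc (s * s) * x * (s * s)⁻¹ = s * (s * x * s⁻¹) * s⁻¹ := by group
      _ = s * x⁻¹ * s⁻¹ := by rw [hsx]
      _ = (s * x * s⁻¹)⁻¹ := by group
      _ = x := by rw [hsx, inv_inv]
  exact (mul_inv_eq_iff_eq_mul.1 h1).symm

/-- all involutions are conjugate to `z` -/
theorem conj_z [IsSimpleGroup G] (hnab : ∃ a b : G, a * b ≠ b * a) (h : Sit S B V W Z x) {z : G} (hz : Cen S Z z)
    {t : G} (ht : t * t = 1) (ht1 : t ≠ 1) : ∃ g : G, g * t * g⁻¹ = z := by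
  -- involutions of `B`
  have key : ∀ b ∈ B, b * b = 1 → b ≠ 1 → ∃ g : G, g * b * g⁻¹ = z := by
    intro b hb hbb hb1
    rcases h.invo hb hbb with h1 | h1
    · obtain ⟨g, -, hg⟩ := h.trV b h1 z (h.ZV hz.mem) hb1 hz.ne
      exact ⟨g, hg⟩
    · obtain ⟨g, -, hg⟩ := h.trW b h1 z (h.ZW hz.mem) hb1 hz.ne
      exact ⟨g, hg⟩
  have hconj : ∀ (g t : G), t * t = 1 → (g * t * g⁻¹) * (g * t * g⁻¹) = 1 := by
    intro g t ht
    calc (g * t * g⁻¹) * (g * t * g⁻¹) = g * (t * t) * g⁻¹ := by group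
      _ = 1 := by rw [ht]; group
  have hconj1 : ∀ (g t : G), t ≠ 1 → g * t * g⁻¹ ≠ 1 := by
    intro g t ht h0
    apply ht
    have h1 : t = g⁻¹ * (g * t * g⁻¹) * g := by group
    rw [h1, h0]; group
  -- `t` lies in a conjugate of `S`
  have ht2 : IsPGroup 2 (zpowers t) := isPGroup_zpowers (CaseABase.orderOf_eq_two ht1 ht)
  obtain ⟨Q, hQ, htQ⟩ := exists_isSyl2 ⊤ (zpowers t) le_top ht2
  obtain ⟨m, -, hm⟩ := CITBasic.IsSyl2.conj h.syl hQ
  have hm' : cj m S = Q := hm.symm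
  have h1 : m⁻¹ * t * m ∈ S := by
    rw [← mem_cj, hm']
    exact htQ (mem_zpowers t)
  set t' := m⁻¹ * t * m with ht'
  have e' : t' = m⁻¹ * t * m⁻¹⁻¹ := by rw [inv_inv]
  have ht'2 : t' * t' = 1 := by rw [e']; exact hconj _ t ht
  have ht'1 : t' ≠ 1 := by rw [e']; exact hconj1 _ t ht1
  have h2 : ∃ g : G, g * t' * g⁻¹ = z := by
    by_cases htB : t' ∈ B
    · exact key t' htB ht'2 ht'1
    · obtain ⟨g, hg⟩ := B2Trans.tt hnab ht'2 S B h.syl h.BS (h.relIndex_eq_two h1 htB) h1 htB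
      obtain ⟨g', hg'⟩ := key _ hg (hconj g t' ht'2) (hconj1 g t' ht'1)
      exact ⟨g' * g, by rw [← hg']; group⟩
  obtain ⟨g, hg⟩ := h2
  exact ⟨g * m⁻¹, by rw [← hg, ht']; group⟩

/-- an element of order 6 gives an element of order 3 of `C_G(z)` -/
theorem exists_y [IsSimpleGroup G] (hnab : ∃ a b : G, a * b ≠ b * a) (h : Sit S B V W Z x) {z : G} (hz : Cen S Z z)
    (h6 : ∃ g : G, orderOf g = 6) : ∃ y : G, orderOf y = 3 ∧ y * z = z * y := by
  obtain ⟨c, hc⟩ := h6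
  have h1 : orderOf (c ^ 3) = 2 := by
    rw [orderOf_pow' c (by norm_num), hc]; norm_num
  have h2 : orderOf (c ^ 2) = 3 := by
    rw [orderOf_pow' c (by norm_num), hc]; norm_num
  obtain ⟨g, hg⟩ := h.conj_z hnab hz (CaseABase.sq_of_orderOf h1) (CaseABase.ne_one_of_orderOf h1)
  refine ⟨g * c ^ 2 * g⁻¹, by rw [CompStandard.orderOf_conj, h2], ?_⟩
  rw [← hg]
  have h3 : c ^ 2 * c ^ 3 = c ^ 3 * c ^ 2 := by rw [← pow_add, ← pow_add]
  calc (g * c ^ 2 * g⁻¹) * (g * c ^ 3 * g⁻¹) = g * (c ^ 2 * c ^ 3) * g⁻¹ := by group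
    _ = g * (c ^ 3 * c ^ 2) * g⁻¹ := by rw [h3]
    _ = _ := by group

/-- the data for `C_G(z)` -/
theorem exists_UD [IsSimpleGroup G] (hnab : ∃ a b : G, a * b ≠ b * a) (hc : CharTwo G) (h : Sit S B V W Z x)
    {z : G} (hz : Cen S Z z) (h6 : ∃ g : G, orderOf g = 6) : ∃ U y, UD S Z U z y := by
  obtain ⟨y, hy, hyz⟩ := h.exists_y hnab hz h6
  obtain ⟨U, hU⟩ := exists_isO2 (centralizer ({z} : Set G))
  refine ⟨U, y, hz, hU, ?_, hy, hyz⟩
  have hz2 : orderOf z = 2 := CaseABase.orderOf_eq_two hz.ne (h.eZ z hz.mem)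
  apply hc (zpowers z) U (isPGroup_zpowers hz2)
  · intro h0
    rw [zpowers_eq_bot] at h0
    exact hz.ne h0
  · have h1 : normalizer (zpowers z : Set G) = centralizer ({z} : Set G) := by
      ext g
      rw [mem_centralizer_singleton_iff]
      constructor
      · intro hg
        have h2 := forall_of_mem_normalizer hg z (mem_zpowers z)
        have h3 : g * z * g⁻¹ = 1 ∨ g * z * g⁻¹ = z := by
          classical
          rw [mem_zpowers_iff_mem_range_orderOf, hz2] at h2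
          simp only [Finset.mem_image, Finset.mem_range] at h2
          obtain ⟨i, hi, hi'⟩ := h2
          have : i = 0 ∨ i = 1 := by omega
          rcases this with rfl | rfl
          · left; rw [← hi', pow_zero]
          · right; rw [← hi', pow_one]
        rcases h3 with h3 | h3
        · exfalso
          apply hz.ne
          have h4 : z = g⁻¹ * (g * z * g⁻¹) * g := by group
          rw [h4, h3]; group
        · exact mul_inv_eq_iff_eq_mul.1 h3
      · intro hg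
        apply mem_normalizer_of_forall
        rintro _ ⟨n, rfl⟩
        have h2 : Commute g (z ^ n) := (show Commute g z from hg).zpow_right n
        have h3 : g * z ^ n * g⁻¹ = z ^ n := by rw [h2.eq]; group
        rw [h3]
        exact ⟨n, rfl⟩
    rw [h1]
    exact hU

end Sit

end Cfsg.Agent.OddCyclic.AOneSit
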