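import Mathlib
import Cfsg.Agent.OddCyclic.T1Defs
import Cfsg.Agent.LieExceptional.CITBasic

/-!
# S0342, no elements of order 6: tools for the pieces M and N (blueprints/S0342-T0eq1.md, 4.3 and 4.4)
-/

set_option autoImplicit false
set_option linter.unusedSectionVars false
open Cfsg

namespace Cfsg.Agent.OddCyclic.T1Tools

open Cfsg.Agent.LieExceptional.CITDefs Cfsg.Agent.LieExceptional.CITBasic Cfsg.Agent.OddCyclic.T1Defs
open Cfsg.Agent.LieExceptional
open Subgroup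

/-! ### counting -/

section count

variable {G : Type*} [Group G]

theorem card_subgroupOf {H K : Subgroup G} (h : H ≤ K) : Nat.card (H.subgroupOf K) = Nat.card H :=
  Nat.card_congr (Subgroup.subgroupOfEquivOfLe h).toEquiv

theorem card_mul_relIndex {H K : Subgroup G} (h : H ≤ K) :
    Nat.card H * H.relIndex K = Nat.card K := by
  rw [Subgroup.relIndex, ← card_subgroupOf h]
  exact Subgroup.card_mul_index _

/-- `|K H| |K ∩ H| = |K| |H|` -/
theorem card_sup_mul [Finite G] {K H : Subgroup G} (h : H ≤ normalizer (K : Set G)) :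
    Nat.card (K ⊔ H : Subgroup G) * Nat.card (K ⊓ H : Subgroup G) = Nat.card K * Nat.card H := by
  have hKn : (K.subgroupOf (K ⊔ H)).Normal :=
    normal_subgroupOf_of_le_normalizer (sup_le le_normalizer h)
  have h1 := relIndex_sup_left (H.subgroupOf (K ⊔ H)) (K.subgroupOf (K ⊔ H))
  rw [← Subgroup.subgroupOf_sup le_sup_left le_sup_right, Subgroup.subgroupOf_self,
    Subgroup.relIndex_subgroupOf le_sup_right, relIndex_top_right] at h1
  have h2 : Nat.card K * K.relIndex H = Nat.card (K ⊔ H : Subgroup G) := by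
    rw [← h1]
    exact card_mul_relIndex le_sup_left
  have h3 : Nat.card (K ⊓ H : Subgroup G) * K.relIndex H = Nat.card H := by
    rw [← inf_relIndex_right]
    exact card_mul_relIndex inf_le_right
  rw [← h2, ← h3]
  ring

/-- If `A` and `B` are subgroups of `X` with `|X| ≤ n |A|` then `|B| ≤ n |A ∩ B|`. -/
theorem card_le_inf [Finite G] {A B X : Subgroup G} (hA : A ≤ X) (hB : B ≤ X) {n : ℕ}
    (h : Nat.card X ≤ n * Nat.card A) : Nat.card B ≤ n * Nat.card (A ⊓ B : Subgroup G) := by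
  have h1 : A.relIndex X ≤ n := by
    have h2 := card_mul_relIndex hA
    rw [← h2, mul_comm n] at h
    exact Nat.le_of_mul_le_mul_left h Nat.card_pos
  have h2 : (A ⊓ B).relIndex B ≤ A.relIndex X := by
    rw [inf_relIndex_right]
    exact relIndex_le_of_le_right hB (by
      rw [relIndex]; exact Subgroup.index_ne_zero_of_finite)
  have h3 := card_mul_relIndex (inf_le_right : A ⊓ B ≤ B)
  rw [← h3, mul_comm n]
  exact Nat.mul_le_mul_left _ (h2.trans h1)

end count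

/-! ### coprime action -/

section coprime

variable {G : Type*} [Group G] [Finite G]

/-- `[u, y] ∈ C`, `C` a 2-group centralised by `y` of odd order: `y` centralises `u`. -/
theorem commute_of_mem {y u : G} (hodd : Odd (orderOf y)) {C : Subgroup G} (h2 : IsPGroup 2 C)
    (hC : ∀ c ∈ C, y * c = c * y) (h : y * u * y⁻¹ * u⁻¹ ∈ C) : y * u = u * y := by
  set c : G := y * u * y⁻¹ * u⁻¹ with hc
  have hyc := hC c h
  have h1 : ∀ n : ℕ, y ^ n * u * (y ^ n)⁻¹ = c ^ n * u := by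
    intro n
    induction n with
    | zero => simp
    | succ n ih =>
      have hyn : y * c ^ n = c ^ n * y := (Commute.pow_right (show Commute y c from hyc) n).eq
      calc y ^ (n + 1) * u * (y ^ (n + 1))⁻¹ = y * (y ^ n * u * (y ^ n)⁻¹) * y⁻¹ := by
            rw [pow_succ']; group
        _ = y * (c ^ n * u) * y⁻¹ := by rw [ih]
        _ = (y * c ^ n) * u * y⁻¹ := by group
        _ = c ^ n * (y * u * y⁻¹ * u⁻¹) * u := by rw [hyn]; group
        _ = c ^ (n + 1) * u := by rw [← hc, pow_succ]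
  have h3 := h1 (orderOf y)
  rw [pow_orderOf_eq_one, one_mul, inv_one, mul_one] at h3
  have h4 : c ^ orderOf y = 1 := by
    have h4 : c ^ orderOf y * u = 1 * u := by rw [← h3, one_mul]
    exact mul_right_cancel h4
  obtain ⟨k, hk⟩ := h2 ⟨c, h⟩
  have hk' : c ^ 2 ^ k = 1 := congrArg Subtype.val hk
  have h5 : c = 1 := by
    have h6 := orderOf_dvd_of_pow_eq_one h4
    have h7 := orderOf_dvd_of_pow_eq_one hk'
    have h8 : Nat.Coprime (orderOf y) (2 ^ k) := Nat.Coprime.pow_right k hodd.coprime_two_right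
    exact orderOf_eq_one_iff.1 (Nat.eq_one_of_dvd_coprimes h8 h6 h7)
  rw [hc] at h5
  have h6 : y * u * y⁻¹ = u := mul_inv_eq_one.1 h5
  calc y * u = (y * u * y⁻¹) * y := by group
    _ = u * y := by rw [h6]

/-- **Lemma (L)**: a `{2,3}'`-element `y` normalising the 2-group `W` and centralising a subgroup of index `≤ 4`
of `W` centralises `W`. -/
theorem commute_of_index_le_four {y : G} (hodd : Odd (orderOf y)) (h3 : ¬ 3 ∣ orderOf y)
    {W C : Subgroup G} (hW : IsPGroup 2 W) (hy : ∀ w ∈ W, y * w * y⁻¹ ∈ W) (hCW : C ≤ W)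
    (hC : ∀ c ∈ C, y * c = c * y) (hidx : Nat.card W ≤ 4 * Nat.card C) :
    ∀ w ∈ W, y * w = w * y := by
  intro w hw
  have hyn : ∀ n : ℕ, ∀ w ∈ W, y ^ n * w * (y ^ n)⁻¹ ∈ W := by
    intro n
    induction n with
    | zero => intro w hw; simpa using hw
    | succ n ih =>
      intro w hw
      have e : y ^ (n + 1) * w * (y ^ (n + 1))⁻¹ = y * (y ^ n * w * (y ^ n)⁻¹) * y⁻¹ := by
        rw [pow_succ']; group
      rw [e]
      exact hy _ (ih w hw)
  -- pigeonhole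
  have hidx' : Nat.card (W ⧸ C.subgroupOf W) ≤ 4 := by
    have h1 := card_mul_relIndex hCW
    have h2 : C.relIndex W ≤ 4 := by
      rw [← h1, mul_comm 4] at hidx
      exact Nat.le_of_mul_le_mul_left hidx Nat.card_pos
    exact h2
  let f : Fin 5 → W ⧸ C.subgroupOf W := fun i =>
    QuotientGroup.mk (⟨y ^ (i : ℕ) * w * (y ^ (i : ℕ))⁻¹, hyn i w hw⟩ : W)
  have hnf : ¬ Function.Injective f := by
    intro hf
    have := Nat.card_le_card_of_injective f hf
    rw [Nat.card_eq_fintype_card, Fintype.card_fin] at this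
    omega
  have hex : ∃ i j : ℕ, i < j ∧ j ≤ 4 ∧
      (y ^ i * w * (y ^ i)⁻¹)⁻¹ * (y ^ j * w * (y ^ j)⁻¹) ∈ C := by
    rw [Function.Injective] at hnf
    push Not at hnf
    obtain ⟨i, j, hij, hne⟩ := hnf
    have key : ∀ i j : Fin 5, f i = f j →
        (y ^ (i : ℕ) * w * (y ^ (i : ℕ))⁻¹)⁻¹ * (y ^ (j : ℕ) * w * (y ^ (j : ℕ))⁻¹) ∈ C := by
      intro i j hij
      have h1 : (QuotientGroup.mk (⟨y ^ (i : ℕ) * w * (y ^ (i : ℕ))⁻¹, hyn i w hw⟩ : W) :
          W ⧸ C.subgroupOf W) =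
          QuotientGroup.mk (⟨y ^ (j : ℕ) * w * (y ^ (j : ℕ))⁻¹, hyn j w hw⟩ : W) := hij
      have h2 := QuotientGroup.eq.1 h1
      exact h2
    rcases lt_or_gt_of_ne (fun h : (i : ℕ) = j => hne (Fin.ext h)) with h | h
    · exact ⟨i, j, h, by have := j.2; omega, key i j hij⟩
    · exact ⟨j, i, h, by have := i.2; omega, key j i hij.symm⟩
  obtain ⟨i, j, hij, hj4, hmem⟩ := hex
  obtain ⟨k, rfl⟩ := Nat.exists_eq_add_of_lt hij
  set z : G := y ^ (k + 1) with hz
  have hCn : ∀ n : ℕ, ∀ c ∈ C, y ^ n * c = c * y ^ n := fun n c hc =>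
    (Commute.pow_left (show Commute y c from hC c hc) n).eq
  have hzw : z * w⁻¹ * z⁻¹ * w⁻¹⁻¹ ∈ C := by
    set c : G := (y ^ i * w * (y ^ i)⁻¹)⁻¹ * (y ^ (i + k + 1) * w * (y ^ (i + k + 1))⁻¹) with hc
    have h1 : y ^ i * (w⁻¹ * (z * w * z⁻¹)) * (y ^ i)⁻¹ = c := by
      rw [hc, hz, show i + k + 1 = i + (k + 1) by ring, pow_add]
      group
    have h2 : w⁻¹ * (z * w * z⁻¹) = c := by
      have h3 := hCn i c hmem
      calc w⁻¹ * (z * w * z⁻¹) = (y ^ i)⁻¹ * (y ^ i * (w⁻¹ * (z * w * z⁻¹)) * (y ^ i)⁻¹) * y ^ i := by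
            group
        _ = (y ^ i)⁻¹ * (c * y ^ i) := by rw [h1]; group
        _ = (y ^ i)⁻¹ * (y ^ i * c) := by rw [h3]
        _ = c := by group
    have h4 : z * w⁻¹ * z⁻¹ * w⁻¹⁻¹ = (w⁻¹ * (z * w * z⁻¹))⁻¹ := by group
    rw [h4, h2]
    exact inv_mem hmem
  have hzo : Odd (orderOf z) := Odd.of_dvd_nat hodd (orderOf_pow_dvd _)
  have h5 := commute_of_mem hzo (hW.to_le hCW) (hCn (k + 1)) hzw
  have h6 : Commute w z := by
    have h7 : Commute z w⁻¹ := h5
    exact (Commute.inv_right_iff.1 h7).symm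
  have hcop : Nat.Coprime (k + 1) (orderOf y) := by
    have h8 : k + 1 ≤ 4 := by omega
    have h9 : ¬ 2 ∣ orderOf y := hodd.not_two_dvd_nat
    have h10 : Nat.Coprime 2 (orderOf y) := (Nat.Prime.coprime_iff_not_dvd Nat.prime_two).2 h9
    have h11 : Nat.Coprime 3 (orderOf y) := (Nat.Prime.coprime_iff_not_dvd Nat.prime_three).2 h3
    interval_cases h : k + 1
    · exact absurd h (by omega)
    · exact Nat.coprime_one_left _
    · exact h10
    · exact h11
    · exact Nat.Coprime.mul_left h10 h10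
  obtain ⟨m, hm⟩ := exists_pow_eq_self_of_coprime hcop
  have h7 : Commute w (z ^ m) := h6.pow_right m
  rw [hz, hm] at h7
  exact h7.symm.eq

end coprime

/-! ### Case II -/

section caseII

variable {G : Type*} [Group G] [Finite G]

/-- A Sylow 2-subgroup of `G` is one of every subgroup containing it. -/
theorem isSyl2_of_le {S K : Subgroup G} (h : IsSyl2 (⊤ : Subgroup G) S) (hK : S ≤ K) : IsSyl2 K S :=
  ⟨hK, h.two, fun Y _ h2 h3 => h.max Y le_top h2 h3⟩

theorem mem_normalizer_of_map_eq {S : Subgroup G} {g : G}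
    (h : S = S.map (MulAut.conj g).toMonoidHom) : g ∈ normalizer (S : Set G) := by
  rw [mem_normalizer_iff]
  intro x
  constructor
  · intro hx
    rw [h]
    exact ⟨x, hx, rfl⟩
  · intro hx
    rw [h] at hx
    obtain ⟨y, hy, hyx⟩ := hx
    have h1 : g * y * g⁻¹ = g * x * g⁻¹ := hyx
    have h2 : y = x := mul_left_cancel (mul_right_cancel h1)
    rwa [← h2]

/-- The conjugate of a Sylow 2-subgroup of `G`. -/
theorem isSyl2_map {S K : Subgroup G} (h : IsSyl2 (⊤ : Subgroup G) S) (g : G)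
    (hK : S.map (MulAut.conj g).toMonoidHom ≤ K) :
    IsSyl2 K (S.map (MulAut.conj g).toMonoidHom) := by
  refine ⟨hK, h.two.map _, fun Y _ h2 h3 => ?_⟩
  have h4 : S ≤ Y.map (MulAut.conj g⁻¹).toMonoidHom := by
    intro s hs
    refine ⟨g * s * g⁻¹, h3 ⟨s, hs, rfl⟩, ?_⟩
    show g⁻¹ * (g * s * g⁻¹) * g⁻¹⁻¹ = s
    group
  have h5 := h.max _ le_top (h2.map _) h4
  apply le_antisymm _ h3
  intro y hy
  refine ⟨g⁻¹ * y * g⁻¹⁻¹, ?_, ?_⟩
  · rw [← h5]
    exact ⟨y, hy, rfl⟩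
  · show g * (g⁻¹ * y * g⁻¹⁻¹) * g⁻¹ = y
    group

/-- Frattini and minimality: a normal subgroup of `P₂` containing `S` is `P₂`. -/
theorem eq_of_sylow_le {M P Q S P₂ Q₂ : Subgroup G} {q : ℕ} (h : CaseII M P Q S P₂ Q₂ q)
    {N : Subgroup G} (hN : NormalIn P₂ N) (hS : S ≤ N) : N = P₂ := by
  by_contra hne
  have hNM : N ≤ M := h.min N hS hN.1 hne
  apply h.not_le
  intro g hg
  have h1 : IsSyl2 N S := isSyl2_of_le h.sylow hS
  have h2 : IsSyl2 N (S.map (MulAut.conj g).toMonoidHom) := by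
    apply isSyl2_map h.sylow
    rintro _ ⟨s, hs, rfl⟩
    exact hN.2 g hg s (hS hs)
  obtain ⟨m, hm, hmS⟩ := IsSyl2.conj h2 h1
  have h3 : m * g ∈ normalizer (S : Set G) := by
    apply mem_normalizer_of_map_eq
    rw [Subgroup.map_map] at hmS
    have e : (MulAut.conj (m * g)).toMonoidHom =
        (MulAut.conj m).toMonoidHom.comp (MulAut.conj g).toMonoidHom := by
      ext x
      simp [mul_assoc]
    rw [e]
    exact hmS
  have h4 := M.mul_mem (M.inv_mem (hNM hm)) (h.norm h3)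
  rwa [inv_mul_cancel_left] at h4

/-- If `Z = Ω₁(Z(S))` is normal in `P₂`, it is central in `P₂`. -/
theorem central_of_normal {M P Q S P₂ Q₂ : Subgroup G} {q : ℕ} (h : CaseII M P Q S P₂ Q₂ q)
    (hZ : ∀ g ∈ P₂, ∀ z ∈ omegaZ S, g * z * g⁻¹ ∈ omegaZ S) :
    ∀ g ∈ P₂, ∀ z ∈ omegaZ S, g * z = z * g := by
  have hN : NormalIn P₂ (P₂ ⊓ centralizer (omegaZ S : Set G)) := by
    refine ⟨inf_le_left, fun m hm n hn => mem_inf.2 ⟨P₂.mul_mem (P₂.mul_mem hm hn.1) (P₂.inv_mem hm),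
      mem_centralizer_iff.2 fun z hz => ?_⟩⟩
    have hz' : m⁻¹ * z * m ∈ omegaZ S := by
      have := hZ m⁻¹ (inv_mem hm) z hz
      rwa [inv_inv] at this
    have h1 := mem_centralizer_iff.1 hn.2 _ hz'
    calc z * (m * n * m⁻¹) = m * ((m⁻¹ * z * m) * n) * m⁻¹ := by group
      _ = m * (n * (m⁻¹ * z * m)) * m⁻¹ := by rw [h1]
      _ = m * n * m⁻¹ * z := by group
  have hS : S ≤ P₂ ⊓ centralizer (omegaZ S : Set G) := by
    intro s hs
    refine ⟨h.le hs, mem_centralizer_iff.2 fun z hz => ?_⟩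
    exact hz.2.2 s hs
  have h1 := eq_of_sylow_le h hN hS
  intro g hg z hz
  have h2 : g ∈ P₂ ⊓ centralizer (omegaZ S : Set G) := by rw [h1]; exact hg
  exact (mem_centralizer_iff.1 h2.2 z hz).symm

theorem Q₂_le_S {M P Q S P₂ Q₂ : Subgroup G} {q : ℕ} (h : CaseII M P Q S P₂ Q₂ q) : Q₂ ≤ S :=
  CITNonCommute.o2_le_syl h.o2 (isSyl2_of_le h.sylow h.le)

theorem Q_le_S {M P Q S P₂ Q₂ : Subgroup G} {q : ℕ} (h : CaseII M P Q S P₂ Q₂ q) : Q ≤ S :=
  CITNonCommute.o2_le_syl h.t₁.o2 h.t₁.syl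

/-- `Z ≤ Z(Q₂)` -/
theorem Z_le_Q₂ {M P Q S P₂ Q₂ : Subgroup G} {q : ℕ} (h : CaseII M P Q S P₂ Q₂ q) :
    omegaZ S ≤ Q₂ := by
  intro z hz
  exact h.cent z (h.le hz.1) fun x hx => hz.2.2 x (Q₂_le_S h hx)

/-- elements of `S` act on `V` -/
theorem V_conj {M P Q S P₂ Q₂ : Subgroup G} {q : ℕ} (h : CaseII M P Q S P₂ Q₂ q) {m : G}
    (hm : m ∈ M) {v : G} (hv : v ∈ omegaZ Q) : m * v * m⁻¹ ∈ omegaZ Q :=
  CITFFAux.omegaZ_conj h.t₁.o2.normal m hm v hv

end caseII

end Cfsg.Agent.OddCyclic.T1Tools
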