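import Mathlib
import Cfsg.Agent.OddCyclic.T1Defs
import Cfsg.Agent.OddCyclic.T1Tools
import Cfsg.Agent.OddCyclic.CompBasic
import Cfsg.Agent.LieExceptional.CITSylowFour
import Cfsg.Agent.LieExceptional.CITGlobalBasic

/-!
# S0342, characteristic 2 type, unique maximal 2-local over `S`: the end `q = 4` (local facts)

`B = V W` of order 64, `V`, `W` elementary abelian of order 16, `Z = V ∩ W` of order 4 (a Sylow 2-subgroup of
`L₃(4)`), and an element `x` of order 3 acting fixed point freely.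
-/

set_option autoImplicit false
set_option linter.unusedSectionVars false

universe u

namespace Cfsg.Agent.OddCyclic.COneEnd

open Cfsg.Agent.LieExceptional.CITDefs Cfsg.Agent.OddCyclic.T1Defs
open Cfsg.Agent.LieExceptional.CITSylowFour
open Subgroup

variable {G : Type u} [Group G] [Finite G]

/-- local configuration: `B = V W`, like a Sylow 2-subgroup of `L₃(4)` -/
structure Core (B V W Z : Subgroup G) : Prop where
  elemV : Elem V
  elemW : Elem W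
  cardV : Nat.card V = 16
  cardW : Nat.card W = 16
  sup : B = V ⊔ W
  inf : V ⊓ W = Z
  cardZ : Nat.card Z = 4
  comm : ∀ v ∈ V, ∀ w ∈ W, v * w * v⁻¹ * w⁻¹ ∈ Z
  nc : ∀ v ∈ V, ∀ w ∈ W, v * w = w * v → v ∈ Z ∨ w ∈ Z

/-- `x` of order 3 acts fixed point freely on `V` and `W` -/
structure XAct (V W : Subgroup G) (x : G) : Prop where
  three : orderOf x = 3
  nV : ∀ v ∈ V, x * v * x⁻¹ ∈ V
  nW : ∀ w ∈ W, x * w * x⁻¹ ∈ W
  fpfV : ∀ v ∈ V, x * v = v * x → v = 1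
  fpfW : ∀ w ∈ W, x * w = w * x → w = 1

theorem sq_inv {a : G} (h : a * a = 1) : a⁻¹ = a := inv_eq_of_mul_eq_one_left h

/-- number of fixed points of an element of order 3 -/
theorem card_mod_three {x : G} (hx : orderOf x = 3) {Y : Subgroup G} (hY : ∀ y ∈ Y, x * y * x⁻¹ ∈ Y) :
    Nat.card Y ≡ Nat.card (Y ⊓ centralizer ({x} : Set G) : Subgroup G) [MOD 3] := by
  classical
  have : Fact (Nat.Prime 3) := ⟨Nat.prime_three⟩
  have : Fintype Y := Fintype.ofFinite _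
  let f : Function.End Y := fun y => ⟨x * y * x⁻¹, hY y y.2⟩
  have hf : ∀ n : ℕ, ∀ y : Y, ((f ^ n : Function.End Y) y : G) = x ^ n * y * (x ^ n)⁻¹ := by
    intro n
    induction n with
    | zero => intro y; simp; rfl
    | succ n ih =>
      intro y
      have : (f ^ (n + 1) : Function.End Y) y = f ((f ^ n : Function.End Y) y) := by
        rw [pow_succ']; rfl
      rw [this]
      show x * ((f ^ n : Function.End Y) y : G) * x⁻¹ = _
      rw [ih, pow_succ']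
      group
  have h3 : f ^ 3 ^ 1 = 1 := by
    funext y
    apply Subtype.ext
    rw [hf, pow_one]
    have : x ^ 3 = 1 := by rw [← hx]; exact pow_orderOf_eq_one x
    rw [this]
    show 1 * (y : G) * 1⁻¹ = y
    group
  have h := Equiv.Perm.card_fixedPoints_modEq (f := f) (p := 3) (n := 1) h3
  rw [Nat.card_eq_fintype_card]
  refine h.trans ?_
  have e : Nat.card (Function.fixedPoints f) = Nat.card (Y ⊓ centralizer ({x} : Set G) : Subgroup G) := by
    have a1 : ∀ y : Y, y ∈ Function.fixedPoints f → (y : G) ∈ (Y ⊓ centralizer ({x} : Set G) : Subgroup G) := by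
      intro y hy
      refine ⟨y.2, ?_⟩
      have h1 : x * (y : G) * x⁻¹ = y := congrArg Subtype.val (show f y = y from hy)
      exact mem_centralizer_singleton_iff.2 (mul_inv_eq_iff_eq_mul.1 h1).symm
    have a2 : ∀ y : (Y ⊓ centralizer ({x} : Set G) : Subgroup G),
        (⟨y, y.2.1⟩ : Y) ∈ Function.fixedPoints f := by
      intro y
      have h1 : (y : G) * x = x * y := mem_centralizer_singleton_iff.1 y.2.2
      show f ⟨y, y.2.1⟩ = ⟨y, y.2.1⟩
      apply Subtype.ext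
      exact mul_inv_eq_iff_eq_mul.2 h1.symm
    exact Nat.card_congr
      { toFun := fun y => ⟨y.1, a1 y.1 y.2⟩
        invFun := fun y => ⟨⟨y.1, y.2.1⟩, a2 y⟩
        left_inv := fun y => rfl
        right_inv := fun y => rfl }
  rw [← e, Nat.card_eq_fintype_card]

variable {B V W Z : Subgroup G}

namespace Core

variable (h : Core B V W Z)

include h

theorem symm : Core B W V Z where
  elemV := h.elemW
  elemW := h.elemV
  cardV := h.cardW
  cardW := h.cardV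
  sup := by rw [h.sup, sup_comm]
  inf := by rw [inf_comm]; exact h.inf
  cardZ := h.cardZ
  comm := fun w hw v hv => by
    have h1 := Z.inv_mem (h.comm v hv w hw)
    have e : (v * w * v⁻¹ * w⁻¹)⁻¹ = w * v * w⁻¹ * v⁻¹ := by group
    rwa [e] at h1
  nc := fun w hw v hv hc => (h.nc v hv w hw hc.symm).symm

theorem mem_Z {z : G} : z ∈ Z ↔ z ∈ V ∧ z ∈ W := by
  rw [← h.inf]; exact Iff.rfl

theorem Z_le_V : Z ≤ V := fun _ hz => (h.mem_Z.1 hz).1
theorem Z_le_W : Z ≤ W := fun _ hz => (h.mem_Z.1 hz).2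
theorem V_le : V ≤ B := by rw [h.sup]; exact le_sup_left
theorem W_le : W ≤ B := by rw [h.sup]; exact le_sup_right
theorem Z_le : Z ≤ B := h.Z_le_V.trans h.V_le
theorem elemZ : Elem Z := fun z hz => h.elemV z (h.Z_le_V hz)

theorem conjV {w v : G} (hw : w ∈ W) (hv : v ∈ V) : w * v * w⁻¹ ∈ V := by
  have h1 : w * v * w⁻¹ * v⁻¹ ∈ V := h.Z_le_V (h.symm.comm w hw v hv)
  have e : w * v * w⁻¹ = (w * v * w⁻¹ * v⁻¹) * v := by group
  rw [e]; exact V.mul_mem h1 hv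

theorem W_norm : W ≤ normalizer (V : Set G) := by
  intro w hw
  rw [mem_normalizer_iff]
  exact fun x => (conj_mem_iff le_rfl (fun v hv => h.conjV hw hv) x).symm

theorem mem {b : G} (hb : b ∈ B) : ∃ v ∈ V, ∃ w ∈ W, b = v * w := by
  have hb' : b ∈ ((V ⊔ W : Subgroup G) : Set G) := by rw [← h.sup]; exact hb
  rw [Subgroup.coe_mul_of_right_le_normalizer_left V W h.W_norm] at hb'
  obtain ⟨v, hv, w, hw, rfl⟩ := Set.mem_mul.1 hb'
  exact ⟨v, hv, w, hw, rfl⟩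

theorem mem' {b : G} (hb : b ∈ B) : ∃ w ∈ W, ∃ v ∈ V, b = w * v := h.symm.mem hb

theorem normV {b v : G} (hb : b ∈ B) (hv : v ∈ V) : b * v * b⁻¹ ∈ V := by
  obtain ⟨a, ha, w, hw, rfl⟩ := h.mem hb
  have e : a * w * v * (a * w)⁻¹ = a * (w * v * w⁻¹) * a⁻¹ := by group
  rw [e]
  exact V.mul_mem (V.mul_mem ha (h.conjV hw hv)) (V.inv_mem ha)

theorem Zc {z b : G} (hz : z ∈ Z) (hb : b ∈ B) : z * b = b * z := by
  obtain ⟨v, hv, w, hw, rfl⟩ := h.mem hb
  have h1 := h.elemV.comm (h.Z_le_V hz) hv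
  have h2 := h.elemW.comm (h.Z_le_W hz) hw
  rw [← mul_assoc, h1, mul_assoc, h2, mul_assoc]

theorem sq {b : G} (hb : b ∈ B) : b * b ∈ Z := by
  obtain ⟨v, hv, w, hw, rfl⟩ := h.mem hb
  have h1 := h.comm v hv w hw
  rw [sq_inv (h.elemV v hv), sq_inv (h.elemW w hw)] at h1
  simpa [mul_assoc] using h1

theorem inv_mem {b : G} (hb : b ∈ B) (h2 : b * b = 1) : b ∈ V ∨ b ∈ W := by
  obtain ⟨v, hv, w, hw, rfl⟩ := h.mem hb
  have h3 : v * w = w * v := by
    have h4 : (v * w)⁻¹ = v * w := sq_inv h2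
    rw [mul_inv_rev, sq_inv (h.elemV v hv), sq_inv (h.elemW w hw)] at h4
    exact h4.symm
  rcases h.nc v hv w hw h3 with h5 | h5
  · exact Or.inr (W.mul_mem (h.Z_le_W h5) hw)
  · exact Or.inl (V.mul_mem hv (h.Z_le_V h5))

theorem elem_le {A : Subgroup G} (hA : A ≤ B) (hE : Elem A) : A ≤ V ∨ A ≤ W :=
  le_or_le fun a ha => h.inv_mem (hA ha) (hE a ha)

theorem card_B : Nat.card B = 64 := by
  have h1 := T1Tools.card_sup_mul (K := V) (H := W) h.W_norm
  rw [← h.sup, h.inf, h.cardZ, h.cardV, h.cardW] at h1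
  omega

theorem two_B : IsPGroup 2 B := by
  apply IsPGroup.of_card (n := 6)
  rw [h.card_B]; norm_num

theorem exists_V : ∃ v ∈ V, v ∉ Z := by
  by_contra hc
  push Not at hc
  have : V ≤ Z := hc
  have h1 := Subgroup.card_le_of_le this
  rw [h.cardV, h.cardZ] at h1
  omega

theorem V_ne_W : V ≠ W := by
  intro e
  have h1 := h.inf
  rw [← e, inf_idem] at h1
  have h2 := h.cardZ
  rw [← h1, h.cardV] at h2
  omega

theorem V_eq {A : Subgroup G} (hA : A ≤ V) (hc : Nat.card A = 16) : A = V :=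
  Subgroup.eq_of_le_of_card_ge hA (by rw [hc, h.cardV])

/-- an element of `V` centralised by an element of `B ∖ V` is in `Z` -/
theorem mem_Z_of_comm {b v : G} (hb : b ∈ B) (hbV : b ∉ V) (hv : v ∈ V) (hc : b * v = v * b) : v ∈ Z := by
  obtain ⟨a, ha, w, hw, rfl⟩ := h.mem hb
  have hwZ : w ∉ Z := fun hwZ => hbV (V.mul_mem ha (h.Z_le_V hwZ))
  have h1 : v * w = w * v := by
    have h2 := h.elemV.comm ha hv
    have h3 : a * (w * v) = a * (v * w) := by
      rw [← mul_assoc, hc, ← mul_assoc, ← mul_assoc, h2]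
    exact (mul_left_cancel h3).symm
  exact (h.nc v hv w hw h1).resolve_right hwZ

/-- `g` normalising `B` permutes `{V, W}` -/
theorem swap {g : G} (hg : ∀ b ∈ B, g * b * g⁻¹ ∈ B) :
    ((∀ v ∈ V, g * v * g⁻¹ ∈ V) ∧ ∀ w ∈ W, g * w * g⁻¹ ∈ W) ∨
    ((∀ v ∈ V, g * v * g⁻¹ ∈ W) ∧ ∀ w ∈ W, g * w * g⁻¹ ∈ V) := by
  have key : ∀ A : Subgroup G, A ≤ B → Elem A →
      (∀ v ∈ A, g * v * g⁻¹ ∈ V) ∨ (∀ v ∈ A, g * v * g⁻¹ ∈ W) := by
    intro A hA hE
    have h1 : A.map (MulAut.conj g).toMonoidHom ≤ B := by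
      rintro _ ⟨a, ha, rfl⟩
      exact hg a (hA ha)
    have h2 : Elem (A.map (MulAut.conj g).toMonoidHom) := by
      rintro _ ⟨a, ha, rfl⟩
      have h3 := hE a ha
      show (g * a * g⁻¹) * (g * a * g⁻¹) = 1
      have e : (g * a * g⁻¹) * (g * a * g⁻¹) = g * (a * a) * g⁻¹ := by group
      rw [e, h3]; group
    rcases h.elem_le h1 h2 with h3 | h3
    · exact Or.inl fun v hv => h3 ⟨v, hv, rfl⟩
    · exact Or.inr fun v hv => h3 ⟨v, hv, rfl⟩
  have bad : ∀ X : Subgroup G, Nat.card X = 16 → (∀ v ∈ V, g * v * g⁻¹ ∈ X) → (∀ v ∈ W, g * v * g⁻¹ ∈ X) →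
      False := by
    intro X hX h1 h2
    have e1 : ∀ y, g * y * g⁻¹ ∈ X ↔ y ∈ V := conj_mem_iff (by rw [hX, h.cardV]) h1
    have e2 : ∀ y, g * y * g⁻¹ ∈ X ↔ y ∈ W := conj_mem_iff (by rw [hX, h.cardW]) h2
    apply h.V_ne_W
    ext y
    rw [← e1, e2]
  rcases key V h.V_le h.elemV with h1 | h1 <;> rcases key W h.W_le h.elemW with h2 | h2
  · exact (bad V h.cardV h1 h2).elim
  · exact Or.inl ⟨h1, h2⟩
  · exact Or.inr ⟨h1, h2⟩
  · exact (bad W h.cardW h1 h2).elim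

/-- `g` normalising `V` and `B` normalises `W` and `Z` -/
theorem normW {g : G} (hg : ∀ b ∈ B, g * b * g⁻¹ ∈ B) (hV : ∀ v ∈ V, g * v * g⁻¹ ∈ V) :
    ∀ w ∈ W, g * w * g⁻¹ ∈ W := by
  rcases h.swap hg with h1 | h1
  · exact h1.2
  · exfalso
    have e1 : ∀ y, g * y * g⁻¹ ∈ V ↔ y ∈ V := conj_mem_iff le_rfl hV
    have e2 : ∀ y, g * y * g⁻¹ ∈ V ↔ y ∈ W := conj_mem_iff (by rw [h.cardV, h.cardW]) h1.2
    apply h.V_ne_W
    ext y
    rw [← e1, e2]

/-- `g` normalising `B` normalises `Z` -/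
theorem normZ {g : G} (hg : ∀ b ∈ B, g * b * g⁻¹ ∈ B) : ∀ z ∈ Z, g * z * g⁻¹ ∈ Z := by
  intro z hz
  obtain ⟨h1, h2⟩ := h.mem_Z.1 hz
  rcases h.swap hg with h3 | h3
  · exact h.mem_Z.2 ⟨h3.1 z h1, h3.2 z h2⟩
  · exact h.mem_Z.2 ⟨h3.2 z h2, h3.1 z h1⟩

theorem x_B {x : G} (hx : XAct V W x) : ∀ b ∈ B, x * b * x⁻¹ ∈ B := by
  intro b hb
  obtain ⟨v, hv, w, hw, rfl⟩ := h.mem hb
  have e : x * (v * w) * x⁻¹ = (x * v * x⁻¹) * (x * w * x⁻¹) := by group
  rw [e]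
  exact B.mul_mem (h.V_le (hx.nV v hv)) (h.W_le (hx.nW w hw))

theorem x_Z {x : G} (hx : XAct V W x) : ∀ z ∈ Z, x * z * x⁻¹ ∈ Z := h.normZ (h.x_B hx)

/-- the map `z ↦ z z^x` of `Z` is surjective -/
theorem exists_mul_conj {x : G} (hx : XAct V W x) {k : G} (hk : k ∈ Z) : ∃ z ∈ Z, z * (x * z * x⁻¹) = k := by
  let f : Z → Z := fun z => ⟨z * (x * z * x⁻¹), Z.mul_mem z.2 (h.x_Z hx z z.2)⟩
  have hf : Function.Injective f := by
    rintro ⟨a, ha⟩ ⟨b, hb⟩ hab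
    have h1 : a * (x * a * x⁻¹) = b * (x * b * x⁻¹) := congrArg Subtype.val hab
    have ha2 := h.elemZ a ha
    have hb2 := h.elemZ b hb
    have hcab : a * b = b * a := h.elemZ.comm ha hb
    have h2 : x * (a * b) * x⁻¹ = a * b := by
      have hxa := h.x_Z hx a ha
      have hxb := h.x_Z hx b hb
      have hxa2 := h.elemZ _ hxa
      have e1 : x * (a * b) * x⁻¹ = (x * a * x⁻¹) * (x * b * x⁻¹) := by group
      rw [e1]
      have e2 : x * b * x⁻¹ = b * (a * (x * a * x⁻¹)) := by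
        rw [h1, ← mul_assoc, hb2, one_mul]
      rw [e2]
      have c1 : (x * a * x⁻¹) * b = b * (x * a * x⁻¹) := h.elemZ.comm hxa hb
      have c2 : (x * a * x⁻¹) * a = a * (x * a * x⁻¹) := h.elemZ.comm hxa ha
      calc x * a * x⁻¹ * (b * (a * (x * a * x⁻¹)))
          = ((x * a * x⁻¹) * b) * a * (x * a * x⁻¹) := by group
        _ = b * ((x * a * x⁻¹) * a) * (x * a * x⁻¹) := by rw [c1]; group
        _ = b * a * ((x * a * x⁻¹) * (x * a * x⁻¹)) := by rw [c2]; group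
        _ = a * b := by rw [hxa2, mul_one, hcab]
    have h3 : a * b = 1 := hx.fpfV _ (h.Z_le_V (Z.mul_mem ha hb)) (mul_inv_eq_iff_eq_mul.1 h2)
    have h4 : a = b := by
      have : a * b * b = b := by rw [h3, one_mul]
      rwa [mul_assoc, hb2, mul_one] at this
    exact Subtype.ext h4
  obtain ⟨z, hz⟩ := (Finite.injective_iff_surjective.1 hf) ⟨k, hk⟩
  exact ⟨z, z.2, congrArg Subtype.val hz⟩

/-- `x` is fixed point free on `V/Z` -/
theorem fpf_mod {x : G} (hx : XAct V W x) {v : G} (hv : v ∈ V) (hc : x * v * x⁻¹ * v⁻¹ ∈ Z) : v ∈ Z := by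
  obtain ⟨z, hz, hzk⟩ := h.exists_mul_conj hx hc
  have h1 : x * (v * z) * x⁻¹ = v * z := by
    have e1 : x * (v * z) * x⁻¹ = (x * v * x⁻¹) * (x * z * x⁻¹) := by group
    have e2 : x * v * x⁻¹ = (x * v * x⁻¹ * v⁻¹) * v := by group
    rw [e1, e2, ← hzk]
    have c1 : (x * z * x⁻¹) * v = v * (x * z * x⁻¹) := h.elemV.comm (h.Z_le_V (h.x_Z hx z hz)) hv
    have c2 : z * v = v * z := h.elemV.comm (h.Z_le_V hz) hv
    have s := h.elemZ _ (h.x_Z hx z hz)
    calc z * (x * z * x⁻¹) * v * (x * z * x⁻¹) = z * ((x * z * x⁻¹) * v) * (x * z * x⁻¹) := by group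
      _ = (z * v) * ((x * z * x⁻¹) * (x * z * x⁻¹)) := by rw [c1]; group
      _ = v * z := by rw [s, c2, mul_one]
  have h2 : v * z = 1 := hx.fpfV _ (V.mul_mem hv (h.Z_le_V hz)) (mul_inv_eq_iff_eq_mul.1 h1)
  have h3 : v = z⁻¹ := eq_inv_of_mul_eq_one_left h2
  rw [h3]
  exact Z.inv_mem hz

theorem fpfB {x : G} (hx : XAct V W x) {b : G} (hb : b ∈ B) (hc : x * b = b * x) : b = 1 := by
  obtain ⟨v, hv, w, hw, rfl⟩ := h.mem hb
  have h1 : x * (v * w) * x⁻¹ = v * w := mul_inv_eq_iff_eq_mul.2 hc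
  have h2 : v⁻¹ * (x * v * x⁻¹) = w * (x * w * x⁻¹)⁻¹ := by
    have e1 : x * (v * w) * x⁻¹ = (x * v * x⁻¹) * (x * w * x⁻¹) := by group
    rw [e1] at h1
    have : v⁻¹ * ((x * v * x⁻¹) * (x * w * x⁻¹)) * (x * w * x⁻¹)⁻¹ = v⁻¹ * (v * w) * (x * w * x⁻¹)⁻¹ := by
      rw [h1]
    simpa [mul_assoc] using this
  have h3 : v⁻¹ * (x * v * x⁻¹) ∈ Z := by
    refine h.mem_Z.2 ⟨V.mul_mem (V.inv_mem hv) (hx.nV v hv), ?_⟩
    rw [h2]
    exact W.mul_mem hw (W.inv_mem (hx.nW w hw))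
  have h4 : v ∈ Z := by
    apply h.fpf_mod hx hv
    have c := h.elemV.comm (V.inv_mem hv) (hx.nV v hv)
    rwa [c] at h3
  have h5 : v * w ∈ W := W.mul_mem (h.Z_le_W h4) hw
  exact hx.fpfW _ h5 hc

theorem card_mod {x : G} (hx : XAct V W x) {Y : Subgroup G} (hY : Y ≤ B) (hn : ∀ y ∈ Y, x * y * x⁻¹ ∈ Y) :
    Nat.card Y % 3 = 1 := by
  have h1 := card_mod_three hx.three hn
  have h2 : (Y ⊓ centralizer ({x} : Set G) : Subgroup G) = ⊥ := by
    rw [eq_bot_iff]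
    rintro y ⟨hy, hyc⟩
    exact h.fpfB hx (hY hy) (mem_centralizer_singleton_iff.1 hyc).symm
  rw [h2, Subgroup.card_bot] at h1
  exact h1

/-- a nontrivial `x`-invariant subgroup of `Z` is `Z` -/
theorem Z_irr {x : G} (hx : XAct V W x) {Y : Subgroup G} (hY : Y ≤ Z) (hn : ∀ y ∈ Y, x * y * x⁻¹ ∈ Y)
    (h1 : Y ≠ ⊥) : Y = Z := by
  apply Subgroup.eq_of_le_of_card_ge hY
  have h2 := h.card_mod hx (hY.trans h.Z_le) hn
  have h3 : Nat.card Y ∣ 4 := by rw [← h.cardZ]; exact Subgroup.card_dvd_of_le hY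
  have h4 : Nat.card Y ≠ 1 := fun e => h1 (Subgroup.card_eq_one.1 e)
  have h5 : Nat.card Y ≤ 4 := Nat.le_of_dvd (by norm_num) h3
  rw [h.cardZ]
  interval_cases (Nat.card Y) <;> simp_all

end Core

end Cfsg.Agent.OddCyclic.COneEnd
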