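import Mathlib
import Cfsg.Agent.OddCyclic.COneEndB

/-!
# S0342, characteristic 2 type, unique maximal 2-local over `S`: the end `q = 4`, `S ≤ N(B)`
-/

set_option autoImplicit false
set_option linter.unusedSectionVars false

universe u

namespace Cfsg.Agent.OddCyclic.COneEnd

open Cfsg.Agent.LieExceptional.CITDefs Cfsg.Agent.OddCyclic.T1Defs
open Cfsg.Agent.LieExceptional.CITSylowFour
open Subgroup

variable {G : Type u} [Group G] [Finite G]

/-! ### general lemmas -/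

/-- a 2-group normalising a subgroup of even order fixes a nontrivial element -/
theorem exists_fix {E Z : Subgroup G} (hE : IsPGroup 2 E) (hn : ∀ e ∈ E, ∀ z ∈ Z, e * z * e⁻¹ ∈ Z)
    (h2 : 2 ∣ Nat.card Z) : ∃ z ∈ Z, z ≠ 1 ∧ ∀ e ∈ E, e * z = z * e := by
  have : Fact (Nat.Prime 2) := ⟨Nat.prime_two⟩
  let _ : MulAction E Z :=
    { smul := fun e z => ⟨e * z * (e : G)⁻¹, hn e e.2 z z.2⟩
      one_smul := fun z => Subtype.ext (by
        show (1 : G) * z * (1 : G)⁻¹ = z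
        group)
      mul_smul := fun a b z => Subtype.ext (by
        show ((a * b : E) : G) * z * ((a * b : E) : G)⁻¹ = a * (b * z * (b : G)⁻¹) * (a : G)⁻¹
        rw [Subgroup.coe_mul]; group) }
  have h1 : (1 : Z) ∈ MulAction.fixedPoints E Z := by
    intro e
    apply Subtype.ext
    show (e : G) * ((1 : Z) : G) * (e : G)⁻¹ = ((1 : Z) : G)
    rw [Subgroup.coe_one]; group
  obtain ⟨b, hb, hb1⟩ := hE.exists_fixed_point_of_prime_dvd_card_of_fixed_point Z h2 h1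
  refine ⟨b, b.2, fun e => hb1 (Subtype.ext e.symm), fun e he => ?_⟩
  have h3 : (e : G) * b * e⁻¹ = b := congrArg Subtype.val (hb ⟨e, he⟩)
  exact mul_inv_eq_iff_eq_mul.1 h3

/-- every element of odd prime order is trivial: 2-group -/
theorem isPGroup_of_prime {D : Subgroup G} (h : ∀ p : ℕ, p.Prime → p ≠ 2 → ∀ d ∈ D, orderOf d = p → False) :
    IsPGroup 2 D := by
  classical
  have : Fact (Nat.Prime 2) := ⟨Nat.prime_two⟩
  rw [IsPGroup.iff_card]
  refine ⟨(Nat.card D).factorization 2, ?_⟩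
  apply Nat.eq_of_factorization_eq Nat.card_pos.ne' (by positivity)
  intro p
  by_cases hp : p.Prime
  · by_cases hp2 : p = 2
    · subst hp2
      rw [Nat.Prime.factorization_pow Nat.prime_two]
      simp
    · have h1 : ¬ p ∣ Nat.card D := by
        intro hd
        have : Fact p.Prime := ⟨hp⟩
        obtain ⟨⟨d, hd1⟩, hd2⟩ := exists_prime_orderOf_dvd_card' (G := D) p hd
        rw [Subgroup.orderOf_mk] at hd2
        exact h p hp hp2 d hd1 hd2
      rw [Nat.factorization_eq_zero_of_not_dvd h1, Nat.Prime.factorization_pow Nat.prime_two]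
      rw [Finsupp.single_apply, if_neg (Ne.symm hp2)]
  · rw [Nat.factorization_eq_zero_of_not_prime _ hp, Nat.factorization_eq_zero_of_not_prime _ hp]

/-- index at most two from products -/
theorem card_le_two_mul {H K : Subgroup G} (h : ∀ a ∈ K, ∀ b ∈ K, a ∉ H → b ∉ H → a * b ∈ H) :
    Nat.card K ≤ 2 * Nat.card (H ⊓ K : Subgroup G) := by
  classical
  by_cases hK : K ≤ H
  · rw [inf_eq_right.2 hK]
    have : 0 < Nat.card K := Nat.card_pos
    omega
  · rw [SetLike.not_le_iff_exists] at hK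
    obtain ⟨a, haK, haH⟩ := hK
    have h1 := T1Tools.card_mul_relIndex (inf_le_right : H ⊓ K ≤ K)
    have h2 : (H ⊓ K).relIndex K ≤ 2 := by
      rw [Subgroup.relIndex]
      have : (H ⊓ K).subgroupOf K ≠ ⊤ := by
        rw [Ne, Subgroup.subgroupOf_eq_top]
        intro hle
        exact haH (hle haK).1
      have h3 : ((H ⊓ K).subgroupOf K).index = 2 := by
        rw [Subgroup.index_eq_two_iff]
        refine ⟨⟨a, haK⟩, fun b => ?_⟩
        rw [Subgroup.mem_subgroupOf, Subgroup.mem_subgroupOf, Subgroup.mem_inf, Subgroup.mem_inf]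
        by_cases hb : (b : G) ∈ H
        · right
          refine ⟨⟨hb, b.2⟩, fun h4 => haH ?_⟩
          have h5 : (b : G) * a ∈ H := h4.1
          exact (H.mul_mem_cancel_left hb).1 h5
        · left
          refine ⟨⟨h b b.2 a haK hb haH, K.mul_mem b.2 haK⟩, fun h4 => hb h4.1⟩
      rw [h3]
    calc Nat.card K = Nat.card (H ⊓ K : Subgroup G) * (H ⊓ K).relIndex K := h1.symm
      _ ≤ Nat.card (H ⊓ K : Subgroup G) * 2 := Nat.mul_le_mul_left _ h2
      _ = _ := mul_comm _ _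

/-- the configuration at the end of C1 -/
structure Four (M S T B V W Z : Subgroup G) (x s : G) : Prop where
  core : Core B V W Z
  xact : XAct V W x
  char2 : CharTwo G
  cyc : OddCyc G
  sylS : IsSyl2 (⊤ : Subgroup G) S
  maxM : IsMaxLocal M
  uniq : ∀ R : Subgroup G, IsPGroup 2 R → R ≠ ⊥ → S ≤ normalizer (R : Set G) → normalizer (R : Set G) ≤ M
  sylT : IsSyl2 (normalizer (V : Set G)) T
  T_le : T ≤ S
  B_le : B ≤ T
  T_norm : ∀ t ∈ T, ∀ b ∈ B, t * b * t⁻¹ ∈ B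
  cent_Z : ∀ t ∈ T, (∀ z ∈ Z, t * z = z * t) → t ∈ B
  s_mem : s ∈ S
  s_norm : ∀ b ∈ B, s * b * s⁻¹ ∈ B
  sV : ∀ v ∈ V, s * v * s⁻¹ ∈ W
  centV : centralizer (V : Set G) ≤ V
  trans : ∀ v ∈ V, ∀ w ∈ V, v ≠ 1 → w ≠ 1 → ∃ g, g * v * g⁻¹ = w

theorem mem_norm {V : Subgroup G} {g : G} : g ∈ normalizer (V : Set G) ↔ ∀ v ∈ V, g * v * g⁻¹ ∈ V := by
  rw [mem_normalizer_iff]
  exact ⟨fun h v hv => (h v).1 hv, fun h x => (conj_mem_iff le_rfl h x).symm⟩

theorem isPGroup_of_elem {V : Subgroup G} (hV : Elem V) : IsPGroup 2 V := by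
  rintro ⟨v, hv⟩
  exact ⟨1, Subtype.ext (by simpa [pow_two] using hV v hv)⟩

theorem three_not_two {V : Subgroup G} (hV : IsPGroup 2 V) {g : G} (hg : g ∈ V) (h1 : Odd (orderOf g)) : g = 1 := by
  obtain ⟨k, hk⟩ := hV ⟨g, hg⟩
  have h2 : g ^ 2 ^ k = 1 := congrArg Subtype.val hk
  have h3 := orderOf_dvd_of_pow_eq_one h2
  exact orderOf_eq_one_iff.1 (Nat.eq_one_of_dvd_coprimes (Nat.Coprime.pow_right k h1.coprime_two_right) dvd_rfl h3)

omit [Finite G] in
theorem elem_map {A : Subgroup G} (hA : Elem A) (g : G) : Elem (A.map (MulAut.conj g).toMonoidHom) := by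
  rintro _ ⟨a, ha, rfl⟩
  have h3 := hA a ha
  show (g * a * g⁻¹) * (g * a * g⁻¹) = 1
  have e : (g * a * g⁻¹) * (g * a * g⁻¹) = g * (a * a) * g⁻¹ := by group
  rw [e, h3]; group

namespace Four

variable {M S T B V W Z : Subgroup G} {x s : G} (h : Four M S T B V W Z x s)

include h

theorem sW : ∀ w ∈ W, s * w * s⁻¹ ∈ V := by
  rcases h.core.swap h.s_norm with h1 | h1
  · exfalso
    have e1 : ∀ y, s * y * s⁻¹ ∈ W ↔ y ∈ V := conj_mem_iff (by rw [h.core.cardV, h.core.cardW]) h.sV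
    have e2 : ∀ y, s * y * s⁻¹ ∈ W ↔ y ∈ W := conj_mem_iff le_rfl h1.2
    apply h.core.V_ne_W
    ext y
    rw [← e1, e2]
  · exact h1.2

theorem s_iff (y : G) : s * y * s⁻¹ ∈ W ↔ y ∈ V :=
  conj_mem_iff (by rw [h.core.cardV, h.core.cardW]) h.sV y

theorem s_iff' (y : G) : s * y * s⁻¹ ∈ V ↔ y ∈ W :=
  conj_mem_iff (by rw [h.core.cardV, h.core.cardW]) h.sW y

theorem T_V : ∀ t ∈ T, ∀ v ∈ V, t * v * t⁻¹ ∈ V := fun t ht => mem_norm.1 (h.sylT.le ht)

theorem T_W : ∀ t ∈ T, ∀ w ∈ W, t * w * t⁻¹ ∈ W := fun t ht => h.core.normW (h.T_norm t ht) (h.T_V t ht)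

theorem T_Z : ∀ t ∈ T, ∀ z ∈ Z, t * z * t⁻¹ ∈ Z := fun t ht => h.core.normZ (h.T_norm t ht)

/-- `T = S ∩ N(V)` -/
theorem mem_T {g : G} (hg : g ∈ S) (hV : ∀ v ∈ V, g * v * g⁻¹ ∈ V) : g ∈ T := by
  have h1 : S ⊓ normalizer (V : Set G) = T := by
    refine h.sylT.max _ inf_le_right (h.sylS.two.to_le inf_le_left) (le_inf h.T_le h.sylT.le)
  rw [← h1]
  exact ⟨hg, mem_norm.2 hV⟩

theorem s_T : ∀ t ∈ T, s * t * s⁻¹ ∈ T := by
  intro t ht
  apply h.mem_T (S.mul_mem (S.mul_mem h.s_mem (h.T_le ht)) (S.inv_mem h.s_mem))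
  intro v hv
  have h1 : s⁻¹ * v * s ∈ W := by
    rw [← h.s_iff']
    have e : s * (s⁻¹ * v * s) * s⁻¹ = v := by group
    rwa [e]
  have h2 := h.T_W t ht _ h1
  have h3 := h.sW _ h2
  have e : s * (t * (s⁻¹ * v * s) * t⁻¹) * s⁻¹ = s * t * s⁻¹ * v * (s * t * s⁻¹)⁻¹ := by group
  rwa [e] at h3

theorem s_T_iff (y : G) : s * y * s⁻¹ ∈ T ↔ y ∈ T := conj_mem_iff le_rfl h.s_T y

theorem symm : Four M S T B W V Z x s where
  core := h.core.symm
  xact := ⟨h.xact.three, h.xact.nW, h.xact.nV, h.xact.fpfW, h.xact.fpfV⟩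
  char2 := h.char2
  cyc := h.cyc
  sylS := h.sylS
  maxM := h.maxM
  uniq := h.uniq
  sylT := by
    refine ⟨fun t ht => mem_norm.2 (h.T_W t ht), h.sylT.two, fun Y hY hY2 hTY => ?_⟩
    have h1 : Y.map (MulAut.conj s⁻¹).toMonoidHom = T := by
      apply h.sylT.max
      · rintro _ ⟨y, hy, rfl⟩
        rw [mem_norm]
        intro v hv
        show s⁻¹ * y * s⁻¹⁻¹ * v * (s⁻¹ * y * s⁻¹⁻¹)⁻¹ ∈ V
        have h2 := mem_norm.1 (hY hy) _ (h.sV v hv)
        rw [← h.s_iff]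
        have e : s * (s⁻¹ * y * s⁻¹⁻¹ * v * (s⁻¹ * y * s⁻¹⁻¹)⁻¹) * s⁻¹ = y * (s * v * s⁻¹) * y⁻¹ := by group
        rwa [e]
      · exact hY2.map _
      · intro t ht
        refine ⟨s * t * s⁻¹, hTY (h.s_T t ht), ?_⟩
        show s⁻¹ * (s * t * s⁻¹) * s⁻¹⁻¹ = t
        group
    refine le_antisymm (fun y hy => ?_) hTY
    have h2 : s⁻¹ * y * s⁻¹⁻¹ ∈ T := by rw [← h1]; exact ⟨y, hy, rfl⟩
    have h3 := h.s_T _ h2
    have e : s * (s⁻¹ * y * s⁻¹⁻¹) * s⁻¹ = y := by group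
    rwa [e] at h3
  T_le := h.T_le
  B_le := h.B_le
  T_norm := h.T_norm
  cent_Z := h.cent_Z
  s_mem := h.s_mem
  s_norm := h.s_norm
  sV := h.sW
  centV := by
    intro g hg
    rw [← h.s_iff']
    apply h.centV
    rw [mem_centralizer_iff]
    intro v hv
    have h1 : s⁻¹ * v * s ∈ W := by
      rw [← h.s_iff']
      have e : s * (s⁻¹ * v * s) * s⁻¹ = v := by group
      rwa [e]
    have h2 := mem_centralizer_iff.1 hg _ h1
    calc v * (s * g * s⁻¹) = s * ((s⁻¹ * v * s) * g) * s⁻¹ := by group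
      _ = s * (g * (s⁻¹ * v * s)) * s⁻¹ := by rw [h2]
      _ = s * g * s⁻¹ * v := by group
  trans := by
    intro v hv w hw hv1 hw1
    obtain ⟨g, hg⟩ := h.trans _ (h.sW v hv) _ (h.sW w hw) (conj_ne_one hv1) (conj_ne_one hw1)
    refine ⟨s⁻¹ * g * s, ?_⟩
    calc s⁻¹ * g * s * v * (s⁻¹ * g * s)⁻¹ = s⁻¹ * (g * (s * v * s⁻¹) * g⁻¹) * s := by group
      _ = w := by rw [hg]; group

theorem two_V : IsPGroup 2 V := isPGroup_of_elem h.core.elemV

/-- P1: no element of order 3 centralises `Z` -/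
theorem no3 {g : G} (hg : orderOf g = 3) (hZ : ∀ z ∈ Z, g * z = z * g) : False := by
  have hn : normalizer (Z : Set G) ≤ normalizer ((centralizer (Z : Set G) : Subgroup G) : Set G) := by
    intro n hn
    rw [mem_norm]
    intro c hc
    rw [mem_centralizer_iff] at hc ⊢
    intro z hz
    have h1 : n⁻¹ * z * n⁻¹⁻¹ ∈ Z := (mem_norm.1 (inv_mem hn)) z hz
    have h2 := hc _ h1
    calc z * (n * c * n⁻¹) = n * ((n⁻¹ * z * n⁻¹⁻¹) * c) * n⁻¹ := by group
      _ = n * (c * (n⁻¹ * z * n⁻¹⁻¹)) * n⁻¹ := by rw [h2]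
      _ = n * c * n⁻¹ * z := by group
  have hle : centralizer (Z : Set G) ≤ normalizer (Z : Set G) := by
    intro c hc
    rw [mem_norm]
    intro z hz
    rw [← mem_centralizer_iff.1 hc z hz]
    simpa using hz
  have hxN : x ∈ normalizer (Z : Set G) := mem_norm.2 (h.core.x_Z h.xact)
  have hgc : g ∈ centralizer (Z : Set G) := mem_centralizer_iff.2 fun z hz => (hZ z hz).symm
  have h3 : 3 ∣ Nat.card (centralizer (Z : Set G)) := by
    rw [← hg, ← Subgroup.orderOf_mk (H := centralizer (Z : Set G)) g hgc]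
    exact orderOf_dvd_natCard _
  have hx := CompBasic.mem_of_le_normalizer h.cyc hle hn Nat.prime_three (by norm_num) h3 hxN h.xact.three
  obtain ⟨z, hz, hz1⟩ : ∃ z ∈ Z, z ≠ 1 := by
    by_contra hc
    push Not at hc
    have : Z = ⊥ := (Subgroup.eq_bot_iff_forall Z).2 hc
    have h4 := h.core.cardZ
    rw [this, Subgroup.card_bot] at h4
    omega
  exact hz1 (h.xact.fpfV z (h.core.Z_le_V hz) (mem_centralizer_iff.1 hx z hz).symm)

/-- an element of odd prime order normalising `V` and centralising `Z` does not exist -/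
theorem no_odd {g : G} {p : ℕ} (hp : p.Prime) (hp2 : p ≠ 2) (hg : orderOf g = p)
    (hV : ∀ v ∈ V, g * v * g⁻¹ ∈ V) (hZ : ∀ z ∈ Z, g * z = z * g) : False := by
  have hodd : Odd (orderOf g) := by rw [hg]; exact hp.odd_of_ne_two hp2
  by_cases h3 : p = 3
  · exact h.no3 (by rw [hg, h3]) hZ
  · have h1 : ¬ 3 ∣ orderOf g := by
      rw [hg]
      intro hd
      exact h3 ((Nat.prime_dvd_prime_iff_eq Nat.prime_three hp).1 hd).symm
    have h2 := T1Tools.commute_of_index_le_four hodd h1 h.two_V hV h.core.Z_le_V hZ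
      (by rw [h.core.cardV, h.core.cardZ])
    have h4 : g ∈ V := h.centV (mem_centralizer_iff.2 fun v hv => (h2 v hv).symm)
    have h5 := three_not_two h.two_V h4 hodd
    rw [h5, orderOf_one] at hg
    exact hp.one_lt.ne hg

/-- `N(V) ∩ C(Z) = B` -/
theorem mem_B {g : G} (hV : ∀ v ∈ V, g * v * g⁻¹ ∈ V) (hZ : ∀ z ∈ Z, g * z = z * g) : g ∈ B := by
  let D : Subgroup G := normalizer (V : Set G) ⊓ centralizer (Z : Set G)
  have hD : IsPGroup 2 D := isPGroup_of_prime fun p hp hp2 d hd ho =>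
    h.no_odd hp hp2 ho (mem_norm.1 hd.1) fun z hz => (mem_centralizer_iff.1 hd.2 z hz).symm
  have hTD : T ≤ normalizer (D : Set G) := by
    intro t ht
    rw [mem_norm]
    intro d hd
    refine Subgroup.mem_inf.2 ⟨(normalizer (V : Set G)).mul_mem ((normalizer (V : Set G)).mul_mem (h.sylT.le ht) hd.1)
      (inv_mem (h.sylT.le ht)), ?_⟩
    rw [mem_centralizer_iff]
    intro z hz
    have h1 : t⁻¹ * z * t⁻¹⁻¹ ∈ Z := h.T_Z _ (T.inv_mem ht) z hz
    have h2 := mem_centralizer_iff.1 hd.2 _ h1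
    calc z * (t * d * t⁻¹) = t * ((t⁻¹ * z * t⁻¹⁻¹) * d) * t⁻¹ := by group
      _ = t * (d * (t⁻¹ * z * t⁻¹⁻¹)) * t⁻¹ := by rw [h2]
      _ = t * d * t⁻¹ * z := by group
  have h1 : D ⊔ T = T := by
    apply h.sylT.max
    · exact sup_le inf_le_left h.sylT.le
    · exact IsPGroup.to_sup_of_normal_left' hD h.sylT.two hTD
    · exact le_sup_right
  have hg : g ∈ T := by
    rw [← h1]
    exact (le_sup_left : D ≤ D ⊔ T)
      (Subgroup.mem_inf.2 ⟨mem_norm.2 hV, mem_centralizer_iff.2 fun z hz => (hZ z hz).symm⟩)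
  exact h.cent_Z g hg hZ

/-- elements of `N(V) ∩ N(Z)` acting trivially on `V/Z` are in `B` -/
theorem mem_B' {g : G} (hV : ∀ v ∈ V, g * v * g⁻¹ * v⁻¹ ∈ Z) (hZ : ∀ z ∈ Z, g * z * g⁻¹ ∈ Z) : g ∈ B := by
  -- the group of all such elements
  let E : Subgroup G :=
    { carrier := {g | (∀ v ∈ V, g * v * g⁻¹ * v⁻¹ ∈ Z) ∧ ∀ z ∈ Z, g * z * g⁻¹ ∈ Z}
      one_mem' := ⟨fun v _ => by simp, fun z hz => by simpa using hz⟩
      mul_mem' := by
        rintro a b ⟨ha, ha'⟩ ⟨hb, hb'⟩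
        refine ⟨fun v hv => ?_, fun z hz => ?_⟩
        · have h1 := ha' _ (hb v hv)
          have h2 := ha v hv
          have e : a * b * v * (a * b)⁻¹ * v⁻¹ = (a * (b * v * b⁻¹ * v⁻¹) * a⁻¹) * (a * v * a⁻¹ * v⁻¹) := by group
          rw [e]
          exact Z.mul_mem h1 h2
        · have e : a * b * z * (a * b)⁻¹ = a * (b * z * b⁻¹) * a⁻¹ := by group
          rw [e]
          exact ha' _ (hb' z hz)
      inv_mem' := by
        rintro a ⟨ha, ha'⟩
        have h1 : ∀ z ∈ Z, a⁻¹ * z * a⁻¹⁻¹ ∈ Z := fun z hz => by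
          rw [← conj_mem_iff le_rfl ha']
          have e : a * (a⁻¹ * z * a⁻¹⁻¹) * a⁻¹ = z := by group
          rwa [e]
        refine ⟨fun v hv => ?_, h1⟩
        have h2 := h1 _ (Z.inv_mem (ha v hv))
        have e : a⁻¹ * (a * v * a⁻¹ * v⁻¹)⁻¹ * a⁻¹⁻¹ = a⁻¹ * v * a⁻¹⁻¹ * v⁻¹ := by group
        rwa [e] at h2 }
  have hEV : ∀ e ∈ E, ∀ v ∈ V, e * v * e⁻¹ ∈ V := by
    intro e he v hv
    have h1 := V.mul_mem (h.core.Z_le_V (he.1 v hv)) hv
    have e1 : e * v * e⁻¹ * v⁻¹ * v = e * v * e⁻¹ := by group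
    rwa [e1] at h1
  have hEx : ∀ k : G, (∀ v ∈ V, k * v * k⁻¹ ∈ V) → (∀ z ∈ Z, k * z * k⁻¹ ∈ Z) → ∀ e ∈ E, k * e * k⁻¹ ∈ E := by
    intro k hkV hkZ e he
    have kV : ∀ v ∈ V, k⁻¹ * v * k⁻¹⁻¹ ∈ V := fun v hv => by
      rw [← conj_mem_iff le_rfl hkV]
      have e : k * (k⁻¹ * v * k⁻¹⁻¹) * k⁻¹ = v := by group
      rwa [e]
    have kZ : ∀ v ∈ Z, k⁻¹ * v * k⁻¹⁻¹ ∈ Z := fun v hv => by
      rw [← conj_mem_iff le_rfl hkZ]
      have e : k * (k⁻¹ * v * k⁻¹⁻¹) * k⁻¹ = v := by group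
      rwa [e]
    refine ⟨fun v hv => ?_, fun z hz => ?_⟩
    · have h1 := hkZ _ (he.1 _ (kV v hv))
      have e1 : k * (e * (k⁻¹ * v * k⁻¹⁻¹) * e⁻¹ * (k⁻¹ * v * k⁻¹⁻¹)⁻¹) * k⁻¹ =
          k * e * k⁻¹ * v * (k * e * k⁻¹)⁻¹ * v⁻¹ := by group
      rwa [e1] at h1
    · have h1 := hkZ _ (he.2 _ (kZ z hz))
      have e1 : k * (e * (k⁻¹ * z * k⁻¹⁻¹) * e⁻¹) * k⁻¹ = k * e * k⁻¹ * z * (k * e * k⁻¹)⁻¹ := by group
      rwa [e1] at h1
  -- `3 ∤ |E|`
  have hE3 : ¬ 3 ∣ Nat.card E := by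
    intro h3
    let N : Subgroup G := normalizer (V : Set G) ⊓ normalizer (Z : Set G)
    have hEN : E ≤ N := fun e he => Subgroup.mem_inf.2 ⟨mem_norm.2 (hEV e he), mem_norm.2 he.2⟩
    have hNE : N ≤ normalizer (E : Set G) := fun k hk =>
      mem_norm.2 (hEx k (mem_norm.1 (Subgroup.mem_inf.1 hk).1) (mem_norm.1 (Subgroup.mem_inf.1 hk).2))
    have hx := CompBasic.mem_of_le_normalizer h.cyc hEN hNE Nat.prime_three (by norm_num) h3
      (Subgroup.mem_inf.2 ⟨mem_norm.2 h.xact.nV, mem_norm.2 (h.core.x_Z h.xact)⟩) h.xact.three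
    obtain ⟨v, hv, hvZ⟩ := h.core.exists_V
    exact hvZ (h.core.fpf_mod h.xact hv (hx.1 v hv))
  have hE2 : IsPGroup 2 E := by
    apply isPGroup_of_prime
    intro p hp hp2 d hd ho
    have hodd : Odd (orderOf d) := by rw [ho]; exact hp.odd_of_ne_two hp2
    have hp3 : ¬ 3 ∣ orderOf d := by
      rw [ho]
      intro hd3
      have h3 := (Nat.prime_dvd_prime_iff_eq Nat.prime_three hp).1 hd3
      apply hE3
      rw [h3, ← ho, ← Subgroup.orderOf_mk (H := E) d hd]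
      exact orderOf_dvd_natCard _
    have h1 := T1Tools.commute_of_index_le_four hodd hp3 (isPGroup_of_elem h.core.elemZ) hd.2 bot_le
      (fun c hc => by rw [Subgroup.mem_bot.1 hc]; simp) (by rw [h.core.cardZ, Subgroup.card_bot])
    have h2 : ∀ v ∈ V, d * v = v * d := fun v hv =>
      T1Tools.commute_of_mem hodd (isPGroup_of_elem h.core.elemZ) h1 (hd.1 v hv)
    have h4 : d ∈ V := h.centV (mem_centralizer_iff.2 fun v hv => (h2 v hv).symm)
    have h5 := three_not_two h.two_V h4 hodd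
    rw [h5, orderOf_one] at ho
    exact hp.one_lt.ne ho
  -- `C_Z(E) = Z`
  let F : Subgroup G := Z ⊓ centralizer (E : Set G)
  have hF1 : F ≠ ⊥ := by
    obtain ⟨z, hz, hz1, hzE⟩ := exists_fix hE2 (fun e he => he.2) (by rw [h.core.cardZ]; norm_num)
    intro hF
    have : z ∈ F := Subgroup.mem_inf.2 ⟨hz, mem_centralizer_iff.2 fun e he => hzE e he⟩
    rw [hF, Subgroup.mem_bot] at this
    exact hz1 this
  have hF : F = Z := by
    apply h.core.Z_irr h.xact inf_le_left _ hF1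
    intro f hf
    refine Subgroup.mem_inf.2 ⟨h.core.x_Z h.xact f (Subgroup.mem_inf.1 hf).1, ?_⟩
    rw [mem_centralizer_iff]
    intro e he
    have hx' : x⁻¹ * e * x⁻¹⁻¹ ∈ E := by
      apply hEx _ _ _ e he
      · intro v hv
        rw [← conj_mem_iff le_rfl h.xact.nV]
        have e : x * (x⁻¹ * v * x⁻¹⁻¹) * x⁻¹ = v := by group
        rwa [e]
      · intro v hv
        rw [← conj_mem_iff le_rfl (h.core.x_Z h.xact)]
        have e : x * (x⁻¹ * v * x⁻¹⁻¹) * x⁻¹ = v := by group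
        rwa [e]
    have h2 := mem_centralizer_iff.1 (Subgroup.mem_inf.1 hf).2 _ hx'
    calc e * (x * f * x⁻¹) = x * ((x⁻¹ * e * x⁻¹⁻¹) * f) * x⁻¹ := by group
      _ = x * (f * (x⁻¹ * e * x⁻¹⁻¹)) * x⁻¹ := by rw [h2]
      _ = x * f * x⁻¹ * e := by group
  have hgE : g ∈ E := ⟨hV, hZ⟩
  apply h.mem_B (hEV g hgE)
  intro z hz
  rw [← hF] at hz
  exact mem_centralizer_iff.1 (Subgroup.mem_inf.1 hz).2 g hgE

/-- `|T : B| ≤ 2` -/
theorem T_mul {a b : G} (ha : a ∈ T) (hb : b ∈ T) (haB : a ∉ B) (hbB : b ∉ B) : a * b ∈ B := by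
  obtain ⟨z, hz, hz1, hzT⟩ := exists_fix h.sylT.two h.T_Z (by rw [h.core.cardZ]; norm_num)
  -- a moves some element
  have key : ∀ t ∈ T, t ∉ B → ∀ c ∈ Z, c ≠ 1 → c ≠ z → t * c * t⁻¹ = z * c := by
    intro t ht htB c hc hc1 hcz
    have hcz' : z * c ≠ 1 := by
      intro e
      apply hcz
      have e2 : z * c * c = c := by rw [e, one_mul]
      rw [mul_assoc, h.core.elemZ c hc, mul_one] at e2
      exact e2.symm
    have hne : t * c * t⁻¹ ≠ c := by
      intro e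
      apply htB
      apply h.cent_Z t ht
      intro y hy
      rcases mem_four h.core.cardZ hz hc hy hz1 hc1 (Ne.symm hcz) hcz' with rfl | rfl | rfl | rfl
      · simp
      · exact hzT t ht
      · exact mul_inv_eq_iff_eq_mul.1 e
      · rw [← mul_assoc, hzT t ht, mul_assoc, mul_inv_eq_iff_eq_mul.1 e, mul_assoc]
    rcases mem_four h.core.cardZ hz hc (h.T_Z t ht c hc) hz1 hc1 (Ne.symm hcz) hcz' with e | e | e | e
    · exact absurd e (conj_ne_one hc1)
    · exfalso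
      apply hcz
      have e2 : t * z * t⁻¹ = z := mul_inv_eq_iff_eq_mul.2 (hzT t ht)
      exact conj_inj (e.trans e2.symm)
    · exact absurd e hne
    · exact e
  apply h.cent_Z _ (T.mul_mem ha hb)
  intro y hy
  by_cases hy1 : y = 1
  · rw [hy1]; simp
  by_cases hyz : y = z
  · rw [hyz]; exact hzT _ (T.mul_mem ha hb)
  have h1 := key b hb hbB y hy hy1 hyz
  have h2 : a * (z * y) * a⁻¹ = y := by
    have e1 : a * (z * y) * a⁻¹ = (a * z * a⁻¹) * (a * y * a⁻¹) := by group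
    rw [e1, key a ha haB y hy hy1 hyz, mul_inv_eq_iff_eq_mul.2 (hzT a ha), ← mul_assoc, h.core.elemZ z hz,
      one_mul]
  apply mul_inv_eq_iff_eq_mul.1
  calc a * b * y * (a * b)⁻¹ = a * (b * y * b⁻¹) * a⁻¹ := by group
    _ = y := by rw [h1, h2]

/-- `T₁ = N_S(B)` -/
def T1 (_h : Four M S T B V W Z x s) : Subgroup G := S ⊓ normalizer (B : Set G)

theorem mem_T1 {g : G} : g ∈ h.T1 ↔ g ∈ S ∧ ∀ b ∈ B, g * b * g⁻¹ ∈ B := by
  rw [T1, Subgroup.mem_inf, mem_norm]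

theorem T_le_T1 : T ≤ h.T1 := fun t ht => h.mem_T1.2 ⟨h.T_le ht, h.T_norm t ht⟩

/-- elements of `N(B)` outside `N(V)` swap `V` and `W` -/
theorem swaps {g : G} (hg : ∀ b ∈ B, g * b * g⁻¹ ∈ B) (hn : ¬ ∀ v ∈ V, g * v * g⁻¹ ∈ V) :
    (∀ v ∈ V, g * v * g⁻¹ ∈ W) ∧ ∀ w ∈ W, g * w * g⁻¹ ∈ V := by
  rcases h.core.swap hg with h1 | h1
  · exact absurd h1.1 hn
  · exact h1

theorem T1_mul {a b : G} (ha : a ∈ h.T1) (hb : b ∈ h.T1) (haT : a ∉ T) (hbT : b ∉ T) : a * b ∈ T := by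
  obtain ⟨haS, haB⟩ := h.mem_T1.1 ha
  obtain ⟨hbS, hbB⟩ := h.mem_T1.1 hb
  have h1 := h.swaps haB fun hv => haT (h.mem_T haS hv)
  have h2 := h.swaps hbB fun hv => hbT (h.mem_T hbS hv)
  apply h.mem_T (S.mul_mem haS hbS)
  intro v hv
  have e : a * b * v * (a * b)⁻¹ = a * (b * v * b⁻¹) * a⁻¹ := by group
  rw [e]
  exact h1.2 _ (h2.1 v hv)

/-- the second case of the classification -/
theorem elem_aux {A : Subgroup G} (hAT : A ≤ T) (hE : Elem A) (hc : Nat.card A = 16) (hV : A ⊓ B ≤ V) :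
    A ≤ B := by
  by_contra hAB
  rw [SetLike.not_le_iff_exists] at hAB
  obtain ⟨a, haA, haB⟩ := hAB
  have haT := hAT haA
  have h1 : Nat.card A ≤ 2 * Nat.card (B ⊓ A : Subgroup G) :=
    card_le_two_mul fun c hc d hd hcB hdB => h.T_mul (hAT hc) (hAT hd) hcB hdB
  -- `C_Z(a)` has order at most 2
  let C : Subgroup G := Z ⊓ centralizer ({a} : Set G)
  have hC : Nat.card C ≤ 2 := by
    have h2 : C ≤ Z := inf_le_left
    have h3 : Nat.card C ∣ 4 := by rw [← h.core.cardZ]; exact Subgroup.card_dvd_of_le h2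
    have h4 : Nat.card C ≠ 4 := by
      intro e
      have e2 : C = Z := Subgroup.eq_of_le_of_card_ge h2 (by rw [e, h.core.cardZ])
      apply haB
      apply h.cent_Z a haT
      intro z hz
      rw [← e2] at hz
      exact (mem_centralizer_singleton_iff.1 (Subgroup.mem_inf.1 hz).2).symm
    have h5 : Nat.card C ≤ 4 := Nat.le_of_dvd (by norm_num) h3
    interval_cases (Nat.card C) <;> simp_all
  have hZn : (B ⊓ A : Subgroup G) ≤ normalizer (Z : Set G) := fun y hy =>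
    mem_norm.2 (h.T_Z y (hAT (Subgroup.mem_inf.1 hy).2))
  have h2 := T1Tools.card_sup_mul (K := Z) (H := B ⊓ A) hZn
  have h3 : Nat.card (Z ⊓ (B ⊓ A) : Subgroup G) ≤ Nat.card C := by
    apply Subgroup.card_le_of_le
    intro y hy
    obtain ⟨hyZ, hy2⟩ := Subgroup.mem_inf.1 hy
    exact Subgroup.mem_inf.2 ⟨hyZ, mem_centralizer_singleton_iff.2 (hE.comm (Subgroup.mem_inf.1 hy2).2 haA)⟩
  have h4 : Z ⊔ (B ⊓ A) ≤ V := sup_le h.core.Z_le_V (by rw [inf_comm]; exact hV)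
  have h5 : 16 ≤ Nat.card (Z ⊔ (B ⊓ A) : Subgroup G) := by
    rw [h.core.cardZ] at h2
    rw [hc] at h1
    nlinarith
  have h6 : Z ⊔ (B ⊓ A) = V := Subgroup.eq_of_le_of_card_ge h4 (by rw [h.core.cardV]; exact h5)
  apply haB
  apply h.mem_B' _ (h.T_Z a haT)
  intro v hv
  have hv' : v ∈ ((Z ⊔ (B ⊓ A) : Subgroup G) : Set G) := by rw [h6]; exact hv
  rw [Subgroup.coe_mul_of_right_le_normalizer_left Z (B ⊓ A) hZn] at hv'
  obtain ⟨z, hz, y, hy, rfl⟩ := Set.mem_mul.1 hv'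
  have hz' : z ∈ Z := hz
  have hy' := Subgroup.mem_inf.1 hy
  have hay : a * y = y * a := hE.comm haA hy'.2
  have e : a * (z * y) * a⁻¹ * (z * y)⁻¹ = (a * z * a⁻¹) * z⁻¹ := by
    have e1 : a * (z * y) * a⁻¹ = (a * z * a⁻¹) * (a * y * a⁻¹) := by group
    rw [e1, mul_inv_eq_iff_eq_mul.2 hay]
    group
  rw [e]
  exact Z.mul_mem (h.T_Z a haT z hz') (Z.inv_mem hz')

/-- the elementary abelian subgroups of order 16 of `T₁` are `V` and `W` -/
theorem elem_T1 {A : Subgroup G} (hA : A ≤ h.T1) (hE : Elem A) (hc : Nat.card A = 16) : A = V ∨ A = W := by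
  have hAB : A ≤ B := by
    by_cases hAT : A ≤ T
    · have h1 : Elem (A ⊓ B : Subgroup G) := fun y hy => hE y (Subgroup.mem_inf.1 hy).1
      rcases h.core.elem_le (inf_le_right : A ⊓ B ≤ B) h1 with h2 | h2
      · exact h.elem_aux hAT hE hc h2
      · exact h.symm.elem_aux hAT hE hc h2
    · exfalso
      rw [SetLike.not_le_iff_exists] at hAT
      obtain ⟨a, haA, haT⟩ := hAT
      obtain ⟨haS, haB⟩ := h.mem_T1.1 (hA haA)
      have hsw := h.swaps haB fun hv => haT (h.mem_T haS hv)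
      have hle : A ⊓ B ≤ Z := by
        intro y hy
        obtain ⟨hyA, hyB⟩ := Subgroup.mem_inf.1 hy
        have hfix : a * y * a⁻¹ = y := mul_inv_eq_iff_eq_mul.2 (hE.comm haA hyA)
        rcases h.core.inv_mem hyB (hE y hyA) with h1 | h1
        · exact h.core.mem_Z.2 ⟨h1, by rw [← hfix]; exact hsw.1 y h1⟩
        · exact h.core.mem_Z.2 ⟨by rw [← hfix]; exact hsw.2 y h1, h1⟩
      have h1 : Nat.card A ≤ 2 * Nat.card (T ⊓ A : Subgroup G) :=
        card_le_two_mul fun c hc d hd hcT hdT => h.T1_mul (hA hc) (hA hd) hcT hdT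
      have h2 : Nat.card (T ⊓ A : Subgroup G) ≤ 2 * Nat.card (B ⊓ (T ⊓ A) : Subgroup G) :=
        card_le_two_mul fun c hc d hd hcT hdT =>
          h.T_mul (Subgroup.mem_inf.1 hc).1 (Subgroup.mem_inf.1 hd).1 hcT hdT
      have h3 : (B ⊓ (T ⊓ A) : Subgroup G) ≤ A ⊓ B := le_inf (inf_le_right.trans inf_le_right) inf_le_left
      have h4 := Subgroup.card_le_of_le h3
      have h5 := Subgroup.card_le_of_le hle
      rw [h.core.cardZ] at h5
      have h6 : Z = A ⊓ B := (Subgroup.eq_of_le_of_card_ge hle (by rw [h.core.cardZ]; omega)).symm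
      have h7 : ¬ (T ⊓ A) ≤ B := by
        intro hle2
        have h8 : (T ⊓ A) ≤ A ⊓ B := le_inf inf_le_right hle2
        have h9 := Subgroup.card_le_of_le h8
        omega
      rw [SetLike.not_le_iff_exists] at h7
      obtain ⟨c, hc1, hcB⟩ := h7
      obtain ⟨hcT, hcA⟩ := Subgroup.mem_inf.1 hc1
      apply hcB
      apply h.cent_Z c hcT
      intro z hz
      rw [h6] at hz
      exact hE.comm hcA (Subgroup.mem_inf.1 hz).1
  rcases h.core.elem_le hAB hE with h1 | h1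
  · exact Or.inl (Subgroup.eq_of_le_of_card_ge h1 (by rw [h.core.cardV, hc]))
  · exact Or.inr (Subgroup.eq_of_le_of_card_ge h1 (by rw [h.core.cardW, hc]))

/-- `g` with `V^g, W^g ≤ T₁` normalises `B` -/
theorem norm_of_T1 {g : G} (hg : ∀ b ∈ B, g * b * g⁻¹ ∈ h.T1) : ∀ b ∈ B, g * b * g⁻¹ ∈ B := by
  have key : ∀ A : Subgroup G, A ≤ B → Elem A → Nat.card A = 16 → ∀ a ∈ A, g * a * g⁻¹ ∈ B := by
    intro A hA hE hc a ha
    have h1 : A.map (MulAut.conj g).toMonoidHom ≤ h.T1 := by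
      rintro _ ⟨a, ha, rfl⟩
      exact hg a (hA ha)
    have h2 : Nat.card (A.map (MulAut.conj g).toMonoidHom) = 16 := by
      rw [Subgroup.card_map_of_injective (MulAut.conj g).injective, hc]
    have h3 : g * a * g⁻¹ ∈ A.map (MulAut.conj g).toMonoidHom := ⟨a, ha, rfl⟩
    rcases h.elem_T1 h1 (elem_map hE g) h2 with h4 | h4
    · rw [h4] at h3; exact h.core.V_le h3
    · rw [h4] at h3; exact h.core.W_le h3
  intro b hb
  obtain ⟨v, hv, w, hw, rfl⟩ := h.core.mem hb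
  have e : g * (v * w) * g⁻¹ = (g * v * g⁻¹) * (g * w * g⁻¹) := by group
  rw [e]
  exact B.mul_mem (key V h.core.V_le h.core.elemV h.core.cardV v hv)
    (key W h.core.W_le h.core.elemW h.core.cardW w hw)

/-- `S` normalises `B` -/
theorem S_norm : ∀ g ∈ S, ∀ b ∈ B, g * b * g⁻¹ ∈ B := by
  by_contra hc
  have hne : S ≠ h.T1 := by
    intro e
    apply hc
    intro g hg
    rw [e] at hg
    exact (h.mem_T1.1 hg).2
  obtain ⟨g, hg, hgT, hgn⟩ := exists_normalizing h.sylS.two (inf_le_left : h.T1 ≤ S) hne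
  apply hgT
  refine h.mem_T1.2 ⟨hg, h.norm_of_T1 fun b hb => hgn b (h.T_le_T1 (h.B_le hb))⟩

end Four

end Cfsg.Agent.OddCyclic.COneEnd
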