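import Cfsg.Agent.MinSimple.CaseOneCfg
import Cfsg.Agent.OddCyclic.T1Defs

/-!
# S0342, case (D): a unique maximal 2-local over the Sylow 2-subgroup — definitions

* `Conf M T H s`: `T` a 2-subgroup of `M` with largest key lying in a 2-local not contained in `M`, `H` minimal
  over `T` among the subgroups with a nontrivial normal 2-subgroup... not contained in `M`, `s` normalises `T`,
  `s ∉ T`, `s² ∈ T`.
* `LBlk B L q`: `L` is an `SL₂(q)`-block over its Sylow 2-subgroup `B` (`q ≥ 4`).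
* `LConf`: the configuration in which `H / O₂(H) = SL₂(q).2ᵃ`.
* `FiveConf`: the configuration in which `H / O₂(H) = S₅`.
-/

set_option autoImplicit false

namespace Cfsg.Agent.OddCyclic.COneDefs

open Subgroup Cfsg Cfsg.Agent.ZN
open Cfsg.Agent.MinSimple.CaseOneCfg (Cfg)
open Cfsg.Agent.MinSimple.Choice97 (Loc2)

universe u

variable {G : Type u} [Group G]

/-- The configuration of case (D); `H` is `T`-minimal. -/
structure Conf (M T H : Subgroup G) (s : G) : Prop where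
  cfg : Cfg M T s
  le : T ≤ H
  loc : Loc2 H
  notM : ¬ H ≤ M
  min : ∀ X : Subgroup G, T ≤ X → X < H → X ≤ M

/-- `L` is an `SL₂(q)`-block over its Sylow 2-subgroup `B`: with `Q = O₂(L)`, `Z = zc B = Ω₁(Z(B))`,
`V = zl B L = ⟨Z ^ L⟩`, `R = rl B L = C_Z(L)`: `L/Q = SL₂(q)`, `V/R` natural, `|V : Z| = |Z : R| = |B : Q| = q`. -/
structure LBlk (B L : Subgroup G) (q : ℕ) : Prop where
  le : B ≤ L
  two : IsPGroup 2 B
  four : 4 ≤ q
  iso : ∃ (F : Type) (_ : Field F) (_ : Fintype F) (_ : CharP F 2)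
    (φ : L →* Matrix.SpecialLinearGroup (Fin 2) F),
    Function.Surjective φ ∧ φ.ker = (o2 L).subgroupOf L ∧ Fintype.card F = q
  o2_le : o2 L ≤ B
  o2_index : (o2 L).relIndex B = q
  self_cent : L ⊓ centralizer (o2 L : Set G) ≤ o2 L
  zl_comm : ∀ x ∈ zl B L, ∀ y ∈ zl B L, x * y = y * x
  zl_sq : ∀ x ∈ zl B L, x * x = 1
  cent_zl : B ⊓ centralizer (zl B L : Set G) = o2 L
  rl_index : (rl B L).relIndex (zc B) = q
  zl_index : (zc B).relIndex (zl B L) = q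
  comm : ∀ b ∈ B, ∀ v ∈ zl B L, b * v * b⁻¹ * v⁻¹ ∈ zc B
  cent : ∀ b ∈ B, b ∉ o2 L → ∀ v ∈ zl B L, b * v = v * b → v ∈ zc B
  fpf : ∀ x ∈ L, orderOf x = 3 → ∀ v ∈ zl B L, x * v = v * x → v ∈ rl B L

/-- The configuration with `H / O₂(H) = SL₂(q).2ᵃ`, `L = ⟨B ^ H⟩`, `B = bau T`. -/
structure LConf (M T H L : Subgroup G) (s : G) (q : ℕ) : Prop where
  conf : Conf M T H s
  blk : LBlk (bau T) L q
  norm : H ≤ normalizer (L : Set G)
  sup : H = L ⊔ T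

/-- The configuration with `H / O₂(H) = S₅`: `e i j` is the even subset `{i, j}` in `[W, H]`, `W = zl T H`. -/
structure FiveConf (M T H : Subgroup G) (s : G) (φ : H →* Equiv.Perm (Fin 5)) (e : Fin 5 → Fin 5 → G) :
    Prop where
  conf : Conf M T H s
  surj : Function.Surjective φ
  ker : φ.ker = (o2 H).subgroupOf H
  zl_comm : ∀ x ∈ zl T H, ∀ y ∈ zl T H, x * y = y * x
  zl_sq : ∀ x ∈ zl T H, x * x = 1
  cent : ∀ h ∈ H, (∀ v ∈ zl T H, h * v = v * h) → h ∈ o2 H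
  cent' : ∀ h ∈ o2 H, ∀ v ∈ zl T H, h * v = v * h
  mem : ∀ i j, e i j ∈ zl T H
  self : ∀ i, e i i = 1
  ne : ∀ i j, i ≠ j → e i j ≠ 1
  symm : ∀ i j, e i j = e j i
  mul : ∀ i j k, e i j * e j k = e i k
  conj : ∀ (h : H) (i j), (h : G) * e i j * (h : G)⁻¹ = e (φ h i) (φ h j)
  /-- `W = C_W(H) × ⟨e i j⟩` -/
  dec : ∀ v ∈ zl T H, ∃ c ∈ zl T H, (∀ h ∈ H, h * c = c * h) ∧ ∃ i j k l, v = c * (e i j * e k l)
  indep : ∀ i j k l, (∀ h ∈ H, h * (e i j * e k l) = e i j * e k l * h) → e i j * e k l = 1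
  /-- the image of `T` is the dihedral group with the blocks `{0, 1}`, `{2, 3}` -/
  imT : ∀ h : H, (h : G) ∈ T ↔ φ h ∈ closure {Equiv.swap 0 1, Equiv.swap 2 3, Equiv.swap 0 2 * Equiv.swap 1 3}
  /-- the image of the Baumann subgroup (and of `J(T)`) is `⟨(0 1), (2 3)⟩` -/
  imB : ∀ h : H, (h : G) ∈ bau T ⊔ o2 H ↔ φ h ∈ closure {Equiv.swap 0 1, Equiv.swap 2 3}
  imJ : ∀ h : H, (h : G) ∈ jj T ⊔ o2 H ↔ φ h ∈ closure {Equiv.swap 0 1, Equiv.swap 2 3}

end Cfsg.Agent.OddCyclic.COneDefs
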