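import Mathlib
import Cfsg.Agent.LieExceptional.CITModule
import Cfsg.Agent.OddCyclic.T1Sl2

/-!
# Piece B (0.2) of blueprints/S0342-T0eq1.md: elementary abelian 2-groups on which `SL₂(F)`, `F` of characteristic 2,
acts with fixed-point-free elements of order 3
-/

set_option autoImplicit false

namespace Cfsg.Agent.OddCyclic.T1Module

open Cfsg.Agent.OddCyclic.T1Sl2
open scoped Pointwise

/-! ### counting -/

theorem card_dvd_of_free {P X : Type*} [Group P] [Finite P] [Finite X] [MulAction P X]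
    (h : ∀ (x : X) (p : P), p • x = x → p = 1) : Nat.card P ∣ Nat.card X := by
  classical
  have : Fintype (Quotient (MulAction.orbitRel P X)) := Fintype.ofFinite _
  have e := Nat.card_congr (MulAction.selfEquivSigmaOrbitsQuotientStabilizer P X)
  rw [Nat.card_sigma] at e
  rw [e]
  refine Finset.dvd_sum fun ω _ => ?_
  have hs : MulAction.stabilizer P ω.out = ⊥ := by
    rw [Subgroup.eq_bot_iff_forall]
    intro p hp
    exact h _ p hp
  have h1 : Nat.card (P ⧸ MulAction.stabilizer P ω.out) = Nat.card P := by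
    rw [hs]
    exact Nat.card_congr (QuotientGroup.quotientBot (G := P)).toEquiv
  rw [h1]

/-- `D` acting by automorphisms on `K`, freely on the nonidentity elements of an invariant subgroup `C`. -/
theorem card_dvd_sub_one {K D : Type*} [Group K] [Finite K] [Group D] [Finite D] (φ : D →* MulAut K)
    (C : Subgroup K) (hst : ∀ d : D, ∀ c ∈ C, φ d c ∈ C)
    (hfree : ∀ d : D, ∀ c ∈ C, c ≠ 1 → φ d c = c → d = 1) : Nat.card D ∣ Nat.card C - 1 := by
  classical
  let X := {c : C // c ≠ 1}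
  let _ : MulAction D X :=
    { smul := fun d x => ⟨⟨φ d x.1.1, hst d _ x.1.2⟩, by
        intro h
        apply x.2
        have h1 : φ d x.1.1 = 1 := congrArg Subtype.val h
        have h2 : x.1.1 = 1 := by
          apply (φ d).injective
          rw [h1, map_one]
        exact Subtype.ext h2⟩
      one_smul := fun x => by
        apply Subtype.ext
        apply Subtype.ext
        show φ 1 x.1.1 = x.1.1
        rw [map_one]; rfl
      mul_smul := fun d e x => by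
        apply Subtype.ext
        apply Subtype.ext
        show φ (d * e) x.1.1 = φ d (φ e x.1.1)
        rw [map_mul]; rfl }
  have h1 : Nat.card D ∣ Nat.card X := by
    refine card_dvd_of_free fun x d hd => ?_
    refine hfree d x.1.1 x.1.2 (fun h => x.2 (Subtype.ext h)) ?_
    exact congrArg (fun y : X => y.1.1) hd
  have h2 : Nat.card X = Nat.card C - 1 := by
    have h3 : Nat.card X = ({(1 : C)}ᶜ : Set C).ncard := rfl
    rw [h3, Set.ncard_compl, Set.ncard_singleton]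
  rwa [h2] at h1

/-- `(2 ^ n - 1) ∣ (2 ^ m - 1)` implies `n ∣ m` -/
theorem dvd_of_pow_sub_one_dvd {n m : ℕ} (h : 2 ^ n - 1 ∣ 2 ^ m - 1) : n ∣ m := by
  have h1 := Nat.pow_sub_one_gcd_pow_sub_one 2 n m
  rw [Nat.gcd_eq_left h] at h1
  have h2 : 2 ^ n = 2 ^ (Nat.gcd n m) := by
    have h3 : 1 ≤ 2 ^ n := Nat.one_le_two_pow
    have h4 : 1 ≤ 2 ^ (Nat.gcd n m) := Nat.one_le_two_pow
    omega
  have h5 := Nat.pow_right_injective (le_refl 2) h2
  rw [h5]
  exact Nat.gcd_dvd_right n m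

section
variable {F : Type*} [Field F] [Fintype F] [CharP F 2] {V : Type*} [CommGroup V]

theorem inv_eq_self (hV : ∀ v : V, v * v = 1) (v : V) : v⁻¹ = v := inv_eq_of_mul_eq_one_left (hV v)

theorem eq_of_mul_eq_one (hV : ∀ v : V, v * v = 1) {v w : V} (h : v * w = 1) : v = w := by
  rw [← inv_eq_self hV w]
  exact eq_inv_of_mul_eq_one_left h

/-- the elements fixed by all elements of `U` -/
def CS {X : Type*} [Group X] (ρ : X →* MulAut V) (U : Subgroup X) : Subgroup V where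
  carrier := {v | ∀ b ∈ U, ρ b v = v}
  mul_mem' := by
    intro v w hv hw b hb
    rw [map_mul, hv b hb, hw b hb]
  one_mem' := fun b _ => map_one (ρ b)
  inv_mem' := by
    intro v hv b hb
    rw [map_inv, hv b hb]

theorem mem_CS {X : Type*} [Group X] (ρ : X →* MulAut V) (U : Subgroup X) (v : V) :
    v ∈ CS ρ U ↔ ∀ b ∈ U, ρ b v = v := Iff.rfl

theorem smul_mem_CS {X : Type*} [Group X] (ρ : X →* MulAut V) (U : Sylow 2 X) (g : X) {v : V}
    (hv : v ∈ CS ρ (U : Subgroup X)) : ρ g v ∈ CS ρ ((g • U : Sylow 2 X) : Subgroup X) := by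
  intro b hb
  have h1 : g⁻¹ * b * g ∈ (U : Subgroup X) := by
    have h2 : b ∈ MulAut.conj g • (U : Subgroup X) := hb
    rw [Subgroup.mem_pointwise_smul_iff_inv_smul_mem] at h2
    simpa [← map_inv, MulAut.smul_def] using h2
  have h3 := hv _ h1
  have h4 : ρ b (ρ g v) = ρ g (ρ (g⁻¹ * b * g) v) := by
    rw [← MulAut.mul_apply, ← MulAut.mul_apply, ← map_mul, ← map_mul]
    congr 2
    group
  rw [h4, h3]

theorem triple {X : Type*} [Group X] (ρ : X →* MulAut V)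
    (h3 : ∀ x, orderOf x = 3 → ∀ v, ρ x v = v → v = 1) {x : X} (hx : orderOf x = 3) (v : V) :
    v * ρ x v * ρ x (ρ x v) = 1 := by
  apply h3 x hx
  have h1 : ρ x (ρ x (ρ x v)) = v := by
    rw [← MulAut.mul_apply, ← MulAut.mul_apply, ← map_mul, ← map_mul]
    have : x * x * x = 1 := by
      rw [← pow_orderOf_eq_one x, hx, pow_succ, pow_two]
    rw [this, map_one]; rfl
  rw [map_mul, map_mul, h1]
  exact mul_comm _ _ |>.trans (mul_assoc _ _ _).symm

variable (ρ : Matrix.SpecialLinearGroup (Fin 2) F →* MulAut V)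

theorem exists_ne_one (U : Sylow 2 (Matrix.SpecialLinearGroup (Fin 2) F)) :
    ∃ a ∈ U, a ≠ 1 := by
  have h1 : 1 < Nat.card U := by
    rw [card_sylow U]
    exact Fintype.one_lt_card
  have : Nontrivial U := Finite.one_lt_card_iff_nontrivial.1 h1
  obtain ⟨a, ha⟩ := exists_ne (1 : U)
  exact ⟨a.1, a.2, fun h => ha (Subtype.ext h)⟩

theorem eq_one_of_fixed (h3 : ∀ x, orderOf x = 3 → ∀ v, ρ x v = v → v = 1) {v : V}
    (hv : ∀ b, ρ b v = v) : v = 1 := by
  obtain ⟨U⟩ : Nonempty (Sylow 2 (Matrix.SpecialLinearGroup (Fin 2) F)) := inferInstance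
  obtain ⟨a, ha, ha1⟩ := exists_ne_one U
  obtain ⟨x, hx, -⟩ := inverts_three (sylow_elem U a ha) ha1
  exact h3 x hx v (hv x)

/-- the stabilizer of `v` -/
def stab (v : V) : Subgroup (Matrix.SpecialLinearGroup (Fin 2) F) where
  carrier := {b | ρ b v = v}
  mul_mem' := by
    intro b c hb hc
    show ρ (b * c) v = v
    rw [map_mul, MulAut.mul_apply, show ρ c v = v from hc, show ρ b v = v from hb]
  one_mem' := by
    show ρ 1 v = v
    rw [map_one]; rfl
  inv_mem' := by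
    intro b hb
    show ρ b⁻¹ v = v
    have h1 : ρ b v = v := hb
    have h2 : ρ b⁻¹ (ρ b v) = v := by
      rw [← MulAut.mul_apply, ← map_mul, inv_mul_cancel, map_one]; rfl
    rw [h1] at h2
    exact h2

theorem mem_stab (v : V) (b : Matrix.SpecialLinearGroup (Fin 2) F) : b ∈ stab ρ v ↔ ρ b v = v := Iff.rfl

theorem inf_eq_one (h3 : ∀ x, orderOf x = 3 → ∀ v, ρ x v = v → v = 1)
    {U₁ U₂ : Sylow 2 (Matrix.SpecialLinearGroup (Fin 2) F)} (h : U₁ ≠ U₂) {v : V}
    (h1 : v ∈ CS ρ (U₁ : Subgroup _)) (h2 : v ∈ CS ρ (U₂ : Subgroup _)) : v = 1 := by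
  apply eq_one_of_fixed ρ h3
  intro b
  have h4 : (U₁ : Subgroup (Matrix.SpecialLinearGroup (Fin 2) F)) ⊔ U₂ ≤ stab ρ v :=
    sup_le (fun b hb => h1 b hb) (fun b hb => h2 b hb)
  rw [sylow_sup h] at h4
  exact h4 (Subgroup.mem_top b)

/-- `C_V(U₂) ∩ C_V(a) = 1` for `a ∈ U₁`, `a ≠ 1` -/
theorem inf_eq_one' (h3 : ∀ x, orderOf x = 3 → ∀ v, ρ x v = v → v = 1)
    {U₁ U₂ : Sylow 2 (Matrix.SpecialLinearGroup (Fin 2) F)} (h : U₁ ≠ U₂) {a} (ha : a ∈ U₁) (ha1 : a ≠ 1) {v : V}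
    (h1 : ρ a v = v) (h2 : v ∈ CS ρ (U₂ : Subgroup _)) : v = 1 := by
  apply eq_one_of_fixed ρ h3
  intro b
  have h4 : (U₂ : Subgroup (Matrix.SpecialLinearGroup (Fin 2) F)) ≤ stab ρ v := fun b hb => h2 b hb
  rcases le_normalizer_or U₂ _ h4 with h5 | h5
  · exfalso
    have h6 : a ∈ Subgroup.normalizer ((U₂ : Subgroup (Matrix.SpecialLinearGroup (Fin 2) F)) :
        Set (Matrix.SpecialLinearGroup (Fin 2) F)) := h5 h1
    have h7 : IsPGroup 2 (Subgroup.zpowers a) := by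
      intro x
      refine ⟨1, ?_⟩
      obtain ⟨k, hk⟩ := Subgroup.mem_zpowers_iff.1 x.2
      apply Subtype.ext
      show (x : Matrix.SpecialLinearGroup (Fin 2) F) ^ 2 ^ 1 = 1
      rw [← hk, pow_one, ← zpow_natCast, ← zpow_mul, mul_comm, zpow_mul]
      have : a ^ ((2 : ℕ) : ℤ) = 1 := by
        rw [zpow_natCast, sq]; exact sylow_elem U₁ a ha
      rw [this, one_zpow]
    have h8 : a ∈ U₂ := by
      have h9 : Subgroup.zpowers a ≤ (U₂ : Subgroup _) := by
        rw [← sup_eq_right]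
        refine (U₂.is_maximal' ?_ le_sup_right)
        rw [sup_comm]
        refine IsPGroup.to_sup_of_normal_left' U₂.isPGroup' h7 ?_
        rwa [Subgroup.zpowers_le]
      exact h9 (Subgroup.mem_zpowers a)
    exact ha1 (sylow_ti h ha h8)
  · have : b ∈ stab ρ v := by rw [h5]; trivial
    exact this

/-- `C_V(U₃) ≤ C_V(U₁) C_V(U₂)` -/
theorem CS_le (hV : ∀ v : V, v * v = 1) (h3 : ∀ x, orderOf x = 3 → ∀ v, ρ x v = v → v = 1)
    {U₁ U₂ : Sylow 2 (Matrix.SpecialLinearGroup (Fin 2) F)} (h : U₁ ≠ U₂)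
    (U₃ : Sylow 2 (Matrix.SpecialLinearGroup (Fin 2) F)) :
    CS ρ (U₃ : Subgroup _) ≤ CS ρ (U₁ : Subgroup _) ⊔ CS ρ (U₂ : Subgroup _) := by
  by_cases h13 : U₁ = U₃
  · rw [← h13]; exact le_sup_left
  by_cases h23 : U₂ = U₃
  · rw [← h23]; exact le_sup_right
  obtain ⟨x, hx, e1, e2, e3⟩ := three_points h h23 h13
  intro c hc
  have h4 : ρ x c ∈ CS ρ (U₁ : Subgroup _) := by
    have := smul_mem_CS ρ U₃ x hc
    rwa [e3] at this
  have h5 : ρ x (ρ x c) ∈ CS ρ (U₂ : Subgroup _) := by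
    have := smul_mem_CS ρ U₁ x h4
    rwa [e1] at this
  have h6 := triple ρ h3 hx c
  rw [mul_assoc] at h6
  rw [eq_of_mul_eq_one hV h6]
  exact Subgroup.mul_mem_sup h4 h5

/-- the submodule generated by the `C_V(U)` -/
def VV : Subgroup V := ⨆ U : Sylow 2 (Matrix.SpecialLinearGroup (Fin 2) F), CS ρ (U : Subgroup _)

theorem CS_le_VV (U : Sylow 2 (Matrix.SpecialLinearGroup (Fin 2) F)) : CS ρ (U : Subgroup _) ≤ VV ρ :=
  le_iSup (fun U : Sylow 2 (Matrix.SpecialLinearGroup (Fin 2) F) => CS ρ (U : Subgroup _)) U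

theorem VV_eq (hV : ∀ v : V, v * v = 1) (h3 : ∀ x, orderOf x = 3 → ∀ v, ρ x v = v → v = 1)
    {U₁ U₂ : Sylow 2 (Matrix.SpecialLinearGroup (Fin 2) F)} (h : U₁ ≠ U₂) :
    VV ρ = CS ρ (U₁ : Subgroup _) ⊔ CS ρ (U₂ : Subgroup _) :=
  le_antisymm (iSup_le fun U₃ => CS_le ρ hV h3 h U₃) (sup_le (CS_le_VV ρ U₁) (CS_le_VV ρ U₂))

theorem map_VV_le (g : Matrix.SpecialLinearGroup (Fin 2) F) : (VV ρ).map (ρ g).toMonoidHom ≤ VV ρ := by
  unfold VV
  rw [Subgroup.map_iSup]
  refine iSup_le fun U => ?_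
  rintro _ ⟨v, hv, rfl⟩
  exact CS_le_VV ρ (g • U) (smul_mem_CS ρ U g hv)

theorem smul_mem_VV (g : Matrix.SpecialLinearGroup (Fin 2) F) {v : V} (hv : v ∈ VV ρ) : ρ g v ∈ VV ρ :=
  map_VV_le ρ g ⟨v, hv, rfl⟩

theorem map_VV (g : Matrix.SpecialLinearGroup (Fin 2) F) : (VV ρ).map (ρ g : V ≃* V).toMonoidHom = VV ρ := by
  apply le_antisymm (map_VV_le ρ g)
  intro v hv
  refine ⟨ρ g⁻¹ v, smul_mem_VV ρ g⁻¹ hv, ?_⟩
  show ρ g (ρ g⁻¹ v) = v
  rw [← MulAut.mul_apply, ← map_mul, mul_inv_cancel, map_one]; rfl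

/-- in `V'` the fixed points of `a ∈ U`, `a ≠ 1`, are those of `U` -/
theorem mem_CS_of_fixed (hV : ∀ v : V, v * v = 1) (h3 : ∀ x, orderOf x = 3 → ∀ v, ρ x v = v → v = 1)
    {U : Sylow 2 (Matrix.SpecialLinearGroup (Fin 2) F)} {a} (ha : a ∈ U) (ha1 : a ≠ 1) {v : V} (hv : v ∈ VV ρ)
    (h1 : ρ a v = v) : v ∈ CS ρ (U : Subgroup _) := by
  obtain ⟨U', hU'⟩ : ∃ U' : Sylow 2 (Matrix.SpecialLinearGroup (Fin 2) F), U ≠ U' := by
    by_contra hcon
    push Not at hcon
    obtain ⟨x, hx, hax⟩ := inverts_three (sylow_elem U a ha) ha1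
    -- `U` is normal, so `x⁻¹ a x ∈ U` and `[a, x] = a * (x * a * x⁻¹) ∈ U`
    have h4 : x * a * x⁻¹ ∈ U := by
      have h5 : x • U = U := (hcon _).symm
      have h6 : x * a * x⁻¹ ∈ ((x • U : Sylow 2 _) : Subgroup _) := by
        have : x * a * x⁻¹ = MulAut.conj x • a := by simp [MulAut.smul_def]
        rw [this]
        exact Subgroup.smul_mem_pointwise_smul a (MulAut.conj x) (U : Subgroup _) ha
      rw [h5] at h6
      exact h6
    have h5 : a * (x * a * x⁻¹) ∈ U := mul_mem ha h4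
    have h6 : a * (x * a * x⁻¹) = x⁻¹ * x⁻¹ := by
      have h7 : a⁻¹ = a := inv_eq_of_mul_eq_one_left (sylow_elem U a ha)
      rw [h7] at hax
      calc a * (x * a * x⁻¹) = (a * x * a) * x⁻¹ := by group
        _ = x⁻¹ * x⁻¹ := by rw [hax]
    rw [h6] at h5
    have h7 := sylow_elem U _ h5
    have h8 : x ^ 4 = 1 := by
      have : (x ^ 4)⁻¹ = 1 := by rw [← h7]; group
      rwa [inv_eq_one] at this
    have h9 := orderOf_dvd_of_pow_eq_one h8
    rw [hx] at h9
    omega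
  rw [VV_eq ρ hV h3 hU'] at hv
  obtain ⟨c₁, hc₁, c₂, hc₂, rfl⟩ := Subgroup.mem_sup.1 hv
  have h2 : ρ a c₂ = c₂ := by
    rw [map_mul, hc₁ a ha] at h1
    exact mul_left_cancel h1
  rw [inf_eq_one' ρ h3 hU' ha ha1 h2 hc₂, mul_one]
  exact hc₁

/-- the torus acts freely on `C_V(U)#` -/
theorem torus_free (hV : ∀ v : V, v * v = 1) (h3 : ∀ x, orderOf x = 3 → ∀ v, ρ x v = v → v = 1)
    {U U' : Sylow 2 (Matrix.SpecialLinearGroup (Fin 2) F)} (h : U ≠ U') {k} (hk : k • U = U) (hk' : k • U' = U')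
    {c : V} (hc : c ∈ CS ρ (U : Subgroup _)) (hc1 : c ≠ 1) (hkc : ρ k c = c) : k = 1 := by
  by_contra hk1
  apply hc1
  obtain ⟨w, w', hw, hw', hw1, hw1', hkw, e1, e2, e3, e4, W, W', hW, hW', hWW⟩ := torus h hk hk' hk1
  have h4 : ρ w' c = ρ w c := by
    have h5 : ρ w (ρ w' c) = c := by
      rw [← MulAut.mul_apply, ← map_mul, ← hkw]; exact hkc
    have h6 : ρ w (ρ w (ρ w' c)) = ρ w c := by rw [h5]
    rw [← MulAut.mul_apply, ← map_mul, hw, map_one] at h6
    exact h6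
  have h5 : ∀ u, u * u = 1 → ρ u (ρ u c) = c := by
    intro u hu
    rw [← MulAut.mul_apply, ← map_mul, hu, map_one]; rfl
  have hd : c * ρ w c ∈ VV ρ := mul_mem (CS_le_VV ρ U hc) (smul_mem_VV ρ w (CS_le_VV ρ U hc))
  have hd1 : ρ w (c * ρ w c) = c * ρ w c := by rw [map_mul, h5 w hw, mul_comm]
  have hd2 : ρ w' (c * ρ w c) = c * ρ w c := by rw [← h4, map_mul, h5 w' hw', mul_comm]
  have h6 := inf_eq_one ρ h3 hWW (mem_CS_of_fixed ρ hV h3 hW hw1 hd hd1) (mem_CS_of_fixed ρ hV h3 hW' hw1' hd hd2)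
  have h7 := eq_of_mul_eq_one hV h6
  have h8 : c ∈ CS ρ (U' : Subgroup _) := by
    rw [h7, ← e1]
    exact smul_mem_CS ρ U w hc
  exact inf_eq_one ρ h3 h hc h8

end

section
variable {F : Type*} [Field F] [Fintype F] [CharP F 2] {V : Type*} [CommGroup V] [Finite V]
variable (ρ : Matrix.SpecialLinearGroup (Fin 2) F →* MulAut V)

theorem card_CS_eq (U U' : Sylow 2 (Matrix.SpecialLinearGroup (Fin 2) F)) :
    Nat.card (CS ρ (U : Subgroup _)) = Nat.card (CS ρ (U' : Subgroup _)) := by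
  have key : ∀ U U' : Sylow 2 (Matrix.SpecialLinearGroup (Fin 2) F),
      Nat.card (CS ρ (U : Subgroup _)) ≤ Nat.card (CS ρ (U' : Subgroup _)) := by
    intro U U'
    obtain ⟨g, hg⟩ := MulAction.exists_smul_eq (Matrix.SpecialLinearGroup (Fin 2) F) U U'
    apply Nat.card_le_card_of_injective
      (fun v : CS ρ (U : Subgroup _) => (⟨ρ g v, by
        have := smul_mem_CS ρ U g v.2
        rwa [hg] at this⟩ : CS ρ (U' : Subgroup _)))
    intro v w h
    have h1 : ρ g v = ρ g w := congrArg Subtype.val h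
    exact Subtype.ext ((ρ g).injective h1)
  exact le_antisymm (key U U') (key U' U)

theorem two_le_card : 2 ≤ Fintype.card F := Fintype.one_lt_card

/-- there are two distinct Sylow 2-subgroups -/
theorem exists_ne_sylow (U : Sylow 2 (Matrix.SpecialLinearGroup (Fin 2) F)) : ∃ U', U ≠ U' := by
  by_contra hcon
  push Not at hcon
  obtain ⟨a, ha, ha1⟩ := exists_ne_one U
  obtain ⟨x, hx, hax⟩ := inverts_three (sylow_elem U a ha) ha1
  have h4 : x * a * x⁻¹ ∈ U := by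
    have h5 : x • U = U := (hcon _).symm
    have h6 : x * a * x⁻¹ ∈ ((x • U : Sylow 2 _) : Subgroup _) := by
      have : x * a * x⁻¹ = MulAut.conj x • a := by simp [MulAut.smul_def]
      rw [this]
      exact Subgroup.smul_mem_pointwise_smul a (MulAut.conj x) (U : Subgroup _) ha
    rw [h5] at h6
    exact h6
  have h5 : a * (x * a * x⁻¹) ∈ U := mul_mem ha h4
  have h6 : a * (x * a * x⁻¹) = x⁻¹ * x⁻¹ := by
    have h7 : a⁻¹ = a := inv_eq_of_mul_eq_one_left (sylow_elem U a ha)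
    rw [h7] at hax
    calc a * (x * a * x⁻¹) = (a * x * a) * x⁻¹ := by group
      _ = x⁻¹ * x⁻¹ := by rw [hax]
  rw [h6] at h5
  have h7 := sylow_elem U _ h5
  have h8 : x ^ 4 = 1 := by
    have : (x ^ 4)⁻¹ = 1 := by rw [← h7]; group
    rwa [inv_eq_one] at this
  have h9 := orderOf_dvd_of_pow_eq_one h8
  rw [hx] at h9
  omega

omit [CharP F 2] [Fintype F] in
theorem isPGroup_two (hV : ∀ v : V, v * v = 1) : IsPGroup 2 V := fun v => ⟨1, by rw [pow_one, sq, hV]⟩

theorem CS_ne_bot [Nontrivial V] (hV : ∀ v : V, v * v = 1) (U : Sylow 2 (Matrix.SpecialLinearGroup (Fin 2) F)) :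
    CS ρ (U : Subgroup _) ≠ ⊥ := by
  let _ : MulAction U V :=
    { smul := fun b v => ρ b v
      one_smul := fun v => by
        show ρ ((1 : U) : Matrix.SpecialLinearGroup (Fin 2) F) v = v
        rw [OneMemClass.coe_one, map_one]; rfl
      mul_smul := fun b c v => by
        show ρ ((b * c : U) : Matrix.SpecialLinearGroup (Fin 2) F) v = ρ b (ρ c v)
        rw [← MulAut.mul_apply, ← map_mul]; rfl }
  have h1 : 2 ∣ Nat.card V := by
    have h2 := (isPGroup_two hV).exists_card_eq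
    obtain ⟨n, hn⟩ := h2
    have h3 : 1 < Nat.card V := Finite.one_lt_card_iff_nontrivial.2 inferInstance
    rw [hn] at h3 ⊢
    exact dvd_pow_self 2 (by rintro rfl; simp at h3)
  have h2 : (1 : V) ∈ MulAction.fixedPoints U V := fun b => map_one (ρ b)
  obtain ⟨b, hb, hb1⟩ := U.isPGroup'.exists_fixed_point_of_prime_dvd_card_of_fixed_point V h1 h2
  intro h
  have h3 : b ∈ CS ρ (U : Subgroup _) := fun c hc => hb ⟨c, hc⟩
  rw [h, Subgroup.mem_bot] at h3
  exact hb1 h3.symm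

/-- `|C_V(U)|` is a power of `q` -/
theorem card_CS (hV : ∀ v : V, v * v = 1) (h3 : ∀ x, orderOf x = 3 → ∀ v, ρ x v = v → v = 1)
    (U : Sylow 2 (Matrix.SpecialLinearGroup (Fin 2) F)) :
    ∃ j : ℕ, Nat.card (CS ρ (U : Subgroup _)) = Fintype.card F ^ j := by
  obtain ⟨U', hU'⟩ := exists_ne_sylow U
  obtain ⟨K, -, hKc, hKm, -, -⟩ := exists_torus hU'
  have h1 : Nat.card K ∣ Nat.card (CS ρ (U : Subgroup _)) - 1 := by
    refine card_dvd_sub_one (K := V) (D := K) (ρ.comp K.subtype)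
      (CS ρ (U : Subgroup (Matrix.SpecialLinearGroup (Fin 2) F))) ?_ ?_
    · intro k c hc
      have h2 : (k : Matrix.SpecialLinearGroup (Fin 2) F) • U = U :=
        Sylow.smul_eq_iff_mem_normalizer.2 ((hKm k).1 k.2).1
      have h3 := smul_mem_CS ρ U (k : Matrix.SpecialLinearGroup (Fin 2) F) hc
      rwa [h2] at h3
    · intro k c hc hc1 hkc
      have h2 : (k : Matrix.SpecialLinearGroup (Fin 2) F) • U = U :=
        Sylow.smul_eq_iff_mem_normalizer.2 ((hKm k).1 k.2).1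
      have h2' : (k : Matrix.SpecialLinearGroup (Fin 2) F) • U' = U' :=
        Sylow.smul_eq_iff_mem_normalizer.2 ((hKm k).1 k.2).2
      exact Subtype.ext (torus_free ρ hV h3 hU' h2 h2' hc hc1 hkc)
  obtain ⟨n, -, hn⟩ := FiniteField.card F 2
  obtain ⟨m, hm⟩ := ((isPGroup_two hV).to_subgroup (CS ρ (U : Subgroup _))).exists_card_eq
  rw [hKc, hn, hm] at h1
  obtain ⟨j, rfl⟩ := dvd_of_pow_sub_one_dvd h1
  refine ⟨j, ?_⟩
  rw [hm, hn, pow_mul]

theorem card_VV (hV : ∀ v : V, v * v = 1) (h3 : ∀ x, orderOf x = 3 → ∀ v, ρ x v = v → v = 1)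
    (U : Sylow 2 (Matrix.SpecialLinearGroup (Fin 2) F)) :
    Nat.card (VV ρ) = Nat.card (CS ρ (U : Subgroup _)) ^ 2 := by
  obtain ⟨U', hU'⟩ := exists_ne_sylow U
  have h1 : Nat.card (CS ρ (U : Subgroup _) × CS ρ (U' : Subgroup _)) = Nat.card (VV ρ) := by
    apply Nat.card_congr
    refine Equiv.ofBijective (fun t => ⟨(t.1 : V) * (t.2 : V), mul_mem (CS_le_VV ρ U t.1.2) (CS_le_VV ρ U' t.2.2)⟩)
      ⟨?_, ?_⟩
    · rintro ⟨v, w⟩ ⟨v', w'⟩ h
      have h' : (v : V) * w = v' * w' := congrArg Subtype.val h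
      have h5 : (v : V) * (v' : V)⁻¹ = (w' : V) * (w : V)⁻¹ := by
        rw [mul_inv_eq_iff_eq_mul, mul_right_comm, eq_mul_inv_iff_mul_eq, h', mul_comm]
      have h4 : (v : V) * (v' : V)⁻¹ = 1 := by
        refine inf_eq_one ρ h3 hU' (mul_mem v.2 (inv_mem v'.2)) ?_
        rw [h5]
        exact mul_mem w'.2 (inv_mem w.2)
      have h6 : (v : V) = v' := mul_inv_eq_one.1 h4
      have h7 : (w' : V) = w := by rw [h4] at h5; exact mul_inv_eq_one.1 h5.symm
      exact Prod.ext (Subtype.ext h6) (Subtype.ext h7.symm)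
    · rintro ⟨v, hv⟩
      rw [VV_eq ρ hV h3 hU'] at hv
      obtain ⟨c₁, hc₁, c₂, hc₂, rfl⟩ := Subgroup.mem_sup.1 hv
      exact ⟨(⟨c₁, hc₁⟩, ⟨c₂, hc₂⟩), rfl⟩
  rw [← h1, Nat.card_prod, card_CS_eq ρ U' U, sq]

/-- the action on `V / V'` -/
def quo : Matrix.SpecialLinearGroup (Fin 2) F →* MulAut (V ⧸ VV ρ) where
  toFun g := QuotientGroup.congr (VV ρ) (VV ρ) (ρ g) (map_VV ρ g)
  map_one' := by
    ext w
    obtain ⟨v, rfl⟩ := QuotientGroup.mk_surjective w
    show (QuotientGroup.mk (ρ 1 v) : V ⧸ VV ρ) = QuotientGroup.mk v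
    rw [map_one]; rfl
  map_mul' g h := by
    ext w
    obtain ⟨v, rfl⟩ := QuotientGroup.mk_surjective w
    show (QuotientGroup.mk (ρ (g * h) v) : V ⧸ VV ρ) = QuotientGroup.mk (ρ g (ρ h v))
    rw [map_mul]; rfl

theorem quo_mk (g : Matrix.SpecialLinearGroup (Fin 2) F) (v : V) :
    quo ρ g (QuotientGroup.mk v : V ⧸ VV ρ) = QuotientGroup.mk (ρ g v) := rfl

theorem quo_sq (hV : ∀ v : V, v * v = 1) : ∀ w : V ⧸ VV ρ, w * w = 1 := by
  intro w
  obtain ⟨v, rfl⟩ := QuotientGroup.mk_surjective w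
  rw [← QuotientGroup.mk_mul, hV]; rfl

theorem quo_fpf (hV : ∀ v : V, v * v = 1) (h3 : ∀ x, orderOf x = 3 → ∀ v, ρ x v = v → v = 1) :
    ∀ x, orderOf x = 3 → ∀ w, quo ρ x w = w → w = 1 := by
  intro x hx w hw
  obtain ⟨v, rfl⟩ := QuotientGroup.mk_surjective w
  have h1 := triple ρ h3 hx v
  have h2 : (QuotientGroup.mk v : V ⧸ VV ρ) * quo ρ x (QuotientGroup.mk v) *
      quo ρ x (quo ρ x (QuotientGroup.mk v)) = 1 := by
    rw [quo_mk, quo_mk, ← QuotientGroup.mk_mul, ← QuotientGroup.mk_mul, h1]; rfl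
  rw [hw, hw, quo_sq ρ hV, one_mul] at h2
  exact h2

end

section
variable {F : Type*} [Field F] [Fintype F] [CharP F 2] {V : Type*} [CommGroup V] [Finite V]

theorem card_fixed (hV : ∀ v : V, v * v = 1) (ρ : Matrix.SpecialLinearGroup (Fin 2) F →* MulAut V)
    (h3 : ∀ x, orderOf x = 3 → ∀ v, ρ x v = v → v = 1)
    {a : Matrix.SpecialLinearGroup (Fin 2) F} (ha : a * a = 1) (ha1 : a ≠ 1) :
    Nat.card {v : V // ρ a v = v} ^ 2 = Nat.card V := by
  let _ : MulDistribMulAction (Matrix.SpecialLinearGroup (Fin 2) F) V := MulDistribMulAction.compHom V ρ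
  obtain ⟨x, hx, hax⟩ := inverts_three ha ha1
  exact LieExceptional.CITModule.card_fix_sq hV ha hax (by rw [hx]; decide) (fun v hv => h3 x hx v hv)

theorem fixed_eq_commutator (hV : ∀ v : V, v * v = 1) (ρ : Matrix.SpecialLinearGroup (Fin 2) F →* MulAut V)
    (h3 : ∀ x, orderOf x = 3 → ∀ v, ρ x v = v → v = 1)
    {a : Matrix.SpecialLinearGroup (Fin 2) F} (ha : a * a = 1) (ha1 : a ≠ 1) {v : V} (hv : ρ a v = v) :
    ∃ w, v = ρ a w * w⁻¹ := by
  let _ : MulDistribMulAction (Matrix.SpecialLinearGroup (Fin 2) F) V := MulDistribMulAction.compHom V ρ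
  obtain ⟨x, hx, hax⟩ := inverts_three ha ha1
  have h1 := LieExceptional.CITModule.range_tr_eq hV ha hax (by rw [hx]; decide) (fun v hv => h3 x hx v hv)
  have h2 : v ∈ LieExceptional.CITModule.fix V a := hv
  rw [← h1] at h2
  obtain ⟨w, hw⟩ := h2
  refine ⟨w, ?_⟩
  rw [inv_eq_self hV, ← hw, LieExceptional.CITModule.tr_apply, mul_comm]
  rfl

end

section
variable {F : Type*} [Field F] [Fintype F] [CharP F 2]

theorem card_eq_pow_aux (n : ℕ) : ∀ {V : Type*} [CommGroup V] [Finite V] (_ : ∀ v : V, v * v = 1)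
    (ρ : Matrix.SpecialLinearGroup (Fin 2) F →* MulAut V)
    (_ : ∀ x, orderOf x = 3 → ∀ v, ρ x v = v → v = 1), Nat.card V ≤ n →
    ∃ j : ℕ, Nat.card V = Fintype.card F ^ (2 * j) ∧ (Nontrivial V → 1 ≤ j) := by
  induction n with
  | zero =>
    intro V _ _ _ _ _ h
    exact absurd (Nat.card_pos (α := V)) (by omega)
  | succ n ih =>
    intro V _ _ hV ρ h3 hn
    by_cases hnt : Nontrivial V
    · obtain ⟨U⟩ : Nonempty (Sylow 2 (Matrix.SpecialLinearGroup (Fin 2) F)) := inferInstance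
      obtain ⟨i, hi⟩ := card_CS ρ hV h3 U
      have h1 := card_VV ρ hV h3 U
      have h2 : 1 < Nat.card (CS ρ (U : Subgroup _)) := by
        rw [Subgroup.one_lt_card_iff_ne_bot]
        exact CS_ne_bot ρ hV U
      have h4 := Subgroup.card_eq_card_quotient_mul_card_subgroup (VV ρ)
      have h5 : 0 < Nat.card (V ⧸ VV ρ) := Nat.card_pos
      have h6 : Nat.card (V ⧸ VV ρ) ≤ n := by
        have : Nat.card (V ⧸ VV ρ) * 2 ≤ Nat.card V := by
          rw [h4]
          apply Nat.mul_le_mul_left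
          rw [h1]; nlinarith
        omega
      obtain ⟨j, hj, -⟩ := ih (quo_sq ρ hV) (quo ρ) (quo_fpf ρ hV h3) h6
      refine ⟨j + i, ?_, fun _ => ?_⟩
      · rw [h4, hj, h1, hi, ← pow_mul, ← pow_add]
        ring_nf
      · by_contra hcon
        have : i = 0 := by omega
        rw [hi, this, pow_zero] at h2
        omega
    · refine ⟨0, ?_, fun h => absurd h hnt⟩
      have : Subsingleton V := not_nontrivial_iff_subsingleton.1 hnt
      rw [mul_zero, pow_zero]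
      exact Nat.card_unique

end

section
variable {F : Type*} [Field F] [Fintype F] [CharP F 2] {V : Type*} [CommGroup V] [Finite V]

theorem card_eq_pow (hV : ∀ v : V, v * v = 1) (ρ : Matrix.SpecialLinearGroup (Fin 2) F →* MulAut V)
    (h3 : ∀ x, orderOf x = 3 → ∀ v, ρ x v = v → v = 1) : ∃ j : ℕ, Nat.card V = Fintype.card F ^ (2 * j) := by
  obtain ⟨j, hj, -⟩ := card_eq_pow_aux _ hV ρ h3 le_rfl
  exact ⟨j, hj⟩

theorem card_fixed_eq_pow (hV : ∀ v : V, v * v = 1) (ρ : Matrix.SpecialLinearGroup (Fin 2) F →* MulAut V)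
    (h3 : ∀ x, orderOf x = 3 → ∀ v, ρ x v = v → v = 1)
    {a : Matrix.SpecialLinearGroup (Fin 2) F} (ha : a * a = 1) (ha1 : a ≠ 1) :
    ∃ j : ℕ, Nat.card {v : V // ρ a v = v} = Fintype.card F ^ j ∧ Nat.card V = Fintype.card F ^ (2 * j) ∧
      (Nontrivial V → 1 ≤ j) := by
  obtain ⟨j, hj, h1⟩ := card_eq_pow_aux _ hV ρ h3 le_rfl
  refine ⟨j, ?_, hj, h1⟩
  have h2 := card_fixed hV ρ h3 ha ha1
  rw [hj, mul_comm, pow_mul] at h2
  exact Nat.pow_left_injective (n := 2) (by norm_num) h2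

theorem fixed_sylow (hV : ∀ v : V, v * v = 1) (ρ : Matrix.SpecialLinearGroup (Fin 2) F →* MulAut V)
    (h3 : ∀ x, orderOf x = 3 → ∀ v, ρ x v = v → v = 1) (hq : Nat.card V = Fintype.card F ^ 2)
    (U : Sylow 2 (Matrix.SpecialLinearGroup (Fin 2) F)) {a : Matrix.SpecialLinearGroup (Fin 2) F} (ha : a ∈ U)
    (ha1 : a ≠ 1) {v : V} (hv : ρ a v = v) : ∀ b ∈ U, ρ b v = v := by
  have hF := two_le_card (F := F)
  have hnt : Nontrivial V := by
    rw [← Finite.one_lt_card_iff_nontrivial, hq]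
    nlinarith
  obtain ⟨i, hi⟩ := card_CS ρ hV h3 U
  have h2 : 1 < Nat.card (CS ρ (U : Subgroup _)) := by
    rw [Subgroup.one_lt_card_iff_ne_bot]
    exact CS_ne_bot ρ hV U
  have hi1 : 1 ≤ i := by
    by_contra hcon
    have : i = 0 := by omega
    rw [hi, this, pow_zero] at h2
    omega
  have h4 : Nat.card (VV ρ) = Nat.card V := by
    apply le_antisymm (Subgroup.card_le_card_group _)
    rw [card_VV ρ hV h3 U, hi, hq]
    exact Nat.pow_le_pow_left (by
      calc Fintype.card F = Fintype.card F ^ 1 := (pow_one _).symm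
        _ ≤ Fintype.card F ^ i := Nat.pow_le_pow_right (by omega) hi1) 2
  have h5 : VV ρ = ⊤ := Subgroup.eq_top_of_card_eq _ h4
  exact mem_CS_of_fixed ρ hV h3 ha ha1 (by rw [h5]; trivial) hv

theorem offender (hV : ∀ v : V, v * v = 1) (hV1 : Nontrivial V) (ρ : Matrix.SpecialLinearGroup (Fin 2) F →* MulAut V)
    (h3 : ∀ x, orderOf x = 3 → ∀ v, ρ x v = v → v = 1)
    (U : Sylow 2 (Matrix.SpecialLinearGroup (Fin 2) F)) (A : Subgroup (Matrix.SpecialLinearGroup (Fin 2) F))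
    (hAU : A ≤ U) (hA1 : A ≠ ⊥) (hoff : Nat.card V ≤ Nat.card A * Nat.card {v : V // ∀ a ∈ A, ρ a v = v}) :
    A = U ∧ Nat.card V = Fintype.card F ^ 2 := by
  have hF := two_le_card (F := F)
  obtain ⟨⟨a, haA⟩, ha1⟩ := Subgroup.ne_bot_iff_exists_ne_one.1 hA1
  have ha1' : a ≠ 1 := fun h => ha1 (Subtype.ext h)
  obtain ⟨j, hj, hVj, hj1⟩ := card_fixed_eq_pow hV ρ h3 (sylow_elem U a (hAU haA)) ha1'
  have h1 : Nat.card {v : V // ∀ a ∈ A, ρ a v = v} ≤ Fintype.card F ^ j := by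
    rw [← hj]
    exact Nat.card_le_card_of_injective (fun v => (⟨v.1, v.2 a haA⟩ : {v : V // ρ a v = v}))
      (fun v w h => Subtype.ext (congrArg (Subtype.val : {v : V // ρ a v = v} → V) h))
  have h2 : Nat.card A ≤ Fintype.card F := by
    rw [← card_sylow U]
    exact Subgroup.card_le_of_le hAU
  have hqj : 0 < Fintype.card F ^ j := Nat.pow_pos (by omega)
  have h4 : Fintype.card F ^ j ≤ Nat.card A := by
    have h5 : Fintype.card F ^ j * Fintype.card F ^ j ≤ Nat.card A * Fintype.card F ^ j := by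
      calc Fintype.card F ^ j * Fintype.card F ^ j = Nat.card V := by rw [hVj, two_mul, pow_add]
        _ ≤ _ := hoff
        _ ≤ _ := Nat.mul_le_mul_left _ h1
    exact Nat.le_of_mul_le_mul_right h5 hqj
  have h5 : j = 1 := by
    have h6 : Fintype.card F ^ j ≤ Fintype.card F ^ 1 := by rw [pow_one]; omega
    have h7 := (Nat.pow_le_pow_iff_right (by omega)).1 h6
    have h8 := hj1 hV1
    omega
  rw [h5, pow_one] at h4
  refine ⟨?_, ?_⟩
  · apply Subgroup.eq_of_le_of_card_ge hAU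
    have : Nat.card (U : Subgroup (Matrix.SpecialLinearGroup (Fin 2) F)) = Fintype.card F := card_sylow U
    rw [this]
    exact h4
  · rw [hVj, h5]

end
end Cfsg.Agent.OddCyclic.T1Module
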