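import Mathlib
import Cfsg.Agent.OddCyclic.T1Defs
import Cfsg.Agent.OddCyclic.T1Sl2
import Cfsg.Agent.OddCyclic.T1Module
import Cfsg.Agent.LieExceptional.CITBasic
import Cfsg.Agent.LieExceptional.CITFFLocal

/-!
# S0342, case T0 = 1, piece C: `LType` in an ambient group, `V = omegaZ Q`
-/

set_option autoImplicit false
set_option linter.unusedSectionVars false

namespace Cfsg.Agent.OddCyclic.T1Local

open Cfsg.Agent.LieExceptional.CITDefs Cfsg.Agent.OddCyclic.T1Defs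
open Cfsg.Agent.LieExceptional
open scoped Pointwise

universe u

variable {G : Type u} [Group G] [Finite G] {P Q T : Subgroup G} {q : ℕ}

/-- `SL₂(F)` -/
abbrev SL (F : Type*) [Field F] := Matrix.SpecialLinearGroup (Fin 2) F

/-- unpacked `LType` -/
structure Dat (P Q T : Subgroup G) (q : ℕ) (F : Type) [Field F] [Fintype F] where
  h : LType P Q T q
  φ : P →* SL F
  surj : Function.Surjective φ
  ker : ∀ x : P, φ x = 1 ↔ (x : G) ∈ Q
  card : Fintype.card F = q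
  U : Sylow 2 (SL F)
  memU : ∀ x : P, φ x ∈ (U : Subgroup (SL F)) ↔ (x : G) ∈ T

theorem Q_le_T (h : LType P Q T q) : Q ≤ T := CITCommute.o2_le_syl h.o2 h.syl

theorem exists_dat (h : LType P Q T q) :
    ∃ (F : Type) (_ : Field F) (_ : Fintype F) (_ : CharP F 2), Nonempty (Dat P Q T q F) := by
  have _ : Fact (Nat.Prime 2) := ⟨Nat.prime_two⟩
  obtain ⟨F, hF1, hF2, hF3, φ, hφ, hker, hq⟩ := h.iso
  have hk : ∀ x : P, φ x = 1 ↔ (x : G) ∈ Q := by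
    intro x
    rw [← MonoidHom.mem_ker, hker, Subgroup.mem_subgroupOf]
  refine ⟨F, hF1, hF2, hF3, ⟨h, φ, hφ, hk, hq, (CITBasic.IsSyl2.toSylow h.syl).mapSurjective hφ, ?_⟩⟩
  intro x
  have h1 : (((CITBasic.IsSyl2.toSylow h.syl).mapSurjective hφ : Sylow 2 (SL F)) : Subgroup (SL F)) =
      (T.subgroupOf P).map φ := Sylow.coe_mapSurjective hφ _
  rw [h1, Subgroup.mem_map]
  constructor
  · rintro ⟨t, ht, htx⟩
    have h2 : φ (t⁻¹ * x) = 1 := by rw [map_mul, map_inv, htx, inv_mul_cancel]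
    have h3 := Q_le_T h ((hk _).1 h2)
    have h4 : (x : G) = (t : G) * ((t⁻¹ * x : P) : G) := by
      rw [← Subgroup.coe_mul, mul_inv_cancel_left]
    rw [h4]
    exact T.mul_mem (Subgroup.mem_subgroupOf.1 ht) h3
  · intro hx
    exact ⟨x, Subgroup.mem_subgroupOf.2 hx, rfl⟩

theorem pow (h : LType P Q T q) : ∃ n, 1 ≤ n ∧ q = 2 ^ n := by
  obtain ⟨F, _, _, _, ⟨D⟩⟩ := exists_dat h
  obtain ⟨n, -, hn⟩ := FiniteField.card F 2
  exact ⟨n, n.2, by rw [← D.card, hn]⟩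

theorem two_le (h : LType P Q T q) : 2 ≤ q := by
  obtain ⟨n, hn, rfl⟩ := pow h
  calc 2 = 2 ^ 1 := rfl
    _ ≤ 2 ^ n := Nat.pow_le_pow_right (by norm_num) hn

section Dat

variable {F : Type} [Field F] [Fintype F]

namespace Dat

theorem Q_le_P (D : Dat P Q T q F) : Q ≤ P := D.h.o2.le

theorem T_le_P (D : Dat P Q T q F) : T ≤ P := D.h.syl.le

theorem phi_eq_one (D : Dat P Q T q F) {x : G} (hx : x ∈ Q) : D.φ ⟨x, D.Q_le_P hx⟩ = 1 :=
  (D.ker _).2 hx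

/-- the elements of `P` mapping to `S ≤ SL₂(F)` form a group of order `|S| |Q|` -/
theorem card_of_mem (D : Dat P Q T q F) (H : Subgroup G) (hH : H ≤ P) (S : Subgroup (SL F))
    (hS : ∀ x : P, D.φ x ∈ S ↔ (x : G) ∈ H) : Nat.card H = Nat.card S * Nat.card Q := by
  have hQH : Q ≤ H := fun x hx => (hS ⟨x, D.Q_le_P hx⟩).1 (by rw [D.phi_eq_one hx]; exact S.one_mem)
  let ψ : H →* SL F := D.φ.comp (Subgroup.inclusion hH)
  have h1 : ψ.range = S := by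
    ext s
    constructor
    · rintro ⟨x, rfl⟩
      exact (hS _).2 x.2
    · intro hs
      obtain ⟨x, rfl⟩ := D.surj s
      exact ⟨⟨x, (hS x).1 hs⟩, rfl⟩
  have h2 : ψ.ker = Q.subgroupOf H := by
    ext x
    rw [MonoidHom.mem_ker, Subgroup.mem_subgroupOf]
    exact D.ker (Subgroup.inclusion hH x)
  have h3 := Subgroup.card_mul_index ψ.ker
  rw [Subgroup.index_ker, h1, h2, CITFFLocal.card_subgroupOf hQH] at h3
  rw [← h3, mul_comm]

end Dat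

end Dat

theorem card_P (h : LType P Q T q) : Nat.card P = (q + 1) * q * (q - 1) * Nat.card Q := by
  obtain ⟨F, _, _, _, ⟨D⟩⟩ := exists_dat h
  rw [D.card_of_mem P le_rfl ⊤ (fun x => ⟨fun _ => x.2, fun _ => Subgroup.mem_top _⟩),
    Subgroup.card_top, T1Sl2.card_sl2, D.card]

theorem card_T (h : LType P Q T q) : Nat.card T = q * Nat.card Q := by
  obtain ⟨F, _, _, _, ⟨D⟩⟩ := exists_dat h
  rw [D.card_of_mem T D.T_le_P D.U D.memU]
  congr 1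
  exact (T1Sl2.card_sylow D.U).trans D.card

theorem sq_mem (h : LType P Q T q) : ∀ t ∈ T, t * t ∈ Q := by
  intro t ht
  obtain ⟨F, _, _, _, ⟨D⟩⟩ := exists_dat h
  have h1 := T1Sl2.sylow_elem D.U _ ((D.memU ⟨t, D.T_le_P ht⟩).2 ht)
  rw [← map_mul, D.ker] at h1
  exact h1

theorem comm_eq_one {K : Type*} [Group K] {a b : K} (ha : a * a = 1) (hb : b * b = 1)
    (hab : a * b * (a * b) = 1) : a * b * a⁻¹ * b⁻¹ = 1 := by
  have ha' : a⁻¹ = a := inv_eq_of_mul_eq_one_left ha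
  have hb' : b⁻¹ = b := inv_eq_of_mul_eq_one_left hb
  rw [ha', hb', mul_assoc (a * b)]
  exact hab

theorem comm_mem (h : LType P Q T q) : ∀ s ∈ T, ∀ t ∈ T, s * t * s⁻¹ * t⁻¹ ∈ Q := by
  intro s hs t ht
  obtain ⟨F, _, _, _, ⟨D⟩⟩ := exists_dat h
  have h1 := T1Sl2.sylow_elem D.U _ ((D.memU ⟨s, D.T_le_P hs⟩).2 hs)
  have h2 := T1Sl2.sylow_elem D.U _ ((D.memU ⟨t, D.T_le_P ht⟩).2 ht)
  have h3 := T1Sl2.sylow_elem D.U _ (mul_mem ((D.memU ⟨s, D.T_le_P hs⟩).2 hs) ((D.memU ⟨t, D.T_le_P ht⟩).2 ht))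
  have h4 := comm_eq_one h1 h2 h3
  rw [← map_inv, ← map_inv, ← map_mul, ← map_mul, ← map_mul, D.ker] at h4
  exact h4

theorem mem_smul_sylow {K : Type*} [Group K] (U : Sylow 2 K) (g x : K) :
    x ∈ ((g • U : Sylow 2 K) : Subgroup K) ↔ g⁻¹ * x * g ∈ (U : Subgroup K) := by
  rw [Sylow.coe_subgroup_smul, Subgroup.mem_pointwise_smul_iff_inv_smul_mem, MulAut.smul_def, ← map_inv,
    MulAut.conj_apply, inv_inv]

theorem smul_eq_iff {K : Type*} [Group K] [Finite K] (U : Sylow 2 K) (g : K) :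
    g • U = U ↔ ∀ a ∈ (U : Subgroup K), g * a * g⁻¹ ∈ (U : Subgroup K) := by
  constructor
  · intro h a ha
    rw [← h, mem_smul_sylow]
    have : g⁻¹ * (g * a * g⁻¹) * g = a := by group
    rwa [this]
  · intro h
    rw [Sylow.smul_eq_iff_mem_normalizer]
    exact Subgroup.mem_normalizer_fintype h

namespace Dat

variable {F : Type} [Field F] [Fintype F]

theorem smul_iff (D : Dat P Q T q F) (g : P) :
    D.φ g • D.U = D.U ↔ ∀ x ∈ T, (g : G) * x * (g : G)⁻¹ ∈ T := by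
  rw [smul_eq_iff]
  constructor
  · intro h x hx
    have h1 := h _ ((D.memU ⟨x, D.T_le_P hx⟩).2 hx)
    rw [← map_inv, ← map_mul, ← map_mul, D.memU] at h1
    exact h1
  · intro h a ha
    obtain ⟨x, rfl⟩ := D.surj a
    rw [← map_inv, ← map_mul, ← map_mul, D.memU]
    exact h x ((D.memU x).1 ha)

end Dat

theorem ti (h : LType P Q T q) : ∀ g ∈ P, (∃ x ∈ T, x ∉ Q ∧ g * x * g⁻¹ ∈ T) → ∀ x ∈ T, g * x * g⁻¹ ∈ T := by
  rintro g hg ⟨x, hx, hxQ, hgx⟩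
  obtain ⟨F, _, _, _, ⟨D⟩⟩ := exists_dat h
  have hxP := D.T_le_P hx
  rw [← D.smul_iff ⟨g, hg⟩]
  by_contra hne
  have h1 : D.φ ⟨x, hxP⟩ = 1 := by
    have h2 : (D.φ ⟨g, hg⟩)⁻¹ • D.U ≠ D.U := by
      intro h2
      apply hne
      rw [inv_smul_eq_iff] at h2
      exact h2.symm
    refine T1Sl2.sylow_ti h2 ?_ ((D.memU ⟨x, hxP⟩).2 hx)
    show D.φ ⟨x, hxP⟩ ∈ (((D.φ ⟨g, hg⟩)⁻¹ • D.U : Sylow 2 (SL F)) : Subgroup (SL F))
    rw [mem_smul_sylow, inv_inv, ← map_inv, ← map_mul, ← map_mul, D.memU]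
    exact hgx
  exact hxQ ((D.ker _).1 h1)

/-- lift an element of odd order -/
theorem Dat.lift_odd {F : Type} [Field F] [Fintype F] (D : Dat P Q T q F) (s : SL F) (hs : Odd (orderOf s)) :
    ∃ x : P, D.φ x = s ∧ orderOf x = orderOf s := by
  obtain ⟨y, rfl⟩ := D.surj s
  set n := orderOf (D.φ y) with hn
  have hn0 : n ≠ 0 := by
    intro h0
    rw [h0] at hs
    exact absurd hs (by decide)
  obtain ⟨a, ha⟩ := D.h.o2.two ⟨(y ^ n : P), (D.ker _).1 (by rw [map_pow, pow_orderOf_eq_one])⟩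
  have ha' : (y ^ n) ^ 2 ^ a = 1 := by
    apply Subtype.ext
    have h2 := congrArg Subtype.val ha
    exact h2
  -- exponent `m ≡ 1 mod n`, `m ≡ 0 mod 2 ^ a`
  have hco : Nat.Coprime n (2 ^ a) := Nat.Coprime.pow_right a (Nat.coprime_two_right.2 hs)
  obtain ⟨m, hm1, hm2⟩ := Nat.chineseRemainder hco 1 0
  have h1 : D.φ (y ^ m) = D.φ y := by
    rw [map_pow]
    conv_rhs => rw [← pow_one (D.φ y)]
    exact pow_eq_pow_iff_modEq.2 hm1
  refine ⟨y ^ m, h1, ?_⟩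
  apply Nat.dvd_antisymm
  · apply orderOf_dvd_of_pow_eq_one
    obtain ⟨c, rfl⟩ := (Nat.modEq_zero_iff_dvd.1 hm2)
    rw [← pow_mul, show 2 ^ a * c * n = n * 2 ^ a * c by ring, pow_mul, pow_mul, ha', one_pow]
  · rw [hn, ← h1]
    exact orderOf_map_dvd _ _

/-- `t` inverts an element of order 3 modulo `Q` -/
theorem inverts (h : LType P Q T q) : ∀ t ∈ T, t ∉ Q → ∃ x ∈ P, orderOf x = 3 ∧ t * x * t⁻¹ * x ∈ Q := by
  intro t ht htQ
  obtain ⟨F, _, _, _, ⟨D⟩⟩ := exists_dat h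
  have h1 := T1Sl2.sylow_elem D.U _ ((D.memU ⟨t, D.T_le_P ht⟩).2 ht)
  obtain ⟨s, hs, hs2⟩ := T1Sl2.inverts_three h1 (fun h2 => htQ ((D.ker _).1 h2))
  obtain ⟨x, hx, hx2⟩ := D.lift_odd s (by rw [hs]; decide)
  refine ⟨x, x.2, ?_, ?_⟩
  · rw [Subgroup.orderOf_coe, hx2, hs]
  · have h3 : D.φ (⟨t, D.T_le_P ht⟩ * x * (⟨t, D.T_le_P ht⟩ : P)⁻¹ * x) = 1 := by
      rw [map_mul, map_mul, map_mul, map_inv, hx, hs2, inv_mul_cancel]
    exact (D.ker _).1 h3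

theorem normalizes_or (h : LType P Q T q) {K : Subgroup G} (h1 : T ≤ K) (h2 : K ≤ P) :
    (∀ k ∈ K, ∀ x ∈ T, k * x * k⁻¹ ∈ T) ∨ K = P := by
  obtain ⟨F, _, _, _, ⟨D⟩⟩ := exists_dat h
  have h3 : (D.U : Subgroup (SL F)) ≤ (K.subgroupOf P).map D.φ := by
    intro s hs
    obtain ⟨x, rfl⟩ := D.surj s
    exact ⟨x, Subgroup.mem_subgroupOf.2 (h1 ((D.memU x).1 hs)), rfl⟩
  rcases T1Sl2.le_normalizer_or D.U _ h3 with h4 | h4
  · left
    intro k hk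
    have h5 := h4 (Subgroup.mem_map_of_mem D.φ (x := ⟨k, h2 hk⟩) (Subgroup.mem_subgroupOf.2 hk))
    exact (D.smul_iff _).1 (Sylow.smul_eq_iff_mem_normalizer.2 h5)
  · right
    apply le_antisymm h2
    intro p hp
    have h5 : D.φ ⟨p, hp⟩ ∈ (K.subgroupOf P).map D.φ := by rw [h4]; trivial
    obtain ⟨k, hk, hkp⟩ := h5
    have h6 : D.φ (k⁻¹ * ⟨p, hp⟩) = 1 := by rw [map_mul, map_inv, hkp, inv_mul_cancel]
    have h7 := (D.ker _).1 h6
    have h8 : p = (k : G) * ((k⁻¹ * ⟨p, hp⟩ : P) : G) := by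
      rw [← Subgroup.coe_mul, mul_inv_cancel_left]
    rw [h8]
    exact K.mul_mem (Subgroup.mem_subgroupOf.1 hk) (h1 (Q_le_T h h7))

theorem exists_not_mem (h : LType P Q T q) : ∃ t ∈ T, t ∉ Q := by
  by_contra hne
  push Not at hne
  have h1 : T = Q := le_antisymm hne (Q_le_T h)
  have h2 := card_T h
  rw [h1] at h2
  have h3 : 0 < Nat.card Q := Nat.card_pos
  have h4 := two_le h
  nlinarith

theorem three_not_two {T : Subgroup G} (hT : IsPGroup 2 T) {x : G} (hx : x ∈ T) (h3 : orderOf x = 3) : False := by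
  obtain ⟨k, hk⟩ := hT ⟨x, hx⟩
  have h1 : x ^ 2 ^ k = 1 := congrArg Subtype.val hk
  have h2 := orderOf_dvd_of_pow_eq_one h1
  rw [h3] at h2
  have h4 := Nat.Prime.dvd_of_dvd_pow Nat.prime_three h2
  omega

/-- `T` is not normal in `P` -/
theorem not_normal (h : LType P Q T q) : ∃ g ∈ P, ∃ x ∈ T, g * x * g⁻¹ ∉ T := by
  obtain ⟨t, ht, htQ⟩ := exists_not_mem h
  obtain ⟨x, hx, hx3, hxt⟩ := inverts h t ht htQ
  by_contra hne
  push Not at hne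
  have h1 := hne x⁻¹ (P.inv_mem hx) t⁻¹ (T.inv_mem ht)
  have h2 := T.mul_mem (T.mul_mem (T.inv_mem ht) (Q_le_T h hxt)) (T.inv_mem h1)
  have h3 : t⁻¹ * (t * x * t⁻¹ * x) * (x⁻¹ * t⁻¹ * x⁻¹⁻¹)⁻¹ = x ^ 2 := by
    rw [sq]
    group
  rw [h3] at h2
  exact three_not_two h.syl.two h2 (by rw [orderOf_pow' x (by norm_num), hx3]; rfl)

theorem Dat.exists_ne {F : Type} [Field F] [Fintype F] (D : Dat P Q T q F) : ∃ U' : Sylow 2 (SL F), D.U ≠ U' := by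
  obtain ⟨g, hg, x, hx, hgx⟩ := not_normal D.h
  refine ⟨D.φ ⟨g, hg⟩ • D.U, fun h => ?_⟩
  exact hgx ((D.smul_iff _).1 h.symm x hx)

/-- the torus -/
theorem exists_torus' (h : LType P Q T q) : ∃ K : Subgroup G, K ≤ P ∧ IsCyclic K ∧ Nat.card K = q - 1 ∧
    (∀ k ∈ K, ∀ x ∈ T, k * x * k⁻¹ ∈ T) ∧ (∀ g ∈ P, (∀ x ∈ T, g * x * g⁻¹ ∈ T) → ∃ t ∈ T, ∃ k ∈ K, g = t * k) := by
  obtain ⟨F, _, _, _, ⟨D⟩⟩ := exists_dat h
  obtain ⟨U', hU'⟩ := D.exists_ne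
  obtain ⟨K, hcyc, hcard, hmem, hfac, -⟩ := T1Sl2.exists_torus hU'
  obtain ⟨s, hs⟩ := hcyc.exists_generator
  have hs1 : orderOf (s : SL F) = q - 1 := by
    rw [Subgroup.orderOf_coe, orderOf_eq_card_of_forall_mem_zpowers hs, hcard, D.card]
  obtain ⟨n, hn, hqn⟩ := pow h
  have hodd : Odd (q - 1) := by
    rw [hqn]
    obtain ⟨m, rfl⟩ := Nat.exists_eq_add_of_le' hn
    rw [pow_succ]
    have : 0 < 2 ^ m := by positivity
    exact ⟨2 ^ m - 1, by omega⟩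
  obtain ⟨x, hx, hx1⟩ := D.lift_odd (s : SL F) (by rw [hs1]; exact hodd)
  have hnor : ∀ k ∈ Subgroup.zpowers x, ∀ y ∈ T, (k : G) * y * (k : G)⁻¹ ∈ T := by
    intro k hk
    rw [← D.smul_iff]
    obtain ⟨j, rfl⟩ := hk
    apply Sylow.smul_eq_iff_mem_normalizer.2
    show D.φ (x ^ j) ∈ _
    rw [map_zpow, hx]
    exact Subgroup.zpow_mem _ ((hmem _).1 s.2).1 j
  refine ⟨(Subgroup.zpowers x).map P.subtype, Subgroup.map_subtype_le _, ?_, ?_, ?_, ?_⟩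
  · exact isCyclic_of_surjective _ ((Subgroup.equivMapOfInjective (Subgroup.zpowers x) P.subtype
      P.subtype_injective).surjective)
  · rw [Subgroup.card_map_of_injective P.subtype_injective, Nat.card_zpowers, hx1, hs1]
  · rintro _ ⟨k, hk, rfl⟩
    exact hnor k hk
  · intro g hg hgT
    have h1 : D.φ ⟨g, hg⟩ • D.U = D.U := (D.smul_iff _).2 hgT
    obtain ⟨a, ha, k, hk, hgak⟩ := hfac _ (Sylow.smul_eq_iff_mem_normalizer.1 h1)
    obtain ⟨j, hj⟩ := hs ⟨k, hk⟩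
    have hj' : (s : SL F) ^ j = k := congrArg Subtype.val hj
    have h2 : D.φ (⟨g, hg⟩ * (x ^ j)⁻¹) = a := by
      rw [map_mul, map_inv, map_zpow, hx, hj', hgak, mul_inv_cancel_right]
    refine ⟨g * ((x ^ j : P) : G)⁻¹, ?_, ((x ^ j : P) : G), ⟨x ^ j, ⟨j, rfl⟩, rfl⟩, by group⟩
    rw [← h2] at ha
    exact (D.memU _).1 ha

/-- the action of `SL₂(F)` on `V = omegaZ Q` -/
theorem Dat.exists_rho {F : Type} [Field F] [Fintype F] (D : Dat P Q T q F) :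
    ∃ ρ : SL F →* MulAut (omegaZ Q), ∀ (x : P) (v : omegaZ Q), ((ρ (D.φ x) v : omegaZ Q) : G) = x * v * (x : G)⁻¹ := by
  let c := CITFFLocal.conjHom P (omegaZ Q) (CITFFAux.omegaZ_conj D.h.o2.normal)
  have h1 : D.φ.ker ≤ c.ker := by
    intro x hx
    rw [MonoidHom.mem_ker, D.ker] at hx
    rw [MonoidHom.mem_ker]
    ext v
    show (x : G) * v * (x : G)⁻¹ = v
    rw [mul_inv_eq_iff_eq_mul]
    exact (v.2.2.2 _ hx).symm
  refine ⟨D.φ.liftOfSurjective D.surj ⟨c, h1⟩, fun x v => ?_⟩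
  rw [MonoidHom.liftOfRightInverse_comp_apply]
  rfl

section Module

variable {F : Type} [Field F] [Fintype F]

theorem Dat.fix_iff (D : Dat P Q T q F) {ρ : SL F →* MulAut (omegaZ Q)}
    (hρ : ∀ (x : P) (v : omegaZ Q), ((ρ (D.φ x) v : omegaZ Q) : G) = x * v * (x : G)⁻¹) (x : P) (v : omegaZ Q) :
    ρ (D.φ x) v = v ↔ (x : G) * v = v * x := by
  rw [Subtype.ext_iff, hρ, mul_inv_eq_iff_eq_mul]

theorem Dat.fpf3 (D : Dat P Q T q F) {ρ : SL F →* MulAut (omegaZ Q)}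
    (hρ : ∀ (x : P) (v : omegaZ Q), ((ρ (D.φ x) v : omegaZ Q) : G) = x * v * (x : G)⁻¹) :
    ∀ s, orderOf s = 3 → ∀ v, ρ s v = v → v = 1 := by
  intro s hs v hv
  obtain ⟨x, rfl, hx⟩ := D.lift_odd s (by rw [hs]; decide)
  rw [D.fix_iff hρ] at hv
  exact Subtype.ext (D.h.fpf x x.2 (by rw [Subgroup.orderOf_coe, hx, hs]) v v.2.1 hv)

theorem Dat.sq_one (D : Dat P Q T q F) [CharP F 2] {t : G} (ht : t ∈ T) :
    D.φ ⟨t, D.T_le_P ht⟩ * D.φ ⟨t, D.T_le_P ht⟩ = 1 :=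
  T1Sl2.sylow_elem D.U _ ((D.memU _).2 ht)

theorem Dat.ne_one (D : Dat P Q T q F) {t : G} (ht : t ∈ T) (htQ : t ∉ Q) :
    D.φ ⟨t, D.T_le_P ht⟩ ≠ 1 := fun h => htQ ((D.ker _).1 h)

end Module

/-- `|C_V(t)|² = |V|` -/
theorem card_CV (h : LType P Q T q) {t : G} (ht : t ∈ T) (htQ : t ∉ Q) :
    Nat.card (omegaZ Q ⊓ Subgroup.centralizer {t} : Subgroup G) ^ 2 = Nat.card (omegaZ Q) := by
  obtain ⟨F, _, _, _, ⟨D⟩⟩ := exists_dat h
  obtain ⟨ρ, hρ⟩ := D.exists_rho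
  let _ : CommGroup (omegaZ Q) := CITFFLocal.omegaZComm Q
  rw [← T1Module.card_fixed (V := omegaZ Q) (fun v => Subtype.ext v.2.2.1) ρ (D.fpf3 hρ) (D.sq_one ht) (D.ne_one ht htQ)]
  congr 1
  refine Nat.card_congr
    { toFun := fun v => ⟨⟨v, v.2.1⟩, (D.fix_iff hρ _ _).2 ?_⟩
      invFun := fun v => ⟨v.1, ⟨v.1.2, ?_⟩⟩
      left_inv := fun v => rfl
      right_inv := fun v => rfl }
  · exact (Subgroup.mem_centralizer_singleton_iff.1 v.2.2).symm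
  · exact Subgroup.mem_centralizer_singleton_iff.2 ((D.fix_iff hρ _ _).1 v.2).symm

theorem omegaZ_ne_bot (h : LType P Q T q) (hQ : Q ≠ ⊥) : omegaZ Q ≠ ⊥ := CITFFAux.omegaZ_ne_bot h.o2.two hQ

theorem cent_V (h : LType P Q T q) (hQ : Q ≠ ⊥) : ∀ t ∈ T, (∀ v ∈ omegaZ Q, t * v = v * t) → t ∈ Q := by
  intro t ht hc
  by_contra htQ
  have h1 := card_CV h ht htQ
  have h2 : omegaZ Q ⊓ Subgroup.centralizer {t} = omegaZ Q := by
    apply inf_eq_left.2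
    intro v hv
    exact Subgroup.mem_centralizer_singleton_iff.2 (hc v hv).symm
  rw [h2] at h1
  have h3 : 1 < Nat.card (omegaZ Q) := (Subgroup.one_lt_card_iff_ne_bot _).2 (omegaZ_ne_bot h hQ)
  nlinarith

theorem omegaZ_le (h : LType P Q T q) (hQ : Q ≠ ⊥) : omegaZ T ≤ omegaZ Q := by
  rintro z ⟨hz, hz2, hzc⟩
  have h1 : z ∈ Q := cent_V h hQ z hz fun v hv => hzc v (Q_le_T h hv.1)
  exact ⟨h1, hz2, fun y hy => hzc y (Q_le_T h hy)⟩

theorem card_V (h : LType P Q T q) : ∃ j, Nat.card (omegaZ Q) = q ^ (2 * j) := by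
  obtain ⟨F, _, _, _, ⟨D⟩⟩ := exists_dat h
  obtain ⟨ρ, hρ⟩ := D.exists_rho
  let _ : CommGroup (omegaZ Q) := CITFFLocal.omegaZComm Q
  rw [← D.card]
  exact T1Module.card_eq_pow (V := omegaZ Q) (fun v => Subtype.ext v.2.2.1) ρ (D.fpf3 hρ)

theorem eq_commutator (h : LType P Q T q) {t v : G} (ht : t ∈ T) (htQ : t ∉ Q) (hv : v ∈ omegaZ Q)
    (hc : t * v = v * t) : ∃ w ∈ omegaZ Q, v = t * w * t⁻¹ * w⁻¹ := by
  obtain ⟨F, _, _, _, ⟨D⟩⟩ := exists_dat h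
  obtain ⟨ρ, hρ⟩ := D.exists_rho
  let _ : CommGroup (omegaZ Q) := CITFFLocal.omegaZComm Q
  obtain ⟨w, hw⟩ := T1Module.fixed_eq_commutator (V := omegaZ Q) (fun v => Subtype.ext v.2.2.1) ρ (D.fpf3 hρ)
    (D.sq_one ht) (D.ne_one ht htQ) (v := ⟨v, hv⟩) ((D.fix_iff hρ _ _).2 hc)
  refine ⟨w, w.2, ?_⟩
  have h1 : v = ((ρ (D.φ ⟨t, D.T_le_P ht⟩) w : omegaZ Q) : G) * (w : G)⁻¹ := congrArg Subtype.val hw
  rw [h1, hρ]

theorem nat_mem (h : LType P Q T q) (hV : Nat.card (omegaZ Q) = q ^ 2) {t v : G} (ht : t ∈ T) (htQ : t ∉ Q)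
    (hv : v ∈ omegaZ Q) (hc : t * v = v * t) : v ∈ omegaZ T := by
  obtain ⟨F, _, _, _, ⟨D⟩⟩ := exists_dat h
  obtain ⟨ρ, hρ⟩ := D.exists_rho
  let _ : CommGroup (omegaZ Q) := CITFFLocal.omegaZComm Q
  have h1 := T1Module.fixed_sylow (V := omegaZ Q) (fun v => Subtype.ext v.2.2.1) ρ (D.fpf3 hρ)
    (by rw [hV, D.card]) D.U ((D.memU ⟨t, D.T_le_P ht⟩).2 ht) (D.ne_one ht htQ) (v := ⟨v, hv⟩)
    ((D.fix_iff hρ _ _).2 hc)
  refine ⟨Q_le_T h hv.1, hv.2.1, fun y hy => ?_⟩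
  have h2 := h1 _ ((D.memU ⟨y, D.T_le_P hy⟩).2 hy)
  exact ((D.fix_iff hρ _ _).1 h2).symm

theorem ne_bot_of_card (h : LType P Q T q) (hV : Nat.card (omegaZ Q) = q ^ 2) : Q ≠ ⊥ := by
  rintro rfl
  have h1 : omegaZ (⊥ : Subgroup G) = ⊥ := le_bot_iff.1 fun x hx => hx.1
  rw [h1, Subgroup.card_bot] at hV
  have := two_le h
  nlinarith

theorem nat_card (h : LType P Q T q) (hV : Nat.card (omegaZ Q) = q ^ 2) : Nat.card (omegaZ T) = q := by
  obtain ⟨t, ht, htQ⟩ := exists_not_mem h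
  have h1 := card_CV h ht htQ
  have h2 : omegaZ Q ⊓ Subgroup.centralizer {t} = omegaZ T := by
    apply le_antisymm
    · intro v hv
      exact nat_mem h hV ht htQ hv.1 (Subgroup.mem_centralizer_singleton_iff.1 hv.2).symm
    · intro v hv
      exact ⟨omegaZ_le h (ne_bot_of_card h hV) hv, Subgroup.mem_centralizer_singleton_iff.2 (hv.2.2 t ht)⟩
  rw [h2, hV] at h1
  exact Nat.pow_left_injective (n := 2) (by norm_num) h1

theorem nat_comm (h : LType P Q T q) (hV : Nat.card (omegaZ Q) = q ^ 2) :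
    ∀ t ∈ T, ∀ v ∈ omegaZ Q, t * v * t⁻¹ * v⁻¹ ∈ omegaZ T := by
  intro t ht v hv
  by_cases htQ : t ∈ Q
  · have h1 := hv.2.2 t htQ
    have h2 : t * v * t⁻¹ * v⁻¹ = 1 := by rw [← h1]; group
    rw [h2]
    exact Subgroup.one_mem _
  · have htP := h.syl.le ht
    have h1 : t * v * t⁻¹ ∈ omegaZ Q := CITFFAux.omegaZ_conj h.o2.normal t htP v hv
    have h2 : t * v * t⁻¹ * v⁻¹ ∈ omegaZ Q := Subgroup.mul_mem _ h1 (Subgroup.inv_mem _ hv)
    apply nat_mem h hV ht htQ h2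
    -- `t` commutes with `[t, v]`
    have h3 := hv.2.2 _ (sq_mem h t ht)
    have h4 : v⁻¹ = v := inv_eq_of_mul_eq_one_left hv.2.1
    have h5 : t * (t * v * t⁻¹ * v⁻¹) = v * t * v := by
      calc t * (t * v * t⁻¹ * v⁻¹) = (t * t * v) * t⁻¹ * v⁻¹ := by group
        _ = (v * (t * t)) * t⁻¹ * v⁻¹ := by rw [h3]
        _ = v * t * v⁻¹ := by group
        _ = v * t * v := by rw [h4]
    have h6 : t * v * t⁻¹ * v⁻¹ * t = v * t * v := by
      have h7 := h1.2.2 v hv.1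
      calc t * v * t⁻¹ * v⁻¹ * t = (t * v * t⁻¹ * v) * t := by rw [h4]
        _ = (v * (t * v * t⁻¹)) * t := by rw [h7]
        _ = v * t * v := by group
    rw [h5, h6]

section Trans

variable {F : Type} [Field F] [Fintype F] [CharP F 2] {V : Type*} [CommGroup V] [Finite V]

/-- only `1` is fixed by two different Sylow subgroups -/
theorem fixed_two (ρ : SL F →* MulAut V) (h3 : ∀ x, orderOf x = 3 → ∀ v, ρ x v = v → v = 1)
    {U U' : Sylow 2 (SL F)} (hne : U ≠ U') {w : SL F} (hw : w * w = 1) (hw1 : w ≠ 1) {d : V}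
    (h1 : ∀ b ∈ (U : Subgroup (SL F)), ρ b d = d) (h2 : ∀ b ∈ (U' : Subgroup (SL F)), ρ b d = d) : d = 1 := by
  let _ : MulAction (SL F) V := MulAction.compHom V ρ
  have h4 : (U : Subgroup (SL F)) ⊔ (U' : Subgroup (SL F)) ≤ MulAction.stabilizer (SL F) d :=
    sup_le (fun b hb => h1 b hb) (fun b hb => h2 b hb)
  rw [T1Sl2.sylow_sup hne] at h4
  obtain ⟨x, hx, -⟩ := T1Sl2.inverts_three hw hw1
  exact h3 x hx d (h4 (Subgroup.mem_top x))

omit [CharP F 2] in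
theorem three_not_sylow (U : Sylow 2 (SL F)) {x : SL F} (hx : x ∈ (U : Subgroup (SL F))) (h3 : orderOf x = 3) :
    False := three_not_two U.2 hx h3

theorem exists_ne (U : Sylow 2 (SL F)) : ∃ w : SL F, w * w = 1 ∧ w ≠ 1 ∧ w ∈ (U : Subgroup (SL F)) ∧
    ∃ U' : Sylow 2 (SL F), U ≠ U' := by
  have hU1 : (U : Subgroup (SL F)) ≠ ⊥ := by
    intro h
    have h1 := T1Sl2.card_sylow U
    have h2 : Nat.card U = Nat.card (⊥ : Subgroup (SL F)) := by rw [← h]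
    rw [h2, Subgroup.card_bot] at h1
    exact absurd h1.symm (Fintype.one_lt_card).ne'
  obtain ⟨⟨u, hu⟩, hu1⟩ := Subgroup.ne_bot_iff_exists_ne_one.1 hU1
  have hu1' : u ≠ 1 := fun h => hu1 (Subtype.ext h)
  have hu2 := T1Sl2.sylow_elem U u hu
  obtain ⟨x, hx, hxu⟩ := T1Sl2.inverts_three hu2 hu1'
  refine ⟨u, hu2, hu1', hu, x • U, fun h => ?_⟩
  have h1 := (smul_eq_iff U x).1 h.symm u⁻¹ (inv_mem hu)
  have h2 := mul_mem (inv_mem hu) (mul_mem hu h1)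
  have h4 : u⁻¹ * (u * (x * u⁻¹ * x⁻¹)) = u⁻¹ * ((u * x * u⁻¹) * x⁻¹) := by group
  have h5 := mul_mem hu h2
  rw [h4, mul_inv_cancel_left, hxu] at h5
  refine three_not_sylow U (inv_mem h5) ?_
  rw [mul_inv_rev, inv_inv, ← sq, orderOf_pow' x (by norm_num), hx]
  rfl

theorem stab_eq (hV : ∀ v : V, v * v = 1) (ρ : SL F →* MulAut V)
    (h3 : ∀ x, orderOf x = 3 → ∀ v, ρ x v = v → v = 1) (hq : Nat.card V = Fintype.card F ^ 2)
    (U : Sylow 2 (SL F)) {v : V} (hv1 : v ≠ 1) (hv : ∀ b ∈ (U : Subgroup (SL F)), ρ b v = v) {s : SL F}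
    (hs : ρ s v = v) : s ∈ (U : Subgroup (SL F)) := by
  obtain ⟨u, hu2, hu1, hu, U', hU'⟩ := exists_ne U
  let _ : MulAction (SL F) V := MulAction.compHom V ρ
  have hUK : (U : Subgroup (SL F)) ≤ MulAction.stabilizer (SL F) v := fun b hb => hv b hb
  rcases T1Sl2.le_normalizer_or U _ hUK with h4 | h4
  swap
  · obtain ⟨x, hx, -⟩ := T1Sl2.inverts_three hu2 hu1
    have h5 : x ∈ MulAction.stabilizer (SL F) v := by rw [h4]; trivial
    exact absurd (h3 x hx v h5) hv1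
  obtain ⟨K, -, -, hK, hfac, -⟩ := T1Sl2.exists_torus hU'
  obtain ⟨a, ha, k, hk, rfl⟩ := hfac s (h4 hs)
  have hk1 : k = 1 := by
    by_contra hk1
    have hkU := (hK k).1 hk
    obtain ⟨w, w', hw, hw', hw1, hw1', rfl, hwU, hwU', hw'U, hw'U', W, W', hwW, hwW', hWW⟩ :=
      T1Sl2.torus hU' (Sylow.smul_eq_iff_mem_normalizer.2 hkU.1) (Sylow.smul_eq_iff_mem_normalizer.2 hkU.2) hk1
    have h5 : ρ (w * w') v = v := by
      have h6 : ρ a⁻¹ v = v := hv _ (inv_mem ha)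
      have h7 : ρ (w * w') v = ρ a⁻¹ (ρ (a * (w * w')) v) := by
        rw [← MulAut.mul_apply, ← map_mul, inv_mul_cancel_left]
      rw [h7, hs, h6]
    have h6 : ρ w (ρ w v) = v := by rw [← MulAut.mul_apply, ← map_mul, hw, map_one]; rfl
    have h6' : ρ w' (ρ w' v) = v := by rw [← MulAut.mul_apply, ← map_mul, hw', map_one]; rfl
    have h7 : ρ w' v = ρ w v := by
      rw [map_mul, MulAut.mul_apply] at h5
      have h8 := congrArg (ρ w) h5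
      rw [← MulAut.mul_apply, ← map_mul, hw, map_one] at h8
      exact h8
    have h8 : ρ w (v * ρ w v) = v * ρ w v := by rw [map_mul, h6, mul_comm]
    have h9 : ρ w' (v * ρ w v) = v * ρ w v := by
      rw [map_mul, ← h7, h6', mul_comm]
    have h10 := T1Module.fixed_sylow hV ρ h3 hq W hwW hw1 h8
    have h11 := T1Module.fixed_sylow hV ρ h3 hq W' hwW' hw1' h9
    have h12 := fixed_two ρ h3 hWW hw hw1 h10 h11
    have h13 : ρ w v = v := by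
      rw [mul_eq_one_iff_inv_eq] at h12
      rw [← h12]
      exact inv_eq_of_mul_eq_one_left (hV v)
    refine hv1 (fixed_two ρ h3 hU' hw hw1 hv ?_)
    intro b hb
    rw [← hwU, mem_smul_sylow] at hb
    have h14 := hv _ hb
    rw [map_mul, map_mul, MulAut.mul_apply, MulAut.mul_apply, h13] at h14
    have h15 : w⁻¹ = w := inv_eq_of_mul_eq_one_left hw
    rw [h15] at h14
    have h16 := congrArg (ρ w) h14
    rw [← MulAut.mul_apply, ← map_mul, hw, map_one, h13] at h16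
    exact h16
  rw [hk1, mul_one]
  exact ha

theorem trans (hV : ∀ v : V, v * v = 1) (ρ : SL F →* MulAut V)
    (h3 : ∀ x, orderOf x = 3 → ∀ v, ρ x v = v → v = 1) (hq : Nat.card V = Fintype.card F ^ 2)
    (U : Sylow 2 (SL F)) {v : V} (hv1 : v ≠ 1) (hv : ∀ b ∈ (U : Subgroup (SL F)), ρ b v = v) {w : V} (hw : w ≠ 1) :
    ∃ s, ρ s v = w := by
  let _ : MulAction (SL F) V := MulAction.compHom V ρ
  have h1 : MulAction.stabilizer (SL F) v = (U : Subgroup (SL F)) := by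
    ext s
    exact ⟨fun hs => stab_eq hV ρ h3 hq U hv1 hv hs, fun hs => hv s hs⟩
  have h2 := MulAction.index_stabilizer (SL F) v
  have h3' := Subgroup.card_mul_index (MulAction.stabilizer (SL F) v)
  rw [h2, h1] at h3'
  have h4 : Nat.card (U : Subgroup (SL F)) = Fintype.card F := T1Sl2.card_sylow U
  rw [h4, T1Sl2.card_sl2] at h3'
  have h5 : 1 < Fintype.card F := Fintype.one_lt_card
  obtain ⟨n, hn⟩ := Nat.exists_eq_add_of_lt h5
  have h6 : (MulAction.orbit (SL F) v).ncard + 1 = Fintype.card F ^ 2 := by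
    rw [hn] at h3' ⊢
    have h7 : (1 + n + 1) * (MulAction.orbit (SL F) v).ncard = (1 + n + 1) * ((1 + n + 1 + 1) * (1 + n)) := by
      rw [h3']
      simp only [Nat.add_sub_cancel]
      ring
    have h8 := Nat.eq_of_mul_eq_mul_left (by omega) h7
    rw [h8]
    ring
  have h7 : MulAction.orbit (SL F) v ⊆ {1}ᶜ := by
    rintro _ ⟨s, rfl⟩ hs
    apply hv1
    have h8 : ρ s v = 1 := hs
    exact (map_eq_one_iff (ρ s) (ρ s).injective).1 h8
  have h8 : MulAction.orbit (SL F) v = {1}ᶜ := by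
    apply Set.eq_of_subset_of_ncard_le h7
    have h9 := Set.ncard_add_ncard_compl ({1} : Set V)
    rw [Set.ncard_singleton, hq] at h9
    omega
  have h9 : w ∈ MulAction.orbit (SL F) v := by rw [h8]; exact hw
  obtain ⟨s, hs⟩ := h9
  exact ⟨s, hs⟩

end Trans

/-- `P` is transitive on `V#` in the natural case -/
theorem nat_trans (h : LType P Q T q) (hV : Nat.card (omegaZ Q) = q ^ 2) :
    ∀ v ∈ omegaZ Q, v ≠ 1 → ∀ w ∈ omegaZ Q, w ≠ 1 → ∃ g ∈ P, g * v * g⁻¹ = w := by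
  obtain ⟨F, _, _, _, ⟨D⟩⟩ := exists_dat h
  obtain ⟨ρ, hρ⟩ := D.exists_rho
  have hT1 : omegaZ T ≠ ⊥ := by
    intro h1
    have h2 := nat_card h hV
    rw [h1, Subgroup.card_bot] at h2
    have := two_le h
    omega
  obtain ⟨⟨c, hc⟩, hc1⟩ := Subgroup.ne_bot_iff_exists_ne_one.1 hT1
  have hcQ : c ∈ omegaZ Q := omegaZ_le h (ne_bot_of_card h hV) hc
  have key : ∀ v ∈ omegaZ Q, v ≠ 1 → ∃ g ∈ P, g * c * g⁻¹ = v := by
    intro v hv hv1
    let _ : CommGroup (omegaZ Q) := CITFFLocal.omegaZComm Q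
    obtain ⟨s, hs⟩ := trans (V := omegaZ Q) (fun v => Subtype.ext v.2.2.1) ρ (D.fpf3 hρ)
      (by rw [hV, D.card]) D.U (v := ⟨c, hcQ⟩) (fun h1 => hc1 (Subtype.ext (show c = 1 from congrArg (fun x : omegaZ Q => (x : G)) h1)))
      (fun b hb => by
        obtain ⟨x, rfl⟩ := D.surj b
        rw [D.fix_iff hρ]
        exact (hc.2.2 _ ((D.memU x).1 hb)).symm) (w := ⟨v, hv⟩) (fun h1 => hv1 (congrArg Subtype.val h1))
    obtain ⟨x, rfl⟩ := D.surj s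
    refine ⟨x, x.2, ?_⟩
    have h1 := congrArg Subtype.val hs
    rw [hρ] at h1
    exact h1
  intro v hv hv1 w hw hw1
  obtain ⟨g, hg, hgv⟩ := key v hv hv1
  obtain ⟨k, hk, hkw⟩ := key w hw hw1
  refine ⟨k * g⁻¹, P.mul_mem hk (P.inv_mem hg), ?_⟩
  rw [← hgv, ← hkw]
  group

theorem pair_aux {P' Q' T' : Subgroup G} {q' : ℕ} (h : LType P Q T q) (_h' : LType P' Q' T' q')
    (h1 : omegaZ Q' ≤ T) {v w : G} (hv : v ∈ omegaZ Q) (hw : w ∈ omegaZ Q') (hvw : v * w ≠ w * v) :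
    w ∉ Q ∧ q ^ 2 ≤ Nat.card (omegaZ Q) ∧ Nat.card (omegaZ Q') ≤ q * Nat.card (omegaZ Q' ⊓ Q : Subgroup G) ∧
      Nat.card (omegaZ Q ⊓ Q' : Subgroup G) ^ 2 ≤ Nat.card (omegaZ Q) := by
  have hwQ : w ∉ Q := fun hwQ => hvw (hv.2.2 w hwQ)
  refine ⟨hwQ, ?_, ?_, ?_⟩
  · obtain ⟨j, hj⟩ := card_V h
    rw [hj]
    apply Nat.pow_le_pow_right (by have := two_le h; omega)
    rcases Nat.eq_zero_or_pos j with rfl | hj0
    · rw [mul_zero, pow_zero] at hj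
      have h2 : omegaZ Q = ⊥ := Subgroup.eq_bot_of_card_eq _ hj
      rw [h2, Subgroup.mem_bot] at hv
      exact absurd (by rw [hv, one_mul, mul_one]) hvw
    · omega
  · have h2 := CITFFLocal.card_mul_card_le h1 (Q_le_T h)
    rw [card_T h] at h2
    have h3 : 0 < Nat.card Q := Nat.card_pos
    have h4 : Nat.card Q * Nat.card (omegaZ Q') ≤ Nat.card Q * (q * Nat.card (omegaZ Q' ⊓ Q : Subgroup G)) := by
      calc _ = Nat.card (omegaZ Q') * Nat.card Q := mul_comm _ _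
        _ ≤ _ := h2
        _ = _ := by ring
    exact Nat.le_of_mul_le_mul_left h4 h3
  · rw [← card_CV h (h1 hw) hwQ]
    apply Nat.pow_le_pow_left
    apply Subgroup.card_le_of_le
    intro x hx
    exact ⟨hx.1, Subgroup.mem_centralizer_singleton_iff.2 (hw.2.2 x hx.2).symm⟩

theorem pair_arith {q q' a b c d : ℕ} (hq : 2 ≤ q) (hq' : 2 ≤ q') (h1 : q ^ 2 ≤ a) (h2 : b ≤ q * d) (h3 : c ^ 2 ≤ a)
    (h1' : q' ^ 2 ≤ b) (h2' : a ≤ q' * c) (h3' : d ^ 2 ≤ b) : q' = q ∧ a = q ^ 2 ∧ b = q ^ 2 ∧ c = q ∧ d = q := by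
  have ha : a ≤ q' ^ 2 := by
    have h4 : a ^ 2 ≤ q' ^ 2 * a := by
      calc a ^ 2 ≤ (q' * c) ^ 2 := Nat.pow_le_pow_left h2' 2
        _ = q' ^ 2 * c ^ 2 := by ring
        _ ≤ q' ^ 2 * a := by gcongr
    have h5 : 0 < a := by nlinarith
    nlinarith
  have hb : b ≤ q ^ 2 := by
    have h4 : b ^ 2 ≤ q ^ 2 * b := by
      calc b ^ 2 ≤ (q * d) ^ 2 := Nat.pow_le_pow_left h2 2
        _ = q ^ 2 * d ^ 2 := by ring
        _ ≤ q ^ 2 * b := by gcongr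
    have h5 : 0 < b := by nlinarith
    nlinarith
  have h6 : q' ≤ q := by
    have : q' ^ 2 ≤ q ^ 2 := h1'.trans hb
    exact (Nat.pow_le_pow_iff_left (by norm_num)).1 this
  have h7 : q ≤ q' := by
    have : q ^ 2 ≤ q' ^ 2 := h1.trans ha
    exact (Nat.pow_le_pow_iff_left (by norm_num)).1 this
  obtain rfl : q' = q := le_antisymm h6 h7
  have ha' : a = q' ^ 2 := le_antisymm ha h1
  have hb' : b = q' ^ 2 := le_antisymm hb h1'
  refine ⟨rfl, ha', hb', ?_, ?_⟩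
  · apply le_antisymm
    · exact (Nat.pow_le_pow_iff_left (n := 2) (by norm_num)).1 (by rw [← ha']; exact h3)
    · rw [ha', sq] at h2'
      exact Nat.le_of_mul_le_mul_left h2' (by omega)
  · apply le_antisymm
    · exact (Nat.pow_le_pow_iff_left (n := 2) (by norm_num)).1 (by rw [← hb']; exact h3')
    · rw [hb', sq] at h2
      exact Nat.le_of_mul_le_mul_left h2 (by omega)

theorem pair_half {P' Q' T' : Subgroup G} (h : LType P Q T q) (h' : LType P' Q' T' q)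
    (h1 : omegaZ Q' ≤ T) (h2 : omegaZ Q ≤ T') {w : G} (hw : w ∈ omegaZ Q') (hwQ : w ∉ Q)
    (ha : Nat.card (omegaZ Q) = q ^ 2) (hb : Nat.card (omegaZ Q') = q ^ 2)
    (hc : Nat.card (omegaZ Q ⊓ Q' : Subgroup G) = q) (hd : Nat.card (omegaZ Q' ⊓ Q : Subgroup G) = q) :
    T = omegaZ Q' ⊔ Q ∧ omegaZ Q ⊓ Q' = omegaZ T ∧ omegaZ Q ⊓ omegaZ Q' = omegaZ T := by
  have h3 : omegaZ Q ⊓ Q' = omegaZ T := by
    apply Subgroup.eq_of_le_of_card_ge
    · intro x hx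
      exact nat_mem h ha (h1 hw) hwQ hx.1 (hw.2.2 x hx.2)
    · rw [hc, nat_card h ha]
  refine ⟨?_, h3, ?_⟩
  · symm
    apply Subgroup.eq_of_le_of_card_ge (sup_le h1 (Q_le_T h))
    have h4 := CITFFLocal.card_mul_card_le (le_sup_left : omegaZ Q' ≤ omegaZ Q' ⊔ Q) (le_sup_right : Q ≤ omegaZ Q' ⊔ Q)
    rw [hb, hd] at h4
    rw [card_T h]
    have h5 := two_le h
    have h6 : q * (q * Nat.card Q) ≤ q * Nat.card (omegaZ Q' ⊔ Q : Subgroup G) := by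
      calc q * (q * Nat.card Q) = q ^ 2 * Nat.card Q := by ring
        _ ≤ _ := h4
        _ = _ := mul_comm _ _
    exact Nat.le_of_mul_le_mul_left h6 (by omega)
  · apply le_antisymm
    · rw [← h3]
      exact inf_le_inf_left _ (fun x hx => hx.1)
    · intro c hc'
      refine ⟨omegaZ_le h (ne_bot_of_card h ha) hc', ?_⟩
      obtain ⟨u, hu, rfl⟩ := eq_commutator h (h1 hw) hwQ (omegaZ_le h (ne_bot_of_card h ha) hc')
        (hc'.2.2 w (h1 hw)).symm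
      have h4 : u * w⁻¹ * u⁻¹ ∈ omegaZ Q' := CITFFAux.omegaZ_conj h'.o2.normal u (h'.syl.le (h2 hu)) _
        (Subgroup.inv_mem _ hw)
      have h5 := Subgroup.mul_mem _ hw h4
      have h6 : w * u * w⁻¹ * u⁻¹ = w * (u * w⁻¹ * u⁻¹) := by group
      rwa [h6]

/-- the inequality chain of 3.2 and 4.3 -/
theorem pair_natural {P' Q' T' : Subgroup G} {q' : ℕ} (h : LType P Q T q) (h' : LType P' Q' T' q')
    (h1 : omegaZ Q' ≤ T) (h2 : omegaZ Q ≤ T') (hne : ¬ ∀ v ∈ omegaZ Q, ∀ w ∈ omegaZ Q', v * w = w * v) :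
    q' = q ∧ Nat.card (omegaZ Q) = q ^ 2 ∧ Nat.card (omegaZ Q') = q ^ 2 ∧ T = omegaZ Q' ⊔ Q ∧ T' = omegaZ Q ⊔ Q' ∧
      omegaZ T = omegaZ T' ∧ omegaZ Q ⊓ omegaZ Q' = omegaZ T ∧ omegaZ Q ⊓ Q' = omegaZ T ∧
      omegaZ Q' ⊓ Q = omegaZ T := by
  push Not at hne
  obtain ⟨v, hv, w, hw, hvw⟩ := hne
  obtain ⟨hwQ, h3, h4, h5⟩ := pair_aux h h' h1 hv hw hvw
  obtain ⟨hvQ, h3', h4', h5'⟩ := pair_aux h' h h2 hw hv hvw.symm
  obtain ⟨rfl, ha, hb, hc, hd⟩ := pair_arith (two_le h) (two_le h') h3 h4 h5 h3' h4' h5'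
  obtain ⟨e1, e2, e3⟩ := pair_half h h' h1 h2 hw hwQ ha hb hc hd
  obtain ⟨f1, f2, f3⟩ := pair_half h' h h2 h1 hv hvQ hb ha hd hc
  have e4 : omegaZ T = omegaZ T' := by rw [← e3, ← f3, inf_comm]
  exact ⟨rfl, ha, hb, e1, f1, e4, e3, e2, f2.trans e4.symm⟩

end Cfsg.Agent.OddCyclic.T1Local
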