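import Mathlib
import Cfsg.Agent.OddCyclic.T1Defs
import Cfsg.Agent.OddCyclic.T1Local
import Cfsg.Agent.Lib.SylowNormalInf
import Cfsg.Agent.OddOrderLocal.CyclicSub
import Cfsg.Agent.LieExceptional.CITTorus

/-!
# S0342, no elements of order 6, Case I: the torus argument

3.3 of `blueprints/S0342-T0eq1.md`: in the pair case `q ∈ {2, 4}` and `Mᵢ = Pᵢ`.
-/

set_option autoImplicit false
universe u

namespace Cfsg.Agent.OddCyclic.T1Torus

open Cfsg.Agent.LieExceptional Cfsg.Agent.LieExceptional.CITDefs Cfsg.Agent.OddCyclic.T1Defs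
open Cfsg.Agent.LieExceptional.CITPlaneCount Cfsg.Agent.LieExceptional.CITTorus

variable {G : Type u} [Group G]

theorem Pair.symm {M₁ M₂ P₁ P₂ V₁ V₂ T : Subgroup G} {q : ℕ} (h : Pair M₁ M₂ P₁ P₂ V₁ V₂ T q) :
    Pair M₂ M₁ P₂ P₁ V₂ V₁ T q where
  t₁ := h.t₂
  t₂ := h.t₁
  max₁ := h.max₂
  max₂ := h.max₁
  ne := h.ne.symm
  elem₁ := h.elem₂
  elem₂ := h.elem₁
  card_V₁ := h.card_V₂
  card_V₂ := h.card_V₁
  card_C := h.card_C
  sup := by rw [h.sup, sup_comm]
  inf := by rw [inf_comm]; exact h.inf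
  card := h.card
  elem := fun A hA hAe => (h.elem A hA hAe).symm
  cent₁ := h.cent₂
  cent₂ := h.cent₁

/-- `O₂(M) ≠ 1` for a maximal local subgroup -/
theorem o2_ne_bot {M Q : Subgroup G} (hM : IsMaxLocal M) (hQ : IsO2 M Q) : Q ≠ ⊥ := by
  obtain ⟨X, hX1, hX⟩ := hM.1
  rintro rfl
  exact hX1 (le_bot_iff.1 (hQ.max X hX.le hX.two hX.normal))

theorem exists_mul {A Q M T : Subgroup G} (hQ : IsO2 M Q) (hA : A ≤ M) (hT : T = A ⊔ Q) :
    ∀ t ∈ T, ∃ v ∈ A, ∃ x ∈ Q, t = v * x := by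
  intro t ht
  have ht' : t ∈ ((A ⊔ Q : Subgroup G) : Set G) := by rw [← hT]; exact ht
  rw [Subgroup.coe_mul_of_left_le_normalizer_right A Q
    (hA.trans (CITNonCommute.le_normalizer_of_forall hQ.normal))] at ht'
  obtain ⟨v, hv, x, hx, rfl⟩ := Set.mem_mul.1 ht'
  exact ⟨v, hv, x, hx, rfl⟩

/-- one-sided invariance of a finite subgroup gives equality of the conjugate -/
theorem cj_eq_of_forall [Finite G] {T : Subgroup G} {m : G} (h : ∀ t ∈ T, m * t * m⁻¹ ∈ T) : cj m T = T := by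
  have h1 : cj m T ≤ T := by
    intro x hx
    rw [mem_cj] at hx
    have := h _ hx
    have e : m * (m⁻¹ * x * m) * m⁻¹ = x := by group
    rwa [e] at this
  exact Subgroup.eq_of_le_of_card_ge h1 (by rw [card_cj])

theorem conj_ne_one {m v : G} (hv : v ≠ 1) : m * v * m⁻¹ ≠ 1 := by
  intro h
  apply hv
  calc v = m⁻¹ * (m * v * m⁻¹) * m := by group
    _ = 1 := by rw [h]; group

theorem conj_mem_of_cj_eq {T : Subgroup G} {m : G} (h : cj m T = T) : ∀ t ∈ T, m * t * m⁻¹ ∈ T := by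
  intro t ht
  have := conj_mem_cj (a := m) ht
  rwa [h] at this

theorem conj_omegaZ [Finite G] {T : Subgroup G} {m : G} (h : ∀ t ∈ T, m * t * m⁻¹ ∈ T) :
    ∀ v ∈ omegaZ T, m * v * m⁻¹ ∈ omegaZ T := by
  intro v hv
  obtain ⟨hvQ, hv2, hvc⟩ := mem_omegaZ.1 hv
  refine mem_omegaZ.2 ⟨h v hvQ, ?_, fun y hy => ?_⟩
  · calc m * v * m⁻¹ * (m * v * m⁻¹) = m * (v * v) * m⁻¹ := by group
      _ = 1 := by rw [hv2]; group
  · have h1 : m⁻¹ * y * m ∈ T := by
      rw [← mem_cj, cj_eq_of_forall h]; exact hy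
    have h2 := hvc _ h1
    calc m * v * m⁻¹ * y = m * (v * (m⁻¹ * y * m)) * m⁻¹ := by group
      _ = m * ((m⁻¹ * y * m) * v) * m⁻¹ := by rw [h2]
      _ = y * (m * v * m⁻¹) := by group

/-- orbit counting: a transitive action on `V#` bounds the centraliser of `z` -/
theorem centralizer_le [Finite G] {P V T : Subgroup G} {q : ℕ} (hq2 : 2 ≤ q) (hTP : T ≤ P)
    (hcV : Nat.card V = q ^ 2) (hcP : Nat.card P = (q + 1) * q * (q - 1) * Nat.card V)
    (hcT : Nat.card T = q ^ 3) (htr : ∀ v ∈ V, v ≠ 1 → ∀ w ∈ V, w ≠ 1 → ∃ g ∈ P, g * v * g⁻¹ = w)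
    {z : G} (hz : z ∈ V) (hz1 : z ≠ 1) (hzT : ∀ t ∈ T, z * t = t * z) :
    ∀ m ∈ P, m * z = z * m → m ∈ T := by
  classical
  let D : Subgroup G := P ⊓ Subgroup.centralizer ({z} : Set G)
  have hDP : D ≤ P := inf_le_left
  have hTD : T ≤ D := fun t ht => ⟨hTP ht, Subgroup.mem_centralizer_singleton_iff.2 (hzT t ht).symm⟩
  choose g hgP hg using fun (v : V) (hv : v ≠ 1) => htr z hz hz1 v v.2 (fun h0 => hv (Subtype.ext h0))
  let F : V → Option (P ⧸ D.subgroupOf P) := fun v =>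
    if hv : v = 1 then none else some (QuotientGroup.mk ⟨g v hv, hgP v hv⟩)
  have hF : Function.Injective F := by
    intro v w hvw
    by_cases hv : v = 1
    · by_cases hw : w = 1
      · exact hv.trans hw.symm
      · simp [F, hv, hw] at hvw
    · by_cases hw : w = 1
      · simp [F, hv, hw] at hvw
      · simp only [F, hv, hw, dif_neg, not_false_eq_true, Option.some.injEq, QuotientGroup.eq] at hvw
        rw [Subgroup.mem_subgroupOf] at hvw
        have h1 : (g v hv)⁻¹ * g w hw * z = z * ((g v hv)⁻¹ * g w hw) :=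
          Subgroup.mem_centralizer_singleton_iff.1 hvw.2
        apply Subtype.ext
        rw [← hg v hv, ← hg w hw]
        calc g v hv * z * (g v hv)⁻¹ = g v hv * (z * ((g v hv)⁻¹ * g w hw)) * (g w hw)⁻¹ := by group
          _ = g v hv * ((g v hv)⁻¹ * g w hw * z) * (g w hw)⁻¹ := by rw [h1]
          _ = g w hw * z * (g w hw)⁻¹ := by group
  have h1 : Nat.card V ≤ Nat.card (Option (P ⧸ D.subgroupOf P)) := Nat.card_le_card_of_injective F hF
  rw [Finite.card_option] at h1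
  have h2 : Nat.card (D.subgroupOf P) * Nat.card (P ⧸ D.subgroupOf P) = Nat.card P :=
    (D.subgroupOf P).card_mul_index
  have h3 : Nat.card (D.subgroupOf P) = Nat.card D :=
    Nat.card_congr (Subgroup.subgroupOfEquivOfLe hDP).toEquiv
  have h4 : Nat.card D ≤ Nat.card T := by
    rw [h3, hcP, hcV] at h2
    rw [hcV] at h1
    rw [hcT]
    obtain ⟨k, rfl⟩ : ∃ k, q = k + 2 := ⟨q - 2, by omega⟩
    have e1 : k + 2 - 1 = k + 1 := by omega
    rw [e1] at h2
    set x := Nat.card D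
    set y := Nat.card (P ⧸ D.subgroupOf P)
    by_contra hcon
    push Not at hcon
    have h5 : (k + 2) ^ 2 - 1 ≤ y := by omega
    have h6 : (k + 2) ^ 2 - 1 = (k + 1) * (k + 3) := by
      have : (k + 2) ^ 2 = (k + 1) * (k + 3) + 1 := by ring
      omega
    rw [h6] at h5
    have h7 : ((k + 2) ^ 3 + 1) * ((k + 1) * (k + 3)) ≤ x * y := Nat.mul_le_mul hcon h5
    rw [h2] at h7
    have h8 : ((k + 2) ^ 3 + 1) * ((k + 1) * (k + 3)) =
        (k + 2 + 1) * (k + 2) * (k + 1) * (k + 2) ^ 2 + (k + 1) * (k + 3) := by ring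
    rw [h8] at h7
    have h9 : 0 < (k + 1) * (k + 3) := by positivity
    omega
  have h5 : T = D := Subgroup.eq_of_le_of_card_ge hTD h4
  intro m hm hmz
  rw [h5]
  exact ⟨hm, Subgroup.mem_centralizer_singleton_iff.2 hmz⟩

/-! ### General lemmas -/

theorem pow_unique {r a b x y : ℕ} (hr : r.Prime) (hx : ¬ r ∣ x) (hy : ¬ r ∣ y) (h : r ^ a * x = r ^ b * y) :
    a = b := by
  rcases lt_trichotomy a b with hab | hab | hab
  · exfalso
    obtain ⟨k, rfl⟩ := Nat.exists_eq_add_of_lt hab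
    apply hx
    have h1 : x = r ^ (k + 1) * y := by
      apply Nat.eq_of_mul_eq_mul_left (pow_pos hr.pos a)
      rw [h]; ring
    rw [h1]
    exact Dvd.dvd.mul_right (dvd_pow_self r (Nat.succ_ne_zero k)) y
  · exact hab
  · exfalso
    obtain ⟨k, rfl⟩ := Nat.exists_eq_add_of_lt hab
    apply hy
    have h1 : y = r ^ (k + 1) * x := by
      apply Nat.eq_of_mul_eq_mul_left (pow_pos hr.pos b)
      rw [← h]; ring
    rw [h1]
    exact Dvd.dvd.mul_right (dvd_pow_self r (Nat.succ_ne_zero k)) x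

open Cfsg.Agent.Lib.SylowNormalInf in
/-- two normal subgroups of the same order in a group with cyclic odd Sylow subgroups -/
theorem le_of_card_eq {B : Type*} [Group B] [Finite B] (N₁ N₂ : Subgroup B) [N₁.Normal] [N₂.Normal]
    (hcyc : OddCyc B) (h2 : ∀ S : Sylow 2 B, (S : Subgroup B) ⊓ N₁ ≤ N₂) (hcard : Nat.card N₁ = Nat.card N₂) :
    N₁ ≤ N₂ := by
  rw [← Subgroup.relIndex_eq_one]
  by_contra hne
  obtain ⟨r, hr, hrd⟩ := Nat.exists_prime_and_dvd hne
  haveI := Fact.mk hr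
  obtain ⟨S⟩ : Nonempty (Sylow r B) := inferInstance
  have hS : (S : Subgroup B) ⊓ N₁ ≤ N₂ := by
    by_cases h : r = 2
    · subst h; exact h2 S
    · have hc := hcyc r S hr h
      have e1 := card_inf_mul_relIndex (S : Subgroup B) N₁
      have e2 := card_inf_mul_relIndex (S : Subgroup B) N₂
      have hp1 : IsPGroup r ((S : Subgroup B) ⊓ N₁ : Subgroup B) := S.isPGroup'.to_le inf_le_left
      have hp2 : IsPGroup r ((S : Subgroup B) ⊓ N₂ : Subgroup B) := S.isPGroup'.to_le inf_le_left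
      obtain ⟨a, ha⟩ := IsPGroup.iff_card.1 hp1
      obtain ⟨b, hb⟩ := IsPGroup.iff_card.1 hp2
      rw [ha] at e1
      rw [hb] at e2
      have hab : a = b := pow_unique hr (not_dvd_relIndex S N₁) (not_dvd_relIndex S N₂) (by rw [e1, e2, hcard])
      have h3 : (S : Subgroup B) ⊓ N₁ = (S : Subgroup B) ⊓ N₂ :=
        Cfsg.Agent.OddOrderLocal.CyclicSub.eq_of_card_eq_of_le_cyclic hc inf_le_left inf_le_left
          (by rw [ha, hb, hab])
      rw [h3]
      exact inf_le_right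
  have h3 : N₂.relIndex N₁ ∣ (S : Subgroup B).relIndex N₁ := by
    rw [← Subgroup.inf_relIndex_right (S : Subgroup B) N₁]
    exact Subgroup.relIndex_dvd_of_le_left N₁ hS
  exact not_dvd_relIndex S N₁ (hrd.trans h3)

/-- subgroups inherit cyclic odd Sylow subgroups -/
theorem oddCyc_subgroup [Finite G] (h : OddCyc G) (B : Subgroup G) : OddCyc B := by
  intro p P hp h2
  have hP : IsPGroup p ((P : Subgroup B).map B.subtype) := P.isPGroup'.map _
  obtain ⟨R, hR⟩ := hP.exists_le_sylow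
  haveI := h p R hp h2
  have h3 : IsCyclic ((P : Subgroup B).map B.subtype) :=
    isCyclic_of_injective (Subgroup.inclusion hR) (Subgroup.inclusion_injective hR)
  exact isCyclic_of_surjective _
    ((P : Subgroup B).equivMapOfInjective B.subtype B.subtype_injective).symm.surjective

/-- an element of prime order at least 5 normalising a subgroup of order at most 4 centralises it -/
theorem comm_of_card_le_four [Finite G] {A : Subgroup G} {d : G} {r : ℕ} (hr : r.Prime) (h5 : 5 ≤ r)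
    (hd : orderOf d = r) (hn : ∀ x ∈ A, d * x * d⁻¹ ∈ A) (hA : Nat.card A ≤ 4) : ∀ x ∈ A, d * x = x * d := by
  intro x hx
  have hn' : ∀ i : ℕ, d ^ i * x * (d ^ i)⁻¹ ∈ A := by
    intro i
    induction i with
    | zero => simpa using hx
    | succ n ih =>
      have := hn _ ih
      have e : d ^ (n + 1) * x * (d ^ (n + 1))⁻¹ = d * (d ^ n * x * (d ^ n)⁻¹) * d⁻¹ := by
        rw [pow_succ']; group
      rw [e]; exact this
  let F : Fin 5 → A := fun i => ⟨_, hn' i⟩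
  have hF : ¬ Function.Injective F := by
    intro hinj
    have := Nat.card_le_card_of_injective F hinj
    rw [Nat.card_eq_fintype_card, Fintype.card_fin] at this
    omega
  have key : ∀ i j : ℕ, i < j → j < 5 → d ^ i * x * (d ^ i)⁻¹ = d ^ j * x * (d ^ j)⁻¹ → d * x = x * d := by
    intro i j hij hj he
    obtain ⟨k, rfl⟩ := Nat.exists_eq_add_of_lt hij
    have h1 : Commute (d ^ (k + 1)) x := by
      have h2 : d ^ (i + k + 1) = d ^ i * d ^ (k + 1) := by rw [← pow_add, add_assoc]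
      rw [h2] at he
      have h3 : d ^ i * x * (d ^ i)⁻¹ = d ^ i * (d ^ (k + 1) * x * (d ^ (k + 1))⁻¹) * (d ^ i)⁻¹ := by
        rw [he]; group
      have h4 := mul_left_cancel (mul_right_cancel h3)
      change d ^ (k + 1) * x = x * d ^ (k + 1)
      conv_rhs => rw [h4]
      group
    have h2 : Nat.Coprime (k + 1) (orderOf d) := by
      rw [hd]
      refine Nat.Coprime.symm ((Nat.Prime.coprime_iff_not_dvd hr).2 fun h0 => ?_)
      have := Nat.le_of_dvd (Nat.succ_pos k) h0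
      omega
    obtain ⟨m, hm⟩ := exists_pow_eq_self_of_coprime h2
    have h3 := h1.pow_left m
    rw [hm] at h3
    exact h3
  rw [Function.Injective] at hF
  push Not at hF
  obtain ⟨i, j, he, hne⟩ := hF
  have he' : d ^ (i : ℕ) * x * (d ^ (i : ℕ))⁻¹ = d ^ (j : ℕ) * x * (d ^ (j : ℕ))⁻¹ := congrArg Subtype.val he
  rcases lt_trichotomy (i : ℕ) (j : ℕ) with hij | hij | hij
  · exact key i j hij j.2 he'
  · exact absurd (Fin.ext hij) hne
  · exact key j i hij i.2 he'.symm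

/-- `d` of prime order `r ≥ 5`, normalising an elementary abelian `V` and centralising `C ≤ V` with `|V| ≤ 4|C|`,
centralises `V` -/
theorem comm_of_index_le_four [Finite G] {V C : Subgroup G} {d : G} {r : ℕ} (hr : r.Prime) (h5 : 5 ≤ r)
    (hd : orderOf d = r) (hV : Elem V) (hn : ∀ x ∈ V, d * x * d⁻¹ ∈ V) (hCV : C ≤ V)
    (hC : ∀ x ∈ C, d * x = x * d) (hcard : Nat.card V ≤ Nat.card C * 4) : ∀ x ∈ V, d * x = x * d := by
  let f : V →* V :=
    { toFun := fun x => ⟨d * x * d⁻¹ * (x : G)⁻¹, V.mul_mem (hn x x.2) (V.inv_mem x.2)⟩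
      map_one' := by apply Subtype.ext; simp
      map_mul' := by
        intro x y
        apply Subtype.ext
        change d * ((x : G) * y) * d⁻¹ * ((x : G) * y)⁻¹ = d * x * d⁻¹ * (x : G)⁻¹ * (d * y * d⁻¹ * (y : G)⁻¹)
        have h1 : (x : G)⁻¹ * (d * y * d⁻¹ * (y : G)⁻¹) = (d * y * d⁻¹ * (y : G)⁻¹) * (x : G)⁻¹ :=
          hV.comm (V.inv_mem x.2) (V.mul_mem (hn y y.2) (V.inv_mem y.2))
        calc d * ((x : G) * y) * d⁻¹ * ((x : G) * y)⁻¹
            = d * x * d⁻¹ * ((d * y * d⁻¹ * (y : G)⁻¹) * (x : G)⁻¹) := by group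
          _ = d * x * d⁻¹ * (x : G)⁻¹ * (d * y * d⁻¹ * (y : G)⁻¹) := by rw [← h1]; group }
  let R : Subgroup G := f.range.map V.subtype
  have hR : ∀ y ∈ R, ∃ x ∈ V, y = d * x * d⁻¹ * x⁻¹ := by
    rintro _ ⟨_, ⟨x, rfl⟩, rfl⟩
    exact ⟨x, x.2, rfl⟩
  have hR' : ∀ x ∈ V, d * x * d⁻¹ * x⁻¹ ∈ R := fun x hx => ⟨f ⟨x, hx⟩, ⟨⟨x, hx⟩, rfl⟩, rfl⟩
  have hcR : Nat.card R ≤ 4 := by
    have h1 : Nat.card R = Nat.card f.range :=
      (Nat.card_congr (f.range.equivMapOfInjective V.subtype V.subtype_injective).toEquiv).symm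
    have h2 : Nat.card f.ker * Nat.card f.range = Nat.card V := by
      have := f.ker.card_mul_index
      rwa [Subgroup.index_ker] at this
    have h3 : Nat.card C ≤ Nat.card f.ker := by
      refine Nat.card_le_card_of_injective
        (fun x : C => (⟨⟨x, hCV x.2⟩, ?_⟩ : f.ker)) ?_
      · rw [MonoidHom.mem_ker]
        apply Subtype.ext
        change d * (x : G) * d⁻¹ * (x : G)⁻¹ = 1
        rw [hC x x.2]; group
      · intro x y hxy
        have := congrArg (fun z : f.ker => ((z : V) : G)) hxy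
        exact Subtype.ext this
    rw [h1]
    by_contra hcon
    push Not at hcon
    have h4 : Nat.card f.ker * 5 ≤ Nat.card f.ker * Nat.card f.range := Nat.mul_le_mul_left _ hcon
    have h5 : 0 < Nat.card f.ker := Nat.card_pos
    omega
  have hRn : ∀ y ∈ R, d * y * d⁻¹ ∈ R := by
    intro y hy
    obtain ⟨x, hx, rfl⟩ := hR y hy
    have e : d * (d * x * d⁻¹ * x⁻¹) * d⁻¹ = d * (d * x * d⁻¹) * d⁻¹ * (d * x * d⁻¹)⁻¹ := by group
    rw [e]
    exact hR' _ (hn x hx)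
  have hRc := comm_of_card_le_four hr h5 hd hRn hcR
  intro x hx
  have hy := hRc _ (hR' x hx)
  have hyy := hV _ (V.mul_mem (hn x hx) (V.inv_mem hx))
  set y := d * x * d⁻¹ * x⁻¹ with hydef
  have h1 : d * x = y * x * d := by rw [hydef]; group
  have h2 : Commute (d ^ 2) x := by
    change d ^ 2 * x = x * d ^ 2
    calc d ^ 2 * x = d * (d * x) := by rw [pow_two]; group
      _ = (d * y) * (x * d) := by rw [h1]; group
      _ = y * (d * x) * d := by rw [hy]; group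
      _ = (y * y) * x * d ^ 2 := by rw [h1, pow_two]; group
      _ = x * d ^ 2 := by rw [hyy]; group
  have h3 : Nat.Coprime 2 (orderOf d) := by
    rw [hd, Nat.coprime_primes Nat.prime_two hr]
    omega
  obtain ⟨m, hm⟩ := exists_pow_eq_self_of_coprime h3
  have h4 := h2.pow_left m
  rw [hm] at h4
  exact h4

section pair

variable {M₁ M₂ P₁ P₂ V₁ V₂ T : Subgroup G} {q : ℕ}

theorem two_le [Finite G] (h : Pair M₁ M₂ P₁ P₂ V₁ V₂ T q) : 2 ≤ q := by
  obtain ⟨n, hn, hq⟩ := T1Local.pow h.t₁.ltype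
  rw [hq]
  calc 2 = 2 ^ 1 := rfl
    _ ≤ 2 ^ n := Nat.pow_le_pow_right (by norm_num) hn

theorem V_le_T (h : Pair M₁ M₂ P₁ P₂ V₁ V₂ T q) : V₁ ≤ T := by rw [h.sup]; exact le_sup_left

theorem C_le_V (h : Pair M₁ M₂ P₁ P₂ V₁ V₂ T q) : omegaZ T ≤ V₁ := by rw [← h.inf]; exact inf_le_left

theorem card_omega (h : Pair M₁ M₂ P₁ P₂ V₁ V₂ T q) : Nat.card (omegaZ V₁) = q ^ 2 := by
  rw [omegaZ_eq_of_elem h.elem₁]; exact h.card_V₁

theorem trans [Finite G] (h : Pair M₁ M₂ P₁ P₂ V₁ V₂ T q) : ∀ v ∈ V₁, v ≠ 1 → ∀ w ∈ V₁, w ≠ 1 → ∃ g ∈ P₁, g * v * g⁻¹ = w := by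
  have := T1Local.nat_trans h.t₁.ltype (card_omega h)
  rwa [omegaZ_eq_of_elem h.elem₁] at this

theorem cent [Finite G] (h : Pair M₁ M₂ P₁ P₂ V₁ V₂ T q) {z : G} (hz : z ∈ omegaZ T) (hz1 : z ≠ 1) :
    ∀ m ∈ P₁, m * z = z * m → m ∈ T :=
  centralizer_le (two_le h) h.t₁.ltype.syl.le h.card_V₁ (T1Local.card_P h.t₁.ltype) h.card (trans h) (C_le_V h hz) hz1
    (mem_omegaZ.1 hz).2.2

/-- an element of `P₁` moving an element of `C#` into `C` normalises `T` -/
theorem normalizes [Finite G] (h : Pair M₁ M₂ P₁ P₂ V₁ V₂ T q) {m : G} (hm : m ∈ P₁) {v : G} (hv : v ∈ omegaZ T) (hv1 : v ≠ 1)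
    (hmv : m * v * m⁻¹ ∈ omegaZ T) : ∀ t ∈ T, m * t * m⁻¹ ∈ T := by
  intro t ht
  apply cent h hmv (T1Torus.conj_ne_one hv1)
  · exact P₁.mul_mem (P₁.mul_mem hm (h.t₁.ltype.syl.le ht)) (P₁.inv_mem hm)
  · have h1 := (mem_omegaZ.1 hv).2.2 t ht
    calc m * t * m⁻¹ * (m * v * m⁻¹) = m * (t * v) * m⁻¹ := by group
      _ = m * (v * t) * m⁻¹ := by rw [h1]
      _ = m * v * m⁻¹ * (m * t * m⁻¹) := by group

/-- the local data at `P₁` -/
theorem loc_of_pair [Finite G] (h : Pair M₁ M₂ P₁ P₂ V₁ V₂ T q) : Loc P₁ V₁ T (omegaZ T) := by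
  have hq2 := two_le h
  have hV := h.elem₁
  have hVT := V_le_T h
  have hCV := C_le_V h
  have hTP : T ≤ P₁ := h.t₁.ltype.syl.le
  have hT₂ : ∀ t ∈ T, ∀ v ∈ V₂, t * v * t⁻¹ ∈ V₂ := fun t ht v hv => h.t₂.o2.normal t (h.t₂.syl.le ht) v hv
  have hV₂T : V₂ ≤ T := V_le_T (Pair.symm h)
  have hmul := T1Torus.exists_mul h.t₂.o2 (hVT.trans h.t₂.syl.le) h.sup
  have hcV : Nat.card V₁ = q * q := by rw [h.card_V₁, pow_two]
  have hcT : Nat.card T = q * Nat.card V₁ := by rw [h.card, h.card_V₁]; ring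
  have hcomm : ∀ t ∈ T, ∀ v ∈ V₁, t * v * t⁻¹ * v⁻¹ ∈ omegaZ T := by
    intro t ht v hv
    obtain ⟨a, ha, b, hb, rfl⟩ := hmul t ht
    have h1 : b * v * b⁻¹ ∈ V₁ := h.t₁.o2.normal b (h.t₁.syl.le (hV₂T hb)) v hv
    have h2 : a * (b * v * b⁻¹) * a⁻¹ = b * v * b⁻¹ := by rw [hV.comm ha h1]; group
    have h3 : a * b * v * (a * b)⁻¹ * v⁻¹ = b * v * b⁻¹ * v⁻¹ := by
      calc a * b * v * (a * b)⁻¹ * v⁻¹ = a * (b * v * b⁻¹) * a⁻¹ * v⁻¹ := by group
        _ = b * v * b⁻¹ * v⁻¹ := by rw [h2]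
    rw [h3, ← h.inf]
    refine ⟨V₁.mul_mem h1 (V₁.inv_mem hv), ?_⟩
    have h4 : b * v * b⁻¹ * v⁻¹ = b * (v * b⁻¹ * v⁻¹) := by group
    rw [h4]
    exact V₂.mul_mem hb (hT₂ v (hVT hv) _ (V₂.inv_mem hb))
  have hspread : ∀ m ∈ P₁, (∃ v ∈ omegaZ T, v ≠ 1 ∧ m * v * m⁻¹ ∈ omegaZ T) →
      ∀ v ∈ omegaZ T, m * v * m⁻¹ ∈ omegaZ T := by
    rintro m hm ⟨v, hv, hv1, hmv⟩
    exact conj_omegaZ (normalizes h hm hv hv1 hmv)
  refine ⟨hV, hTP, hVT, hCV, ?_, hcomm, h.cent₁, h.t₁.ltype.o2.normal, ?_, hspread, trans h, ?_, ?_, ?_, ?_, ?_⟩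
  · intro z hz t ht
    exact (mem_omegaZ.1 hz).2.2 t ht
  · intro t ht
    obtain ⟨a, ha, b, hb, rfl⟩ := hmul t ht
    have h1 : b * a * b⁻¹ ∈ V₁ := h.t₁.o2.normal b (h.t₁.syl.le (hV₂T hb)) a ha
    have h2 : a * b * (a * b) = a * (b * a * b⁻¹) * (b * b) := by group
    rw [h2, h.elem₂ b hb, mul_one]
    exact V₁.mul_mem ha h1
  · intro z hz hz1 m hm hmz
    exact cent h hz hz1 m hm hmz.symm.symm
  · intro v hv hvC c hc
    have hcardT : Nat.card (T ⧸ V₁.subgroupOf T) = q := by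
      have e1 := (V₁.subgroupOf T).card_mul_index
      have e2 : Nat.card (V₁.subgroupOf T) = Nat.card V₁ :=
        Nat.card_congr (Subgroup.subgroupOfEquivOfLe hVT).toEquiv
      rw [e2, hcT, mul_comm q] at e1
      exact Nat.eq_of_mul_eq_mul_left (by rw [hcV]; positivity) e1
    let F : (T ⧸ V₁.subgroupOf T) → omegaZ T := fun x =>
      Quotient.liftOn' x (fun t : T => (⟨t * v * (t : G)⁻¹ * v⁻¹, hcomm t t.2 v hv⟩ : omegaZ T)) (by
        intro a b hab
        rw [QuotientGroup.leftRel_apply, Subgroup.mem_subgroupOf] at hab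
        apply Subtype.ext
        have h1 : ((a⁻¹ * b : T) : G) * v = v * ((a⁻¹ * b : T) : G) := hV.comm hab hv
        have h2 : (b : G) * v * (b : G)⁻¹ = (a : G) * v * (a : G)⁻¹ := by
          have e : (b : G) = (a : G) * ((a⁻¹ * b : T) : G) := by simp
          calc (b : G) * v * (b : G)⁻¹
              = (a : G) * (((a⁻¹ * b : T) : G) * v) * ((a⁻¹ * b : T) : G)⁻¹ * (a : G)⁻¹ := by
                rw [e]; group
            _ = (a : G) * v * (a : G)⁻¹ := by rw [h1]; group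
        simp only [h2])
    have hFinj : Function.Injective F := by
      intro x y
      induction x using QuotientGroup.induction_on with | _ a => ?_
      induction y using QuotientGroup.induction_on with | _ b => ?_
      intro hxy
      have hxy' : (a : G) * v * (a : G)⁻¹ * v⁻¹ = (b : G) * v * (b : G)⁻¹ * v⁻¹ := congrArg Subtype.val hxy
      rw [QuotientGroup.eq, Subgroup.mem_subgroupOf]
      by_contra hnot
      apply hvC
      refine h.cent₁ _ (T.mul_mem (T.inv_mem a.2) b.2) hnot v hv ?_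
      have h1 := mul_right_cancel hxy'
      calc (a : G)⁻¹ * b * v = (a : G)⁻¹ * ((b : G) * v * (b : G)⁻¹) * b := by group
        _ = (a : G)⁻¹ * ((a : G) * v * (a : G)⁻¹) * b := by rw [h1]
        _ = v * ((a : G)⁻¹ * b) := by group
    have hFbij := (Nat.bijective_iff_injective_and_card F).2 ⟨hFinj, by rw [hcardT, h.card_C]⟩
    obtain ⟨x, hx⟩ := hFbij.2 ⟨c, hc⟩
    induction x using QuotientGroup.induction_on with | _ a => ?_
    have hx' : (a : G) * v * (a : G)⁻¹ * v⁻¹ = c := congrArg Subtype.val hx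
    refine ⟨a, a.2, ?_⟩
    rw [hV.comm hv (hCV hc), ← hx']
    group
  · by_contra hcon
    push Not at hcon
    have : omegaZ T = ⊥ := by rw [eq_bot_iff]; intro x hx; exact Subgroup.mem_bot.2 (hcon x hx)
    have h1 := h.card_C
    rw [this] at h1
    simp at h1
    omega
  · by_contra hcon
    push Not at hcon
    have h1 : V₁ = omegaZ T := le_antisymm hcon hCV
    have h2 := h.card_C
    rw [← h1, hcV] at h2
    nlinarith
  · intro m hm hne v hv
    let F : omegaZ T × omegaZ T → V₁ := fun x =>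
      ⟨(x.1 : G) * (m * (x.2 : G) * m⁻¹),
        V₁.mul_mem (hCV x.1.2) (h.t₁.ltype.o2.normal m hm _ (hCV x.2.2))⟩
    have hFinj : Function.Injective F := by
      rintro ⟨a, b⟩ ⟨a', b'⟩ hab
      have hab' : (a : G) * (m * (b : G) * m⁻¹) = (a' : G) * (m * (b' : G) * m⁻¹) := congrArg Subtype.val hab
      have h1 : (a' : G)⁻¹ * a = m * ((b' : G) * (b : G)⁻¹) * m⁻¹ := by
        calc (a' : G)⁻¹ * a = (a' : G)⁻¹ * ((a : G) * (m * (b : G) * m⁻¹)) * (m * (b : G)⁻¹ * m⁻¹) := by group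
          _ = (a' : G)⁻¹ * ((a' : G) * (m * (b' : G) * m⁻¹)) * (m * (b : G)⁻¹ * m⁻¹) := by rw [hab']
          _ = m * ((b' : G) * (b : G)⁻¹) * m⁻¹ := by group
      have h2 : (a' : G)⁻¹ * a = 1 := by
        by_contra h0
        apply hne
        apply spread_cj hspread hm h0 ((omegaZ T).mul_mem ((omegaZ T).inv_mem a'.2) a.2)
        rw [h1]
        exact conj_mem_cj ((omegaZ T).mul_mem b'.2 ((omegaZ T).inv_mem b.2))
      have h3 : a = a' := Subtype.ext (inv_mul_eq_one.1 h2).symm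
      subst h3
      have h4 := mul_left_cancel hab'
      have h5 := mul_left_cancel (mul_right_cancel h4)
      rw [Subtype.ext h5]
    have hFbij := (Nat.bijective_iff_injective_and_card F).2
      ⟨hFinj, by rw [Nat.card_prod, h.card_C, hcV]⟩
    obtain ⟨⟨c, d⟩, hx⟩ := hFbij.2 ⟨v, hv⟩
    exact ⟨c, c.2, d, d.2, (congrArg Subtype.val hx).symm⟩

/-- elements of `M₁` normalising `T` lie in `M₂` -/
theorem mem_of_normalizes [Finite G] (h : Pair M₁ M₂ P₁ P₂ V₁ V₂ T q) {k : G} (hk : k ∈ M₁)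
    (hkT : ∀ t ∈ T, k * t * k⁻¹ ∈ T) : k ∈ M₂ := by
  have hq2 := two_le h
  have hV₁T : Nat.card V₁ ≠ Nat.card T := by
    rw [h.card_V₁, h.card]
    intro h0
    have h1 : q ^ 2 * 1 = q ^ 2 * q := by rw [mul_one, ← pow_succ]; exact h0
    have := Nat.eq_of_mul_eq_mul_left (by positivity) h1
    omega
  have hne : V₁ ≠ V₂ := by
    intro h0
    apply hV₁T
    rw [h.sup, ← h0, sup_idem]
  have hkV : cj k V₂ ≤ T := by
    intro x hx
    rw [mem_cj] at hx
    have := hkT _ (V_le_T (Pair.symm h) hx)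
    have e : k * (k⁻¹ * x * k) * k⁻¹ = x := by group
    rwa [e] at this
  have hN₂ : Subgroup.normalizer (V₂ : Set G) = M₂ := by
    have hVb : V₂ ≠ ⊥ := T1Torus.o2_ne_bot h.max₂ h.t₂.o2
    obtain ⟨X, hX, hPX⟩ := CITNonCommute.exists_isO2_ge (Subgroup.normalizer (V₂ : Set G)) V₂
      Subgroup.le_normalizer h.t₂.o2.two (fun m hm x hx => (Subgroup.mem_normalizer_iff.1 hm x).1 hx)
    have hX1 : X ≠ ⊥ := fun h0 => hVb (le_bot_iff.1 (h0 ▸ hPX))
    exact h.max₂.2 _ (CITNonCommute.le_normalizer_of_forall h.t₂.o2.normal) ⟨X, hX1, hX⟩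
  rw [← hN₂]
  apply mem_normalizer_of_cj_eq
  rcases h.elem _ hkV (elem_cj h.elem₂) with h1 | h1
  · exfalso
    have h2 : cj k V₂ = V₁ := Subgroup.eq_of_le_of_card_ge h1 (by rw [card_cj, h.card_V₁, h.card_V₂])
    have h3 : cj k V₁ = V₁ :=
      cj_eq_self_of_mem_normalizer (CITNonCommute.le_normalizer_of_forall h.t₁.o2.normal hk)
    exact hne (cj_injective k (h3.trans h2.symm))
  · exact Subgroup.eq_of_le_of_card_ge h1 (by rw [card_cj])

/-- `|N_{P₁}(T)| = |T| · |C#|` -/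
theorem card_normalizer [Finite G] (h : Pair M₁ M₂ P₁ P₂ V₁ V₂ T q) :
    Nat.card (P₁ ⊓ Subgroup.normalizer (T : Set G) : Subgroup G) =
      Nat.card T * Nat.card {c : omegaZ T // c ≠ 1} := by
  obtain ⟨c₀, hc₀, hc₀1⟩ := (loc_of_pair h).nebot
  set N : Subgroup G := P₁ ⊓ Subgroup.normalizer (T : Set G) with hN
  have hTN : T ≤ N := le_inf h.t₁.ltype.syl.le Subgroup.le_normalizer
  have hNC : ∀ n ∈ N, ∀ x ∈ omegaZ T, n * x * n⁻¹ ∈ omegaZ T := by
    intro n hn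
    exact conj_omegaZ fun t ht => (Subgroup.mem_normalizer_iff.1 hn.2 t).1 ht
  have hne : ∀ n ∈ N, n * c₀ * n⁻¹ ≠ 1 := fun n _ => T1Torus.conj_ne_one hc₀1
  let F : (N ⧸ T.subgroupOf N) → {c : omegaZ T // c ≠ 1} := fun x =>
    Quotient.liftOn' x (fun n : N => (⟨⟨n * c₀ * (n : G)⁻¹, hNC n n.2 c₀ hc₀⟩,
      fun h0 => hne n n.2 (congrArg Subtype.val h0)⟩ : {c : omegaZ T // c ≠ 1})) (by
      intro a b hab
      rw [QuotientGroup.leftRel_apply, Subgroup.mem_subgroupOf] at hab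
      apply Subtype.ext
      apply Subtype.ext
      have h1 := (mem_omegaZ.1 hc₀).2.2 _ hab
      have e : (b : G) = (a : G) * ((a⁻¹ * b : N) : G) := by simp
      change (a : G) * c₀ * (a : G)⁻¹ = (b : G) * c₀ * (b : G)⁻¹
      calc (a : G) * c₀ * (a : G)⁻¹
          = (a : G) * (c₀ * ((a⁻¹ * b : N) : G)) * ((a⁻¹ * b : N) : G)⁻¹ * (a : G)⁻¹ := by group
        _ = (a : G) * (((a⁻¹ * b : N) : G) * c₀) * ((a⁻¹ * b : N) : G)⁻¹ * (a : G)⁻¹ := by rw [h1]
        _ = (b : G) * c₀ * (b : G)⁻¹ := by rw [e]; group)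
  have hFinj : Function.Injective F := by
    intro x y
    induction x using QuotientGroup.induction_on with | _ a => ?_
    induction y using QuotientGroup.induction_on with | _ b => ?_
    intro hxy
    have hxy' : (a : G) * c₀ * (a : G)⁻¹ = (b : G) * c₀ * (b : G)⁻¹ :=
      congrArg (fun z : {c : omegaZ T // c ≠ 1} => ((z : omegaZ T) : G)) hxy
    rw [QuotientGroup.eq, Subgroup.mem_subgroupOf]
    apply cent h hc₀ hc₀1
    · exact (N.mul_mem (N.inv_mem a.2) b.2).1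
    · change (a : G)⁻¹ * b * c₀ = c₀ * ((a : G)⁻¹ * b)
      calc (a : G)⁻¹ * b * c₀ = (a : G)⁻¹ * ((b : G) * c₀ * (b : G)⁻¹) * b := by group
        _ = (a : G)⁻¹ * ((a : G) * c₀ * (a : G)⁻¹) * b := by rw [hxy']
        _ = c₀ * ((a : G)⁻¹ * b) := by group
  have hFsurj : Function.Surjective F := by
    rintro ⟨⟨c, hc⟩, hc1⟩
    have hc1' : c ≠ 1 := fun h0 => hc1 (Subtype.ext h0)
    obtain ⟨m, hm, hmc⟩ := trans h c₀ (C_le_V h hc₀) hc₀1 c (C_le_V h hc) hc1'
    have hmT := normalizes h hm hc₀ hc₀1 (by rw [hmc]; exact hc)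
    have hmN : m ∈ N := ⟨hm, mem_normalizer_of_cj_eq (cj_eq_of_forall hmT)⟩
    refine ⟨QuotientGroup.mk ⟨m, hmN⟩, ?_⟩
    apply Subtype.ext
    apply Subtype.ext
    exact hmc
  have h1 : Nat.card (N ⧸ T.subgroupOf N) = Nat.card {c : omegaZ T // c ≠ 1} :=
    Nat.card_eq_of_bijective F ⟨hFinj, hFsurj⟩
  have h2 : Nat.card (T.subgroupOf N) * Nat.card (N ⧸ T.subgroupOf N) = Nat.card N :=
    (T.subgroupOf N).card_mul_index
  rw [← h2, h1, Nat.card_congr (Subgroup.subgroupOfEquivOfLe hTN).toEquiv]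

/-- 2-elements of `M₁` normalising `T` lie in `T` -/
theorem mem_T_of_two [Finite G] (h : Pair M₁ M₂ P₁ P₂ V₁ V₂ T q) {D : Subgroup G} (hD : D ≤ M₁)
    (hDT : D ≤ Subgroup.normalizer (T : Set G)) (hD2 : IsPGroup 2 D) : D ≤ T := by
  have h1 := h.t₁.syl.max (D ⊔ T) (sup_le hD h.t₁.syl.le) (hD2.to_sup_of_normal_right' h.t₁.syl.two hDT) le_sup_right
  rw [← h1]
  exact le_sup_left

/-- for `q ≠ 2`: `N_{P₁}(T) ≤ P₂` -/
theorem normalizer_le [Finite G] (hG : Hyp G) (h : Pair M₁ M₂ P₁ P₂ V₁ V₂ T q) (hq : q ≠ 2) {k : G} (hk : k ∈ P₁)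
    (hkT : ∀ t ∈ T, k * t * k⁻¹ ∈ T) : k ∈ P₂ := by
  set N : Subgroup G := Subgroup.normalizer (T : Set G) with hN
  set B : Subgroup G := M₁ ⊓ N with hB
  have hBM₂ : B ≤ M₂ := fun b hb => mem_of_normalizes h hb.1 fun t ht => (Subgroup.mem_normalizer_iff.1 hb.2 t).1 ht
  have hP₁M : P₁ ≤ M₁ := h.t₁.le
  have hP₂M : P₂ ≤ M₂ := h.t₂.le
  have hP₂N : P₂ ⊓ N ≤ B := by
    rintro x ⟨hx, hxN⟩
    exact ⟨mem_of_normalizes (Pair.symm h) (hP₂M hx) fun t ht => (Subgroup.mem_normalizer_iff.1 hxN t).1 ht, hxN⟩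
  have hP₁N : P₁ ⊓ N ≤ B := inf_le_inf_right _ hP₁M
  have n1 : ((P₁ ⊓ N).subgroupOf B).Normal := by
    refine ⟨fun x hx g => ?_⟩
    rw [Subgroup.mem_subgroupOf] at hx ⊢
    exact ⟨h.t₁.normal hq g g.2.1 x hx.1, N.mul_mem (N.mul_mem g.2.2 hx.2) (N.inv_mem g.2.2)⟩
  have n2 : ((P₂ ⊓ N).subgroupOf B).Normal := by
    refine ⟨fun x hx g => ?_⟩
    rw [Subgroup.mem_subgroupOf] at hx ⊢
    exact ⟨h.t₂.normal hq g (hBM₂ g.2) x hx.1, N.mul_mem (N.mul_mem g.2.2 hx.2) (N.inv_mem g.2.2)⟩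
  have hle : (P₁ ⊓ N).subgroupOf B ≤ (P₂ ⊓ N).subgroupOf B := by
    refine le_of_card_eq _ _ (oddCyc_subgroup hG.cyc B) ?_ ?_
    · intro S x hx
      have h1 : (S : Subgroup B).map B.subtype ≤ T := by
        apply mem_T_of_two h
        · exact (Subgroup.map_subtype_le _).trans inf_le_left
        · exact (Subgroup.map_subtype_le _).trans inf_le_right
        · exact S.isPGroup'.map _
      have h2 : (x : G) ∈ T := h1 ⟨x, hx.1, rfl⟩
      rw [Subgroup.mem_subgroupOf]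
      exact ⟨h.t₂.ltype.syl.le h2, Subgroup.le_normalizer h2⟩
    · rw [Nat.card_congr (Subgroup.subgroupOfEquivOfLe hP₁N).toEquiv,
        Nat.card_congr (Subgroup.subgroupOfEquivOfLe hP₂N).toEquiv, card_normalizer h, card_normalizer (Pair.symm h)]
  have hkN : k ∈ N := mem_normalizer_of_cj_eq (cj_eq_of_forall hkT)
  have hkB : k ∈ B := ⟨hP₁M hk, hkN⟩
  have := hle (show (⟨k, hkB⟩ : B) ∈ (P₁ ⊓ N).subgroupOf B from Subgroup.mem_subgroupOf.2 ⟨hk, hkN⟩)
  exact (Subgroup.mem_subgroupOf.1 this).1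

/-- `N_G(V₁) = M₁` -/
theorem normalizer_V [Finite G] (h : Pair M₁ M₂ P₁ P₂ V₁ V₂ T q) : Subgroup.normalizer (V₁ : Set G) = M₁ := by
  have hVb : V₁ ≠ ⊥ := T1Torus.o2_ne_bot h.max₁ h.t₁.o2
  obtain ⟨X, hX, hPX⟩ := CITNonCommute.exists_isO2_ge (Subgroup.normalizer (V₁ : Set G)) V₁
    Subgroup.le_normalizer h.t₁.o2.two (fun m hm x hx => (Subgroup.mem_normalizer_iff.1 hm x).1 hx)
  have hX1 : X ≠ ⊥ := fun h0 => hVb (le_bot_iff.1 (h0 ▸ hPX))
  exact h.max₁.2 _ (CITNonCommute.le_normalizer_of_forall h.t₁.o2.normal) ⟨X, hX1, hX⟩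

/-- `C_G(V₁) ≤ V₁` -/
theorem centralizer_V [Finite G] (hG : Hyp G) (h : Pair M₁ M₂ P₁ P₂ V₁ V₂ T q) :
    Subgroup.centralizer (V₁ : Set G) ≤ V₁ := by
  have hVb : V₁ ≠ ⊥ := T1Torus.o2_ne_bot h.max₁ h.t₁.o2
  refine hG.char2 V₁ V₁ h.t₁.o2.two hVb ?_
  rw [normalizer_V h]
  exact h.t₁.o2

/-- subgroups of `M₁` centralising an element of `C#` and normalising `C` are 2-groups if `q ≤ 4` -/
theorem isPGroup_of [Finite G] (hG : Hyp G) (h : Pair M₁ M₂ P₁ P₂ V₁ V₂ T q) (hq : q ≤ 4) {D : Subgroup G}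
    (hD : D ≤ M₁) {c : G} (hc : c ∈ omegaZ T) (hc1 : c ≠ 1) (hDc : ∀ d ∈ D, d * c = c * d)
    (hDC : ∀ d ∈ D, ∀ x ∈ omegaZ T, d * x * d⁻¹ ∈ omegaZ T) : IsPGroup 2 D := by
  have key : ∀ {r : ℕ}, r.Prime → r ∣ Nat.card D → r = 2 := by
    intro r hr hrd
    haveI := Fact.mk hr
    obtain ⟨d, hd⟩ := exists_prime_orderOf_dvd_card' r hrd
    have hd' : orderOf (d : G) = r := by rw [Subgroup.orderOf_coe]; exact hd
    by_contra h2
    by_cases h3 : r = 3
    · subst h3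
      exact hc1 (h.t₁.fpf d (hD d.2) hd' c (C_le_V h hc) (hDc d d.2))
    · have h5 : 5 ≤ r := by
        by_contra hcon
        push Not at hcon
        have := hr.two_le
        interval_cases r
        · exact h2 rfl
        · exact h3 rfl
        · exact absurd hr (by norm_num)
      have e1 := comm_of_card_le_four hr h5 hd' (hDC d d.2) (by rw [h.card_C]; exact hq)
      have e2 := comm_of_index_le_four hr h5 hd' h.elem₁ (h.t₁.o2.normal d (hD d.2)) (C_le_V h) e1 (by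
        rw [h.card_V₁, h.card_C, pow_two]
        exact Nat.mul_le_mul_left _ hq)
      have e3 : (d : G) ∈ V₁ := centralizer_V hG h (Subgroup.mem_centralizer_iff.2 fun x hx => (e2 x hx).symm)
      have e4 := h.elem₁ _ e3
      rw [← pow_two] at e4
      have e5 := orderOf_dvd_of_pow_eq_one e4
      rw [hd'] at e5
      have := Nat.le_of_dvd (by norm_num) e5
      omega
  exact IsPGroup.of_card (Nat.eq_prime_pow_of_unique_prime_dvd Nat.card_pos.ne' key)

/-- `M₁ = P₁` for `q ∈ {2, 4}` -/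
theorem M_eq_P [Finite G] (hG : Hyp G) (h : Pair M₁ M₂ P₁ P₂ V₁ V₂ T q) (hq : q = 2 ∨ q = 4) : M₁ = P₁ := by
  obtain ⟨c, hc, hc1⟩ := (loc_of_pair h).nebot
  apply le_antisymm _ h.t₁.le
  intro m hm
  obtain ⟨p, hp, hpm⟩ := trans h _ (h.t₁.o2.normal m hm c (C_le_V h hc)) (T1Torus.conj_ne_one hc1) c (C_le_V h hc) hc1
  have hn : p * m ∈ M₁ := M₁.mul_mem (h.t₁.le hp) hm
  have hnc : p * m * c * (p * m)⁻¹ = c := by
    calc p * m * c * (p * m)⁻¹ = p * (m * c * m⁻¹) * p⁻¹ := by group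
      _ = c := hpm
  have hnc' : p * m * c = c * (p * m) := by
    conv_rhs => rw [← hnc]
    group
  suffices hT : p * m ∈ T by
    have h1 : m = p⁻¹ * (p * m) := by group
    rw [h1]
    exact P₁.mul_mem (P₁.inv_mem hp) (h.t₁.ltype.syl.le hT)
  rcases hq with hq | hq
  · have h2 := h.card_C
    rw [hq] at h2
    have hC : ∀ x ∈ omegaZ T, x = 1 ∨ x = c := by
      intro x hx
      obtain ⟨y, hy⟩ := (Nat.card_eq_two_iff' (1 : omegaZ T)).1 h2
      have e1 := hy.2 ⟨c, hc⟩ (fun h0 => hc1 (congrArg Subtype.val h0))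
      by_cases hx1 : x = 1
      · exact Or.inl hx1
      · right
        have e2 := hy.2 ⟨x, hx⟩ (fun h0 => hx1 (congrArg Subtype.val h0))
        exact congrArg Subtype.val (e2.trans e1.symm)
    have h3 : IsPGroup 2 (M₁ ⊓ Subgroup.centralizer ({c} : Set G) : Subgroup G) := by
      refine isPGroup_of hG h (by omega) inf_le_left hc hc1
        (fun d hd => Subgroup.mem_centralizer_singleton_iff.1 hd.2) ?_
      intro d hd x hx
      rcases hC x hx with rfl | rfl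
      · simp
      · have := Subgroup.mem_centralizer_singleton_iff.1 hd.2
        rw [this]
        simpa using hx
    have h4 := h.t₁.syl.max _ inf_le_left h3 (le_inf h.t₁.syl.le fun t ht =>
      Subgroup.mem_centralizer_singleton_iff.2 ((mem_omegaZ.1 hc).2.2 t ht).symm)
    rw [← h4]
    exact ⟨hn, Subgroup.mem_centralizer_singleton_iff.2 hnc'⟩
  · have h5 : ∀ t ∈ T, p * m * t * (p * m)⁻¹ ∈ T := by
      intro t ht
      apply cent h hc hc1
      · exact h.t₁.normal (by omega) _ hn t (h.t₁.ltype.syl.le ht)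
      · have h1 := (mem_omegaZ.1 hc).2.2 t ht
        calc p * m * t * (p * m)⁻¹ * c = p * m * t * (p * m)⁻¹ * (p * m * c * (p * m)⁻¹) := by rw [hnc]
          _ = p * m * (t * c) * (p * m)⁻¹ := by group
          _ = p * m * (c * t) * (p * m)⁻¹ := by rw [h1]
          _ = (p * m * c * (p * m)⁻¹) * (p * m * t * (p * m)⁻¹) := by group
          _ = c * (p * m * t * (p * m)⁻¹) := by rw [hnc]
    have hN : p * m ∈ Subgroup.normalizer (T : Set G) := mem_normalizer_of_cj_eq (cj_eq_of_forall h5)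
    have h3 : IsPGroup 2 (M₁ ⊓ Subgroup.centralizer ({c} : Set G) ⊓ Subgroup.normalizer (T : Set G) : Subgroup G) := by
      refine isPGroup_of hG h (by omega) (inf_le_left.trans inf_le_left) hc hc1
        (fun d hd => Subgroup.mem_centralizer_singleton_iff.1 hd.1.2) ?_
      intro d hd
      exact conj_omegaZ fun t ht => (Subgroup.mem_normalizer_iff.1 hd.2 t).1 ht
    have h4 := mem_T_of_two h (inf_le_left.trans inf_le_left) inf_le_right h3
    exact h4 ⟨⟨hn, Subgroup.mem_centralizer_singleton_iff.2 hnc'⟩, hN⟩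

end pair

/-- 3.3 -/
theorem q_le_four [Finite G] [IsSimpleGroup G] (hG : Hyp G) {M₁ M₂ P₁ P₂ V₁ V₂ T : Subgroup G} {q : ℕ}
    (h : Pair M₁ M₂ P₁ P₂ V₁ V₂ T q) : (q = 2 ∨ q = 4) ∧ M₁ = P₁ ∧ M₂ = P₂ := by
  have hq : q = 2 ∨ q = 4 := by
    by_cases hq2 : q = 2
    · exact Or.inl hq2
    have L₁ := loc_of_pair h
    have L₂ := loc_of_pair (Pair.symm h)
    have hT : ∀ t ∈ T, ∃ v ∈ V₁, ∃ w ∈ V₂, t = v * w :=
      T1Torus.exists_mul h.t₂.o2 ((V_le_T h).trans h.t₂.syl.le) h.sup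
    obtain ⟨c₀, hc₀, hc₀1⟩ := L₁.nebot
    have hle : Nat.card (omegaZ T) ≤ 4 := by
      refine card_C_le_four L₁ L₂ hT ?_
      intro k hk hkC
      apply normalizer_le hG h hq2 hk
      apply normalizes h hk hc₀ hc₀1
      have := conj_mem_cj (a := k) hc₀
      rwa [hkC] at this
    rw [h.card_C] at hle
    obtain ⟨n, hn, hq⟩ := T1Local.pow h.t₁.ltype
    have hn2 : n ≤ 2 := by
      by_contra hcon
      have : 2 ^ 3 ≤ 2 ^ n := Nat.pow_le_pow_right (by norm_num) (by omega)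
      rw [← hq] at this
      omega
    interval_cases n
    · left; rw [hq]; norm_num
    · right; rw [hq]; norm_num
  exact ⟨hq, M_eq_P hG h hq, M_eq_P hG (Pair.symm h) hq⟩

end Cfsg.Agent.OddCyclic.T1Torus
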