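import Mathlib
import Cfsg.Agent.OddCyclic.COneDefs
import Cfsg.Agent.OddCyclic.T1Sl2
import Cfsg.Agent.OddCyclic.T1Module
import Cfsg.Agent.OddCyclic.T1Local
import Cfsg.Agent.OddCyclic.T1Torus
import Cfsg.Agent.LieExceptional.CITBasic
import Cfsg.Agent.LieExceptional.CITFFLocal
import Cfsg.Agent.MinSimple.CaseOneAP

/-!
# `SL₂(q)`-blocks

Elementary facts on a block `LBlk B L q`: Sylow subgroups, generation, the natural module `V/R`, the torus.
-/

set_option autoImplicit false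

namespace Cfsg.Agent.OddCyclic.COneBlk

open Subgroup Cfsg Cfsg.Agent.ZN
open Cfsg.Agent.OddCyclic.COneDefs
open Cfsg.Agent.OddCyclic.T1Local (SL)
open Cfsg.Agent.LieExceptional Cfsg.Agent.LieExceptional.CITDefs

universe u

variable {G : Type u} [Group G] {B L : Subgroup G} {q : ℕ}

theorem zc_le_zl (B L : Subgroup G) : zc B ≤ zl B L := FinalBridge.zc_le_zl B L

theorem rl_le_zc (B L : Subgroup G) : rl B L ≤ zc B := inf_le_left

theorem rl_le_zl (B L : Subgroup G) : rl B L ≤ zl B L := (rl_le_zc B L).trans (zc_le_zl B L)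

theorem rl_comm {r l : G} (hr : r ∈ rl B L) (hl : l ∈ L) : l * r = r * l := mem_centralizer_iff.1 hr.2 l hl

theorem zc_comm {b y : G} (hb : b ∈ B) (hy : y ∈ zc B) : b * y = y * b := (FinalBridge.mem_zc.1 hy).2.2 b hb

theorem zl_conj {l v : G} (hl : l ∈ L) (hv : v ∈ zl B L) : l * v * l⁻¹ ∈ zl B L :=
  FinalBridge.zl_conj_of_mem hl hv

/-- unpacked block -/
structure BDat (B L : Subgroup G) (q : ℕ) (F : Type) [Field F] [Fintype F] where
  h : LBlk B L q
  φ : L →* SL F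
  surj : Function.Surjective φ
  ker : ∀ x : L, φ x = 1 ↔ (x : G) ∈ o2 L
  card : Fintype.card F = q
  U : Sylow 2 (SL F)
  memU : ∀ x : L, φ x ∈ (U : Subgroup (SL F)) ↔ (x : G) ∈ B

theorem card_L [Finite G] (h : LBlk B L q) : Nat.card L = (q + 1) * q * (q - 1) * Nat.card (o2 L) := by
  obtain ⟨F, hF1, hF2, hF3, φ, hφ, hker, hq⟩ := h.iso
  have h1 := φ.ker.card_mul_index
  rw [Subgroup.index_ker, MonoidHom.range_eq_top.2 hφ, Subgroup.card_top, T1Sl2.card_sl2, hq] at h1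
  have h2 : Nat.card φ.ker = Nat.card (o2 L) := by
    rw [hker]
    exact Nat.card_congr (Subgroup.subgroupOfEquivOfLe (FinalBridge.o2_le L)).toEquiv
  rw [← h1, h2]; ring

theorem card_B [Finite G] (h : LBlk B L q) : Nat.card B = q * Nat.card (o2 L) := by
  have := FinalBridge.card_mul_relIndex h.o2_le
  rw [h.o2_index] at this
  rw [← this]; ring

theorem pow (h : LBlk B L q) : ∃ n, 2 ≤ n ∧ q = 2 ^ n := by
  obtain ⟨F, hF1, hF2, hF3, φ, hφ, hker, hq⟩ := h.iso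
  obtain ⟨n, hn, h1⟩ := T1Sl2.card_pow F
  rw [hq] at h1
  refine ⟨n, ?_, h1⟩
  by_contra hcon
  have h2 : n = 1 := by omega
  have h3 := h.four
  rw [h1, h2] at h3
  omega

theorem not_dvd_relIndex [Finite G] (h : LBlk B L q) : ¬ 2 ∣ B.relIndex L := by
  have h1 := FinalBridge.card_mul_relIndex h.le
  rw [card_B h, card_L h] at h1
  have h2 : 0 < q * Nat.card (o2 L) := Nat.mul_pos (by have := h.four; omega) Nat.card_pos
  have h3 : B.relIndex L = (q + 1) * (q - 1) := by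
    apply Nat.eq_of_mul_eq_mul_left h2
    rw [h1]; ring
  obtain ⟨n, hn, hq⟩ := pow h
  have h4 : 2 ∣ q := by rw [hq]; exact dvd_pow_self 2 (by omega)
  rw [h3, Nat.prime_two.dvd_mul]
  have := h.four
  omega

/-- `B` as a Sylow 2-subgroup of `L` -/
theorem exists_sylow [Finite G] (h : LBlk B L q) : ∃ S : Sylow 2 L, (S : Subgroup L) = B.subgroupOf L := by
  have _ : Fact (Nat.Prime 2) := ⟨Nat.prime_two⟩
  have h1 : IsPGroup 2 (B.subgroupOf L) := h.two.comap_of_injective _ L.subtype_injective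
  exact ⟨h1.toSylow (not_dvd_relIndex h), rfl⟩

theorem exists_dat [Finite G] (h : LBlk B L q) :
    ∃ (F : Type) (_ : Field F) (_ : Fintype F) (_ : CharP F 2), Nonempty (BDat B L q F) := by
  have _ : Fact (Nat.Prime 2) := ⟨Nat.prime_two⟩
  obtain ⟨F, hF1, hF2, hF3, φ, hφ, hker, hq⟩ := h.iso
  have hk : ∀ x : L, φ x = 1 ↔ (x : G) ∈ o2 L := by
    intro x
    rw [← MonoidHom.mem_ker, hker, Subgroup.mem_subgroupOf]
  obtain ⟨S, hS⟩ := exists_sylow h
  refine ⟨F, hF1, hF2, hF3, ⟨h, φ, hφ, hk, hq, S.mapSurjective hφ, ?_⟩⟩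
  intro x
  have h1 : ((S.mapSurjective hφ : Sylow 2 (SL F)) : Subgroup (SL F)) = (B.subgroupOf L).map φ := by
    rw [← hS]; exact Sylow.coe_mapSurjective hφ _
  rw [h1, Subgroup.mem_map]
  constructor
  · rintro ⟨t, ht, htx⟩
    have h2 : φ (t⁻¹ * x) = 1 := by rw [map_mul, map_inv, htx, inv_mul_cancel]
    have h3 := h.o2_le ((hk _).1 h2)
    have h4 : (x : G) = (t : G) * ((t⁻¹ * x : L) : G) := by
      rw [← Subgroup.coe_mul, mul_inv_cancel_left]
    rw [h4]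
    exact B.mul_mem (Subgroup.mem_subgroupOf.1 ht) h3
  · intro hx
    exact ⟨x, Subgroup.mem_subgroupOf.2 hx, rfl⟩

/-- lift an element of odd order -/
theorem BDat.lift_odd [Finite G] {F : Type} [Field F] [Fintype F] (D : BDat B L q F) (s : SL F)
    (hs : Odd (orderOf s)) : ∃ x : L, D.φ x = s ∧ orderOf x = orderOf s := by
  obtain ⟨y, rfl⟩ := D.surj s
  set n := orderOf (D.φ y) with hn
  obtain ⟨a, ha⟩ := FinalBridge.o2_isPGroup L ⟨(y ^ n : L), (D.ker _).1 (by rw [map_pow, pow_orderOf_eq_one])⟩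
  have ha' : (y ^ n) ^ 2 ^ a = 1 := by
    apply Subtype.ext
    have h2 := congrArg Subtype.val ha
    exact h2
  have hco : Nat.Coprime n (2 ^ a) := Nat.Coprime.pow_right a (Nat.coprime_two_right.2 hs)
  obtain ⟨m, hm1, hm2⟩ := Nat.chineseRemainder hco 1 0
  have h1 : D.φ (y ^ m) = D.φ y := by
    rw [map_pow]
    conv_rhs => rw [← pow_one (D.φ y)]
    exact pow_eq_pow_iff_modEq.2 hm1
  refine ⟨y ^ m, h1, ?_⟩
  apply Nat.dvd_antisymm
  · apply orderOf_dvd_of_pow_eq_one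
    obtain ⟨c, rfl⟩ := (Nat.modEq_zero_iff_dvd.1 hm2)
    rw [← pow_mul, show 2 ^ a * c * n = n * 2 ^ a * c by ring, pow_mul, pow_mul, ha', one_pow]
  · rw [hn, ← h1]
    exact orderOf_map_dvd _ _

/-- `φ g` normalises `U` iff `g` normalises `B` -/
theorem BDat.smul_iff [Finite G] {F : Type} [Field F] [Fintype F] (D : BDat B L q F) (g : L) :
    D.φ g • D.U = D.U ↔ ∀ x ∈ B, (g : G) * x * (g : G)⁻¹ ∈ B := by
  rw [T1Local.smul_eq_iff]
  constructor
  · intro h1 x hx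
    have h2 := h1 (D.φ ⟨x, D.h.le hx⟩) ((D.memU _).2 hx)
    rw [← map_inv, ← map_mul, ← map_mul, D.memU] at h2
    exact h2
  · intro h1 s hs
    obtain ⟨x, rfl⟩ := D.surj s
    rw [← map_inv, ← map_mul, ← map_mul, D.memU]
    exact h1 _ ((D.memU x).1 hs)

/-- generation -/
theorem normalizes_or [Finite G] (h : LBlk B L q) {K : Subgroup G} (h1 : B ≤ K) (h2 : K ≤ L) :
    (∀ k ∈ K, ∀ x ∈ B, k * x * k⁻¹ ∈ B) ∨ K = L := by
  obtain ⟨F, _, _, _, ⟨D⟩⟩ := exists_dat h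
  have h3 : (D.U : Subgroup (SL F)) ≤ (K.subgroupOf L).map D.φ := by
    intro s hs
    obtain ⟨x, rfl⟩ := D.surj s
    exact ⟨x, Subgroup.mem_subgroupOf.2 (h1 ((D.memU x).1 hs)), rfl⟩
  rcases T1Sl2.le_normalizer_or D.U _ h3 with h4 | h4
  · left
    intro k hk
    have h5 := h4 (Subgroup.mem_map_of_mem D.φ (x := ⟨k, h2 hk⟩) (Subgroup.mem_subgroupOf.2 hk))
    exact (D.smul_iff _).1 (Sylow.smul_eq_iff_mem_normalizer.2 h5)
  · right
    apply le_antisymm h2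
    intro p hp
    have h5 : D.φ ⟨p, hp⟩ ∈ (K.subgroupOf L).map D.φ := by rw [h4]; trivial
    obtain ⟨k, hk, hkp⟩ := h5
    have h6 : D.φ (k⁻¹ * ⟨p, hp⟩) = 1 := by rw [map_mul, map_inv, hkp, inv_mul_cancel]
    have h7 := (D.ker _).1 h6
    have h8 : p = (k : G) * ((k⁻¹ * ⟨p, hp⟩ : L) : G) := by
      rw [← Subgroup.coe_mul, mul_inv_cancel_left]
    rw [h8]
    exact K.mul_mem (Subgroup.mem_subgroupOf.1 hk) (h1 (h.o2_le h7))

theorem exists_not_mem [Finite G] (h : LBlk B L q) : ∃ t ∈ B, t ∉ o2 L := by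
  by_contra hne
  push Not at hne
  have h1 : o2 L = B := le_antisymm h.o2_le hne
  have h2 := h.o2_index
  rw [h1, relIndex_self] at h2
  have := h.four
  omega

/-- `B` is not normal in `L` -/
theorem not_normal [Finite G] (h : LBlk B L q) : ∃ g ∈ L, ∃ x ∈ B, g * x * g⁻¹ ∉ B := by
  by_contra hne
  push Not at hne
  have h1 : B ≤ o2 L := FinalBridge.le_o2 h.le h.two (le_normalizer_iff.2 hne)
  obtain ⟨t, ht, htQ⟩ := exists_not_mem h
  exact htQ (h1 ht)

theorem BDat.exists_ne [Finite G] {F : Type} [Field F] [Fintype F] (D : BDat B L q F) :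
    ∃ U' : Sylow 2 (SL F), D.U ≠ U' := by
  obtain ⟨g, hg, x, hx, hgx⟩ := not_normal D.h
  refine ⟨D.φ ⟨g, hg⟩ • D.U, fun h => ?_⟩
  exact hgx ((D.smul_iff _).1 h.symm x hx)

/-! ### The natural module `V/R` -/

/-- `V = zl B L` is commutative -/
@[reducible] def zlComm (h : LBlk B L q) : CommGroup (zl B L) :=
  { (inferInstance : Group (zl B L)) with mul_comm := fun a b => Subtype.ext (h.zl_comm _ a.2 _ b.2) }

theorem card_quot [Finite G] (h : LBlk B L q) : (rl B L).relIndex (zl B L) = q ^ 2 := by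
  rw [← relIndex_mul_relIndex (rl B L) (zc B) (zl B L) (rl_le_zc B L) (zc_le_zl B L), h.rl_index, h.zl_index, pow_two]

/-- the action of `SL₂(F)` on `V/R` -/
theorem BDat.exists_rho [Finite G] {F : Type} [Field F] [Fintype F] (D : BDat B L q F) :
    ∃ (W : Type u) (_ : CommGroup W) (_ : Finite W) (π : zl B L →* W) (ρ : SL F →* MulAut W),
      Function.Surjective π ∧ (∀ v, π v = 1 ↔ (v : G) ∈ rl B L) ∧
      (∀ (x : L) (v : zl B L), ρ (D.φ x) (π v) = π ⟨x * v * (x : G)⁻¹, zl_conj x.2 v.2⟩) ∧ Nat.card W = q ^ 2 := by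
  let _ : CommGroup (zl B L) := zlComm D.h
  let N : Subgroup (zl B L) := (rl B L).subgroupOf (zl B L)
  let c := CITFFLocal.conjHom L (zl B L) (fun m hm x hx => zl_conj hm hx)
  have hc : ∀ l : L, N.map (c l : zl B L →* zl B L) = N := by
    intro l
    ext v
    constructor
    · rintro ⟨w, hw, rfl⟩
      rw [SetLike.mem_coe, mem_subgroupOf] at hw
      rw [mem_subgroupOf]
      show (l : G) * w * (l : G)⁻¹ ∈ rl B L
      rw [rl_comm hw l.2, mul_inv_cancel_right]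
      exact hw
    · intro hv
      rw [mem_subgroupOf] at hv
      refine ⟨v, mem_subgroupOf.2 hv, ?_⟩
      apply Subtype.ext
      show (l : G) * v * (l : G)⁻¹ = v
      rw [rl_comm hv l.2, mul_inv_cancel_right]
  let ρ₀ : L →* MulAut (zl B L ⧸ N) :=
    { toFun := fun l => QuotientGroup.congr N N (c l) (hc l)
      map_one' := by
        ext w
        induction w using QuotientGroup.induction_on with | _ v => ?_
        show (QuotientGroup.mk (c 1 v) : zl B L ⧸ N) = QuotientGroup.mk v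
        rw [map_one]
        rfl
      map_mul' := fun a b => by
        ext w
        induction w using QuotientGroup.induction_on with | _ v => ?_
        show (QuotientGroup.mk (c (a * b) v) : zl B L ⧸ N) = QuotientGroup.mk (c a (c b v))
        rw [map_mul, MulAut.mul_apply] }
  have hρ₀ : ∀ (l : L) (v : zl B L), ρ₀ l (QuotientGroup.mk v) = QuotientGroup.mk (c l v) := fun l v => rfl
  have hk : D.φ.ker ≤ ρ₀.ker := by
    intro x hx
    rw [MonoidHom.mem_ker, D.ker] at hx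
    rw [MonoidHom.mem_ker]
    ext w
    induction w using QuotientGroup.induction_on with | _ v => ?_
    rw [hρ₀]
    have h1 : c x v = v := by
      apply Subtype.ext
      show (x : G) * v * (x : G)⁻¹ = v
      have hx' := hx
      rw [← D.h.cent_zl] at hx'
      have h2 := mem_centralizer_iff.1 hx'.2 v v.2
      rw [← h2, mul_inv_cancel_right]
    rw [h1]
    rfl
  refine ⟨zl B L ⧸ N, inferInstance, inferInstance, QuotientGroup.mk' N, D.φ.liftOfSurjective D.surj ⟨ρ₀, hk⟩,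
    QuotientGroup.mk'_surjective N, fun v => ?_, fun x v => ?_, ?_⟩
  · rw [QuotientGroup.mk'_apply, QuotientGroup.eq_one_iff, mem_subgroupOf]
  · rw [MonoidHom.liftOfRightInverse_comp_apply]
    rfl
  · exact card_quot D.h

/-- elements of odd order are fixed point free on `V/R` -/
theorem fpf_odd [Finite G] (h : LBlk B L q) {x v : G} (hx : x ∈ L) (ho : Odd (orderOf x)) (hx1 : x ≠ 1)
    (hv : v ∈ zl B L) (hc : x * v * x⁻¹ * v⁻¹ ∈ rl B L) : v ∈ rl B L := by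
  have _ : Fact (Nat.Prime 2) := ⟨Nat.prime_two⟩
  obtain ⟨F, _, _, _, ⟨D⟩⟩ := exists_dat h
  obtain ⟨W, _, _, π, ρ, hπ, hπ1, hρ, hcW⟩ := D.exists_rho
  have hsq : ∀ w : W, w * w = 1 := by
    intro w
    obtain ⟨v, rfl⟩ := hπ w
    rw [← map_mul]
    have : v * v = 1 := Subtype.ext (h.zl_sq _ v.2)
    rw [this, map_one]
  have h3 : ∀ s : SL F, orderOf s = 3 → ∀ w, ρ s w = w → w = 1 := by
    intro s hs w hw
    obtain ⟨y, rfl, hy⟩ := D.lift_odd s (by rw [hs]; decide)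
    obtain ⟨v, rfl⟩ := hπ w
    rw [hρ] at hw
    have h5 : π (⟨y * v * (y : G)⁻¹, zl_conj y.2 v.2⟩ * v⁻¹) = 1 := by rw [map_mul, map_inv, hw, mul_inv_cancel]
    rw [hπ1] at h5
    have hr : (y : G) * v * (y : G)⁻¹ * (v : G)⁻¹ ∈ rl B L := h5
    set r := (y : G) * v * (y : G)⁻¹ * (v : G)⁻¹ with hrd
    have e1 : (y : G) * v * (y : G)⁻¹ = r * v := by rw [hrd]; group
    have hyr : (y : G) * r * (y : G)⁻¹ = r := by rw [rl_comm hr y.2, mul_inv_cancel_right]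
    have hy3 : (y : G) * y * y = 1 := by
      have : y ^ 3 = 1 := by rw [← hs, ← hy]; exact pow_orderOf_eq_one y
      have := congrArg Subtype.val this
      simpa [pow_succ] using this
    have e2 : (y : G) * (r * v) * (y : G)⁻¹ = r * (r * v) := by
      calc (y : G) * (r * v) * (y : G)⁻¹ = ((y : G) * r * (y : G)⁻¹) * ((y : G) * v * (y : G)⁻¹) := by group
        _ = r * (r * v) := by rw [hyr, e1]
    have e3 : (v : G) = r * r * r * v := by
      calc (v : G) = ((y : G) * y * y) * v * ((y : G) * y * y)⁻¹ := by rw [hy3]; group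
        _ = y * (y * (y * v * (y : G)⁻¹) * (y : G)⁻¹) * (y : G)⁻¹ := by group
        _ = y * (r * (r * v)) * (y : G)⁻¹ := by rw [e1, e2]
        _ = ((y : G) * r * (y : G)⁻¹) * (y * (r * v) * (y : G)⁻¹) := by group
        _ = r * r * r * v := by rw [hyr, e2]; group
    have hrr : r * r = 1 := h.zl_sq _ (rl_le_zl B L hr)
    rw [hrr, one_mul] at e3
    have hr1 : r = 1 := by
      have := mul_right_cancel (b := (v : G)) (a := 1) (c := r) (by rw [one_mul]; exact e3)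
      exact this.symm
    rw [hπ1]
    refine h.fpf y y.2 ?_ v v.2 ?_
    · rw [Subgroup.orderOf_coe, hy, hs]
    · rw [hr1, one_mul] at e1
      exact mul_inv_eq_iff_eq_mul.1 e1
  have hqW : Nat.card W = Fintype.card F ^ 2 := by rw [hcW, D.card]
  by_contra hvr
  have hw1 : π ⟨v, hv⟩ ≠ 1 := fun h0 => hvr ((hπ1 _).1 h0)
  have hρx : ρ (D.φ ⟨x, hx⟩) (π ⟨v, hv⟩) = π ⟨v, hv⟩ := by
    rw [hρ]
    have h5 : π (⟨x * v * x⁻¹, zl_conj hx hv⟩ * ⟨v, hv⟩⁻¹) = 1 := (hπ1 _).2 hc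
    rw [map_mul, map_inv, mul_inv_eq_one] at h5
    exact h5
  obtain ⟨z, hz, hzr⟩ : ∃ z ∈ zc B, z ∉ rl B L := by
    by_contra hcon
    push Not at hcon
    have h5 : rl B L = zc B := le_antisymm (rl_le_zc B L) hcon
    have h6 := h.rl_index
    rw [h5, relIndex_self] at h6
    have := h.four
    omega
  have hw0 : π ⟨z, zc_le_zl B L hz⟩ ≠ 1 := fun h0 => hzr ((hπ1 _).1 h0)
  have hU : ∀ b ∈ (D.U : Subgroup (SL F)), ρ b (π ⟨z, zc_le_zl B L hz⟩) = π ⟨z, zc_le_zl B L hz⟩ := by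
    intro b hb
    obtain ⟨y, rfl⟩ := D.surj b
    rw [hρ]
    congr 1
    apply Subtype.ext
    show (y : G) * z * (y : G)⁻¹ = z
    rw [zc_comm ((D.memU y).1 hb) hz, mul_inv_cancel_right]
  obtain ⟨s, hs⟩ := T1Local.trans hsq ρ h3 hqW D.U hw0 hU hw1
  have h6 : ρ (s⁻¹ * D.φ ⟨x, hx⟩ * s) (π ⟨z, zc_le_zl B L hz⟩) = π ⟨z, zc_le_zl B L hz⟩ := by
    rw [map_mul, map_mul, MulAut.mul_apply, MulAut.mul_apply, hs, hρx, ← hs, ← MulAut.mul_apply, ← map_mul,
      inv_mul_cancel, map_one]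
    rfl
  have h7 := T1Local.stab_eq hsq ρ h3 hqW D.U hw0 hU h6
  obtain ⟨k, hk⟩ := D.U.isPGroup' ⟨_, h7⟩
  have hk' : (s⁻¹ * D.φ ⟨x, hx⟩ * s) ^ 2 ^ k = 1 := congrArg Subtype.val hk
  have h8 : (D.φ ⟨x, hx⟩) ^ 2 ^ k = 1 := by
    have h9 : (s⁻¹ * D.φ ⟨x, hx⟩ * s) = MulAut.conj s⁻¹ (D.φ ⟨x, hx⟩) := by
      rw [MulAut.conj_apply, inv_inv]
    rw [h9, ← map_pow, map_eq_one_iff _ (MulAut.conj s⁻¹).injective] at hk'
    exact hk'
  have h9 : orderOf (D.φ ⟨x, hx⟩) ∣ 2 ^ k := orderOf_dvd_of_pow_eq_one h8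
  have h10 : orderOf (D.φ ⟨x, hx⟩) ∣ orderOf x := by
    have := orderOf_map_dvd D.φ (⟨x, hx⟩ : L)
    rwa [Subgroup.orderOf_mk] at this
  have h11 : orderOf (D.φ ⟨x, hx⟩) = 1 := by
    have hco : Nat.Coprime (orderOf x) (2 ^ k) := Nat.Coprime.pow_right k (Nat.coprime_two_right.2 ho)
    exact Nat.eq_one_of_dvd_coprimes hco h10 h9
  rw [orderOf_eq_one_iff, D.ker] at h11
  obtain ⟨j, hj⟩ := FinalBridge.o2_isPGroup L ⟨x, h11⟩
  have hj' : x ^ 2 ^ j = 1 := congrArg Subtype.val hj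
  have h12 : orderOf x ∣ 2 ^ j := orderOf_dvd_of_pow_eq_one hj'
  have hco : Nat.Coprime (orderOf x) (2 ^ j) := Nat.Coprime.pow_right j (Nat.coprime_two_right.2 ho)
  exact hx1 (orderOf_eq_one_iff.1 (Nat.eq_one_of_dvd_coprimes hco dvd_rfl h12))

/-! ### The torus -/

/-- a group acting transitively on `U#` with the right order acts regularly -/
theorem eq_one_of_regular {S : Type*} [Group S] [Finite S] {U K : Subgroup S} (hcard : Nat.card K = Nat.card U - 1)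
    (hn : ∀ k ∈ K, ∀ a ∈ U, k * a * k⁻¹ ∈ U)
    (htr : ∀ a ∈ U, ∀ b ∈ U, a ≠ 1 → b ≠ 1 → ∃ k ∈ K, k * a * k⁻¹ = b) {k a : S} (hk : k ∈ K) (ha : a ∈ U)
    (ha1 : a ≠ 1) (hc : k * a * k⁻¹ = a) : k = 1 := by
  classical
  let f : K → {u : U // u ≠ 1} := fun x => ⟨⟨x * a * (x : S)⁻¹, hn x x.2 a ha⟩, fun h => ha1 (by
    have h1 : (x : S) * a * (x : S)⁻¹ = 1 := congrArg Subtype.val h
    calc a = (x : S)⁻¹ * ((x : S) * a * (x : S)⁻¹) * x := by group
      _ = 1 := by rw [h1]; group)⟩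
  have hf : Function.Surjective f := by
    rintro ⟨⟨b, hb⟩, hb1⟩
    obtain ⟨x, hx, hxb⟩ := htr a ha b hb ha1 (fun h => hb1 (Subtype.ext h))
    exact ⟨⟨x, hx⟩, Subtype.ext (Subtype.ext hxb)⟩
  have h1 : Nat.card {u : U // u ≠ 1} = Nat.card U - 1 := by
    have h2 := Set.ncard_add_ncard_compl ({1} : Set U)
    rw [Set.ncard_singleton] at h2
    have h3 : Nat.card {u : U // u ≠ 1} = ({1} : Set U)ᶜ.ncard := by
      rw [← Nat.card_coe_set_eq]
      rfl
    omega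
  have hf' : Function.Injective f :=
    ((Nat.bijective_iff_surjective_and_card f).2 ⟨hf, by rw [hcard, h1]⟩).1
  have h4 : f ⟨k, hk⟩ = f 1 := by
    apply Subtype.ext; apply Subtype.ext
    show k * a * k⁻¹ = (1 : S) * a * (1 : S)⁻¹
    rw [hc]; group
  exact congrArg Subtype.val (hf' h4)

/-- the torus of a block -/
theorem exists_torus [Finite G] (h : LBlk B L q) : ∃ K : Subgroup G, K ≤ L ∧ IsCyclic K ∧ Nat.card K = q - 1 ∧
    (∀ k ∈ K, ∀ x ∈ B, k * x * k⁻¹ ∈ B) ∧ (∀ g ∈ L, (∀ x ∈ B, g * x * g⁻¹ ∈ B) → ∃ t ∈ B, ∃ k ∈ K, g = t * k) ∧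
    (∀ k ∈ K, k ≠ 1 → ∀ b ∈ B, k * b * k⁻¹ * b⁻¹ ∈ o2 L → b ∈ o2 L) := by
  obtain ⟨F, _, _, _, ⟨D⟩⟩ := exists_dat h
  obtain ⟨U', hU'⟩ := D.exists_ne
  obtain ⟨K, hcyc, hcard, hmem, hfac, htr⟩ := T1Sl2.exists_torus hU'
  obtain ⟨s, hs⟩ := hcyc.exists_generator
  have hs1 : orderOf (s : SL F) = q - 1 := by
    rw [Subgroup.orderOf_coe, orderOf_eq_card_of_forall_mem_zpowers hs, hcard, D.card]
  obtain ⟨n, hn, hqn⟩ := pow h
  have hodd : Odd (q - 1) := by
    rw [hqn]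
    obtain ⟨m, rfl⟩ := Nat.exists_eq_add_of_le' (show 1 ≤ n by omega)
    rw [pow_succ]
    have : 0 < 2 ^ m := by positivity
    exact ⟨2 ^ m - 1, by omega⟩
  obtain ⟨x, hx, hx1⟩ := D.lift_odd (s : SL F) (by rw [hs1]; exact hodd)
  have hsK : ∀ j : ℤ, (s : SL F) ^ j ∈ K := fun j => K.zpow_mem s.2 j
  have hnor : ∀ k ∈ Subgroup.zpowers x, ∀ y ∈ B, (k : G) * y * (k : G)⁻¹ ∈ B := by
    intro k hk
    rw [← D.smul_iff]
    obtain ⟨j, rfl⟩ := hk
    apply Sylow.smul_eq_iff_mem_normalizer.2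
    show D.φ (x ^ j) ∈ _
    rw [map_zpow, hx]
    exact ((hmem _).1 (hsK j)).1
  refine ⟨(Subgroup.zpowers x).map L.subtype, Subgroup.map_subtype_le _, ?_, ?_, ?_, ?_, ?_⟩
  · exact isCyclic_of_surjective _ ((Subgroup.equivMapOfInjective (Subgroup.zpowers x) L.subtype
      L.subtype_injective).surjective)
  · rw [Subgroup.card_map_of_injective L.subtype_injective, Nat.card_zpowers, hx1, hs1]
  · rintro _ ⟨k, hk, rfl⟩
    exact hnor k hk
  · intro g hg hgT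
    have h1 : D.φ ⟨g, hg⟩ • D.U = D.U := (D.smul_iff _).2 hgT
    obtain ⟨a, ha, k, hk, hgak⟩ := hfac _ (Sylow.smul_eq_iff_mem_normalizer.1 h1)
    obtain ⟨j, hj⟩ := hs ⟨k, hk⟩
    have hj' : (s : SL F) ^ j = k := congrArg Subtype.val hj
    have h2 : D.φ (⟨g, hg⟩ * (x ^ j)⁻¹) = a := by
      rw [map_mul, map_inv, map_zpow, hx, hj', hgak, mul_inv_cancel_right]
    refine ⟨g * ((x ^ j : L) : G)⁻¹, ?_, ((x ^ j : L) : G), ⟨x ^ j, ⟨j, rfl⟩, rfl⟩, by group⟩
    rw [← h2] at ha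
    exact (D.memU _).1 ha
  · rintro _ ⟨k, ⟨j, rfl⟩, rfl⟩ hk1 b hb hbQ
    by_contra hbn
    have hbL : b ∈ L := h.le hb
    have hb1 : D.φ ⟨b, hbL⟩ ≠ 1 := fun h0 => hbn ((D.ker _).1 h0)
    have h1 : D.φ (x ^ j * ⟨b, hbL⟩ * (x ^ j)⁻¹ * ⟨b, hbL⟩⁻¹) = 1 := (D.ker _).2 hbQ
    rw [map_mul, map_mul, map_mul, map_inv, map_inv, map_zpow, hx, mul_inv_eq_one] at h1
    have h2 : (s : SL F) ^ j = 1 := by
      refine eq_one_of_regular (U := (D.U : Subgroup (SL F))) (K := K) ?_ ?_ htr (hsK j) ((D.memU _).2 hb) hb1 h1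
      · rw [hcard, ← T1Sl2.card_sylow D.U]
      · intro k hk a ha
        have := (Subgroup.mem_normalizer_iff.1 ((hmem k).1 hk).1 a).1 ha
        exact this
    apply hk1
    show ((x ^ j : L) : G) = 1
    have h3 : x ^ j = 1 := by
      rw [← orderOf_dvd_iff_zpow_eq_one, hx1, orderOf_dvd_iff_zpow_eq_one]
      exact h2
    rw [h3]; rfl

/-- odd order elements normalising `B`: `C_B(k) = R` -/
theorem cent_torus [Finite G] (h : LBlk B L q) (hQ : o2 L = zl B L) {k b : G} (hk : k ∈ L) (ho : Odd (orderOf k))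
    (hk1 : k ≠ 1) (hkB : ∀ b ∈ B, k * b * k⁻¹ * b⁻¹ ∈ o2 L → b ∈ o2 L) (hb : b ∈ B) (hc : k * b = b * k) :
    b ∈ rl B L := by
  have e : k * b * k⁻¹ * b⁻¹ = 1 := by rw [hc]; group
  have h1 : b ∈ zl B L := by
    rw [← hQ]
    apply hkB b hb
    rw [e]; exact one_mem _
  exact fpf_odd h hk ho hk1 h1 (by rw [e]; exact one_mem _)

end Cfsg.Agent.OddCyclic.COneBlk
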