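import Mathlib
import Cfsg.Agent.OddCyclic.CompBasic
import Cfsg.Agent.OddOrderLocal.CyclicSub

/-!
# Cyclic subgroups of odd order in a group with cyclic odd Sylow subgroups

(R5): cyclic subgroups of the same odd order contained in a subgroup `H` are conjugate in `H`.
-/

set_option autoImplicit false

namespace Cfsg.Agent.OddCyclic.CycConj

open Subgroup
open Cfsg.Agent.OddCyclic.T1Defs

variable {G : Type*} [Group G]

theorem zpowers_eq_of_pow {x : G} {a b : ℕ} (hco : Nat.Coprime a b) :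
    zpowers x = zpowers (x ^ a) ⊔ zpowers (x ^ b) := by
  apply le_antisymm
  · rw [zpowers_le]
    have h1 : (a : ℤ) * Nat.gcdA a b + (b : ℤ) * Nat.gcdB a b = 1 := by
      have := Nat.gcd_eq_gcd_ab a b
      rw [hco] at this
      exact_mod_cast this.symm
    have h2 : x = (x ^ a) ^ (Nat.gcdA a b) * (x ^ b) ^ (Nat.gcdB a b) := by
      rw [← zpow_natCast, ← zpow_natCast, ← zpow_mul, ← zpow_mul, ← zpow_add, h1, zpow_one]
    have h3 : (x ^ a) ^ (Nat.gcdA a b) * (x ^ b) ^ (Nat.gcdB a b) ∈ zpowers (x ^ a) ⊔ zpowers (x ^ b) :=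
      mul_mem (mem_sup_left (zpow_mem (mem_zpowers _) _)) (mem_sup_right (zpow_mem (mem_zpowers _) _))
    rwa [← h2] at h3
  · exact sup_le (zpowers_le.2 (pow_mem (mem_zpowers x) _)) (zpowers_le.2 (pow_mem (mem_zpowers x) _))

theorem map_zpowers_conj (g y : G) : (zpowers y).map (MulAut.conj g).toMonoidHom = zpowers (g * y * g⁻¹) := by
  rw [MonoidHom.map_zpowers]
  rfl

/-- `r`-elements of the same order generate conjugate subgroups -/
theorem prime_power [Finite G] (hG : OddCyc G) {r a : ℕ} (hr : r.Prime) (hr2 : r ≠ 2) {H : Subgroup G} {x y : G} (hx : x ∈ H)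
    (hy : y ∈ H) (hox : orderOf x = r ^ a) (hoy : orderOf y = r ^ a) :
    ∃ g ∈ H, zpowers (g * y * g⁻¹) = zpowers x := by
  have _ : Fact r.Prime := ⟨hr⟩
  have h1 : IsPGroup r (zpowers (⟨x, hx⟩ : H)) := by
    refine IsPGroup.of_card (n := a) ?_
    rw [Nat.card_zpowers, Subgroup.orderOf_mk, hox]
  have h2 : IsPGroup r (zpowers (⟨y, hy⟩ : H)) := by
    refine IsPGroup.of_card (n := a) ?_
    rw [Nat.card_zpowers, Subgroup.orderOf_mk, hoy]
  obtain ⟨P, hP⟩ := h1.exists_le_sylow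
  obtain ⟨P', hP'⟩ := h2.exists_le_sylow
  obtain ⟨h, hh⟩ := MulAction.exists_smul_eq H P' P
  have hc : IsCyclic P := CompBasic.oddCyc_subgroup hG H r P hr hr2
  have h3 : h * ⟨y, hy⟩ * h⁻¹ ∈ (P : Subgroup H) := by
    rw [← hh, Sylow.coe_subgroup_smul]
    exact ⟨⟨y, hy⟩, hP' (mem_zpowers _), rfl⟩
  have h4 : zpowers (h * ⟨y, hy⟩ * h⁻¹) = zpowers (⟨x, hx⟩ : H) := by
    refine Cfsg.Agent.OddOrderLocal.CyclicSub.eq_of_card_eq_of_le_cyclic hc (zpowers_le.2 h3) hP ?_
    have e : orderOf (h * ⟨y, hy⟩ * h⁻¹) = orderOf (⟨y, hy⟩ : H) := by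
      have := orderOf_injective (MulAut.conj h).toMonoidHom (MulAut.conj h).injective (⟨y, hy⟩ : H)
      simpa using this
    rw [Nat.card_zpowers, Nat.card_zpowers, e, Subgroup.orderOf_mk, Subgroup.orderOf_mk, hox, hoy]
  refine ⟨h, h.2, ?_⟩
  have h5 := congrArg (Subgroup.map H.subtype) h4
  rw [MonoidHom.map_zpowers, MonoidHom.map_zpowers] at h5
  exact h5

/-- (R5), elements -/
theorem zpowers_conj [Finite G] (hG : OddCyc G) (n : ℕ) : ∀ (H : Subgroup G) (x y : G), x ∈ H → y ∈ H → orderOf x = n →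
    orderOf y = n → Odd n → ∃ g ∈ H, zpowers (g * y * g⁻¹) = zpowers x := by
  induction n using Nat.strong_induction_on with
  | _ n ih =>
    intro H x y hx hy hox hoy hodd
    by_cases hn1 : n = 1
    · rw [hn1, orderOf_eq_one_iff] at hox hoy
      exact ⟨1, one_mem H, by rw [hox, hoy]; simp⟩
    have hn0 : n ≠ 0 := by rintro rfl; exact absurd hodd (by decide)
    set r := n.minFac with hrd
    have hr : r.Prime := Nat.minFac_prime hn1
    have hrn : r ∣ n := Nat.minFac_dvd n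
    have hr2 : r ≠ 2 := by
      intro h2
      rw [h2] at hrn
      exact (Nat.not_even_iff_odd.2 hodd) (even_iff_two_dvd.2 hrn)
    obtain ⟨a, m, hrm, hnm⟩ := Nat.exists_eq_pow_mul_and_not_dvd hn0 r hr.ne_one
    have ha : a ≠ 0 := by
      rintro rfl
      rw [pow_zero, one_mul] at hnm
      exact hrm (hnm ▸ hrn)
    have hm0 : m ≠ 0 := by rintro rfl; exact hrm (dvd_zero r)
    have hco : Nat.Coprime m (r ^ a) := by
      apply Nat.Coprime.pow_right
      exact ((Nat.Prime.coprime_iff_not_dvd hr).2 hrm).symm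
    have hpos : 0 < r ^ a := pow_pos hr.pos a
    have hx1 : orderOf (x ^ m) = r ^ a := by
      rw [orderOf_pow' x hm0, hox, hnm, Nat.gcd_eq_right (Dvd.intro_left _ rfl), Nat.mul_div_cancel _ (Nat.pos_of_ne_zero hm0)]
    have hy1 : orderOf (y ^ m) = r ^ a := by
      rw [orderOf_pow' y hm0, hoy, hnm, Nat.gcd_eq_right (Dvd.intro_left _ rfl), Nat.mul_div_cancel _ (Nat.pos_of_ne_zero hm0)]
    have hx2 : orderOf (x ^ (r ^ a)) = m := by
      rw [orderOf_pow' x hpos.ne', hox, hnm, Nat.gcd_eq_right (Dvd.intro _ rfl), Nat.mul_div_cancel_left _ hpos]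
    have hy2 : orderOf (y ^ (r ^ a)) = m := by
      rw [orderOf_pow' y hpos.ne', hoy, hnm, Nat.gcd_eq_right (Dvd.intro _ rfl), Nat.mul_div_cancel_left _ hpos]
    obtain ⟨g₁, hg₁, hg₁e⟩ := prime_power hG hr hr2 (H.pow_mem hx m) (H.pow_mem hy m) hx1 hy1
    set y' := g₁ * y * g₁⁻¹ with hy'
    have hy'm : y' ^ m = g₁ * y ^ m * g₁⁻¹ := by rw [hy', conj_pow]
    have hy'H : y' ∈ H := mul_mem (mul_mem hg₁ hy) (inv_mem hg₁)
    set C : Subgroup G := H ⊓ centralizer (zpowers (x ^ m) : Set G) with hC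
    have hcomm : ∀ z : G, ∀ i j : ℕ, z ^ i * z ^ j = z ^ j * z ^ i := fun z i j => by rw [← pow_add, ← pow_add, add_comm]
    have hxC : x ^ (r ^ a) ∈ C := by
      refine ⟨H.pow_mem hx _, mem_centralizer_iff.2 ?_⟩
      intro w hw
      obtain ⟨k, rfl⟩ := mem_zpowers_iff.1 hw
      exact ((show Commute (x ^ m) (x ^ (r ^ a)) from hcomm x m _).zpow_left k).eq
    have hyC : y' ^ (r ^ a) ∈ C := by
      refine ⟨H.pow_mem hy'H _, mem_centralizer_iff.2 ?_⟩
      intro w hw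
      rw [SetLike.mem_coe, ← hg₁e, ← hy'm] at hw
      obtain ⟨k, rfl⟩ := mem_zpowers_iff.1 hw
      exact ((show Commute (y' ^ m) (y' ^ (r ^ a)) from hcomm y' m _).zpow_left k).eq
    have hoy' : orderOf (y' ^ (r ^ a)) = m := by
      rw [hy', conj_pow]
      have := orderOf_injective (MulAut.conj g₁).toMonoidHom (MulAut.conj g₁).injective (y ^ (r ^ a))
      rw [← hy2]
      simpa using this
    have hmn : m < n := by
      rw [hnm]
      have : 1 < r ^ a := Nat.one_lt_pow ha hr.one_lt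
      nlinarith [Nat.pos_of_ne_zero hm0]
    have hmodd : Odd m := by
      rw [hnm] at hodd
      exact (Nat.odd_mul.1 hodd).2
    obtain ⟨g₂, hg₂, hg₂e⟩ := ih m hmn C _ _ hxC hyC hx2 hoy' hmodd
    refine ⟨g₂ * g₁, mul_mem hg₂.1 hg₁, ?_⟩
    have e1 : g₂ * g₁ * y * (g₂ * g₁)⁻¹ = g₂ * y' * g₂⁻¹ := by rw [hy']; group
    rw [e1, ← map_zpowers_conj, zpowers_eq_of_pow (x := y') hco, Subgroup.map_sup, map_zpowers_conj, map_zpowers_conj, hg₂e,
      zpowers_eq_of_pow (x := x) hco]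
    congr 1
    rw [← map_zpowers_conj, hy'm, hg₁e]
    ext w
    constructor
    · rintro ⟨v, hv, rfl⟩
      have h6 := mem_centralizer_iff.1 hg₂.2 v hv
      show g₂ * v * g₂⁻¹ ∈ _
      rw [← h6, mul_inv_cancel_right]
      exact hv
    · intro hw
      have h6 := mem_centralizer_iff.1 hg₂.2 w hw
      refine ⟨w, hw, ?_⟩
      show g₂ * w * g₂⁻¹ = w
      rw [← h6, mul_inv_cancel_right]

/-- **(R5)** cyclic subgroups of the same odd order are conjugate in every subgroup containing them -/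
theorem exists_conj [Finite G] (hG : OddCyc G) {H A A' : Subgroup G} (hA : IsCyclic A) (hA' : IsCyclic A') (hAH : A ≤ H)
    (hA'H : A' ≤ H) (hcard : Nat.card A = Nat.card A') (hodd : Odd (Nat.card A)) :
    ∃ g ∈ H, A'.map (MulAut.conj g).toMonoidHom = A := by
  obtain ⟨x, hx⟩ := hA.exists_generator
  obtain ⟨y, hy⟩ := hA'.exists_generator
  have hxA : zpowers (x : G) = A := by
    apply le_antisymm (zpowers_le.2 x.2)
    intro w hw
    obtain ⟨k, hk⟩ := mem_zpowers_iff.1 (hx ⟨w, hw⟩)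
    exact mem_zpowers_iff.2 ⟨k, congrArg Subtype.val hk⟩
  have hyA : zpowers (y : G) = A' := by
    apply le_antisymm (zpowers_le.2 y.2)
    intro w hw
    obtain ⟨k, hk⟩ := mem_zpowers_iff.1 (hy ⟨w, hw⟩)
    exact mem_zpowers_iff.2 ⟨k, congrArg Subtype.val hk⟩
  obtain ⟨g, hg, he⟩ := zpowers_conj hG (Nat.card A) H x y (hAH x.2) (hA'H y.2)
    (by rw [← Nat.card_zpowers, hxA]) (by rw [← Nat.card_zpowers, hyA, hcard]) hodd
  refine ⟨g, hg, ?_⟩
  rw [← hyA, map_zpowers_conj, he, hxA]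

end Cfsg.Agent.OddCyclic.CycConj
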