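import Mathlib
import Cfsg.Agent.OddCyclic.COneBlk
import Cfsg.Agent.OddCyclic.CycConj
import Cfsg.Agent.OddCyclic.T1Torus
import Cfsg.Agent.LieExceptional.CITGlobal

/-!
# Two `SL₂(q)`-blocks over the same Sylow 2-subgroup: the noncommuting case

`L`, `L'` are `SL₂(q)`-, `SL₂(q')`-blocks over `B`, `V = zl B L`, `V' = zl B L'` do not commute.
-/

set_option autoImplicit false

namespace Cfsg.Agent.OddCyclic.COnePair

open Subgroup Cfsg Cfsg.Agent.ZN
open Cfsg.Agent.OddCyclic.COneDefs Cfsg.Agent.OddCyclic.COneBlk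
open Cfsg.Agent.OddCyclic.T1Local (SL)
open Cfsg.Agent.OddCyclic.T1Defs
open Cfsg.Agent.LieExceptional Cfsg.Agent.LieExceptional.CITDefs
open Cfsg.Agent.LieExceptional.CITPlaneCount (cj mem_cj card_cj conj_mem_cj cj_mul cj_one)

universe u v

/-! ### Transport of blocks -/

section Map

variable {K : Type v} {G : Type u} [Group K] [Group G]

theorem LBlk_map {B L : Subgroup K} {q : ℕ} (h : LBlk B L q) (f : K →* G) (hf : Function.Injective f) :
    LBlk (B.map f) (L.map f) q where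
  le := Subgroup.map_mono h.le
  two := h.two.map f
  four := h.four
  iso := by
    obtain ⟨F, i1, i2, i3, φ, hφ, hk, hc⟩ := h.iso
    let e := L.equivMapOfInjective f hf
    refine ⟨F, i1, i2, i3, φ.comp e.symm.toMonoidHom, ?_, ?_, hc⟩
    · exact hφ.comp e.symm.surjective
    · ext x
      obtain ⟨y, rfl⟩ := e.surjective x
      rw [MonoidHom.mem_ker, mem_subgroupOf, o2_map f hf]
      have h1 : (φ.comp e.symm.toMonoidHom) (e y) = φ y := by
        simp
      rw [h1, ← MonoidHom.mem_ker, hk, mem_subgroupOf]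
      have h2 : ((e y : L.map f) : G) = f y := rfl
      rw [h2, mem_map_iff_mem hf]
  o2_le := by rw [o2_map f hf]; exact Subgroup.map_mono h.o2_le
  o2_index := by rw [o2_map f hf, relIndex_map_map_of_injective _ _ hf, h.o2_index]
  self_cent := by
    rw [o2_map f hf, centralizer_map_inf f hf]
    exact Subgroup.map_mono h.self_cent
  zl_comm := by
    rw [zl_map f hf]
    rintro _ ⟨x, hx, rfl⟩ _ ⟨y, hy, rfl⟩
    rw [← map_mul, ← map_mul, h.zl_comm x hx y hy]
  zl_sq := by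
    rw [zl_map f hf]
    rintro _ ⟨x, hx, rfl⟩
    rw [← map_mul, h.zl_sq x hx, map_one]
  cent_zl := by rw [zl_map f hf, o2_map f hf, centralizer_map_inf f hf, h.cent_zl]
  rl_index := by rw [zc_map f hf, rl_map f hf, relIndex_map_map_of_injective _ _ hf, h.rl_index]
  zl_index := by rw [zc_map f hf, zl_map f hf, relIndex_map_map_of_injective _ _ hf, h.zl_index]
  comm := by
    rw [zl_map f hf, zc_map f hf]
    rintro _ ⟨b, hb, rfl⟩ _ ⟨v, hv, rfl⟩
    exact ⟨_, h.comm b hb v hv, by simp⟩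
  cent := by
    rw [zl_map f hf, zc_map f hf, o2_map f hf]
    rintro _ ⟨b, hb, rfl⟩ hbo _ ⟨v, hv, rfl⟩ hc
    rw [mem_map_iff_mem hf] at hbo ⊢
    rw [← map_mul, ← map_mul] at hc
    exact h.cent b hb hbo v hv (hf hc)
  fpf := by
    rw [zl_map f hf, rl_map f hf]
    rintro _ ⟨x, hx, rfl⟩ ho _ ⟨v, hv, rfl⟩ hc
    rw [mem_map_iff_mem hf]
    rw [← map_mul, ← map_mul] at hc
    rw [orderOf_injective f hf] at ho
    exact h.fpf x hx ho v hv (hf hc)

end Map

variable {G : Type u} [Group G]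

theorem LBlk_cj {B L : Subgroup G} {q : ℕ} (h : LBlk B L q) (g : G) : LBlk (cj g B) (cj g L) q :=
  LBlk_map h _ (MulAut.conj g).injective

theorem zl_cj (g : G) (B L : Subgroup G) : zl (cj g B) (cj g L) = cj g (zl B L) :=
  zl_map _ (MulAut.conj g).injective B L

theorem rl_cj (g : G) (B L : Subgroup G) : rl (cj g B) (cj g L) = cj g (rl B L) :=
  rl_map _ (MulAut.conj g).injective B L

theorem zc_cj (g : G) (B : Subgroup G) : zc (cj g B) = cj g (zc B) :=
  zc_map _ (MulAut.conj g).injective B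

theorem o2_cj (g : G) (L : Subgroup G) : o2 (cj g L) = cj g (o2 L) :=
  o2_map _ (MulAut.conj g).injective L

/-! ### Covering lemma -/

theorem exists_of_relIndex [Finite G] {W Q B : Subgroup G} (hWB : W ≤ B) (hle : Q.relIndex B ≤ Q.relIndex W) {b : G}
    (hb : b ∈ B) : ∃ w ∈ W, w⁻¹ * b ∈ Q := by
  let f := Subgroup.quotientSubgroupOfEmbeddingOfLE Q hWB
  have hf : Function.Bijective f := by
    rw [Nat.bijective_iff_injective_and_card]
    refine ⟨f.injective, le_antisymm (Nat.card_le_card_of_injective f f.injective) hle⟩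
  obtain ⟨x, hx⟩ := hf.2 (QuotientGroup.mk ⟨b, hb⟩)
  induction x using QuotientGroup.induction_on with | _ w => ?_
  refine ⟨w, w.2, ?_⟩
  have h1 : (QuotientGroup.mk (Subgroup.inclusion hWB w) : B ⧸ Q.subgroupOf B) = QuotientGroup.mk ⟨b, hb⟩ := hx
  rw [QuotientGroup.eq, mem_subgroupOf] at h1
  exact h1

theorem relIndex_pos' [Finite G] (A C : Subgroup G) : 0 < A.relIndex C :=
  Nat.pos_of_ne_zero Subgroup.index_ne_zero_of_finite

theorem le_relIndex [Finite G] {A A' C : Subgroup G} (h : A' ≤ A) : A.relIndex C ≤ A'.relIndex C :=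
  Nat.le_of_dvd (relIndex_pos' A' C) (relIndex_dvd_of_le_left C h)

/-! ### One block -/

section One

variable {B L : Subgroup G} {q : ℕ}

theorem zl_le_o2 (h : LBlk B L q) : zl B L ≤ o2 L := by
  refine FinalBridge.le_o2 (FinalBridge.zl_le h.le) (fun x => ⟨1, Subtype.ext ?_⟩)
    (FinalBridge.le_normalizer_zl _ _)
  rw [pow_one, pow_two]
  exact h.zl_sq _ x.2

theorem zl_le (h : LBlk B L q) : zl B L ≤ B := (zl_le_o2 h).trans h.o2_le

theorem o2_comm (h : LBlk B L q) {x v : G} (hx : x ∈ o2 L) (hv : v ∈ zl B L) : x * v = v * x := by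
  rw [← h.cent_zl] at hx
  exact (mem_centralizer_iff.1 hx.2 v hv).symm

theorem elem (h : LBlk B L q) : Elem (zl B L) := h.zl_sq

end One

/-- two blocks over the same Sylow 2-subgroup `B`, `V = zl B L`, `V' = zl B L'` do not commute -/
structure Pr (B L L' : Subgroup G) (q q' : ℕ) : Prop where
  b1 : LBlk B L q
  b2 : LBlk B L' q'
  nc : ∃ v ∈ zl B L, ∃ u ∈ zl B L', v * u ≠ u * v

section Two

variable {B L L' : Subgroup G} {q q' : ℕ}

theorem Pr.symm (h : Pr B L L' q q') : Pr B L' L q' q := by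
  obtain ⟨v, hv, u, hu, hne⟩ := h.nc
  exact ⟨h.b2, h.b1, u, hu, v, hv, fun h1 => hne h1.symm⟩

/-- `V' ⊓ Q ≤ Z` -/
theorem Pr.mem_Z (h : Pr B L L' q q') {u : G} (hu : u ∈ zl B L') (hQ : u ∈ o2 L) : u ∈ zc B := by
  obtain ⟨v₀, hv₀, u₀, hu₀, hne⟩ := h.nc
  have h1 : v₀ ∉ o2 L' := fun h1 => hne (o2_comm h.b2 h1 hu₀)
  exact h.b2.cent v₀ (zl_le h.b1 hv₀) h1 u hu (o2_comm h.b1 hQ hv₀).symm

theorem Pr.index_le [Finite G] (h : Pr B L L' q q') : q' ≤ (o2 L).relIndex (zl B L') := by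
  rw [← h.b2.zl_index, ← inf_relIndex_right (o2 L)]
  exact le_relIndex fun x hx => h.mem_Z hx.2 hx.1

theorem Pr.le [Finite G] (h : Pr B L L' q q') : q' ≤ q := by
  refine h.index_le.trans ?_
  rw [← h.b1.o2_index]
  exact Nat.card_le_card_of_injective _ (Subgroup.quotientSubgroupOfEmbeddingOfLE (o2 L) (zl_le h.b2)).injective

theorem Pr.eq [Finite G] (h : Pr B L L' q q') : q = q' := le_antisymm h.symm.le h.le

/-- `B = V' Q` -/
theorem Pr.cover [Finite G] (h : Pr B L L' q q') {b : G} (hb : b ∈ B) : ∃ u ∈ zl B L', u⁻¹ * b ∈ o2 L := by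
  refine exists_of_relIndex (zl_le h.b2) ?_ hb
  rw [h.b1.o2_index, h.eq]
  exact h.index_le

/-- the squares of `Q` and of `Q'` are the squares of `Q ⊓ Q'` -/
theorem Pr.exists_sq [Finite G] (h : Pr B L L' q q') {y : G} (hy : y ∈ o2 L') : ∃ d ∈ o2 L, d * d = y * y := by
  obtain ⟨u, hu, hd⟩ := h.cover (h.b2.o2_le hy)
  refine ⟨u⁻¹ * y, hd, ?_⟩
  have e4 := o2_comm h.b2 (mul_mem (inv_mem (zl_le_o2 h.b2 hu)) hy) hu
  symm
  calc y * y = u * ((u⁻¹ * y) * u) * (u⁻¹ * y) := by group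
    _ = u * (u * (u⁻¹ * y)) * (u⁻¹ * y) := by rw [e4]
    _ = (u * u) * ((u⁻¹ * y) * (u⁻¹ * y)) := by group
    _ = _ := by rw [h.b2.zl_sq u hu, one_mul]

/-- the subgroup generated by the squares of `O₂(L)` -/
def sqs (L : Subgroup G) : Subgroup G := closure {x | ∃ y ∈ o2 L, x = y * y}

theorem sqs_le (L : Subgroup G) : sqs L ≤ o2 L := by
  rw [sqs, closure_le]
  rintro _ ⟨y, hy, rfl⟩
  exact mul_mem hy hy

theorem le_normalizer_sqs (L : Subgroup G) : normalizer (L : Set G) ≤ normalizer (sqs L : Set G) := by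
  rw [le_normalizer_iff]
  intro g hg
  have : sqs L ≤ (sqs L).comap (MulAut.conj g).toMonoidHom := by
    conv_lhs => rw [sqs]
    rw [closure_le]
    rintro _ ⟨y, hy, rfl⟩
    change g * (y * y) * g⁻¹ ∈ sqs L
    have e : g * (y * y) * g⁻¹ = (g * y * g⁻¹) * (g * y * g⁻¹) := by group
    rw [e]
    exact subset_closure ⟨_, FinalBridge.o2_conj hg hy, rfl⟩
  exact fun r hr => this hr

theorem Pr.sqs_le_sqs [Finite G] (h : Pr B L L' q q') : sqs L' ≤ sqs L := by
  rw [sqs, closure_le]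
  rintro _ ⟨y, hy, rfl⟩
  obtain ⟨d, hd, he⟩ := h.exists_sq hy
  rw [← he]
  exact subset_closure ⟨d, hd, rfl⟩

theorem Pr.sqs_eq [Finite G] (h : Pr B L L' q q') : sqs L = sqs L' :=
  le_antisymm h.symm.sqs_le_sqs h.sqs_le_sqs

theorem sq_eq_one (hs : sqs L = ⊥) {x : G} (hx : x ∈ o2 L) : x * x = 1 := by
  have : x * x ∈ sqs L := subset_closure ⟨x, hx, rfl⟩
  rwa [hs, mem_bot] at this

/-- `Q = V` -/
theorem Pr.o2_eq [Finite G] (h : Pr B L L' q q') (hs : sqs L = ⊥) : o2 L = zl B L := by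
  apply le_antisymm _ (zl_le_o2 h.b1)
  have hE : Elem (o2 L) := fun x hx => sq_eq_one hs hx
  intro x hx
  obtain ⟨v, hv, hd⟩ := h.symm.cover (h.b1.o2_le hx)
  have hdQ : v⁻¹ * x ∈ o2 L := mul_mem (inv_mem (zl_le_o2 h.b1 hv)) hx
  have h1 : v⁻¹ * x ∈ zc B := by
    refine FinalBridge.mem_zc.2 ⟨h.b1.o2_le hdQ, by rw [pow_two]; exact hE _ hdQ, fun b hb => ?_⟩
    obtain ⟨u, hu, hy⟩ := h.cover hb
    have e2 := hE.comm hy hdQ
    have e3 := o2_comm h.b2 hd hu
    set d := v⁻¹ * x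
    calc b * d = u * ((u⁻¹ * b) * d) := by group
      _ = u * d * (u⁻¹ * b) := by rw [e2]; group
      _ = d * b := by rw [← e3]; group
  have e : x = v * (v⁻¹ * x) := by group
  rw [e]
  exact mul_mem hv (FinalBridge.zc_le_zl _ _ h1)

end Two

/-- `Q = V`, `Q' = V'` -/
structure Pq (B L L' : Subgroup G) (q : ℕ) : Prop where
  pr : Pr B L L' q q
  sq : sqs L = ⊥

theorem Pr.toPq [Finite G] {B L L' : Subgroup G} {q q' : ℕ} (h : Pr B L L' q q') (hs : sqs L = ⊥) :
    Pq B L L' q := by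
  obtain rfl := h.eq
  exact ⟨h, hs⟩

section Pq

variable {B L L' : Subgroup G} {q : ℕ}

theorem Pq.symm [Finite G] (h : Pq B L L' q) : Pq B L' L q := ⟨h.pr.symm, by rw [← h.pr.sqs_eq]; exact h.sq⟩

theorem Pq.o2_eq [Finite G] (h : Pq B L L' q) : o2 L = zl B L := h.pr.o2_eq h.sq

theorem Pq.ne (h : Pq B L L' q) : zl B L' ≠ zl B L := by
  intro he
  obtain ⟨v, hv, u, hu, hne⟩ := h.pr.nc
  rw [he] at hu
  exact hne (h.pr.b1.zl_comm v hv u hu)

/-- `V ⊓ V' = Z` -/
theorem Pq.inf_eq (h : Pq B L L' q) : zl B L ⊓ zl B L' = zc B := by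
  apply le_antisymm
  · rintro x ⟨hx, hx'⟩
    exact h.pr.mem_Z hx' (zl_le_o2 h.pr.b1 hx)
  · exact le_inf (FinalBridge.zc_le_zl _ _) (FinalBridge.zc_le_zl _ _)

/-- elements of `V` and `V'` commute only if one of them lies in `Z` -/
theorem Pq.mem_of_comm [Finite G] (h : Pq B L L' q) {v w : G} (hv : v ∈ zl B L)
    (hw : w ∈ zl B L') (hc : v * w = w * v) : v ∈ zc B ∨ w ∈ zc B := by
  by_cases hwV : w ∈ o2 L
  · right
    exact h.pr.mem_Z hw hwV
  · left
    exact h.pr.b1.cent w (zl_le h.pr.b2 hw) hwV v hv hc.symm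

/-- `B = V' V` -/
theorem Pq.exists_mul [Finite G] (h : Pq B L L' q) {b : G} (hb : b ∈ B) :
    ∃ w ∈ zl B L', ∃ v ∈ zl B L, b = w * v := by
  obtain ⟨u, hu, hx⟩ := h.pr.cover hb
  rw [h.o2_eq] at hx
  exact ⟨u, hu, _, hx, by group⟩

theorem Pq.sup_eq [Finite G] (h : Pq B L L' q) : zl B L ⊔ zl B L' = B := by
  apply le_antisymm (sup_le (zl_le h.pr.b1) (zl_le h.pr.b2))
  intro b hb
  obtain ⟨w, hw, v, hv, rfl⟩ := h.exists_mul hb
  exact mul_mem (mem_sup_right hw) (mem_sup_left hv)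

/-- involutions of `B` lie in `V` or in `V'` -/
theorem Pq.mem_or [Finite G] (h : Pq B L L' q) {b : G} (hb : b ∈ B) (hbb : b * b = 1) :
    b ∈ zl B L ∨ b ∈ zl B L' := by
  obtain ⟨w, hw, v, hv, rfl⟩ := h.exists_mul hb
  have hww := elem h.pr.b2 w hw
  have hvv := elem h.pr.b1 v hv
  have hc : v * w = w * v := by
    calc v * w = w * w * v * w * v * v := by rw [hww, one_mul, mul_assoc, hvv, mul_one]
      _ = w * (w * v * (w * v)) * v := by group
      _ = w * v := by rw [hbb, mul_one]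
  rcases h.mem_of_comm hv hw hc with h1 | h1
  · right
    exact mul_mem hw (FinalBridge.zc_le_zl _ _ h1)
  · left
    exact mul_mem (FinalBridge.zc_le_zl _ _ h1) hv

theorem Pq.le_or [Finite G] (h : Pq B L L' q) {A : Subgroup G} (hA : A ≤ B) (hE : Elem A) :
    A ≤ zl B L ∨ A ≤ zl B L' :=
  CITPlaneCount.le_or_le fun x hx => h.mem_or (hA hx) (hE x hx)

theorem card_zl [Finite G] (h : LBlk B L q) : Nat.card (zl B L) = q * Nat.card (zc B) := by
  have h1 := h.zl_index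
  rw [relIndex] at h1
  have h2 := ((zc B).subgroupOf (zl B L)).card_mul_index
  rw [h1, Nat.card_congr (Subgroup.subgroupOfEquivOfLe (FinalBridge.zc_le_zl B L)).toEquiv] at h2
  rw [← h2, mul_comm]

/-- `N_G(B)` permutes `V` and `V'` -/
theorem Pq.perm [Finite G] (h : Pq B L L' q) {g : G} (hg : g ∈ normalizer (B : Set G))
    {A : Subgroup G} (hA : A ≤ B) (hE : Elem A) (hc : Nat.card A = Nat.card (zl B L)) :
    cj g A = zl B L ∨ cj g A = zl B L' := by
  have h1 : cj g A ≤ B := by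
    rintro _ ⟨a, ha, rfl⟩
    exact (mem_normalizer_iff.1 hg a).1 (hA ha)
  rcases h.le_or h1 (CITPlaneCount.elem_cj hE) with h2 | h2
  · left
    exact eq_of_le_of_card_ge h2 (by rw [card_cj, hc])
  · right
    refine eq_of_le_of_card_ge h2 ?_
    rw [card_cj, hc, card_zl h.pr.b1, card_zl h.pr.b2]

/-- `N_G(B) ∩ N_G(V) ∩ N_G(V')` -/
def N0 (B L L' : Subgroup G) : Subgroup G :=
  normalizer (B : Set G) ⊓ normalizer (zl B L : Set G) ⊓ normalizer (zl B L' : Set G)

theorem N0_comm : N0 B L' L = N0 B L L' := by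
  rw [N0, N0, inf_assoc, inf_assoc, inf_comm (normalizer (zl B L' : Set G))]

theorem Pq.mem_N0_of [Finite G] (h : Pq B L L' q) {g : G} (hg : g ∈ normalizer (B : Set G))
    (hV : cj g (zl B L) = zl B L) : g ∈ N0 B L L' := by
  refine ⟨⟨hg, CITPlaneCount.mem_normalizer_of_cj_eq hV⟩, CITPlaneCount.mem_normalizer_of_cj_eq ?_⟩
  have hcard : Nat.card (zl B L') = Nat.card (zl B L) := by rw [card_zl h.pr.b1, card_zl h.pr.b2]
  rcases h.perm hg (zl_le h.pr.b2) (elem h.pr.b2) hcard with h1 | h1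
  · exfalso
    apply h.ne
    exact CITPlaneCount.cj_injective g (h1.trans hV.symm)
  · exact h1

/-- the torus of a block -/
structure Tor (B L L' K : Subgroup G) (q : ℕ) : Prop where
  le : K ≤ L
  cyc : IsCyclic K
  card : Nat.card K = q - 1
  norm : ∀ k ∈ K, ∀ x ∈ B, k * x * k⁻¹ ∈ B
  fac : ∀ g ∈ L, (∀ x ∈ B, g * x * g⁻¹ ∈ B) → ∃ t ∈ B, ∃ k ∈ K, g = t * k
  fpf : ∀ k ∈ K, k ≠ 1 → ∀ b ∈ B, k * b = b * k → b ∈ rl B L
  leN : K ≤ N0 B L L'

theorem odd_pred (h : LBlk B L q) : Odd (q - 1) := by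
  obtain ⟨n, hn, hqn⟩ := pow h
  rw [hqn]
  obtain ⟨m, rfl⟩ := Nat.exists_eq_add_of_le' (show 1 ≤ n by omega)
  rw [pow_succ]
  have : 0 < 2 ^ m := by positivity
  exact ⟨2 ^ m - 1, by omega⟩

theorem Pq.exists_tor [Finite G] (h : Pq B L L' q) : ∃ K, Tor B L L' K q := by
  obtain ⟨K, hKL, hcyc, hcard, hnB, hfac, hfpf⟩ := exists_torus h.pr.b1
  have hodd := odd_pred h.pr.b1
  have hKB : K ≤ normalizer (B : Set G) := le_normalizer_iff.2 hnB
  have hKV : ∀ k ∈ K, cj k (zl B L) = zl B L := fun k hk =>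
    CITPlaneCount.cj_eq_self_of_mem_normalizer (FinalBridge.le_normalizer_zl _ _ (hKL hk))
  have hK0 : K ≤ N0 B L L' := fun k hk => h.mem_N0_of (hKB hk) (hKV k hk)
  refine ⟨K, hKL, hcyc, hcard, hnB, hfac, ?_, hK0⟩
  intro k hk hk1 b hb hc
  refine cent_torus h.pr.b1 h.o2_eq (hKL hk) ?_ hk1 (hfpf k hk hk1) hb hc
  have h1 : orderOf (⟨k, hk⟩ : K) ∣ Nat.card K := orderOf_dvd_natCard _
  rw [hcard, Subgroup.orderOf_mk] at h1
  exact Odd.of_dvd_nat hodd h1

/-- the tori of the two blocks are conjugate in `N0` -/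
theorem Pq.exists_conj [Finite G] (hG : OddCyc G) (h : Pq B L L' q) {K K' : Subgroup G} (t : Tor B L L' K q)
    (t' : Tor B L' L K' q) : ∃ g ∈ N0 B L L', cj g K = K' := by
  have := t.cyc
  have := t'.cyc
  have hK' : K' ≤ N0 B L L' := by rw [← N0_comm]; exact t'.leN
  obtain ⟨g, hg, hgK⟩ := CycConj.exists_conj hG t'.cyc t.cyc hK' t.leN (by rw [t.card, t'.card])
    (by rw [t'.card]; exact odd_pred h.pr.b1)
  exact ⟨g, hg, hgK⟩

theorem exists_ne_one {K : Subgroup G} (h : 1 < Nat.card K) : ∃ k ∈ K, k ≠ 1 := by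
  by_contra hcon
  push Not at hcon
  have : K = ⊥ := by rw [eq_bot_iff]; intro x hx; exact mem_bot.2 (hcon x hx)
  rw [this, card_bot] at h
  omega

theorem Tor.rl_le [Finite G] {K K' : Subgroup G} (t : Tor B L L' K q) (t' : Tor B L' L K' q) (hB : LBlk B L q)
    {g : G} (hg : g ∈ normalizer (B : Set G)) (hgK : cj g K = K') : cj g (rl B L) ≤ rl B L' := by
  rintro _ ⟨x, hx, rfl⟩
  change g * x * g⁻¹ ∈ rl B L'
  obtain ⟨k, hk, hk1⟩ := exists_ne_one (K := K) (by rw [t.card]; have := hB.four; omega)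
  refine t'.fpf (g * k * g⁻¹) (by rw [← hgK]; exact conj_mem_cj hk) ?_ _ ?_ ?_
  · intro h0
    apply hk1
    calc k = g⁻¹ * (g * k * g⁻¹) * g := by group
      _ = 1 := by rw [h0]; group
  · exact (mem_normalizer_iff.1 hg x).1 ((COneBlk.rl_le_zl _ _).trans (zl_le hB) hx)
  · have h2 := COneBlk.rl_comm hx (t.le hk)
    calc g * k * g⁻¹ * (g * x * g⁻¹) = g * (k * x) * g⁻¹ := by group
      _ = g * (x * k) * g⁻¹ := by rw [h2]
      _ = g * x * g⁻¹ * (g * k * g⁻¹) := by group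

/-- a conjugate of `L` and `L'` have the same `C_Z(L)` -/
theorem Pq.rl_cj_eq [Finite G] (h : Pq B L L' q) {K K' : Subgroup G} (t : Tor B L L' K q)
    (t' : Tor B L' L K' q) {g : G} (hg : g ∈ normalizer (B : Set G)) (hgK : cj g K = K') :
    cj g (rl B L) = rl B L' := by
  apply le_antisymm (t.rl_le t' h.pr.b1 hg hgK)
  have h1 : cj g⁻¹ K' = K := by rw [← hgK, ← cj_mul, inv_mul_cancel, cj_one]
  have h2 := t'.rl_le t h.pr.b2 (inv_mem hg) h1
  intro x hx
  rw [mem_cj]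
  have := h2 (conj_mem_cj hx)
  rwa [inv_inv] at this

end Pq

/-! ### Blocks with `O₂(L) = V` natural -/

/-- a block with `O₂(L) = V` the natural module -/
structure NBlk (B L : Subgroup G) (q : ℕ) : Prop where
  blk : LBlk B L q
  o2 : o2 L = zl B L
  rl : rl B L = ⊥
  sq : ∀ t ∈ B, t * t ∈ zl B L

section NBlk

variable {B L : Subgroup G} {q : ℕ}

theorem omegaZ_eq (B : Subgroup G) : omegaZ B = zc B := by
  ext x
  rw [mem_omegaZ, FinalBridge.mem_zc, pow_two]
  exact ⟨fun h => ⟨h.1, h.2.1, fun b hb => (h.2.2 b hb).symm⟩, fun h => ⟨h.1, h.2.1, fun b hb => (h.2.2 b hb).symm⟩⟩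

theorem NBlk.cj (h : NBlk B L q) (g : G) : NBlk (cj g B) (cj g L) q where
  blk := LBlk_cj h.blk g
  o2 := by rw [o2_cj, zl_cj, h.o2]
  rl := by rw [rl_cj, h.rl]; exact Subgroup.map_bot _
  sq := by
    rw [zl_cj]
    rintro _ ⟨t, ht, rfl⟩
    exact ⟨t * t, h.sq t ht, by simp⟩

theorem NBlk.card_Z [Finite G] (h : NBlk B L q) : Nat.card (zc B) = q := by
  have := h.blk.rl_index
  rwa [h.rl, relIndex_bot_left] at this

theorem NBlk.card_V [Finite G] (h : NBlk B L q) : Nat.card (zl B L) = q ^ 2 := by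
  rw [card_zl h.blk, h.card_Z, pow_two]

theorem NBlk.card_B [Finite G] (h : NBlk B L q) : Nat.card B = q ^ 3 := by
  rw [COneBlk.card_B h.blk, h.o2, h.card_V]; ring

theorem isO2 (h : LBlk B L q) : IsO2 L (Cfsg.Agent.ZN.o2 L) where
  le := FinalBridge.o2_le L
  two := h.two.to_le h.o2_le
  normal := fun _ hm _ hx => FinalBridge.o2_conj (le_normalizer hm) hx
  max := fun _ hY h2 hn => FinalBridge.le_o2 hY h2 (le_normalizer_iff.2 hn)

theorem isSyl2 [Finite G] (h : LBlk B L q) : IsSyl2 L B := by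
  obtain ⟨S, hS⟩ := exists_sylow h
  refine ⟨h.le, h.two, fun Y hY h2 hBY => ?_⟩
  have h1 : Y.subgroupOf L = (S : Subgroup L) := by
    refine S.is_maximal' (h2.comap_of_injective _ L.subtype_injective) ?_
    rw [hS]
    exact fun x hx => hBY hx
  rw [hS] at h1
  have := congrArg (Subgroup.map L.subtype) h1
  rwa [map_subgroupOf_eq_of_le hY, map_subgroupOf_eq_of_le h.le] at this

theorem NBlk.ltype [Finite G] (h : NBlk B L q) : LType L (zl B L) B q where
  o2 := by rw [← h.o2]; exact isO2 h.blk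
  syl := isSyl2 h.blk
  iso := by rw [← h.o2]; exact h.blk.iso
  fpf := fun x hx ho u hu hc => by
    have := h.blk.fpf x hx ho u hu hc
    rwa [h.rl, mem_bot] at this

theorem NBlk.omega [Finite G] (h : NBlk B L q) : omegaZ (zl B L) = zl B L :=
  CITPlaneCount.omegaZ_eq_of_elem (elem h.blk)

theorem NBlk.trans [Finite G] (h : NBlk B L q) :
    ∀ v ∈ zl B L, v ≠ 1 → ∀ w ∈ zl B L, w ≠ 1 → ∃ g ∈ L, g * v * g⁻¹ = w := by
  have := T1Local.nat_trans h.ltype (by rw [h.omega, h.card_V])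
  rwa [h.omega] at this

theorem NBlk.cent [Finite G] (h : NBlk B L q) {z : G} (hz : z ∈ zc B) (hz1 : z ≠ 1) :
    ∀ m ∈ L, m * z = z * m → m ∈ B := by
  refine T1Torus.centralizer_le (q := q) (V := zl B L) (by have := h.blk.four; omega) h.blk.le h.card_V ?_ h.card_B h.trans
    (FinalBridge.zc_le_zl _ _ hz) hz1 fun t ht => ((FinalBridge.mem_zc.1 hz).2.2 t ht).symm
  rw [card_L h.blk, h.o2]

theorem NBlk.normalizes [Finite G] (h : NBlk B L q) {m : G} (hm : m ∈ L) {v : G} (hv : v ∈ zc B) (hv1 : v ≠ 1)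
    (hmv : m * v * m⁻¹ ∈ zc B) : ∀ t ∈ B, m * t * m⁻¹ ∈ B := by
  intro t ht
  apply h.cent hmv (T1Torus.conj_ne_one hv1)
  · exact L.mul_mem (L.mul_mem hm (h.blk.le ht)) (L.inv_mem hm)
  · have h1 := (FinalBridge.mem_zc.1 hv).2.2 t ht
    calc m * t * m⁻¹ * (m * v * m⁻¹) = m * (t * v) * m⁻¹ := by group
      _ = m * (v * t) * m⁻¹ := by rw [h1]
      _ = m * v * m⁻¹ * (m * t * m⁻¹) := by group

theorem NBlk.loc [Finite G] (h : NBlk B L q) : CITTorus.Loc L (zl B L) B (zc B) := by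
  have hq := h.blk.four
  have hV := elem h.blk
  have hVT := zl_le h.blk
  have hCV := FinalBridge.zc_le_zl B L
  have hcV : Nat.card (zl B L) = q * q := by rw [h.card_V, pow_two]
  have hcT : Nat.card B = q * Nat.card (zl B L) := by rw [h.card_B, h.card_V]; ring
  have hcomm := h.blk.comm
  have hspread : ∀ m ∈ L, (∃ v ∈ zc B, v ≠ 1 ∧ m * v * m⁻¹ ∈ zc B) →
      ∀ v ∈ zc B, m * v * m⁻¹ ∈ zc B := by
    rintro m hm ⟨v, hv, hv1, hmv⟩
    have := T1Torus.conj_omegaZ (h.normalizes hm hv hv1 hmv)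
    rwa [omegaZ_eq] at this
  refine ⟨hV, h.blk.le, hVT, hCV, ?_, hcomm, ?_, fun m hm v hv => COneBlk.zl_conj hm hv, h.sq, hspread, h.trans, ?_, ?_, ?_, ?_, ?_⟩
  · intro z hz t ht
    exact ((FinalBridge.mem_zc.1 hz).2.2 t ht).symm
  · intro t ht htV
    rw [← h.o2] at htV
    exact h.blk.cent t ht htV
  · intro z hz hz1 m hm hmz
    exact h.cent hz hz1 m hm hmz
  · intro v hv hvC c hc
    have hcardT : Nat.card (B ⧸ (zl B L).subgroupOf B) = q := by
      have e1 := ((zl B L).subgroupOf B).card_mul_index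
      have e2 : Nat.card ((zl B L).subgroupOf B) = Nat.card (zl B L) :=
        Nat.card_congr (Subgroup.subgroupOfEquivOfLe hVT).toEquiv
      rw [e2, hcT, mul_comm q] at e1
      exact Nat.eq_of_mul_eq_mul_left (by rw [hcV]; positivity) e1
    let F : (B ⧸ (zl B L).subgroupOf B) → zc B := fun x =>
      Quotient.liftOn' x (fun t : B => (⟨t * v * (t : G)⁻¹ * v⁻¹, hcomm t t.2 v hv⟩ : zc B)) (by
        intro a b hab
        rw [QuotientGroup.leftRel_apply, Subgroup.mem_subgroupOf] at hab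
        apply Subtype.ext
        have h1 : ((a⁻¹ * b : B) : G) * v = v * ((a⁻¹ * b : B) : G) := hV.comm hab hv
        have h2 : (b : G) * v * (b : G)⁻¹ = (a : G) * v * (a : G)⁻¹ := by
          have e : (b : G) = (a : G) * ((a⁻¹ * b : B) : G) := by simp
          calc (b : G) * v * (b : G)⁻¹
              = (a : G) * (((a⁻¹ * b : B) : G) * v) * ((a⁻¹ * b : B) : G)⁻¹ * (a : G)⁻¹ := by
                rw [e]; group
            _ = (a : G) * v * (a : G)⁻¹ := by rw [h1]; group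
        simp only [h2])
    have hFinj : Function.Injective F := by
      intro x y
      induction x using QuotientGroup.induction_on with | _ a => ?_
      induction y using QuotientGroup.induction_on with | _ b => ?_
      intro hxy
      have hxy' : (a : G) * v * (a : G)⁻¹ * v⁻¹ = (b : G) * v * (b : G)⁻¹ * v⁻¹ := congrArg Subtype.val hxy
      rw [QuotientGroup.eq, Subgroup.mem_subgroupOf]
      by_contra hnot
      apply hvC
      refine h.blk.cent _ (B.mul_mem (B.inv_mem a.2) b.2) (by rw [h.o2]; exact hnot) v hv ?_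
      have h1 := mul_right_cancel hxy'
      calc (a : G)⁻¹ * b * v = (a : G)⁻¹ * ((b : G) * v * (b : G)⁻¹) * b := by group
        _ = (a : G)⁻¹ * ((a : G) * v * (a : G)⁻¹) * b := by rw [h1]
        _ = v * ((a : G)⁻¹ * b) := by group
    have hFbij := (Nat.bijective_iff_injective_and_card F).2 ⟨hFinj, by rw [hcardT, h.card_Z]⟩
    obtain ⟨x, hx⟩ := hFbij.2 ⟨c, hc⟩
    induction x using QuotientGroup.induction_on with | _ a => ?_
    have hx' : (a : G) * v * (a : G)⁻¹ * v⁻¹ = c := congrArg Subtype.val hx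
    refine ⟨a, a.2, ?_⟩
    rw [hV.comm hv (hCV hc), ← hx']
    group
  · exact exists_ne_one (by rw [h.card_Z]; omega)
  · by_contra hcon
    push Not at hcon
    have h1 : zl B L = zc B := le_antisymm hcon hCV
    have h2 := h.card_Z
    rw [← h1, hcV] at h2
    nlinarith
  · intro m hm hne v hv
    let F : zc B × zc B → zl B L := fun x =>
      ⟨(x.1 : G) * (m * (x.2 : G) * m⁻¹),
        (zl B L).mul_mem (hCV x.1.2) (COneBlk.zl_conj hm (hCV x.2.2))⟩
    have hFinj : Function.Injective F := by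
      rintro ⟨a, b⟩ ⟨a', b'⟩ hab
      have hab' : (a : G) * (m * (b : G) * m⁻¹) = (a' : G) * (m * (b' : G) * m⁻¹) := congrArg Subtype.val hab
      have h1 : (a' : G)⁻¹ * a = m * ((b' : G) * (b : G)⁻¹) * m⁻¹ := by
        calc (a' : G)⁻¹ * a = (a' : G)⁻¹ * ((a : G) * (m * (b : G) * m⁻¹)) * (m * (b : G)⁻¹ * m⁻¹) := by group
          _ = (a' : G)⁻¹ * ((a' : G) * (m * (b' : G) * m⁻¹)) * (m * (b : G)⁻¹ * m⁻¹) := by rw [hab']
          _ = m * ((b' : G) * (b : G)⁻¹) * m⁻¹ := by group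
      have h2 : (a' : G)⁻¹ * a = 1 := by
        by_contra h0
        apply hne
        apply CITTorus.spread_cj hspread hm h0 ((zc B).mul_mem ((zc B).inv_mem a'.2) a.2)
        rw [h1]
        exact conj_mem_cj ((zc B).mul_mem b'.2 ((zc B).inv_mem b.2))
      have h3 : a = a' := Subtype.ext (inv_mul_eq_one.1 h2).symm
      subst h3
      have h4 := mul_left_cancel hab'
      have h5 := mul_left_cancel (mul_right_cancel h4)
      rw [Subtype.ext h5]
    have hFbij := (Nat.bijective_iff_injective_and_card F).2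
      ⟨hFinj, by rw [Nat.card_prod, h.card_Z, hcV]⟩
    obtain ⟨⟨c, d⟩, hx⟩ := hFbij.2 ⟨v, hv⟩
    exact ⟨c, c.2, d, d.2, (congrArg Subtype.val hx).symm⟩

end NBlk

section Four

variable {B L L' : Subgroup G} {q : ℕ}

theorem Pq.nblk [Finite G] (h : Pq B L L' q) (hr : rl B L = ⊥) : NBlk B L q where
  blk := h.pr.b1
  o2 := h.o2_eq
  rl := hr
  sq := by
    intro t ht
    obtain ⟨w, hw, v, hv, rfl⟩ := h.exists_mul ht
    have h1 : w * v * w⁻¹ ∈ zl B L := COneBlk.zl_conj (h.pr.b1.le (zl_le h.pr.b2 hw)) hv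
    have hww := elem h.pr.b2 w hw
    have e : w * v * (w * v) = (w * v * w⁻¹) * (w * w) * v := by group
    rw [e, hww, mul_one]
    exact mul_mem h1 hv

/-- `q = 4` -/
theorem Pq.four [Finite G] (hG : OddCyc G) (h : Pq B L L' q) (hr : rl B L = ⊥) (hr' : rl B L' = ⊥) : q = 4 := by
  obtain ⟨K, t⟩ := h.exists_tor
  obtain ⟨K', t'⟩ := h.symm.exists_tor
  obtain ⟨g, hg, hgK⟩ := h.exists_conj hG t t'
  have hgB : cj g B = B := CITPlaneCount.cj_eq_self_of_mem_normalizer hg.1.1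
  have hgV : cj g (zl B L) = zl B L := CITPlaneCount.cj_eq_self_of_mem_normalizer hg.1.2
  have n1 := h.nblk hr
  have n2 := h.symm.nblk hr'
  have n3 := n1.cj g
  rw [hgB] at n3
  have hV3 : zl B (cj g L) = zl B L := by
    have := zl_cj g B L
    rwa [hgB, hgV] at this
  refine le_antisymm ?_ h.pr.b1.four
  rw [← n1.card_Z]
  refine CITTorus.card_C_le_four n3.loc n2.loc ?_ ?_
  · intro b hb
    rw [hV3]
    obtain ⟨w, hw, v, hv, he⟩ := h.exists_mul (inv_mem hb)
    refine ⟨v⁻¹, inv_mem hv, w⁻¹, inv_mem hw, ?_⟩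
    rw [← inv_inv b, he]; group
  · intro k hk hkZ
    obtain ⟨z, hz, hz1⟩ := n1.loc.nebot
    have h1 : k * z * k⁻¹ ∈ zc B := by
      have := conj_mem_cj (a := k) hz
      rwa [hkZ] at this
    have h2 := n3.normalizes hk hz hz1 h1
    -- `k ∈ B K'`
    rw [mem_cj] at hk
    have h3 : ∀ x ∈ B, (g⁻¹ * k * g) * x * (g⁻¹ * k * g)⁻¹ ∈ B := by
      intro x hx
      have h4 : g * x * g⁻¹ ∈ B := (mem_normalizer_iff.1 hg.1.1 x).1 hx
      have h5 := h2 _ h4
      have h6 := (mem_normalizer_iff''.1 hg.1.1 _).1 h5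
      have e : g⁻¹ * k * g * x * (g⁻¹ * k * g)⁻¹ = g⁻¹ * (k * (g * x * g⁻¹) * k⁻¹) * g := by group
      rw [e]; exact h6
    obtain ⟨b, hb, c, hc, hbc⟩ := t.fac _ hk h3
    have e : k = (g * b * g⁻¹) * (g * c * g⁻¹) := by
      calc k = g * (g⁻¹ * k * g) * g⁻¹ := by group
        _ = _ := by rw [hbc]; group
    rw [e]
    refine mul_mem (h.pr.b2.le ((mem_normalizer_iff.1 hg.1.1 b).1 hb)) (t'.le ?_)
    rw [← hgK]
    exact conj_mem_cj hc

end Four

end Cfsg.Agent.OddCyclic.COnePair
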