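import Mathlib
import Cfsg.Agent.OddCyclic.COnePair
import Cfsg.Agent.OddCyclic.COneEndS

/-!
# Unique maximal 2-local subgroup, `SL₂(q)`-blocks: from the noncommuting pair to the Sylow subgroup of `L₃(4)`

1.2 - 1.4 of `blueprints/S0342-C1-NS-helper209.md`.
-/

set_option autoImplicit false

namespace Cfsg.Agent.OddCyclic.COneMid

open Subgroup Cfsg Cfsg.Agent.ZN
open Cfsg.Agent.OddCyclic.COneDefs Cfsg.Agent.OddCyclic.COneBlk Cfsg.Agent.OddCyclic.COnePair
open Cfsg.Agent.OddCyclic.T1Defs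
open Cfsg.Agent.LieExceptional Cfsg.Agent.LieExceptional.CITDefs
open Cfsg.Agent.LieExceptional.CITPlaneCount (cj mem_cj card_cj conj_mem_cj cj_mul cj_one)
open Cfsg.Agent.MinSimple.CaseOneCfg (Cfg)

universe u

variable {G : Type u} [Group G]

/-! ### Characteristic 2 type in ambient form -/

theorem isO2_eq {M X : Subgroup G} (h : IsO2 M X) : X = o2 M := by
  apply le_antisymm
  · exact FinalBridge.le_o2 h.le h.two (le_normalizer_iff.2 h.normal)
  · exact h.max _ (FinalBridge.o2_le M) (FinalBridge.o2_isPGroup M)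
      fun m hm x hx => FinalBridge.o2_conj (le_normalizer hm) hx

theorem isO2_o2 (M : Subgroup G) : IsO2 M (o2 M) where
  le := FinalBridge.o2_le M
  two := FinalBridge.o2_isPGroup M
  normal := fun _ hm _ hx => FinalBridge.o2_conj (le_normalizer hm) hx
  max := fun _ hY h2 hn => FinalBridge.le_o2 hY h2 (le_normalizer_iff.2 hn)

theorem charTwo (hc : IsCharacteristicTwoType G) : CharTwo G := by
  intro A X hA hA1 hX
  rw [isO2_eq hX]
  have h1 : A ≤ o2 (normalizer (A : Set G)) :=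
    FinalBridge.le_o2 le_normalizer hA (le_normalizer_iff.2 fun g hg x hx => (mem_normalizer_iff.1 hg x).1 hx)
  intro x hx
  refine FinalBridge.inf_centralizer_o2_le hc ⟨A, hA, hA1, rfl⟩ ⟨?_, hx⟩
  exact centralizer_le_normalizer _ (centralizer_le h1 hx)

theorem isSyl2_top [Finite G] (S : Sylow 2 G) : IsSyl2 (⊤ : Subgroup G) S where
  le := le_top
  two := S.isPGroup'
  max := fun _ _ h2 hle => S.is_maximal' h2 hle

theorem isSyl2_of_syl {T X : Subgroup G} (h : ChoiceSit.Syl T X) : IsSyl2 X T :=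
  ⟨h.1, h.2.1, h.2.2⟩

section

variable {M T H L : Subgroup G} {s : G} {q : ℕ}

theorem T_le_normL (h : LConf M T H L s q) : T ≤ normalizer (L : Set G) := h.conf.le.trans h.norm

theorem T_le_normB (_h : LConf M T H L s q) : T ≤ normalizer (bau T : Set G) :=
  le_normalizer.trans (ChoiceBase.normalizer_le_bau T)

theorem s_normB (h : LConf M T H L s q) : s ∈ normalizer (bau T : Set G) :=
  ChoiceBase.normalizer_le_bau T h.conf.cfg.sN

theorem not_le (h : LConf M T H L s q) : ¬ L ≤ M := fun hh =>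
  h.conf.notM (by rw [h.sup]; exact sup_le hh h.conf.cfg.TM)

theorem T_le_normV (h : LConf M T H L s q) : T ≤ normalizer (zl (bau T) L : Set G) :=
  le_normalizer_iff.2 fun _ ht _ hv => FinalBridge.zl_conj (T_le_normB h ht) (T_le_normL h ht) hv

theorem cjB (h : LConf M T H L s q) : cj s (bau T) = bau T :=
  CITPlaneCount.cj_eq_self_of_mem_normalizer (s_normB h)

theorem cjZ (h : LConf M T H L s q) : cj s (zc (bau T)) = zc (bau T) := by
  rw [← zc_cj, cjB h]

theorem blk' (h : LConf M T H L s q) : LBlk (bau T) (cj s L) q := by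
  have := LBlk_cj h.blk s
  rwa [cjB h] at this

theorem zl' (h : LConf M T H L s q) : zl (bau T) (cj s L) = cj s (zl (bau T) L) := by
  have := zl_cj s (bau T) L
  rwa [cjB h] at this

theorem rl' (h : LConf M T H L s q) : rl (bau T) (cj s L) = cj s (rl (bau T) L) := by
  have := rl_cj s (bau T) L
  rwa [cjB h] at this

/-- `V` and `V ^ s` do not commute -/
def Nc (T L : Subgroup G) (s : G) : Prop :=
  ∃ v ∈ zl (bau T) L, ∃ u ∈ zl (bau T) L, v * (s * u * s⁻¹) ≠ (s * u * s⁻¹) * v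

theorem pr (h : LConf M T H L s q) (hnc : Nc T L s) : Pr (bau T) L (cj s L) q q := by
  obtain ⟨v, hv, u, hu, hne⟩ := hnc
  refine ⟨h.blk, blk' h, v, hv, s * u * s⁻¹, ?_, hne⟩
  rw [zl' h]
  exact conj_mem_cj hu

/-- 1.2 -/
theorem pq [Finite G] (h : LConf M T H L s q) (hnc : Nc T L s) : Pq (bau T) L (cj s L) q := by
  have hp := pr h hnc
  refine ⟨hp, ?_⟩
  by_contra hne
  have h1 : cj s (sqs L) = sqs L := by
    have h2 : sqs (cj s L) = cj s (sqs L) := by
      rw [sqs, sqs, o2_cj]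
      refine Eq.trans ?_ (MonoidHom.map_closure (MulAut.conj s).toMonoidHom _).symm
      congr 1
      ext x
      constructor
      · rintro ⟨_, ⟨y, hy, rfl⟩, rfl⟩
        exact ⟨y * y, ⟨y, hy, rfl⟩, by simp⟩
      · rintro ⟨_, ⟨y, hy, rfl⟩, rfl⟩
        exact ⟨_, ⟨y, hy, rfl⟩, by simp⟩
    rw [← h2, ← hp.sqs_eq]
  have h2 : normalizer (sqs L : Set G) ≤ M := by
    refine h.conf.cfg.normalizer_le (h.conf.cfg.two.to_le ((sqs_le L).trans (h.blk.o2_le.trans (ChoiceBase.bau_le T))))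
      hne (sup_le ((T_le_normL h).trans (le_normalizer_sqs L)) (zpowers_le.2 ?_))
    exact CITPlaneCount.mem_normalizer_of_cj_eq h1
  exact not_le h ((le_normalizer.trans (le_normalizer_sqs L)).trans h2)

theorem s_sq (h : LConf M T H L s q) : cj s (cj s (zl (bau T) L)) = zl (bau T) L := by
  rw [← cj_mul]
  exact CITPlaneCount.cj_eq_self_of_mem_normalizer (T_le_normV h h.conf.cfg.sq)

/-- 1.3 -/
theorem rl_eq_bot [Finite G] (hG : OddCyc G) (h : LConf M T H L s q) (hnc : Nc T L s) : rl (bau T) L = ⊥ := by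
  have hp := pq h hnc
  obtain ⟨K, t⟩ := hp.exists_tor
  obtain ⟨K', t'⟩ := hp.symm.exists_tor
  obtain ⟨g, hg, hgK⟩ := hp.exists_conj hG t t'
  have hgR := hp.rl_cj_eq t t' hg.1.1 hgK
  rw [rl' h] at hgR
  have hgV : cj g (zl (bau T) L) = zl (bau T) L := CITPlaneCount.cj_eq_self_of_mem_normalizer hg.1.2
  have hgW : cj g (zl (bau T) (cj s L)) = zl (bau T) (cj s L) := CITPlaneCount.cj_eq_self_of_mem_normalizer hg.2
  have hgV' : cj g⁻¹ (zl (bau T) L) = zl (bau T) L :=
    CITPlaneCount.cj_eq_self_of_mem_normalizer (inv_mem hg.1.2)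
  have hgW' : cj g⁻¹ (zl (bau T) (cj s L)) = zl (bau T) (cj s L) :=
    CITPlaneCount.cj_eq_self_of_mem_normalizer (inv_mem hg.2)
  set s' := g⁻¹ * s with hs'
  have hs'B : s' ∈ normalizer (bau T : Set G) := mul_mem (inv_mem hg.1.1) (s_normB h)
  have hs'V : cj s' (zl (bau T) L) = zl (bau T) (cj s L) := by
    rw [hs', cj_mul, ← zl' h, hgW']
  have hs'W : cj s' (zl (bau T) (cj s L)) = zl (bau T) L := by
    rw [hs', cj_mul, zl' h, s_sq h, hgV']
  have hs'R : cj s' (rl (bau T) L) = rl (bau T) L := by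
    rw [hs', cj_mul, ← hgR, ← cj_mul, inv_mul_cancel, cj_one]
  by_contra hne
  have hRB : rl (bau T) L ≤ bau T := (COneBlk.rl_le_zl _ _).trans (zl_le h.blk)
  set X := normalizer (rl (bau T) L : Set G) with hXd
  have hX : IsTwoLocal X := ⟨_, h.blk.two.to_le hRB, hne, rfl⟩
  have hLX : L ≤ X := by
    rw [hXd, le_normalizer_iff]
    intro l hl r hr
    rw [COneBlk.rl_comm hr hl, mul_inv_cancel_right]
    exact hr
  have hXM : ¬ X ≤ M := fun hh => not_le h (hLX.trans hh)
  have hTX : T ≤ X := by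
    rw [hXd, le_normalizer_iff]
    exact fun t ht r hr => FinalBridge.rl_conj (T_le_normB h ht) (T_le_normL h ht) hr
  have hsyl := h.conf.cfg.syl_of hX hTX hXM
  have hs'X : s' ∈ X := CITPlaneCount.mem_normalizer_of_cj_eq hs'R
  set Y := normalizer (bau T : Set G) ⊓ X with hY
  set Y₀ := Y ⊓ normalizer (zl (bau T) L : Set G) with hY₀
  have hidx : Y₀.relIndex Y = 2 := by
    rw [relIndex_eq_two_iff_exists_notMem_and']
    refine ⟨s', ⟨hs'B, hs'X⟩, fun h1 => ?_, fun b hb => ?_⟩
    · have h2 := CITPlaneCount.cj_eq_self_of_mem_normalizer h1.2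
      rw [hs'V] at h2
      exact hp.ne h2
    · rcases hp.perm hb.1 (zl_le h.blk) (elem h.blk) rfl with h1 | h1
      · right
        exact ⟨hb, CITPlaneCount.mem_normalizer_of_cj_eq h1⟩
      · left
        refine ⟨mul_mem ⟨hs'B, hs'X⟩ hb, CITPlaneCount.mem_normalizer_of_cj_eq ?_⟩
        rw [cj_mul, h1, hs'W]
  have hTY₀ : T ≤ Y₀ := le_inf (le_inf (T_le_normB h) hTX) (T_le_normV h)
  have h1 := relIndex_mul_relIndex T Y₀ Y hTY₀ inf_le_left
  have h2 := relIndex_mul_relIndex T Y X (hTY₀.trans inf_le_left) inf_le_right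
  apply ChoiceSit.syl_not_dvd hsyl
  rw [← h2, ← h1, hidx]
  exact ⟨T.relIndex Y₀ * Y.relIndex X, by ring⟩

/-- 1.4: `q = 4` -/
theorem q_eq_four [Finite G] (hG : OddCyc G) (h : LConf M T H L s q) (hnc : Nc T L s) : q = 4 := by
  have h1 := rl_eq_bot hG h hnc
  refine (pq h hnc).four hG h1 ?_
  rw [rl' h, h1]
  exact Subgroup.map_bot _

theorem isMaxLocal [Finite G] (h : LConf M T H L s q) (hM : IsTwoLocal M) : IsMaxLocal M := by
  obtain ⟨S, hSM, hTS, hsS, hS⟩ := h.conf.cfg.syl
  constructor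
  · obtain ⟨R, hR, hR1, rfl⟩ := hM
    refine ⟨_, ?_, isO2_o2 _⟩
    intro h0
    have : R ≤ o2 (normalizer (R : Set G)) :=
      FinalBridge.le_o2 le_normalizer hR (le_normalizer_iff.2 fun g hg x hx => (mem_normalizer_iff.1 hg x).1 hx)
    rw [h0] at this
    exact hR1 (le_bot_iff.1 this)
  · rintro X hMX ⟨A, hA1, hA⟩
    refine le_antisymm ?_ hMX
    have h1 : X ≤ normalizer (A : Set G) := le_normalizer_iff.2 hA.normal
    exact h1.trans (hS _ ⟨A, hA.two, hA1, rfl⟩ ((hSM.trans hMX).trans h1))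

/-- the configuration of the final part -/
theorem exists_four [Finite G] (hG : OddCyc G) (hc : IsCharacteristicTwoType G) (hM : IsTwoLocal M)
    (h : LConf M T H L s q) (hnc : Nc T L s) :
    ∃ (S V W Z : Subgroup G) (x : G), COneEnd.Four M S T (bau T) V W Z x s := by
  have hR := rl_eq_bot hG h hnc
  have hq := q_eq_four hG h hnc
  subst hq
  have hp := pq h hnc
  have hn := hp.nblk hR
  have hR' : rl (bau T) (cj s L) = ⊥ := by rw [rl' h, hR]; exact Subgroup.map_bot _
  have hn' := hp.symm.nblk hR'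
  obtain ⟨K, t⟩ := hp.exists_tor
  obtain ⟨S, hSM, hTS, hsS, hS⟩ := h.conf.cfg.syl
  have : Fact (Nat.Prime 3) := ⟨Nat.prime_three⟩
  obtain ⟨⟨x, hxK⟩, hx⟩ := exists_prime_orderOf_dvd_card' (G := K) 3 (by rw [t.card])
  rw [Subgroup.orderOf_mk] at hx
  have hx1 : x ≠ 1 := by rintro rfl; rw [orderOf_one] at hx; omega
  have hxN := t.leN hxK
  have hfpf : ∀ b ∈ bau T, x * b = b * x → b = 1 := fun b hb hc => by
    have := t.fpf x hxK hx1 b hb hc
    rwa [hR, mem_bot] at this
  -- `N_G(V)`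
  set V := zl (bau T) L with hV
  have hV1 : V ≠ ⊥ := by
    intro h0
    have := hn.card_V
    rw [← hV, h0, card_bot] at this
    omega
  have hV2 : IsPGroup 2 V := h.blk.two.to_le (zl_le h.blk)
  have hNV : IsTwoLocal (normalizer (V : Set G)) := ⟨_, hV2, hV1, rfl⟩
  have hLV : L ≤ normalizer (V : Set G) := FinalBridge.le_normalizer_zl _ _
  have hNVM : ¬ normalizer (V : Set G) ≤ M := fun hh => not_le h (hLV.trans hh)
  have hsylT := h.conf.cfg.syl_of hNV (T_le_normV h) hNVM
  have hcentZ : ∀ t ∈ T, (∀ z ∈ zc (bau T), t * z = z * t) → t ∈ bau T := by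
    intro t ht hz
    refine ⟨ht, mem_centralizer_iff.2 fun z hz' => ?_⟩
    rw [← ChoiceBase.zc_bau] at hz'
    exact (hz z hz').symm
  -- `O₂(N_G(V)) = V`
  have hX : o2 (normalizer (V : Set G)) = V := by
    set X := o2 (normalizer (V : Set G)) with hXd
    have hVX : V ≤ X :=
      FinalBridge.le_o2 le_normalizer hV2 (le_normalizer_iff.2 fun g hg x hx => (mem_normalizer_iff.1 hg x).1 hx)
    have hX2 : IsPGroup 2 X := FinalBridge.o2_isPGroup _
    have hXT : X ≤ T := ChoiceSit.o2_le_syl hsylT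
    have hXn : ∀ x ∈ X, ∀ v ∈ V, x * v * x⁻¹ ∈ V := fun x hx v hv =>
      (mem_normalizer_iff.1 (FinalBridge.o2_le _ hx) v).1 hv
    obtain ⟨v₀, hv₀, hv₀1, hv₀c⟩ := COneEnd.exists_fix hX2 hXn (by rw [hV, hn.card_V]; norm_num)
    have hcomm : ∀ v ∈ V, ∀ x ∈ X, x * v = v * x := by
      intro v hv x hx
      by_cases hv1 : v = 1
      · rw [hv1, mul_one, one_mul]
      obtain ⟨g, hg, rfl⟩ := hn.trans v₀ hv₀ hv₀1 v hv hv1
      have h1 : g⁻¹ * x * g ∈ X := by
        have := FinalBridge.o2_conj (g := g⁻¹) (L := normalizer (V : Set G)) (le_normalizer (inv_mem (hLV hg))) hx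
        rwa [inv_inv] at this
      have h2 := hv₀c _ h1
      calc x * (g * v₀ * g⁻¹) = g * ((g⁻¹ * x * g) * v₀) * g⁻¹ := by group
        _ = g * (v₀ * (g⁻¹ * x * g)) * g⁻¹ := by rw [h2]
        _ = g * v₀ * g⁻¹ * x := by group
    refine le_antisymm (fun x hx => ?_) hVX
    have h1 : x ∈ bau T := hcentZ x (hXT hx) fun z hz => hcomm z (FinalBridge.zc_le_zl _ _ hz) x hx
    have h2 : x ∈ bau T ⊓ centralizer (zl (bau T) L : Set G) :=
      ⟨h1, mem_centralizer_iff.2 fun v hv => (hcomm v hv x hx).symm⟩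
    rw [h.blk.cent_zl, hp.o2_eq] at h2
    exact h2
  have hcV : centralizer (V : Set G) ≤ V := by
    intro x hx
    have h1 := FinalBridge.inf_centralizer_o2_le hc hNV
    rw [hX] at h1
    exact h1 ⟨centralizer_le_normalizer _ hx, hx⟩
  refine ⟨S, V, zl (bau T) (cj s L), zc (bau T), x, ?_⟩
  refine
    { core :=
        { elemV := elem h.blk
          elemW := elem (blk' h)
          cardV := by rw [hV, hn.card_V]; norm_num
          cardW := by rw [hn'.card_V]; norm_num
          sup := hp.sup_eq.symm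
          inf := hp.inf_eq
          cardZ := hn.card_Z
          comm := fun v hv w hw => (blk' h).comm v (zl_le h.blk hv) w hw
          nc := fun v hv w hw hc => hp.mem_of_comm hv hw hc }
      xact :=
        { three := hx
          nV := fun v hv => (mem_normalizer_iff.1 hxN.1.2 v).1 hv
          nW := fun v hv => (mem_normalizer_iff.1 hxN.2 v).1 hv
          fpfV := fun v hv hc => hfpf v (zl_le h.blk hv) hc
          fpfW := fun v hv hc => hfpf v (zl_le (blk' h) hv) hc }
      char2 := charTwo hc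
      cyc := hG
      sylS := isSyl2_top S
      maxM := isMaxLocal h hM
      uniq := fun R hR hR1 hSR => hS _ ⟨R, hR, hR1, rfl⟩ hSR
      sylT := isSyl2_of_syl hsylT
      T_le := hTS
      B_le := ChoiceBase.bau_le T
      T_norm := fun t ht b hb => (mem_normalizer_iff.1 (T_le_normB h ht) b).1 hb
      cent_Z := hcentZ
      s_mem := hsS
      s_norm := fun b hb => (mem_normalizer_iff.1 (s_normB h) b).1 hb
      sV := fun v hv => by rw [zl' h]; exact conj_mem_cj hv
      centV := hcV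
      trans := fun v hv w hw hv1 hw1 => by
        obtain ⟨g, -, hg⟩ := hn.trans v hv hv1 w hw hw1
        exact ⟨g, hg⟩ }

end

end Cfsg.Agent.OddCyclic.COneMid
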