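import Mathlib
import Cfsg.Agent.OddCyclic.T1Module
import Cfsg.Agent.Lib.Zsigmondy
import Cfsg.Agent.TwoFusion.SLTwoFacts

/-!
# [FFC] Offenders in groups with cyclic odd Sylow subgroups: inequalities

`ρ : X →* MulAut V`, `V` a finite commutative group (a 2-group), `fx ρ y = C_V(y)`.
* `half` : if `a` inverts `y` (odd order) then `|V : C_V(y)| ≤ |V : C_V(a)| ^ 2`.
* `prim` : `y` of odd prime order `l`, acting nontrivially: `|V : C_V(y)| = 2 ^ d`, `d > 0`, `l ∣ 2 ^ d - 1`.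
* `sl2_index` : `|V : C_V(a)| ≥ q` for involutions `a` of `SL₂(q)`, `q ≥ 4` even.
-/

set_option autoImplicit false
set_option linter.unusedSectionVars false
set_option linter.unusedSimpArgs false

namespace Cfsg.Agent.OddCyclic.FFBasic

open Cfsg.Agent.OddCyclic.T1Module Cfsg.Agent.OddCyclic.T1Sl2

section general

variable {X V : Type*} [Group X] [CommGroup V] (ρ : X →* MulAut V)

/-- `C_V(y)` -/
def fx (y : X) : Subgroup V where
  carrier := {v | ρ y v = v}
  mul_mem' := by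
    intro v w hv hw
    show ρ y (v * w) = v * w
    rw [map_mul, show ρ y v = v from hv, show ρ y w = w from hw]
  one_mem' := map_one (ρ y)
  inv_mem' := by
    intro v hv
    show ρ y v⁻¹ = v⁻¹
    rw [map_inv, show ρ y v = v from hv]

theorem mem_fx {y : X} {v : V} : v ∈ fx ρ y ↔ ρ y v = v := Iff.rfl

theorem fx_one : fx ρ 1 = ⊤ := by
  rw [eq_top_iff]
  intro v _
  rw [mem_fx, map_one]; rfl

theorem fx_mul {y z : X} {v : V} (hy : v ∈ fx ρ y) (hz : v ∈ fx ρ z) : v ∈ fx ρ (y * z) := by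
  rw [mem_fx] at *
  rw [map_mul, MulAut.mul_apply, hz, hy]

theorem fx_inv {y : X} {v : V} (hy : v ∈ fx ρ y) : v ∈ fx ρ y⁻¹ := by
  rw [mem_fx] at *
  have h : ρ y⁻¹ (ρ y v) = v := by
    rw [← MulAut.mul_apply, ← map_mul, inv_mul_cancel, map_one]; rfl
  rwa [hy] at h

theorem fx_pow {y : X} {v : V} (hy : v ∈ fx ρ y) (n : ℕ) : v ∈ fx ρ (y ^ n) := by
  induction n with
  | zero => rw [pow_zero, fx_one]; trivial
  | succ n ih => rw [pow_succ]; exact fx_mul ρ ih hy

/-- `y` of odd order, `v` fixed by `y ^ 2`: `v` is fixed by `y` -/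
theorem fx_of_sq {y : X} (hy : Odd (orderOf y)) {v : V} (h : v ∈ fx ρ (y * y)) : v ∈ fx ρ y := by
  obtain ⟨k, hk⟩ := hy
  have h1 : (y * y) ^ (k + 1) = y := by
    rw [← sq, ← pow_mul]
    have : 2 * (k + 1) = orderOf y + 1 := by omega
    rw [this, pow_succ, pow_orderOf_eq_one, one_mul]
  rw [← h1]
  exact fx_pow ρ h _

theorem fx_conj (g y : X) : fx ρ (g * y * g⁻¹) = (fx ρ y).map (ρ g : V ≃* V).toMonoidHom := by
  ext v
  rw [Subgroup.mem_map]
  constructor
  · intro h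
    refine ⟨ρ g⁻¹ v, ?_, ?_⟩
    · rw [mem_fx] at *
      calc ρ y (ρ g⁻¹ v) = ρ g⁻¹ (ρ (g * y * g⁻¹) v) := by
            rw [← MulAut.mul_apply, ← MulAut.mul_apply, ← map_mul, ← map_mul]
            congr 2; group
        _ = ρ g⁻¹ v := by rw [h]
    · show ρ g (ρ g⁻¹ v) = v
      rw [← MulAut.mul_apply, ← map_mul, mul_inv_cancel, map_one]; rfl
  · rintro ⟨w, hw, rfl⟩
    change w ∈ fx ρ y at hw
    show ρ g w ∈ fx ρ (g * y * g⁻¹)
    rw [mem_fx] at *
    calc ρ (g * y * g⁻¹) (ρ g w) = ρ g (ρ y w) := by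
          rw [← MulAut.mul_apply, ← MulAut.mul_apply, ← map_mul, ← map_mul]
          congr 2; group
      _ = ρ g w := by rw [hw]

theorem index_map (g : X) (C : Subgroup V) : (C.map (ρ g : V ≃* V).toMonoidHom).index = C.index := by
  exact Subgroup.index_map_equiv C (ρ g)

theorem index_fx_conj (g y : X) : (fx ρ (g * y * g⁻¹)).index = (fx ρ y).index := by
  rw [fx_conj, index_map]

/-- if `a` inverts `y`, of odd order, then `|V : C_V(y)| ≤ |V : C_V(a)| ^ 2` -/
theorem half {a y : X} (hy : Odd (orderOf y)) (h : a * y * a⁻¹ = y⁻¹) :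
    (fx ρ y).index ≤ (fx ρ a).index ^ 2 ∨ (fx ρ a).index = 0 := by
  by_cases h0 : (fx ρ a).index = 0
  · exact Or.inr h0
  left
  have h1 : fx ρ a ⊓ fx ρ (y * a * y⁻¹) ≤ fx ρ y := by
    intro v hv
    apply fx_of_sq ρ hy
    have h2 : y * a * y⁻¹ = y * y * a := by
      have h3 : a * y⁻¹ = y * a := by
        calc a * y⁻¹ = (a * y * a⁻¹)⁻¹ * a := by group
          _ = y * a := by rw [h, inv_inv]
      rw [mul_assoc, h3, mul_assoc]
    have h4 := hv.2
    rw [h2] at h4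
    have h5 := fx_mul ρ h4 (fx_inv ρ hv.1)
    rwa [mul_inv_cancel_right] at h5
  have h2 := index_fx_conj ρ y a
  have h3 : (fx ρ a ⊓ fx ρ (y * a * y⁻¹)).index ≤ (fx ρ a).index * (fx ρ (y * a * y⁻¹)).index :=
    Subgroup.index_inf_le
  have h4 : (fx ρ a ⊓ fx ρ (y * a * y⁻¹)).index ≠ 0 := Subgroup.index_inf_ne_zero h0 (by rw [h2]; exact h0)
  have h5 := Nat.le_of_dvd (Nat.pos_of_ne_zero h4) (Subgroup.index_dvd_of_le h1)
  rw [h2] at h3
  rw [sq]
  omega

theorem half' [Finite V] {a y : X} (hy : Odd (orderOf y)) (h : a * y * a⁻¹ = y⁻¹) :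
    (fx ρ y).index ≤ (fx ρ a).index ^ 2 := by
  rcases half ρ hy h with h1 | h1
  · exact h1
  · exact absurd h1 Subgroup.index_ne_zero_of_finite

/-- the homomorphism `v ↦ [y, v]` -/
def cm (y : X) : V →* V where
  toFun v := ρ y v * v⁻¹
  map_one' := by rw [map_one]; simp
  map_mul' v w := by
    rw [map_mul, mul_inv]
    exact mul_mul_mul_comm _ _ _ _

theorem cm_apply (y : X) (v : V) : cm ρ y v = ρ y v * v⁻¹ := rfl

theorem ker_cm (y : X) : (cm ρ y).ker = fx ρ y := by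
  ext v
  rw [MonoidHom.mem_ker, cm_apply, mem_fx, mul_inv_eq_one]

theorem card_range_cm (y : X) : Nat.card (cm ρ y).range = (fx ρ y).index := by
  rw [← ker_cm, Subgroup.index_ker]

/-- elements commuting with `y` normalise `[V, y]` -/
theorem apply_mem_range {y z : X} (h : z * y = y * z) {v : V} (hv : v ∈ (cm ρ y).range) :
    ρ z v ∈ (cm ρ y).range := by
  obtain ⟨w, rfl⟩ := hv
  refine ⟨ρ z w, ?_⟩
  rw [cm_apply, cm_apply, map_mul, map_inv]
  congr 1
  rw [← MulAut.mul_apply, ← MulAut.mul_apply, ← map_mul, ← map_mul, h]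

theorem apply_mem_range_of_inv {y z : X} (h : z * y * z⁻¹ = y⁻¹) {v : V} (hv : v ∈ (cm ρ y).range) :
    ρ z v ∈ (cm ρ y).range := by
  obtain ⟨w, rfl⟩ := hv
  have h1 : ρ y (ρ y⁻¹ (ρ z w)) = ρ z w := by
    rw [← MulAut.mul_apply, ← map_mul, mul_inv_cancel, map_one]; rfl
  have h2 : ρ z (ρ y w) = ρ y⁻¹ (ρ z w) := by
    rw [← MulAut.mul_apply, ← MulAut.mul_apply, ← map_mul, ← map_mul, ← h]
    congr 2; group
  refine ⟨(ρ y⁻¹ (ρ z w))⁻¹, ?_⟩
  rw [cm_apply, cm_apply, map_mul (ρ z), h2, map_inv (ρ z), inv_inv, map_inv (ρ y) (ρ y⁻¹ (ρ z w)), h1, mul_comm]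

variable {ρ}

/-- `y` of odd order has no fixed points in `[V, y]` -/
theorem eq_one_of_fix (hV : ∀ v : V, v * v = 1) {y : X} (hy : Odd (orderOf y)) {w : V}
    (hw : w ∈ (cm ρ y).range) (hf : ρ y w = w) : w = 1 := by
  obtain ⟨v, rfl⟩ := hw
  set w := cm ρ y v with hwdef
  have h1 : ρ y v = w * v := by rw [hwdef, cm_apply]; group
  have h2 : ∀ k : ℕ, ρ (y ^ k) v = w ^ k * v := by
    intro k
    induction k with
    | zero => rw [pow_zero, map_one, pow_zero, one_mul]; rfl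
    | succ k ih =>
      rw [pow_succ', map_mul, MulAut.mul_apply, ih, map_mul, map_pow, hf, h1, ← mul_assoc, ← pow_succ]
  have h3 := h2 (orderOf y)
  rw [pow_orderOf_eq_one, map_one] at h3
  have h4 : w ^ orderOf y = 1 := by
    have h5 : v = w ^ orderOf y * v := h3
    exact (mul_eq_right.1 h5.symm)
  obtain ⟨k, hk⟩ := hy
  rw [hk, pow_succ, pow_mul, sq, hV w, one_pow, one_mul] at h4
  exact h4

/-- the same for powers of `y` acting without fixed points: counting -/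
theorem dvd_card_sub_one [Finite V] (hV : ∀ v : V, v * v = 1) {l : ℕ} (hl : l.Prime) (hl2 : l ≠ 2) {y : X}
    (hy : orderOf y = l) : l ∣ (fx ρ y).index - 1 := by
  have hodd : Odd l := hl.odd_of_ne_two hl2
  have hfin : Finite (Subgroup.zpowers y) :=
    Nat.finite_of_card_ne_zero (by rw [Nat.card_zpowers, hy]; exact hl.ne_zero)
  have h := card_dvd_sub_one (K := V) (D := Subgroup.zpowers y)
    (ρ.comp (Subgroup.zpowers y).subtype) (cm ρ y).range ?_ ?_
  · rwa [Nat.card_zpowers, hy, card_range_cm] at h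
  · rintro ⟨d, hd⟩ c hc
    obtain ⟨n, rfl⟩ := Subgroup.mem_zpowers_iff.1 hd
    exact apply_mem_range ρ (z := y ^ n) (by rw [← zpow_add_one, ← zpow_one_add, add_comm]) hc
  · rintro ⟨d, hd⟩ c hc hc1 hfix
    by_contra hne
    have hd1 : d ≠ 1 := fun h => hne (Subtype.ext h)
    have hod : orderOf d = l := by
      have h1 : orderOf d ∣ l := by rw [← hy]; exact orderOf_dvd_of_mem_zpowers hd
      rcases (Nat.dvd_prime hl).1 h1 with h2 | h2
      · exact absurd (orderOf_eq_one_iff.1 h2) hd1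
      · exact h2
    have hyd : y ∈ Subgroup.zpowers d := by
      have h1 : Subgroup.zpowers d ≤ Subgroup.zpowers y := by rwa [Subgroup.zpowers_le]
      have h2 : Subgroup.zpowers d = Subgroup.zpowers y :=
        Subgroup.eq_of_le_of_card_ge h1 (by rw [Nat.card_zpowers, Nat.card_zpowers, hod, hy])
      rw [h2]; exact Subgroup.mem_zpowers y
    obtain ⟨n, hn⟩ := Subgroup.mem_zpowers_iff.1 hyd
    apply hc1
    apply eq_one_of_fix hV (by rw [hy]; exact hodd) hc
    have h3 : c ∈ fx ρ d := hfix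
    have h4 : c ∈ fx ρ (d ^ n) := by
      obtain ⟨m, rfl | rfl⟩ := n.eq_nat_or_neg
      · rw [zpow_natCast]; exact fx_pow ρ h3 m
      · rw [zpow_neg, zpow_natCast]; exact fx_inv ρ (fx_pow ρ h3 m)
    rw [hn] at h4
    exact h4

theorem index_pow [Finite V] (hV : ∀ v : V, v * v = 1) (C : Subgroup V) : ∃ d : ℕ, C.index = 2 ^ d := by
  have : Fact (Nat.Prime 2) := ⟨Nat.prime_two⟩
  obtain ⟨n, hn⟩ := (IsPGroup.iff_card (p := 2)).1 (isPGroup_two hV)
  have h1 : C.index ∣ 2 ^ n := by rw [← hn]; exact C.index_dvd_card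
  obtain ⟨d, -, hd⟩ := (Nat.dvd_prime_pow Nat.prime_two).1 h1
  exact ⟨d, hd⟩

/-- `y` of odd prime order `l` acting nontrivially -/
theorem prim [Finite V] (hV : ∀ v : V, v * v = 1) {l : ℕ} (hl : l.Prime) (hl2 : l ≠ 2) {y : X}
    (hy : orderOf y = l) (hne : ∃ v, ρ y v ≠ v) : ∃ d : ℕ, 0 < d ∧ (fx ρ y).index = 2 ^ d ∧ l ∣ 2 ^ d - 1 := by
  obtain ⟨d, hd⟩ := index_pow hV (fx ρ y)
  refine ⟨d, ?_, hd, ?_⟩
  · rcases Nat.eq_zero_or_pos d with h | h
    · exfalso
      rw [h, pow_zero, Subgroup.index_eq_one] at hd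
      obtain ⟨v, hv⟩ := hne
      apply hv
      have : v ∈ fx ρ y := by rw [hd]; trivial
      exact this
    · exact h
  · rw [← hd]; exact dvd_card_sub_one hV hl hl2 hy

/-- an involution `a` inverting `y` has `|C_{[V,y]}(a)| ^ 2 = |[V,y]|`: the exponent of `|V : C_V(y)|` is even -/
theorem prim_even [Finite V] (hV : ∀ v : V, v * v = 1) {a y : X} (ha : a * a = 1) (hy : Odd (orderOf y))
    (h : a * y * a⁻¹ = y⁻¹) : ∃ d : ℕ, (fx ρ y).index = (2 ^ d) ^ 2 := by
  -- the action of `a` on `R = [V, y]`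
  set R := (cm ρ y).range with hR
  have hst : ∀ v ∈ R, ρ a v ∈ R := fun v hv => apply_mem_range_of_inv ρ h hv
  have haa : ∀ v : V, ρ a (ρ a v) = v := by
    intro v
    rw [← MulAut.mul_apply, ← map_mul, ha, map_one]; rfl
  let f : R →* R :=
    { toFun := fun v => ⟨ρ a v * (v : V)⁻¹, mul_mem (hst v v.2) (inv_mem v.2)⟩
      map_one' := by apply Subtype.ext; simp
      map_mul' := fun v w => by
        apply Subtype.ext
        show ρ a (v * w : V) * (v * w : V)⁻¹ = (ρ a v * (v : V)⁻¹) * (ρ a w * (w : V)⁻¹)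
        rw [map_mul, mul_inv]
        exact mul_mul_mul_comm _ _ _ _ }
  have hf : ∀ v : R, ((f v : R) : V) = ρ a v * (v : V)⁻¹ := fun v => rfl
  -- `range f ≤ ker f`
  have h1 : f.range ≤ f.ker := by
    rintro _ ⟨v, rfl⟩
    rw [MonoidHom.mem_ker]
    apply Subtype.ext
    have e : ρ a (ρ a v * (v : V)⁻¹) = (v : V) * (ρ a v)⁻¹ := by rw [map_mul, map_inv, haa]
    rw [hf, hf, e]
    show (v : V) * (ρ a v)⁻¹ * (ρ a v * (v : V)⁻¹)⁻¹ = 1
    rw [mul_inv, inv_inv, mul_comm (v : V), mul_mul_mul_comm, hV, one_mul, hV]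
  -- `C = C_R(a)`, `C' = C_R(a)^y`
  set C : Subgroup V := fx ρ a ⊓ R with hC
  set C' : Subgroup V := C.map (ρ y : V ≃* V).toMonoidHom with hC'
  have hC'R : C' ≤ R := by
    rintro _ ⟨v, hv, rfl⟩
    exact apply_mem_range ρ rfl hv.2
  have hcc : ∀ v ∈ C, v ∈ C' → v = 1 := by
    rintro v hv ⟨w, hw, hwv⟩
    have h2 : v ∈ fx ρ (y * a * y⁻¹) := by
      rw [fx_conj]; exact ⟨w, hw.1, hwv⟩
    apply eq_one_of_fix hV hy hv.2
    have h3 : y * a * y⁻¹ = y * y * a := by
      have h3 : a * y⁻¹ = y * a := by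
        calc a * y⁻¹ = (a * y * a⁻¹)⁻¹ * a := by group
          _ = y * a := by rw [h, inv_inv]
      rw [mul_assoc, h3, mul_assoc]
    rw [h3] at h2
    have h5 := fx_mul ρ h2 (fx_inv ρ hv.1)
    rw [mul_inv_cancel_right] at h5
    exact fx_of_sq ρ hy h5
  have hcard' : Nat.card C' = Nat.card C := Subgroup.card_map_of_injective (ρ y).injective
  have h2 : Nat.card C * Nat.card C' ≤ Nat.card R := by
    rw [← Nat.card_prod]
    apply Nat.card_le_card_of_injective (fun p : C × C' => (⟨p.1 * p.2, mul_mem p.1.2.2 (hC'R p.2.2)⟩ : R))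
    rintro ⟨⟨c, hc⟩, ⟨d, hd⟩⟩ ⟨⟨c', hc'⟩, ⟨d', hd'⟩⟩ he
    have he' : c * d = c' * d' := congrArg Subtype.val he
    have h6 : c'⁻¹ * c = d' * d⁻¹ := by
      rw [inv_mul_eq_iff_eq_mul, ← mul_assoc, ← he', mul_inv_cancel_right]
    have h7 := hcc _ (mul_mem (inv_mem hc') hc) (by rw [h6]; exact mul_mem hd' (inv_mem hd))
    have h8 : c = c' := by rw [inv_mul_eq_one] at h7; exact h7.symm
    have h9 : d = d' := by rw [h8] at he'; exact mul_left_cancel he'
    subst h8 h9; rfl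
  have hker : Nat.card f.ker = Nat.card C := by
    refine Nat.card_congr ⟨fun v => ⟨v.1.1, ?_, v.1.2⟩, fun v => ⟨⟨v.1, v.2.2⟩, ?_⟩, fun v => rfl, fun v => rfl⟩
    · have h6 : f v.1 = 1 := v.2
      have h7 := congrArg Subtype.val h6
      rw [hf] at h7
      exact mul_inv_eq_one.1 h7
    · show _ ∈ f.ker
      rw [MonoidHom.mem_ker]
      apply Subtype.ext
      rw [hf]
      show ρ a v.1 * v.1⁻¹ = 1
      rw [show ρ a v.1 = v.1 from v.2.1, mul_inv_cancel]
  have h3 : Nat.card R ≤ Nat.card C * Nat.card C := by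
    have h6 := f.ker.card_mul_index
    rw [Subgroup.index_ker, hker] at h6
    have h7 : Nat.card f.range ≤ Nat.card f.ker := Nat.card_le_card_of_injective _ (Subgroup.inclusion_injective h1)
    rw [hker] at h7
    rw [← h6]
    exact Nat.mul_le_mul_left _ h7
  have h4 : Nat.card R = Nat.card C ^ 2 := by rw [hcard'] at h2; rw [sq]; omega
  have : Fact (Nat.Prime 2) := ⟨Nat.prime_two⟩
  obtain ⟨d, hd⟩ := (IsPGroup.iff_card (p := 2)).1 ((isPGroup_two hV).to_subgroup C)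
  refine ⟨d, ?_⟩
  rw [← card_range_cm, ← hd]
  exact h4

/-- LOWER BOUND: `a` inverts `y` of odd prime order `l` acting nontrivially, every `d` with `l ∣ 2 ^ d - 1` is
`0` or at least `2 * k`: then `|V : C_V(a)| ≥ 2 ^ k` -/
theorem le_index [Finite V] (hV : ∀ v : V, v * v = 1) {l k : ℕ} (hl : l.Prime) (hl2 : l ≠ 2) {a y : X}
    (hy : orderOf y = l) (hne : ∃ v, ρ y v ≠ v) (h : a * y * a⁻¹ = y⁻¹)
    (hk : ∀ d, 0 < d → l ∣ 2 ^ d - 1 → 2 * k ≤ d) : 2 ^ k ≤ (fx ρ a).index := by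
  obtain ⟨d, hd, h1, h2⟩ := prim hV hl hl2 hy hne
  have h3 := half' ρ (a := a) (y := y) (by rw [hy]; exact hl.odd_of_ne_two hl2) h
  have h4 : (2 ^ k) ^ 2 ≤ (fx ρ a).index ^ 2 := by
    refine le_trans ?_ h3
    rw [h1, ← pow_mul, mul_comm k 2]
    exact Nat.pow_le_pow_right (by norm_num) (hk d hd h2)
  exact (Nat.pow_le_pow_iff_left (by norm_num)).1 h4

end general

section sl2

open Matrix

variable {F : Type*} [Field F] [Fintype F] [CharP F 2]

/-- the recursion of the powers of a matrix of trace `c` and determinant `1` -/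
def Pn (c : F) : ℕ → F
  | 0 => 0
  | 1 => 1
  | (n + 2) => c * Pn c (n + 1) - Pn c n

omit [Fintype F] [CharP F 2] in
theorem pow_entries (x : SpecialLinearGroup (Fin 2) F) {c : F} (hc : x 0 0 + x 1 1 = c) (n : ℕ) :
    (x ^ (n + 1)) 0 0 = Pn c (n + 1) * x 0 0 - Pn c n ∧ (x ^ (n + 1)) 0 1 = Pn c (n + 1) * x 0 1 ∧
    (x ^ (n + 1)) 1 0 = Pn c (n + 1) * x 1 0 ∧ (x ^ (n + 1)) 1 1 = Pn c (n + 1) * x 1 1 - Pn c n := by
  have hd := T1Sl2.det x
  induction n with
  | zero => simp [Pn]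
  | succ n ih =>
    obtain ⟨h1, h2, h3, h4⟩ := ih
    have e : Pn c (n + 1 + 1) = c * Pn c (n + 1) - Pn c n := rfl
    rw [pow_succ, mul00, mul01, mul10, mul11, h1, h2, h3, h4, e]
    have hc' : c = x 0 0 + x 1 1 := hc.symm
    generalize Pn c (n + 1) = P1
    generalize Pn c n = P0
    subst hc'
    refine ⟨?_, ?_, ?_, ?_⟩
    · linear_combination (-P1) * hd
    · ring
    · ring
    · linear_combination (-P1) * hd

omit [Fintype F] [CharP F 2] in
theorem pow_eq_one_iff (x : SpecialLinearGroup (Fin 2) F) {c : F} (hc : x 0 0 + x 1 1 = c)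
    (hx : x 0 1 ≠ 0 ∨ x 1 0 ≠ 0 ∨ x 0 0 ≠ x 1 1) (n : ℕ) :
    x ^ (n + 1) = 1 ↔ Pn c (n + 1) = 0 ∧ Pn c n = -1 := by
  obtain ⟨h1, h2, h3, h4⟩ := pow_entries x hc n
  constructor
  · intro h
    rw [h, one00] at h1
    rw [h, one01] at h2
    rw [h, one10] at h3
    rw [h, one11] at h4
    have h5 : Pn c (n + 1) = 0 := by
      rcases hx with h6 | h6 | h6
      · rcases mul_eq_zero.1 h2.symm with h7 | h7
        · exact h7
        · exact absurd h7 h6
      · rcases mul_eq_zero.1 h3.symm with h7 | h7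
        · exact h7
        · exact absurd h7 h6
      · have h7 : Pn c (n + 1) * (x 0 0 - x 1 1) = 0 := by linear_combination h4 - h1
        rcases mul_eq_zero.1 h7 with h8 | h8
        · exact h8
        · exact absurd (sub_eq_zero.1 h8) h6
    refine ⟨h5, ?_⟩
    rw [h5] at h1
    linear_combination h1
  · rintro ⟨h5, h6⟩
    apply ext2
    · rw [h1, h5, h6, one00]; ring
    · rw [h2, h5, one01]; ring
    · rw [h3, h5, one10]; ring
    · rw [h4, h5, h6, one11]; ring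

omit [Fintype F] [CharP F 2] in
theorem orderOf_eq_of_trace (x y : SpecialLinearGroup (Fin 2) F) (hc : x 0 0 + x 1 1 = y 0 0 + y 1 1)
    (hx : x 0 1 ≠ 0 ∨ x 1 0 ≠ 0 ∨ x 0 0 ≠ x 1 1) (hy : y 0 1 ≠ 0 ∨ y 1 0 ≠ 0 ∨ y 0 0 ≠ y 1 1) :
    orderOf x = orderOf y := by
  rw [orderOf_eq_orderOf_iff]
  intro n
  cases n with
  | zero => simp
  | succ n => rw [pow_eq_one_iff x hc hx, pow_eq_one_iff y rfl hy]

theorem inverts_of_orderOf {a y₀ : SpecialLinearGroup (Fin 2) F} (ha : a * a = 1) (ha1 : a ≠ 1)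
    (hy : ¬ orderOf y₀ ∣ 2) : ∃ y, orderOf y = orderOf y₀ ∧ a * y * a⁻¹ = y⁻¹ := by
  obtain ⟨g, t, rfl⟩ := exists_conj_up ha
  have ht : t ≠ 0 := by
    rintro rfl
    apply ha1
    rw [up_zero]; group
  have h2 : (2 : F) = 0 := CharTwo.two_eq_zero
  set c := y₀ 0 0 + y₀ 1 1 with hc
  have hd := T1Sl2.det y₀
  have hsq : y₀ * y₀ = 1 → False := by
    intro h
    apply hy
    apply orderOf_dvd_of_pow_eq_one
    rw [sq, h]
  have hc0 : c ≠ 0 := by
    intro h0
    apply hsq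
    have h5 : y₀ 1 1 = - y₀ 0 0 := by linear_combination h0
    apply ext2
    · rw [mul00, one00]; rw [h5] at hd; linear_combination -hd + (-1 : F) * h2
    · rw [mul01, one01, h5]; ring
    · rw [mul10, one10, h5]; ring
    · rw [mul11, one11]; rw [h5] at hd ⊢; linear_combination -hd + (-1 : F) * h2
  set x : SpecialLinearGroup (Fin 2) F := mk 0 (t / c) (c / t) c (by
    field_simp; linear_combination -h2) with hx
  have h3 : up t * x * (up t)⁻¹ = x⁻¹ := by
    apply ext2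
    · rw [mul00, mul00, mul01, inv00, inv10, inv00]; simp [hx]; field_simp
    · rw [mul01, mul00, mul01, inv01, inv11, inv01]; simp [hx, CharTwo.neg_eq]; field_simp; linear_combination c ^ 2 * h2
    · rw [mul10, mul10, mul11, inv00, inv10, inv10]; simp [hx, CharTwo.neg_eq]
    · rw [mul11, mul10, mul11, inv01, inv11, inv11]; simp [hx, CharTwo.neg_eq]; field_simp; linear_combination c * h2
  refine ⟨g * x * g⁻¹, ?_, ?_⟩
  · rw [orderOf_conj']
    apply orderOf_eq_of_trace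
    · rw [hx]; simp [hc]
    · right; left
      rw [hx, mk10]
      exact div_ne_zero hc0 ht
    · by_contra hcon
      push Not at hcon
      obtain ⟨e1, e2, e3⟩ := hcon
      apply hc0
      rw [hc, e3, CharTwo.add_self_eq_zero]
  · have h4 : g * up t * g⁻¹ * (g * x * g⁻¹) * (g * up t * g⁻¹)⁻¹ = g * (up t * x * (up t)⁻¹) * g⁻¹ := by group
    rw [h4, h3]; group

theorem center_sl2 : Subgroup.center (SpecialLinearGroup (Fin 2) F) = ⊥ := by
  rw [eq_bot_iff]
  intro z hz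
  rw [Subgroup.mem_center_iff] at hz
  have h1 := hz (up 1)
  have h2 := hz (lo 1)
  have e1 : (up (1 : F) * z) 0 0 = (z * up (1 : F) : SpecialLinearGroup (Fin 2) F) 0 0 := by rw [h1]
  have e2 : (lo (1 : F) * z) 1 1 = (z * lo (1 : F) : SpecialLinearGroup (Fin 2) F) 1 1 := by rw [h2]
  have e3 : (up (1 : F) * z) 0 1 = (z * up (1 : F) : SpecialLinearGroup (Fin 2) F) 0 1 := by rw [h1]
  rw [mul00, mul00] at e1
  rw [mul11, mul11] at e2
  rw [mul01, mul01] at e3
  simp only [up00, up01, up10, up11, lo00, lo01, lo10, lo11] at e1 e2 e3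
  have h10 : z 1 0 = 0 := by linear_combination e1
  have h01 : z 0 1 = 0 := by linear_combination e2
  have h11 : z 1 1 = z 0 0 := by linear_combination e3
  have hd := T1Sl2.det z
  rw [h10, h01, h11] at hd
  have h2' : (2 : F) = 0 := CharTwo.two_eq_zero
  have h9 : (z 0 0 - 1) * (z 0 0 - 1) = 0 := by linear_combination hd + (1 - z 0 0) * h2'
  have h00 : z 0 0 = 1 := by
    rcases mul_eq_zero.1 h9 with h | h <;> linear_combination h
  rw [Subgroup.mem_bot]
  apply ext2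
  · rw [h00, one00]
  · rw [h01, one01]
  · rw [h10, one10]
  · rw [h11, h00, one11]

theorem isSimpleGroup_sl2 (h : 4 ≤ Fintype.card F) : IsSimpleGroup (SpecialLinearGroup (Fin 2) F) := by
  have h1 := TwoFusion.SLTwoFacts.isSimpleGroup_psl (F := F) (by omega)
  let e : SpecialLinearGroup (Fin 2) F ≃* ProjectiveSpecialLinearGroup (Fin 2) F :=
    (QuotientGroup.quotientBot.symm).trans (QuotientGroup.quotientMulEquivOfEq center_sl2.symm)
  exact e.isSimpleGroup

variable {V : Type*} [CommGroup V]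

theorem nontrivial_of (h : 4 ≤ Fintype.card F) (ρ : SpecialLinearGroup (Fin 2) F →* MulAut V)
    (hρ : ∃ g v, ρ g v ≠ v) {y : SpecialLinearGroup (Fin 2) F} (hy : y ≠ 1) : ∃ v, ρ y v ≠ v := by
  by_contra hcon
  push Not at hcon
  have hs := isSimpleGroup_sl2 h
  have hyk : y ∈ ρ.ker := by
    rw [MonoidHom.mem_ker]
    ext v
    exact hcon v
  rcases hs.eq_bot_or_eq_top_of_normal ρ.ker inferInstance with h1 | h1
  · rw [h1] at hyk; exact hy hyk
  · obtain ⟨g, v, hg⟩ := hρ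
    apply hg
    have h2 : g ∈ ρ.ker := by rw [h1]; trivial
    rw [MonoidHom.mem_ker] at h2
    rw [h2]; rfl

theorem dvd_card_of {f l : ℕ} (hF : Fintype.card F = 2 ^ f) (h : l ∣ 2 ^ (2 * f) - 1) (hl : l.Prime) :
    l ∣ Nat.card (SpecialLinearGroup (Fin 2) F) := by
  rw [card_sl2, hF]
  have h1 : 2 ^ (2 * f) - 1 = (2 ^ f + 1) * (2 ^ f - 1) := by
    have := Nat.sq_sub_sq (2 ^ f) 1
    rw [one_pow] at this
    rw [← this, ← pow_mul, mul_comm f 2]
  rw [h1] at h
  rcases (Nat.Prime.dvd_mul hl).1 h with h2 | h2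
  · exact (h2.mul_right _).mul_right _
  · exact h2.mul_left _

/-- an involution `a` of `SL₂(q)`, `q ≥ 4`, inverts an element `y` of odd order with `|V : C_V(y)| ≥ q²` -/
theorem sl2_exists [Finite V] (h4 : 4 ≤ Fintype.card F) (hV : ∀ v : V, v * v = 1)
    (ρ : SpecialLinearGroup (Fin 2) F →* MulAut V) (hρ : ∃ g v, ρ g v ≠ v)
    {a : SpecialLinearGroup (Fin 2) F} (ha : a * a = 1) (ha1 : a ≠ 1) :
    ∃ y, Odd (orderOf y) ∧ a * y * a⁻¹ = y⁻¹ ∧ Fintype.card F ^ 2 ≤ (fx ρ y).index := by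
  obtain ⟨f, hf, hF⟩ := card_pow F
  rw [hF] at h4
  have hf2 : 2 ≤ f := by
    by_contra hcon
    have : f = 1 := by omega
    rw [this] at h4
    norm_num at h4
  have hfin : Finite (SpecialLinearGroup (Fin 2) F) := inferInstance
  rw [hF]
  by_cases h3 : f = 3
  · -- `q = 8`, `l = 7`
    subst h3
    have hl : Nat.Prime 7 := by norm_num
    have : Fact (Nat.Prime 7) := ⟨hl⟩
    obtain ⟨y₀, hy₀⟩ := exists_prime_orderOf_dvd_card' 7
      (dvd_card_of (F := F) hF (by norm_num) hl)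
    obtain ⟨y, hy, hay⟩ := inverts_of_orderOf ha ha1 (y₀ := y₀) (by rw [hy₀]; norm_num)
    rw [hy₀] at hy
    have hne := nontrivial_of (by rw [hF]; norm_num) ρ hρ (y := y) (by
      rintro rfl; rw [orderOf_one] at hy; omega)
    obtain ⟨d, hd, h5, h6⟩ := prim hV hl (by norm_num) hy hne
    obtain ⟨e, he⟩ := prim_even (ρ := ρ) hV ha (by rw [hy]; decide) hay
    have h7 : d = 2 * e := by
      rw [h5, ← pow_mul] at he
      rw [Nat.pow_right_injective (le_refl 2) he, mul_comm]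
    have h8 : 6 ≤ d := by
      by_contra hcon
      have : d = 2 ∨ d = 4 := by omega
      rcases this with rfl | rfl <;> norm_num at h6
    refine ⟨y, by rw [hy]; decide, hay, ?_⟩
    rw [h5, ← pow_mul]
    exact Nat.pow_le_pow_right (by norm_num) h8
  · obtain ⟨l, hl, hl1, hl2, hl3⟩ := Lib.Zsigmondy.exists_primitive (a := 2) (n := 2 * f) le_rfl (by omega)
      (fun h => by omega) (fun h => by omega)
    have hlne : l ≠ 2 := fun h => hl3 (by rw [h])
    have : Fact l.Prime := ⟨hl⟩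
    obtain ⟨y₀, hy₀⟩ := exists_prime_orderOf_dvd_card' l
      (dvd_card_of (F := F) hF ((hl1 (2 * f)).2 dvd_rfl) hl)
    obtain ⟨y, hy, hay⟩ := inverts_of_orderOf ha ha1 (y₀ := y₀) (by
      rw [hy₀, Nat.dvd_prime Nat.prime_two]
      have := hl.one_lt
      omega)
    rw [hy₀] at hy
    have hne := nontrivial_of (by rw [hF]; exact h4) ρ hρ (y := y) (by
      rintro rfl; rw [orderOf_one] at hy; exact hl.one_lt.ne hy)
    obtain ⟨d, hd, h5, h6⟩ := prim hV hl hlne hy hne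
    refine ⟨y, by rw [hy]; exact hl.odd_of_ne_two hlne, hay, ?_⟩
    rw [h5, ← pow_mul, mul_comm f 2]
    exact Nat.pow_le_pow_right (by norm_num) (Nat.le_of_dvd hd ((hl1 d).1 h6))

/-- `|V : C_V(a)| ≥ q` for an involution `a` of `SL₂(q)`, `q ≥ 4`, acting nontrivially -/
theorem sl2_index [Finite V] (h4 : 4 ≤ Fintype.card F) (hV : ∀ v : V, v * v = 1)
    (ρ : SpecialLinearGroup (Fin 2) F →* MulAut V) (hρ : ∃ g v, ρ g v ≠ v)
    {a : SpecialLinearGroup (Fin 2) F} (ha : a * a = 1) (ha1 : a ≠ 1) :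
    Fintype.card F ≤ (fx ρ a).index := by
  obtain ⟨y, hy, hay, h⟩ := sl2_exists h4 hV ρ hρ ha ha1
  exact (Nat.pow_le_pow_iff_left (by norm_num)).1 (h.trans (half' ρ hy hay))

end sl2

end Cfsg.Agent.OddCyclic.FFBasic
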