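import Cfsg.Agent.OddCyclic.RedLBlk
import Cfsg.Agent.MinSimple.LemX
import Cfsg.Agent.MinSimple.DBlkReduce
import Cfsg.Agent.OddCyclic.FFBasic

/-!
# S0342, (C2), 2.1: the module of a 2-local subgroup

`X ≤ G` of characteristic 2 with Sylow 2-subgroup `T`, `B = bau T`. `mod X T = ⟨(Ω₁Z(T), [Z_L, L])^X⟩`, `L` running over
the blocks (dihedral and `SL₂(q)`) over `B` contained in `X`. It lies in `Ω₁Z(O₂(X))` and `O₂(X/C_X(mod X T)) = 1`
(`mod_core`). No solvability.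
-/

set_option autoImplicit false

namespace Cfsg.Agent.OddCyclic.RedX

open Subgroup Cfsg Cfsg.Agent.ZN Cfsg.Agent.MinSimple
open Cfsg.Agent.MinSimple.DBlkApi
open Cfsg.Agent.MinSimple.LemX (nc le_nc nc_le le_normalizer_nc fix_pt)
open Cfsg.Agent.OddCyclic.COneDefs (LBlk)
open scoped commutatorElement

universe u

variable {G : Type u} [Group G]

/-- `X` has characteristic 2 with Sylow 2-subgroup `T`. -/
structure Loc (X T : Subgroup G) : Prop where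
  char2 : X ⊓ centralizer (o2 X : Set G) ≤ o2 X
  two : IsPGroup 2 T
  TX : T ≤ X
  syl : ¬ 2 ∣ T.relIndex X

/-- dihedral or `SL₂(q)`-block -/
def IsB (B L : Subgroup G) : Prop := (∃ k, IsDBlk B L k) ∨ ∃ q, LBlk B L q

/-- The blocks over `bau T` inside `X`. -/
def blocks (X T : Subgroup G) : Set (Subgroup G) := {L | L ≤ X ∧ IsB (bau T) L}

section loc

variable [Finite G] {X T : Subgroup G}

theorem Loc.o2_le (hX : Loc X T) : o2 X ≤ T := VModule.o2_le_of_sylow hX.two hX.syl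

/-- (a) `O₂(X)` fixes the point of a block. -/
theorem o2_fix_pt (hX : Loc X T) {L : Subgroup G} {k : ℕ} {z : G} (hL : L ≤ X)
    (h : IsDBlk (bau T) L k) (hz : IsPt (bau T) L z) {q : G} (hq : q ∈ o2 X) :
    q * z * q⁻¹ = z := by
  set B := bau T with hB
  obtain ⟨y, hy, h3, h4, h0, -⟩ := gen h
  have hTB : ∀ t ∈ T, ∀ b ∈ B, t * b * t⁻¹ ∈ B := fun t ht b hb =>
    Four.conj_mem (le_normalizer_bau T ht) hb
  have hyz : y * z * y⁻¹ ∈ vl B L := Four.conj_mem (le_normalizer_vl B L hy) hz.1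
  refine fix_pt h hz (N := (zc B).map (MulAut.conj y).toMonoidHom) (n := y * z * y⁻¹) (t := q)
    ?_ ⟨z, hz.2.1, rfl⟩ hyz (fun h => hz.2.2 (conj_eq_one_iff.mp h))
    (fun h => hz.2.2 (h3 z hz.1 h)) ?_ (hTB q (hX.o2_le hq)) rfl rfl
  · rintro _ ⟨x, hx, rfl⟩
    exact Four.conj_mem (le_normalizer_zl B L hy) (zc_le_zl hx)
  · rintro _ ⟨x, hx, rfl⟩
    have h5 : y⁻¹ * q * y ∈ T := hX.o2_le (Four.conj_mem' (le_normalizer_o2 X (hL hy)) hq)
    have h6 : (y⁻¹ * q * y) * x * (y⁻¹ * q * y)⁻¹ ∈ zc B :=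
      Four.conj_mem (normalizer_le_normalizer_zc B (le_normalizer_bau T h5)) hx
    refine ⟨_, h6, ?_⟩
    simp only [MulEquiv.toMonoidHom_eq_coe, MonoidHom.coe_coe, MulAut.conj_apply]
    group

/-- (a) `vl B L ≤ Ω₁(Z(O₂(X)))` for the blocks `L` of `X`. -/
theorem vl_le_zc_o2_dih (hX : Loc X T) {L : Subgroup G} {k : ℕ} (hL : L ≤ X)
    (h : IsDBlk (bau T) L k) : vl (bau T) L ≤ zc (o2 X) := by
  obtain ⟨z, hz⟩ := exists_pt h
  have h1 : vl (bau T) L ≤ centralizer (o2 X : Set G) := by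
    refine vl_le_of h hz fun l hl => ?_
    rw [mem_centralizer_iff]
    intro q hq
    have h2 := o2_fix_pt hX hL h hz (Four.conj_mem' (le_normalizer_o2 X (hL hl)) hq)
    have h3 : q * (l * z * l⁻¹) * q⁻¹ = l * z * l⁻¹ := by
      calc q * (l * z * l⁻¹) * q⁻¹ = l * ((l⁻¹ * q * l) * z * (l⁻¹ * q * l)⁻¹) * l⁻¹ := by group
        _ = _ := by rw [h2]
    exact Four.conj_eq_iff_comm.mp h3
  intro v hv
  have h2 : v ∈ o2 X := hX.char2 ⟨hL (h.le (vl_le_B h hv)), h1 hv⟩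
  exact mem_zc.mpr ⟨h2, fun b hb => mem_centralizer_iff.mp (h1 hv) b hb, vl_sq h v hv⟩

/-- `O₂(X)` centralises `[Z_L, L]` for an `SL₂(q)`-block `L`. -/
theorem comm_o2_lblk (hX : Loc X T) {L : Subgroup G} {q : ℕ} (hL : L ≤ X) (h : LBlk (bau T) L q) {x : G}
    (hx : x ∈ o2 X) : ∀ v ∈ vl (bau T) L, x * v = v * x := by
  set B := bau T with hB
  have hTB : T ≤ normalizer (B : Set G) := le_normalizer_bau T
  have hnO : ∀ l ∈ L, l ∈ normalizer (o2 X : Set G) := fun l hl => ZN.le_normalizer_o2 X (hL hl)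
  obtain ⟨l₀, hl₀, hgen⟩ := RedLBlk.gen h
  have hxL : ∀ y ∈ o2 X, ∀ l ∈ L, y * l * y⁻¹ ∈ L := by
    intro y hy
    have h1 : L ≤ L.comap (MulAut.conj y).toMonoidHom := by
      refine hgen _ (fun b hb => ?_) fun b hb => ?_
      · exact h.le (Four.conj_mem (hTB (hX.o2_le hy)) hb)
      · have h2 : l₀⁻¹ * y * l₀ ∈ o2 X := Four.conj_mem' (hnO l₀ hl₀) hy
        have h3 : (l₀⁻¹ * y * l₀) * b * (l₀⁻¹ * y * l₀)⁻¹ ∈ B := Four.conj_mem (hTB (hX.o2_le h2)) hb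
        have h4 := L.mul_mem (L.mul_mem hl₀ (h.le h3)) (L.inv_mem hl₀)
        have e : l₀ * ((l₀⁻¹ * y * l₀) * b * (l₀⁻¹ * y * l₀)⁻¹) * l₀⁻¹ = y * (l₀ * b * l₀⁻¹) * y⁻¹ := by group
        rw [e] at h4
        exact h4
    exact fun l hl => h1 hl
  have hxN : ∀ y ∈ o2 X, y ∈ normalizer (L : Set G) := by
    have h1 : o2 X ≤ normalizer (L : Set G) := le_normalizer_iff.2 hxL
    exact fun y hy => h1 hy
  have hq : ∀ l ∈ L, x * l * x⁻¹ * l⁻¹ ∈ o2 L := by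
    intro l hl
    have h1 : o2 X ⊓ L ≤ o2 L := by
      refine FinalBridge.le_o2 inf_le_right ((FinalBridge.o2_isPGroup X).to_le inf_le_left) ?_
      rw [le_normalizer_iff]
      intro g hg y hy
      exact ⟨(mem_normalizer_iff.1 (hnO g hg) y).1 hy.1, L.mul_mem (L.mul_mem hg hy.2) (L.inv_mem hg)⟩
    refine h1 ⟨?_, L.mul_mem (hxL x hx l hl) (L.inv_mem hl)⟩
    have h2 : l * x⁻¹ * l⁻¹ ∈ o2 X := (mem_normalizer_iff.1 (hnO l hl) x⁻¹).1 ((o2 X).inv_mem hx)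
    have e : x * l * x⁻¹ * l⁻¹ = x * (l * x⁻¹ * l⁻¹) := by group
    rw [e]; exact (o2 X).mul_mem hx h2
  have hxz : ∀ p ∈ zl B L, x * p * x⁻¹ ∈ zl B L := fun p hp =>
    FinalBridge.zl_conj (hTB (hX.o2_le hx)) (hxN x hx) hp
  refine RedLBlk.comm_of_op h (P := zl B L) le_rfl (fun l hl p hp => FinalBridge.zl_conj_of_mem hl hp)
    (RedLBlk.not_zl_le_rl h) hxz ?_ ?_
  · intro l hl p hp
    have h1 : x * l * x⁻¹ * l⁻¹ ∈ centralizer (zl B L : Set G) := by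
      have := hq l hl
      rw [← h.cent_zl] at this
      exact this.2
    have h2 : l * (x * p * x⁻¹) * l⁻¹ ∈ zl B L := FinalBridge.zl_conj_of_mem hl (hxz p hp)
    have h3 := mem_centralizer_iff.1 h1 _ h2
    calc x * (l * p * l⁻¹) * x⁻¹ = (x * l * x⁻¹ * l⁻¹) * (l * (x * p * x⁻¹) * l⁻¹) * (x * l * x⁻¹ * l⁻¹)⁻¹ := by
          group
      _ = l * (x * p * x⁻¹) * l⁻¹ := by rw [← h3]; group
  · obtain ⟨n, hn⟩ := FinalBridge.o2_isPGroup X ⟨x, hx⟩
    have hn' : x ^ 2 ^ n = 1 := congrArg Subtype.val hn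
    exact ⟨n, fun p hp => by rw [hn']; simp⟩

/-- (a) `[Z_L, L] ≤ Ω₁(Z(O₂(X)))` for the blocks `L` of `X`. -/
theorem vl_le_zc_o2 (hX : Loc X T) {L : Subgroup G} (hL : L ≤ X)
    (h : IsB (bau T) L) : vl (bau T) L ≤ zc (o2 X) := by
  rcases h with ⟨k, h⟩ | ⟨q, h⟩
  · exact vl_le_zc_o2_dih hX hL h
  · have h1 : vl (bau T) L ≤ zl (bau T) L := vl_le_zl _ _
    have h2 : zl (bau T) L ≤ X := (FinalBridge.zl_le h.le).trans hL
    intro v hv
    have hc : v ∈ centralizer (o2 X : Set G) := mem_centralizer_iff.2 fun x hx => comm_o2_lblk hX hL h hx v hv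
    refine mem_zc.mpr ⟨hX.char2 ⟨h2 (h1 hv), hc⟩, fun b hb => mem_centralizer_iff.mp hc b hb, ?_⟩
    rw [pow_two]
    exact h.zl_sq v (h1 hv)

/-- The module of Lemma X. -/
def mod (X T : Subgroup G) : Subgroup G :=
  nc X (zc T ⊔ ⨆ L : blocks X T, vl (bau T) (L : Subgroup G))

omit [Finite G] in
theorem zc_le_mod : zc T ≤ mod X T := le_sup_left.trans (le_nc _ _)

omit [Finite G] in
theorem vl_le_mod {L : Subgroup G} (hL : L ≤ X) (h : IsB (bau T) L) :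
    vl (bau T) L ≤ mod X T :=
  (le_iSup (fun L : blocks X T => vl (bau T) (L : Subgroup G)) ⟨L, hL, h⟩).trans
    (le_sup_right.trans (le_nc _ _))

theorem mod_le (hX : Loc X T) : mod X T ≤ zc (o2 X) := by
  refine nc_le (sup_le (VModule.zc_le_zc_o2 hX.TX hX.two hX.syl hX.char2) (iSup_le fun L => ?_))
    ((ZN.le_normalizer_o2 X).trans (normalizer_le_normalizer_zc _))
  obtain ⟨L, hL, h⟩ := L
  exact vl_le_zc_o2 hX hL h

/-- `O₂(X/C_X(W))` centralises `[Z_L, L]` for an `SL₂(q)`-block `L`. -/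
theorem lblk_core (hX : Loc X T) {W D : Subgroup G} (hWn : X ≤ normalizer (W : Set G))
    (hD : X ≤ normalizer (D : Set G)) (h : ∀ d ∈ D, ∃ c ∈ centralizer (W : Set G), ∃ t ∈ T, d = c * t)
    {L : Subgroup G} {q : ℕ} (hL : L ≤ X) (hk : LBlk (bau T) L q) (hvW : vl (bau T) L ≤ W) :
    ∀ d ∈ D, ∀ v ∈ vl (bau T) L, d * v = v * d := by
  set B := bau T with hB
  have hTB : T ≤ normalizer (B : Set G) := le_normalizer_bau T
  have hTW : T ≤ normalizer (W : Set G) := hX.TX.trans hWn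
  have hBT : B ≤ T := ChoiceBase.bau_le T
  obtain ⟨l₀, hl₀, hgen⟩ := RedLBlk.gen hk
  have hl₀W := hWn (hL hl₀)
  set Z0 := zc B ⊓ W with hZ0
  set Z1 := Z0.map (MulAut.conj l₀).toMonoidHom with hZ1
  set P := Z0 ⊔ Z1 with hP
  have hZ1m : ∀ p ∈ Z0, l₀ * p * l₀⁻¹ ∈ Z1 := fun p hp => ⟨p, hp, rfl⟩
  have hPz : P ≤ zl B L := by
    refine sup_le (inf_le_left.trans (FinalBridge.zc_le_zl B L)) ?_
    rintro _ ⟨p, hp, rfl⟩
    exact FinalBridge.conj_mem_zl hl₀ hp.1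
  have hPW : P ≤ W := by
    refine sup_le inf_le_right ?_
    rintro _ ⟨p, hp, rfl⟩
    exact Four.conj_mem hl₀W hp.2
  -- `P` is `L`-invariant
  have hPn : L ≤ normalizer (P : Set G) := by
    refine hgen _ ?_ ?_
    · have h1 : B ≤ normalizer (P : Set G) := by
        rw [le_normalizer_iff]
        intro b hb p hp
        have h1 : b * p * b⁻¹ * p⁻¹ ∈ Z0 :=
          ⟨hk.comm b hb p (hPz hp), W.mul_mem (Four.conj_mem (hTW (hBT hb)) (hPW hp)) (W.inv_mem (hPW hp))⟩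
        have h2 := P.mul_mem (show b * p * b⁻¹ * p⁻¹ ∈ P from mem_sup_left h1) hp
        rwa [inv_mul_cancel_right] at h2
      exact fun b hb => h1 hb
    · have h1 : B.map (MulAut.conj l₀).toMonoidHom ≤ normalizer (P : Set G) := by
        rw [le_normalizer_iff]
        rintro _ ⟨b, hb, rfl⟩ p hp
        change (l₀ * b * l₀⁻¹) * p * (l₀ * b * l₀⁻¹)⁻¹ ∈ P
        have hp' : l₀⁻¹ * p * l₀ ∈ zl B L := by
          have := FinalBridge.zl_conj_of_mem (L.inv_mem hl₀) (hPz hp)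
          rwa [inv_inv] at this
        have hpW : l₀⁻¹ * p * l₀ ∈ W := Four.conj_mem' hl₀W (hPW hp)
        have h1 : b * (l₀⁻¹ * p * l₀) * b⁻¹ * (l₀⁻¹ * p * l₀)⁻¹ ∈ Z0 :=
          ⟨hk.comm b hb _ hp', W.mul_mem (Four.conj_mem (hTW (hBT hb)) hpW) (W.inv_mem hpW)⟩
        have h2 := P.mul_mem (show l₀ * (b * (l₀⁻¹ * p * l₀) * b⁻¹ * (l₀⁻¹ * p * l₀)⁻¹) * l₀⁻¹ ∈ P from
          mem_sup_right (hZ1m _ h1)) hp
        have e : l₀ * (b * (l₀⁻¹ * p * l₀) * b⁻¹ * (l₀⁻¹ * p * l₀)⁻¹) * l₀⁻¹ * p =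
            (l₀ * b * l₀⁻¹) * p * (l₀ * b * l₀⁻¹)⁻¹ := by group
        rwa [e] at h2
      exact fun b hb => h1 ⟨b, hb, rfl⟩
  have hPL : ∀ l ∈ L, ∀ p ∈ P, l * p * l⁻¹ ∈ P := fun l hl p hp => Four.conj_mem (hPn hl) hp
  have hPr : ¬ P ≤ rl B L := by
    intro hcon
    refine RedLBlk.not_zl_le_rl hk (RedLBlk.le_rl_of_triv hk le_rfl
      (fun l hl p hp => FinalBridge.zl_conj_of_mem hl hp) fun b hb p hp => hcon (mem_sup_left ⟨hk.comm b hb p hp, hvW ?_⟩))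
    have h1 : ⁅p, b⁆ ∈ vl B L := commutator_mem_commutator hp (hk.le hb)
    have h2 := (vl B L).inv_mem h1
    rw [commutatorElement_def] at h2
    have e : (p * b * p⁻¹ * b⁻¹)⁻¹ = b * p * b⁻¹ * p⁻¹ := by group
    rwa [e] at h2
  -- action of `D`
  have hact : ∀ c ∈ centralizer (W : Set G), ∀ t ∈ T, ∀ w ∈ W, (c * t) * w * (c * t)⁻¹ = t * w * t⁻¹ := by
    intro c hc t ht w hw
    have h1 : t * w * t⁻¹ ∈ W := Four.conj_mem (hTW ht) hw
    calc (c * t) * w * (c * t)⁻¹ = c * (t * w * t⁻¹) * c⁻¹ := by group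
      _ = t * w * t⁻¹ := Four.mem_cent_iff.mp hc _ h1
  have hDZ : ∀ d ∈ D, ∀ p ∈ Z0, d * p * d⁻¹ ∈ Z0 := by
    intro d hd p hp
    obtain ⟨c, hc, t, ht, rfl⟩ := h d hd
    rw [hact c hc t ht p hp.2]
    exact ⟨FinalBridge.zc_conj (hTB ht) hp.1, Four.conj_mem (hTW ht) hp.2⟩
  have hDP : ∀ d ∈ D, ∀ p ∈ P, d * p * d⁻¹ ∈ P := by
    intro d hd
    have h1 : P ≤ P.comap (MulAut.conj d).toMonoidHom := by
      refine sup_le (fun p hp => ?_) ?_
      · exact mem_sup_left (hDZ d hd p hp)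
      · rintro _ ⟨p, hp, rfl⟩
        have h2 := hDZ _ (Four.conj_mem' (hD (hL hl₀)) hd) p hp
        have h3 := hZ1m _ h2
        have e : l₀ * ((l₀⁻¹ * d * l₀) * p * (l₀⁻¹ * d * l₀)⁻¹) * l₀⁻¹ = d * (l₀ * p * l₀⁻¹) * d⁻¹ := by group
        rw [e] at h3
        exact mem_sup_right h3
    exact fun p hp => h1 hp
  have hTC : T ≤ normalizer (centralizer (W : Set G) : Set G) := hTW.trans (DBlkReduce.nc W)
  have hpow : ∀ c ∈ centralizer (W : Set G), ∀ t ∈ T, ∀ m : ℕ, ∃ c' ∈ centralizer (W : Set G),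
      (c * t) ^ m = c' * t ^ m := by
    intro c hc t ht m
    induction m with
    | zero => exact ⟨1, one_mem _, by simp⟩
    | succ m ih =>
      obtain ⟨c', hc', he⟩ := ih
      refine ⟨c' * (t ^ m * c * (t ^ m)⁻¹), mul_mem hc' (Four.conj_mem (hTC (T.pow_mem ht m)) hc), ?_⟩
      rw [pow_succ, he, pow_succ]
      group
  have hDpow : ∀ d ∈ D, ∃ n : ℕ, d ^ 2 ^ n ∈ centralizer (W : Set G) := by
    intro d hd
    obtain ⟨c, hc, t, ht, rfl⟩ := h d hd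
    obtain ⟨n, hn⟩ := hX.two ⟨t, ht⟩
    have hn' : t ^ 2 ^ n = 1 := congrArg Subtype.val hn
    obtain ⟨c', hc', he⟩ := hpow c hc t ht (2 ^ n)
    refine ⟨n, ?_⟩
    rw [he, hn', mul_one]
    exact hc'
  -- `N₁`: the elements of `L` acting on `W` like elements of `D`
  have hLC : L ≤ normalizer (centralizer (W : Set G) : Set G) := (hL.trans hWn).trans (DBlkReduce.nc W)
  have hLD : L ≤ normalizer (D : Set G) := hL.trans hD
  have hDC : ∀ d ∈ D, d ∈ normalizer (centralizer (W : Set G) : Set G) := by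
    intro d hd
    obtain ⟨c, hc, t, ht, rfl⟩ := h d hd
    exact mul_mem (le_normalizer hc) (hTC ht)
  let N₁ : Subgroup G :=
    { carrier := {l | l ∈ L ∧ ∃ c ∈ centralizer (W : Set G), c * l ∈ D}
      one_mem' := ⟨one_mem _, 1, one_mem _, by rw [mul_one]; exact one_mem _⟩
      mul_mem' := by
        rintro a b ⟨ha, c, hc, hca⟩ ⟨hb, c', hc', hcb⟩
        refine ⟨mul_mem ha hb, c * (a * c' * a⁻¹), mul_mem hc (Four.conj_mem (hLC ha) hc'), ?_⟩
        have e : c * (a * c' * a⁻¹) * (a * b) = (c * a) * (c' * b) := by group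
        rw [e]
        exact mul_mem hca hcb
      inv_mem' := by
        rintro a ⟨ha, c, hc, hca⟩
        refine ⟨inv_mem ha, a⁻¹ * c⁻¹ * a, Four.conj_mem' (hLC ha) (inv_mem hc), ?_⟩
        have e : a⁻¹ * c⁻¹ * a * a⁻¹ = (c * a)⁻¹ := by group
        rw [e]
        exact inv_mem hca }
  have hN₁ : ∀ l, l ∈ N₁ ↔ l ∈ L ∧ ∃ c ∈ centralizer (W : Set G), c * l ∈ D := fun l => Iff.rfl
  have hN₁n : ∀ l ∈ L, ∀ n ∈ N₁, l * n * l⁻¹ ∈ N₁ := by
    rintro l hl n ⟨hn, c, hc, hcn⟩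
    refine ⟨L.mul_mem (L.mul_mem hl hn) (L.inv_mem hl), l * c * l⁻¹, Four.conj_mem (hLC hl) hc, ?_⟩
    have e : l * c * l⁻¹ * (l * n * l⁻¹) = l * (c * n) * l⁻¹ := by group
    rw [e]
    exact Four.conj_mem (hLD hl) hcn
  have hN₁pow : ∀ n ∈ N₁, ∃ m : ℕ, n ^ 2 ^ m ∈ centralizer (W : Set G) := by
    rintro n ⟨hn, c, hc, hcn⟩
    obtain ⟨m, hm⟩ := hDpow _ hcn
    refine ⟨m, ?_⟩
    -- `(c n)^k = c' n^k`
    have key : ∀ k : ℕ, ∃ c' ∈ centralizer (W : Set G), (c * n) ^ k = c' * n ^ k := by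
      intro k
      induction k with
      | zero => exact ⟨1, one_mem _, by simp⟩
      | succ k ih =>
        obtain ⟨c', hc', he⟩ := ih
        refine ⟨c' * (n ^ k * c * (n ^ k)⁻¹), mul_mem hc' (Four.conj_mem (hLC (L.pow_mem hn k)) hc), ?_⟩
        rw [pow_succ, he, pow_succ]
        group
    obtain ⟨c', hc', he⟩ := key (2 ^ m)
    rw [he] at hm
    have := mul_mem (inv_mem hc') hm
    rwa [inv_mul_cancel_left] at this
  have hoP : ∀ x ∈ o2 L, ∀ p ∈ P, x * p * x⁻¹ = p := by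
    intro x hx p hp
    rw [← hk.cent_zl] at hx
    exact Four.mem_cent_iff.1 hx.2 p (hPz hp)
  -- `N₁` centralises `P`
  have hN₁P : ∀ n ∈ N₁, ∀ p ∈ P, n * p * n⁻¹ = p := by
    obtain ⟨F, iF, iF', iC, φ, hφ, hker, hq⟩ := hk.iso
    have h4 : 4 ≤ Fintype.card F := by rw [hq]; exact hk.four
    have hsim : IsSimpleGroup (Matrix.SpecialLinearGroup (Fin 2) F) := Cfsg.Agent.OddCyclic.FFBasic.isSimpleGroup_sl2 h4
    have hker' : ∀ x : L, φ x = 1 ↔ (x : G) ∈ o2 L := fun x => by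
      rw [← MonoidHom.mem_ker, hker, mem_subgroupOf]
    have hn : ((N₁.subgroupOf L).map φ).Normal := by
      have : (N₁.subgroupOf L).Normal := ⟨fun n hn l => hN₁n l l.2 n hn⟩
      exact this.map φ hφ
    rcases hsim.eq_bot_or_eq_top_of_normal _ hn with h1 | h1
    · intro n hn p hp
      refine hoP n ?_ p hp
      have h2 : φ ⟨n, hn.1⟩ ∈ (N₁.subgroupOf L).map φ := ⟨⟨n, hn.1⟩, hn, rfl⟩
      rw [h1, mem_bot] at h2
      exact (hker' _).1 h2
    · exfalso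
      obtain ⟨K, hKL, -, -, hodd, k, hkK, hk1⟩ := RedLBlk.exists_odd hk
      have h2 : φ ⟨k, hKL hkK⟩ ∈ (N₁.subgroupOf L).map φ := by rw [h1]; exact mem_top _
      obtain ⟨n, hn, hnk⟩ := h2
      have hnN : (n : G) ∈ N₁ := hn
      obtain ⟨m, hm⟩ := hN₁pow _ hnN
      -- `k ^ 2 ^ m` acts trivially on `P`
      have h3 : φ ((n ^ 2 ^ m)⁻¹ * ⟨k, hKL hkK⟩ ^ 2 ^ m) = 1 := by
        rw [map_mul, map_inv, map_pow, map_pow, hnk, inv_mul_cancel]
      have h5 : ((n : G) ^ 2 ^ m)⁻¹ * k ^ 2 ^ m ∈ o2 L := (hker' _).1 h3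
      have h6 : ∀ p ∈ P, (k ^ 2 ^ m) * p * (k ^ 2 ^ m)⁻¹ = p := by
        intro p hp
        have h7 := hoP _ h5 p hp
        have h8 := Four.mem_cent_iff.1 hm p (hPW hp)
        calc (k ^ 2 ^ m) * p * (k ^ 2 ^ m)⁻¹ = ((n : G) ^ 2 ^ m) *
              ((((n : G) ^ 2 ^ m)⁻¹ * k ^ 2 ^ m) * p * (((n : G) ^ 2 ^ m)⁻¹ * k ^ 2 ^ m)⁻¹) *
              ((n : G) ^ 2 ^ m)⁻¹ := by group
          _ = p := by rw [h7, h8]
      have hk2 : Odd (orderOf (k ^ 2 ^ m)) := Odd.of_dvd_nat (hodd k hkK) (orderOf_pow_dvd _)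
      have hk3 : k ^ 2 ^ m ≠ 1 := by
        intro h0
        have h7 := orderOf_dvd_of_pow_eq_one h0
        obtain ⟨a, ha, hb⟩ := (Nat.dvd_prime_pow Nat.prime_two).1 h7
        have h8 := hodd k hkK
        rw [hb] at h8
        rcases Nat.eq_zero_or_pos a with ha0 | ha0
        · rw [ha0, pow_zero] at hb
          exact hk1 (orderOf_eq_one_iff.1 hb)
        · exact (Nat.not_even_iff_odd.2 h8) ((Nat.even_pow.2 ⟨even_two, by omega⟩))
      apply hPr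
      intro p hp
      refine COneBlk.fpf_odd hk (L.pow_mem (hKL hkK) _) hk2 hk3 (hPz hp) ?_
      rw [h6 p hp, mul_inv_cancel]
      exact one_mem _
  intro d hd
  refine RedLBlk.comm_of_op hk hPz hPL hPr (hDP d hd) ?_ ?_
  · intro l hl p hp
    -- `d l d⁻¹ ∈ C(W) L`
    have h1 : ∀ g ∈ L, ∃ c ∈ centralizer (W : Set G), ∃ l' ∈ L, d * g * d⁻¹ = c * l' := by
      let CL : Subgroup G := 
        { carrier := {x | ∃ c ∈ centralizer (W : Set G), ∃ l' ∈ L, x = c * l'}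
          one_mem' := ⟨1, one_mem _, 1, one_mem _, by simp⟩
          mul_mem' := by
            rintro _ _ ⟨c, hc, a, ha, rfl⟩ ⟨c', hc', b, hb, rfl⟩
            exact ⟨c * (a * c' * a⁻¹), mul_mem hc (Four.conj_mem (hLC ha) hc'), a * b, mul_mem ha hb, by group⟩
          inv_mem' := by
            rintro _ ⟨c, hc, a, ha, rfl⟩
            exact ⟨a⁻¹ * c⁻¹ * a, Four.conj_mem' (hLC ha) (inv_mem hc), a⁻¹, inv_mem ha, by group⟩ }
      have hCL : L ≤ CL := fun l hl => ⟨1, one_mem _, l, hl, by simp⟩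
      have hb' : ∀ e ∈ D, ∀ b ∈ B, e * b * e⁻¹ ∈ CL := by
        intro e he b hb
        obtain ⟨c, hc, t, ht, rfl⟩ := h e he
        have h2 : t * b * t⁻¹ ∈ B := Four.conj_mem (hTB ht) hb
        refine ⟨c * ((t * b * t⁻¹) * c⁻¹ * (t * b * t⁻¹)⁻¹), mul_mem hc (Four.conj_mem (hTC (hBT h2)) (inv_mem hc)),
          t * b * t⁻¹, hk.le h2, by group⟩
      have h2 : L ≤ CL.comap (MulAut.conj d).toMonoidHom := by
        refine hgen _ (fun b hb => hb' d hd b hb) fun b hb => ?_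
        have h3 := hb' _ (Four.conj_mem' (hD (hL hl₀)) hd) b hb
        have h4 := CL.mul_mem (CL.mul_mem (hCL hl₀) h3) (CL.inv_mem (hCL hl₀))
        have e : l₀ * ((l₀⁻¹ * d * l₀) * b * (l₀⁻¹ * d * l₀)⁻¹) * l₀⁻¹ = d * (l₀ * b * l₀⁻¹) * d⁻¹ := by group
        rw [e] at h4
        exact h4
      exact fun g hg => h2 hg
    obtain ⟨c, hc, l', hl', he⟩ := h1 l hl
    have h2 : l' * l⁻¹ ∈ N₁ := by
      refine ⟨L.mul_mem hl' (L.inv_mem hl), c, hc, ?_⟩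
      have e : c * (l' * l⁻¹) = d * (l * d⁻¹ * l⁻¹) := by
        rw [← mul_assoc, ← he]; group
      rw [e]
      exact D.mul_mem hd (Four.conj_mem (hLD hl) (D.inv_mem hd))
    have h3 : l * (d * p * d⁻¹) * l⁻¹ ∈ P := hPL l hl _ (hDP d hd p hp)
    have h5 := hN₁P _ h2 _ h3
    calc d * (l * p * l⁻¹) * d⁻¹ = (d * l * d⁻¹) * (d * p * d⁻¹) * (d * l * d⁻¹)⁻¹ := by group
      _ = c * ((l' * l⁻¹) * (l * (d * p * d⁻¹) * l⁻¹) * (l' * l⁻¹)⁻¹) * c⁻¹ := by rw [he]; group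
      _ = c * (l * (d * p * d⁻¹) * l⁻¹) * c⁻¹ := by rw [h5]
      _ = l * (d * p * d⁻¹) * l⁻¹ := Four.mem_cent_iff.1 hc _ (hPW h3)
  · obtain ⟨n, hn⟩ := hDpow d hd
    exact ⟨n, fun p hp => Four.mem_cent_iff.1 hn p (hPW hp)⟩

/-- (b) `O₂(X/C_X(W)) = 1`. -/
theorem mod_core (hX : Loc X T) {D : Subgroup G} (hD : X ≤ normalizer (D : Set G))
    (h : ∀ d ∈ D, ∃ c ∈ centralizer (mod X T : Set G), ∃ t ∈ T, d = c * t) :
    D ≤ centralizer (mod X T : Set G) := by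
  set W := mod X T with hW
  set B := bau T with hB
  have hWn : X ≤ normalizer (W : Set G) := le_normalizer_nc _ _
  have hWT : W ≤ T := (mod_le hX).trans ((zc_le _).trans hX.o2_le)
  have hTB : ∀ t ∈ T, ∀ b ∈ B, t * b * t⁻¹ ∈ B := fun t ht b hb =>
    Four.conj_mem (le_normalizer_bau T ht) hb
  have hact : ∀ c ∈ centralizer (W : Set G), ∀ t ∈ T, ∀ w ∈ W,
      (c * t) * w * (c * t)⁻¹ = t * w * t⁻¹ := by
    intro c hc t ht w hw
    have h1 : t * w * t⁻¹ ∈ W := Four.conj_mem (hWn (hX.TX ht)) hw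
    calc (c * t) * w * (c * t)⁻¹ = c * (t * w * t⁻¹) * c⁻¹ := by group
      _ = t * w * t⁻¹ := Four.mem_cent_iff.mp hc _ h1
  -- `D` centralizes the generators
  have hz : ∀ x ∈ zc T, ∀ d ∈ D, d * x * d⁻¹ = x := by
    intro x hx d hd
    obtain ⟨c, hc, t, ht, rfl⟩ := h d hd
    rw [hact c hc t ht x (zc_le_mod hx)]
    exact Four.conj_eq_iff_comm.mpr (zc_comm hx ht)
  have hv : ∀ L : Subgroup G, ∀ k : ℕ, L ≤ X → IsDBlk B L k → vl B L ≤ centralizer (D : Set G) := by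
    intro L k hL hk
    obtain ⟨z, hz⟩ := exists_pt hk
    have hfix : ∀ d ∈ D, d * z * d⁻¹ = z := by
      intro d hd
      obtain ⟨y, hy, h3, h4, h0, -⟩ := gen hk
      have hyz : y * z * y⁻¹ ∈ vl B L := Four.conj_mem (le_normalizer_vl B L hy) hz.1
      have hvW : vl B L ≤ W := vl_le_mod hL (Or.inl ⟨_, hk⟩)
      obtain ⟨c, hc, t, ht, hdct⟩ := h d hd
      refine fix_pt hk hz
        (N := W ⊓ centralizer ((B.map (MulAut.conj y).toMonoidHom : Subgroup G) : Set G))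
        (n := y * z * y⁻¹) (t := t) ?_ ⟨hvW hyz, ?_⟩ hyz
        (fun h => hz.2.2 (conj_eq_one_iff.mp h))
        (fun h => hz.2.2 (h3 z hz.1 h)) ?_ (hTB t ht) ?_ ?_
      · rintro w ⟨hw, hwc⟩
        have h5 : y⁻¹ * w * y ∈ W := Four.conj_mem' (hWn (hL hy)) hw
        have h6 : y⁻¹ * w * y ∈ zc B := by
          rw [hB, zc_bau]
          refine mem_zj_of_comm (hWT h5) (zc_sq (mod_le hX h5)) fun b hb => ?_
          have h7 := mem_centralizer_iff.mp hwc (y * b * y⁻¹) ⟨b, jj_le_bau T hb, rfl⟩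
          have h8 : y⁻¹ * ((y * b * y⁻¹) * w) * y = y⁻¹ * (w * (y * b * y⁻¹)) * y := by rw [h7]
          calc b * (y⁻¹ * w * y) = y⁻¹ * ((y * b * y⁻¹) * w) * y := by group
            _ = y⁻¹ * (w * (y * b * y⁻¹)) * y := h8
            _ = y⁻¹ * w * y * b := by group
        have h7 : y * (y⁻¹ * w * y) * y⁻¹ ∈ zl B L :=
          Four.conj_mem (le_normalizer_zl B L hy) (zc_le_zl h6)
        have e : y * (y⁻¹ * w * y) * y⁻¹ = w := by group
        rwa [e] at h7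
      · change y * z * y⁻¹ ∈ centralizer _
        rw [mem_centralizer_iff]
        rintro _ ⟨b, hb, rfl⟩
        have h5 := hz.comm hb
        calc y * b * y⁻¹ * (y * z * y⁻¹) = y * (b * z) * y⁻¹ := by group
          _ = y * (z * b) * y⁻¹ := by rw [h5]
          _ = y * z * y⁻¹ * (y * b * y⁻¹) := by group
      · rintro w ⟨hw, hwc⟩
        obtain ⟨c', hc', t', ht', hd'⟩ := h (y⁻¹ * d * y) (Four.conj_mem' (hD (hL hy)) hd)
        have hd2 : d = (y * c' * y⁻¹) * (y * t' * y⁻¹) := by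
          calc d = y * (y⁻¹ * d * y) * y⁻¹ := by group
            _ = y * (c' * t') * y⁻¹ := by rw [hd']
            _ = _ := by group
        have h5 : y⁻¹ * w * y ∈ W := Four.conj_mem' (hWn (hL hy)) hw
        have h6 : d * w * d⁻¹ = (y * t' * y⁻¹) * w * (y * t' * y⁻¹)⁻¹ := by
          calc d * w * d⁻¹ = y * ((c' * t') * (y⁻¹ * w * y) * (c' * t')⁻¹) * y⁻¹ := by
                rw [hd2]; group
            _ = y * (t' * (y⁻¹ * w * y) * t'⁻¹) * y⁻¹ := by rw [hact c' hc' t' ht' _ h5]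
            _ = _ := by group
        have h7 : y * t' * y⁻¹ ∈ X :=
          X.mul_mem (X.mul_mem (hL hy) (hX.TX ht')) (X.inv_mem (hL hy))
        rw [h6]
        refine ⟨Four.conj_mem (hWn h7) hw, ?_⟩
        change _ ∈ centralizer _
        rw [mem_centralizer_iff]
        rintro _ ⟨b, hb, rfl⟩
        -- `w` commutes with `y (t'⁻¹ b t') y⁻¹`
        have h8 : t'⁻¹ * b * t' ∈ B := by
          have := hTB t'⁻¹ (T.inv_mem ht') b hb
          rwa [inv_inv] at this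
        have h9 := mem_centralizer_iff.mp hwc (y * (t'⁻¹ * b * t') * y⁻¹) ⟨_, h8, rfl⟩
        change (y * b * y⁻¹) * _ = _ * (y * b * y⁻¹)
        calc (y * b * y⁻¹) * ((y * t' * y⁻¹) * w * (y * t' * y⁻¹)⁻¹)
            = (y * t' * y⁻¹) * ((y * (t'⁻¹ * b * t') * y⁻¹) * w) * (y * t' * y⁻¹)⁻¹ := by group
          _ = (y * t' * y⁻¹) * (w * (y * (t'⁻¹ * b * t') * y⁻¹)) * (y * t' * y⁻¹)⁻¹ := by rw [h9]
          _ = _ := by group
      · rw [hdct]; exact hact c hc t ht _ (hvW hyz)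
      · rw [hdct]; exact hact c hc t ht _ (hvW hz.1)
    refine vl_le_of hk hz fun l hl => ?_
    rw [mem_centralizer_iff]
    intro d hd
    refine Four.conj_eq_iff_comm.mp ?_
    have h1 := hfix _ (Four.conj_mem' (hD (hL hl)) hd)
    calc d * (l * z * l⁻¹) * d⁻¹ = l * ((l⁻¹ * d * l) * z * (l⁻¹ * d * l)⁻¹) * l⁻¹ := by group
      _ = _ := by rw [h1]
  have h1 : W ≤ W ⊓ centralizer (D : Set G) := by
    refine nc_le ?_ ?_
    · refine sup_le (le_inf zc_le_mod ?_) (iSup_le fun L => ?_)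
      · intro x hx
        rw [mem_centralizer_iff]
        exact fun d hd => Four.conj_eq_iff_comm.mp (hz x hx d hd)
      · obtain ⟨L, hL, ⟨k, hk⟩ | ⟨q, hk⟩⟩ := L
        · exact le_inf (vl_le_mod hL (Or.inl ⟨k, hk⟩)) (hv L k hL hk)
        · refine le_inf (vl_le_mod hL (Or.inr ⟨q, hk⟩)) fun v hv' => mem_centralizer_iff.2 fun d hd => ?_
          exact lblk_core hX hWn hD h hL hk (vl_le_mod hL (Or.inr ⟨q, hk⟩)) d hd v hv'
    · intro g hg
      refine VModule.mem_normalizer_of_map_le ?_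
      rintro _ ⟨w, ⟨hw, hwc⟩, rfl⟩
      refine ⟨Four.conj_mem (hWn hg) hw, ?_⟩
      change g * w * g⁻¹ ∈ centralizer _
      rw [mem_centralizer_iff]
      intro d hd
      have h2 := mem_centralizer_iff.mp hwc _ (Four.conj_mem' (hD hg) hd)
      calc d * (g * w * g⁻¹) = g * ((g⁻¹ * d * g) * w) * g⁻¹ := by group
        _ = g * (w * (g⁻¹ * d * g)) * g⁻¹ := by rw [h2]
        _ = _ := by group
  exact le_centralizer_iff.mp (h1.trans inf_le_right)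


theorem mod_le_T (hX : Loc X T) : mod X T ≤ T :=
  (mod_le hX).trans ((zc_le _).trans hX.o2_le)

end loc

end Cfsg.Agent.OddCyclic.RedX
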