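import Cfsg.Agent.OddCyclic.AOneEnd
import Cfsg.Agent.OddCyclic.COneMid
import Cfsg.Agent.OddCyclic.RedX

/-!
# S0342, T_cyc, (A1) in case C2: `SL₂(q)`-blocks over the Baumann subgroup of a Sylow 2-subgroup commute

`false_of_pr`: `S` a Sylow 2-subgroup of the simple group `G` of characteristic 2 type with cyclic odd Sylow subgroups
and an element of order 6, `L`, `L'` an `SL₂(q)`- and an `SL₂(q')`-block over `B = bau S`: `[V_L, V_{L'}] = 1`.
`comm_mixed`: the same for a dihedral block `L` and an `SL₂(q)`-block `L'` (no further hypothesis).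
-/

set_option autoImplicit false

namespace Cfsg.Agent.OddCyclic.AOnePair

open Subgroup Cfsg Cfsg.Agent.ZN Cfsg.Agent.MinSimple
open Cfsg.Agent.OddCyclic.COneDefs Cfsg.Agent.OddCyclic.COneBlk Cfsg.Agent.OddCyclic.COnePair
open Cfsg.Agent.OddCyclic.T1Defs
open Cfsg.Agent.LieExceptional Cfsg.Agent.LieExceptional.CITDefs
open Cfsg.Agent.LieExceptional.CITPlaneCount (cj mem_cj card_cj conj_mem_cj cj_mul cj_one)
open scoped commutatorElement

universe u

variable {G : Type u} [Group G]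

/-- the Baumann subgroup is weakly closed -/
theorem bau_eq [Finite G] {S T : Subgroup G} (hS : IsSyl2 (⊤ : Subgroup G) S) (hT : IsPGroup 2 T)
    (hB : bau S ≤ T) : bau T = bau S := by
  obtain ⟨Q, hQ, hTQ⟩ := CITBasic.exists_isSyl2 ⊤ T le_top hT
  obtain ⟨m, -, hm⟩ := CITBasic.IsSyl2.conj hS hQ
  have hm' : ChoiceBase.cj m S = Q := hm.symm
  have h1 : ChoiceBase.key T ≤ ChoiceBase.key S := by
    rw [← ChoiceBase.key_cj m S, hm']
    exact ChoiceBase.key_mono hTQ
  exact (ChoiceBase.of_key_le hB h1).2.2.1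

/-- a Sylow 2-subgroup of the 2-local subgroup `X` over `bau S` -/
theorem exists_loc [Finite G] (hc : IsCharacteristicTwoType G) {S X : Subgroup G} (hS : IsSyl2 (⊤ : Subgroup G) S)
    (hX : IsTwoLocal X) (hB : bau S ≤ X) : ∃ T, RedX.Loc X T ∧ bau T = bau S := by
  obtain ⟨T, hT, hBT⟩ := ChoiceSit.exists_syl (hS.two.to_le (ChoiceBase.bau_le S)) hB
  exact ⟨T, ⟨ChoiceSit.self_cent hc hX, hT.2.1, hT.1, ChoiceSit.syl_not_dvd hT⟩, bau_eq hS hT.2.1 hBT⟩

theorem zl_le_sup (B L : Subgroup G) : zl B L ≤ vl B L ⊔ zc B := by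
  rw [zl]
  refine iSup_le fun g => ?_
  rintro _ ⟨z, hz, rfl⟩
  change (g : G) * z * (g : G)⁻¹ ∈ _
  have h1 : ⁅z, (g : G)⁆ ∈ vl B L := commutator_mem_commutator (FinalBridge.zc_le_zl B L hz) g.2
  have e : (g : G) * z * (g : G)⁻¹ = ⁅z, (g : G)⁆⁻¹ * z := by
    rw [commutatorElement_def]; group
  rw [e]
  exact mul_mem (mem_sup_left (inv_mem h1)) (mem_sup_right hz)

/-- **Amalgam property**: noncommuting blocks over `bau S` normalise no nontrivial subgroup of `bau S`. -/
theorem ap [Finite G] (hc : IsCharacteristicTwoType G) {S L L' : Subgroup G} {q q' : ℕ}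
    (hS : IsSyl2 (⊤ : Subgroup G) S) (h : Pr (bau S) L L' q q') {R : Subgroup G} (hR : R ≤ bau S)
    (hL : L ≤ normalizer (R : Set G)) (hL' : L' ≤ normalizer (R : Set G)) : R = ⊥ := by
  by_contra hne
  have hX : IsTwoLocal (normalizer (R : Set G)) := ⟨R, h.b1.two.to_le hR, hne, rfl⟩
  obtain ⟨T, hT, hTB⟩ := exists_loc hc hS hX (h.b1.le.trans hL)
  have h1 : vl (bau S) L ≤ zc (o2 (normalizer (R : Set G))) := by
    rw [← hTB]
    exact RedX.vl_le_zc_o2 hT hL (Or.inr ⟨q, by rw [hTB]; exact h.b1⟩)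
  have h2 : vl (bau S) L' ≤ zc (o2 (normalizer (R : Set G))) := by
    rw [← hTB]
    exact RedX.vl_le_zc_o2 hT hL' (Or.inr ⟨q', by rw [hTB]; exact h.b2⟩)
  set O := o2 (normalizer (R : Set G)) with hO
  have hvz : ∀ {L : Subgroup G} {q : ℕ}, LBlk (bau S) L q → vl (bau S) L ≤ centralizer (zc (bau S) : Set G) := by
    intro L q hb v hv
    rw [mem_centralizer_iff]
    intro z hz
    exact ((FinalBridge.mem_zc.1 hz).2.2 v (COnePair.zl_le hb (vl_le_zl _ _ hv))).symm
  have h3 : zl (bau S) L ≤ centralizer (zl (bau S) L' : Set G) := by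
    refine (zl_le_sup _ _).trans ?_
    refine le_trans ?_ (centralizer_le (zl_le_sup (bau S) L'))
    rw [← Subgroup.le_centralizer_iff]
    refine sup_le ?_ ?_
    · rw [Subgroup.le_centralizer_iff]
      refine sup_le ?_ ?_
      · intro v hv
        rw [mem_centralizer_iff]
        intro u hu
        exact (FinalBridge.mem_zc.1 (h1 hv)).2.2 u ((FinalBridge.mem_zc.1 (h2 hu)).1)
      · rw [Subgroup.le_centralizer_iff]
        exact hvz h.b2
    · rw [Subgroup.le_centralizer_iff]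
      refine sup_le (hvz h.b1) ?_
      intro z hz
      rw [mem_centralizer_iff]
      intro y hy
      exact (FinalBridge.mem_zc.1 hz).2.2 y (FinalBridge.mem_zc.1 hy).1
  obtain ⟨v, hv, u, hu, hne'⟩ := h.nc
  exact hne' (mem_centralizer_iff.1 (h3 hv) u hu).symm

/-- `Q = V` -/
theorem pq [Finite G] (hc : IsCharacteristicTwoType G) {S L L' : Subgroup G} {q q' : ℕ}
    (hS : IsSyl2 (⊤ : Subgroup G) S) (h : Pr (bau S) L L' q q') : Pq (bau S) L L' q := by
  apply h.toPq
  apply ap hc hS h ((sqs_le L).trans h.b1.o2_le) (le_normalizer.trans (le_normalizer_sqs L))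
  rw [h.sqs_eq]
  exact le_normalizer.trans (le_normalizer_sqs L')

/-- `R = 1` -/
theorem rl_eq_bot [Finite G] (hc : IsCharacteristicTwoType G) (hG : OddCyc G) {S L L' : Subgroup G} {q : ℕ}
    (hS : IsSyl2 (⊤ : Subgroup G) S) (hp : Pq (bau S) L L' q) : rl (bau S) L' = ⊥ := by
  obtain ⟨K, t⟩ := hp.exists_tor
  obtain ⟨K', t'⟩ := hp.symm.exists_tor
  obtain ⟨g, hg, hgK⟩ := hp.exists_conj hG t t'
  have hgR := hp.rl_cj_eq t t' hg.1.1 hgK
  have hgB : cj g (bau S) = bau S := CITPlaneCount.cj_eq_self_of_mem_normalizer hg.1.1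
  have hgV : cj g (zl (bau S) L) = zl (bau S) L := CITPlaneCount.cj_eq_self_of_mem_normalizer hg.1.2
  have hb : LBlk (bau S) (cj g L) q := by
    have := LBlk_cj hp.pr.b1 g
    rwa [hgB] at this
  have hV : zl (bau S) (cj g L) = zl (bau S) L := by
    have := zl_cj g (bau S) L
    rwa [hgB, hgV] at this
  have hR : rl (bau S) (cj g L) = rl (bau S) L' := by
    have := rl_cj g (bau S) L
    rwa [hgB, hgR] at this
  have hp' : Pr (bau S) (cj g L) L' q q := by
    refine ⟨hb, hp.pr.b2, ?_⟩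
    rw [hV]
    exact hp.pr.nc
  refine ap hc hS hp' ((COneBlk.rl_le_zl _ _).trans (COnePair.zl_le hp.pr.b2)) ?_ ?_
  · rw [← hR, le_normalizer_iff]
    intro l hl r hr
    rw [COneBlk.rl_comm hr hl, mul_inv_cancel_right]
    exact hr
  · rw [le_normalizer_iff]
    intro l hl r hr
    rw [COneBlk.rl_comm hr hl, mul_inv_cancel_right]
    exact hr

/-- the configuration of `AOneSit` -/
theorem exists_sit [Finite G] (hc : IsCharacteristicTwoType G) (hG : OddCyc G) {S L L' : Subgroup G} {q q' : ℕ}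
    (hS : IsSyl2 (⊤ : Subgroup G) S) (h : Pr (bau S) L L' q q') :
    ∃ x, AOneSit.Sit S (bau S) (zl (bau S) L) (zl (bau S) L') (zc (bau S)) x := by
  have hp := pq hc hS h
  have hR' := rl_eq_bot hc hG hS hp
  have hR := rl_eq_bot hc hG hS hp.symm
  have hq := hp.four hG hR hR'
  subst hq
  have hn := hp.nblk hR
  have hn' := hp.symm.nblk hR'
  obtain ⟨K, t⟩ := hp.exists_tor
  have : Fact (Nat.Prime 3) := ⟨Nat.prime_three⟩
  obtain ⟨⟨x, hxK⟩, hx⟩ := exists_prime_orderOf_dvd_card' (G := K) 3 (by rw [t.card])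
  rw [Subgroup.orderOf_mk] at hx
  have hx1 : x ≠ 1 := by rintro rfl; rw [orderOf_one] at hx; omega
  have hxN := t.leN hxK
  have hfpf : ∀ b ∈ bau S, x * b = b * x → b = 1 := fun b hb hc => by
    have := t.fpf x hxK hx1 b hb hc
    rwa [hR, mem_bot] at this
  have hSn : S ≤ normalizer (bau S : Set G) := le_normalizer.trans (ChoiceBase.normalizer_le_bau S)
  have hcentZ : ∀ t ∈ S, (∀ z ∈ zc (bau S), t * z = z * t) → t ∈ bau S := by
    intro t ht hz
    refine ⟨ht, mem_centralizer_iff.2 fun z hz' => ?_⟩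
    rw [← ChoiceBase.zc_bau] at hz'
    exact (hz z hz').symm
  have htr : ∀ {L : Subgroup G}, NBlk (bau S) L 4 → ∀ a ∈ zl (bau S) L, ∀ b ∈ zl (bau S) L, a ≠ 1 → b ≠ 1 →
      ∃ g : G, (∀ v ∈ zl (bau S) L, g * v * g⁻¹ ∈ zl (bau S) L) ∧ g * a * g⁻¹ = b := by
    intro L hn a ha b hb ha1 hb1
    obtain ⟨g, hgL, hg⟩ := hn.trans a ha ha1 b hb hb1
    exact ⟨g, fun v hv => COneBlk.zl_conj hgL hv, hg⟩
  exact ⟨x,
    { syl := hS
      BS := ChoiceBase.bau_le S
      SnB := fun s hs b hb => (mem_normalizer_iff.1 (hSn hs) b).1 hb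
      centZ := hcentZ
      VB := COnePair.zl_le hp.pr.b1
      WB := COnePair.zl_le hp.pr.b2
      dec := by
        intro b hb
        obtain ⟨w, hw, v, hv, he⟩ := hp.exists_mul (inv_mem hb)
        exact ⟨v⁻¹, inv_mem hv, w⁻¹, inv_mem hw, by rw [← inv_inv b, he, mul_inv_rev]⟩
      eV := elem hp.pr.b1
      eW := elem hp.pr.b2
      inf := hp.inf_eq
      cV := by rw [hn.card_V]; norm_num
      cW := by rw [hn'.card_V]; norm_num
      cZ := hn.card_Z
      comm := fun v hv w hw => hp.pr.b2.comm v (COnePair.zl_le hp.pr.b1 hv) w hw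
      nc := fun v hv w hw hc => hp.mem_of_comm hv hw hc
      x3 := hx
      xV := fun v hv => (mem_normalizer_iff.1 hxN.1.2 v).1 hv
      xW := fun v hv => (mem_normalizer_iff.1 hxN.2 v).1 hv
      fV := fun v hv hc => hfpf v (COnePair.zl_le hp.pr.b1 hv) hc
      fW := fun v hv hc => hfpf v (COnePair.zl_le hp.pr.b2 hv) hc
      trV := htr hn
      trW := htr hn' }⟩

/-- **(A1), case C2**: two noncommuting `SL₂(q)`-, `SL₂(q')`-blocks over the Baumann subgroup of a Sylow
2-subgroup do not exist. -/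
theorem false_of_pr [Finite G] [IsSimpleGroup G] (hnab : ∃ a b : G, a * b ≠ b * a) (hG : OddCyc G)
    (hc : IsCharacteristicTwoType G) (h6 : ∃ g : G, orderOf g = 6) {S L L' : Subgroup G} {q q' : ℕ}
    (hS : IsSyl2 (⊤ : Subgroup G) S) (h : Pr (bau S) L L' q q') : False := by
  obtain ⟨x, hx⟩ := exists_sit hc hG hS h
  exact AOneSit.false_of_sit hnab hG (COneMid.charTwo hc) hx h6

/-- **(A1), case C2**: the modules of two `SL₂(q)`-, `SL₂(q')`-blocks over `bau S` commute. -/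
theorem comm_of_lblk [Finite G] [IsSimpleGroup G] (hnab : ∃ a b : G, a * b ≠ b * a) (hG : OddCyc G)
    (hc : IsCharacteristicTwoType G) (h6 : ∃ g : G, orderOf g = 6) {S L L' : Subgroup G} {q q' : ℕ}
    (hS : IsSyl2 (⊤ : Subgroup G) S) (h : LBlk (bau S) L q) (h' : LBlk (bau S) L' q') :
    ∀ v ∈ zl (bau S) L, ∀ u ∈ zl (bau S) L', v * u = u * v := by
  by_contra hcon
  push Not at hcon
  exact false_of_pr hnab hG hc h6 hS ⟨h, h', hcon⟩

/-- a dihedral block and an `SL₂(q)`-block over the same `B` commute -/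
theorem comm_mixed [Finite G] {B L L' : Subgroup G} {k q : ℕ} (h : IsDBlk B L k) (h' : LBlk B L' q) :
    ∀ v ∈ zl B L, ∀ u ∈ zl B L', v * u = u * v := by
  by_contra hcon
  push Not at hcon
  obtain ⟨v, hv, u, hu, hne⟩ := hcon
  have hvB : v ∈ B := DBlkBasic.zl_le_B h hv
  have h1 : v ∉ o2 L' := fun h1 => hne (o2_comm h' h1 hu)
  have h2 : q ≤ (o2 L).relIndex (zl B L') := by
    rw [← h'.zl_index, ← inf_relIndex_right (o2 L)]
    refine le_relIndex fun x hx => ?_
    refine h'.cent v hvB h1 x hx.2 ?_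
    exact (DBlkBasic.o2_comm h hx.1 hv).symm
  have h3 : (o2 L).relIndex (zl B L') ≤ (o2 L).relIndex B :=
    Nat.card_le_card_of_injective _ (Subgroup.quotientSubgroupOfEmbeddingOfLE (o2 L) (COnePair.zl_le h')).injective
  have h4 := h'.four
  rw [h.o2_index] at h3
  omega

end Cfsg.Agent.OddCyclic.AOnePair
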