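import Mathlib
import Cfsg.Agent.LieExceptional.CITDefs

/-!
# Definitions for case B2 of the component type of S0342 (blueprints/S0342-B2.md)

All subgroups live in one ambient group `G`; conjugation is `g * x * g⁻¹`.
-/

set_option autoImplicit false

namespace Cfsg.Agent.OddCyclic.B2Defs

open Cfsg.Agent.LieExceptional.CITDefs

variable {G : Type*} [Group G]

/-- (0.3): `t` an involution, `V` a four-group centralised by `t`, `h` of order 3 centralising `t` and acting fixed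
point freely on `V`, `C_G(⟨t⟩V) = ⟨t⟩V`, no conjugate of `t` in `V`; `C_G(t)` contains no `E₁₆` and no `Q₈`. -/
structure Loc (t h : G) (V : Subgroup G) : Prop where
  cyc : ∀ P : Sylow 3 G, IsCyclic P
  t_sq : t * t = 1
  t_ne : t ≠ 1
  elem : Elem V
  card_V : Nat.card V = 4
  h_cube : h * h * h = 1
  ht : h * t = t * h
  hV : ∀ v ∈ V, h * v * h⁻¹ ∈ V
  fpfV : ∀ v ∈ V, h * v = v * h → v = 1
  tV : ∀ v ∈ V, t * v = v * t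
  cent : ∀ g : G, g * t = t * g → (∀ v ∈ V, g * v = v * g) → ∃ v ∈ V, g = v ∨ g = t * v
  not_conj : ∀ g : G, g * t * g⁻¹ ∉ V
  e16 : ∀ A : Subgroup G, Elem A → (∀ a ∈ A, a * t = t * a) → Nat.card A ≤ 8
  q8 : ∀ a b z : G, a * t = t * a → b * t = t * b → a * a = z → b * b = z → a * b * a⁻¹ * b⁻¹ = z → z * z = 1 →
    z = 1

/-- an involution `y` of `C_G(t)` normalising `V` and inverting `h`, not conjugate to `t` -/
structure TypeY (t h y : G) (V : Subgroup G) : Prop where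
  y_sq : y * y = 1
  ty : t * y = y * t
  yV : ∀ v ∈ V, y * v * y⁻¹ ∈ V
  yh : y * h * y⁻¹ = h⁻¹
  not_conj : ∀ g : G, g * t * g⁻¹ ≠ y

/-- type (III, d = 2): `y² = t` -/
structure TypeZ (t h y : G) (V : Subgroup G) : Prop where
  y_sq : y * y = t
  yV : ∀ v ∈ V, y * v * y⁻¹ ∈ V
  yh : y * h * y⁻¹ = h⁻¹

/-- type (I, d = 2): nothing in `N_G(V) ∩ C_G(t)` inverts `h` -/
def TypeN (t h : G) (V : Subgroup G) : Prop :=
  ∀ g : G, g * t = t * g → (∀ v ∈ V, g * v * g⁻¹ ∈ V) → g * h * g⁻¹ ≠ h⁻¹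

/-- (nsw): `N_{C_G(V)}(E) > E`, `E = ⟨t⟩V` -/
def NswAt (t : G) (V : Subgroup G) : Prop :=
  ∃ b : G, (∀ v ∈ V, b * v = v * b) ∧ b * t * b⁻¹ * t ∈ V ∧ b * t ≠ t * b

/-- (0.4), (0.5): `P = F⟨t⟩` an `h`-invariant Sylow 2-subgroup of `C_G(V)` -/
structure PData (t h : G) (V P F : Subgroup G) : Prop where
  syl : IsSyl2 (Subgroup.centralizer (V : Set G)) P
  hP : ∀ x ∈ P, h * x * h⁻¹ ∈ P
  hF : ∀ x ∈ F, h * x * h⁻¹ ∈ F
  norm : ∀ x ∈ P, ∀ f ∈ F, x * f * x⁻¹ ∈ F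
  mem : ∀ x : G, x ∈ P ↔ ∃ f ∈ F, x = f ∨ x = t * f
  t_notin : t ∉ F
  fpf : ∀ f ∈ F, h * f = f * h → f = 1
  V_le : V ≤ F
  cF : ∀ f ∈ F, t * f = f * t → f ∈ V
  ne : V ≠ F

/-- `T₄ = F⟨t, y⟩` (`y` an involution or `y² = t`) -/
structure FourData (t h y : G) (V P F T₄ : Subgroup G) : Prop extends PData t h V P F where
  yP : ∀ x ∈ P, y * x * y⁻¹ ∈ P
  yF : ∀ x ∈ F, y * x * y⁻¹ ∈ F
  syl₄ : IsSyl2 (Subgroup.normalizer (V : Set G)) T₄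
  mem₄ : ∀ x : G, x ∈ T₄ ↔ ∃ f ∈ F, x = f ∨ x = t * f ∨ x = y * f ∨ x = t * y * f

/-- Thompson transfer for the element `t` -/
def TT (t : G) : Prop :=
  ∀ T T₀ : Subgroup G, IsSyl2 ⊤ T → T₀ ≤ T → T₀.relIndex T = 2 → t ∈ T → t ∉ T₀ → ∃ g : G, g * t * g⁻¹ ∈ T₀

/-- transfer with a cyclic quotient of order 4: `T₀` normal in the Sylow subgroup `T`, `T/T₀ = ⟨yT₀⟩` of order 4, `t`
in `T`, not in `T₀`, then a conjugate of `t` is in `T₀` -/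
def TC (t : G) : Prop :=
  ∀ T T₀ : Subgroup G, IsSyl2 ⊤ T → T₀ ≤ T → (∀ x ∈ T, ∀ u ∈ T₀, x * u * x⁻¹ ∈ T₀) → T₀.relIndex T = 4 →
    (∃ y ∈ T, ∀ x ∈ T, ∃ k : ℕ, x * y ^ k ∈ T₀) → t ∈ T → t ∉ T₀ → ∃ g : G, g * t * g⁻¹ ∈ T₀

/-- (3.1): the situation of section 3. `S = ⟨t⟩ × D`, `D = ⟨c, b⟩` dihedral of order `2ⁿ ≥ 8`. -/
structure SwData (t c b x : G) (n : ℕ) (S D : Subgroup G) : Prop where
  t_sq : t * t = 1
  t_ne : t ≠ 1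
  n_ge : 3 ≤ n
  c_ord : orderOf c = 2 ^ (n - 1)
  b_sq : b * b = 1
  b_ne : b ≠ 1
  bc : b * c * b⁻¹ = c⁻¹
  D_eq : ∀ g : G, g ∈ D ↔ ∃ k : ℕ, g = c ^ k ∨ g = c ^ k * b
  b_notin : ∀ k : ℕ, b ≠ c ^ k
  tD : ∀ d ∈ D, t * d = d * t
  t_notin : t ∉ D
  S_eq : ∀ g : G, g ∈ S ↔ ∃ d ∈ D, g = d ∨ g = t * d
  /-- `S` is a Sylow 2-subgroup of `C_G(t)` -/
  syl : IsSyl2 (Subgroup.centralizer ({t} : Set G)) S
  /-- no conjugate of `t` is in `D` -/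
  not_conj : ∀ g : G, g * t * g⁻¹ ∉ D
  /-- `x ∈ N(S)` is a 2-element, `t^x = t i`, `i = c^(2^(n-2))` -/
  x_two : ∃ k : ℕ, x ^ 2 ^ k = 1
  xS : ∀ s ∈ S, x * s * x⁻¹ ∈ S
  xt : x * t * x⁻¹ = t * c ^ 2 ^ (n - 2)
  xD : ∀ d ∈ D, x * d * x⁻¹ ∈ D
  /-- `x` swaps the two classes of non-central involutions of `D` -/
  swap : ∃ j : ℕ, Odd j ∧ x * b * x⁻¹ = c ^ j * b

end Cfsg.Agent.OddCyclic.B2Defs
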