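import Mathlib
import Cfsg.Agent.OddCyclic.B2Defs
import Cfsg.Agent.LieExceptional.CITBasic

/-!
# S0342, case B2, piece G: the Sylow 2-subgroup `T₄ = F⟨t, y⟩` of `N_G(V)`

Section (0.8) of blueprints/S0342-B2.md.
-/

set_option autoImplicit false

namespace Cfsg.Agent.OddCyclic.B2Four

open Cfsg.Agent.LieExceptional.CITDefs Cfsg.Agent.OddCyclic.B2Defs

variable {G : Type*} [Group G]

/-- Coprime conjugacy: `m h` and `h` are conjugate under the `3'`-group `M` normalised by `h`. -/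
theorem conj_of_mem [Finite G] {M : Subgroup G} {h m : G} (h3 : h * h * h = 1)
    (hM : ∀ x ∈ M, h * x * h⁻¹ ∈ M) (h3M : ¬ 3 ∣ Nat.card M) (hm : m ∈ M)
    (hm3 : m * h * (m * h) * (m * h) = 1) : ∃ c ∈ M, c * (m * h) * c⁻¹ = h := by
  classical
  have := Fintype.ofFinite M
  have hpf : Fact (Nat.Prime 3) := ⟨Nat.prime_three⟩
  have hhi : h⁻¹ = h * h := by
    rw [inv_eq_iff_mul_eq_one, ← mul_assoc, h3]
  have hM' : ∀ x ∈ M, h⁻¹ * x * h ∈ M := by
    intro x hx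
    have h1 := hM _ (hM x hx)
    have e : h⁻¹ * x * h = h * (h * x * h⁻¹) * h⁻¹ := by
      have e1 : h = h⁻¹ * h⁻¹ := by
        rw [hhi]
        calc h = h * (h * h * h) := by rw [h3, mul_one]
          _ = h * h * (h * h) := by group
      calc h⁻¹ * x * h = h⁻¹ * x * (h⁻¹ * h⁻¹) := by rw [← e1]
        _ = (h * h) * x * (h⁻¹ * h⁻¹) := by rw [← hhi]
        _ = _ := by group
    rw [e]; exact h1
  let σ : Equiv.Perm M :=
    { toFun := fun x => ⟨m * (h * x * h⁻¹), M.mul_mem hm (hM x x.2)⟩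
      invFun := fun x => ⟨h⁻¹ * (m⁻¹ * x) * h, hM' _ (M.mul_mem (M.inv_mem hm) x.2)⟩
      left_inv := by
        intro x
        apply Subtype.ext
        show h⁻¹ * (m⁻¹ * (m * (h * x * h⁻¹))) * h = x
        group
      right_inv := by
        intro x
        apply Subtype.ext
        show m * (h * (h⁻¹ * (m⁻¹ * x) * h) * h⁻¹) = x
        group }
  have hσ : σ ^ 3 ^ 1 = 1 := by
    rw [pow_one]
    ext x
    have e : ((σ ^ 3) x : G) = m * (h * (m * (h * (m * (h * x * h⁻¹)) * h⁻¹)) * h⁻¹) := by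
      rw [pow_succ, pow_succ, pow_one]; rfl
    rw [e, Equiv.Perm.one_apply]
    calc m * (h * (m * (h * (m * (h * (x : G) * h⁻¹)) * h⁻¹)) * h⁻¹) =
        (m * h * (m * h) * (m * h)) * x * (h * h * h)⁻¹ := by group
      _ = x := by rw [hm3, h3]; group
  have hcard : ¬ 3 ∣ Fintype.card M := by rwa [← Nat.card_eq_fintype_card]
  obtain ⟨x, hx⟩ := Equiv.Perm.exists_fixed_point_of_prime hcard hσ
  refine ⟨(x : G)⁻¹, M.inv_mem x.2, ?_⟩
  have hx' : m * (h * (x : G) * h⁻¹) = x := congrArg Subtype.val hx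
  have e : m * h * (x : G) = x * h := by
    calc m * h * (x : G) = m * (h * (x : G) * h⁻¹) * h := by group
      _ = x * h := by rw [hx']
  calc (x : G)⁻¹ * (m * h) * (x : G)⁻¹⁻¹ = (x : G)⁻¹ * (m * h * x) := by group
    _ = h := by rw [e]; group

section

variable {t h : G} {V P F : Subgroup G}

theorem h_inv (L : Loc t h V) : h⁻¹ = h * h := by
  rw [inv_eq_iff_mul_eq_one, ← mul_assoc, L.h_cube]

theorem exists_ne_one [Finite G] {V : Subgroup G} (hV : Nat.card V = 4) : ∃ v ∈ V, v ≠ 1 := by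
  by_contra hno
  push Not at hno
  have h1 : V = ⊥ := (Subgroup.eq_bot_iff_forall V).mpr hno
  rw [h1, Subgroup.card_bot] at hV
  omega

theorem h_ne [Finite G] (L : Loc t h V) : h ≠ 1 := by
  rintro rfl
  obtain ⟨v, hv, hv1⟩ := exists_ne_one L.card_V
  exact hv1 (L.fpfV v hv (by group))

/-- If `y` inverts `h`, then `y` does not lie in a subgroup of `3'`-order normalised by `h`. -/
theorem notMem_of_inv [Finite G] (L : Loc t h V) {A : Subgroup G} (hA : ¬ 3 ∣ Nat.card A)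
    (hhA : ∀ x ∈ A, h * x * h⁻¹ ∈ A) {y : G} (hy : y * h * y⁻¹ = h⁻¹) : y ∉ A := by
  intro hyA
  have h1 : h * y * h⁻¹ ∈ A := hhA y hyA
  have h2 : y⁻¹ * (h * y * h⁻¹) ∈ A := A.mul_mem (A.inv_mem hyA) h1
  have e : y⁻¹ * h * y = h⁻¹ := by
    have : h = (y * h * y⁻¹)⁻¹ := by rw [hy, inv_inv]
    calc y⁻¹ * h * y = y⁻¹ * (y * h * y⁻¹)⁻¹ * y := by rw [← this]
      _ = h⁻¹ := by group
  have h3 : y⁻¹ * (h * y * h⁻¹) = h := by
    calc y⁻¹ * (h * y * h⁻¹) = (y⁻¹ * h * y) * h⁻¹ := by group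
      _ = h⁻¹ * h⁻¹ := by rw [e]
      _ = h := by
        rw [h_inv L]
        calc h * h * (h * h) = h * (h * h * h) := by group
          _ = h := by rw [L.h_cube, mul_one]
  rw [h3] at h2
  apply hA
  have h4 : orderOf h = 3 := by
    apply orderOf_eq_prime
    · rw [pow_succ, pow_two, L.h_cube]
    · exact h_ne L
  rw [← h4]
  exact A.orderOf_dvd_natCard h2

theorem not_three_dvd [Finite G] {P : Subgroup G} (hP : IsPGroup 2 P) : ¬ 3 ∣ Nat.card P := by
  have hpf : Fact (Nat.Prime 2) := ⟨Nat.prime_two⟩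
  obtain ⟨n, hn⟩ := IsPGroup.iff_card.mp hP
  rw [hn]
  intro h3
  have := (Nat.Prime.dvd_of_dvd_pow Nat.prime_three h3)
  omega

/-- the elements of `P` commuting with `h` -/
theorem comm_iff [Finite G] (L : Loc t h V) (D : PData t h V P F) {x : G} (hx : x ∈ P)
    (hc : h * x = x * h) : x = 1 ∨ x = t := by
  obtain ⟨f, hf, hxf | hxf⟩ := (D.mem x).mp hx
  · rw [hxf] at hc ⊢
    left; exact D.fpf f hf hc
  · rw [hxf] at hc ⊢
    right
    have h1 : h * f = f * h := by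
      have e1 : h * (t * f) = t * (h * f) := by rw [← mul_assoc, L.ht, mul_assoc]
      have e2 : t * f * h = t * (f * h) := by group
      rw [e1, e2] at hc
      exact mul_left_cancel hc
    rw [D.fpf f hf h1, mul_one]

theorem F_le (D : PData t h V P F) : F ≤ P := fun f hf => (D.mem f).mpr ⟨f, hf, Or.inl rfl⟩

theorem t_mem (D : PData t h V P F) : t ∈ P :=
  (D.mem t).mpr ⟨1, F.one_mem, Or.inr (mul_one t).symm⟩

theorem t_inv (L : Loc t h V) : t⁻¹ = t := inv_eq_of_mul_eq_one_left L.t_sq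

/-- `h` normalises `C_G(V)`. -/
theorem cent_conj {V : Subgroup G} [Finite V] {g : G} (hV : ∀ v ∈ V, g * v * g⁻¹ ∈ V) {x : G}
    (hx : x ∈ Subgroup.centralizer (V : Set G)) :
    g * x * g⁻¹ ∈ Subgroup.centralizer (V : Set G) := by
  rw [Subgroup.mem_centralizer_iff] at hx ⊢
  intro v hv
  -- `g⁻¹ v g ∈ V`
  have hinj : Function.Injective (fun v : V => (⟨g * v * g⁻¹, hV v v.2⟩ : V)) := by
    intro a b hab
    have := congrArg Subtype.val hab
    simp only [mul_left_inj, mul_right_inj] at this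
    exact Subtype.ext this
  obtain ⟨⟨w, hw⟩, hw'⟩ := (Finite.injective_iff_surjective.mp hinj) ⟨v, hv⟩
  have hw2 : g * w * g⁻¹ = v := congrArg Subtype.val hw'
  rw [← hw2]
  have := hx w hw
  calc g * w * g⁻¹ * (g * x * g⁻¹) = g * (w * x) * g⁻¹ := by group
    _ = g * (x * w) * g⁻¹ := by rw [this]
    _ = _ := by group

/-- For `f ∈ F` there is `u ∈ F` with `f = u⁻¹ h u h⁻¹`. -/
theorem exists_comm [Finite G] (D : PData t h V P F) {f : G} (hf : f ∈ F) :
    ∃ u ∈ F, u⁻¹ * (h * u * h⁻¹) = f := by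
  have hinj : Function.Injective
      (fun u : F => (⟨(u : G)⁻¹ * (h * u * h⁻¹), F.mul_mem (F.inv_mem u.2) (D.hF u u.2)⟩ : F)) := by
    intro a b hab
    have h1 : (a : G)⁻¹ * (h * a * h⁻¹) = (b : G)⁻¹ * (h * b * h⁻¹) := congrArg Subtype.val hab
    have h2 : h * ((b : G) * (a : G)⁻¹) = (b : G) * (a : G)⁻¹ * h := by
      have e1 : (b : G) * (a : G)⁻¹ * (h * a * h⁻¹) = h * b * h⁻¹ := by
        rw [mul_assoc, h1]; group
      calc h * ((b : G) * (a : G)⁻¹) = (h * b * h⁻¹) * (h * (a : G)⁻¹) := by group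
        _ = (b : G) * (a : G)⁻¹ * (h * a * h⁻¹) * (h * (a : G)⁻¹) := by rw [e1]
        _ = _ := by group
    have h3 := D.fpf _ (F.mul_mem b.2 (F.inv_mem a.2)) h2
    exact Subtype.ext (mul_inv_eq_one.mp h3).symm
  obtain ⟨⟨u, hu⟩, hu'⟩ := (Finite.injective_iff_surjective.mp hinj) ⟨f, hf⟩
  exact ⟨u, hu, congrArg Subtype.val hu'⟩

/-- `g` normalising `P` and commuting with `t` and inverting or centralising `h` normalises `F`. -/
theorem conj_F [Finite G] (L : Loc t h V) (D : PData t h V P F) {y : G}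
    (hyP : ∀ x ∈ P, y * x * y⁻¹ ∈ P) (hyh : y * h * y⁻¹ = h⁻¹) :
    ∀ f ∈ F, y * f * y⁻¹ ∈ F := by
  intro f hf
  obtain ⟨u, hu, rfl⟩ := exists_comm D hf
  set g := y * u * y⁻¹ with hg
  have hgP : g ∈ P := hyP u (F_le D hu)
  have e1 : y * (u⁻¹ * (h * u * h⁻¹)) * y⁻¹ = g⁻¹ * (h⁻¹ * g * h) := by
    calc y * (u⁻¹ * (h * u * h⁻¹)) * y⁻¹ =
        (y * u * y⁻¹)⁻¹ * ((y * h * y⁻¹) * (y * u * y⁻¹) * (y * h * y⁻¹)⁻¹) := by group
      _ = _ := by rw [hyh, inv_inv]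
  have hFi : ∀ f ∈ F, h⁻¹ * f * h ∈ F := by
    intro f hf
    have h1 := D.hF _ (D.hF f hf)
    have e : h⁻¹ * f * h = h * (h * f * h⁻¹) * h⁻¹ := by
      have e1 : h = h⁻¹ * h⁻¹ := by
        rw [h_inv L]
        calc h = h * (h * h * h) := by rw [L.h_cube, mul_one]
          _ = h * h * (h * h) := by group
      calc h⁻¹ * f * h = h⁻¹ * f * (h⁻¹ * h⁻¹) := by rw [← e1]
        _ = (h * h) * f * (h⁻¹ * h⁻¹) := by rw [← h_inv L]
        _ = _ := by group
    rw [e]; exact h1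
  rw [e1]
  obtain ⟨f₁, hf₁, h1 | h1⟩ := (D.mem g).mp hgP
  · rw [h1]
    exact F.mul_mem (F.inv_mem hf₁) (hFi f₁ hf₁)
  · rw [h1]
    have e2 : (t * f₁)⁻¹ * (h⁻¹ * (t * f₁) * h) = f₁⁻¹ * (h⁻¹ * f₁ * h) := by
      have e3 : h⁻¹ * t = t * h⁻¹ := by
        rw [inv_mul_eq_iff_eq_mul, ← mul_assoc, eq_mul_inv_iff_mul_eq, L.ht]
      calc (t * f₁)⁻¹ * (h⁻¹ * (t * f₁) * h) = f₁⁻¹ * (t⁻¹ * (h⁻¹ * t) * f₁ * h) := by group
        _ = f₁⁻¹ * (t⁻¹ * (t * h⁻¹) * f₁ * h) := by rw [e3]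
        _ = _ := by group
    rw [e2]
    exact F.mul_mem (F.inv_mem hf₁) (hFi f₁ hf₁)

theorem not_three_of_le [Finite G] {M C : Subgroup G} (hMC : M ≤ C) (h3 : ¬ 3 ∣ Nat.card C) :
    ¬ 3 ∣ Nat.card M := fun h => h3 (h.trans (Subgroup.card_dvd_of_le hMC))

/-- Two `h`-invariant Sylow 2-subgroups of the `3'`-group `C` are conjugate under `C_C(h)`. -/
theorem exists_conj_comm [Finite G] {C P P' : Subgroup G} (h3 : h * h * h = 1)
    (hC : ∀ x ∈ C, h * x * h⁻¹ ∈ C) (h3C : ¬ 3 ∣ Nat.card C) (hP : IsSyl2 C P) (hP' : IsSyl2 C P')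
    (hhP : ∀ x ∈ P, h * x * h⁻¹ ∈ P) (hhP' : ∀ x ∈ P', h * x * h⁻¹ ∈ P') :
    ∃ c ∈ C, c * h = h * c ∧ ∀ x ∈ P, c * x * c⁻¹ ∈ P' := by
  obtain ⟨c, hc, hPP⟩ := Cfsg.Agent.LieExceptional.CITBasic.IsSyl2.conj hP hP'
  have hcP : ∀ x ∈ P, c * x * c⁻¹ ∈ P' := by
    intro x hx
    rw [hPP]
    exact ⟨x, hx, rfl⟩
  have hcP' : ∀ x ∈ P', c⁻¹ * x * c ∈ P := by
    intro x hx
    rw [hPP] at hx
    obtain ⟨y, hy, rfl⟩ := hx
    have : c⁻¹ * ((MulAut.conj c).toMonoidHom y) * c = y := by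
      simp only [MulEquiv.coe_toMonoidHom, MulAut.conj_apply]
      group
    rw [this]; exact hy
  let M : Subgroup G := C ⊓ Subgroup.normalizer (P' : Set G)
  have mem_norm : ∀ g : G, (∀ x ∈ P', g * x * g⁻¹ ∈ P') → g ∈ Subgroup.normalizer (P' : Set G) := by
    intro g hg
    have hinj : Function.Injective (fun v : P' => (⟨g * v * g⁻¹, hg v v.2⟩ : P')) := by
      intro a b hab
      have := congrArg Subtype.val hab
      simp only [mul_left_inj, mul_right_inj] at this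
      exact Subtype.ext this
    rw [Subgroup.mem_normalizer_iff]
    intro x
    refine ⟨fun hx => hg x hx, fun hx => ?_⟩
    obtain ⟨⟨w, hw⟩, hw'⟩ := (Finite.injective_iff_surjective.mp hinj) ⟨_, hx⟩
    have hw2 : g * w * g⁻¹ = g * x * g⁻¹ := congrArg Subtype.val hw'
    simp only [mul_left_inj, mul_right_inj] at hw2
    rw [← hw2]; exact hw
  have hhn : h ∈ Subgroup.normalizer (P' : Set G) := mem_norm h hhP'
  have hchn : c * h * c⁻¹ ∈ Subgroup.normalizer (P' : Set G) := by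
    apply mem_norm
    intro x hx
    have h1 := hcP _ (hhP _ (hcP' x hx))
    have e : c * (h * (c⁻¹ * x * c) * h⁻¹) * c⁻¹ = c * h * c⁻¹ * x * (c * h * c⁻¹)⁻¹ := by group
    rwa [e] at h1
  have hMh : ∀ x ∈ M, h * x * h⁻¹ ∈ M := fun x hx => ⟨hC x hx.1,
    Subgroup.mul_mem _ (Subgroup.mul_mem _ hhn hx.2) (Subgroup.inv_mem _ hhn)⟩
  have hmM : c * h * c⁻¹ * h⁻¹ ∈ M := by
    refine ⟨?_, Subgroup.mul_mem _ hchn (Subgroup.inv_mem _ hhn)⟩
    have e : c * h * c⁻¹ * h⁻¹ = c * (h * c⁻¹ * h⁻¹) := by group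
    rw [e]
    exact C.mul_mem hc (hC _ (C.inv_mem hc))
  have hm3 : (c * h * c⁻¹ * h⁻¹) * h * ((c * h * c⁻¹ * h⁻¹) * h) * ((c * h * c⁻¹ * h⁻¹) * h) = 1 := by
    calc (c * h * c⁻¹ * h⁻¹) * h * ((c * h * c⁻¹ * h⁻¹) * h) * ((c * h * c⁻¹ * h⁻¹) * h) =
        c * (h * h * h) * c⁻¹ := by group
      _ = 1 := by rw [h3]; group
  obtain ⟨d, hd, hde⟩ := conj_of_mem h3 hMh (not_three_of_le (inf_le_left : M ≤ C) h3C) hmM hm3
  refine ⟨d * c, C.mul_mem hd.1 hc, ?_, fun x hx => ?_⟩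
  · have e : d * c * h * (d * c)⁻¹ = h := by
      calc d * c * h * (d * c)⁻¹ = d * (c * h * c⁻¹ * h⁻¹ * h) * d⁻¹ := by group
        _ = h := hde
    rw [mul_inv_eq_iff_eq_mul] at e
    exact e
  · have h1 := (Subgroup.mem_normalizer_iff.mp hd.2 _).mp (hcP x hx)
    have e : d * (c * x * c⁻¹) * d⁻¹ = d * c * x * (d * c)⁻¹ := by group
    rwa [e] at h1

/-- `h` commutes only with `1, t` in `C_G(V) ∩ C_G(t)` -/
theorem eq_of_comm (L : Loc t h V) {c : G} (hV : c ∈ Subgroup.centralizer (V : Set G))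
    (ht : c * t = t * c) (hh : c * h = h * c) : c = 1 ∨ c = t := by
  obtain ⟨v, hv, hc | hc⟩ := L.cent c ht fun v hv => (Subgroup.mem_centralizer_iff.mp hV v hv).symm
  · left
    rw [hc] at hh ⊢
    exact L.fpfV v hv hh.symm
  · right
    rw [hc] at hh ⊢
    have h1 : h * v = v * h := by
      have e1 : t * v * h = h * (t * v) := hh
      rw [← mul_assoc, L.ht, mul_assoc, mul_assoc] at e1
      exact (mul_left_cancel e1).symm
    rw [L.fpfV v hv h1, mul_one]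

/-- (0.8) `P` is the only `h`-invariant Sylow 2-subgroup of `C_G(V)` containing `t`. -/
theorem uniq [Finite G] (L : Loc t h V) (h3 : ¬ 3 ∣ Nat.card (Subgroup.centralizer (V : Set G)))
    (D : PData t h V P F) {P' : Subgroup G} (hP' : IsSyl2 (Subgroup.centralizer (V : Set G)) P')
    (hhP' : ∀ x ∈ P', h * x * h⁻¹ ∈ P') (htP' : t ∈ P') : P' = P := by
  obtain ⟨c, hc, hch, hcP⟩ := exists_conj_comm L.h_cube (fun x hx => cent_conj L.hV hx) h3 hP' D.syl
    hhP' D.hP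
  -- `c t c⁻¹ ∈ P` commutes with `h`
  have h1 : c * t * c⁻¹ ∈ P := hcP t htP'
  have hch' : h * c⁻¹ = c⁻¹ * h := by
    rw [mul_inv_eq_iff_eq_mul, mul_assoc, ← hch, inv_mul_cancel_left]
  have h2 : h * (c * t * c⁻¹) = c * t * c⁻¹ * h := by
    calc h * (c * t * c⁻¹) = (h * c) * t * c⁻¹ := by group
      _ = c * (h * t) * c⁻¹ := by rw [← hch]; group
      _ = c * t * (h * c⁻¹) := by rw [L.ht]; group
      _ = c * t * c⁻¹ * h := by rw [hch']; group
  have h3 : c * t = t * c := by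
    rcases comm_iff L D h1 h2 with h4 | h4
    · exfalso
      apply L.t_ne
      have : t = c⁻¹ * (c * t * c⁻¹) * c := by group
      rw [this, h4]; group
    · rwa [mul_inv_eq_iff_eq_mul] at h4
  have hcP2 : c ∈ P := by
    rcases eq_of_comm L hc h3 hch with h4 | h4
    · rw [h4]; exact P.one_mem
    · rw [h4]; exact t_mem D
  have hle : P' ≤ P := by
    intro x hx
    have h5 := P.mul_mem (P.mul_mem (P.inv_mem hcP2) (hcP x hx)) hcP2
    have e : c⁻¹ * (c * x * c⁻¹) * c = x := by group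
    rwa [e] at h5
  exact (hP'.max P D.syl.le D.syl.two hle).symm

theorem h_inv_conj (L : Loc t h V) {A : Subgroup G} (hA : ∀ x ∈ A, h * x * h⁻¹ ∈ A) :
    ∀ x ∈ A, h⁻¹ * x * h ∈ A := by
  intro f hf
  have h1 := hA _ (hA f hf)
  have e : h⁻¹ * f * h = h * (h * f * h⁻¹) * h⁻¹ := by
    have e1 : h = h⁻¹ * h⁻¹ := by
      rw [h_inv L]
      calc h = h * (h * h * h) := by rw [L.h_cube, mul_one]
        _ = h * h * (h * h) := by group
    calc h⁻¹ * f * h = h⁻¹ * f * (h⁻¹ * h⁻¹) := by rw [← e1]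
      _ = (h * h) * f * (h⁻¹ * h⁻¹) := by rw [← h_inv L]
      _ = _ := by group
  rw [e]; exact h1

theorem conj_inv_mem [Finite G] {A : Subgroup G} {g : G} (hA : ∀ v ∈ A, g * v * g⁻¹ ∈ A) :
    ∀ v ∈ A, g⁻¹ * v * g ∈ A := by
  intro v hv
  have hinj : Function.Injective (fun v : A => (⟨g * v * g⁻¹, hA v v.2⟩ : A)) := by
    intro a b hab
    have := congrArg Subtype.val hab
    simp only [mul_left_inj, mul_right_inj] at this
    exact Subtype.ext this
  obtain ⟨⟨w, hw⟩, hw'⟩ := (Finite.injective_iff_surjective.mp hinj) ⟨v, hv⟩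
  have hw2 : g * w * g⁻¹ = v := congrArg Subtype.val hw'
  rw [← hw2]
  have e : g⁻¹ * (g * w * g⁻¹) * g = w := by group
  rw [e]; exact hw

theorem mem_map_conj {A : Subgroup G} {g x : G} :
    x ∈ A.map (MulAut.conj g).toMonoidHom ↔ g⁻¹ * x * g ∈ A := by
  constructor
  · rintro ⟨z, hz, rfl⟩
    have : g⁻¹ * ((MulAut.conj g).toMonoidHom z) * g = z := by
      simp only [MulEquiv.coe_toMonoidHom, MulAut.conj_apply]
      group
    rw [this]; exact hz
  · intro hx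
    refine ⟨_, hx, ?_⟩
    simp only [MulEquiv.coe_toMonoidHom, MulAut.conj_apply]
    group

/-- the conjugate of a Sylow 2-subgroup of `C` under an element normalising `C` -/
theorem isSyl2_conj [Finite G] {C P : Subgroup G} (hP : IsSyl2 C P) {g : G}
    (hg : ∀ x ∈ C, g * x * g⁻¹ ∈ C) : IsSyl2 C (P.map (MulAut.conj g).toMonoidHom) := by
  have hg' := conj_inv_mem hg
  refine ⟨?_, hP.two.map _, fun Y hY hY2 hle => ?_⟩
  · rintro _ ⟨x, hx, rfl⟩
    exact hg x (hP.le hx)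
  · have h1 : Y.map (MulAut.conj g⁻¹).toMonoidHom = P := by
      refine hP.max _ ?_ (hY2.map _) ?_
      · rintro _ ⟨x, hx, rfl⟩
        have := hg' x (hY hx)
        simpa only [MulEquiv.coe_toMonoidHom, MulAut.conj_apply, inv_inv] using this
      · intro x hx
        rw [mem_map_conj, inv_inv]
        exact hle ⟨x, hx, rfl⟩
    ext x
    rw [mem_map_conj, ← h1, mem_map_conj, inv_inv]
    have e : g * (g⁻¹ * x * g) * g⁻¹ = x := by group
    rw [e]

/-- `y` normalises `P`. -/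
theorem y_norm [Finite G] (L : Loc t h V) (h3 : ¬ 3 ∣ Nat.card (Subgroup.centralizer (V : Set G)))
    (D : PData t h V P F) {y : G} (hyV : ∀ v ∈ V, y * v * y⁻¹ ∈ V) (hyt : t * y = y * t)
    (hyh : y * h * y⁻¹ = h⁻¹) : ∀ x ∈ P, y * x * y⁻¹ ∈ P := by
  have hhi := h_inv_conj L D.hP
  have hyh' : h * y = y * h⁻¹ := by
    rw [mul_inv_eq_iff_eq_mul] at hyh
    rw [eq_mul_inv_iff_mul_eq, mul_assoc, hyh, mul_inv_cancel_left]
  have key : P.map (MulAut.conj y).toMonoidHom = P := by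
    apply uniq L h3 D (isSyl2_conj D.syl fun x hx => cent_conj hyV hx)
    · intro x hx
      rw [mem_map_conj] at hx ⊢
      have e : y⁻¹ * (h * x * h⁻¹) * y = h⁻¹ * (y⁻¹ * x * y) * h := by
        have e1 : y⁻¹ * h * y = h⁻¹ := by rw [mul_assoc, hyh', inv_mul_cancel_left]
        have e2 : y⁻¹ * h⁻¹ * y = h := by
          calc y⁻¹ * h⁻¹ * y = (y⁻¹ * h * y)⁻¹ := by group
            _ = h := by rw [e1, inv_inv]
        calc y⁻¹ * (h * x * h⁻¹) * y = (y⁻¹ * h * y) * (y⁻¹ * x * y) * (y⁻¹ * h⁻¹ * y) := by group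
          _ = _ := by rw [e1, e2]
      rw [e]
      exact hhi _ hx
    · rw [mem_map_conj]
      have e : y⁻¹ * t * y = t := by rw [mul_assoc, hyt, inv_mul_cancel_left]
      rw [e]; exact t_mem D
  intro x hx
  rw [← key]
  exact ⟨x, hx, rfl⟩

/-- A 2-group normalising a group of order 4 centralises one of its non-trivial elements. -/
theorem exists_fixed {T V : Subgroup G} (hT : IsPGroup 2 T) (hV : Nat.card V = 4)
    (hTV : ∀ t ∈ T, ∀ v ∈ V, t * v * t⁻¹ ∈ V) : ∃ v ∈ V, v ≠ 1 ∧ ∀ t ∈ T, t * v = v * t := by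
  have hfin : Finite V := Nat.finite_of_card_ne_zero (by rw [hV]; norm_num)
  have hf : Fact (Nat.Prime 2) := ⟨Nat.prime_two⟩
  let _ : MulAction T V :=
    { smul := fun t v => ⟨(t : G) * v * (t : G)⁻¹, hTV t t.2 v v.2⟩
      one_smul := fun v => Subtype.ext (by
        change (1 : G) * v * (1 : G)⁻¹ = v
        group)
      mul_smul := fun s t v => Subtype.ext (by
        change ((s : G) * t) * v * ((s : G) * t)⁻¹ = s * (t * v * (t : G)⁻¹) * (s : G)⁻¹
        group) }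
  have h1 : (1 : V) ∈ MulAction.fixedPoints T V := fun t => Subtype.ext (by
    change (t : G) * (1 : G) * (t : G)⁻¹ = 1
    group)
  obtain ⟨b, hb, hb1⟩ := hT.exists_fixed_point_of_prime_dvd_card_of_fixed_point V
    (by rw [hV]; norm_num) h1
  refine ⟨b, b.2, fun h0 => hb1 (Subtype.ext h0.symm), fun t ht => ?_⟩
  have h2 : t * (b : G) * t⁻¹ = b := congrArg Subtype.val (hb ⟨t, ht⟩)
  rwa [mul_inv_eq_iff_eq_mul] at h2

/-- the elements of a four-group -/
theorem mem_four' {V : Subgroup G} (hE : Elem V) (hV : Nat.card V = 4) {i v : G} (hi : i ∈ V)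
    (hv : v ∈ V) (hi1 : i ≠ 1) (hv1 : v ≠ 1) (hvi : v ≠ i) {x : G} (hx : x ∈ V) :
    x = 1 ∨ x = i ∨ x = v ∨ x = i * v := by
  classical
  have hfin : Finite V := Nat.finite_of_card_ne_zero (by rw [hV]; norm_num)
  have hiv : i * v ≠ 1 := by
    intro h
    apply hvi
    have := hE i hi
    have h2 : i * v = i * i := by rw [h, this]
    exact mul_left_cancel h2
  have hsub : ({1, i, v, i * v} : Set G) ⊆ (V : Set G) := by
    rintro y (rfl | rfl | rfl | rfl)
    · exact V.one_mem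
    · exact hi
    · exact hv
    · exact V.mul_mem hi hv
  have hcard : ({1, i, v, i * v} : Set G).ncard = 4 := by
    rw [Set.ncard_insert_of_notMem, Set.ncard_insert_of_notMem, Set.ncard_insert_of_notMem,
      Set.ncard_singleton]
    · simp only [Set.mem_singleton_iff]
      intro h
      exact hi1 (mul_eq_right.mp h.symm)
    · simp only [Set.mem_insert_iff, Set.mem_singleton_iff, not_or]
      exact ⟨fun h => hvi h.symm, fun h => hv1 (mul_eq_left.mp h.symm)⟩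
    · simp only [Set.mem_insert_iff, Set.mem_singleton_iff, not_or]
      exact ⟨fun h => hi1 h.symm, fun h => hv1 h.symm, fun h => hiv h.symm⟩
  have heq : ({1, i, v, i * v} : Set G) = (V : Set G) := by
    apply Set.eq_of_subset_of_ncard_le hsub
    · rw [hcard]
      have : (V : Set G).ncard = Nat.card V := by rw [← Nat.card_coe_set_eq]; rfl
      rw [this, hV]
  have : x ∈ ({1, i, v, i * v} : Set G) := by rw [heq]; exact hx
  simpa only [Set.mem_insert_iff, Set.mem_singleton_iff] using this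

/-- `g ∈ G` centralising `i` and normalising `V` either centralises `V` or moves `v` to `i v`. -/
theorem act_cases {V : Subgroup G} (hE : Elem V) (hV : Nat.card V = 4) {i v : G} (hi : i ∈ V)
    (hv : v ∈ V) (hi1 : i ≠ 1) (hv1 : v ≠ 1) (hvi : v ≠ i) {g : G}
    (hg : ∀ x ∈ V, g * x * g⁻¹ ∈ V) (hgi : g * i = i * g) :
    g ∈ Subgroup.centralizer (V : Set G) ∨ g * v * g⁻¹ = i * v := by
  rcases mem_four' hE hV hi hv hi1 hv1 hvi (hg v hv) with h | h | h | h
  · exfalso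
    apply hv1
    have e : v = g⁻¹ * (g * v * g⁻¹) * g := by group
    rw [e, h]; group
  · exfalso
    apply hvi
    have e : v = g⁻¹ * (g * v * g⁻¹) * g := by group
    rw [e, h, mul_assoc, ← hgi]; group
  · left
    rw [mul_inv_eq_iff_eq_mul] at h
    rw [Subgroup.mem_centralizer_iff]
    intro x hx
    rcases mem_four' hE hV hi hv hi1 hv1 hvi hx with rfl | rfl | rfl | rfl
    · group
    · exact hgi.symm
    · exact h.symm
    · rw [mul_assoc, ← h, ← mul_assoc, ← hgi, mul_assoc]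
  · right; exact h

/-- `y` inverting `h` does not centralise `V`. -/
theorem notMem_cent [Finite G] (L : Loc t h V)
    (h3 : ¬ 3 ∣ Nat.card (Subgroup.centralizer (V : Set G))) {y : G} (hyh : y * h * y⁻¹ = h⁻¹) :
    y ∉ Subgroup.centralizer (V : Set G) :=
  notMem_of_inv L h3 (fun _ hx => cent_conj L.hV hx) hyh

/-- the subgroup `P⟨y⟩`, `y² ∈ P` -/
def ext (P : Subgroup G) (y : G) (hyP : ∀ x ∈ P, y * x * y⁻¹ ∈ P)
    (hyP' : ∀ x ∈ P, y⁻¹ * x * y ∈ P) (hy2 : y * y ∈ P) : Subgroup G where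
  carrier := {x | x ∈ P ∨ y⁻¹ * x ∈ P}
  one_mem' := Or.inl P.one_mem
  mul_mem' := by
    rintro a b (ha | ha) (hb | hb)
    · exact Or.inl (P.mul_mem ha hb)
    · right
      have e : y⁻¹ * (a * b) = (y⁻¹ * a * y) * (y⁻¹ * b) := by group
      rw [e]; exact P.mul_mem (hyP' a ha) hb
    · right
      have e : y⁻¹ * (a * b) = (y⁻¹ * a) * b := by group
      rw [e]; exact P.mul_mem ha hb
    · left
      have e : a * b = y * (y⁻¹ * a) * y⁻¹ * ((y * y) * (y⁻¹ * b)) := by group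
      rw [e]; exact P.mul_mem (hyP _ ha) (P.mul_mem hy2 hb)
  inv_mem' := by
    rintro a (ha | ha)
    · exact Or.inl (P.inv_mem ha)
    · right
      have e : y⁻¹ * a⁻¹ = (y * y)⁻¹ * (y * (y⁻¹ * a)⁻¹ * y⁻¹) := by group
      rw [e]
      exact P.mul_mem (P.inv_mem hy2) (hyP _ (P.inv_mem ha))

theorem mem_ext {P : Subgroup G} {y : G} {hyP : ∀ x ∈ P, y * x * y⁻¹ ∈ P}
    {hyP' : ∀ x ∈ P, y⁻¹ * x * y ∈ P} {hy2 : y * y ∈ P} {x : G} :
    x ∈ ext P y hyP hyP' hy2 ↔ x ∈ P ∨ y⁻¹ * x ∈ P := Iff.rfl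

theorem isPGroup_ext {P : Subgroup G} (hP : IsPGroup 2 P) {y : G} {hyP : ∀ x ∈ P, y * x * y⁻¹ ∈ P}
    {hyP' : ∀ x ∈ P, y⁻¹ * x * y ∈ P} {hy2 : y * y ∈ P} : IsPGroup 2 (ext P y hyP hyP' hy2) := by
  rintro ⟨x, hx⟩
  have h1 : x * x ∈ P := by
    rcases hx with hx | hx
    · exact P.mul_mem hx hx
    · have e : x * x = y * (y⁻¹ * x) * y⁻¹ * ((y * y) * (y⁻¹ * x)) := by group
      rw [e]; exact P.mul_mem (hyP _ hx) (P.mul_mem hy2 hx)
  obtain ⟨k, hk⟩ := hP ⟨x * x, h1⟩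
  refine ⟨k + 1, Subtype.ext ?_⟩
  have hk' : (x * x) ^ 2 ^ k = 1 := congrArg Subtype.val hk
  show x ^ 2 ^ (k + 1) = 1
  rw [pow_succ, mul_comm, pow_mul, pow_two, hk']

/-- (0.8) -/
theorem syl_ext [Finite G] (L : Loc t h V)
    (h3 : ¬ 3 ∣ Nat.card (Subgroup.centralizer (V : Set G))) (D : PData t h V P F) {y : G}
    (hyV : ∀ v ∈ V, y * v * y⁻¹ ∈ V) (hyh : y * h * y⁻¹ = h⁻¹) {hyP : ∀ x ∈ P, y * x * y⁻¹ ∈ P}
    {hyP' : ∀ x ∈ P, y⁻¹ * x * y ∈ P} {hy2 : y * y ∈ P} :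
    IsSyl2 (Subgroup.normalizer (V : Set G)) (ext P y hyP hyP' hy2) := by
  have hPle : P ≤ ext P y hyP hyP' hy2 := fun x hx => Or.inl hx
  have hym : y ∈ ext P y hyP hyP' hy2 := Or.inr (by rw [inv_mul_cancel]; exact P.one_mem)
  have mem_norm : ∀ g : G, (∀ x ∈ V, g * x * g⁻¹ ∈ V) → g ∈ Subgroup.normalizer (V : Set G) := by
    intro g hg
    rw [Subgroup.mem_normalizer_iff]
    intro x
    refine ⟨fun hx => hg x hx, fun hx => ?_⟩
    have := conj_inv_mem hg _ hx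
    have e : g⁻¹ * (g * x * g⁻¹) * g = x := by group
    rwa [e] at this
  have hPn : P ≤ Subgroup.normalizer (V : Set G) := D.syl.le.trans (by
    intro g hg
    apply mem_norm
    intro x hx
    have := Subgroup.mem_centralizer_iff.mp hg x hx
    rw [← this, mul_inv_cancel_right]
    exact hx)
  refine ⟨?_, isPGroup_ext D.syl.two, fun Y hY hY2 hle => ?_⟩
  · rintro x (hx | hx)
    · exact hPn hx
    · have e : x = y * (y⁻¹ * x) := by group
      rw [e]
      exact Subgroup.mul_mem _ (mem_norm y hyV) (hPn hx)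
  · have hYV : ∀ g ∈ Y, ∀ v ∈ V, g * v * g⁻¹ ∈ V := fun g hg v hv =>
      (Subgroup.mem_normalizer_iff.mp (hY hg) v).mp hv
    obtain ⟨i, hi, hi1, hic⟩ := exists_fixed hY2 L.card_V hYV
    obtain ⟨v, hv, hv1, hvi⟩ : ∃ v ∈ V, v ≠ 1 ∧ v ≠ i := by
      by_contra hno
      push Not at hno
      have h4 : (V : Set G) ⊆ {1, i} := by
        intro x hx
        by_cases hx1 : x = 1
        · left; exact hx1
        · right; exact hno x hx hx1
      have h5 : (V : Set G).ncard ≤ 2 := (Set.ncard_le_ncard h4 (Set.toFinite _)).trans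
        (Set.ncard_insert_le _ _ |>.trans (by rw [Set.ncard_singleton]))
      have h6 : (V : Set G).ncard = Nat.card V := by rw [← Nat.card_coe_set_eq]; rfl
      rw [h6, L.card_V] at h5
      omega
    have hYP : Y ⊓ Subgroup.centralizer (V : Set G) = P :=
      D.syl.max _ inf_le_right (hY2.to_le inf_le_left) (le_inf (hPle.trans hle) D.syl.le)
    have hyY : y ∈ Y := hle hym
    have hyv : y * v * y⁻¹ = i * v := by
      rcases act_cases L.elem L.card_V hi hv hi1 hv1 hvi hyV (hic y hyY) with h | h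
      · exact absurd h (notMem_cent L h3 hyh)
      · exact h
    apply le_antisymm _ hle
    intro z hz
    rcases act_cases L.elem L.card_V hi hv hi1 hv1 hvi (hYV z hz) (hic z hz) with h | h
    · left
      rw [← hYP]; exact ⟨hz, h⟩
    · right
      rw [← hYP]
      have hw : y⁻¹ * z ∈ Y := Y.mul_mem (Y.inv_mem hyY) hz
      refine ⟨hw, ?_⟩
      rcases act_cases L.elem L.card_V hi hv hi1 hv1 hvi (hYV _ hw) (hic _ hw) with h' | h'
      · exact h'
      · exfalso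
        have e : y⁻¹ * z * v * (y⁻¹ * z)⁻¹ = v := by
          calc y⁻¹ * z * v * (y⁻¹ * z)⁻¹ = y⁻¹ * (z * v * z⁻¹) * y := by group
            _ = y⁻¹ * (y * v * y⁻¹) * y := by rw [h, hyv]
            _ = v := by group
        rw [e] at h'
        exact hi1 (mul_eq_right.mp h'.symm)

theorem fourData_of [Finite G] (L : Loc t h V)
    (h3 : ¬ 3 ∣ Nat.card (Subgroup.centralizer (V : Set G))) (D : PData t h V P F) {y : G}
    (hyV : ∀ v ∈ V, y * v * y⁻¹ ∈ V) (hyt : t * y = y * t) (hyh : y * h * y⁻¹ = h⁻¹)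
    (hy2 : y * y = 1 ∨ y * y = t) : ∃ T₄, FourData t h y V P F T₄ := by
  have hyP := y_norm L h3 D hyV hyt hyh
  have hyP' := conj_inv_mem hyP
  have hy2P : y * y ∈ P := by
    rcases hy2 with h | h
    · rw [h]; exact P.one_mem
    · rw [h]; exact t_mem D
  refine ⟨ext P y hyP hyP' hy2P, { D with
    yP := hyP
    yF := conj_F L D hyP hyh
    syl₄ := syl_ext L h3 D hyV hyh
    mem₄ := ?_ }⟩
  intro x
  rw [mem_ext, D.mem, D.mem]
  constructor
  · rintro (⟨f, hf, h1 | h1⟩ | ⟨f, hf, h1 | h1⟩)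
    · exact ⟨f, hf, Or.inl h1⟩
    · exact ⟨f, hf, Or.inr (Or.inl h1)⟩
    · refine ⟨f, hf, Or.inr (Or.inr (Or.inl ?_))⟩
      rw [← h1, mul_inv_cancel_left]
    · refine ⟨f, hf, Or.inr (Or.inr (Or.inr ?_))⟩
      rw [hyt, mul_assoc, ← h1, mul_inv_cancel_left]
  · rintro ⟨f, hf, h1 | h1 | h1 | h1⟩
    · exact Or.inl ⟨f, hf, Or.inl h1⟩
    · exact Or.inl ⟨f, hf, Or.inr h1⟩
    · refine Or.inr ⟨f, hf, Or.inl ?_⟩
      rw [h1, inv_mul_cancel_left]
    · refine Or.inr ⟨f, hf, Or.inr ?_⟩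
      rw [h1, hyt, mul_assoc, inv_mul_cancel_left]

theorem mem_norm [Finite G] {A : Subgroup G} {g : G} (hg : ∀ x ∈ A, g * x * g⁻¹ ∈ A) :
    g ∈ Subgroup.normalizer (A : Set G) := by
  rw [Subgroup.mem_normalizer_iff]
  intro x
  refine ⟨fun hx => hg x hx, fun hx => ?_⟩
  have := conj_inv_mem hg _ hx
  have e : g⁻¹ * (g * x * g⁻¹) * g = x := by group
  rwa [e] at this

theorem of_mem_norm {A : Subgroup G} {g : G} (hg : g ∈ Subgroup.normalizer (A : Set G)) :
    ∀ x ∈ A, g * x * g⁻¹ ∈ A := fun x hx => (Subgroup.mem_normalizer_iff.mp hg x).mp hx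

theorem cent_le_norm [Finite G] {A : Subgroup G} :
    Subgroup.centralizer (A : Set G) ≤ Subgroup.normalizer (A : Set G) := by
  intro g hg
  apply mem_norm
  intro x hx
  have := Subgroup.mem_centralizer_iff.mp hg x hx
  rw [← this, mul_inv_cancel_right]
  exact hx

/-- Type (I, `d = 2`): `P` is a Sylow 2-subgroup of `N_G(V)`. -/
theorem syl_of_typeN' [Finite G] (L : Loc t h V)
    (h3 : ¬ 3 ∣ Nat.card (Subgroup.centralizer (V : Set G))) (hN : TypeN t h V)
    (D : PData t h V P F) : IsSyl2 (Subgroup.normalizer (V : Set G)) P := by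
  refine ⟨D.syl.le.trans cent_le_norm, D.syl.two, fun Y hY hY2 hle => ?_⟩
  have hYV : ∀ g ∈ Y, ∀ v ∈ V, g * v * g⁻¹ ∈ V := fun g hg => of_mem_norm (hY hg)
  have hYP : Y ⊓ Subgroup.centralizer (V : Set G) = P :=
    D.syl.max _ inf_le_right (hY2.to_le inf_le_left) (le_inf hle D.syl.le)
  obtain ⟨i, hi, hi1, hic⟩ := exists_fixed hY2 L.card_V hYV
  -- `h : i → v → iv → i`
  obtain ⟨v, hv⟩ : ∃ v, v = h * i * h⁻¹ := ⟨_, rfl⟩
  have hvV : v ∈ V := by rw [hv]; exact L.hV i hi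
  have hvi : v ≠ i := by
    intro h1
    apply hi1
    apply L.fpfV i hi
    rw [h1] at hv
    rw [eq_mul_inv_iff_mul_eq] at hv
    exact hv.symm
  have hv1 : v ≠ 1 := by
    intro h1
    apply hi1
    rw [h1] at hv
    have e : i = h⁻¹ * (h * i * h⁻¹) * h := by group
    rw [e, ← hv]; group
  have hhv : h * v * h⁻¹ = i * v := by
    rcases mem_four' L.elem L.card_V hi hvV hi1 hv1 hvi (L.hV v hvV) with h1 | h1 | h1 | h1
    · exfalso
      apply hv1
      have e : v = h⁻¹ * (h * v * h⁻¹) * h := by group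
      rw [e, h1]; group
    · exfalso
      -- `h²` fixes `i`
      apply hi1
      apply L.fpfV i hi
      have h2 : h * h * i * (h * h)⁻¹ = i := by
        calc h * h * i * (h * h)⁻¹ = h * (h * i * h⁻¹) * h⁻¹ := by group
          _ = i := by rw [← hv, h1]
      rw [← h_inv L, inv_inv] at h2
      calc h * i = h * (h⁻¹ * i * h) := by rw [h2]
        _ = i * h := by group
    · exfalso
      apply hv1
      apply L.fpfV v hvV
      rwa [mul_inv_eq_iff_eq_mul] at h1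
    · exact h1
  have hii : i * i = 1 := L.elem i hi
  have hvv : v * v = 1 := L.elem v hvV
  have hcom : i * v = v * i := L.elem.comm hi hvV
  apply le_antisymm _ hle
  intro z hz
  rcases act_cases L.elem L.card_V hi hvV hi1 hv1 hvi (hYV z hz) (hic z hz) with h | hzv
  · rw [← hYP]; exact ⟨hz, h⟩
  exfalso
  have hzi : z * i * z⁻¹ = i := by rw [hic z hz]; group
  have hziv : z * (i * v) * z⁻¹ = v := by
    calc z * (i * v) * z⁻¹ = (z * i * z⁻¹) * (z * v * z⁻¹) := by group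
      _ = i * (i * v) := by rw [hzi, hzv]
      _ = v := by rw [← mul_assoc, hii, one_mul]
  have hzv' : z⁻¹ * v * z = i * v := by
    calc z⁻¹ * v * z = z⁻¹ * (z * (i * v) * z⁻¹) * z := by rw [hziv]
      _ = _ := by group
  have hziv' : z⁻¹ * (i * v) * z = v := by
    calc z⁻¹ * (i * v) * z = z⁻¹ * (z * v * z⁻¹) * z := by rw [hzv]
      _ = _ := by group
  have hhiv : h * (i * v) * h⁻¹ = i := by
    calc h * (i * v) * h⁻¹ = (h * i * h⁻¹) * (h * v * h⁻¹) := by group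
      _ = v * (v * i) := by rw [← hv, hhv, hcom]
      _ = i := by rw [← mul_assoc, hvv, one_mul]
  -- `z h z⁻¹ h` centralises `V`
  set m := z * h * z⁻¹ * h with hm
  have hmi : m * i * m⁻¹ = i := by
    calc m * i * m⁻¹ = z * (h * (z⁻¹ * (h * i * h⁻¹) * z) * h⁻¹) * z⁻¹ := by rw [hm]; group
      _ = i := by rw [← hv, hzv', hhiv, hzi]
  have hmv : m * v * m⁻¹ = v := by
    calc m * v * m⁻¹ = z * (h * (z⁻¹ * (h * v * h⁻¹) * z) * h⁻¹) * z⁻¹ := by rw [hm]; group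
      _ = v := by rw [hhv, hziv', hhv, hziv]
  have hmV : m ∈ Subgroup.centralizer (V : Set G) := by
    rw [Subgroup.mem_centralizer_iff]
    intro x hx
    rw [mul_inv_eq_iff_eq_mul] at hmi hmv
    rcases mem_four' L.elem L.card_V hi hvV hi1 hv1 hvi hx with rfl | rfl | rfl | rfl
    · group
    · exact hmi.symm
    · exact hmv.symm
    · rw [mul_assoc, ← hmv, ← mul_assoc, ← hmi, mul_assoc]
  -- `z` normalises `P`
  have hzP : ∀ x ∈ P, z * x * z⁻¹ ∈ P := by
    intro x hx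
    rw [← hYP] at hx ⊢
    exact ⟨Y.mul_mem (Y.mul_mem hz hx.1) (Y.inv_mem hz), cent_conj (hYV z hz) hx.2⟩
  have hzPn := mem_norm hzP
  have hhPn := mem_norm D.hP
  let M : Subgroup G := Subgroup.centralizer (V : Set G) ⊓ Subgroup.normalizer (P : Set G)
  have hMh : ∀ x ∈ M, h⁻¹ * x * h⁻¹⁻¹ ∈ M := by
    intro x hx
    rw [inv_inv]
    refine ⟨conj_inv_mem (fun v hv => cent_conj L.hV hv) x hx.1, ?_⟩
    exact Subgroup.mul_mem _ (Subgroup.mul_mem _ (Subgroup.inv_mem _ hhPn) hx.2) hhPn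
  have hmM : m ∈ M := ⟨hmV, Subgroup.mul_mem _ (Subgroup.mul_mem _ (Subgroup.mul_mem _ hzPn hhPn)
    (Subgroup.inv_mem _ hzPn)) hhPn⟩
  have e3 : m * h⁻¹ = z * h * z⁻¹ := by rw [hm]; group
  have hm3 : m * h⁻¹ * (m * h⁻¹) * (m * h⁻¹) = 1 := by
    rw [e3]
    calc z * h * z⁻¹ * (z * h * z⁻¹) * (z * h * z⁻¹) = z * (h * h * h) * z⁻¹ := by group
      _ = 1 := by rw [L.h_cube]; group
  have hi3 : h⁻¹ * h⁻¹ * h⁻¹ = 1 := by
    calc h⁻¹ * h⁻¹ * h⁻¹ = (h * h * h)⁻¹ := by group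
      _ = 1 := by rw [L.h_cube, inv_one]
  obtain ⟨c, hc, hce⟩ := conj_of_mem hi3 hMh
    (not_three_of_le (inf_le_left : M ≤ Subgroup.centralizer (V : Set G)) h3) hmM hm3
  rw [e3] at hce
  have hgh : c * z * h * (c * z)⁻¹ = h⁻¹ := by
    calc c * z * h * (c * z)⁻¹ = c * (z * h * z⁻¹) * c⁻¹ := by group
      _ = h⁻¹ := hce
  have hgP : ∀ x ∈ P, c * z * x * (c * z)⁻¹ ∈ P := of_mem_norm (Subgroup.mul_mem _ hc.2 hzPn)
  have hgV : ∀ v ∈ V, c * z * v * (c * z)⁻¹ ∈ V :=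
    of_mem_norm (Subgroup.mul_mem _ (cent_le_norm hc.1) (hY hz))
  -- `g t g⁻¹ = t`
  set g := c * z with hg
  have h5 : h⁻¹ * (g * t * g⁻¹) = g * t * g⁻¹ * h⁻¹ := by
    rw [← hgh]
    calc g * h * g⁻¹ * (g * t * g⁻¹) = g * (h * t) * g⁻¹ := by group
      _ = g * (t * h) * g⁻¹ := by rw [L.ht]
      _ = _ := by group
  have h6 : h * (g * t * g⁻¹) = g * t * g⁻¹ * h := by
    calc h * (g * t * g⁻¹) = h * (g * t * g⁻¹ * h⁻¹) * h := by group
      _ = h * (h⁻¹ * (g * t * g⁻¹)) * h := by rw [h5]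
      _ = _ := by group
  rcases comm_iff L D (hgP t (t_mem D)) h6 with h7 | h7
  · apply L.t_ne
    have e : t = g⁻¹ * (g * t * g⁻¹) * g := by group
    rw [e, h7]; group
  · refine hN g ?_ hgV hgh
    rwa [mul_inv_eq_iff_eq_mul] at h7

end

end Cfsg.Agent.OddCyclic.B2Four
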