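import Cfsg.Agent.S1241
import Cfsg.Agent.Transfer.ThompsonTransfer

/-!
# S0342, component case A: transfer lemmas

`exists_conj_of_min`: Thompson's transfer lemma for an element of minimal order outside a maximal
subgroup of a Sylow 2-subgroup.
-/

set_option autoImplicit false

namespace Cfsg.Agent.OddCyclic.CaseATransfer

open Subgroup

variable {G : Type*} [Group G]

/-- If `G = [G, G]`, `T₁` is a maximal subgroup of the Sylow 2-subgroup `T` and `g` has minimal order
among the elements of `T ∖ T₁`, then `g` is conjugate to an element of `T₁`. -/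
theorem exists_conj_of_min [Finite G] (hG : commutator G = ⊤) (T : Sylow 2 G) (T₁ : Subgroup G)
    (h1 : T₁ ≤ (T : Subgroup G)) (h2 : T₁.relIndex (T : Subgroup G) = 2) {g : G}
    (hgT : g ∈ (T : Subgroup G)) (hg1 : g ∉ T₁)
    (hmin : ∀ x ∈ (T : Subgroup G), x ∉ T₁ → orderOf g ≤ orderOf x) :
    ∃ a, a * g * a⁻¹ ∈ T₁ := by
  by_contra hno
  push Not at hno
  have f2 : Fact (Nat.Prime 2) := ⟨Nat.prime_two⟩
  have hidx : (T₁.subgroupOf (T : Subgroup G)).index = 2 := h2
  have hmul : ∀ x ∈ (T : Subgroup G), ∀ y ∈ (T : Subgroup G),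
      (x * y ∈ T₁ ↔ (x ∈ T₁ ↔ y ∈ T₁)) := by
    intro x hx y hy
    have := Subgroup.mul_mem_iff_of_index_two hidx (a := ⟨x, hx⟩) (b := ⟨y, hy⟩)
    simpa [mem_subgroupOf] using this
  obtain ⟨k, hk⟩ := (IsPGroup.iff_orderOf.mp T.isPGroup') ⟨g, hgT⟩
  rw [Subgroup.orderOf_mk] at hk
  have hg1' : g ≠ 1 := fun h => hg1 (h ▸ T₁.one_mem)
  have hk0 : k ≠ 0 := by
    rintro rfl
    rw [pow_zero, orderOf_eq_one_iff] at hk
    exact hg1' hk
  have hsq : g * g ∈ T₁ := (hmul g hgT g hgT).2 Iff.rfl
  have key := Cfsg.Agent.S1241.result (p := 2) (T : Subgroup G) T₁ h1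
    (Subgroup.normal_of_index_eq_two hidx) ?_ ?_ g hgT hg1 ⟨k, hk⟩ ?_
  · exact key (hG ▸ mem_top g)
  · intro x hx y hy
    rw [mul_assoc, mul_assoc,
      hmul _ hx _ (mul_mem hy (mul_mem (inv_mem hx) (inv_mem hy))),
      hmul _ hy _ (mul_mem (inv_mem hx) (inv_mem hy)), hmul _ (inv_mem hx) _ (inv_mem hy),
      inv_mem_iff, inv_mem_iff]
    tauto
  · rw [Nat.coprime_comm, Nat.coprime_comm]
    exact (Nat.Prime.coprime_iff_not_dvd Nat.prime_two).2 T.not_dvd_index
  · intro m a ha
    have hgm : g ^ m ∈ (T : Subgroup G) := zpow_mem hgT m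
    rw [hmul _ ha _ (inv_mem hgm), inv_mem_iff]
    rcases Int.even_or_odd m with ⟨n, hn⟩ | hm
    · have e1 : g ^ m = (g * g) ^ n := by
        rw [hn, ← pow_two, ← zpow_natCast, ← zpow_mul]
        congr 1
        push_cast
        ring
      have e2 : g ^ m ∈ T₁ := by rw [e1]; exact zpow_mem hsq n
      refine iff_of_true ?_ e2
      by_contra h3
      have h4 := hmin _ ha h3
      have h5 : orderOf (a * g ^ m * a⁻¹) = orderOf (g ^ m) := by
        rw [← MulAut.conj_apply]
        exact orderOf_injective (MulAut.conj a).toMonoidHom (MulAut.conj a).injective _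
      rw [h5] at h4
      have h6 : orderOf (g ^ m) ∣ orderOf (g * g) := by
        rw [e1]; exact orderOf_dvd_of_mem_zpowers (zpow_mem (mem_zpowers _) n)
      have h7 : orderOf (g * g) = 2 ^ (k - 1) := by
        rw [← pow_two, orderOf_pow' g two_ne_zero, hk]
        obtain ⟨j, rfl⟩ := Nat.exists_eq_succ_of_ne_zero hk0
        rw [pow_succ, Nat.gcd_mul_left_left, Nat.mul_div_cancel _ (by norm_num)]
        rfl
      rw [h7] at h6
      have h8 := Nat.le_of_dvd (by positivity) h6
      rw [hk] at h4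
      have h9 : 2 ^ (k - 1) < 2 ^ k := Nat.pow_lt_pow_right (by norm_num) (by omega)
      omega
    · have e2 : g ^ m ∉ T₁ := by
        intro h3
        obtain ⟨n, hn⟩ := hm
        have e1 : g = g ^ m * ((g * g) ^ n)⁻¹ := by
          rw [hn, ← pow_two, ← zpow_natCast, ← zpow_mul, zpow_add, zpow_one]
          push_cast
          group
        apply hg1
        rw [e1]
        exact mul_mem h3 (inv_mem (zpow_mem hsq n))
      refine iff_of_false (fun h3 => ?_) e2
      apply hno a
      have h4 : g ∈ zpowers (g ^ m) := by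
        rw [mem_zpowers_zpow_iff]
        rw [hk, Int.gcd_eq_natAbs, Int.natAbs_natCast]
        exact Nat.Coprime.pow_right _ (Nat.Coprime.symm
          ((Nat.coprime_two_left).2 (Int.natAbs_odd.2 hm)))
      obtain ⟨n, hn⟩ := h4
      have h5 : a * g * a⁻¹ = (a * g ^ m * a⁻¹) ^ n := by
        rw [conj_zpow]
        congr 2
        exact hn.symm
      rw [h5]
      exact zpow_mem h3 n

end Cfsg.Agent.OddCyclic.CaseATransfer
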