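import Cfsg.Agent.OddCyclic.CompStandard
import Cfsg.Agent.OddCyclic.CaseATransfer

/-!
# S0342, component case A: small tools on 2-groups and fusion
-/

set_option autoImplicit false

namespace Cfsg.Agent.OddCyclic.CaseATools

open Subgroup
open scoped commutatorElement
open Cfsg.Agent.LieExceptional.CITDefs
open Cfsg.Agent.OddCyclic.CompStandard

variable {G : Type*} [Group G]

theorem inv_eq_self {e : G} (he : e * e = 1) : e⁻¹ = e := inv_eq_of_mul_eq_one_right he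

theorem orderOf_eq_two {e : G} (he : e * e = 1) (h1 : e ≠ 1) : orderOf e = 2 :=
  orderOf_eq_prime (by rw [pow_two, he]) h1

theorem sq_of_orderOf {e : G} (he : orderOf e = 2) : e * e = 1 := by
  rw [← pow_two, ← he, pow_orderOf_eq_one]

theorem conj_eq_iff_comm {x e : G} : x * e * x⁻¹ = e ↔ x * e = e * x :=
  mul_inv_eq_iff_eq_mul

/-- The map `e ↦ [e, x]` on a normalised elementary abelian subgroup. -/
def commHom {E : Subgroup G} (hE : Elem E) {x : G} (hx : ∀ e ∈ E, x * e * x⁻¹ ∈ E) : E →* E where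
  toFun e := ⟨e.1 * (x * e.1⁻¹ * x⁻¹), E.mul_mem e.2 (hx _ (E.inv_mem e.2))⟩
  map_one' := by ext; simp
  map_mul' a b := by
    apply Subtype.ext
    show a.1 * b.1 * (x * (a.1 * b.1)⁻¹ * x⁻¹) =
      a.1 * (x * a.1⁻¹ * x⁻¹) * (b.1 * (x * b.1⁻¹ * x⁻¹))
    have h1 := hE.comm b.2 (hx _ (E.inv_mem a.2))
    have h2 := hE.comm (hx _ (E.inv_mem a.2)) (hx _ (E.inv_mem b.2))
    calc a.1 * b.1 * (x * (a.1 * b.1)⁻¹ * x⁻¹)
        = a.1 * (b.1 * ((x * b.1⁻¹ * x⁻¹) * (x * a.1⁻¹ * x⁻¹))) := by group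
      _ = a.1 * (b.1 * ((x * a.1⁻¹ * x⁻¹) * (x * b.1⁻¹ * x⁻¹))) := by rw [h2]
      _ = a.1 * ((b.1 * (x * a.1⁻¹ * x⁻¹)) * (x * b.1⁻¹ * x⁻¹)) := by group
      _ = a.1 * (((x * a.1⁻¹ * x⁻¹) * b.1) * (x * b.1⁻¹ * x⁻¹)) := by rw [h1]
      _ = _ := by group

theorem mem_ker_commHom {E : Subgroup G} (hE : Elem E) {x : G} (hx : ∀ e ∈ E, x * e * x⁻¹ ∈ E)
    (e : E) : e ∈ (commHom hE hx).ker ↔ x * e.1 = e.1 * x := by
  rw [MonoidHom.mem_ker, Subtype.ext_iff]
  show e.1 * (x * e.1⁻¹ * x⁻¹) = 1 ↔ _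
  have h0 : x * e.1⁻¹ * x⁻¹ = (x * e.1 * x⁻¹)⁻¹ := by group
  rw [h0, mul_inv_eq_one, ← conj_eq_iff_comm, eq_comm]

/-- the centralizer of `x` in `E` -/
theorem mem_inf_cent {E : Subgroup G} {x e : G} :
    e ∈ (E ⊓ centralizer ({x} : Set G) : Subgroup G) ↔ e ∈ E ∧ x * e = e * x := by
  rw [mem_inf, mem_centralizer_singleton_iff, eq_comm (a := e * x)]

theorem card_ker_commHom {E : Subgroup G} (hE : Elem E) {x : G} (hx : ∀ e ∈ E, x * e * x⁻¹ ∈ E) :
    Nat.card (commHom hE hx).ker = Nat.card (E ⊓ centralizer ({x} : Set G) : Subgroup G) := by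
  have h1 : (commHom hE hx).ker = (E ⊓ centralizer ({x} : Set G)).subgroupOf E := by
    ext e
    rw [mem_ker_commHom, mem_subgroupOf, mem_inf_cent]
    exact ⟨fun h => ⟨e.2, h⟩, fun h => h.2⟩
  rw [h1]
  exact Nat.card_congr (Subgroup.subgroupOfEquivOfLe inf_le_left).toEquiv

/-- If `x²` centralises `E` then `[E, x] ≤ C_E(x)`. -/
theorem commHom_mem {E : Subgroup G} (hE : Elem E) {x : G} (hx : ∀ e ∈ E, x * e * x⁻¹ ∈ E)
    (hx2 : ∀ e ∈ E, x * x * e = e * (x * x)) (e : E) :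
    x * (commHom hE hx e).1 = (commHom hE hx e).1 * x := by
  rw [← conj_eq_iff_comm]
  show x * (e.1 * (x * e.1⁻¹ * x⁻¹)) * x⁻¹ = e.1 * (x * e.1⁻¹ * x⁻¹)
  have h1 : e.1⁻¹ = e.1 := inv_eq_self (hE _ e.2)
  have h2 := hE.comm e.2 (hx _ e.2)
  have h3 := hx2 e.1 e.2
  rw [h1]
  calc x * (e.1 * (x * e.1 * x⁻¹)) * x⁻¹
      = (x * e.1 * x⁻¹) * ((x * x) * e.1) * (x * x)⁻¹ := by group
    _ = (x * e.1 * x⁻¹) * (e.1 * (x * x)) * (x * x)⁻¹ := by rw [h3]
    _ = (x * e.1 * x⁻¹) * e.1 := by group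
    _ = e.1 * (x * e.1 * x⁻¹) := h2.symm

theorem card_le_sq [Finite G] {E : Subgroup G} (hE : Elem E) {x : G}
    (hx : ∀ e ∈ E, x * e * x⁻¹ ∈ E) (hx2 : ∀ e ∈ E, x * x * e = e * (x * x)) :
    Nat.card E ≤ Nat.card (E ⊓ centralizer ({x} : Set G) : Subgroup G) ^ 2 := by
  have h1 := Subgroup.card_eq_card_quotient_mul_card_subgroup (commHom hE hx).ker
  rw [card_ker_commHom] at h1
  have h2 : Nat.card (E ⧸ (commHom hE hx).ker) ≤
      Nat.card (E ⊓ centralizer ({x} : Set G) : Subgroup G) := by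
    rw [Nat.card_congr (QuotientGroup.quotientKerEquivRange (commHom hE hx)).toEquiv,
      ← card_ker_commHom hE hx]
    apply Subgroup.card_le_of_le
    rintro _ ⟨e, rfl⟩
    rw [mem_ker_commHom]
    exact commHom_mem hE hx hx2 e
  rw [h1, pow_two]
  exact Nat.mul_le_mul_right _ h2

/-- The involutions of `Ex` are `E`-conjugate if `|C_E(x)|² ≤ |E|`. -/
theorem exists_conj_mul [Finite G] {E : Subgroup G} (hE : Elem E) {x : G}
    (hx : ∀ e ∈ E, x * e * x⁻¹ ∈ E) (hx2 : x * x = 1)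
    (hc : Nat.card (E ⊓ centralizer ({x} : Set G) : Subgroup G) ^ 2 ≤ Nat.card E) {e : G}
    (he : e ∈ E) (hex : e * x * (e * x) = 1) : ∃ f ∈ E, f * x * f⁻¹ = e * x := by
  have hxc : ∀ e ∈ E, x * x * e = e * (x * x) := fun e _ => by rw [hx2, one_mul, mul_one]
  have hle : (commHom hE hx).range ≤ (commHom hE hx).ker := by
    rintro _ ⟨e, rfl⟩
    rw [mem_ker_commHom]
    exact commHom_mem hE hx hxc e
  have h1 := Subgroup.card_eq_card_quotient_mul_card_subgroup (commHom hE hx).ker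
  rw [Nat.card_congr (QuotientGroup.quotientKerEquivRange (commHom hE hx)).toEquiv] at h1
  rw [← card_ker_commHom hE hx] at hc
  have heq : (commHom hE hx).range = (commHom hE hx).ker := by
    apply Subgroup.eq_of_le_of_card_ge hle
    have h3 : 0 < Nat.card (commHom hE hx).ker := Nat.card_pos
    rw [h1, pow_two] at hc
    exact Nat.le_of_mul_le_mul_right hc h3
  have hxinv : x⁻¹ = x := inv_eq_self hx2
  have hcomm : x * e = e * x := by
    rw [← conj_eq_iff_comm]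
    have h4 : e * (x * e * x⁻¹) = 1 := by
      calc e * (x * e * x⁻¹) = e * x * (e * x) * (x * x)⁻¹ := by group
        _ = 1 := by rw [hex, hx2]; simp
    rw [← inv_eq_of_mul_eq_one_right h4, inv_eq_self (hE e he)]
  have h5 : (⟨e, he⟩ : E) ∈ (commHom hE hx).range := by
    rw [heq, mem_ker_commHom]; exact hcomm
  obtain ⟨f, hf⟩ := h5
  refine ⟨f.1, f.2, ?_⟩
  have h6 : f.1 * (x * f.1⁻¹ * x⁻¹) = e := congrArg Subtype.val hf
  calc f.1 * x * f.1⁻¹ = f.1 * (x * f.1⁻¹ * x⁻¹) * x := by group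
    _ = e * x := by rw [h6]

/-! ### The commutator subgroup of a Sylow subgroup -/

theorem comm_conj_mem [Finite G] {T : Subgroup G} {n x : G} (hn : n ∈ normalizer (T : Set G))
    (hx : x ∈ ⁅T, T⁆) : n * x * n⁻¹ ∈ ⁅T, T⁆ := by
  have h1 : (⁅T, T⁆).map (MulAut.conj n).toMonoidHom = ⁅T, T⁆ := by
    rw [Subgroup.map_commutator]
    have h2 : T.map (MulAut.conj n).toMonoidHom = T := cj_eq_iff.mpr hn
    rw [h2]
  rw [← h1]
  exact ⟨x, hx, rfl⟩

/-- Central elements of a Sylow subgroup which are conjugate in `G` both lie in the commutator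
subgroup of the Sylow subgroup, or none does. -/
theorem mem_comm_of_conj [Finite G] (T : Sylow 2 G) {x y g : G}
    (hx : ∀ s ∈ (T : Subgroup G), s * x = x * s) (hy : ∀ s ∈ (T : Subgroup G), s * y = y * s)
    (hg : g * x * g⁻¹ = y) (hxT : x ∈ ⁅(T : Subgroup G), (T : Subgroup G)⁆) :
    y ∈ ⁅(T : Subgroup G), (T : Subgroup G)⁆ := by
  have hpf : Fact (Nat.Prime 2) := ⟨Nat.prime_two⟩
  obtain ⟨n, hn, hn'⟩ := T.conj_eq_normalizer_conj_of_mem_centralizer x g⁻¹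
    (mem_centralizer_iff.mpr hx) (mem_centralizer_iff.mpr (by rw [inv_inv, hg]; exact hy))
  rw [inv_inv, hg] at hn'
  have h1 := comm_conj_mem (T := (T : Subgroup G)) (n := n⁻¹) (inv_mem hn) hxT
  rw [inv_inv] at h1
  rw [hn']
  exact h1

theorem exists_comm_center {T : Subgroup G} (hT : IsPGroup 2 T) [Finite G]
    (hnab : ¬ ∀ x ∈ T, ∀ y ∈ T, x * y = y * x) :
    ∃ e ∈ ⁅T, T⁆, e ≠ 1 ∧ e ∈ T ∧ ∀ y ∈ T, y * e = e * y := by
  have hpf : Fact (Nat.Prime 2) := ⟨Nat.prime_two⟩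
  have hN : Group.IsNilpotent T := hT.isNilpotent
  have hne : _root_.commutator T ≠ ⊥ := by
    intro hb
    apply hnab
    intro x hx y hy
    have h1 : ⁅(⟨x, hx⟩ : T), (⟨y, hy⟩ : T)⁆ ∈ _root_.commutator T :=
      Subgroup.commutator_mem_commutator (mem_top _) (mem_top _)
    rw [hb, mem_bot, commutatorElement_eq_one_iff_mul_comm] at h1
    exact congrArg Subtype.val h1
  have h2 := Cfsg.Agent.Lib.NormalAbelian.normal_inf_center_ne_bot (_root_.commutator T) hne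
  obtain ⟨⟨e, he⟩, he1⟩ := Subgroup.ne_bot_iff_exists_ne_one.mp h2
  refine ⟨e.1, ?_, fun h => he1 (Subtype.ext (Subtype.ext h)), e.2, fun y hy => ?_⟩
  · have h3 : (_root_.commutator T).map T.subtype = ⁅T, T⁆ := by
      rw [_root_.commutator_def, Subgroup.map_commutator, ← MonoidHom.range_eq_map,
        Subgroup.range_subtype]
    rw [← h3]
    exact ⟨e, he.1, rfl⟩
  · exact (congrArg Subtype.val (mem_center_iff.mp he.2 ⟨y, hy⟩))

/-- A nontrivial normal subgroup of a 2-group contains a central involution. -/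
theorem exists_central_involution [Finite G] {T E : Subgroup G} (hT : IsPGroup 2 T) (hET : E ≤ T)
    (hn : ∀ x ∈ T, ∀ e ∈ E, x * e * x⁻¹ ∈ E) (hE : E ≠ ⊥) :
    ∃ e ∈ E, orderOf e = 2 ∧ ∀ y ∈ T, y * e = e * y := by
  have hpf : Fact (Nat.Prime 2) := ⟨Nat.prime_two⟩
  have hN : Group.IsNilpotent T := hT.isNilpotent
  have h1 : (E.subgroupOf T).Normal := Subgroup.normal_subgroupOf_of_le_normalizer
    fun x hx => mem_normalizer_of_forall (hn x hx)
  have hne : E.subgroupOf T ≠ ⊥ := by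
    intro hb
    apply hE
    have h3 := congrArg (Subgroup.map T.subtype) hb
    rwa [Subgroup.subgroupOf_map_subtype, Subgroup.map_bot, inf_eq_left.mpr hET] at h3
  have h2 := Cfsg.Agent.Lib.NormalAbelian.normal_inf_center_ne_bot (E.subgroupOf T) hne
  have h5 : IsPGroup 2 (E.subgroupOf T ⊓ center T : Subgroup T) := hT.to_subgroup _
  have h6 := (Subgroup.nontrivial_iff_ne_bot _).mpr h2
  obtain ⟨n, hn0, hn'⟩ := h5.nontrivial_iff_card.mp h6
  obtain ⟨⟨z, hzS⟩, hz, hz2⟩ := exists_involution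
    (H := (E.subgroupOf T ⊓ center T : Subgroup T))
    (by rw [hn']; exact (Nat.even_pow.mpr ⟨even_two, Nat.pos_iff_ne_zero.mp hn0⟩))
  rw [Subgroup.orderOf_mk] at hz2
  exact ⟨z, hz.1, hz2, fun y hy => (congrArg Subtype.val (mem_center_iff.mp hz.2 ⟨y, hy⟩))⟩

/-! ### Products, index two, orbits -/

theorem mem_sup_iff [Finite G] {E S : Subgroup G} (h : ∀ s ∈ S, ∀ e ∈ E, s * e * s⁻¹ ∈ E) {x : G} :
    x ∈ E ⊔ S ↔ ∃ e ∈ E, ∃ s ∈ S, x = e * s := by
  have h1 : S ≤ normalizer (E : Set G) := fun s hs => mem_normalizer_of_forall (h s hs)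
  have h2 := coe_mul_of_right_le_normalizer_left E S h1
  rw [← SetLike.mem_coe, h2, Set.mem_mul]
  constructor
  · rintro ⟨e, he, s, hs, rfl⟩
    exact ⟨e, he, s, hs, rfl⟩
  · rintro ⟨e, he, s, hs, rfl⟩
    exact ⟨e, he, s, hs, rfl⟩

theorem zpow_conj_mem {E : Subgroup G} {φ : G} [Finite G] (h : ∀ e ∈ E, φ * e * φ⁻¹ ∈ E) (j : ℤ) :
    ∀ e ∈ E, φ ^ j * e * (φ ^ j)⁻¹ ∈ E :=
  forall_of_mem_normalizer (zpow_mem (mem_normalizer_of_forall h) j)

theorem mem_sup_zpowers_iff [Finite G] {E : Subgroup G} {φ : G} (h : ∀ e ∈ E, φ * e * φ⁻¹ ∈ E)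
    {x : G} : x ∈ E ⊔ zpowers φ ↔ ∃ e ∈ E, ∃ j : ℤ, x = e * φ ^ j := by
  rw [mem_sup_iff]
  · constructor
    · rintro ⟨e, he, _, ⟨j, rfl⟩, rfl⟩
      exact ⟨e, he, j, rfl⟩
    · rintro ⟨e, he, j, rfl⟩
      exact ⟨e, he, _, ⟨j, rfl⟩, rfl⟩
  · rintro _ ⟨j, rfl⟩
    exact zpow_conj_mem h j

theorem card_mul_relIndex {H K : Subgroup G} (h : H ≤ K) :
    Nat.card H * H.relIndex K = Nat.card K := by
  have := Subgroup.relIndex_mul_relIndex ⊥ H K bot_le h
  rwa [relIndex_bot_left, relIndex_bot_left] at this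

theorem relIndex_eq_two {T T₁ : Subgroup G} {a : G} (haT : a ∈ T) (ha : a ∉ T₁)
    (h : ∀ b ∈ T, b ∉ T₁ → b * a ∈ T₁) : T₁.relIndex T = 2 := by
  rw [relIndex_eq_two_iff]
  refine ⟨a, haT, fun b hb => ?_⟩
  by_cases hb1 : b ∈ T₁
  · right; exact ⟨hb1, fun h' => ha ((Subgroup.mul_mem_cancel_left T₁ hb1).mp h')⟩
  · left; exact ⟨h b hb hb1, hb1⟩

theorem card_le_two_mul [Finite G] {A B : Subgroup G}
    (h : ∀ x ∈ A, ∀ y ∈ A, x ∉ B → y ∉ B → x * y ∈ B) :
    Nat.card A ≤ 2 * Nat.card (A ⊓ B : Subgroup G) := by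
  classical
  by_cases hAB : A ≤ B
  · rw [inf_eq_left.mpr hAB]
    omega
  · obtain ⟨a, haA, haB⟩ := SetLike.not_le_iff_exists.mp hAB
    have h1 : Nat.card A ≤ Nat.card ((A ⊓ B : Subgroup G) ⊕ (A ⊓ B : Subgroup G)) := by
      refine Nat.card_le_card_of_injective
        (fun x : A => if hx : x.1 ∈ B then Sum.inl ⟨x.1, x.2, hx⟩ else
          Sum.inr ⟨a * x.1, A.mul_mem haA x.2, h a haA x.1 x.2 haB hx⟩) ?_
      intro x y hxy
      by_cases hx : x.1 ∈ B <;> by_cases hy : y.1 ∈ B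
      · simp only [hx, hy, dif_pos, Sum.inl.injEq] at hxy
        exact Subtype.ext (Subtype.mk.inj hxy)
      · simp only [hx, hy, dif_pos, dif_neg, not_false_iff, reduceCtorEq] at hxy
      · simp only [hx, hy, dif_pos, dif_neg, not_false_iff, reduceCtorEq] at hxy
      · simp only [hx, hy, dif_neg, not_false_iff, Sum.inr.injEq] at hxy
        have h2 : a * x.1 = a * y.1 := Subtype.mk.inj hxy
        exact Subtype.ext (mul_left_cancel h2)
    rw [Nat.card_sum] at h1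
    omega

/-- The `N`-class of a central element of a Sylow subgroup of `N` has odd length. -/
theorem odd_orbit [Finite G] (T : Sylow 2 G) {N : Subgroup G} (hTN : (T : Subgroup G) ≤ N) {t : G}
    (htc : ∀ x ∈ (T : Subgroup G), x * t = t * x) :
    Odd (Set.ncard {x : G | ∃ n ∈ N, x = n * t * n⁻¹}) := by
  have hpf : Fact (Nat.Prime 2) := ⟨Nat.prime_two⟩
  let _ : MulAction N G := MulAction.compHom G ((MulAut.conj : G →* MulAut G).comp N.subtype)
  have hsm : ∀ (n : N) (x : G), n • x = n.1 * x * n.1⁻¹ := fun n x => rfl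
  have h1 : {x : G | ∃ n ∈ N, x = n * t * n⁻¹} = MulAction.orbit N t := by
    ext x
    rw [MulAction.mem_orbit_iff]
    constructor
    · rintro ⟨n, hn, rfl⟩
      exact ⟨⟨n, hn⟩, rfl⟩
    · rintro ⟨n, rfl⟩
      exact ⟨n.1, n.2, rfl⟩
  rw [h1, ← MulAction.index_stabilizer]
  have h2 : (T : Subgroup G).subgroupOf N ≤ MulAction.stabilizer N t := by
    intro n hn
    rw [MulAction.mem_stabilizer_iff, hsm, conj_eq_iff_comm]
    exact htc n.1 hn
  have h3 : (MulAction.stabilizer N t).index ∣ (T : Subgroup G).index := by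
    refine (Subgroup.index_dvd_of_le h2).trans ?_
    rw [← Subgroup.relIndex_mul_index hTN]
    exact dvd_mul_right _ _
  refine Odd.of_dvd_nat ?_ h3
  rw [← Nat.not_even_iff_odd, even_iff_two_dvd]
  exact T.not_dvd_index

/-! ### Sylow subgroups of centralizers -/

theorem card_le_sylow [Finite G] (T : Sylow 2 G) {Q : Subgroup G} (hQ : IsPGroup 2 Q) :
    Nat.card Q ≤ Nat.card (T : Subgroup G) := by
  have hpf : Fact (Nat.Prime 2) := ⟨Nat.prime_two⟩
  obtain ⟨S, hS⟩ := hQ.exists_le_sylow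
  refine (Subgroup.card_le_of_le hS).trans ?_
  exact (Nat.card_congr (S.equiv T).toEquiv).le

/-- If `v = geg⁻¹` with `e` central in the Sylow subgroup `T`, then each 2-subgroup of `C(v)` lies in
`g'Tg'⁻¹` for some `g'` with `v = g'eg'⁻¹`. -/
theorem exists_conj_le [Finite G] (T : Sylow 2 G) {e v g : G}
    (he : ∀ x ∈ (T : Subgroup G), x * e = e * x) (hg : g * e * g⁻¹ = v) {Q : Subgroup G}
    (hQ : IsPGroup 2 Q) (hQv : ∀ x ∈ Q, x * v = v * x) :
    ∃ g' : G, g' * e * g'⁻¹ = v ∧ ∀ x ∈ Q, g'⁻¹ * x * g' ∈ (T : Subgroup G) := by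
  have h1 : cj g (T : Subgroup G) ≤ centralizer ({v} : Set G) := by
    rintro _ ⟨x, hx, rfl⟩
    rw [mem_centralizer_singleton_iff, ← hg]
    simp only [MulEquiv.coe_toMonoidHom, MulAut.conj_apply]
    have := he x hx
    calc g * x * g⁻¹ * (g * e * g⁻¹) = g * (x * e) * g⁻¹ := by group
      _ = g * (e * x) * g⁻¹ := by rw [this]
      _ = _ := by group
  have h2 : IsSyl2 (centralizer ({v} : Set G)) (cj g (T : Subgroup G)) := by
    refine ⟨h1, T.isPGroup'.map _, fun Y hY hY2 hle => ?_⟩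
    refine (Subgroup.eq_of_le_of_card_ge hle ?_).symm
    rw [card_cj]
    exact card_le_sylow T hY2
  have h3 : Q ≤ centralizer ({v} : Set G) := fun x hx =>
    mem_centralizer_singleton_iff.mpr (hQv x hx)
  obtain ⟨S, hS, hQS⟩ := Cfsg.Agent.LieExceptional.CITBasic.exists_isSyl2 _ Q h3 hQ
  obtain ⟨c, hc, hcS⟩ := Cfsg.Agent.LieExceptional.CITBasic.IsSyl2.conj h2 hS
  have hcv := mem_centralizer_singleton_iff.mp hc
  refine ⟨c * g, ?_, fun x hx => ?_⟩
  · calc c * g * e * (c * g)⁻¹ = c * (g * e * g⁻¹) * c⁻¹ := by group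
      _ = v := by rw [hg, hcv]; group
  · have h4 : x ∈ cj c (cj g (T : Subgroup G)) := by
      have := hQS hx
      rw [hcS] at this
      exact this
    rw [← cj_mul, mem_cj] at h4
    exact h4

end Cfsg.Agent.OddCyclic.CaseATools
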