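import Cfsg.Agent.OddCyclic.CaseABase
import Cfsg.Agent.OddCyclic.CaseATools
import Cfsg.Agent.OddCyclic.B2Four

/-!
# S0342, T_cyc: noncommuting `SL₂(q)`-blocks over the Baumann subgroup of a Sylow 2-subgroup, `q = 4`

`Sit S B V W Z x`: `S` is a Sylow 2-subgroup of `G`, `B = VW = C_S(Z)` is normal in `S`, of the type of a Sylow
2-subgroup of `PSL₃(4)`, `x` is an element of order 3 acting fixed point freely on `B`, `N_G(V)` and `N_G(W)` are
transitive on the involutions of `V`, `W`.  (Blueprint S0342-A1-helper199.md, sections 3 to 6.)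

This file: elementary facts.
-/

set_option autoImplicit false

namespace Cfsg.Agent.OddCyclic.AOneSit

open Subgroup
open Cfsg.Agent.LieExceptional Cfsg.Agent.LieExceptional.CITDefs
open Cfsg.Agent.OddCyclic.CompBasic Cfsg.Agent.OddCyclic.CompStandard
open Cfsg.Agent.OddCyclic.T1Defs

variable {G : Type*} [Group G]

/-- the configuration -/
structure Sit (S B V W Z : Subgroup G) (x : G) : Prop where
  syl : IsSyl2 (⊤ : Subgroup G) S
  BS : B ≤ S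
  SnB : ∀ s ∈ S, ∀ b ∈ B, s * b * s⁻¹ ∈ B
  centZ : ∀ s ∈ S, (∀ z ∈ Z, s * z = z * s) → s ∈ B
  VB : V ≤ B
  WB : W ≤ B
  dec : ∀ b ∈ B, ∃ v ∈ V, ∃ w ∈ W, b = v * w
  eV : Elem V
  eW : Elem W
  inf : V ⊓ W = Z
  cV : Nat.card V = 16
  cW : Nat.card W = 16
  cZ : Nat.card Z = 4
  comm : ∀ v ∈ V, ∀ w ∈ W, v * w * v⁻¹ * w⁻¹ ∈ Z
  nc : ∀ v ∈ V, ∀ w ∈ W, v * w = w * v → v ∈ Z ∨ w ∈ Z
  x3 : orderOf x = 3
  xV : ∀ v ∈ V, x * v * x⁻¹ ∈ V
  xW : ∀ w ∈ W, x * w * x⁻¹ ∈ W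
  fV : ∀ v ∈ V, x * v = v * x → v = 1
  fW : ∀ w ∈ W, x * w = w * x → w = 1
  trV : ∀ a ∈ V, ∀ b ∈ V, a ≠ 1 → b ≠ 1 → ∃ g : G, (∀ v ∈ V, g * v * g⁻¹ ∈ V) ∧ g * a * g⁻¹ = b
  trW : ∀ a ∈ W, ∀ b ∈ W, a ≠ 1 → b ≠ 1 → ∃ g : G, (∀ w ∈ W, g * w * g⁻¹ ∈ W) ∧ g * a * g⁻¹ = b

variable {S B V W Z : Subgroup G} {x : G}

namespace Sit

theorem ZV (h : Sit S B V W Z x) : Z ≤ V := h.inf ▸ inf_le_left

theorem ZW (h : Sit S B V W Z x) : Z ≤ W := h.inf ▸ inf_le_right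

theorem mem_Z (h : Sit S B V W Z x) {v : G} (hv : v ∈ V) (hw : v ∈ W) : v ∈ Z := by
  rw [← h.inf]; exact ⟨hv, hw⟩

theorem ZB (h : Sit S B V W Z x) : Z ≤ B := h.ZV.trans h.VB

theorem two (h : Sit S B V W Z x) : IsPGroup 2 B := h.syl.two.to_le h.BS

/-- the roles of `V` and `W` are symmetric -/
theorem symm (h : Sit S B V W Z x) : Sit S B W V Z x where
  syl := h.syl
  BS := h.BS
  SnB := h.SnB
  centZ := h.centZ
  VB := h.WB
  WB := h.VB
  dec := by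
    intro b hb
    obtain ⟨v, hv, w, hw, he⟩ := h.dec b⁻¹ (B.inv_mem hb)
    exact ⟨w⁻¹, W.inv_mem hw, v⁻¹, V.inv_mem hv, by rw [← mul_inv_rev, ← he, inv_inv]⟩
  eV := h.eW
  eW := h.eV
  inf := by rw [inf_comm]; exact h.inf
  cV := h.cW
  cW := h.cV
  cZ := h.cZ
  comm := by
    intro w hw v hv
    have e : w * v * w⁻¹ * v⁻¹ = (v * w * v⁻¹ * w⁻¹)⁻¹ := by group
    rw [e]
    exact Z.inv_mem (h.comm v hv w hw)
  nc := fun w hw v hv e => (h.nc v hv w hw e.symm).symm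
  x3 := h.x3
  xV := h.xW
  xW := h.xV
  fV := h.fW
  fW := h.fV
  trV := h.trW
  trW := h.trV

theorem Zc (h : Sit S B V W Z x) {z b : G} (hz : z ∈ Z) (hb : b ∈ B) : b * z = z * b := by
  obtain ⟨v, hv, w, hw, rfl⟩ := h.dec b hb
  have h1 := h.eV.comm hv (h.ZV hz)
  have h2 := h.eW.comm hw (h.ZW hz)
  rw [mul_assoc, h2, ← mul_assoc, h1, mul_assoc]

theorem sqV (h : Sit S B V W Z x) {v : G} (hv : v ∈ V) : v⁻¹ = v := inv_eq_of_mul_eq_one_left (h.eV v hv)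

theorem conjV (h : Sit S B V W Z x) {b v : G} (hb : b ∈ B) (hv : v ∈ V) : b * v * b⁻¹ ∈ V := by
  obtain ⟨v₁, hv₁, w₁, hw₁, rfl⟩ := h.dec b hb
  have h1 : w₁ * v * w₁⁻¹ ∈ V := by
    have e : w₁ * v * w₁⁻¹ = (v * w₁ * v⁻¹ * w₁⁻¹)⁻¹ * v := by group
    rw [e]
    exact V.mul_mem (V.inv_mem (h.ZV (h.comm v hv w₁ hw₁))) hv
  have e : v₁ * w₁ * v * (v₁ * w₁)⁻¹ = v₁ * (w₁ * v * w₁⁻¹) * v₁⁻¹ := by group
  rw [e]
  exact V.mul_mem (V.mul_mem hv₁ h1) (V.inv_mem hv₁)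

/-- commutators with an element of `V ∖ Z` -/
theorem surj [Finite G] (h : Sit S B V W Z x) {v : G} (hv : v ∈ V) (hvZ : v ∉ Z) {z : G} (hz : z ∈ Z) :
    ∃ w ∈ W, v * w * v⁻¹ * w⁻¹ = z := by
  let f : W →* Z :=
    { toFun := fun w => ⟨v * w * v⁻¹ * (w : G)⁻¹, h.comm v hv w w.2⟩
      map_one' := Subtype.ext (by simp)
      map_mul' := fun a b => Subtype.ext (by
        have h1 := h.Zc (h.comm v hv b b.2) (h.WB a.2)
        show v * (a * b : G) * v⁻¹ * (a * b : G)⁻¹ = (v * a * v⁻¹ * (a : G)⁻¹) * (v * b * v⁻¹ * (b : G)⁻¹)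
        calc v * (a * b : G) * v⁻¹ * (a * b : G)⁻¹
            = (v * a * v⁻¹) * ((v * b * v⁻¹ * (b : G)⁻¹) * (a : G)⁻¹) := by group
          _ = (v * a * v⁻¹) * ((a : G)⁻¹ * (v * b * v⁻¹ * (b : G)⁻¹)) := by
              congr 1
              have h2 := h.Zc (h.comm v hv b b.2) (B.inv_mem (h.WB a.2))
              exact h2.symm
          _ = _ := by group) }
  have hker : f.ker ≤ Z.subgroupOf W := by
    intro w hw
    rw [MonoidHom.mem_ker] at hw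
    have h1 : v * w * v⁻¹ * (w : G)⁻¹ = 1 := congrArg Subtype.val hw
    have h2 : v * w = w * v := by
      have h3 : v * w * v⁻¹ = w := mul_inv_eq_one.1 h1
      exact mul_inv_eq_iff_eq_mul.1 h3
    rw [mem_subgroupOf]
    exact (h.nc v hv w w.2 h2).resolve_left hvZ
  have h1 : Nat.card f.ker ≤ 4 := by
    rw [← h.cZ, ← T1Tools.card_subgroupOf h.ZW]
    exact Subgroup.card_le_of_le hker
  have h2 := f.ker.card_mul_index
  rw [h.cW] at h2
  have h3 : 4 ≤ f.ker.index := by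
    by_contra hlt
    have h4 : f.ker.index ≤ 3 := by omega
    have h5 : Nat.card f.ker * f.ker.index ≤ 4 * 3 := Nat.mul_le_mul h1 h4
    omega
  have h4 : f.range = ⊤ := by
    apply Subgroup.eq_top_of_le_card
    rw [h.cZ, ← Subgroup.index_ker]
    exact h3
  obtain ⟨w, hw⟩ : (⟨z, hz⟩ : Z) ∈ f.range := by rw [h4]; exact mem_top _
  exact ⟨w, w.2, congrArg Subtype.val hw⟩

/-- the involutions of `B` -/
theorem invo (h : Sit S B V W Z x) {b : G} (hb : b ∈ B) (h2 : b * b = 1) : b ∈ V ∨ b ∈ W := by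
  obtain ⟨v, hv, w, hw, rfl⟩ := h.dec b hb
  have h3 : v * w = w * v := by
    have h4 : v * w = (v * w)⁻¹ := eq_inv_of_mul_eq_one_left h2
    rw [mul_inv_rev, h.sqV hv, h.symm.sqV hw] at h4
    exact h4
  rcases h.nc v hv w hw h3 with h4 | h4
  · exact Or.inr (W.mul_mem (h.ZW h4) hw)
  · exact Or.inl (V.mul_mem hv (h.ZV h4))

theorem sub_or (h : Sit S B V W Z x) {A : Subgroup G} (hA : A ≤ B) (hE : Elem A) : A ≤ V ∨ A ≤ W := by
  by_contra hcon
  push Not at hcon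
  obtain ⟨h1, h2⟩ := hcon
  obtain ⟨a, haA, haV⟩ := SetLike.not_le_iff_exists.1 h1
  obtain ⟨b, hbA, hbW⟩ := SetLike.not_le_iff_exists.1 h2
  have haW : a ∈ W := (h.invo (hA haA) (hE a haA)).resolve_left haV
  have hbV : b ∈ V := (h.invo (hA hbA) (hE b hbA)).resolve_right hbW
  rcases h.nc b hbV a haW (hE.comm hbA haA) with h3 | h3
  · exact hbW (h.ZW h3)
  · exact haV (h.ZV h3)

theorem eq_or [Finite G] (h : Sit S B V W Z x) {A : Subgroup G} (hA : A ≤ B) (hE : Elem A) (hc : Nat.card A = 16) :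
    A = V ∨ A = W := by
  rcases h.sub_or hA hE with h1 | h1
  · exact Or.inl (Subgroup.eq_of_le_of_card_ge h1 (by rw [hc, h.cV]))
  · exact Or.inr (Subgroup.eq_of_le_of_card_ge h1 (by rw [hc, h.cW]))

theorem ne (h : Sit S B V W Z x) : V ≠ W := by
  intro he
  have h1 := h.inf
  rw [← he, inf_idem] at h1
  have h2 := h.cV
  rw [h1, h.cZ] at h2
  omega

theorem exists_notZ (h : Sit S B V W Z x) : ∃ v ∈ V, v ∉ Z := by
  by_contra hcon
  push Not at hcon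
  have h1 : V = Z := le_antisymm hcon h.ZV
  have h2 := h.cV
  rw [h1, h.cZ] at h2
  omega


theorem cj_or [Finite G] (h : Sit S B V W Z x) {g : G} (hg : cj g B = B) : cj g V = V ∨ cj g V = W := by
  apply h.eq_or
  · rw [← hg]; exact cj_mono h.VB
  · exact CaseABase.elem_cj h.eV
  · rw [card_cj, h.cV]

theorem cj_pair [Finite G] (h : Sit S B V W Z x) {g : G} (hg : cj g B = B) :
    (cj g V = V ∧ cj g W = W) ∨ (cj g V = W ∧ cj g W = V) := by
  have hne : cj g V ≠ cj g W := fun he => h.ne (by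
    have := congrArg (cj g⁻¹) he
    rwa [cj_inv_cj, cj_inv_cj] at this)
  rcases h.cj_or hg with h1 | h1
  · rcases h.symm.cj_or hg with h2 | h2
    · exact Or.inl ⟨h1, h2⟩
    · exact absurd (h1.trans h2.symm) hne
  · rcases h.symm.cj_or hg with h2 | h2
    · exact absurd (h1.trans h2.symm) hne
    · exact Or.inr ⟨h1, h2⟩

theorem cjZ [Finite G] (h : Sit S B V W Z x) {g : G} (hg : cj g B = B) : cj g Z = Z := by
  rw [← h.inf, cj_inf]
  rcases h.cj_pair hg with ⟨h1, h2⟩ | ⟨h1, h2⟩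
  · rw [h1, h2]
  · rw [h1, h2, inf_comm]

theorem cjS [Finite G] (h : Sit S B V W Z x) {s : G} (hs : s ∈ S) : cj s B = B :=
  cj_eq_iff.2 (mem_normalizer_of_forall (h.SnB s hs))

theorem conjZ [Finite G] (h : Sit S B V W Z x) {s z : G} (hs : s ∈ S) (hz : z ∈ Z) : s * z * s⁻¹ ∈ Z := by
  have h1 := conj_mem_cj (g := s) hz
  rwa [h.cjZ (h.cjS hs)] at h1

end Sit

/-- `z` is a generator of `Z` central in `S` -/
structure Cen (S Z : Subgroup G) (z : G) : Prop where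
  mem : z ∈ Z
  ne : z ≠ 1
  comm : ∀ s ∈ S, s * z = z * s

/-- (P1): if an element of order `r` centralises `A`, then the elements of order `r` normalising `A` centralise it. -/
theorem p1 [Finite G] (hG : OddCyc G) {r : ℕ} (hr : r.Prime) (hr2 : r ≠ 2) {A : Subgroup G} {x y : G}
    (hx : orderOf x = r) (hy : orderOf y = r) (hcy : ∀ a ∈ A, y * a = a * y) (hxA : ∀ a ∈ A, x * a * x⁻¹ ∈ A) :
    ∀ a ∈ A, x * a = a * x := by
  have hxN : x ∈ normalizer (A : Set G) := mem_normalizer_of_forall hxA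
  have hyC : y ∈ centralizer (A : Set G) := mem_centralizer_iff.2 fun a ha => (hcy a ha).symm
  have hcn : centralizer (A : Set G) ≤ normalizer (A : Set G) := centralizer_le_normalizer _
  let N : Subgroup (normalizer (A : Set G)) := (centralizer (A : Set G)).subgroupOf _
  have hN : N.Normal := ⟨fun c hc g => by
    rw [mem_subgroupOf, mem_centralizer_iff] at hc ⊢
    intro a ha
    have h1 : (g : G)⁻¹ * a * g ∈ A := by
      have := (mem_normalizer_iff.mp ((normalizer (A : Set G)).inv_mem g.2) a).mp ha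
      simpa using this
    have h2 := hc _ h1
    show a * ((g : G) * c * (g : G)⁻¹) = (g : G) * c * (g : G)⁻¹ * a
    calc a * ((g : G) * c * (g : G)⁻¹) = (g : G) * (((g : G)⁻¹ * a * g) * c) * (g : G)⁻¹ := by group
      _ = (g : G) * ((c : G) * ((g : G)⁻¹ * a * g)) * (g : G)⁻¹ := by rw [h2]
      _ = (g : G) * c * (g : G)⁻¹ * a := by group⟩
  have hrN : r ∣ Nat.card N := by
    have h1 : (⟨y, hcn hyC⟩ : normalizer (A : Set G)) ∈ N := by rw [mem_subgroupOf]; exact hyC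
    have h2 : orderOf (⟨⟨y, hcn hyC⟩, h1⟩ : N) = r := by rw [orderOf_mk, orderOf_mk, hy]
    rw [← h2]
    exact orderOf_dvd_natCard _
  have hord : orderOf (⟨x, hxN⟩ : normalizer (A : Set G)) = r := by rw [orderOf_mk, hx]
  have hmem := mem_of_orderOf (oddCyc_subgroup hG _) hr hr2 hN hrN hord
  rw [mem_subgroupOf, mem_centralizer_iff] at hmem
  intro a ha
  exact (hmem a ha).symm

/-- elements of the same odd prime order in a subgroup generate conjugate subgroups -/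
theorem exists_conj_zpowers [Finite G] (hG : OddCyc G) {r : ℕ} (hr : r.Prime) (hr2 : r ≠ 2) {N : Subgroup G}
    {x y : G} (hxN : x ∈ N) (hyN : y ∈ N) (hx : orderOf x = r) (hy : orderOf y = r) :
    ∃ g ∈ N, x ∈ zpowers (g * y * g⁻¹) := by
  have hpf : Fact r.Prime := ⟨hr⟩
  have hcy := oddCyc_subgroup hG N
  have hxp : IsPGroup r (zpowers (⟨x, hxN⟩ : N)) := IsPGroup.of_card (n := 1) (by
    rw [Nat.card_zpowers, orderOf_mk, hx, pow_one])
  have hyp : IsPGroup r (zpowers (⟨y, hyN⟩ : N)) := IsPGroup.of_card (n := 1) (by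
    rw [Nat.card_zpowers, orderOf_mk, hy, pow_one])
  obtain ⟨P, hP⟩ := hxp.exists_le_sylow
  obtain ⟨Q, hQ⟩ := hyp.exists_le_sylow
  obtain ⟨g, hg⟩ := MulAction.exists_smul_eq N Q P
  have hxP : (⟨x, hxN⟩ : N) ∈ (P : Subgroup N) := hP (mem_zpowers _)
  have hyP : g * ⟨y, hyN⟩ * g⁻¹ ∈ (P : Subgroup N) := by
    rw [← hg]
    exact ⟨⟨y, hyN⟩, hQ (mem_zpowers _), rfl⟩
  have := hcy r P hr hr2
  have h1 : zpowers (⟨_, hxP⟩ : P) = zpowers (⟨_, hyP⟩ : P) := by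
    apply zpowers_eq_of_cyclic
    rw [orderOf_mk, orderOf_mk, orderOf_mk, CompStandard.orderOf_conj, orderOf_mk, hx, hy]
  have h2 : (⟨_, hxP⟩ : P) ∈ zpowers (⟨_, hyP⟩ : P) := by rw [← h1]; exact mem_zpowers _
  obtain ⟨n, hn⟩ := h2
  refine ⟨g, g.2, n, ?_⟩
  have h3 := congrArg (fun z : P => ((z : N) : G)) hn
  exact h3

/-- an element of order 3 permuting a set of at most two subgroups fixes them -/
theorem cj_eq_of_pair {y : G} (hy : orderOf y = 3) {A A' : Subgroup G} (h1 : cj y A = A ∨ cj y A = A')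
    (h2 : cj y A = A' → cj y A' = A ∨ cj y A' = A') : cj y A = A := by
  rcases h1 with h1 | h1
  · exact h1
  · rcases h2 h1 with h3 | h3
    · have h4 : cj (y * y * y) A = cj y A := by rw [cj_mul, cj_mul, h1, h3, h1]
      have h5 : y * y * y = 1 := by
        have := pow_orderOf_eq_one y
        rw [hy, pow_succ, pow_two] at this
        exact this
      rw [h5, cj_one] at h4
      exact h4.symm
    · have h4 : cj y A = cj y A' := h1.trans h3.symm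
      have h5 := congrArg (cj y⁻¹) h4
      rw [cj_inv_cj, cj_inv_cj] at h5
      rw [h1, h5]

/-- the product of two elements outside a subgroup of index two -/
theorem mul_mem_of_card [Finite G] {E V : Subgroup G} (hEV : E ≤ V) (hc : Nat.card V = 2 * Nat.card E) {a b : G}
    (ha : a ∈ V) (hb : b ∈ V) (ha' : a ∉ E) (hb' : b ∉ E) : a * b ∈ E := by
  have h1 : (E.subgroupOf V).index = 2 := by
    have h2 := (E.subgroupOf V).card_mul_index
    rw [T1Tools.card_subgroupOf hEV, hc, mul_comm 2] at h2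
    exact Nat.eq_of_mul_eq_mul_left Nat.card_pos h2
  have h3 := (Subgroup.mul_mem_iff_of_index_two h1 (a := (⟨a, ha⟩ : V)) (b := ⟨b, hb⟩)).2
    ⟨fun h => absurd h ha', fun h => absurd h hb'⟩
  exact h3

namespace Sit

theorem exists_z [Finite G] (h : Sit S B V W Z x) : ∃ z, Cen S Z z := by
  obtain ⟨z, hz, hz1, hc⟩ := B2Four.exists_fixed h.syl.two h.cZ (fun t ht v hv => h.conjZ ht hv)
  exact ⟨z, hz, hz1, hc⟩

theorem eZ (h : Sit S B V W Z x) : Elem Z := fun z hz => h.eV z (h.ZV hz)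

theorem four (h : Sit S B V W Z x) {i v : G} (hi : i ∈ Z) (hv : v ∈ Z) (hi1 : i ≠ 1) (hv1 : v ≠ 1) (hvi : v ≠ i)
    {y : G} (hy : y ∈ Z) : y = 1 ∨ y = i ∨ y = v ∨ y = i * v :=
  B2Four.mem_four' h.eZ h.cZ hi hv hi1 hv1 hvi hy

theorem exists_a (h : Sit S B V W Z x) (z : G) : ∃ a ∈ Z, a ≠ 1 ∧ a ≠ z := by
  by_contra hcon
  push Not at hcon
  have hsub : (Z : Set G) ⊆ ({1, z} : Set G) := by
    intro a ha
    by_cases h1 : a = 1
    · exact Or.inl h1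
    · exact Or.inr (hcon a ha h1)
  have h1 := Set.ncard_le_ncard hsub
  have h2 : (Z : Set G).ncard = 4 := by rw [← h.cZ]; rfl
  have h3 : ({1, z} : Set G).ncard ≤ 2 := Set.ncard_insert_le 1 {z} |>.trans (by rw [Set.ncard_singleton])
  omega

/-- the action of `S ∖ B` on `Z` -/
theorem act [Finite G] (h : Sit S B V W Z x) {z : G} (hz : Cen S Z z) {s : G} (hs : s ∈ S) (hsB : s ∉ B) {a : G}
    (ha : a ∈ Z) (ha1 : a ≠ 1) (haz : a ≠ z) : s * a * s⁻¹ = z * a := by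
  have h1 := h.conjZ hs ha
  rcases h.four hz.mem ha hz.ne ha1 haz h1 with h2 | h2 | h2 | h2
  · exact absurd (by simpa using h2) ha1
  · exfalso
    apply haz
    have h3 : s⁻¹ * (s * a * s⁻¹) * s = s⁻¹ * z * s := by rw [h2]
    have h4 := hz.comm s⁻¹ (S.inv_mem hs)
    calc a = s⁻¹ * (s * a * s⁻¹) * s := by group
      _ = s⁻¹ * z * s := h3
      _ = z := by rw [h4]; group
  · exfalso
    apply hsB
    apply h.centZ s hs
    have h3 : s * a = a * s := mul_inv_eq_iff_eq_mul.1 h2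
    intro c hc
    rcases h.four hz.mem ha hz.ne ha1 haz hc with rfl | rfl | rfl | rfl
    · simp
    · exact hz.comm s hs
    · exact h3
    · rw [← mul_assoc, hz.comm s hs, mul_assoc, h3, mul_assoc]
  · exact h2

theorem mul_mem_B [Finite G] (h : Sit S B V W Z x) {s t : G} (hs : s ∈ S) (ht : t ∈ S) (hsB : s ∉ B) (htB : t ∉ B) :
    s * t ∈ B := by
  obtain ⟨z, hz⟩ := h.exists_z
  obtain ⟨a, ha, ha1, haz⟩ := h.exists_a z
  apply h.centZ _ (S.mul_mem hs ht)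
  have h1 := h.act hz hs hsB ha ha1 haz
  have h2 := h.act hz ht htB ha ha1 haz
  have hza : z * a ≠ 1 := fun h0 => haz (by
    have h3 : z * a = z * z := by rw [h0, h.eZ z hz.mem]
    exact mul_left_cancel h3)
  have hzaz : z * a ≠ z := fun h0 => ha1 (by simpa using h0)
  have h3 := h.act hz hs hsB (Z.mul_mem hz.mem ha) hza hzaz
  have h4 : (s * t) * a * (s * t)⁻¹ = a := by
    calc (s * t) * a * (s * t)⁻¹ = s * (t * a * t⁻¹) * s⁻¹ := by group
      _ = s * (z * a) * s⁻¹ := by rw [h2]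
      _ = z * (z * a) := h3
      _ = a := by rw [← mul_assoc, h.eZ z hz.mem, one_mul]
  have h5 : (s * t) * a = a * (s * t) := mul_inv_eq_iff_eq_mul.1 h4
  have h6 : (s * t) * z = z * (s * t) := hz.comm _ (S.mul_mem hs ht)
  intro c hc
  rcases h.four hz.mem ha hz.ne ha1 haz hc with rfl | rfl | rfl | rfl
  · simp
  · exact h6
  · exact h5
  · rw [← mul_assoc, h6, mul_assoc, h5, mul_assoc]

theorem sq_mem_B [Finite G] (h : Sit S B V W Z x) {s : G} (hs : s ∈ S) : s * s ∈ B := by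
  by_cases hsB : s ∈ B
  · exact B.mul_mem hsB hsB
  · exact h.mul_mem_B hs hs hsB hsB

theorem relIndex_eq_two [Finite G] (h : Sit S B V W Z x) {s : G} (hs : s ∈ S) (hsB : s ∉ B) : B.relIndex S = 2 := by
  rw [relIndex, index_eq_two_iff]
  refine ⟨⟨s, hs⟩, fun b => ?_⟩
  simp only [mem_subgroupOf]
  by_cases hb : (b : G) ∈ B
  · refine Or.inr ⟨hb, fun h1 => hsB ?_⟩
    have h2 := B.mul_mem (B.inv_mem hb) h1
    simpa using h2
  · exact Or.inl ⟨h.mul_mem_B b.2 hs hb hsB, hb⟩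

/-- no element of order 3 centralises `Z` -/
theorem no_three [Finite G] (hG : OddCyc G) (h : Sit S B V W Z x) {y : G} (hy : orderOf y = 3)
    (hc : ∀ z ∈ Z, y * z = z * y) : False := by
  have hxZ : ∀ a ∈ Z, x * a * x⁻¹ ∈ Z := fun a ha => h.mem_Z (h.xV a (h.ZV ha)) (h.xW a (h.ZW ha))
  have h1 := p1 hG Nat.prime_three (by norm_num) h.x3 hy hc hxZ
  obtain ⟨a, ha, ha1, -⟩ := h.exists_a 1
  exact ha1 (h.fV a (h.ZV ha) (h1 a ha))

/-- elements of order 3 normalising `V` act fixed point freely on `V` -/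
theorem fpf [Finite G] (hG : OddCyc G) (h : Sit S B V W Z x) {y : G} (hy : orderOf y = 3)
    (hyV : cj y V = V) {v : G} (hv : v ∈ V) (hc : y * v = v * y) : v = 1 := by
  have hyN : y ∈ normalizer (V : Set G) := cj_eq_iff.1 hyV
  have hxN : x ∈ normalizer (V : Set G) := mem_normalizer_of_forall h.xV
  obtain ⟨g, hg, n, hn⟩ := exists_conj_zpowers hG Nat.prime_three (by norm_num) hxN hyN h.x3 hy
  have h1 : g * v * g⁻¹ ∈ V := forall_of_mem_normalizer hg v hv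
  have h2 : Commute (g * y * g⁻¹) (g * v * g⁻¹) := by
    show (g * y * g⁻¹) * (g * v * g⁻¹) = (g * v * g⁻¹) * (g * y * g⁻¹)
    calc (g * y * g⁻¹) * (g * v * g⁻¹) = g * (y * v) * g⁻¹ := by group
      _ = g * (v * y) * g⁻¹ := by rw [hc]
      _ = _ := by group
  have h3 : Commute x (g * v * g⁻¹) := by
    have h4 : (g * y * g⁻¹) ^ n = x := hn
    rw [← h4]
    exact h2.zpow_left n
  have h4 := h.fV _ h1 h3
  have h5 : v = g⁻¹ * (g * v * g⁻¹) * g := by group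
  rw [h5, h4]; group

/-- an element of `S ∖ B` normalising `V` acts nontrivially on `V / Z` -/
theorem exists_comm_notZ [Finite G] (h : Sit S B V W Z x) {s : G} (hs : s ∈ S) (hsB : s ∉ B) (hsV : cj s V = V) :
    ∃ v ∈ V, s * v * s⁻¹ * v⁻¹ ∉ Z := by
  by_contra hcon
  push Not at hcon
  have hsW : cj s W = W := by
    rcases h.cj_pair (h.cjS hs) with h1 | h1
    · exact h1.2
    · exact absurd (h1.1.symm.trans hsV).symm h.ne
  have hW : ∀ w ∈ W, s * w * s⁻¹ ∈ W := fun w hw => by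
    have := conj_mem_cj (g := s) hw
    rwa [hsW] at this
  -- `s` fixes a coset of `Z` in `W`
  obtain ⟨w, hw, hwZ, hc⟩ : ∃ w ∈ W, w ∉ Z ∧ s * w * s⁻¹ * w⁻¹ ∈ Z := by
    obtain ⟨w₁, hw₁, hw₁Z⟩ := h.symm.exists_notZ
    by_cases hc₁ : s * w₁ * s⁻¹ * w₁⁻¹ ∈ Z
    · exact ⟨w₁, hw₁, hw₁Z, hc₁⟩
    · refine ⟨s * w₁ * s⁻¹ * w₁⁻¹, W.mul_mem (hW _ hw₁) (W.inv_mem hw₁), hc₁, ?_⟩
      set c := s * w₁ * s⁻¹ * w₁⁻¹ with hcd
      have hcW : c ∈ W := W.mul_mem (hW _ hw₁) (W.inv_mem hw₁)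
      obtain ⟨v₂, hv₂, w₂, hw₂, he⟩ := h.dec _ (h.sq_mem_B hs)
      have h1 : (s * s) * w₁ * (s * s)⁻¹ * w₁⁻¹ ∈ Z := by
        rw [he]
        have e1 : w₂ * w₁ * w₂⁻¹ = w₁ := by
          rw [h.eW.comm hw₂ hw₁]; group
        have e : v₂ * w₂ * w₁ * (v₂ * w₂)⁻¹ * w₁⁻¹ = v₂ * (w₂ * w₁ * w₂⁻¹) * v₂⁻¹ * w₁⁻¹ := by group
        rw [e, e1]
        exact h.comm v₂ hv₂ w₁ hw₁
      have h2 : s * c * s⁻¹ * c⁻¹ = ((s * s) * w₁ * (s * s)⁻¹ * w₁⁻¹) * (w₁ * (c * w₁)⁻¹ * c⁻¹) := by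
        rw [hcd]; group
      have h3 : w₁ * (c * w₁)⁻¹ * c⁻¹ = 1 := by
        have h4 : (c * w₁)⁻¹ = w₁⁻¹ * c⁻¹ := mul_inv_rev _ _
        have h5 : c⁻¹ * c⁻¹ = 1 := by rw [← mul_inv_rev, h.eW c hcW, inv_one]
        rw [h4, mul_inv_cancel_left, h5]
      rw [h2, h3, mul_one]
      exact h1
  -- `s` centralises `[V, w] = Z`
  apply hsB
  apply h.centZ s hs
  intro z hz
  obtain ⟨v, hv, he⟩ := h.symm.surj hw hwZ hz
  set ζ := s * w * s⁻¹ * w⁻¹ with hζ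
  set ξ := s * v * s⁻¹ * v⁻¹ with hξ
  have hξZ : ξ ∈ Z := hcon v hv
  have e1 : s * w * s⁻¹ = ζ * w := by rw [hζ]; group
  have e2 : s * v * s⁻¹ = ξ * v := by rw [hξ]; group
  have hvB := h.VB hv
  have hwB := h.WB hw
  have k1 : ∀ b ∈ B, Commute b ζ := fun b hb => h.Zc hc hb
  have k2 : ∀ b ∈ B, Commute b ξ := fun b hb => h.Zc hξZ hb
  have h1 : s * z * s⁻¹ = z := by
    calc s * z * s⁻¹ = s * (w * v * w⁻¹ * v⁻¹) * s⁻¹ := by rw [he]
      _ = (s * w * s⁻¹) * (s * v * s⁻¹) * (s * w * s⁻¹)⁻¹ * (s * v * s⁻¹)⁻¹ := by group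
      _ = (ζ * w) * (ξ * v) * (ζ * w)⁻¹ * (ξ * v)⁻¹ := by rw [e1, e2]
      _ = ζ * (w * ξ) * v * (ζ * w)⁻¹ * (ξ * v)⁻¹ := by group
      _ = ζ * (ξ * w) * v * (ζ * w)⁻¹ * (ξ * v)⁻¹ := by rw [(k2 w hwB).eq]
      _ = (ζ * ξ) * (w * v * w⁻¹) * ζ⁻¹ * v⁻¹ * ξ⁻¹ := by group
      _ = (ζ * ξ) * ((w * v * w⁻¹) * ζ⁻¹) * v⁻¹ * ξ⁻¹ := by group
      _ = (ζ * ξ) * (ζ⁻¹ * (w * v * w⁻¹)) * v⁻¹ * ξ⁻¹ := by
          rw [((k1 _ (B.mul_mem (B.mul_mem hwB hvB) (B.inv_mem hwB))).inv_right).eq]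
      _ = (ζ * ξ * ζ⁻¹) * ((w * v * w⁻¹ * v⁻¹) * ξ⁻¹) := by group
      _ = (ζ * ξ * ζ⁻¹) * (ξ⁻¹ * (w * v * w⁻¹ * v⁻¹)) := by
          rw [((k2 _ (B.mul_mem (B.mul_mem (B.mul_mem hwB hvB) (B.inv_mem hwB)) (B.inv_mem hvB))).inv_right).eq]
      _ = (ζ * (ξ * ζ⁻¹) * ξ⁻¹) * (w * v * w⁻¹ * v⁻¹) := by group
      _ = (ζ * (ζ⁻¹ * ξ) * ξ⁻¹) * (w * v * w⁻¹ * v⁻¹) := by
          rw [((k1 ξ (h.ZB hξZ)).inv_right).eq]
      _ = w * v * w⁻¹ * v⁻¹ := by group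
      _ = z := he
  exact mul_inv_eq_iff_eq_mul.1 h1

end Sit

end Cfsg.Agent.OddCyclic.AOneSit
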