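import Mathlib
import Cfsg.Agent.OddCyclic.CompBasic
import Cfsg.Agent.Transfer.FrobeniusFusion
import Cfsg.Agent.Transfer.MaximalClass
import Cfsg.Agent.Lib.CoprimeStab
import Cfsg.Agent.S0112

/-!
# Tools for the component case `J₁` of S0342

* `mulAut_eq_one`: an automorphism of order prime to 6 of a 2-group with a cyclic subgroup of index
  at most two is trivial;
* `hasNormalPComplement_of_index_two`: a finite group of order prime to 3 whose Sylow 2-subgroups have a
  cyclic subgroup of index two has a normal 2-complement;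
* `hasNormalPComplement_centralizer`: if all odd Sylow subgroups are cyclic, the centraliser of an element
  of order `p` (odd) has a normal `p`-complement.
-/

set_option autoImplicit false

namespace Cfsg.Agent.OddCyclic.CompJOneTools

open Subgroup Cfsg.Agent.OddCyclic.T1Defs Cfsg.Agent.OddCyclic.CompBasic
open Cfsg.Agent.Transfer.FrobeniusFusion (LocalCondition)

section LemmaQ

variable {D : Type*} [Group D] [Finite D]

omit [Finite D] in
/-- two subgroups of index two of `D` which contain the same of the elements `c`, `d` are equal when `c`, `d`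
generate `D` -/
theorem eq_of_index_two {M N : Subgroup D} (hM : M.index = 2) (hN : N.index = 2) {c d : D}
    (hgen : closure {c, d} = (⊤ : Subgroup D)) (hc : c ∈ M ↔ c ∈ N) (hd : d ∈ M ↔ d ∈ N) : M = N := by
  let L : Subgroup D := 
    { carrier := {x | x ∈ M ↔ x ∈ N}
      mul_mem' := by
        intro a b ha hb
        change a ∈ M ↔ a ∈ N at ha
        change b ∈ M ↔ b ∈ N at hb
        change a * b ∈ M ↔ a * b ∈ N
        rw [mul_mem_iff_of_index_two hM, mul_mem_iff_of_index_two hN, ha, hb]
      one_mem' := by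
        change 1 ∈ M ↔ 1 ∈ N
        simp [one_mem]
      inv_mem' := by
        intro a ha
        change a ∈ M ↔ a ∈ N at ha
        change a⁻¹ ∈ M ↔ a⁻¹ ∈ N
        rw [inv_mem_iff, inv_mem_iff, ha] }
  have hL : L = ⊤ := by
    rw [eq_top_iff, ← hgen, closure_le]
    rintro x (rfl | rfl)
    · exact hc
    · exact hd
  ext x
  have : x ∈ L := by rw [hL]; exact mem_top x
  exact this

/-- Step A. -/
theorem mulAut_eq_one_of_map_eq (hD : IsPGroup 2 D) (C : Subgroup D) (hC : IsCyclic C)
    (hi : C.index = 1 ∨ C.index = 2) (α : MulAut D) (ho : (orderOf α).Coprime 2)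
    (hm : C.map α.toMonoidHom = C) : α = 1 := by
  have : Fact (Nat.Prime 2) := ⟨Nat.prime_two⟩
  have hαC : ∀ x ∈ C, α x ∈ C := fun x hx => by
    have : α x ∈ C.map α.toMonoidHom := ⟨x, hx, rfl⟩
    rwa [hm] at this
  -- the restriction
  let e : C ≃* (C.map α.toMonoidHom) := C.equivMapOfInjective α.toMonoidHom α.injective
  let β : MulAut C := e.trans (MulEquiv.subgroupCongr hm)
  have hβ : ∀ x : C, ((β x : C) : D) = α (x : D) := fun x => rfl
  have hβn : ∀ (n : ℕ) (x : C), (((β ^ n) x : C) : D) = (α ^ n) (x : D) := by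
    intro n
    induction n with
    | zero => intro x; rfl
    | succ n ih =>
      intro x
      rw [pow_succ, pow_succ, MulAut.mul_apply, MulAut.mul_apply, ih, hβ]
  have hβo : orderOf β ∣ orderOf α := by
    apply orderOf_dvd_of_pow_eq_one
    ext x
    rw [hβn, pow_orderOf_eq_one]
    rfl
  have hβ1 : β = 1 := by
    have h1 : orderOf β ∣ Nat.card (MulAut C) := orderOf_dvd_natCard β
    rw [IsCyclic.card_mulAut] at h1
    obtain ⟨m, hm⟩ := IsPGroup.iff_card.1 (hD.to_subgroup C)
    rw [hm] at h1
    have h2 : (2 ^ m).totient ∣ 2 ^ m := by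
      rcases Nat.eq_zero_or_pos m with rfl | hpos
      · simp
      · rw [Nat.totient_prime_pow Nat.prime_two hpos]
        simpa using pow_dvd_pow 2 (Nat.sub_le m 1)
    have h3 : (orderOf β).Coprime (2 ^ m) := Nat.Coprime.pow_right m (ho.coprime_dvd_left hβo)
    have h4 := Nat.Coprime.eq_one_of_dvd h3 (h1.trans h2)
    exact orderOf_eq_one_iff.1 h4
  have hfix : ∀ x ∈ C, α x = x := by
    intro x hx
    have := hβ ⟨x, hx⟩
    rw [hβ1] at this
    exact this.symm
  ext d
  change α d = d
  by_cases hd : d ∈ C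
  · exact hfix d hd
  rcases hi with h1 | h2
  · rw [index_eq_one] at h1
    exact absurd (h1 ▸ mem_top d) hd
  have hαd : α d ∉ C := by
    intro h
    have h3 : α d ∈ C.map α.toMonoidHom := by rw [hm]; exact h
    obtain ⟨y, hy, hyd⟩ := h3
    have : y = d := α.injective hyd
    exact hd (this ▸ hy)
  have hc : d⁻¹ * α d ∈ C := by
    rw [mul_mem_iff_of_index_two h2, inv_mem_iff]
    exact iff_of_false hd hαd
  set c := d⁻¹ * α d with hcdef
  have hαd' : α d = d * c := by rw [hcdef]; group
  have hpow : ∀ n : ℕ, (α ^ n) d = d * c ^ n := by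
    intro n
    induction n with
    | zero => simp
    | succ n ih =>
      rw [pow_succ', MulAut.mul_apply, ih, map_mul, map_pow, hfix c hc, hαd', pow_succ', mul_assoc]
  have h3 := hpow (orderOf α)
  rw [pow_orderOf_eq_one, MulAut.one_apply] at h3
  have h4 : c ^ orderOf α = 1 := by
    exact mul_left_cancel (h3.symm.trans (mul_one d).symm)
  have h5 : c = 1 := by
    obtain ⟨m, hm⟩ := hD c
    rw [← orderOf_eq_one_iff]
    have h6 : orderOf c ∣ orderOf α := orderOf_dvd_of_pow_eq_one h4
    have h7 : orderOf c ∣ 2 ^ m := orderOf_dvd_of_pow_eq_one hm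
    exact Nat.Coprime.eq_one_of_dvd (Nat.Coprime.pow_right m (ho.coprime_dvd_left h6)) h7
  rw [hαd', h5, mul_one]

/-- **Lemma Q.** -/
theorem mulAut_eq_one (hD : IsPGroup 2 D) (C : Subgroup D) (hC : IsCyclic C)
    (hi : C.index = 1 ∨ C.index = 2) (α : MulAut D) (ho : (orderOf α).Coprime 6) : α = 1 := by
  classical
  have ho2 : (orderOf α).Coprime 2 := ho.coprime_dvd_right (by norm_num)
  have ho3 : (orderOf α).Coprime 3 := ho.coprime_dvd_right (by norm_num)
  apply mulAut_eq_one_of_map_eq hD C hC hi α ho2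
  rcases hi with h1 | h2
  · rw [index_eq_one] at h1
    rw [h1]
    exact Subgroup.map_top_of_surjective _ α.surjective
  -- generators
  obtain ⟨⟨c, hcC⟩, hc⟩ := hC.exists_generator
  obtain ⟨d, hd⟩ : ∃ d, d ∉ C := by
    by_contra hno
    push Not at hno
    have : C = ⊤ := by rw [eq_top_iff]; intro x _; exact hno x
    rw [this, index_top] at h2
    omega
  have hCz : C = zpowers c := by
    apply le_antisymm
    · intro x hx
      obtain ⟨n, hn⟩ := mem_zpowers_iff.1 (hc ⟨x, hx⟩)
      exact mem_zpowers_iff.2 ⟨n, congrArg Subtype.val hn⟩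
    · rwa [zpowers_le]
  have hgen : closure {c, d} = (⊤ : Subgroup D) := by
    set L := closure {c, d} with hL
    have h3 : C ≤ L := by
      rw [hCz, zpowers_le]
      exact subset_closure (by simp)
    have h4 : d ∈ L := subset_closure (by simp)
    rw [eq_top_iff]
    intro x _
    by_cases hx : x ∈ C
    · exact h3 hx
    · have h5 : d⁻¹ * x ∈ C := by
        rw [mul_mem_iff_of_index_two h2, inv_mem_iff]
        exact iff_of_false hd hx
      have h6 := L.mul_mem h4 (h3 h5)
      rwa [mul_inv_cancel_left] at h6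
  -- the images of `C`
  let M : ℕ → Subgroup D := fun n => C.map (α ^ n).toMonoidHom
  have hMi : ∀ n, (M n).index = 2 := fun n => by
    rw [← h2]; exact Subgroup.index_map_equiv C (α ^ n)
  have hnot : ∀ n, ¬ (c ∈ M n ∧ d ∈ M n) := by
    rintro n ⟨h3, h4⟩
    have h5 : closure {c, d} ≤ M n := by
      rw [closure_le]
      rintro x (rfl | rfl)
      · exact h3
      · exact h4
    rw [hgen, top_le_iff] at h5
    have := hMi n
    rw [h5, index_top] at this
    omega
  let f : Fin 4 → {p : Bool × Bool // p ≠ (true, true)} := fun i =>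
    ⟨(decide (c ∈ M i), decide (d ∈ M i)), by
      intro h
      rw [Prod.mk.injEq, decide_eq_true_eq, decide_eq_true_eq] at h
      exact hnot i h⟩
  obtain ⟨i, j, hij, hf⟩ := Fintype.exists_ne_map_eq_of_card_lt f (by decide)
  have hMij : M i = M j := by
    have h3 := congrArg Subtype.val hf
    simp only [f, Prod.mk.injEq, decide_eq_decide] at h3
    exact eq_of_index_two (hMi i) (hMi j) hgen h3.1 h3.2
  -- the stabiliser
  have key : ∀ i j : ℕ, i < j → j ≤ 3 → M i = M j → C.map α.toMonoidHom = C := by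
    intro i j hij hj hM
    obtain ⟨k, hk⟩ : ∃ k, j = i + k := ⟨j - i, by omega⟩
    have hk1 : 1 ≤ k := by omega
    have hk3 : k ≤ 3 := by omega
    have hcop : (orderOf α).Coprime k := by
      interval_cases k
      · exact Nat.coprime_one_right _
      · exact ho2
      · exact ho3
    have hMk : C.map (α ^ k).toMonoidHom = C := by
      have h3 : (C.map (α ^ k).toMonoidHom).map (α ^ i).toMonoidHom = C.map (α ^ i).toMonoidHom := by
        rw [Subgroup.map_map]
        have : (α ^ i).toMonoidHom.comp (α ^ k).toMonoidHom = (α ^ j).toMonoidHom := by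
          ext x
          change (α ^ i) ((α ^ k) x) = (α ^ j) x
          rw [← MulAut.mul_apply, ← pow_add, ← hk]
        rw [this]
        exact hM.symm
      exact Subgroup.map_injective (α ^ i).injective h3
    -- powers of `α ^ k`
    have hpow : ∀ n : ℕ, C.map ((α ^ k) ^ n).toMonoidHom = C := by
      intro n
      induction n with
      | zero => 
        have : ((α ^ k) ^ 0).toMonoidHom = MonoidHom.id D := by ext x; rfl
        rw [this, Subgroup.map_id]
      | succ n ih =>
        have : ((α ^ k) ^ (n + 1)).toMonoidHom = ((α ^ k) ^ n).toMonoidHom.comp (α ^ k).toMonoidHom := by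
          ext x
          change ((α ^ k) ^ (n + 1)) x = ((α ^ k) ^ n) ((α ^ k) x)
          rw [pow_succ, MulAut.mul_apply]
        rw [this, ← Subgroup.map_map, hMk, ih]
    obtain ⟨n, hn⟩ := exists_pow_eq_self_of_coprime hcop.symm
    rw [← hn]
    exact hpow n
  rcases lt_trichotomy (i : ℕ) (j : ℕ) with h | h | h
  · exact key i j h (by omega) hMij
  · exact absurd (Fin.ext h) hij
  · exact key j i h (by omega) hMij.symm

end LemmaQ

variable {G : Type*} [Group G] [Finite G]

/-- normal 2-complements in groups of order prime to 3 whose Sylow 2-subgroup has a cyclic subgroup of index 2 -/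
theorem hasNormalPComplement_of_index_two (P : Sylow 2 G) (C : Subgroup P) (hC : IsCyclic C)
    (hi : C.index = 2) (h3 : ¬ 3 ∣ Nat.card G) : Cfsg.HasNormalPComplement 2 G := by
  have : Fact (Nat.Prime 2) := ⟨Nat.prime_two⟩
  rw [Cfsg.Agent.Transfer.FrobeniusFusion.hasNormalPComplement_iff_localCondition]
  apply Cfsg.Agent.Transfer.FrobeniusFusion.localCondition_of_sylow P
  intro Q hQ g hg hgo
  -- the cyclic subgroup of `Q`
  set C' : Subgroup G := C.map (P : Subgroup G).subtype with hC'
  have hcyc' : IsCyclic C' := 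
    isCyclic_of_surjective ((P : Subgroup G).subtype.subgroupMap C) 
      ((P : Subgroup G).subtype.subgroupMap_surjective C)
  have hrel : C'.relIndex P = 2 := by
    rw [relIndex, hC', subgroupOf, Subgroup.comap_map_eq_self_of_injective (subtype_injective _), hi]
  have hrelQ : C'.relIndex Q ≤ 2 := by
    rw [← hrel]
    exact relIndex_le_of_le_right hQ (by rw [hrel]; norm_num)
  have hpos : C'.relIndex Q ≠ 0 := index_ne_zero_of_finite
  have hcycQ : IsCyclic (C'.subgroupOf Q) := by
    let ι : (C'.subgroupOf Q) →* C' := MonoidHom.mk' (fun a => (⟨((a : Q) : G), a.2⟩ : C')) (fun a b => rfl)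
    refine isCyclic_of_injective ι ?_
    intro a b hab
    have := congrArg Subtype.val hab
    exact Subtype.ext (Subtype.ext this)
  have hQ2 : IsPGroup 2 Q := P.2.to_le hQ
  set α : MulAut Q := Q.normalizerMonoidHom ⟨g, hg⟩ with hα
  have hord : orderOf α ∣ orderOf g := by
    have h1 := orderOf_map_dvd Q.normalizerMonoidHom (⟨g, hg⟩ : normalizer (Q : Set G))
    rwa [Subgroup.orderOf_mk] at h1
  have hα1 : α = 1 := by
    apply mulAut_eq_one hQ2 (C'.subgroupOf Q) hcycQ
    · change C'.relIndex Q = 1 ∨ C'.relIndex Q = 2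
      omega
    · have h6 : (orderOf g).Coprime 6 := by
        have h7 : (orderOf g).Coprime 3 := by
          rw [Nat.coprime_comm, Nat.Prime.coprime_iff_not_dvd Nat.prime_three]
          intro h8
          exact h3 (h8.trans (orderOf_dvd_natCard g))
        have : (6 : ℕ) = 2 * 3 := rfl
        rw [this]
        exact Nat.Coprime.mul_right hgo h7
      exact h6.coprime_dvd_left hord
  have hker : (⟨g, hg⟩ : normalizer (Q : Set G)) ∈ Q.normalizerMonoidHom.ker := hα1
  rw [normalizerMonoidHom_ker, mem_subgroupOf] at hker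
  exact hker

/-- if all odd Sylow subgroups are cyclic, the centraliser of an element of order `p` (odd) has a normal
`p`-complement -/
theorem hasNormalPComplement_centralizer (hG : OddCyc G) {p : ℕ} [hp : Fact p.Prime] (hp2 : p ≠ 2) {x : G}
    (hx : orderOf x = p) : Cfsg.HasNormalPComplement p (centralizer ({x} : Set G)) := by
  rw [Cfsg.Agent.Transfer.FrobeniusFusion.hasNormalPComplement_iff_localCondition]
  intro D hD g hg hgo
  have hA : (Nat.card (zpowers g)).Coprime p := by rwa [Nat.card_zpowers]
  have h1 := Cfsg.Agent.Lib.CoprimeStab.le_centralizer_of_omega p hp2 (zpowers g) hA D hD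
    (by rwa [zpowers_le]) (by
      intro d hd hdp a ha
      -- `d` is a power of `x`
      by_cases hd1 : d = 1
      · subst hd1; exact Commute.one_left a
      have hod : orderOf d = p := orderOf_eq_prime hdp hd1
      have hcomm : Commute (d : G) x := mem_centralizer_singleton_iff.1 d.2
      have hz := zpowers_eq_of_commute hG hp.out hp2 (by rw [Subgroup.orderOf_coe]; exact hod) hx hcomm
      have hdx : (d : G) ∈ zpowers x := by rw [← hz]; exact mem_zpowers _
      obtain ⟨n, hn⟩ := mem_zpowers_iff.1 hdx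
      have hax : Commute (a : G) x := mem_centralizer_singleton_iff.1 a.2
      have : Commute (d : G) (a : G) := by
        rw [← hn]; exact (hax.zpow_right n).symm
      exact Subtype.ext this)
  exact h1 (mem_zpowers g)

/-- element version of the properties of a normal `p`-complement -/
theorem exists_complement {p : ℕ} [hp : Fact p.Prime] (h : Cfsg.HasNormalPComplement p G) :
    ∃ N : Subgroup G, N.Normal ∧ (Nat.card N).Coprime p ∧ (∀ g : G, (orderOf g).Coprime p → g ∈ N) := by
  obtain ⟨N, hN, h1, h2⟩ := Cfsg.Agent.Transfer.NormalPComplement.hasNormalPComplement_iff.mp h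
  exact ⟨N, hN, h1, fun g hg =>
    (Cfsg.Agent.Transfer.NormalPComplement.mem_iff_coprime_orderOf' N h1 h2 g).mpr hg⟩

/-- the normal 3-complement of the centraliser of an element of order 3 -/
theorem exists_centralizer_complement (hG : OddCyc G) {p : ℕ} [hp : Fact p.Prime] (hp2 : p ≠ 2) {x : G}
    (hx : orderOf x = p) : ∃ X : Subgroup G, (∀ g ∈ X, g * x = x * g) ∧ ¬ p ∣ Nat.card X ∧
      ∀ g, g * x = x * g → (orderOf g).Coprime p → g ∈ X := by
  obtain ⟨N, -, h1, h2⟩ := exists_complement (hasNormalPComplement_centralizer hG hp2 hx)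
  refine ⟨N.map (centralizer ({x} : Set G)).subtype, ?_, ?_, ?_⟩
  · rintro _ ⟨g, -, rfl⟩
    exact mem_centralizer_singleton_iff.1 g.2
  · rw [Subgroup.card_map_of_injective (subtype_injective _), ← Nat.Prime.coprime_iff_not_dvd hp.out]
    exact h1.symm
  · intro g hg ho
    refine ⟨⟨g, mem_centralizer_singleton_iff.2 hg⟩, h2 _ ?_, rfl⟩
    rwa [Subgroup.orderOf_mk]

/-- a subgroup `X` of order prime to 3 with a 2-subgroup `Q` containing properly a subgroup `V` of order 4
which contains all 2-elements of `X` centralising it has a normal 2-complement -/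
theorem exists_odd_complement {X V Q : Subgroup G} (h3 : ¬ 3 ∣ Nat.card X) (hQ : IsPGroup 2 Q) (hQX : Q ≤ X)
    (hVQ : V ≤ Q) (hV : Nat.card V = 4) (hne : V ≠ Q) (hab : ∀ a ∈ V, ∀ b ∈ V, a * b = b * a)
    (hself : ∀ g ∈ X, (∀ a ∈ V, g * a = a * g) → (∃ n, g ^ (2 ^ n) = 1) → g ∈ V) :
    ∃ O : Subgroup G, O ≤ X ∧ ¬ 2 ∣ Nat.card O ∧ (∀ b ∈ X, ∀ u ∈ O, b * u * b⁻¹ ∈ O) ∧
      ∀ g ∈ X, (orderOf g).Coprime 2 → g ∈ O := by
  have : Fact (Nat.Prime 2) := ⟨Nat.prime_two⟩
  have hQ' : IsPGroup 2 (Q.subgroupOf X) := hQ.comap_subtype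
  obtain ⟨T, hT⟩ := hQ'.exists_le_sylow
  let ι : (T : Subgroup X) →* G := X.subtype.comp (T : Subgroup X).subtype
  have hι : Function.Injective ι := (subtype_injective _).comp (subtype_injective _)
  have hVr : V ≤ ι.range := by
    intro a ha
    have h1 : (⟨a, hQX (hVQ ha)⟩ : X) ∈ (T : Subgroup X) := hT (mem_subgroupOf.2 (hVQ ha))
    exact ⟨⟨_, h1⟩, rfl⟩
  have hQr : Q ≤ ι.range := by
    intro a ha
    have h1 : (⟨a, hQX ha⟩ : X) ∈ (T : Subgroup X) := hT (mem_subgroupOf.2 ha)
    exact ⟨⟨_, h1⟩, rfl⟩
  set A : Subgroup (T : Subgroup X) := V.comap ι with hA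
  have hAmap : A.map ι = V := map_comap_eq_self hVr
  have hAcard : Nat.card A = 2 ^ 2 := by
    rw [← Subgroup.card_map_of_injective (K := A) hι, hAmap, hV]; norm_num
  have hAc : centralizer (A : Set (T : Subgroup X)) = A := by
    apply le_antisymm
    · intro g hg
      refine hself (ι g) (g : X).2 ?_ ?_
      · intro a ha
        obtain ⟨b, hb⟩ := hVr ha
        have hbA : b ∈ A := by change ι b ∈ V; rw [hb]; exact ha
        have h1 := mem_centralizer_iff.1 hg b hbA
        rw [← hb, ← map_mul, ← map_mul, h1]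
      · obtain ⟨n, hn⟩ := T.2 g
        exact ⟨n, by rw [← map_pow, hn, map_one]⟩
    · intro g hg
      rw [mem_centralizer_iff]
      intro b hb
      apply hι
      rw [map_mul, map_mul]
      exact hab _ hb _ hg
  obtain ⟨n, hn⟩ := IsPGroup.iff_card.1 T.2
  have hcl := Cfsg.Agent.S0112.result n hn A hAcard hAc
  have hn3 : 3 ≤ n := by
    by_contra hlt
    have h1 : Nat.card (T : Subgroup X) ≤ 4 := by
      rw [hn]
      calc 2 ^ n ≤ 2 ^ 2 := Nat.pow_le_pow_right (by norm_num) (by omega)
        _ = 4 := by norm_num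
    have h2 : Nat.card Q ≤ Nat.card (T : Subgroup X) := by
      calc Nat.card Q ≤ Nat.card ι.range := Nat.card_le_card_of_injective (inclusion hQr) (inclusion_injective _)
        _ = Nat.card (T : Subgroup X) := (Nat.card_congr (MonoidHom.ofInjective hι).toEquiv).symm
    apply hne
    apply Subgroup.eq_of_le_of_card_ge hVQ
    omega
  obtain ⟨C, hC, hCi⟩ := Cfsg.Agent.Transfer.MaximalClass.exists_isCyclic_index_two_of_maxClass n hn3
    (T : Subgroup X) hn hcl
  obtain ⟨N, hN, h4, h5⟩ := exists_complement (hasNormalPComplement_of_index_two T C hC hCi h3)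
  refine ⟨N.map X.subtype, Subgroup.map_subtype_le N, ?_, ?_, ?_⟩
  · rw [Subgroup.card_map_of_injective (subtype_injective _), ← Nat.Prime.coprime_iff_not_dvd Nat.prime_two]
    exact h4.symm
  · rintro b hb _ ⟨u, hu, rfl⟩
    exact ⟨⟨b, hb⟩ * u * (⟨b, hb⟩ : X)⁻¹, hN.conj_mem u hu _, rfl⟩
  · intro g hg ho
    refine ⟨⟨g, hg⟩, h5 _ ?_, rfl⟩
    rwa [Subgroup.orderOf_mk]

end Cfsg.Agent.OddCyclic.CompJOneTools
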