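import Cfsg.Agent.OddCyclic.AOneT
import Cfsg.Agent.OddCyclic.CompJOneTools
import Cfsg.Agent.LieExceptional.CITSylowFour

/-!
# S0342, T_cyc: noncommuting `SL₂(4)`-blocks, the elements of `S ∖ B` swap `V` and `W`
-/

set_option autoImplicit false
set_option linter.unusedSectionVars false

universe u

namespace Cfsg.Agent.OddCyclic.AOneSit

open Subgroup
open Cfsg.Agent.LieExceptional Cfsg.Agent.LieExceptional.CITDefs Cfsg.Agent.LieExceptional.CITBasic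
open Cfsg.Agent.OddCyclic.CompBasic Cfsg.Agent.OddCyclic.CompStandard
open Cfsg.Agent.OddCyclic.T1Defs

variable {G : Type u} [Group G] [Finite G] {S B V W Z U : Subgroup G} {x z y : G}

namespace Sit

theorem comm_BB (h : Sit S B V W Z x) {b c : G} (hb : b ∈ B) (hc : c ∈ B) : b * c * b⁻¹ * c⁻¹ ∈ Z := by
  obtain ⟨v, hv, w, hw, rfl⟩ := h.dec c hc
  have h1 := h.comm_VB hb hv
  have h2 := h.symm.comm_VB hb hw
  have h3 := h.Zc h2 (h.VB hv)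
  have e : b * (v * w) * b⁻¹ * (v * w)⁻¹ = (b * v * b⁻¹ * v⁻¹) * (b * w * b⁻¹ * w⁻¹) := by
    calc b * (v * w) * b⁻¹ * (v * w)⁻¹ = (b * v * b⁻¹ * v⁻¹) * (v * (b * w * b⁻¹ * w⁻¹)) * v⁻¹ := by group
      _ = (b * v * b⁻¹ * v⁻¹) * ((b * w * b⁻¹ * w⁻¹) * v) * v⁻¹ := by rw [h3]
      _ = _ := by group
  rw [e]
  exact Z.mul_mem h1 h2

theorem VW (h : Sit S B V W Z x) : V ⊔ W = B := by
  apply le_antisymm (sup_le h.VB h.WB)
  intro b hb
  obtain ⟨v, hv, w, hw, rfl⟩ := h.dec b hb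
  exact mul_mem_sup hv hw

theorem card_B (h : Sit S B V W Z x) : Nat.card B = 64 := by
  have hn : W ≤ normalizer (V : Set G) := fun w hw =>
    mem_normalizer_of_forall fun v hv => h.conjV (h.WB hw) hv
  have h1 := T1Tools.card_sup_mul hn
  rw [h.VW, h.inf, h.cZ, h.cV, h.cW] at h1
  omega

end Sit

/-- the elements of `S ∖ B` swap `V` and `W` -/
structure SD (S B V W Z U : Subgroup G) (x z y : G) : Prop where
  sit : Sit S B V W Z x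
  ud : UD S Z U z y
  sw : ∀ u ∈ S, u ∉ B → cj u V = W ∧ cj u W = V

namespace SD

theorem symm (d : SD S B V W Z U x z y) : SD S B W V Z U x z y :=
  ⟨d.sit.symm, d.ud, fun u hu huB => (d.sw u hu huB).symm⟩

theorem toW (d : SD S B V W Z U x z y) {k v : G} (hk : k ∈ S) (hkB : k ∉ B) (hv : v ∈ V) : k * v * k⁻¹ ∈ W := by
  have := conj_mem_cj (g := k) hv
  rwa [(d.sw k hk hkB).1] at this

theorem toW' (d : SD S B V W Z U x z y) {k v : G} (hk : k ∈ S) (hkB : k ∉ B) (hv : v ∈ V) : k⁻¹ * v * k ∈ W := by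
  have := d.toW (S.inv_mem hk) (fun h0 => hkB (by simpa using B.inv_mem h0)) hv
  rwa [inv_inv] at this

theorem caux (d : SD S B V W Z U x z y) {b k : G} (hb : b ∈ B) (hk : k ∈ S) (hkB : k ∉ B)
    (hc : (b * k * b⁻¹ * k⁻¹) * (b * k * b⁻¹ * k⁻¹) = 1) : b * k * b⁻¹ * k⁻¹ ∈ Z := by
  have h := d.sit
  set c := b * k * b⁻¹ * k⁻¹ with hcd
  have hcB : c ∈ B := by
    have e : c = b * (k * b⁻¹ * k⁻¹) := by rw [hcd]; group
    rw [e]
    exact B.mul_mem hb (h.SnB k hk _ (B.inv_mem hb))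
  have h1 := h.comm_BB (h.sq_mem_B hk) (B.inv_mem hb)
  set ζ := (k * k) * b⁻¹ * (k * k)⁻¹ * b⁻¹⁻¹ with hζ
  have h2 : k * c * k⁻¹ = c⁻¹ * ζ := by
    have h3 := h.Zc h1 (B.inv_mem hb)
    calc k * c * k⁻¹ = (k * b * k⁻¹) * (ζ * b⁻¹) := by rw [hcd, hζ]; group
      _ = (k * b * k⁻¹) * (b⁻¹ * ζ) := by rw [h3]
      _ = c⁻¹ * ζ := by rw [hcd]; group
  rcases h.invo hcB hc with hcV | hcW
  · apply h.mem_Z hcV
    have h3 : k * c * k⁻¹ ∈ W := d.toW hk hkB hcV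
    rw [h2] at h3
    exact W.inv_mem_iff.1 ((W.mul_mem_cancel_right (h.ZW h1)).1 h3)
  · refine h.mem_Z ?_ hcW
    have h3 : k * c * k⁻¹ ∈ V := d.symm.toW hk hkB hcW
    rw [h2] at h3
    exact V.inv_mem_iff.1 ((V.mul_mem_cancel_right (h.ZV h1)).1 h3)

/-- commutators of `S` of order at most 2 lie in `Z` -/
theorem caux' (d : SD S B V W Z U x z y) {g k : G} (hg : g ∈ S) (hk : k ∈ S)
    (hc : (g * k * g⁻¹ * k⁻¹) * (g * k * g⁻¹ * k⁻¹) = 1) : g * k * g⁻¹ * k⁻¹ ∈ Z := by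
  have h := d.sit
  have key : ∀ {b k : G}, b ∈ B → k ∈ S → (b * k * b⁻¹ * k⁻¹) * (b * k * b⁻¹ * k⁻¹) = 1 →
      b * k * b⁻¹ * k⁻¹ ∈ Z := by
    intro b k hb hk hc
    by_cases hkB : k ∈ B
    · exact h.comm_BB hb hkB
    · exact d.caux hb hk hkB hc
  have key2 : ∀ {b k : G}, b ∈ B → k ∈ S → (k * b * k⁻¹ * b⁻¹) * (k * b * k⁻¹ * b⁻¹) = 1 →
      k * b * k⁻¹ * b⁻¹ ∈ Z := by
    intro b k hb hk hc
    have e : k * b * k⁻¹ * b⁻¹ = (b * k * b⁻¹ * k⁻¹)⁻¹ := by group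
    rw [e] at hc ⊢
    apply Z.inv_mem
    apply key hb hk
    rw [← mul_inv_rev, inv_eq_one] at hc
    exact hc
  by_cases hgB : g ∈ B
  · exact key hgB hk hc
  by_cases hkB : k ∈ B
  · exact key2 hkB hg hc
  have hb : g⁻¹ * k ∈ B := h.mul_mem_B (S.inv_mem hg) hk (fun h0 => hgB (by simpa using B.inv_mem h0)) hkB
  set b := g⁻¹ * k with hbd
  have e : g * k * g⁻¹ * k⁻¹ = g * (g * b * g⁻¹ * b⁻¹) * g⁻¹ := by rw [hbd]; group
  rw [e] at hc ⊢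
  apply h.conjZ hg
  apply key2 hb hg
  have h1 : g * ((g * b * g⁻¹ * b⁻¹) * (g * b * g⁻¹ * b⁻¹)) * g⁻¹ = 1 := by rw [← hc]; group
  have h2 : g * ((g * b * g⁻¹ * b⁻¹) * (g * b * g⁻¹ * b⁻¹)) = g := mul_inv_eq_one.1 h1
  exact mul_eq_left.1 h2

/-- not every element of `Z` is a commutator of elements of `U` -/
theorem notAll (hG : OddCyc G) (d : SD S B V W Z U x z y)
    (hall : ∀ ζ ∈ Z, ∃ h ∈ U, ∃ k ∈ U, ζ = h * k * h⁻¹ * k⁻¹) : False := by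
  have h := d.sit
  apply d.ud.not_cjZ hG h
  apply Subgroup.eq_of_le_of_card_ge
  · rintro _ ⟨ζ, hζ, rfl⟩
    show y * ζ * y⁻¹ ∈ Z
    obtain ⟨g, hg, k, hk, he⟩ := hall ζ hζ
    have hg' := d.ud.U_le h (d.ud.conjU d.ud.y_mem hg)
    have hk' := d.ud.U_le h (d.ud.conjU d.ud.y_mem hk)
    have e : y * ζ * y⁻¹ = (y * g * y⁻¹) * (y * k * y⁻¹) * (y * g * y⁻¹)⁻¹ * (y * k * y⁻¹)⁻¹ := by
      rw [he]; group
    have h2 : (y * ζ * y⁻¹) * (y * ζ * y⁻¹) = 1 := by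
      calc (y * ζ * y⁻¹) * (y * ζ * y⁻¹) = y * (ζ * ζ) * y⁻¹ := by group
        _ = 1 := by rw [h.eZ ζ hζ]; group
    rw [e] at h2 ⊢
    exact d.caux' hg' hk' h2
  · rw [card_cj]

/-- `g_v = u v u⁻¹ v⁻¹` -/
theorem gv_mem (d : SD S B V W Z U x z y) {k v : G} (hk : k ∈ U) (hkB : k ∉ B) (hv : v ∈ V) :
    k * v * k⁻¹ * v⁻¹ ∈ U ∧ k * v * k⁻¹ * v⁻¹ ∈ B := by
  have h := d.sit
  refine ⟨d.ud.comm_mem (d.ud.S_le (h.BS (h.VB hv))) hk, ?_⟩
  exact B.mul_mem (h.WB (d.toW (d.ud.U_le h hk) hkB hv)) (B.inv_mem (h.VB hv))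

/-- `U ∩ V ≤ Z` -/
theorem UV (hG : OddCyc G) (d : SD S B V W Z U x z y) {e : G} (heU : e ∈ U) (heV : e ∈ V) : e ∈ Z := by
  by_contra heZ
  have h := d.sit
  obtain ⟨u, huU, huB⟩ := SetLike.not_le_iff_exists.1 (d.ud.not_le hG h)
  have huS := d.ud.U_le h huU
  apply d.notAll hG
  intro ζ hζ
  obtain ⟨w, hw, he⟩ := h.surj heV heZ hζ
  have hv' : u⁻¹ * w * u ∈ V := d.symm.toW' huS huB hw
  refine ⟨e, heU, _, (d.gv_mem huU huB hv').1, ?_⟩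
  have e1 : u * (u⁻¹ * w * u) * u⁻¹ = w := by group
  rw [e1]
  have e2 := h.eV.comm heV hv'
  have e3 : (u⁻¹ * w * u)⁻¹ * e⁻¹ * (u⁻¹ * w * u) = e⁻¹ := by
    have e4 : (u⁻¹ * w * u)⁻¹ * e * (u⁻¹ * w * u) = e := by
      rw [mul_assoc _ e, e2, inv_mul_cancel_left]
    calc (u⁻¹ * w * u)⁻¹ * e⁻¹ * (u⁻¹ * w * u) = ((u⁻¹ * w * u)⁻¹ * e * (u⁻¹ * w * u))⁻¹ := by group
      _ = e⁻¹ := by rw [e4]
  calc ζ = e * w * e⁻¹ * w⁻¹ := he.symm
    _ = e * w * ((u⁻¹ * w * u)⁻¹ * e⁻¹ * (u⁻¹ * w * u)) * w⁻¹ := by rw [e3]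
    _ = e * (w * (u⁻¹ * w * u)⁻¹) * e⁻¹ * (w * (u⁻¹ * w * u)⁻¹)⁻¹ := by group

/-- `[b, u] ∈ Z` for `b ∈ U ∩ B` -/
theorem comm_u (hG : OddCyc G) (d : SD S B V W Z U x z y) {u b : G} (huU : u ∈ U) (huB : u ∉ B) (hbU : b ∈ U)
    (hbB : b ∈ B) : u * b * u⁻¹ * b⁻¹ ∈ Z := by
  have h := d.sit
  have huS := d.ud.U_le h huU
  obtain ⟨v, hv, w, hw, rfl⟩ := h.dec b hbB
  set p := u * v * u⁻¹ with hp
  have hpW : p ∈ W := d.toW huS huB hv
  have h1 : p * w ∈ Z := by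
    apply d.symm.UV hG _ (W.mul_mem hpW hw)
    have e : p * w = (u * v * u⁻¹ * v⁻¹) * (v * w) := by rw [hp]; group
    rw [e]
    exact U.mul_mem (d.gv_mem huU huB hv).1 hbU
  set ζ := p * w with hζ
  have hw' : w = p⁻¹ * ζ := by rw [hζ]; group
  -- `u p u⁻¹ = η v`
  have h2 := h.comm_BB (h.sq_mem_B huS) (h.VB hv)
  set η := (u * u) * v * (u * u)⁻¹ * v⁻¹ with hη
  have h3 : u * p * u⁻¹ = η * v := by rw [hp, hη]; group
  have h4 : u * ζ * u⁻¹ ∈ Z := h.conjZ huS h1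
  set ξ := u * ζ * u⁻¹ with hξ
  have hvi := h.sqV hv
  have hpi := h.symm.sqV hpW
  have h5 : p * v * p⁻¹ * v⁻¹ ∈ Z := h.symm.comm p hpW v hv
  have c1 : ∀ {c : G}, c ∈ Z → ∀ {b : G}, b ∈ B → Commute b c := fun hc _ hb => h.Zc hc hb
  have hvB := h.VB hv
  have hpB := h.WB hpW
  have e : u * (v * w) * u⁻¹ * (v * w)⁻¹ = (η⁻¹ * ξ * ζ⁻¹) * (p * v⁻¹ * p * v⁻¹) := by
    calc u * (v * w) * u⁻¹ * (v * w)⁻¹
        = p * (u * p * u⁻¹)⁻¹ * ξ * ζ⁻¹ * p * v⁻¹ := by rw [hw', hξ, hp]; group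
      _ = p * (η * v)⁻¹ * ξ * ζ⁻¹ * p * v⁻¹ := by rw [h3]
      _ = (p * v⁻¹) * (η⁻¹ * ξ * ζ⁻¹) * (p * v⁻¹) := by group
      _ = (η⁻¹ * ξ * ζ⁻¹) * (p * v⁻¹) * (p * v⁻¹) := by
          rw [(c1 (Z.mul_mem (Z.mul_mem (Z.inv_mem h2) h4) (Z.inv_mem h1))
            (B.mul_mem hpB (B.inv_mem hvB))).eq]
      _ = _ := by group
  rw [e]
  apply Z.mul_mem (Z.mul_mem (Z.mul_mem (Z.inv_mem h2) h4) (Z.inv_mem h1))
  have e2 : p * v⁻¹ * p * v⁻¹ = p * v * p⁻¹ * v⁻¹ := by rw [hvi, hpi]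
  rw [e2]
  exact h5

/-- `[b, u] ∈ ⟨z⟩` for `b ∈ U ∩ B` -/
theorem comm_u' (hG : OddCyc G) (d : SD S B V W Z U x z y) {u b : G} (huU : u ∈ U) (huB : u ∉ B) (hbU : b ∈ U)
    (hbB : b ∈ B) : u * b * u⁻¹ * b⁻¹ ∈ zpowers z := by
  have h := d.sit
  have huS := d.ud.U_le h huU
  have hz := d.ud.cen
  have h1 := d.comm_u hG huU huB hbU hbB
  by_contra hcon
  set c := u * b * u⁻¹ * b⁻¹ with hc
  have hc1 : c ≠ 1 := fun h0 => hcon (by rw [h0]; exact one_mem _)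
  have hcz : c ≠ z := fun h0 => hcon (by rw [h0]; exact mem_zpowers z)
  obtain ⟨a, ha, ha1, haz⟩ := h.exists_a z
  have h2 := h.act hz huS huB ha ha1 haz
  have haU := d.ud.Z_le h ha
  apply d.notAll hG
  intro ζ hζ
  rcases h.four hz.mem h1 hz.ne hc1 hcz hζ with h3 | h3 | h3 | h3
  · exact ⟨1, U.one_mem, 1, U.one_mem, by rw [h3]; simp⟩
  · exact ⟨u, huU, a, haU, by rw [h3, h2]; group⟩
  · exact ⟨u, huU, b, hbU, by rw [h3]⟩
  · refine ⟨u, huU, a * b, U.mul_mem haU hbU, ?_⟩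
    rw [h3]
    have h4 := h.Zc h1 (h.ZB ha)
    calc z * c = z * (a * c) * a⁻¹ := by rw [h4]; group
      _ = (z * a) * c * a⁻¹ := by group
      _ = (u * a * u⁻¹) * (u * b * u⁻¹ * b⁻¹) * a⁻¹ := by rw [h2]
      _ = _ := by group

/-- elements of `U` commuting with `u` and the `g_v` are in `⟨z⟩` -/
theorem mem_zp (hG : OddCyc G) (d : SD S B V W Z U x z y) {u k : G} (huU : u ∈ U) (huB : u ∉ B) (hkU : k ∈ U)
    (hkB : k ∈ B) (hku : k * u = u * k)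
    (hkg : ∀ v ∈ V, k * (u * v * u⁻¹ * v⁻¹) = (u * v * u⁻¹ * v⁻¹) * k) : k ∈ zpowers z := by
  have h := d.sit
  have huS := d.ud.U_le h huU
  have hz := d.ud.cen
  have hkZ : k ∈ Z := by
    by_contra hkZ
    obtain ⟨v, hv, w, hw, he⟩ := h.dec k hkB
    have hwZ : w ∉ Z := fun h0 => hkZ (d.UV hG hkU (by rw [he]; exact V.mul_mem hv (h.ZV h0)))
    obtain ⟨η, hη, hη1, hηz⟩ := h.exists_a z
    obtain ⟨v', hv', he'⟩ := h.symm.surj hw hwZ hη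
    have h2 := h.act hz huS huB hη hη1 hηz
    have h3 : k * v' * k⁻¹ = η * v' := by
      have h4 := h.Zc hη (h.VB hv)
      have h5 := h.eV.comm hv hv'
      calc k * v' * k⁻¹ = v * (w * v' * w⁻¹ * v'⁻¹) * v' * v⁻¹ := by rw [he]; group
        _ = (v * η) * v' * v⁻¹ := by rw [he']
        _ = η * (v * v') * v⁻¹ := by rw [h4]; group
        _ = η * v' := by rw [h5]; group
    have hg := hkg v' hv'
    have h6 : k * (u * v' * u⁻¹ * v'⁻¹) * k⁻¹ = u * v' * u⁻¹ * v'⁻¹ := by rw [hg]; group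
    have h7 : k * (u * v' * u⁻¹ * v'⁻¹) * k⁻¹ = z * (u * v' * u⁻¹ * v'⁻¹) := by
      have h8 : k * u * k⁻¹ = u := by rw [hku]; group
      have h9 := h.Zc (Z.inv_mem hη) (d.gv_mem huU huB hv').2
      calc k * (u * v' * u⁻¹ * v'⁻¹) * k⁻¹
          = (k * u * k⁻¹) * (k * v' * k⁻¹) * (k * u * k⁻¹)⁻¹ * (k * v' * k⁻¹)⁻¹ := by group
        _ = u * (η * v') * u⁻¹ * (η * v')⁻¹ := by rw [h8, h3]
        _ = (u * η * u⁻¹) * ((u * v' * u⁻¹ * v'⁻¹) * η⁻¹) := by group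
        _ = (z * η) * (η⁻¹ * (u * v' * u⁻¹ * v'⁻¹)) := by rw [h2, h9]
        _ = _ := by group
    rw [h6] at h7
    exact hz.ne (by simpa using h7.symm)
  by_contra hcon
  have hk1 : k ≠ 1 := fun h0 => hcon (by rw [h0]; exact one_mem _)
  have hkz : k ≠ z := fun h0 => hcon (by rw [h0]; exact mem_zpowers z)
  have h2 := h.act hz huS huB hkZ hk1 hkz
  rw [← hku, mul_inv_cancel_right] at h2
  exact hz.ne (by simpa using h2.symm)

theorem zp_le (d : SD S B V W Z U x z y) : zpowers z ≤ Z := zpowers_le.2 d.ud.cen.mem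

theorem zp_comm (d : SD S B V W Z U x z y) {c s : G} (hc : c ∈ zpowers z) (hs : s ∈ S) : s * c = c * s := by
  obtain ⟨n, rfl⟩ := hc
  exact ((show Commute s z from d.ud.cen.comm s hs).zpow_right n).eq

theorem zp_sq (d : SD S B V W Z U x z y) {c : G} (hc : c ∈ zpowers z) : c * c = 1 :=
  d.sit.eZ c (d.zp_le hc)

theorem zp_or (d : SD S B V W Z U x z y) {c : G} (hc : c ∈ zpowers z) : c = 1 ∨ c = z := by
  classical
  have hz2 : orderOf z = 2 := CaseABase.orderOf_eq_two d.ud.cen.ne (d.sit.eZ z d.ud.cen.mem)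
  rw [mem_zpowers_iff_mem_range_orderOf, hz2] at hc
  simp only [Finset.mem_image, Finset.mem_range] at hc
  obtain ⟨i, hi, hi'⟩ := hc
  have : i = 0 ∨ i = 1 := by omega
  rcases this with rfl | rfl
  · left; rw [← hi', pow_zero]
  · right; rw [← hi', pow_one]

/-- the squares of `U` lie in `⟨z⟩` -/
theorem sq (hG : OddCyc G) (d : SD S B V W Z U x z y) {u : G} (huU : u ∈ U) : u * u ∈ zpowers z := by
  have h := d.sit
  have key : ∀ u ∈ U, u ∉ B → u * u ∈ zpowers z := by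
    intro u huU huB
    have huS := d.ud.U_le h huU
    refine d.mem_zp hG huU huB (U.mul_mem huU huU) (h.sq_mem_B huS) (by group) fun v hv => ?_
    set g := u * v * u⁻¹ * v⁻¹ with hg
    have h1 := d.comm_u' hG huU huB (d.gv_mem huU huB hv).1 (d.gv_mem huU huB hv).2
    rw [← hg] at h1
    set ε := u * g * u⁻¹ * g⁻¹ with hε
    have h2 : u * g * u⁻¹ = ε * g := by rw [hε]; group
    have h3 := d.zp_comm h1 huS
    have h4 := d.zp_sq h1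
    have h5 : (u * u) * g * (u * u)⁻¹ = g := by
      calc (u * u) * g * (u * u)⁻¹ = u * (u * g * u⁻¹) * u⁻¹ := by group
        _ = (u * ε) * g * u⁻¹ := by rw [h2]; group
        _ = ε * (u * g * u⁻¹) := by rw [h3]; group
        _ = (ε * ε) * g := by rw [h2]; group
        _ = g := by rw [h4, one_mul]
    exact mul_inv_eq_iff_eq_mul.1 h5
  by_cases huB : u ∈ B
  · obtain ⟨u₀, hu₀U, hu₀B⟩ := SetLike.not_le_iff_exists.1 (d.ud.not_le hG h)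
    have h1 := key u₀ hu₀U hu₀B
    have h2 := key (u₀ * u) (U.mul_mem hu₀U huU) (fun h0 => hu₀B ((B.mul_mem_cancel_right huB).1 h0))
    have h3 := d.comm_u' hG hu₀U hu₀B huU huB
    set ε := u₀ * u * u₀⁻¹ * u⁻¹ with hε
    have h4 := d.zp_comm h1 (d.ud.U_le h huU)
    have e : u * u = (ε * (u₀ * u₀))⁻¹ * ((u₀ * u) * (u₀ * u)) := by
      have e1 : u₀ * u = ε * (u * u₀) := by rw [hε]; group
      have e2 : (u₀ * u) * (u₀ * u) = (ε * (u₀ * u₀)) * (u * u) := by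
        calc (u₀ * u) * (u₀ * u) = (ε * (u * u₀)) * (u₀ * u) := by rw [← e1]
          _ = ε * (u * (u₀ * u₀)) * u := by group
          _ = ε * ((u₀ * u₀) * u) * u := by rw [h4]
          _ = _ := by group
      rw [e2]; group
    rw [e]
    exact mul_mem (inv_mem (mul_mem h3 h1)) h2
  · exact key u huU huB

theorem commU (hG : OddCyc G) (d : SD S B V W Z U x z y) {g k : G} (hg : g ∈ U) (hk : k ∈ U) :
    g * k * g⁻¹ * k⁻¹ ∈ zpowers z := by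
  have e : g * k * g⁻¹ * k⁻¹ = (g * g) * ((g⁻¹ * k) * (g⁻¹ * k)) * (k * k)⁻¹ := by group
  rw [e]
  exact mul_mem (mul_mem (d.sq hG hg) (d.sq hG (U.mul_mem (U.inv_mem hg) hk))) (inv_mem (d.sq hG hk))

/-- `B = (U ∩ B) V` -/
theorem decU (hG : OddCyc G) (d : SD S B V W Z U x z y) {b : G} (hb : b ∈ B) :
    ∃ g ∈ U, g ∈ B ∧ ∃ v ∈ V, b = g * v := by
  have h := d.sit
  obtain ⟨u, huU, huB⟩ := SetLike.not_le_iff_exists.1 (d.ud.not_le hG h)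
  have huS := d.ud.U_le h huU
  obtain ⟨v, hv, w, hw, he⟩ := h.dec b⁻¹ (B.inv_mem hb)
  have hv' : u⁻¹ * w⁻¹ * u ∈ V := d.symm.toW' huS huB (W.inv_mem hw)
  refine ⟨_, (d.gv_mem huU huB hv').1, (d.gv_mem huU huB hv').2, (u⁻¹ * w⁻¹ * u) * v⁻¹,
    V.mul_mem hv' (V.inv_mem hv), ?_⟩
  have e : b = w⁻¹ * v⁻¹ := by rw [← mul_inv_rev, ← he, inv_inv]
  rw [e]; group

theorem card_U (hG : OddCyc G) (d : SD S B V W Z U x z y) :
    Nat.card (U ⊓ B : Subgroup G) = 16 ∧ Nat.card U = 32 := by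
  have h := d.sit
  have hn : U ⊓ B ≤ normalizer (V : Set G) := fun b hb =>
    mem_normalizer_of_forall fun v hv => h.conjV hb.2 hv
  have h1 := T1Tools.card_sup_mul hn
  have h2 : V ⊔ (U ⊓ B) = B := by
    apply le_antisymm (sup_le h.VB inf_le_right)
    intro b hb
    obtain ⟨g, hgU, hgB, v, hv, rfl⟩ := d.decU hG hb
    exact mul_mem (mem_sup_right ⟨hgU, hgB⟩) (mem_sup_left hv)
  have h3 : V ⊓ (U ⊓ B) = Z := by
    apply le_antisymm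
    · intro e he
      exact d.UV hG he.2.1 he.1
    · exact le_inf h.ZV (le_inf (d.ud.Z_le h) h.ZB)
  rw [h2, h3, h.card_B, h.cZ, h.cV] at h1
  have h4 : Nat.card (U ⊓ B : Subgroup G) = 16 := by omega
  refine ⟨h4, ?_⟩
  obtain ⟨u, huU, huB⟩ := SetLike.not_le_iff_exists.1 (d.ud.not_le hG h)
  have huS := d.ud.U_le h huU
  have h5 := T1Tools.card_mul_relIndex (inf_le_left : U ⊓ B ≤ U)
  have h6 : (U ⊓ B).relIndex U = 2 := by
    apply CaseATools.relIndex_eq_two huU (fun h0 => huB (Subgroup.mem_inf.1 h0).2)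
    intro b hb hbB
    have hbB' : b ∉ B := fun h0 => hbB ⟨hb, h0⟩
    exact ⟨U.mul_mem hb huU, h.mul_mem_B (d.ud.U_le h hb) huS hbB' huB⟩
  rw [h4, h6] at h5
  omega

end SD

end Cfsg.Agent.OddCyclic.AOneSit
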