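import Cfsg.Agent.OddCyclic.AOneSw

/-!
# S0342, T_cyc: noncommuting `SL₂(4)`-blocks, the elements of `S ∖ B` swap `V` and `W`: the end
-/

set_option autoImplicit false
set_option linter.unusedSectionVars false

universe u

namespace Cfsg.Agent.OddCyclic.AOneSit

open Subgroup
open Cfsg.Agent.LieExceptional Cfsg.Agent.LieExceptional.CITDefs Cfsg.Agent.LieExceptional.CITBasic
open Cfsg.Agent.OddCyclic.CompBasic Cfsg.Agent.OddCyclic.CompStandard
open Cfsg.Agent.OddCyclic.T1Defs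

variable {G : Type u} [Group G] [Finite G] {S B V W Z U : Subgroup G} {x z y : G}

namespace SD

/-- the involutions of `U ∩ B` are in `Z` -/
theorem inv_B (hG : OddCyc G) (d : SD S B V W Z U x z y) {e : G} (heU : e ∈ U) (heB : e ∈ B) (he : e * e = 1) :
    e ∈ Z := by
  rcases d.sit.invo heB he with h1 | h1
  · exact d.UV hG heU h1
  · exact d.symm.UV hG heU h1

/-- `U` contains 12 elements of square 1 -/
theorem card_X (hG : OddCyc G) (d : SD S B V W Z U x z y) : {h : G | h ∈ U ∧ h * h = 1}.ncard = 12 := by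
  have h := d.sit
  have hz := d.ud.cen
  obtain ⟨a, ha, ha1, haz⟩ := h.exists_a z
  have haU := d.ud.Z_le h ha
  set A : Set G := (U : Set G) \ ((U ⊓ B : Subgroup G) : Set G) with hA
  have hAc : A.ncard = 16 := by
    rw [hA, Set.ncard_sdiff (SetLike.coe_subset_coe.2 inf_le_left) (Set.toFinite _)]
    have h1 : (U : Set G).ncard = 32 := (d.card_U hG).2
    have h2 : ((U ⊓ B : Subgroup G) : Set G).ncard = 16 := (d.card_U hG).1
    rw [h1, h2]
  have hAm : ∀ {g : G}, g ∈ A ↔ g ∈ U ∧ g ∉ B := by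
    intro g
    rw [hA]
    constructor
    · rintro ⟨h1, h2⟩
      exact ⟨h1, fun h3 => h2 ⟨h1, h3⟩⟩
    · rintro ⟨h1, h2⟩
      exact ⟨h1, fun h3 => h2 (Subgroup.mem_inf.1 h3).2⟩
  set X₁ : Set G := {g | g ∈ A ∧ g * g = 1} with hX₁
  set X₂ : Set G := {g | g ∈ A ∧ g * g ≠ 1} with hX₂
  -- `(g a)² = z g²`
  have hga : ∀ g ∈ A, (g * a) * (g * a) = z * (g * g) := by
    intro g hg
    obtain ⟨hgU, hgB⟩ := hAm.1 hg
    have hgS := d.ud.U_le h hgU
    have h1 := h.act hz hgS hgB ha ha1 haz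
    have h2 := hz.comm g hgS
    have h3 := h.eZ a ha
    have h4 : a * g = g * (z * a) := by
      have h5 : g * (g⁻¹ * a * g) * g⁻¹ = a := by group
      have h6 : g * (z * a) * g⁻¹ = a := by
        calc g * (z * a) * g⁻¹ = (g * z) * g⁻¹ * (g * a * g⁻¹) := by group
          _ = (z * g) * g⁻¹ * (z * a) := by rw [h1, h2]
          _ = (z * z) * a := by group
          _ = a := by rw [h.eZ z hz.mem, one_mul]
      calc a * g = (g * (z * a) * g⁻¹) * g := by rw [h6]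
        _ = _ := by group
    calc (g * a) * (g * a) = g * (a * g) * a := by group
      _ = g * (g * (z * a)) * a := by rw [h4]
      _ = g * (g * z) * (a * a) := by group
      _ = g * (z * g) := by rw [h3, h2, mul_one]
      _ = (g * z) * g := by group
      _ = z * (g * g) := by rw [h2]; group
  have hgaA : ∀ {g : G}, g * a ∈ A ↔ g ∈ A := by
    intro g
    rw [hAm, hAm, U.mul_mem_cancel_right haU, B.mul_mem_cancel_right (h.ZB ha)]
  have h12 : X₂ = (fun g => g * a) '' X₁ := by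
    ext g
    constructor
    · rintro ⟨h1, h2⟩
      refine ⟨g * a, ⟨hgaA.2 h1, ?_⟩, ?_⟩
      · rw [hga g h1]
        rcases d.zp_or (d.sq hG (hAm.1 h1).1) with h3 | h3
        · exact absurd h3 h2
        · rw [h3]; exact h.eZ z hz.mem
      · show g * a * a = g
        rw [mul_assoc, h.eZ a ha, mul_one]
    · rintro ⟨g, ⟨h1, h2⟩, rfl⟩
      refine ⟨hgaA.2 h1, ?_⟩
      show (g * a) * (g * a) ≠ 1
      rw [hga g h1, h2, mul_one]
      exact hz.ne
  have hc12 : X₂.ncard = X₁.ncard := by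
    rw [h12]
    exact Set.ncard_image_of_injective _ (mul_left_injective a)
  have hAu : X₁ ∪ X₂ = A := by
    ext g
    constructor
    · rintro (h1 | h1)
      · exact h1.1
      · exact h1.1
    · intro h1
      by_cases h2 : g * g = 1
      · exact Or.inl ⟨h1, h2⟩
      · exact Or.inr ⟨h1, h2⟩
  have hd12 : Disjoint X₁ X₂ := by
    rw [Set.disjoint_left]
    exact fun g h1 h2 => h2.2 h1.2
  have h3 := Set.ncard_union_eq hd12 (Set.toFinite _) (Set.toFinite _)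
  rw [hAu, hAc, hc12] at h3
  have hX : {h : G | h ∈ U ∧ h * h = 1} = (Z : Set G) ∪ X₁ := by
    ext g
    constructor
    · rintro ⟨h1, h2⟩
      by_cases h4 : g ∈ B
      · exact Or.inl (d.inv_B hG h1 h4 h2)
      · exact Or.inr ⟨hAm.2 ⟨h1, h4⟩, h2⟩
    · rintro (h1 | h1)
      · exact ⟨d.ud.Z_le h h1, h.eZ g h1⟩
      · exact ⟨(hAm.1 h1.1).1, h1.2⟩
  have hdX : Disjoint (Z : Set G) X₁ := by
    rw [Set.disjoint_left]
    exact fun g h1 h2 => (hAm.1 h2.1).2 (h.ZB h1)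
  rw [hX, Set.ncard_union_eq hdX (Set.toFinite _) (Set.toFinite _)]
  have h4 : (Z : Set G).ncard = 4 := h.cZ
  rw [h4]
  omega

/-- `y` centralises an involution of `U` different from `z` -/
theorem exists_i (hG : OddCyc G) (d : SD S B V W Z U x z y) :
    ∃ i ∈ U, i * i = 1 ∧ y * i = i * y ∧ i ∉ zpowers z := by
  classical
  by_contra hcon
  push Not at hcon
  have h := d.sit
  have hz := d.ud.cen
  have hf3 : Fact (Nat.Prime 3) := ⟨Nat.prime_three⟩
  let X : Set G := {h : G | h ∈ U ∧ h * h = 1}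
  have hyX : ∀ g ∈ X, y * g * y⁻¹ ∈ X := by
    rintro g ⟨hg, hg2⟩
    refine ⟨d.ud.conjU d.ud.y_mem hg, ?_⟩
    calc y * g * y⁻¹ * (y * g * y⁻¹) = y * (g * g) * y⁻¹ := by group
      _ = 1 := by rw [hg2]; group
  let f : Function.End X := fun g => ⟨y * g * y⁻¹, hyX g g.2⟩
  have hyyy : y * y * y = 1 := by
    have := pow_orderOf_eq_one y
    rw [d.ud.y3, pow_succ, pow_two] at this
    exact this
  have hf : f ^ 3 ^ 1 = 1 := by
    have h1 : f ^ 3 ^ 1 = f * f * f := by rw [pow_one, pow_succ, pow_two]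
    rw [h1]
    funext g
    apply Subtype.ext
    show y * (y * (y * g * y⁻¹) * y⁻¹) * y⁻¹ = g
    calc y * (y * (y * g * y⁻¹) * y⁻¹) * y⁻¹ = (y * y * y) * g * (y * y * y)⁻¹ := by group
      _ = g := by rw [hyyy]; group
  have hfin : Fintype X := Fintype.ofFinite X
  have h1 := Equiv.Perm.card_fixedPoints_modEq hf
  have h2 : Fintype.card X = 12 := by
    rw [← Nat.card_eq_fintype_card]
    exact d.card_X hG
  have h1X : (1 : G) ∈ X := ⟨U.one_mem, one_mul 1⟩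
  have hzX : z ∈ X := ⟨d.ud.Z_le h hz.mem, h.eZ z hz.mem⟩
  have h3 : Function.fixedPoints f = {⟨1, h1X⟩, ⟨z, hzX⟩} := by
    ext g
    constructor
    · intro hg
      have h4 : f g = g := hg
      have h5 : y * g * y⁻¹ = g := congrArg Subtype.val h4
      have h6 := hcon g g.2.1 g.2.2 (mul_inv_eq_iff_eq_mul.1 h5)
      rcases d.zp_or h6 with h7 | h7
      · exact Or.inl (Subtype.ext h7)
      · exact Or.inr (Subtype.ext h7)
    · rintro (rfl | rfl)
      · apply Subtype.ext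
        show y * 1 * y⁻¹ = 1
        group
      · apply Subtype.ext
        show y * z * y⁻¹ = z
        exact mul_inv_eq_iff_eq_mul.2 d.ud.yz
  have h4 : Nat.card (Function.fixedPoints f) = 2 := by
    show (Function.fixedPoints f).ncard = 2
    rw [h3]
    apply Set.ncard_pair
    intro h5
    exact hz.ne (congrArg Subtype.val h5).symm
  rw [h2, ← Nat.card_eq_fintype_card, h4] at h1
  exact absurd h1 (by decide)

/-- `Z(C_U(y)) = ⟨z⟩` -/
theorem centre (hG : OddCyc G) (d : SD S B V W Z U x z y) {c : G} (hcU : c ∈ U) (hyc : y * c = c * y)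
    (hc : ∀ e ∈ U, y * e = e * y → c * e = e * c) : c ∈ zpowers z := by
  have h := d.sit
  have hyyy : y * y * y = 1 := by
    have := pow_orderOf_eq_one y
    rw [d.ud.y3, pow_succ, pow_two] at this
    exact this
  have hodd : Odd (orderOf y) := by rw [d.ud.y3]; decide
  -- `c` centralises `U`
  have key : ∀ g ∈ U, c * g = g * c := by
    intro g hg
    set g₁ := y * g * y⁻¹ with hg₁
    set g₂ := y * g₁ * y⁻¹ with hg₂
    have hg₁U : g₁ ∈ U := d.ud.conjU d.ud.y_mem hg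
    have hg₂U : g₂ ∈ U := d.ud.conjU d.ud.y_mem hg₁U
    have hg₃ : y * g₂ * y⁻¹ = g := by
      calc y * g₂ * y⁻¹ = (y * y * y) * g * (y * y * y)⁻¹ := by rw [hg₂, hg₁]; group
        _ = g := by rw [hyyy]; group
    set n := g * g₁ * g₂ with hn
    have hnU : n ∈ U := U.mul_mem (U.mul_mem hg hg₁U) hg₂U
    have hyn : y * n = n * y := by
      apply T1Tools.commute_of_mem hodd (h.two.to_le (d.zp_le.trans h.ZB)) (C := zpowers z)
      · intro c hc
        rcases d.zp_or hc with rfl | rfl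
        · simp
        · exact d.ud.yz
      · have e : y * n * y⁻¹ * n⁻¹ = g⁻¹ * n * g⁻¹⁻¹ * n⁻¹ := by
          have e1 : y * n * y⁻¹ = (y * g * y⁻¹) * (y * g₁ * y⁻¹) * (y * g₂ * y⁻¹) := by rw [hn]; group
          rw [e1, hg₃, ← hg₁, ← hg₂, hn]; group
        rw [e]
        exact d.commU hG (U.inv_mem hg) hnU
    have hcn := hc n hnU hyn
    have h1 := d.commU hG hcU hg
    set ε := c * g * c⁻¹ * g⁻¹ with hε
    have hyε : y * ε * y⁻¹ = ε := by
      rcases d.zp_or h1 with h2 | h2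
      · rw [h2]; group
      · rw [h2]; exact mul_inv_eq_iff_eq_mul.2 d.ud.yz
    have hyc' : y * c * y⁻¹ = c := mul_inv_eq_iff_eq_mul.2 hyc
    have e0 : c * g * c⁻¹ = ε * g := by rw [hε]; group
    have e1 : c * g₁ * c⁻¹ = ε * g₁ := by
      calc c * g₁ * c⁻¹ = (y * c * y⁻¹) * g₁ * (y * c * y⁻¹)⁻¹ := by rw [hyc']
        _ = y * (c * g * c⁻¹) * y⁻¹ := by rw [hg₁]; group
        _ = (y * ε * y⁻¹) * (y * g * y⁻¹) := by rw [e0]; group
        _ = ε * g₁ := by rw [hyε]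
    have e2 : c * g₂ * c⁻¹ = ε * g₂ := by
      calc c * g₂ * c⁻¹ = (y * c * y⁻¹) * g₂ * (y * c * y⁻¹)⁻¹ := by rw [hyc']
        _ = y * (c * g₁ * c⁻¹) * y⁻¹ := by rw [hg₂]; group
        _ = (y * ε * y⁻¹) * (y * g₁ * y⁻¹) := by rw [e1]; group
        _ = ε * g₂ := by rw [hyε]
    have e3 : c * n * c⁻¹ = ε * n := by
      have k0 := d.zp_comm h1 (d.ud.U_le h hg)
      have k1 := d.zp_comm h1 (d.ud.U_le h hg₁U)
      have k2 := d.zp_sq h1
      calc c * n * c⁻¹ = (c * g * c⁻¹) * (c * g₁ * c⁻¹) * (c * g₂ * c⁻¹) := by rw [hn]; group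
        _ = ε * (g * ε) * (g₁ * ε) * g₂ := by rw [e0, e1, e2]; group
        _ = (ε * ε) * g * (ε * g₁) * g₂ := by rw [k0, k1]; group
        _ = (g * ε) * g₁ * g₂ := by rw [k2]; group
        _ = ε * n := by rw [k0, hn]; group
    have e4 : c * n * c⁻¹ = n := by rw [hcn]; group
    rw [e4] at e3
    have e5 : ε = 1 := by simpa using e3.symm
    rw [e5] at e0
    exact mul_inv_eq_iff_eq_mul.1 (by rw [e0, one_mul])
  have hcB : c ∈ B := h.centZ c (d.ud.U_le h hcU) fun a ha => key a (d.ud.Z_le h ha)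
  obtain ⟨u, huU, huB⟩ := SetLike.not_le_iff_exists.1 (d.ud.not_le hG h)
  exact d.mem_zp hG huU huB hcU hcB (key u huU) fun v hv => key _ (d.gv_mem huU huB hv).1

/-- `C_S(y) ≤ U` -/
theorem cent_le (hG : OddCyc G) (d : SD S B V W Z U x z y) {t : G} (ht : t ∈ S) (hyt : y * t = t * y) : t ∈ U := by
  have h := d.sit
  have hz := d.ud.cen
  obtain ⟨u, huU, huB⟩ := SetLike.not_le_iff_exists.1 (d.ud.not_le hG h)
  have huS := d.ud.U_le h huU
  -- `t = u₁ v₁`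
  obtain ⟨u₁, hu₁, v₁, hv₁, he⟩ : ∃ u₁ ∈ U, ∃ v₁ ∈ V, t = u₁ * v₁ := by
    by_cases htB : t ∈ B
    · obtain ⟨g, hgU, -, v, hv, he⟩ := d.decU hG htB
      exact ⟨g, hgU, v, hv, he⟩
    · have h1 : u⁻¹ * t ∈ B := h.mul_mem_B (S.inv_mem huS) ht (fun h0 => huB (by simpa using B.inv_mem h0)) htB
      obtain ⟨g, hgU, -, v, hv, he⟩ := d.decU hG h1
      refine ⟨u * g, U.mul_mem huU hgU, v, hv, ?_⟩
      rw [mul_assoc, ← he, mul_inv_cancel_left]
  by_contra htU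
  have hv₁Z : v₁ ∉ Z := fun h0 => htU (by rw [he]; exact U.mul_mem hu₁ (d.ud.Z_le h h0))
  -- `[g, t] ∈ [g, v₁] ⟨z⟩`
  have hv₁S := h.BS (h.VB hv₁)
  have key : ∀ g ∈ U, ∃ ε ∈ zpowers z, g * t * g⁻¹ * t⁻¹ = (g * v₁ * g⁻¹ * v₁⁻¹) * ε := by
    intro g hg
    have h1 := d.commU hG hg hu₁
    have h2 : g * v₁ * g⁻¹ * v₁⁻¹ ∈ U := d.ud.comm_mem (d.ud.S_le hv₁S) hg
    have h3 := d.commU hG (U.inv_mem h2) hu₁
    refine ⟨_, mul_mem h1 h3, ?_⟩
    have h4 := d.zp_comm h1 (d.ud.U_le h h2)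
    set c := g * v₁ * g⁻¹ * v₁⁻¹ with hc
    calc g * t * g⁻¹ * t⁻¹ = (g * u₁ * g⁻¹ * u₁⁻¹) * u₁ * c * u₁⁻¹ := by rw [he, hc]; group
      _ = ((g * u₁ * g⁻¹ * u₁⁻¹) * c) * (c⁻¹ * u₁ * c⁻¹⁻¹ * u₁⁻¹) := by group
      _ = (c * (g * u₁ * g⁻¹ * u₁⁻¹)) * (c⁻¹ * u₁ * c⁻¹⁻¹ * u₁⁻¹) := by rw [h4]
      _ = _ := by group
  -- involutions
  have key2 : ∀ g ∈ U, ∀ ε ∈ zpowers z, ((g * v₁ * g⁻¹ * v₁⁻¹) * ε) * ((g * v₁ * g⁻¹ * v₁⁻¹) * ε) = 1 →
      (g * v₁ * g⁻¹ * v₁⁻¹) * ε ∈ Z := by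
    intro g hg ε hε h1
    have hεZ := d.zp_le hε
    by_cases hgB : g ∈ B
    · exact Z.mul_mem (h.comm_VB hgB hv₁) hεZ
    · have h2 : g * v₁ * g⁻¹ ∈ W := d.toW (d.ud.U_le h hg) hgB hv₁
      have h3 : v₁⁻¹ * ε ∈ V := V.mul_mem (V.inv_mem hv₁) (h.ZV hεZ)
      have e : (g * v₁ * g⁻¹ * v₁⁻¹) * ε = (g * v₁ * g⁻¹) * (v₁⁻¹ * ε) := by group
      rw [e] at h1 ⊢
      rcases h.invo (B.mul_mem (h.WB h2) (h.VB h3)) h1 with h4 | h4
      · exfalso
        have h5 : g * v₁ * g⁻¹ ∈ V := (V.mul_mem_cancel_right h3).1 h4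
        have h6 := h.conjZ (S.inv_mem (d.ud.U_le h hg)) (h.mem_Z h5 h2)
        have e2 : g⁻¹ * (g * v₁ * g⁻¹) * g⁻¹⁻¹ = v₁ := by group
        rw [e2] at h6
        exact hv₁Z h6
      · exfalso
        have h5 : v₁⁻¹ * ε ∈ W := (W.mul_mem_cancel_left h2).1 h4
        have h6 := W.inv_mem_iff.1 ((W.mul_mem_cancel_right (h.ZW hεZ)).1 h5)
        exact hv₁Z (h.mem_Z hv₁ h6)
  -- `y` normalises `Z`
  apply d.ud.not_cjZ hG h
  apply Subgroup.eq_of_le_of_card_ge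
  · rintro _ ⟨ζ, hζ, rfl⟩
    show y * ζ * y⁻¹ ∈ Z
    obtain ⟨w, hw, hwe⟩ := h.surj hv₁ hv₁Z (Z.inv_mem hζ)
    have hv' : u⁻¹ * w * u ∈ V := d.symm.toW' huS huB hw
    have hg := (d.gv_mem huU huB hv').1
    set g := u * (u⁻¹ * w * u) * u⁻¹ * (u⁻¹ * w * u)⁻¹ with hgd
    have hgv : g * v₁ * g⁻¹ * v₁⁻¹ = ζ := by
      have e1 : g = w * (u⁻¹ * w * u)⁻¹ := by rw [hgd]; group
      have e2 := h.eV.comm (V.inv_mem hv') hv₁
      calc g * v₁ * g⁻¹ * v₁⁻¹ = w * ((u⁻¹ * w * u)⁻¹ * v₁) * (u⁻¹ * w * u) * w⁻¹ * v₁⁻¹ := by rw [e1]; group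
        _ = w * (v₁ * (u⁻¹ * w * u)⁻¹) * (u⁻¹ * w * u) * w⁻¹ * v₁⁻¹ := by rw [e2]
        _ = (v₁ * w * v₁⁻¹ * w⁻¹)⁻¹ := by group
        _ = ζ := by rw [hwe, inv_inv]
    obtain ⟨ε, hε, h1⟩ := key g hg
    rw [hgv] at h1
    obtain ⟨ε', hε', h2⟩ := key _ (d.ud.conjU d.ud.y_mem hg)
    have hyε : y * ε * y⁻¹ = ε := by
      rcases d.zp_or hε with h2 | h2
      · rw [h2]; group
      · rw [h2]; exact mul_inv_eq_iff_eq_mul.2 d.ud.yz
    have hyt' : y * t * y⁻¹ = t := mul_inv_eq_iff_eq_mul.2 hyt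
    have e : y * ζ * y⁻¹ =
        ((y * g * y⁻¹) * v₁ * (y * g * y⁻¹)⁻¹ * v₁⁻¹) * (ε' * ε⁻¹) := by
      calc y * ζ * y⁻¹ = y * ((ζ * ε) * ε⁻¹) * y⁻¹ := by group
        _ = y * ((g * t * g⁻¹ * t⁻¹) * ε⁻¹) * y⁻¹ := by rw [← h1]
        _ = (y * g * y⁻¹) * (y * t * y⁻¹) * (y * g * y⁻¹)⁻¹ * (y * t * y⁻¹)⁻¹ * (y * ε * y⁻¹)⁻¹ := by group
        _ = ((y * g * y⁻¹) * t * (y * g * y⁻¹)⁻¹ * t⁻¹) * ε⁻¹ := by rw [hyt', hyε]
        _ = _ := by rw [h2, mul_assoc]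
    have h3 : (y * ζ * y⁻¹) * (y * ζ * y⁻¹) = 1 := by
      calc (y * ζ * y⁻¹) * (y * ζ * y⁻¹) = y * (ζ * ζ) * y⁻¹ := by group
        _ = 1 := by rw [h.eZ ζ hζ]; group
    rw [e] at h3 ⊢
    exact key2 _ (d.ud.conjU d.ud.y_mem hg) _ (mul_mem hε' (inv_mem hε)) h3
  · rw [card_cj]

/-- the configuration for another element of order 3 -/
theorem change (d : SD S B V W Z U x z y) {y' : G} (hy' : orderOf y' = 3) (hyz : y' * z = z * y') :
    SD S B V W Z U x z y' :=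
  ⟨d.sit, ⟨d.ud.cen, d.ud.o2, d.ud.self, hy', hyz⟩, d.sw⟩

/-- `C_U(y)` is a Sylow 2-subgroup of `C_G(y)` -/
theorem sylD (hG : OddCyc G) (d : SD S B V W Z U x z y) :
    IsSyl2 (centralizer ({y} : Set G)) (U ⊓ centralizer ({y} : Set G)) := by
  have h := d.sit
  have hz := d.ud.cen
  refine ⟨inf_le_right, (d.ud.o2.two).to_le inf_le_left, fun Y hY hY2 hDY => ?_⟩
  by_contra hne
  obtain ⟨t, htY, htD, htn⟩ := CITSylowFour.exists_normalizing hY2 hDY hne
  apply htD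
  have hyt : y * t = t * y := (mem_centralizer_singleton_iff.1 (hY htY)).symm
  have hzD : z ∈ U ⊓ centralizer ({y} : Set G) :=
    ⟨d.ud.Z_le h hz.mem, mem_centralizer_singleton_iff.2 d.ud.yz.symm⟩
  have hzU : ∀ e ∈ U, z * e = e * z := fun e he => (hz.comm e (d.ud.U_le h he)).symm
  -- `t` centralises `z`
  have h1 := htn z hzD
  rw [Subgroup.mem_inf] at h1
  have h2 : t * z * t⁻¹ ∈ zpowers z := by
    apply d.centre hG h1.1 (mem_centralizer_singleton_iff.1 h1.2).symm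
    intro e he hye
    have h3 : t⁻¹ * e * t ∈ U ⊓ centralizer ({y} : Set G) := by
      have hcj : cj t (U ⊓ centralizer ({y} : Set G)) = U ⊓ centralizer ({y} : Set G) :=
        cj_eq_iff.2 (mem_normalizer_of_forall htn)
      rw [← mem_cj, hcj]
      exact ⟨he, mem_centralizer_singleton_iff.2 hye.symm⟩
    have h4 := hzU _ (Subgroup.mem_inf.1 h3).1
    calc t * z * t⁻¹ * e = t * (z * (t⁻¹ * e * t)) * t⁻¹ := by group
      _ = t * ((t⁻¹ * e * t) * z) * t⁻¹ := by rw [h4]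
      _ = e * (t * z * t⁻¹) := by group
  have h3 : t * z = z * t := by
    rcases d.zp_or h2 with h4 | h4
    · exfalso
      apply hz.ne
      have e : z = t⁻¹ * (t * z * t⁻¹) * t := by group
      rw [e, h4]; group
    · exact mul_inv_eq_iff_eq_mul.1 h4
  -- `t` lies in a Sylow subgroup of `C_G(z)`
  have ht2 : IsPGroup 2 (zpowers t) := hY2.to_le (zpowers_le.2 htY)
  have htC : zpowers t ≤ centralizer ({z} : Set G) := zpowers_le.2 (mem_centralizer_singleton_iff.2 h3)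
  obtain ⟨Q, hQ, htQ⟩ := exists_isSyl2 (centralizer ({z} : Set G)) (zpowers t) htC ht2
  obtain ⟨m, hmz, hm⟩ := CITBasic.IsSyl2.conj (d.ud.syl h) hQ
  have hm' : cj m S = Q := hm.symm
  have h4 : m⁻¹ * t * m ∈ S := by
    rw [← mem_cj, hm']
    exact htQ (mem_zpowers t)
  have hmz' := mem_centralizer_singleton_iff.1 hmz
  have h5 : orderOf (m⁻¹ * y * m) = 3 := by
    have := CompStandard.orderOf_conj m⁻¹ y
    rw [inv_inv] at this
    rw [this, d.ud.y3]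
  have h6 : (m⁻¹ * y * m) * z = z * (m⁻¹ * y * m) := by
    have e1 : (show G from z) = m⁻¹ * z * m := by rw [mul_assoc, ← hmz', inv_mul_cancel_left]
    calc (m⁻¹ * y * m) * z = (m⁻¹ * y * m) * (m⁻¹ * z * m) := by rw [← e1]
      _ = m⁻¹ * (y * z) * m := by group
      _ = m⁻¹ * (z * y) * m := by rw [d.ud.yz]
      _ = (m⁻¹ * z * m) * (m⁻¹ * y * m) := by group
      _ = _ := by rw [← e1]
  have h7 := (d.change h5 h6).cent_le hG h4 (by
    calc (m⁻¹ * y * m) * (m⁻¹ * t * m) = m⁻¹ * (y * t) * m := by group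
      _ = m⁻¹ * (t * y) * m := by rw [hyt]
      _ = _ := by group)
  have h8 := d.ud.conjU hmz h7
  have e : m * (m⁻¹ * t * m) * m⁻¹ = t := by group
  rw [e] at h8
  exact ⟨h8, hY htY⟩

/-- the final contradiction -/
theorem false [IsSimpleGroup G] (hnab : ∃ a b : G, a * b ≠ b * a) (hG : OddCyc G)
    (d : SD S B V W Z U x z y) : False := by
  have h := d.sit
  have hz := d.ud.cen
  have hf3 : Fact (Nat.Prime 3) := ⟨Nat.prime_three⟩
  obtain ⟨i, hiU, hii, hyi, hiz⟩ := d.exists_i hG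
  have hi1 : i ≠ 1 := fun h0 => hiz (by rw [h0]; exact one_mem _)
  have hzz := h.eZ z hz.mem
  -- `n` normalises `⟨y⟩` and maps `i` to `z`
  obtain ⟨c, hc⟩ := h.conj_z hnab hz hii hi1
  have hy1 : c * y * c⁻¹ ∈ centralizer ({z} : Set G) := by
    rw [mem_centralizer_singleton_iff, ← hc]
    calc c * y * c⁻¹ * (c * i * c⁻¹) = c * (y * i) * c⁻¹ := by group
      _ = c * (i * y) * c⁻¹ := by rw [hyi]
      _ = _ := by group
  obtain ⟨g, hg, hgy⟩ := exists_conj_zpowers hG Nat.prime_three (by norm_num) d.ud.y_mem hy1 d.ud.y3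
    (by rw [CompStandard.orderOf_conj, d.ud.y3])
  have hgz := mem_centralizer_singleton_iff.1 hg
  set n := g * c with hn
  have hni : n * i * n⁻¹ = z := by
    calc n * i * n⁻¹ = g * (c * i * c⁻¹) * g⁻¹ := by rw [hn]; group
      _ = z := by rw [hc, hgz]; group
  have hny : y ∈ zpowers (n * y * n⁻¹) := by
    have e : n * y * n⁻¹ = g * (c * y * c⁻¹) * g⁻¹ := by rw [hn]; group
    rw [e]; exact hgy
  -- elements commuting with `n y n⁻¹` commute with `y`, and conversely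
  have hzp : zpowers (n * y * n⁻¹) = zpowers y := by
    symm
    apply Subgroup.eq_of_le_of_card_ge (zpowers_le.2 hny)
    rw [Nat.card_zpowers, Nat.card_zpowers, CompStandard.orderOf_conj]
  have hcy : ∀ e, y * e = e * y → y * (n⁻¹ * e * n) = (n⁻¹ * e * n) * y := by
    intro e he
    have h1 : n * y * n⁻¹ ∈ zpowers y := by rw [← hzp]; exact mem_zpowers _
    obtain ⟨k, hk⟩ := h1
    have hk' : y ^ k = n * y * n⁻¹ := hk
    have h2 : Commute (y ^ k) e := (show Commute y e from he).zpow_left k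
    rw [hk'] at h2
    have h3 : (n * y * n⁻¹) * e = e * (n * y * n⁻¹) := h2
    calc y * (n⁻¹ * e * n) = n⁻¹ * ((n * y * n⁻¹) * e) * n := by group
      _ = n⁻¹ * (e * (n * y * n⁻¹)) * n := by rw [h3]
      _ = _ := by group
  set D := U ⊓ centralizer ({y} : Set G) with hD
  have hDm : ∀ {e : G}, e ∈ D ↔ e ∈ U ∧ y * e = e * y := by
    intro e
    rw [hD, Subgroup.mem_inf, mem_centralizer_singleton_iff]
    exact ⟨fun h => ⟨h.1, h.2.symm⟩, fun h => ⟨h.1, h.2.symm⟩⟩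
  have hDs := d.sylD hG
  rw [← hD] at hDs
  -- the Sylow subgroup `D* = n⁻¹ D n`
  have hDn : cj n⁻¹ D ≤ centralizer ({y} : Set G) := by
    rintro _ ⟨e, he, rfl⟩
    show n⁻¹ * e * n⁻¹⁻¹ ∈ _
    rw [inv_inv, mem_centralizer_singleton_iff]
    exact (hcy e (hDm.1 he).2).symm
  have hDns : IsSyl2 (centralizer ({y} : Set G)) (cj n⁻¹ D) :=
    CaseABase.isSyl2_of_card hDs hDn (CaseABase.isPGroup_cj hDs.two) (by rw [card_cj])
  -- in `C(y) ∩ C(i)`
  set K := centralizer ({y} : Set G) ⊓ centralizer ({i} : Set G) with hK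
  have hiz' : n⁻¹ * z * n = i := by rw [← hni]; group
  have hzU : ∀ e ∈ U, e * z = z * e := fun e he => hz.comm e (d.ud.U_le h he)
  have hDK : cj n⁻¹ D ≤ K := by
    refine le_inf hDn ?_
    rintro _ ⟨e, he, rfl⟩
    show n⁻¹ * e * n⁻¹⁻¹ ∈ _
    rw [inv_inv, mem_centralizer_singleton_iff, ← hiz']
    have h1 := hzU e (hDm.1 he).1
    calc n⁻¹ * e * n * (n⁻¹ * z * n) = n⁻¹ * (e * z) * n := by group
      _ = n⁻¹ * (z * e) * n := by rw [h1]
      _ = _ := by group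
  have hDKs : IsSyl2 K (cj n⁻¹ D) :=
    ⟨hDK, hDns.two, fun Y hY hY2 hDY => hDns.max Y (hY.trans inf_le_left) hY2 hDY⟩
  have hz2 : orderOf z = 2 := CaseABase.orderOf_eq_two hz.ne hzz
  have hzK : zpowers z ≤ K := by
    rw [zpowers_le, hK, Subgroup.mem_inf, mem_centralizer_singleton_iff, mem_centralizer_singleton_iff]
    exact ⟨d.ud.yz.symm, (hzU i hiU).symm⟩
  obtain ⟨Q, hQ, hzQ⟩ := exists_isSyl2 K (zpowers z) hzK (isPGroup_zpowers hz2)
  obtain ⟨m, hmK, hm⟩ := CITBasic.IsSyl2.conj hQ hDKs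
  have hm' : cj m Q = cj n⁻¹ D := hm.symm
  have hz' : m * z * m⁻¹ ∈ cj n⁻¹ D := by
    rw [← hm']
    exact conj_mem_cj (hzQ (mem_zpowers z))
  rw [hK, Subgroup.mem_inf, mem_centralizer_singleton_iff, mem_centralizer_singleton_iff] at hmK
  obtain ⟨hmy, hmi⟩ := hmK
  set z' := m * z * m⁻¹ with hz'd
  have hnz' : n * z' * n⁻¹ ∈ D := by
    have h1 := mem_cj.1 hz'
    rwa [inv_inv] at h1
  have hz'1 : n * z' * n⁻¹ ≠ 1 := by
    intro h0
    apply hz.ne
    have e : z = (n * m)⁻¹ * (n * z' * n⁻¹) * (n * m) := by rw [hz'd]; group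
    rw [e, h0]; group
  have hz'z : n * z' * n⁻¹ ≠ z := by
    intro h0
    apply hiz
    have h1 : z' = i := by
      calc z' = n⁻¹ * (n * z' * n⁻¹) * n := by group
        _ = i := by rw [h0, hiz']
    have h2 : z = m⁻¹ * i * m := by rw [← h1, hz'd]; group
    have h3 : z = i := by
      rw [h2, mul_assoc, ← hmi, inv_mul_cancel_left]
    rw [← h3]; exact mem_zpowers z
  -- commutators in `D`
  have comD : ∀ {a : G}, a ∈ D → a ∉ zpowers z → ∃ e ∈ D, e * a * e⁻¹ = z * a := by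
    intro a ha haz
    by_contra hcon
    push Not at hcon
    apply haz
    apply d.centre hG (hDm.1 ha).1 (hDm.1 ha).2
    intro e he hye
    have h1 := d.commU hG he (hDm.1 ha).1
    rcases d.zp_or h1 with h2 | h2
    · exact (mul_inv_eq_iff_eq_mul.1 (mul_inv_eq_one.1 h2)).symm
    · exact absurd (mul_inv_eq_iff_eq_mul.1 h2) (hcon e (hDm.2 ⟨he, hye⟩))
  have hiD : i ∈ D := hDm.2 ⟨hiU, hyi⟩
  obtain ⟨t₁, ht₁, ht₁i⟩ := comD hiD hiz
  obtain ⟨e, he, hez⟩ := comD hnz' (fun h0 => by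
    rcases d.zp_or h0 with h1 | h1
    · exact hz'1 h1
    · exact hz'z h1)
  set t₂ := m⁻¹ * (n⁻¹ * e * n) * m with ht₂
  have hezc := hzU e (hDm.1 he).1
  have a1 : t₂ * z * t₂⁻¹ = i * z := by
    have e1 : (n⁻¹ * e * n) * z' * (n⁻¹ * e * n)⁻¹ = i * z' := by
      calc (n⁻¹ * e * n) * z' * (n⁻¹ * e * n)⁻¹ = n⁻¹ * (e * (n * z' * n⁻¹) * e⁻¹) * n := by group
        _ = n⁻¹ * (z * (n * z' * n⁻¹)) * n := by rw [hez]
        _ = (n⁻¹ * z * n) * z' := by group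
        _ = i * z' := by rw [hiz']
    have e2 : m⁻¹ * i * m = i := by rw [mul_assoc, ← hmi, inv_mul_cancel_left]
    calc t₂ * z * t₂⁻¹ = m⁻¹ * ((n⁻¹ * e * n) * z' * (n⁻¹ * e * n)⁻¹) * m := by rw [ht₂, hz'd]; group
      _ = m⁻¹ * (i * z') * m := by rw [e1]
      _ = (m⁻¹ * i * m) * z := by rw [hz'd]; group
      _ = i * z := by rw [e2]
  have a2 : t₂ * i * t₂⁻¹ = i := by
    have e1 : (n⁻¹ * e * n) * i * (n⁻¹ * e * n)⁻¹ = i := by
      calc (n⁻¹ * e * n) * i * (n⁻¹ * e * n)⁻¹ = n⁻¹ * (e * z * e⁻¹) * n := by rw [← hiz']; group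
        _ = n⁻¹ * z * n := by rw [hezc]; group
        _ = i := hiz'
    have e2 : m⁻¹ * i * m = i := by rw [mul_assoc, ← hmi, inv_mul_cancel_left]
    have e3 : m * i * m⁻¹ = i := by rw [hmi]; group
    calc t₂ * i * t₂⁻¹ = m⁻¹ * ((n⁻¹ * e * n) * (m * i * m⁻¹) * (n⁻¹ * e * n)⁻¹) * m := by rw [ht₂]; group
      _ = i := by rw [e3, e1, e2]
  have a3 : t₁ * z * t₁⁻¹ = z := by rw [hzU t₁ (hDm.1 ht₁).1]; group
  have hiz2 := hzU i hiU
  set τ := t₁ * t₂ with hτ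
  have b1 : τ * z * τ⁻¹ = i := by
    calc τ * z * τ⁻¹ = t₁ * (t₂ * z * t₂⁻¹) * t₁⁻¹ := by rw [hτ]; group
      _ = (t₁ * i * t₁⁻¹) * (t₁ * z * t₁⁻¹) := by rw [a1]; group
      _ = (z * i) * z := by rw [ht₁i, a3]
      _ = z * (i * z) := by group
      _ = i := by rw [hiz2, ← mul_assoc, hzz, one_mul]
  have b2 : τ * i * τ⁻¹ = z * i := by
    calc τ * i * τ⁻¹ = t₁ * (t₂ * i * t₂⁻¹) * t₁⁻¹ := by rw [hτ]; group
      _ = z * i := by rw [a2, ht₁i]
  have b3 : (τ ^ 3) * z * (τ ^ 3)⁻¹ = z := by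
    calc (τ ^ 3) * z * (τ ^ 3)⁻¹ = τ * (τ * (τ * z * τ⁻¹) * τ⁻¹) * τ⁻¹ := by
            rw [pow_succ, pow_two]; group
      _ = τ * (z * i) * τ⁻¹ := by rw [b1, b2]
      _ = (τ * z * τ⁻¹) * (τ * i * τ⁻¹) := by group
      _ = i * (z * i) := by rw [b1, b2]
      _ = z := by rw [← hiz2, ← mul_assoc, hii, one_mul]
  -- the normal 3-complement
  obtain ⟨N, hN, hNc, hNm⟩ := CompJOneTools.exists_complement
    (CompJOneTools.hasNormalPComplement_centralizer hG (p := 3) (by norm_num) d.ud.y3)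
  have ht₁C : t₁ ∈ centralizer ({y} : Set G) := mem_centralizer_singleton_iff.2 (hDm.1 ht₁).2.symm
  have ht₂C : t₂ ∈ centralizer ({y} : Set G) := by
    have h1 : n⁻¹ * e * n ∈ centralizer ({y} : Set G) := by
      rw [mem_centralizer_singleton_iff]
      exact (hcy e (hDm.1 he).2).symm
    exact mul_mem (mul_mem (inv_mem (mem_centralizer_singleton_iff.2 hmy)) h1)
      (mem_centralizer_singleton_iff.2 hmy)
  have hcop : ∀ {a : G}, a ∈ D → (orderOf a).Coprime 3 := by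
    intro a ha
    obtain ⟨k, hk⟩ := CaseABase.mem_of_pow_two hDs.two ha
    exact Nat.Coprime.coprime_dvd_left (orderOf_dvd_of_pow_eq_one hk) (Nat.Coprime.pow_left k (by norm_num))
  have hN₁ : (⟨t₁, ht₁C⟩ : centralizer ({y} : Set G)) ∈ N := hNm _ (by rw [orderOf_mk]; exact hcop ht₁)
  have hN₂ : (⟨t₂, ht₂C⟩ : centralizer ({y} : Set G)) ∈ N := hNm _ (by
    have e1 : t₂ = (n * m)⁻¹ * e * (n * m)⁻¹⁻¹ := by rw [ht₂]; group
    rw [orderOf_mk, e1, CompStandard.orderOf_conj]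
    exact hcop he)
  have hτN := N.mul_mem hN₁ hN₂
  have hτ3 : (orderOf τ).Coprime 3 := by
    have h1 := Subgroup.orderOf_dvd_natCard N hτN
    have h2 : orderOf ((⟨t₁, ht₁C⟩ : centralizer ({y} : Set G)) * ⟨t₂, ht₂C⟩) = orderOf τ := by
      rw [← Subgroup.orderOf_coe]; rfl
    rw [h2] at h1
    exact Nat.Coprime.coprime_dvd_left h1 hNc
  obtain ⟨k, hk⟩ := exists_pow_eq_self_of_coprime hτ3.symm
  have h1 : Commute (τ ^ 3) z := mul_inv_eq_iff_eq_mul.1 b3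
  have h2 : Commute τ z := by
    have := h1.pow_left k
    rwa [hk] at this
  have h4 : τ * z * τ⁻¹ = z := by rw [h2.eq]; group
  rw [b1] at h4
  exact hiz (h4 ▸ mem_zpowers z)

end SD

end Cfsg.Agent.OddCyclic.AOneSit
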