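import Cfsg.Agent.OddCyclic.AOneInv

/-!
# S0342, T_cyc: noncommuting `SL₂(4)`-blocks, the involution of `S ∖ B` normalises `V`
-/

set_option autoImplicit false
set_option linter.unusedSectionVars false

universe u

namespace Cfsg.Agent.OddCyclic.AOneSit

open Subgroup
open Cfsg.Agent.LieExceptional Cfsg.Agent.LieExceptional.CITDefs Cfsg.Agent.LieExceptional.CITBasic
open Cfsg.Agent.OddCyclic.CompBasic Cfsg.Agent.OddCyclic.CompStandard
open Cfsg.Agent.OddCyclic.T1Defs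

variable {G : Type u} [Group G] [Finite G] {S B V W Z : Subgroup G} {x : G}

namespace Sit

theorem cjV_B (h : Sit S B V W Z x) {b : G} (hb : b ∈ B) : cj b V = V :=
  cj_eq_iff.2 (mem_normalizer_of_forall fun _ hv => h.conjV hb hv)

/-- `[V, B] ≤ Z` -/
theorem comm_VB (h : Sit S B V W Z x) {b v : G} (hb : b ∈ B) (hv : v ∈ V) : b * v * b⁻¹ * v⁻¹ ∈ Z := by
  obtain ⟨v₁, hv₁, w₁, hw₁, rfl⟩ := h.dec b hb
  have h1 := h.comm v hv w₁ hw₁
  have h2 : v₁ * v * v₁⁻¹ = v := by rw [h.eV.comm hv₁ hv]; group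
  have h3 := h.Zc (Z.inv_mem h1) (h.VB hv₁)
  have e : v₁ * w₁ * v * (v₁ * w₁)⁻¹ * v⁻¹ = (v * w₁ * v⁻¹ * w₁⁻¹)⁻¹ := by
    calc v₁ * w₁ * v * (v₁ * w₁)⁻¹ * v⁻¹
        = (v₁ * (v * w₁ * v⁻¹ * w₁⁻¹)⁻¹) * v * v₁⁻¹ * v⁻¹ := by group
      _ = ((v * w₁ * v⁻¹ * w₁⁻¹)⁻¹ * v₁) * v * v₁⁻¹ * v⁻¹ := by rw [h3]
      _ = (v * w₁ * v⁻¹ * w₁⁻¹)⁻¹ * (v₁ * v * v₁⁻¹) * v⁻¹ := by group
      _ = _ := by rw [h2]; group
  rw [e]
  exact Z.inv_mem h1

/-- two conjugates of `Z` under `N_G(V)` are equal or intersect trivially -/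
theorem spread (hG : OddCyc G) (h : Sit S B V W Z x) {g u : G} (hg : cj g V = V) (hu : u ∈ Z) (hu1 : u ≠ 1)
    (hug : g⁻¹ * u * g ∈ Z) : cj g Z = Z := by
  by_contra hne
  have hZV' : cj g Z ≤ V := by rw [← hg]; exact cj_mono h.ZV
  set u₀ := g⁻¹ * u * g with hu₀
  have hu₀1 : u₀ ≠ 1 := by
    intro h0
    apply hu1
    have h1 : u = g * u₀ * g⁻¹ := by rw [hu₀]; group
    rw [h1, h0]; group
  obtain ⟨p, hp, hp1, hpu⟩ := h.exists_a u
  obtain ⟨a, ha, ha1, hau⟩ := h.exists_a u₀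
  set p' := g * a * g⁻¹ with hp'
  have hp'V : p' ∈ V := hZV' (conj_mem_cj ha)
  -- `p' ∉ Z`
  have hp'Z : p' ∉ Z := by
    intro h0
    apply hne
    apply Subgroup.eq_of_le_of_card_ge
    · rintro _ ⟨c, hc, rfl⟩
      show g * c * g⁻¹ ∈ Z
      have hgu : g * u₀ * g⁻¹ = u := by rw [hu₀]; group
      rcases h.four hug ha hu₀1 ha1 hau hc with rfl | rfl | rfl | rfl
      · simp
      · rw [hgu]; exact hu
      · exact h0
      · have e : g * (u₀ * a) * g⁻¹ = (g * u₀ * g⁻¹) * p' := by rw [hp']; group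
        rw [e, hgu]
        exact Z.mul_mem hu h0
    · rw [card_cj]
  -- `g⁻¹ p g ∉ Z`
  have hpZ' : g⁻¹ * p * g ∉ Z := by
    intro h0
    apply hne
    symm
    apply Subgroup.eq_of_le_of_card_ge
    · intro c hc
      rcases h.four hu hp hu1 hp1 hpu hc with rfl | rfl | rfl | rfl
      · exact one_mem _
      · exact mem_cj.2 hug
      · exact mem_cj.2 h0
      · exact mul_mem (mem_cj.2 hug) (mem_cj.2 h0)
    · rw [card_cj]
  have hp₀V : g⁻¹ * p * g ∈ V := by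
    rw [← mem_cj, hg]; exact h.ZV hp
  obtain ⟨w₁, hw₁, he₁⟩ := h.surj hp'V hp'Z hp
  obtain ⟨w₂, hw₂, he₂⟩ := h.surj hp₀V hpZ' ha
  set b₂ := g * w₂ * g⁻¹ with hb₂
  have hpp := h.eV p (h.ZV hp)
  have hpp' := h.eV p' hp'V
  have hcm := h.eV.comm (h.ZV hp) hp'V
  -- action of `w₁`
  have a1 : w₁ * p' * w₁⁻¹ = p * p' := by
    have e : w₁ * p' * w₁⁻¹ = (p' * w₁ * p'⁻¹ * w₁⁻¹)⁻¹ * p' := by group
    rw [e, he₁, h.sqV (h.ZV hp)]
  have a2 : w₁ * p * w₁⁻¹ = p := by rw [h.Zc hp (h.WB hw₁)]; group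
  have a3 : w₁ * u * w₁⁻¹ = u := by rw [h.Zc hu (h.WB hw₁)]; group
  -- action of `b₂`
  have c1 : b₂ * p * b₂⁻¹ = p' * p := by
    have e1 : w₂ * (g⁻¹ * p * g) * w₂⁻¹ = a * (g⁻¹ * p * g) := by
      have e : w₂ * (g⁻¹ * p * g) * w₂⁻¹
          = ((g⁻¹ * p * g) * w₂ * (g⁻¹ * p * g)⁻¹ * w₂⁻¹)⁻¹ * (g⁻¹ * p * g) := by group
      rw [e, he₂, h.sqV (h.ZV ha)]
    calc b₂ * p * b₂⁻¹ = g * (w₂ * (g⁻¹ * p * g) * w₂⁻¹) * g⁻¹ := by rw [hb₂]; group
      _ = g * (a * (g⁻¹ * p * g)) * g⁻¹ := by rw [e1]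
      _ = p' * p := by rw [hp']; group
  have c2 : b₂ * p' * b₂⁻¹ = p' := by
    have e1 : w₂ * a * w₂⁻¹ = a := by rw [h.Zc ha (h.WB hw₂)]; group
    calc b₂ * p' * b₂⁻¹ = g * (w₂ * a * w₂⁻¹) * g⁻¹ := by rw [hb₂, hp']; group
      _ = p' := by rw [e1]
  have c3 : b₂ * u * b₂⁻¹ = u := by
    have e1 : w₂ * u₀ * w₂⁻¹ = u₀ := by rw [h.Zc hug (h.WB hw₂)]; group
    calc b₂ * u * b₂⁻¹ = g * (w₂ * u₀ * w₂⁻¹) * g⁻¹ := by rw [hb₂, hu₀]; group
      _ = u := by rw [e1, hu₀]; group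
  set τ := w₁ * b₂ with hτ
  have t1 : τ * p * τ⁻¹ = p' := by
    calc τ * p * τ⁻¹ = w₁ * (b₂ * p * b₂⁻¹) * w₁⁻¹ := by rw [hτ]; group
      _ = (w₁ * p' * w₁⁻¹) * (w₁ * p * w₁⁻¹) := by rw [c1]; group
      _ = (p * p') * p := by rw [a1, a2]
      _ = (p' * p) * p := by rw [hcm]
      _ = p' := by rw [mul_assoc, hpp, mul_one]
  have t2 : τ * p' * τ⁻¹ = p * p' := by
    calc τ * p' * τ⁻¹ = w₁ * (b₂ * p' * b₂⁻¹) * w₁⁻¹ := by rw [hτ]; group
      _ = p * p' := by rw [c2, a1]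
  have t3 : τ * u = u * τ := by
    apply mul_inv_eq_iff_eq_mul.1
    calc τ * u * τ⁻¹ = w₁ * (b₂ * u * b₂⁻¹) * w₁⁻¹ := by rw [hτ]; group
      _ = u := by rw [c3, a3]
  have t4 : (τ ^ 3) * p * (τ ^ 3)⁻¹ = p := by
    calc (τ ^ 3) * p * (τ ^ 3)⁻¹ = τ * (τ * (τ * p * τ⁻¹) * τ⁻¹) * τ⁻¹ := by
            rw [pow_succ, pow_two]; group
      _ = τ * (p * p') * τ⁻¹ := by rw [t1, t2]
      _ = (τ * p * τ⁻¹) * (τ * p' * τ⁻¹) := by group
      _ = p' * (p * p') := by rw [t1, t2]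
      _ = p' * (p' * p) := by rw [hcm]
      _ = p := by rw [← mul_assoc, hpp', one_mul]
  have hτV : cj τ V = V := by
    rw [hτ, cj_mul, hb₂, cj_mul, cj_mul]
    have e1 : cj g⁻¹ V = V := by
      have := cj_inv_cj g V
      rwa [hg] at this
    rw [e1, h.cjV_B (h.WB hw₂), hg, h.cjV_B (h.WB hw₁)]
  have h3 : 3 ∣ orderOf τ := by
    by_contra hndvd
    obtain ⟨m, hm⟩ := exists_pow_eq_self_of_coprime ((Nat.Prime.coprime_iff_not_dvd Nat.prime_three).2 hndvd)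
    have h1 : Commute (τ ^ 3) p := mul_inv_eq_iff_eq_mul.1 t4
    have h2 : Commute τ p := by
      have := h1.pow_left m
      rwa [hm] at this
    have h4 : τ * p * τ⁻¹ = p := by rw [h2.eq]; group
    rw [t1] at h4
    exact hp'Z (h4 ▸ hp)
  have hτ0 : orderOf τ ≠ 0 := (orderOf_pos τ).ne'
  obtain ⟨k, hk⟩ := h3
  have hk0 : k ≠ 0 := by
    rintro rfl
    exact hτ0 (by rw [hk])
  have hy : orderOf (τ ^ k) = 3 := by
    rw [orderOf_pow_of_dvd hk0 (by rw [hk]; exact dvd_mul_left _ _), hk]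
    exact Nat.mul_div_cancel _ (Nat.pos_of_ne_zero hk0)
  have hyV : cj (τ ^ k) V = V := cj_eq_iff.2 (pow_mem (cj_eq_iff.1 hτV) k)
  exact hu1 (h.fpf hG hy hyV (h.ZV hu) ((show Commute τ u from t3).pow_left k).eq)

end Sit

/-- the involution `s ∈ S ∖ B` normalises `V` -/
structure TD (S B V W Z : Subgroup G) (x s : G) : Prop where
  sit : Sit S B V W Z x
  sS : s ∈ S
  sB : s ∉ B
  ss : s * s = 1
  sV : cj s V = V

namespace TD

variable {s : G}

theorem sW (t : TD S B V W Z x s) : cj s W = W := by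
  rcases t.sit.cj_pair (t.sit.cjS t.sS) with h1 | h1
  · exact h1.2
  · exact absurd (h1.1.symm.trans t.sV).symm t.sit.ne

theorem symm (t : TD S B V W Z x s) : TD S B W V Z x s where
  sit := t.sit.symm
  sS := t.sS
  sB := t.sB
  ss := t.ss
  sV := t.sW

theorem conj (t : TD S B V W Z x s) : ∀ v ∈ V, s * v * s⁻¹ ∈ V := fun v hv => by
  have := conj_mem_cj (g := s) hv
  rwa [t.sV] at this

theorem cent_Z (t : TD S B V W Z x s) {z : G} (hz : Cen S Z z) {c : G} (hc : c ∈ Z) (hs : s * c = c * s) :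
    c = 1 ∨ c = z := by
  by_contra hcon
  push Not at hcon
  have h1 := t.sit.act hz t.sS t.sB hc hcon.1 hcon.2
  have h2 : s * c * s⁻¹ = c := mul_inv_eq_iff_eq_mul.2 hs
  rw [h2] at h1
  exact hz.ne (by simpa using h1.symm)

theorem main (t : TD S B V W Z x s) : Nat.card (V ⊓ centralizer ({s} : Set G) : Subgroup G) = 4 ∧
    ∀ c ∈ V, s * c = c * s → ∃ v ∈ V, v * (s * v⁻¹ * s⁻¹) = c := by
  have h := t.sit
  obtain ⟨z, hz⟩ := h.exists_z
  set f := CaseATools.commHom h.eV t.conj with hf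
  have hle : f.range ≤ f.ker := by
    rintro _ ⟨e, rfl⟩
    rw [CaseATools.mem_ker_commHom]
    exact CaseATools.commHom_mem h.eV t.conj (fun e _ => by rw [t.ss, one_mul, mul_one]) e
  have h1 : Nat.card f.ker * Nat.card f.range = 16 := by
    rw [← h.cV, ← f.ker.card_mul_index, Subgroup.index_ker]
  have h2 : Nat.card f.range ≤ Nat.card f.ker := Subgroup.card_le_of_le hle
  -- `|range| ≥ 4`
  have h3 : 4 ≤ Nat.card f.range := by
    have hz2 : orderOf z = 2 := CaseABase.orderOf_eq_two hz.ne (h.eZ z hz.mem)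
    obtain ⟨a, ha, ha1, haz⟩ := h.exists_a z
    obtain ⟨v, hv, hvZ⟩ := h.exists_comm_notZ t.sS t.sB t.sV
    have e1 : a * (s * a⁻¹ * s⁻¹) = z := by
      have h4 := h.act hz t.sS t.sB ha ha1 haz
      rw [h.sqV (h.ZV ha), h4, h.eZ.comm hz.mem ha, ← mul_assoc, h.eZ a ha, one_mul]
    have hlt : zpowers z < f.range.map V.subtype := by
      refine lt_of_le_of_ne ?_ fun he => ?_
      · rw [zpowers_le]
        exact ⟨f ⟨a, h.ZV ha⟩, ⟨_, rfl⟩, e1⟩
      · have h5 : v * (s * v⁻¹ * s⁻¹) ∈ f.range.map V.subtype := ⟨f ⟨v, hv⟩, ⟨_, rfl⟩, rfl⟩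
        rw [← he] at h5
        apply hvZ
        have h6 : s * v * s⁻¹ * v⁻¹ = (v * (s * v⁻¹ * s⁻¹))⁻¹ := by group
        rw [h6]
        exact Z.inv_mem ((zpowers_le.2 hz.mem) h5)
    have h4 := card_of_lt hlt
    rw [Nat.card_zpowers, hz2, Subgroup.card_map_of_injective V.subtype_injective] at h4
    exact h4
  have h4 : Nat.card f.ker = 4 := by
    have h5 : Nat.card f.ker ≤ 4 := by
      by_contra hlt
      have : 5 * 4 ≤ Nat.card f.ker * Nat.card f.range := Nat.mul_le_mul (by omega) h3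
      omega
    omega
  have h5 : Nat.card f.range = 4 := by rw [h4] at h1; omega
  have heq : f.range = f.ker := Subgroup.eq_of_le_of_card_ge hle (by rw [h4, h5])
  refine ⟨by rw [← CaseATools.card_ker_commHom h.eV t.conj]; exact h4, fun c hc hsc => ?_⟩
  have h6 : (⟨c, hc⟩ : V) ∈ f.range := by
    rw [heq, CaseATools.mem_ker_commHom]; exact hsc
  obtain ⟨v, hv⟩ := h6
  exact ⟨v, v.2, congrArg Subtype.val hv⟩

/-- `S` normalises `V` -/
theorem cjV_S (t : TD S B V W Z x s) {c : G} (hc : c ∈ S) : cj c V = V := by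
  by_cases hcB : c ∈ B
  · exact t.sit.cjV_B hcB
  · have h1 := t.sit.mul_mem_B hc t.sS hcB t.sB
    have e : c = (c * s) * s := by rw [mul_assoc, t.ss, mul_one]
    rw [e, cj_mul, t.sV, t.sit.cjV_B h1]

/-- `N_G(V) ∩ C_G(Z) ≤ B` -/
theorem cent_le (hG : OddCyc G) (hc : CharTwo G) (t : TD S B V W Z x s) {c : G} (hcV : cj c V = V)
    (hcZ : ∀ z ∈ Z, c * z = z * c) : c ∈ B := by
  have h := t.sit
  set C := normalizer (V : Set G) ⊓ centralizer (Z : Set G) with hC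
  have h2 : IsPGroup 2 C := by
    apply CaseABase.isPGroup_two_of_forall
    intro r hr hr2 d hd hdr
    exact h.cent_of_odd hG hc hr hr2 hdr (fun z hz => (mem_centralizer_iff.1 hd.2 z hz).symm)
      (cj_eq_iff.2 hd.1)
  have h3 : C ≤ S := by
    apply CaseABase.le_isSyl2 h.syl le_top h2
    intro s hs e he
    rw [hC, Subgroup.mem_inf] at he ⊢
    constructor
    · have hsN : s ∈ normalizer (V : Set G) := cj_eq_iff.1 (t.cjV_S hs)
      exact (normalizer (V : Set G)).mul_mem ((normalizer (V : Set G)).mul_mem hsN he.1)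
        ((normalizer (V : Set G)).inv_mem hsN)
    · rw [mem_centralizer_iff]
      intro z hz
      have h4 := h.conjZ (S.inv_mem hs) hz
      rw [inv_inv] at h4
      have h5 := mem_centralizer_iff.1 he.2 _ h4
      calc z * (s * e * s⁻¹) = s * ((s⁻¹ * z * s) * e) * s⁻¹ := by group
        _ = s * (e * (s⁻¹ * z * s)) * s⁻¹ := by rw [h5]
        _ = s * e * s⁻¹ * z := by group
  have h4 : c ∈ C := ⟨cj_eq_iff.1 hcV, mem_centralizer_iff.2 fun z hz => (hcZ z hz).symm⟩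
  exact h.centZ c (h3 h4) hcZ

/-- transvections on `C_V(s)` -/
theorem transv (hG : OddCyc G) (hc2 : CharTwo G) (t : TD S B V W Z x s) {c : G} (hc : c ∈ V)
    (hsc : s * c = c * s) (hc1 : c ≠ 1) :
    ∃ b, b * s = s * b ∧ b * c = c * b ∧ ∀ e ∈ V, s * e = e * s → e ≠ 1 → e ≠ c → b * e * b⁻¹ = c * e := by
  have h := t.sit
  obtain ⟨z, hz⟩ := h.exists_z
  obtain ⟨g, hgV, hgz⟩ := h.trV z (h.ZV hz.mem) c hc hz.ne hc1
  have hgV' : cj g V = V := cj_eq_iff.2 (mem_normalizer_of_forall hgV)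
  have hgVi : cj g⁻¹ V = V := by
    have := cj_inv_cj g V
    rwa [hgV'] at this
  set s' := g⁻¹ * s * g with hs'
  have hs's' : s' * s' = 1 := by
    calc s' * s' = g⁻¹ * (s * s) * g := by rw [hs']; group
      _ = 1 := by rw [t.ss]; group
  have hs'i : s'⁻¹ = s' := inv_eq_of_mul_eq_one_left hs's'
  have hs'z : s' * z = z * s' := by
    have h1 : z = g⁻¹ * c * g := by rw [← hgz]; group
    rw [h1, hs']
    calc g⁻¹ * s * g * (g⁻¹ * c * g) = g⁻¹ * (s * c) * g := by group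
      _ = g⁻¹ * (c * s) * g := by rw [hsc]
      _ = _ := by group
  have hs'V : cj s' V = V := by
    rw [hs', cj_mul, cj_mul, hgV', t.sV, hgVi]
  have hs'Z : cj s' Z = Z := by
    refine h.spread hG hs'V hz.mem hz.ne ?_
    rw [mul_assoc, ← hs'z, inv_mul_cancel_left]
    exact hz.mem
  have hs'Zm : ∀ ζ ∈ Z, s' * ζ * s'⁻¹ ∈ Z := fun ζ hζ => by
    have := conj_mem_cj (g := s') hζ
    rwa [hs'Z] at this
  have hs'B : cj s' B = B := by
    rw [cj_eq_iff]
    apply mem_normalizer_of_forall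
    intro b hb
    apply t.cent_le hG hc2
    · rw [cj_mul, cj_mul, hs'i, hs'V, h.cjV_B hb, hs'V]
    · intro ζ hζ
      have h1 := hs'Zm ζ hζ
      have h2 := h.Zc h1 hb
      calc s' * b * s'⁻¹ * ζ = s' * (b * (s'⁻¹ * ζ * s'⁻¹⁻¹)) * s'⁻¹ := by group
        _ = s' * ((s'⁻¹ * ζ * s'⁻¹⁻¹) * b) * s'⁻¹ := by
            rw [hs'i]; rw [h2]
        _ = ζ * (s' * b * s'⁻¹) := by group
  have hs'W : cj s' W = W := by
    rcases h.cj_pair hs'B with h1 | h1
    · exact h1.2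
    · exact absurd (h1.1.symm.trans hs'V).symm h.ne
  have hs'Wm : ∀ w ∈ W, s' * w * s'⁻¹ ∈ W := fun w hw => by
    have := conj_mem_cj (g := s') hw
    rwa [hs'W] at this
  -- `s' ∉ B`
  have hs'nB : s' ∉ B := by
    intro h0
    have h1 : cj g Z = V ⊓ centralizer ({s} : Set G) := by
      apply Subgroup.eq_of_le_of_card_ge
      · refine le_inf ?_ ?_
        · rw [← hgV']; exact cj_mono h.ZV
        · rintro _ ⟨ζ, hζ, rfl⟩
          show g * ζ * g⁻¹ ∈ _
          rw [mem_centralizer_singleton_iff]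
          have h2 : s' * ζ = ζ * s' := h.Zc hζ h0
          have h3 : s = g * s' * g⁻¹ := by rw [hs']; group
          rw [h3]
          calc g * ζ * g⁻¹ * (g * s' * g⁻¹) = g * (ζ * s') * g⁻¹ := by group
            _ = g * (s' * ζ) * g⁻¹ := by rw [h2]
            _ = _ := by group
      · rw [card_cj, t.main.1, h.cZ]
    have h2 : z ∈ cj g Z := by
      rw [h1, Subgroup.mem_inf]
      exact ⟨h.ZV hz.mem, mem_centralizer_singleton_iff.2 (hz.comm s t.sS).symm⟩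
    have h3 := h.spread hG hgV' hz.mem hz.ne (mem_cj.1 h2)
    obtain ⟨a, ha, ha1, haz⟩ := h.exists_a z
    have h4 : a ∈ V ⊓ centralizer ({s} : Set G) := by rw [← h1, h3]; exact ha
    have h5 := mem_centralizer_singleton_iff.1 h4.2
    rcases t.cent_Z hz ha h5.symm with h6 | h6
    · exact ha1 h6
    · exact haz h6
  have hs'cZ : ∀ ζ ∈ Z, s' * ζ = ζ * s' → ζ = 1 ∨ ζ = z := by
    intro ζ hζ hcm
    by_contra hcon
    push Not at hcon
    apply hs'nB
    apply t.cent_le hG hc2 hs'V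
    intro ξ hξ
    rcases h.four hz.mem hζ hz.ne hcon.1 hcon.2 hξ with h0 | h0 | h0 | h0
    · rw [h0]; simp
    · rw [h0]; exact hs'z
    · rw [h0]; exact hcm
    · rw [h0]
      exact ((show Commute s' z from hs'z).mul_right (show Commute s' ζ from hcm)).eq
  -- `w`
  obtain ⟨w, hw, hwZ, hwc⟩ : ∃ w ∈ W, w ∉ Z ∧ s' * w * s'⁻¹ * w⁻¹ ∈ Z := by
    obtain ⟨w₁, hw₁, hw₁Z⟩ := h.symm.exists_notZ
    by_cases h1 : s' * w₁ * s'⁻¹ * w₁⁻¹ ∈ Z
    · exact ⟨w₁, hw₁, hw₁Z, h1⟩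
    · refine ⟨_, W.mul_mem (hs'Wm w₁ hw₁) (W.inv_mem hw₁), h1, ?_⟩
      have h2 : s' * (s' * w₁ * s'⁻¹ * w₁⁻¹) * s'⁻¹ * (s' * w₁ * s'⁻¹ * w₁⁻¹)⁻¹ = 1 := by
        have h3 := h.eW.comm hw₁ (W.inv_mem (hs'Wm w₁ hw₁))
        have h4 : w₁ * w₁ = 1 := h.eW w₁ hw₁
        have h5 := h.eW _ (hs'Wm w₁ hw₁)
        have h6 : (s' * w₁ * s'⁻¹)⁻¹ = s' * w₁ * s'⁻¹ := inv_eq_of_mul_eq_one_left h5
        calc s' * (s' * w₁ * s'⁻¹ * w₁⁻¹) * s'⁻¹ * (s' * w₁ * s'⁻¹ * w₁⁻¹)⁻¹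
            = (s' * s') * w₁ * (s' * s')⁻¹ * (s' * w₁ * s'⁻¹)⁻¹ * (w₁ * (s' * w₁ * s'⁻¹)⁻¹) := by group
          _ = w₁ * (s' * w₁ * s'⁻¹)⁻¹ * (w₁ * (s' * w₁ * s'⁻¹)⁻¹) := by rw [hs's']; group
          _ = w₁ * (s' * w₁ * s'⁻¹)⁻¹ * ((s' * w₁ * s'⁻¹)⁻¹ * w₁) := by rw [h3]
          _ = w₁ * ((s' * w₁ * s'⁻¹) * (s' * w₁ * s'⁻¹))⁻¹ * w₁ := by group
          _ = 1 := by rw [h5, inv_one, mul_one, h4]
      rw [h2]
      exact Z.one_mem
  set ζ := s' * w * s'⁻¹ * w⁻¹ with hζ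
  have hsζ : s' * ζ = ζ * s' := by
    have h1 : s' * w * s'⁻¹ = ζ * w := by rw [hζ]; group
    have h2 : w = s' * ζ * s'⁻¹ * (ζ * w) := by
      calc w = (s' * s') * w * (s' * s')⁻¹ := by rw [hs's']; group
        _ = s' * (s' * w * s'⁻¹) * s'⁻¹ := by group
        _ = s' * (ζ * w) * s'⁻¹ := by rw [h1]
        _ = s' * ζ * s'⁻¹ * (s' * w * s'⁻¹) := by group
        _ = s' * ζ * s'⁻¹ * (ζ * w) := by rw [h1]
    have h3 : s' * ζ * s'⁻¹ * ζ = 1 := by
      have h4 : s' * ζ * s'⁻¹ * ζ * w = 1 * w := by rw [one_mul, mul_assoc]; exact h2.symm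
      exact mul_right_cancel h4
    have h4 : s' * ζ * s'⁻¹ = ζ := by
      rw [eq_inv_of_mul_eq_one_left h3, h.sqV (h.ZV hwc)]
    exact mul_inv_eq_iff_eq_mul.1 h4
  -- correct `w` by an element of `V`
  obtain ⟨v, hv, hve⟩ : ∃ v ∈ V, v * (s' * v⁻¹ * s'⁻¹) = ζ := by
    have h1 : g * ζ * g⁻¹ ∈ V := hgV ζ (h.ZV hwc)
    have h2 : s * (g * ζ * g⁻¹) = (g * ζ * g⁻¹) * s := by
      have h3 : s = g * s' * g⁻¹ := by rw [hs']; group
      rw [h3]
      calc g * s' * g⁻¹ * (g * ζ * g⁻¹) = g * (s' * ζ) * g⁻¹ := by group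
        _ = g * (ζ * s') * g⁻¹ := by rw [hsζ]
        _ = _ := by group
    obtain ⟨v₀, hv₀, he₀⟩ := t.main.2 _ h1 h2
    refine ⟨g⁻¹ * v₀ * g, ?_, ?_⟩
    · rw [← mem_cj, hgV']; exact hv₀
    · calc (g⁻¹ * v₀ * g) * (s' * (g⁻¹ * v₀ * g)⁻¹ * s'⁻¹) = g⁻¹ * (v₀ * (s * v₀⁻¹ * s⁻¹)) * g := by
            rw [hs']; group
        _ = ζ := by rw [he₀]; group
  set b' := w * v with hb'
  have hb'B : b' ∈ B := B.mul_mem (h.WB hw) (h.VB hv)
  have hb's' : s' * b' = b' * s' := by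
    apply mul_inv_eq_iff_eq_mul.1
    have h1 : s' * v * s'⁻¹ = ζ⁻¹ * v := by rw [← hve]; group
    have h2 : s' * w * s'⁻¹ = ζ * w := by rw [hζ]; group
    have h3 := h.Zc (Z.inv_mem hwc) (h.WB hw)
    calc s' * b' * s'⁻¹ = (s' * w * s'⁻¹) * (s' * v * s'⁻¹) := by rw [hb']; group
      _ = ζ * (w * ζ⁻¹) * v := by rw [h1, h2]; group
      _ = ζ * (ζ⁻¹ * w) * v := by rw [h3]
      _ = b' := by rw [hb']; group
  have hgs : g * s' * g⁻¹ = s := by rw [hs']; group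
  refine ⟨g * b' * g⁻¹, ?_, ?_, ?_⟩
  · rw [← hgs]
    calc g * b' * g⁻¹ * (g * s' * g⁻¹) = g * (b' * s') * g⁻¹ := by group
      _ = g * (s' * b') * g⁻¹ := by rw [hb's']
      _ = _ := by group
  · rw [← hgz]
    have h1 := h.Zc hz.mem hb'B
    calc g * b' * g⁻¹ * (g * z * g⁻¹) = g * (b' * z) * g⁻¹ := by group
      _ = g * (z * b') * g⁻¹ := by rw [h1]
      _ = _ := by group
  · intro e he hse he1 hec
    set d := g⁻¹ * e * g with hd
    have hdV : d ∈ V := by rw [hd, ← mem_cj, hgV']; exact he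
    have hgd : g * d * g⁻¹ = e := by rw [hd]; group
    have hds' : s' * d = d * s' := by
      rw [hs', hd]
      calc g⁻¹ * s * g * (g⁻¹ * e * g) = g⁻¹ * (s * e) * g := by group
        _ = g⁻¹ * (e * s) * g := by rw [hse]
        _ = _ := by group
    have hd1 : d ≠ 1 := fun h0 => he1 (by rw [← hgd, h0]; group)
    have hdz : d ≠ z := fun h0 => hec (by rw [← hgd, h0, hgz])
    have hdZ : d ∉ Z := fun h0 => by
      rcases hs'cZ d h0 hds' with h1 | h1
      · exact hd1 h1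
      · exact hdz h1
    have h1 := h.comm_VB hb'B hdV
    have h2 : s' * (b' * d * b'⁻¹ * d⁻¹) = (b' * d * b'⁻¹ * d⁻¹) * s' := by
      have k1 : Commute s' b' := hb's'
      have k2 : Commute s' d := hds'
      exact (((k1.mul_right k2).mul_right k1.inv_right).mul_right k2.inv_right).eq
    rcases hs'cZ _ h1 h2 with h3 | h3
    · exfalso
      have h4 : b' * d = d * b' := mul_inv_eq_iff_eq_mul.1 (mul_inv_eq_one.1 h3)
      have h5 : d * w = w * d := by
        have h6 := h.eV.comm hv hdV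
        have h7 : (w * d) * v = (d * w) * v := by
          calc (w * d) * v = w * (d * v) := mul_assoc _ _ _
            _ = w * (v * d) := by rw [h6]
            _ = b' * d := (mul_assoc w v d).symm
            _ = d * b' := h4
            _ = (d * w) * v := (mul_assoc d w v).symm
        exact (mul_right_cancel h7).symm
      rcases h.nc d hdV w hw h5 with h6 | h6
      · exact hdZ h6
      · exact hwZ h6
    · calc g * b' * g⁻¹ * e * (g * b' * g⁻¹)⁻¹ = g * (b' * d * b'⁻¹) * g⁻¹ := by rw [← hgd]; group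
        _ = g * ((b' * d * b'⁻¹ * d⁻¹) * d) * g⁻¹ := by group
        _ = g * (z * d) * g⁻¹ := by rw [h3]
        _ = (g * z * g⁻¹) * (g * d * g⁻¹) := by group
        _ = c * e := by rw [hgz, hgd]

/-- the involutions of `C_V(s)` are `C_G(s)`-conjugate to `z` -/
theorem conj_z (hG : OddCyc G) (hc2 : CharTwo G) (t : TD S B V W Z x s) {z : G} (hz : Cen S Z z) {e : G}
    (he : e ∈ V) (hse : s * e = e * s) (he1 : e ≠ 1) : ∃ b, b * s = s * b ∧ b * e * b⁻¹ = z := by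
  have h := t.sit
  by_cases hez : e = z
  · exact ⟨1, by simp, by rw [hez]; simp⟩
  · have hzV := h.ZV hz.mem
    have hzz := h.eV z hzV
    have h1 : z * e ≠ 1 := fun h0 => hez (by
      have h1 : z * e = z * z := by rw [h0, hzz]
      exact mul_left_cancel h1)
    have h2 : e ≠ z * e := fun h0 => hz.ne (by
      have h1 : 1 * e = z * e := by rw [one_mul]; exact h0
      exact (mul_right_cancel h1).symm)
    have h3 : s * (z * e) = z * e * s := by
      rw [← mul_assoc, hz.comm s t.sS, mul_assoc, hse, ← mul_assoc]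
    obtain ⟨b, hb, -, hb'⟩ := t.transv hG hc2 (V.mul_mem hzV he) h3 h1
    refine ⟨b, hb, ?_⟩
    rw [hb' e he hse he1 h2, mul_assoc, h.eV e he, mul_one]

/-- `|C_V(s) C_W(s)| ≥ 8`, `C_V(s) ∩ C_W(s) = ⟨z⟩` -/
theorem card_D (t : TD S B V W Z x s) :
    8 ≤ Nat.card ((V ⊓ centralizer ({s} : Set G)) ⊔ (W ⊓ centralizer ({s} : Set G)) : Subgroup G) := by
  have h := t.sit
  obtain ⟨z, hz⟩ := h.exists_z
  have hz2 : orderOf z = 2 := CaseABase.orderOf_eq_two hz.ne (h.eZ z hz.mem)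
  have hn : W ⊓ centralizer ({s} : Set G) ≤
      normalizer ((V ⊓ centralizer ({s} : Set G) : Subgroup G) : Set G) := by
    intro w hw
    apply mem_normalizer_of_forall
    intro v hv
    rw [Subgroup.mem_inf] at hv hw ⊢
    refine ⟨h.conjV (h.WB hw.1) hv.1, ?_⟩
    exact (centralizer ({s} : Set G)).mul_mem ((centralizer ({s} : Set G)).mul_mem hw.2 hv.2)
      ((centralizer ({s} : Set G)).inv_mem hw.2)
  have h1 := T1Tools.card_sup_mul hn
  rw [t.main.1, t.symm.main.1] at h1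
  have h2 : Nat.card ((V ⊓ centralizer ({s} : Set G)) ⊓ (W ⊓ centralizer ({s} : Set G)) : Subgroup G) ≤ 2 := by
    rw [← hz2, ← Nat.card_zpowers]
    apply Subgroup.card_le_of_le
    intro c hc
    rw [Subgroup.mem_inf, Subgroup.mem_inf, Subgroup.mem_inf] at hc
    rcases t.cent_Z hz (h.mem_Z hc.1.1 hc.2.1) (mem_centralizer_singleton_iff.1 hc.1.2).symm with h3 | h3
    · rw [h3]; exact one_mem _
    · rw [h3]; exact mem_zpowers z
  by_contra hlt
  push Not at hlt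
  have h3 : Nat.card ((V ⊓ centralizer ({s} : Set G)) ⊔ (W ⊓ centralizer ({s} : Set G)) : Subgroup G) *
      Nat.card ((V ⊓ centralizer ({s} : Set G)) ⊓ (W ⊓ centralizer ({s} : Set G)) : Subgroup G) ≤ 7 * 2 :=
    Nat.mul_le_mul (by omega) h2
  omega

/-- there is an element of `C_V(s)` outside `Z` -/
theorem exists_notZ (t : TD S B V W Z x s) : ∃ v ∈ V, s * v = v * s ∧ v ∉ Z := by
  have h := t.sit
  obtain ⟨z, hz⟩ := h.exists_z
  by_contra hcon
  push Not at hcon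
  have hz2 : orderOf z = 2 := CaseABase.orderOf_eq_two hz.ne (h.eZ z hz.mem)
  have h1 : Nat.card (V ⊓ centralizer ({s} : Set G) : Subgroup G) ≤ 2 := by
    rw [← hz2, ← Nat.card_zpowers]
    apply Subgroup.card_le_of_le
    intro c hc
    rw [Subgroup.mem_inf] at hc
    have h2 := (mem_centralizer_singleton_iff.1 hc.2).symm
    rcases t.cent_Z hz (hcon c hc.1 h2) h2 with h3 | h3
    · rw [h3]; exact one_mem _
    · rw [h3]; exact mem_zpowers z
  rw [t.main.1] at h1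
  omega

/-- `z ∉ O₂(C_G(s))` -/
theorem not_mem (hG : OddCyc G) (hc2 : CharTwo G) (t : TD S B V W Z x s) {z : G} (hz : Cen S Z z)
    {R : Subgroup G} (hR : IsO2 (centralizer ({s} : Set G)) R) : z ∉ R := by
  intro hzR
  have h := t.sit
  have hf : Fact (Nat.Prime 2) := ⟨Nat.prime_two⟩
  have hN : Group.IsNilpotent R := hR.two.isNilpotent
  obtain ⟨v, hv, hsv, hvZ⟩ := t.exists_notZ
  obtain ⟨w, hw, hsw, hwZ⟩ := t.symm.exists_notZ
  have hv1 : v ≠ 1 := fun h0 => hvZ (h0 ▸ Z.one_mem)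
  have hw1 : w ≠ 1 := fun h0 => hwZ (h0 ▸ Z.one_mem)
  obtain ⟨b, hbs, hbv⟩ := t.conj_z hG hc2 hz hv hsv hv1
  obtain ⟨b', hbs', hbw⟩ := t.symm.conj_z hG hc2 hz hw hsw hw1
  have hbC : b ∈ centralizer ({s} : Set G) := mem_centralizer_singleton_iff.2 hbs
  have hbC' : b' ∈ centralizer ({s} : Set G) := mem_centralizer_singleton_iff.2 hbs'
  have hwR : w ∈ R := by
    have h1 := hR.normal b'⁻¹ (inv_mem hbC') z hzR
    have h2 : b'⁻¹ * z * b'⁻¹⁻¹ = w := by rw [← hbw]; group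
    rwa [h2] at h1
  -- `[v, w] = z`
  have hvw : v * w * v⁻¹ * w⁻¹ = z := by
    have h1 := h.comm v hv w hw
    have h2 : s * (v * w * v⁻¹ * w⁻¹) = (v * w * v⁻¹ * w⁻¹) * s := by
      have k1 : Commute s v := hsv
      have k2 : Commute s w := hsw
      exact (((k1.mul_right k2).mul_right k1.inv_right).mul_right k2.inv_right).eq
    rcases t.cent_Z hz h1 h2 with h3 | h3
    · exfalso
      have h4 : v * w = w * v := mul_inv_eq_iff_eq_mul.1 (mul_inv_eq_one.1 h3)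
      rcases h.nc v hv w hw h4 with h5 | h5
      · exact hvZ h5
      · exact hwZ h5
    · exact h3
  -- `z ∈ γ_k(R)` for all `k`
  have hcj : cj b⁻¹ R = R := cj_eq_iff.2 (mem_normalizer_of_forall fun r hr => hR.normal _ (inv_mem hbC) r hr)
  have hv' : b⁻¹ * z * b⁻¹⁻¹ = v := by rw [← hbv]; group
  have key : ∀ n : ℕ, z ∈ R.lowerCentralSeries n := by
    intro n
    induction n with
    | zero => exact hzR
    | succ n ih =>
      have h1 : cj b⁻¹ (R.lowerCentralSeries n) = R.lowerCentralSeries n := by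
        show (R.lowerCentralSeries n).map _ = _
        rw [Subgroup.map_lowerCentralSeries]
        exact congrArg (fun R : Subgroup G => R.lowerCentralSeries n) hcj
      have h2 : v ∈ R.lowerCentralSeries n := by
        rw [← h1, ← hv']; exact conj_mem_cj ih
      have h3 := Subgroup.commutator_mem_commutator h2 hwR
      rw [commutatorElement_def, hvw] at h3
      exact h3
  obtain ⟨n, hn⟩ := (Subgroup.isNilpotent_iff_lowerCentralSeries R).1 hN
  have h1 := key n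
  rw [hn, mem_bot] at h1
  exact hz.ne h1

/-- `|S| = 128` -/
theorem card_S (t : TD S B V W Z x s) : Nat.card S = 128 := by
  have h := t.sit
  have hn : W ≤ normalizer (V : Set G) := fun w hw =>
    mem_normalizer_of_forall fun v hv => h.conjV (h.WB hw) hv
  have h1 := T1Tools.card_sup_mul hn
  have h2 : V ⊔ W = B := by
    apply le_antisymm (sup_le h.VB h.WB)
    intro b hb
    obtain ⟨v, hv, w, hw, rfl⟩ := h.dec b hb
    exact mul_mem_sup hv hw
  rw [h2, h.inf, h.cZ, h.cV, h.cW] at h1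
  have h3 := T1Tools.card_mul_relIndex h.BS
  rw [h.relIndex_eq_two t.sS t.sB] at h3
  omega

/-- the final contradiction -/
theorem false [IsSimpleGroup G] (hnab : ∃ a b : G, a * b ≠ b * a) (hG : OddCyc G) (hc2 : CharTwo G)
    (t : TD S B V W Z x s) {U : Subgroup G} {z y : G} (hu : UD S Z U z y) : False := by
  have h := t.sit
  have hz := hu.cen
  have hs1 : s ≠ 1 := fun h0 => t.sB (h0 ▸ B.one_mem)
  obtain ⟨g, hg⟩ := h.conj_z hnab hz t.ss hs1
  obtain ⟨R, hR⟩ := exists_isO2 (centralizer ({s} : Set G))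
  have hzR := t.not_mem hG hc2 hz hR
  -- `|U| ≤ |R|`
  have hUR : Nat.card U ≤ Nat.card R := by
    rw [← card_cj g⁻¹ U]
    apply Subgroup.card_le_of_le
    have hs : s = g⁻¹ * z * g := by rw [← hg]; group
    have hcC : ∀ c, c ∈ centralizer ({s} : Set G) ↔ g * c * g⁻¹ ∈ centralizer ({z} : Set G) := by
      intro c
      rw [mem_centralizer_singleton_iff, mem_centralizer_singleton_iff, hs]
      constructor
      · intro h1
        calc g * c * g⁻¹ * z = g * (c * (g⁻¹ * z * g)) * g⁻¹ := by group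
          _ = g * ((g⁻¹ * z * g) * c) * g⁻¹ := by rw [h1]
          _ = _ := by group
      · intro h1
        calc c * (g⁻¹ * z * g) = g⁻¹ * ((g * c * g⁻¹) * z) * g := by group
          _ = g⁻¹ * (z * (g * c * g⁻¹)) * g := by rw [h1]
          _ = _ := by group
    apply hR.max
    · rintro _ ⟨c, hc, rfl⟩
      show g⁻¹ * c * g⁻¹⁻¹ ∈ _
      rw [hcC]
      have e : g * (g⁻¹ * c * g⁻¹⁻¹) * g⁻¹ = c := by group
      rw [e]
      exact hu.o2.le hc
    · exact CaseABase.isPGroup_cj hu.o2.two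
    · rintro m hm _ ⟨c, hc, rfl⟩
      have h1 := hu.o2.normal _ ((hcC m).1 hm) c hc
      refine ⟨_, h1, ?_⟩
      show g⁻¹ * (g * m * g⁻¹ * c * (g * m * g⁻¹)⁻¹) * g⁻¹⁻¹ = m * (g⁻¹ * c * g⁻¹⁻¹) * m⁻¹
      group
  -- `|U| ≥ 32`
  have hU32 : 32 ≤ Nat.card U := by
    obtain ⟨u, huU, huB⟩ := SetLike.not_le_iff_exists.1 (hu.not_le hG h)
    have huS := hu.U_le h huU
    have key : ∀ {V W : Subgroup G} (t : TD S B V W Z x s), 8 ≤ Nat.card (U ⊓ V : Subgroup G) := by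
      intro V W t
      have h := t.sit
      obtain ⟨v, hv, hvZ⟩ := h.exists_comm_notZ huS huB (t.cjV_S huS)
      have hlt : Z < U ⊓ V := by
        refine lt_of_le_of_ne (le_inf (hu.Z_le h) h.ZV) fun he => hvZ ?_
        rw [he]
        refine ⟨hu.comm_mem (hu.S_le (h.BS (h.VB hv))) huU, V.mul_mem ?_ (V.inv_mem hv)⟩
        have := conj_mem_cj (g := u) hv
        rwa [t.cjV_S huS] at this
      have h1 := card_of_lt hlt
      rw [h.cZ] at h1
      exact h1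
    have h1 := key t
    have h2 := key t.symm
    have hn : U ⊓ W ≤ normalizer ((U ⊓ V : Subgroup G) : Set G) := by
      intro w hw
      apply mem_normalizer_of_forall
      intro v hv
      rw [Subgroup.mem_inf] at hv hw ⊢
      exact ⟨U.mul_mem (U.mul_mem hw.1 hv.1) (U.inv_mem hw.1), h.conjV (h.WB hw.2) hv.2⟩
    have h3 := T1Tools.card_sup_mul hn
    have h4 : Nat.card ((U ⊓ V) ⊓ (U ⊓ W) : Subgroup G) ≤ 4 := by
      rw [← h.cZ, ← h.inf]
      exact Subgroup.card_le_of_le fun c hc => by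
        rw [Subgroup.mem_inf, Subgroup.mem_inf, Subgroup.mem_inf] at hc
        exact ⟨hc.1.2, hc.2.2⟩
    have h5 : 64 ≤ Nat.card (U ⊓ V : Subgroup G) * Nat.card (U ⊓ W : Subgroup G) := Nat.mul_le_mul h1 h2
    have h6 : 16 ≤ Nat.card ((U ⊓ V) ⊔ (U ⊓ W) : Subgroup G) := by
      by_contra hlt
      have : Nat.card ((U ⊓ V) ⊔ (U ⊓ W) : Subgroup G) * Nat.card ((U ⊓ V) ⊓ (U ⊓ W) : Subgroup G) ≤ 15 * 4 :=
        Nat.mul_le_mul (by omega) h4
      omega
    have hlt : (U ⊓ V) ⊔ (U ⊓ W) < U := by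
      refine lt_of_le_of_ne (sup_le inf_le_left inf_le_left) fun he => huB ?_
      have h7 : (U ⊓ V) ⊔ (U ⊓ W) ≤ B := sup_le (inf_le_right.trans h.VB) (inf_le_right.trans h.WB)
      rw [he] at h7
      exact h7 huU
    have h7 := card_of_lt hlt
    omega
  -- `D ∩ R = 1`
  set D : Subgroup G := (V ⊓ centralizer ({s} : Set G)) ⊔ (W ⊓ centralizer ({s} : Set G)) with hD
  have hDC : D ≤ centralizer ({s} : Set G) := sup_le inf_le_right inf_le_right
  have hDB : D ≤ B := sup_le (inf_le_left.trans h.VB) (inf_le_left.trans h.WB)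
  have hD2 : IsPGroup 2 D := h.two.to_le hDB
  have hDR : R ⊓ D = ⊥ := by
    by_contra hne
    obtain ⟨e, he, he2, hec⟩ := CaseATools.exists_central_involution hD2 (inf_le_right : R ⊓ D ≤ D)
      (fun d hd e he => by
        rw [Subgroup.mem_inf] at he ⊢
        exact ⟨hR.normal d (hDC hd) e he.1, D.mul_mem (D.mul_mem hd he.2) (D.inv_mem hd)⟩) hne
    have hes : s * e = e * s := (mem_centralizer_singleton_iff.1 (hDC he.2)).symm
    have he1 : e ≠ 1 := CaseABase.ne_one_of_orderOf he2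
    have key : ∀ {V W : Subgroup G} (t : TD S B V W Z x s), W ⊓ centralizer ({s} : Set G) ≤ D → e ∈ V →
        e ∈ Z := by
      intro V W t hWD heV
      obtain ⟨w, hw, hsw, hwZ⟩ := t.symm.exists_notZ
      have h1 := hec w (hWD ⟨hw, mem_centralizer_singleton_iff.2 hsw.symm⟩)
      exact (t.sit.nc e heV w hw h1.symm).resolve_right hwZ
    have heZ : e ∈ Z := by
      rcases h.invo (hDB he.2) (CaseABase.sq_of_orderOf he2) with h1 | h1
      · exact key t le_sup_right h1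
      · exact key t.symm le_sup_left h1
    rcases t.cent_Z hz heZ hes with h1 | h1
    · exact he1 h1
    · exact hzR (h1 ▸ he.1)
  have hDn : D ≤ normalizer (R : Set G) := fun d hd =>
    mem_normalizer_of_forall fun r hr => hR.normal d (hDC hd) r hr
  have h1 := T1Tools.card_sup_mul hDn
  rw [hDR, Subgroup.card_bot, mul_one] at h1
  have h2 : IsPGroup 2 (R ⊔ D : Subgroup G) := IsPGroup.to_sup_of_normal_left' hR.two hD2 hDn
  obtain ⟨Q, hQ, hRQ⟩ := exists_isSyl2 ⊤ _ le_top h2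
  have h3 := Subgroup.card_le_of_le hRQ
  rw [CaseABase.isSyl2_card h.syl hQ, t.card_S, h1] at h3
  have h4 : 32 * 8 ≤ Nat.card R * Nat.card D := Nat.mul_le_mul (hU32.trans hUR) t.card_D
  omega

end TD

end Cfsg.Agent.OddCyclic.AOneSit
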