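import Cfsg.Agent.OddCyclic.AOneSit
import Cfsg.Agent.OddCyclic.B2Trans
import Cfsg.Agent.LieExceptional.CITCommute
import Cfsg.Agent.Lib.ThompsonPQ

/-!
# S0342, T_cyc: noncommuting `SL₂(4)`-blocks, the group `U = O₂(C_G(z))`

`Sit.not_le`: if an element of order 3 centralises `z`, then `O₂(C_G(z)) ≰ B`.
-/

set_option autoImplicit false
set_option linter.unusedSectionVars false

namespace Cfsg.Agent.OddCyclic.AOneSit

open Subgroup
open Cfsg.Agent.LieExceptional Cfsg.Agent.LieExceptional.CITDefs Cfsg.Agent.LieExceptional.CITBasic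
open Cfsg.Agent.OddCyclic.CompBasic Cfsg.Agent.OddCyclic.CompStandard
open Cfsg.Agent.OddCyclic.T1Defs

variable {G : Type*} [Group G] {S B V W Z : Subgroup G} {x : G}

/-- an element of order 3 centralises `z`, `U = O₂(C_G(z))` -/
structure UD (S Z U : Subgroup G) (z y : G) : Prop where
  cen : Cen S Z z
  o2 : IsO2 (centralizer ({z} : Set G)) U
  self : centralizer (U : Set G) ≤ U
  y3 : orderOf y = 3
  yz : y * z = z * y

theorem card_of_lt [Finite G] {A V : Subgroup G} (hAV : A < V) : 2 * Nat.card A ≤ Nat.card V := by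
  obtain ⟨k, hk⟩ := Subgroup.card_dvd_of_le hAV.le
  have h1 : 0 < Nat.card A := Nat.card_pos
  have h2 : Nat.card A < Nat.card V := by
    refine lt_of_le_of_ne (Subgroup.card_le_of_le hAV.le) fun he => ?_
    exact hAV.ne (Subgroup.eq_of_le_of_card_ge hAV.le he.ge)
  rw [hk] at h2 ⊢
  have h3 : 2 ≤ k := by
    by_contra hlt
    have h4 : k = 0 ∨ k = 1 := by omega
    rcases h4 with rfl | rfl <;> omega
  calc 2 * Nat.card A = Nat.card A * 2 := mul_comm _ _
    _ ≤ Nat.card A * k := Nat.mul_le_mul_left _ h3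

namespace Sit

variable [Finite G]

/-- the elementary abelian subgroups of order 16 of `S` contained in... -/
theorem eq_or_S_aux (h : Sit S B V W Z x) {A : Subgroup G} (hA : A ≤ S) (hE : Elem A) (hc : Nat.card A = 16)
    {a : G} (haA : a ∈ A) (haB : a ∉ B) (hAV : A ⊓ B ≤ V) : False := by
  have haS : a ∈ S := hA haA
  have h8 : Nat.card A = 2 * Nat.card (A ⊓ B : Subgroup G) := by
    have h1 : ((A ⊓ B).subgroupOf A).index = 2 := by
      rw [index_eq_two_iff]
      refine ⟨⟨a, haA⟩, fun b => ?_⟩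
      simp only [mem_subgroupOf]
      by_cases hb : (b : G) ∈ B
      · refine Or.inr ⟨⟨b.2, hb⟩, fun h1 => haB ?_⟩
        have h2 := B.mul_mem (B.inv_mem hb) h1.2
        simpa using h2
      · exact Or.inl ⟨⟨A.mul_mem b.2 haA, h.mul_mem_B (hA b.2) haS hb haB⟩, fun h1 => hb h1.2⟩
    have h2 := ((A ⊓ B).subgroupOf A).card_mul_index
    rw [T1Tools.card_subgroupOf inf_le_left, h1] at h2
    omega
  have hcm : ∀ e ∈ A ⊓ B, a * e = e * a := fun e he => hE.comm haA he.1
  obtain ⟨z, hz⟩ := h.exists_z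
  rcases h.cj_or (h.cjS haS) with h1 | h1
  · -- `a` normalises `V`
    obtain ⟨a₀, ha₀, ha₀1, ha₀z⟩ := h.exists_a z
    have h2 := h.act hz haS haB ha₀ ha₀1 ha₀z
    obtain ⟨v, hv, hvZ⟩ := h.exists_comm_notZ haS haB h1
    have hza : a₀ ∉ A ⊓ B := by
      intro h3
      have h4 := hcm a₀ h3
      have h5 : a * a₀ * a⁻¹ = a₀ := by rw [h4]; group
      rw [h5] at h2
      apply hz.ne
      have h6 : 1 * a₀ = z * a₀ := by rw [one_mul]; exact h2
      exact (mul_right_cancel h6).symm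
    have hvE : v ∉ A ⊓ B := by
      intro h3
      apply hvZ
      have h4 := hcm v h3
      have h5 : a * v * a⁻¹ * v⁻¹ = 1 := by rw [h4]; group
      rw [h5]; exact Z.one_mem
    have h3 := mul_mem_of_card hAV (by rw [h.cV]; omega) (V.inv_mem (h.ZV ha₀)) hv
      (fun h4 => hza (by simpa using inv_mem h4)) hvE
    have h4 := hcm _ h3
    apply hvZ
    have h5 : a * (a₀⁻¹ * v) * a⁻¹ = a₀⁻¹ * v := by rw [h4]; group
    have h6 : a * v * a⁻¹ * v⁻¹ = z := by
      calc a * v * a⁻¹ * v⁻¹ = (a * a₀ * a⁻¹) * (a * (a₀⁻¹ * v) * a⁻¹) * v⁻¹ := by group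
        _ = (z * a₀) * (a₀⁻¹ * v) * v⁻¹ := by rw [h2, h5]
        _ = z := by group
    rw [h6]; exact hz.mem
  · -- `a` swaps `V` and `W`
    have h2 : A ⊓ B ≤ Z := by
      intro e he
      apply h.mem_Z (hAV he)
      rw [← h1]
      have h3 := hcm e he
      have h4 : e = a * e * a⁻¹ := by rw [h3]; group
      rw [h4]
      exact conj_mem_cj (hAV he)
    have h3 := Subgroup.card_le_of_le h2
    rw [h.cZ] at h3
    omega

/-- the elementary abelian subgroups of order 16 of `S` -/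
theorem eq_or_S (h : Sit S B V W Z x) {A : Subgroup G} (hA : A ≤ S) (hE : Elem A) (hc : Nat.card A = 16) :
    A = V ∨ A = W := by
  by_cases hAB : A ≤ B
  · exact h.eq_or hAB hE hc
  · exfalso
    obtain ⟨a, haA, haB⟩ := SetLike.not_le_iff_exists.1 hAB
    rcases h.sub_or (inf_le_right : A ⊓ B ≤ B) (fun e he => hE e he.1) with h1 | h1
    · exact h.eq_or_S_aux hA hE hc haA haB h1
    · exact h.symm.eq_or_S_aux hA hE hc haA haB h1

/-- `C_B(v) = V` for `v ∈ V ∖ Z` -/
theorem mem_V_of_comm (h : Sit S B V W Z x) {v b : G} (hv : v ∈ V) (hvZ : v ∉ Z) (hb : b ∈ B)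
    (hc : b * v = v * b) : b ∈ V := by
  obtain ⟨v₁, hv₁, w₁, hw₁, rfl⟩ := h.dec b hb
  have h1 : v * w₁ = w₁ * v := by
    have h2 := h.eV.comm hv₁ hv
    have h3 : v₁ * (w₁ * v) = v₁ * (v * w₁) := by
      calc v₁ * (w₁ * v) = (v₁ * w₁) * v := by group
        _ = v * (v₁ * w₁) := hc
        _ = (v * v₁) * w₁ := by group
        _ = (v₁ * v) * w₁ := by rw [h2]
        _ = _ := by group
    exact (mul_left_cancel h3).symm
  rcases h.nc v hv w₁ hw₁ h1 with h2 | h2
  · exact absurd h2 hvZ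
  · exact V.mul_mem hv₁ (h.ZV h2)

/-- `C_S(V) = V` -/
theorem cent_S (h : Sit S B V W Z x) {s : G} (hs : s ∈ S) (hc : ∀ v ∈ V, s * v = v * s) : s ∈ V := by
  have h1 : s ∈ B := h.centZ s hs fun z hz => hc z (h.ZV hz)
  obtain ⟨v, hv, hvZ⟩ := h.exists_notZ
  exact h.mem_V_of_comm hv hvZ h1 (hc v hv)

/-- the 2-subgroups of `C_G(V)` -/
theorem le_of_two (h : Sit S B V W Z x) {P : Subgroup G} (hP : IsPGroup 2 P) (hVP : V ≤ P)
    (hc : ∀ p ∈ P, ∀ v ∈ V, p * v = v * p) : P ≤ V := by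
  obtain ⟨Q, hQ, hPQ⟩ := exists_isSyl2 ⊤ P le_top hP
  obtain ⟨m, -, hm⟩ := CITBasic.IsSyl2.conj h.syl hQ
  have hm' : cj m S = Q := hm.symm
  have h1 : cj m⁻¹ P ≤ S := by
    have := cj_mono (g := m⁻¹) hPQ
    rwa [← hm', cj_inv_cj] at this
  have h2 : cj m⁻¹ V = V ∨ cj m⁻¹ V = W :=
    h.eq_or_S ((cj_mono hVP).trans h1) (CaseABase.elem_cj h.eV) (by rw [card_cj, h.cV])
  have h3 : ∀ p ∈ cj m⁻¹ P, ∀ v ∈ cj m⁻¹ V, p * v = v * p := by
    rintro _ ⟨p, hp, rfl⟩ _ ⟨v, hv, rfl⟩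
    rw [← map_mul, hc p hp v hv, map_mul]
  have h4 : cj m⁻¹ P ≤ cj m⁻¹ V := by
    intro p hp
    rcases h2 with h2 | h2
    · rw [h2] at h3 ⊢
      exact h.cent_S (h1 hp) (h3 p hp)
    · rw [h2] at h3 ⊢
      exact h.symm.cent_S (h1 hp) (h3 p hp)
  have h5 := cj_mono (g := m) h4
  rwa [cj_cj_inv, cj_cj_inv] at h5

end Sit

namespace UD

variable [Finite G] {U : Subgroup G} {z y : G}

theorem S_le (hu : UD S Z U z y) : S ≤ centralizer ({z} : Set G) := fun s hs =>
  mem_centralizer_singleton_iff.2 (hu.cen.comm s hs)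

theorem syl (h : Sit S B V W Z x) (hu : UD S Z U z y) : IsSyl2 (centralizer ({z} : Set G)) S :=
  T1Tools.isSyl2_of_le h.syl hu.S_le

theorem U_le (h : Sit S B V W Z x) (hu : UD S Z U z y) : U ≤ S := CITCommute.o2_le_syl hu.o2 (hu.syl h)

theorem y_mem (hu : UD S Z U z y) : y ∈ centralizer ({z} : Set G) := mem_centralizer_singleton_iff.2 hu.yz

theorem conjU (hu : UD S Z U z y) {g u : G} (hg : g ∈ centralizer ({z} : Set G)) (huU : u ∈ U) :
    g * u * g⁻¹ ∈ U := hu.o2.normal g hg u huU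

theorem cjU (hu : UD S Z U z y) {g : G} (hg : g ∈ centralizer ({z} : Set G)) : cj g U = U :=
  cj_eq_iff.2 (mem_normalizer_of_forall fun u hu' => hu.conjU hg hu')

/-- commutators with elements of `U` -/
theorem comm_mem (hu : UD S Z U z y) {g u : G} (hg : g ∈ centralizer ({z} : Set G)) (huU : u ∈ U) :
    u * g * u⁻¹ * g⁻¹ ∈ U := by
  have e : u * g * u⁻¹ * g⁻¹ = u * (g * u⁻¹ * g⁻¹) := by group
  rw [e]
  exact U.mul_mem huU (hu.conjU hg (U.inv_mem huU))

theorem not_V_le (hG : OddCyc G) (h : Sit S B V W Z x) (hu : UD S Z U z y) : ¬ V ≤ U := by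
  intro hVU
  have key : ∀ A : Subgroup G, A ≤ U → Elem A → Nat.card A = 16 → cj y A = V ∨ cj y A = W := by
    intro A hA hE hc
    apply h.eq_or_S _ (CaseABase.elem_cj hE) (by rw [card_cj, hc])
    rw [← hu.cjU hu.y_mem] at hA
    have h1 := cj_mono (g := y) (hA.trans (hu.cjU hu.y_mem).le)
    rw [hu.cjU hu.y_mem] at h1
    exact h1.trans (hu.U_le h)
  have h1 : cj y V = V := by
    refine cj_eq_of_pair hu.y3 (key V hVU h.eV h.cV) fun h2 => key W ?_ h.eW h.cW
    rw [← h2, ← hu.cjU hu.y_mem]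
    exact cj_mono hVU
  exact hu.cen.ne (h.fpf hG hu.y3 h1 (h.ZV hu.cen.mem) hu.yz)

/-- `y` does not normalise `Z` -/
theorem not_cjZ (hG : OddCyc G) (h : Sit S B V W Z x) (hu : UD S Z U z y) : cj y Z ≠ Z := by
  intro hZ
  apply h.no_three hG hu.y3
  have hyZ : ∀ a ∈ Z, y * a * y⁻¹ ∈ Z := fun a ha => by
    have := conj_mem_cj (g := y) ha
    rwa [hZ] at this
  intro a ha
  by_cases ha1 : a = 1
  · subst ha1; simp
  by_cases haz : a = z
  · subst haz; exact hu.yz
  have hyz : y * z * y⁻¹ = z := mul_inv_eq_iff_eq_mul.2 hu.yz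
  rcases h.four hu.cen.mem ha hu.cen.ne ha1 haz (hyZ a ha) with h2 | h2 | h2 | h2
  · exact absurd (by simpa using h2) ha1
  · exfalso
    apply haz
    have h3 : y * a * y⁻¹ = y * z * y⁻¹ := by rw [h2, hyz]
    exact mul_left_cancel (mul_right_cancel h3)
  · exact mul_inv_eq_iff_eq_mul.1 h2
  · exfalso
    have h3 : y * y * y = 1 := by
      have := pow_orderOf_eq_one y
      rw [hu.y3, pow_succ, pow_two] at this
      exact this
    have hzz := h.eZ z hu.cen.mem
    have h4 : (y * y * y) * a * (y * y * y)⁻¹ = z * a := by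
      calc (y * y * y) * a * (y * y * y)⁻¹ = y * (y * (y * a * y⁻¹) * y⁻¹) * y⁻¹ := by group
        _ = y * (y * (z * a) * y⁻¹) * y⁻¹ := by rw [h2]
        _ = y * ((y * z * y⁻¹) * (y * a * y⁻¹)) * y⁻¹ := by group
        _ = y * (z * (z * a)) * y⁻¹ := by rw [hyz, h2]
        _ = y * a * y⁻¹ := by rw [← mul_assoc z z a, hzz, one_mul]
        _ = z * a := h2
    rw [h3] at h4
    have h5 : 1 * a = z * a := by simpa using h4
    exact hu.cen.ne (mul_right_cancel h5).symm

/-- `Z ≤ U` -/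
theorem Z_le (h : Sit S B V W Z x) (hu : UD S Z U z y) : Z ≤ U := by
  by_cases hUB : U ≤ B
  · intro a ha
    exact hu.self (mem_centralizer_iff.2 fun u hu' => h.Zc ha (hUB hu'))
  · obtain ⟨u, huU, huB⟩ := SetLike.not_le_iff_exists.1 hUB
    have huS := hu.U_le h huU
    -- an element of `U` with nontrivial part in `V` modulo `W`
    obtain ⟨v, hv, hvZ, w, hw, hvw⟩ : ∃ v ∈ V, v ∉ Z ∧ ∃ w ∈ W, v * w ∈ U := by
      rcases h.cj_or (h.cjS huS) with h1 | h1
      · obtain ⟨v, hv, hvZ⟩ := h.exists_comm_notZ huS huB h1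
        refine ⟨_, V.mul_mem ?_ (V.inv_mem hv), hvZ, 1, W.one_mem, ?_⟩
        · have := conj_mem_cj (g := u) hv
          rwa [h1] at this
        · rw [mul_one]
          exact hu.comm_mem (hu.S_le (h.BS (h.VB hv))) huU
      · obtain ⟨v, hv, hvZ⟩ := h.exists_notZ
        refine ⟨v, hv, hvZ, u * v⁻¹ * u⁻¹, ?_, ?_⟩
        · have := conj_mem_cj (g := u) (V.inv_mem hv)
          rwa [h1] at this
        · have h2 := U.inv_mem (hu.comm_mem (hu.S_le (h.BS (h.VB hv))) huU)
          have e : (u * v * u⁻¹ * v⁻¹)⁻¹ = v * (u * v⁻¹ * u⁻¹) := by group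
          rwa [e] at h2
    intro a ha
    obtain ⟨w', hw', he⟩ := h.surj hv hvZ ha
    -- `[v w, w'] = [v, w']`
    have h2 := hu.comm_mem (hu.S_le (h.BS (h.WB hw'))) hvw
    have h3 : v * w * w' * (v * w)⁻¹ * w'⁻¹ = a := by
      have h4 := h.eW.comm hw hw'
      calc v * w * w' * (v * w)⁻¹ * w'⁻¹ = v * (w * w') * w⁻¹ * v⁻¹ * w'⁻¹ := by group
        _ = v * (w' * w) * w⁻¹ * v⁻¹ * w'⁻¹ := by rw [h4]
        _ = v * w' * v⁻¹ * w'⁻¹ := by group
        _ = a := he
    rwa [h3] at h2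

/-- the case `|U ∩ V| = 8`, `U ≤ B` -/
theorem not_le_aux (hG : OddCyc G) (h : Sit S B V W Z x) (hu : UD S Z U z y) (hUB : U ≤ B)
    (hE : ¬ U ⊓ V ≤ Z) : False := by
  have hZU := hu.Z_le h
  set E := U ⊓ V with hEd
  set E' := U ⊓ W with hEd'
  have hZE : Z ≤ E := le_inf hZU h.ZV
  have hZE' : Z ≤ E' := le_inf hZU h.ZW
  have hE8 : Nat.card E = 8 := by
    have h1 : E < V := lt_of_le_of_ne inf_le_right fun he => hu.not_V_le hG h (by rw [← he]; exact inf_le_left)
    have h2 : Z < E := lt_of_le_not_ge hZE hE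
    have h3 := card_of_lt h1
    have h4 := card_of_lt h2
    rw [h.cV] at h3
    rw [h.cZ] at h4
    omega
  have hE'8 : Nat.card E' ≤ 8 := by
    have h1 : E' < W := lt_of_le_of_ne inf_le_right
      fun he => hu.not_V_le hG h.symm (by rw [← he]; exact inf_le_left)
    have h3 := card_of_lt h1
    rw [h.cW] at h3
    omega
  have hEE : Elem E := fun e he => h.eV e he.2
  have hEE' : Elem E' := fun e he => h.eW e he.2
  have hEU : E ≤ U := inf_le_left
  have hE'U : E' ≤ U := inf_le_left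
  -- `y` permutes the elementary abelian subgroups of order 8 of `U`
  have key : ∀ A : Subgroup G, A ≤ U → Elem A → Nat.card A = 8 → cj y A = E ∨ cj y A = E' := by
    intro A hA hAE hc
    have h1 : cj y A ≤ U := by
      rw [← hu.cjU hu.y_mem]; exact cj_mono hA
    rcases h.sub_or (h1.trans hUB) (CaseABase.elem_cj hAE) with h2 | h2
    · exact Or.inl (Subgroup.eq_of_le_of_card_ge (le_inf h1 h2) (by rw [card_cj, hc, hE8]))
    · exact Or.inr (Subgroup.eq_of_le_of_card_ge (le_inf h1 h2) (by rw [card_cj, hc]; exact hE'8))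
  have hyE : cj y E = E := by
    refine cj_eq_of_pair hu.y3 (key E hEU hEE hE8) fun h2 => key E' hE'U hEE' ?_
    rw [← h2, card_cj, hE8]
  -- `C_G(E)` is a 2-group
  obtain ⟨e, heE, heZ⟩ := SetLike.not_le_iff_exists.1 hE
  set D := centralizer (E : Set G) with hD
  have hf : Fact (Nat.Prime 2) := ⟨Nat.prime_two⟩
  have hD2 : IsPGroup 2 D := by
    apply CaseABase.isPGroup_two_of_forall
    intro r hr hr2 d hd hdr
    have hdz : d ∈ centralizer ({z} : Set G) := mem_centralizer_singleton_iff.2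
      ((mem_centralizer_iff.1 hd z (hZE hu.cen.mem)).symm)
    have hdE : ∀ c ∈ E, d * c = c * d := fun c hc => (mem_centralizer_iff.1 hd c hc).symm
    have h1 : zpowers d ≤ centralizer (U : Set G) := by
      apply Cfsg.Agent.Lib.ThompsonPQ.thompson_p_times_q 2 E (zpowers d) U
      · exact hu.o2.two.to_le hEU
      · rw [Nat.card_zpowers, hdr]
        exact (Nat.coprime_primes hr Nat.prime_two).2 hr2
      · exact hu.o2.two
      · intro c hc
        rw [mem_centralizer_iff]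
        rintro _ ⟨n, rfl⟩
        exact ((show Commute d c from hdE c hc).zpow_left n).eq
      · exact fun c hc => le_normalizer (hEU hc)
      · rw [zpowers_le]
        exact mem_normalizer_of_forall fun u hu' => hu.conjU hdz hu'
      · rintro u ⟨huU, huE⟩
        have h2 : u ∈ V := h.mem_V_of_comm heE.2 heZ (hUB huU) ((mem_centralizer_iff.1 huE e heE).symm)
        rw [mem_centralizer_iff]
        rintro _ ⟨n, rfl⟩
        exact ((show Commute d u from hdE u ⟨huU, h2⟩).zpow_left n).eq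
    have h2 : d ∈ U := hu.self (h1 (mem_zpowers d))
    obtain ⟨k, hk⟩ := CaseABase.mem_of_pow_two hu.o2.two h2
    have h3 := orderOf_dvd_of_pow_eq_one hk
    rw [hdr] at h3
    exact hr2 ((Nat.prime_dvd_prime_iff_eq hr Nat.prime_two).1 (hr.dvd_of_dvd_pow h3))
  have hVD : V ≤ D := fun v hv => mem_centralizer_iff.2 fun c hc => h.eV.comm hc.2 hv
  have hyD : cj y D = D := by rw [hD, cj_centralizer, hyE]
  -- the elementary abelian subgroups of order 16 of `D`
  obtain ⟨Q, hQ, hDQ⟩ := exists_isSyl2 ⊤ D le_top hD2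
  obtain ⟨m, -, hm⟩ := CITBasic.IsSyl2.conj h.syl hQ
  have hm' : cj m S = Q := hm.symm
  have key2 : ∀ A : Subgroup G, A ≤ D → Elem A → Nat.card A = 16 → A = cj m V ∨ A = cj m W := by
    intro A hA hAE hc
    have h1 : cj m⁻¹ A ≤ S := by
      have := cj_mono (g := m⁻¹) (hA.trans hDQ)
      rwa [← hm', cj_inv_cj] at this
    rcases h.eq_or_S h1 (CaseABase.elem_cj hAE) (by rw [card_cj, hc]) with h2 | h2
    · left; rw [← h2, cj_cj_inv]
    · right; rw [← h2, cj_cj_inv]
  have key3 : ∀ A : Subgroup G, A ≤ D → Elem A → Nat.card A = 16 → cj y A = cj m V ∨ cj y A = cj m W := by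
    intro A hA hAE hc
    refine key2 _ ?_ (CaseABase.elem_cj hAE) (by rw [card_cj, hc])
    rw [← hyD]; exact cj_mono hA
  have hyV : cj y V = V := by
    rcases key2 V hVD h.eV h.cV with h1 | h1
    · refine cj_eq_of_pair (A' := cj m W) hu.y3 ?_ fun h2 => ?_
      · have := key3 V hVD h.eV h.cV
        rwa [← h1] at this
      · have h3 : cj m W ≤ D := by rw [← h2, ← hyD]; exact cj_mono hVD
        have := key3 _ h3 (CaseABase.elem_cj h.eW) (by rw [card_cj, h.cW])
        rwa [← h1] at this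
    · refine cj_eq_of_pair (A' := cj m V) hu.y3 ?_ fun h2 => ?_
      · have := key3 V hVD h.eV h.cV
        rw [← h1] at this
        exact this.symm
      · have h3 : cj m V ≤ D := by rw [← h2, ← hyD]; exact cj_mono hVD
        have := key3 _ h3 (CaseABase.elem_cj h.eV) (by rw [card_cj, h.cV])
        rw [← h1] at this
        exact this.symm
  exact hu.cen.ne (h.fpf hG hu.y3 hyV (h.ZV hu.cen.mem) hu.yz)

/-- `U ≰ B` -/
theorem not_le (hG : OddCyc G) (h : Sit S B V W Z x) (hu : UD S Z U z y) : ¬ U ≤ B := by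
  intro hUB
  by_cases hE : U ⊓ V ≤ Z
  · by_cases hE' : U ⊓ W ≤ Z
    · apply hu.not_cjZ hG h
      apply Subgroup.eq_of_le_of_card_ge
      · rintro _ ⟨a, ha, rfl⟩
        have h1 : y * a * y⁻¹ ∈ U := hu.conjU hu.y_mem (hu.Z_le h ha)
        have h2 : (y * a * y⁻¹) * (y * a * y⁻¹) = 1 := by
          calc (y * a * y⁻¹) * (y * a * y⁻¹) = y * (a * a) * y⁻¹ := by group
            _ = 1 := by rw [h.eZ a ha]; group
        rcases h.invo (hUB h1) h2 with h3 | h3
        · exact hE ⟨h1, h3⟩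
        · exact hE' ⟨h1, h3⟩
      · rw [card_cj]
    · exact hu.not_le_aux hG h.symm hUB hE'
  · exact hu.not_le_aux hG h hUB hE

end UD

end Cfsg.Agent.OddCyclic.AOneSit
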