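import Cfsg.Agent.OddCyclic.APQBlk

/-!
# S0342, case C2: the graph argument for two dihedral blocks

Two commuting dihedral blocks `L`, `L'` over `B`, without a common nontrivial normal subgroup inside `B`: there is an
index `i` with `[V_j, B] ≤ R_i`, `L_i` normalises `V_i V_j`, and `B = Q_i Q_j`.
-/

set_option autoImplicit false

namespace Cfsg.Agent.OddCyclic.APQ

open Subgroup Pointwise Cfsg Cfsg.Agent.ZN Cfsg.Agent.MinSimple
open scoped commutatorElement

universe u

variable {G : Type u} [Group G] [Finite G]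

/-- **the graph argument** for two dihedral blocks -/
theorem graph_dd {B L L' : Subgroup G} {k k' : ℕ} (h : IsDBlk B L k) (h' : IsDBlk B L' k')
    (core : ∀ N : Subgroup G, N ≤ B → L ≤ normalizer (N : Set G) → L' ≤ normalizer (N : Set G) → N = ⊥)
    (hc : ∀ x ∈ zl B L, ∀ y ∈ zl B L', x * y = y * x) :
    ((∀ x ∈ zl B L', ∀ b ∈ B, x * b * x⁻¹ * b⁻¹ ∈ rl B L) ∧
        L ≤ normalizer ((zl B L ⊔ zl B L' : Subgroup G) : Set G) ∧ B ≤ o2 L ⊔ o2 L') ∨
      ((∀ x ∈ zl B L, ∀ b ∈ B, x * b * x⁻¹ * b⁻¹ ∈ rl B L') ∧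
        L' ≤ normalizer ((zl B L' ⊔ zl B L : Subgroup G) : Set G) ∧ B ≤ o2 L' ⊔ o2 L) := by
  have hB := bk_of_dblk h
  have hB' := bk_of_dblk h'
  have hinf : L ⊓ L' = B := DBlkApi.inf_eq h h' core
  have key := bk_main (P := fun i => cond i L' L) (Q := fun i => cond i (o2 L') (o2 L))
    (V := fun i => cond i (zl B L') (zl B L)) (R := fun i => cond i (rl B L') (rl B L)) (B := B) (Z := zc B) (by
      intro i
      cases i
      · exact hB
      · exact hB') h.two (fun x hx hx' _ => by rw [← hinf]; exact ⟨hx, hx'⟩)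
      (fun N h1 h2 h3 h4 => core N (by rw [← hinf]; exact le_inf h1 h2) h3 h4) hc
  obtain ⟨i, h4, h5, h6⟩ := key
  cases i
  · left; exact ⟨h4, h5, h6⟩
  · right; exact ⟨h4, h5, h6⟩

end Cfsg.Agent.OddCyclic.APQ
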