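import Mathlib
import Cfsg.Prelude.Def_Local
import Cfsg.Agent.Lib.Cores
import Cfsg.Agent.OddCyclic.T1Defs
import Cfsg.Agent.OddCyclic.T1SzComp
import Cfsg.Agent.S0542
import Cfsg.Agent.ThreePrime.SzDataExists

/-!
# S0342, T₀ = 1, section 4.0: the structure of `P₂/Q₂`, abstractly
-/

set_option autoImplicit false

namespace Cfsg.Agent.OddCyclic.T1MinParAbs

open Cfsg Subgroup
open Cfsg.Agent.OddCyclic.T1Defs Cfsg.Agent.OddCyclic.T1SzComp
open Cfsg.Agent.Lib.Cores

universe u

variable {H : Type u} [Group H] [Finite H]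

/-- if `E` is a normal Suzuki subgroup with trivial centre and `H = E T` then `H = E` -/
theorem eq_top_of_suzuki (hO : pCore 2 H = ⊥) {T : Subgroup H} (hT : IsPGroup 2 T) {E : Subgroup H} (hE : E.Normal)
    (hz : center E = ⊥) (hs : Cfsg.Lie.IsoSuzuki E) (htop : E ⊔ T = ⊤) : E = ⊤ := by
  let P : Sylow 2 E := default
  obtain ⟨D, hD⟩ := Cfsg.Agent.ThreePrime.SzRel.exists_szData hs P
  let C : Subgroup H := centralizer (E : Set H)
  have hC : C.Normal := inferInstance
  have hCE : ∀ x ∈ C, x ∈ E → x = 1 := by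
    intro x hx hxE
    have : (⟨x, hxE⟩ : E) ∈ center E := by
      rw [mem_center_iff]
      intro g
      apply Subtype.ext
      exact mem_centralizer_iff.1 hx g g.2
    rw [hz, mem_bot] at this
    exact congrArg Subtype.val this
  have hTle : T ≤ E ⊔ C := by
    intro t ht
    obtain ⟨n, hn⟩ := hT ⟨t, ht⟩
    have hn' : t ^ 2 ^ n = 1 := congrArg Subtype.val hn
    obtain ⟨j, hj⟩ := hD.inner (MulAut.conjNormal t) ⟨n, by rw [← map_pow, hn', map_one]⟩
    have h1 : (j : H)⁻¹ * t ∈ C := by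
      rw [mem_centralizer_iff]
      intro g hg
      have h2 : ((MulAut.conjNormal t : MulAut E) ⟨g, hg⟩ : H) = ((MulAut.conj j ⟨g, hg⟩ : E) : H) := by rw [hj]
      rw [MulAut.conjNormal_apply] at h2
      have h3 : t * g * t⁻¹ = (j : H) * g * (j : H)⁻¹ := h2
      have h4 : (j : H)⁻¹ * (t * g * t⁻¹) * t = g * ((j : H)⁻¹ * t) := by rw [h3]; group
      rw [← h4]; group
    have h5 : t = j * ((j : H)⁻¹ * t) := by group
    rw [h5]
    exact mul_mem (le_sup_left (a := E) j.2) (le_sup_right (b := C) h1)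
  have hCtwo : IsPGroup 2 C := by
    rintro ⟨c, hc⟩
    have h1 : c ∈ E ⊔ T := by rw [htop]; exact mem_top _
    rw [← SetLike.mem_coe, normal_mul, Set.mem_mul] at h1
    obtain ⟨e, he, t, ht, rfl⟩ := h1
    obtain ⟨n, hn⟩ := hT ⟨t, ht⟩
    have hn' : t ^ 2 ^ n = 1 := congrArg Subtype.val hn
    refine ⟨n, Subtype.ext ?_⟩
    show (e * t) ^ 2 ^ n = 1
    apply hCE _ (pow_mem hc _)
    rw [← QuotientGroup.eq_one_iff, QuotientGroup.mk_pow, QuotientGroup.mk_mul,
      (QuotientGroup.eq_one_iff e).2 he, one_mul, ← QuotientGroup.mk_pow, hn', QuotientGroup.mk_one]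
  have hC1 : C = ⊥ := by
    rw [← le_bot_iff, ← hO]
    exact le_pCore hC hCtwo
  rw [hC1, sup_bot_eq] at hTle
  rwa [sup_eq_left.2 hTle] at htop

/-- the conclusion (R) abstractly -/
structure RAbs (T : Subgroup H) (p : ℕ) (R : Subgroup H) : Prop where
  prime : p.Prime
  five : 5 ≤ p
  two : IsPGroup p R
  ne : R ≠ ⊥
  cyc : IsCyclic R
  normal : R.Normal
  top : R ⊔ T = ⊤
  cycT : IsCyclic T
  cent : centralizer (R : Set H) ≤ R
  inv : ∀ t ∈ T, t ≠ 1 → t * t = 1 → ∀ x ∈ R, t * x * t⁻¹ = x⁻¹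

theorem isCyclic_mulAut {R : Type*} [Group R] [Finite R] (hR : IsCyclic R) {p : ℕ} (hp : p.Prime) (hp2 : p ≠ 2)
    (h : IsPGroup p R) : IsCyclic (MulAut R) := by
  have : Fact p.Prime := ⟨hp⟩
  obtain ⟨n, hn⟩ := h.exists_card_eq
  have e := IsCyclic.mulAutMulEquiv R
  rw [hn] at e
  have := ZMod.isCyclic_units_of_prime_pow p hp hp2 n
  exact isCyclic_of_surjective e.symm e.symm.surjective

omit [Finite H] in
theorem commutator_le {F : Subgroup H} [F.Normal] (hF : IsCyclic F) (hc : centralizer (F : Set H) ≤ F) (a b : H) :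
    a * b * a⁻¹ * b⁻¹ ∈ F := by
  apply hc
  have hcomm : ∀ φ ψ : MulAut F, φ * ψ = ψ * φ := by
    intro φ ψ
    apply (IsCyclic.mulAutMulEquiv F).injective
    rw [map_mul, map_mul, mul_comm]
  rw [mem_centralizer_iff]
  intro x hx
  have h1 : (MulAut.conjNormal (a * b * a⁻¹ * b⁻¹) : MulAut F) = 1 := by
    rw [map_mul, map_mul, map_mul, hcomm (MulAut.conjNormal a), map_inv, map_inv]
    group
  have h2 : ((MulAut.conjNormal (a * b * a⁻¹ * b⁻¹) : MulAut F) ⟨x, hx⟩ : H) = x := by rw [h1]; rfl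
  rw [MulAut.conjNormal_apply] at h2
  exact (mul_inv_eq_iff_eq_mul.1 h2).symm

theorem isSylow_inf_ne_bot {T : Subgroup H} (hT : ∃ P : Sylow 2 H, (P : Subgroup H) = T) {E : Subgroup H}
    (hE : E.Normal) (h2 : 2 ∣ Nat.card E) : E ⊓ T ≠ ⊥ := by
  have : Fact (Nat.Prime 2) := ⟨Nat.prime_two⟩
  obtain ⟨P, rfl⟩ := hT
  obtain ⟨Q, hQ⟩ := Cfsg.Agent.S0542.result 2 E hE.isSubnormal P
  intro h
  have h1 : (Q : Subgroup E) = ⊥ := by
    rw [hQ, eq_bot_iff]
    intro x hx
    have : (x : H) ∈ E ⊓ (P : Subgroup H) := ⟨x.2, mem_subgroupOf.1 hx⟩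
    rw [h, mem_bot] at this
    rw [mem_bot]
    exact Subtype.ext this
  exact Q.ne_bot_of_dvd_card h2 h1

/-- the abstract structure theorem -/
theorem structure_abs (hO : pCore 2 H = ⊥) (hc : OddCyc H) (hK : KSec H) (h3 : ¬ 3 ∣ Nat.card H) {T : Subgroup H}
    (hT : ∃ P : Sylow 2 H, (P : Subgroup H) = T) (hT1 : T ≠ ⊥)
    (hdich : ∀ N : Subgroup H, N.Normal → N ⊓ T = ⊥ ∨ N ⊔ T = ⊤)
    {M : Subgroup H} (hM : M ≠ ⊤) (hmin : ∀ K : Subgroup H, T ≤ K → K ≠ ⊤ → K ≤ M) :
    (∃ p R, RAbs T p R) ∨ Cfsg.Lie.IsoSuzuki H := by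
  have hf2 : Fact (Nat.Prime 2) := ⟨Nat.prime_two⟩
  have hTp : IsPGroup 2 T := by
    obtain ⟨P, rfl⟩ := hT
    exact P.isPGroup'
  have hTtop : T ≠ ⊤ := by
    rintro rfl
    have h1 : pCore 2 H = ⊤ := (pCore_eq_top_iff 2).2 (hTp.of_equiv topEquiv)
    rw [hO] at h1
    exact hT1 h1.symm
  rcases layer_or hO hc hK h3 with hl | ⟨E, hE, hz, hs⟩
  · left
    -- no component
    set F := fittingSubgroup H with hF
    have hFn : F.Normal := fittingSubgroup_normal
    have hFc : IsCyclic F := fitting_cyclic hO hc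
    have hFcent : centralizer (F : Set H) ≤ F := centralizer_fitting_le hl
    have hFodd : Odd (Nat.card F) := Cfsg.Agent.LieExceptional.CITSylow.odd_card_fitting hO
    have hFTn : (F ⊔ T).Normal := by
      refine ⟨fun n hn g => ?_⟩
      have h1 : g * n * g⁻¹ = (g * n * g⁻¹ * n⁻¹) * n := by group
      rw [h1]
      exact mul_mem (le_sup_left (a := F) (commutator_le hFc hFcent g n)) hn
    have hFT : F ⊔ T = ⊤ := by
      rcases hdich _ hFTn with h | h
      · rw [inf_eq_right.2 le_sup_right] at h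
        exact absurd h hT1
      · rwa [sup_assoc, sup_idem] at h
    have hTM : T ≤ M := hmin T le_rfl hTtop
    obtain ⟨p, hpT⟩ : ∃ p : Nat.Primes, pCore (p : ℕ) H ⊔ T = ⊤ := by
      by_contra hcon
      push Not at hcon
      apply hM
      rw [← top_le_iff, ← hFT]
      refine sup_le ?_ hTM
      rw [hF, fittingSubgroup_eq_iSup_pCore]
      exact iSup_le fun p => le_sup_left.trans (hmin _ le_sup_right (hcon p))
    obtain ⟨p, hp⟩ := p
    have hfp : Fact p.Prime := ⟨hp⟩
    change pCore p H ⊔ T = ⊤ at hpT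
    have hRne : pCore p H ≠ ⊥ := by
      intro h
      rw [h, bot_sup_eq] at hpT
      exact hTtop hpT
    have hp2 : p ≠ 2 := by
      rintro rfl
      exact hRne hO
    have hRp : IsPGroup p (pCore p H) := pCore_isPGroup p
    have hp3 : p ≠ 3 := by
      rintro rfl
      obtain ⟨n, hn⟩ := hRp.exists_card_eq
      have hn0 : n ≠ 0 := by
        rintro rfl
        rw [pow_zero] at hn
        exact hRne (card_eq_one.1 hn)
      exact h3 ((hn ▸ dvd_pow_self 3 hn0).trans (card_subgroup_dvd_card _))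
    have hp5 : 5 ≤ p := by
      have h1 := hp.two_le
      by_contra h
      have h4 : p = 4 := by omega
      rw [h4] at hp
      exact absurd hp (by norm_num)
    have hRF : pCore p H ≤ F := pCore_le_fittingSubgroup p
    have hFR : F ≤ pCore p H := by
      intro f hf
      have h1 : f ∈ pCore p H ⊔ T := by rw [hpT]; exact mem_top _
      rw [← SetLike.mem_coe, normal_mul, Set.mem_mul] at h1
      obtain ⟨e, he, t, ht, rfl⟩ := h1
      obtain ⟨n, hn⟩ := hTp ⟨t, ht⟩
      have hn' : t ^ 2 ^ n = 1 := congrArg Subtype.val hn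
      have h4 : (e * t) ^ 2 ^ n ∈ pCore p H := by
        rw [← QuotientGroup.eq_one_iff, QuotientGroup.mk_pow, QuotientGroup.mk_mul,
          (QuotientGroup.eq_one_iff e).2 he, one_mul, ← QuotientGroup.mk_pow, hn', QuotientGroup.mk_one]
      have h5 : (e * t) ^ Nat.card F = 1 := by
        have := pow_card_eq_one' (x := (⟨e * t, hf⟩ : F))
        exact congrArg Subtype.val this
      -- in the quotient
      rw [← QuotientGroup.eq_one_iff] at h4 ⊢
      refine Cfsg.Agent.LieExceptional.CITSylow.eq_one_of_coprime_pow (m := 2 ^ n) (n := Nat.card F)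
        (Nat.Coprime.pow_left n ((Nat.coprime_two_left).2 hFodd)) ?_ ?_
      · rw [← QuotientGroup.mk_pow]; exact h4
      · rw [← QuotientGroup.mk_pow, h5, QuotientGroup.mk_one]
    have hRFe : F = pCore p H := le_antisymm hFR hRF
    set R := pCore p H with hR
    have hRc : IsCyclic R := hRFe ▸ hFc
    have hRcent : centralizer (R : Set H) ≤ R := hRFe ▸ hFcent
    have hAc : IsCyclic (MulAut R) := isCyclic_mulAut hRc hp hp2 hRp
    have hRT : ∀ x ∈ R, x ∈ T → x = 1 := by
      intro x hxR hxT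
      obtain ⟨a, ha⟩ := hRp ⟨x, hxR⟩
      obtain ⟨b, hb⟩ := hTp ⟨x, hxT⟩
      exact Cfsg.Agent.LieExceptional.CITSylow.eq_one_of_coprime_pow (m := p ^ a) (n := 2 ^ b)
        (Nat.Coprime.pow _ _ ((Nat.coprime_primes hp Nat.prime_two).2 hp2)) (congrArg Subtype.val ha)
        (congrArg Subtype.val hb)
    let φ : T →* MulAut R := (MulAut.conjNormal : H →* MulAut R).comp T.subtype
    have hφ : Function.Injective φ := by
      rw [injective_iff_map_eq_one]
      rintro ⟨t, ht⟩ h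
      apply Subtype.ext
      refine hRT t (hRcent ?_) ht
      rw [mem_centralizer_iff]
      intro x hx
      have h2 : ((MulAut.conjNormal t : MulAut R) ⟨x, hx⟩ : H) = x := by
        have : (MulAut.conjNormal t : MulAut R) = 1 := h
        rw [this]; rfl
      rw [MulAut.conjNormal_apply] at h2
      exact (mul_inv_eq_iff_eq_mul.1 h2).symm
    refine ⟨p, R, hp, hp5, hRp, hRne, hRc, Cfsg.Agent.Lib.Cores.pCore_normal p, hpT, isCyclic_of_injective φ hφ, hRcent, ?_⟩
    -- involutions invert `R`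
    intro t ht ht1 htt x hx
    have hRcomm : ∀ a b : R, a * b = b * a := fun a b => (IsCyclic.isMulCommutative (α := R)).is_comm.comm a b
    let ι : MulAut R :=
      { toFun := fun y => y⁻¹
        invFun := fun y => y⁻¹
        left_inv := fun y => inv_inv y
        right_inv := fun y => inv_inv y
        map_mul' := fun a b => by rw [_root_.mul_inv_rev, hRcomm] }
    have hι2 : ι * ι = 1 := by
      ext y
      show ((y⁻¹)⁻¹ : R).1 = y
      rw [inv_inv]
    have hι1 : ι ≠ 1 := by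
      intro h
      apply hRne
      rw [eq_bot_iff]
      intro y hy
      have h1 : (⟨y, hy⟩ : R)⁻¹ = ⟨y, hy⟩ := congrArg (fun f : MulAut R => f ⟨y, hy⟩) h
      have h2 : y⁻¹ = y := congrArg Subtype.val h1
      obtain ⟨a, ha⟩ := hRp ⟨y, hy⟩
      rw [mem_bot]
      refine Cfsg.Agent.LieExceptional.CITSylow.eq_one_of_coprime_pow (m := p ^ a) (n := 2)
        (Nat.Coprime.pow_left _ ((Nat.coprime_primes hp Nat.prime_two).2 hp2)) (congrArg Subtype.val ha) ?_
      rw [pow_two]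
      nth_rewrite 1 [← h2]
      exact inv_mul_cancel y
    have hφt : φ ⟨t, ht⟩ ≠ 1 := by
      intro h
      apply ht1
      have := hφ (h.trans (map_one φ).symm)
      exact congrArg Subtype.val this
    have hφt2 : φ ⟨t, ht⟩ * φ ⟨t, ht⟩ = 1 := by
      rw [← map_mul]
      have : (⟨t, ht⟩ : T) * ⟨t, ht⟩ = 1 := Subtype.ext htt
      rw [this, map_one]
    have ho1 : orderOf ι = 2 := orderOf_eq_prime (by rw [pow_two, hι2]) hι1
    have ho2 : orderOf (φ ⟨t, ht⟩) = 2 := orderOf_eq_prime (by rw [pow_two, hφt2]) hφt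
    have htopc : IsCyclic (⊤ : Subgroup (MulAut R)) :=
      isCyclic_of_surjective (topEquiv (G := MulAut R)).symm (topEquiv (G := MulAut R)).symm.surjective
    obtain ⟨k, hk⟩ := mem_zpowers_of_cyclic htopc (mem_top (φ ⟨t, ht⟩)) (mem_top ι) (ho2.trans ho1.symm)
    have heq : φ ⟨t, ht⟩ = ι := by
      change ι ^ k = φ ⟨t, ht⟩ at hk
      rcases Int.even_or_odd' k with ⟨l, rfl | rfl⟩
      · exfalso
        apply hφt
        rw [← hk, zpow_mul, zpow_ofNat, pow_two, hι2, one_zpow]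
      · rw [← hk, zpow_add, zpow_mul, zpow_ofNat, pow_two, hι2, one_zpow, one_mul, zpow_one]
    have h1 : ((φ ⟨t, ht⟩ ⟨x, hx⟩ : R) : H) = x⁻¹ := by rw [heq]; rfl
    have h2 : ((φ ⟨t, ht⟩ ⟨x, hx⟩ : R) : H) = t * x * t⁻¹ := MulAut.conjNormal_apply _ _
    rw [← h2, h1]
  · right
    have h2E : 2 ∣ Nat.card E := by
      obtain ⟨F, iF, iFin, m, hm, hF, ⟨e⟩⟩ := hs
      rw [Nat.card_congr e.toEquiv, (Cfsg.Agent.S1163.result hm hF).1]
      have : 2 ∣ (2 ^ (2 * m + 1)) ^ 2 := dvd_pow (dvd_pow_self 2 (by omega)) (by norm_num)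
      exact Dvd.dvd.mul_right (Dvd.dvd.mul_right this _) _
    have h1 : E ⊔ T = ⊤ := by
      rcases hdich E hE with h | h
      · exact absurd h (isSylow_inf_ne_bot hT hE h2E)
      · exact h
    have h2 := eq_top_of_suzuki hO hTp hE hz hs h1
    subst h2
    exact Cfsg.Agent.ThreePrime.ACFacts.isoSuzuki_of_equiv (topEquiv (G := H)).symm hs

end Cfsg.Agent.OddCyclic.T1MinParAbs
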