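import Mathlib
import Cfsg.Prelude.Def_CaseTheorems
import Cfsg.Agent.LieExceptional.CITBasic
import Cfsg.Agent.OddCyclic.T1Defs
import Cfsg.Agent.OddCyclic.T1MinParAbs
import Cfsg.Agent.OddCyclic.T1SzComp
import Cfsg.Agent.S0542
import Cfsg.Agent.ThreePrime.SzDataExists

/-!
# S0342, T₀ = 1, section 4.0: the minimal parabolic subgroup `P₂`
-/

set_option autoImplicit false

namespace Cfsg.Agent.OddCyclic.T1MinPar

open Cfsg Subgroup
open Cfsg.Agent.LieExceptional.CITDefs Cfsg.Agent.OddCyclic.T1Defs Cfsg.Agent.OddCyclic.T1SzComp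

universe u

/-! ## transport of the hypotheses to sections -/

theorem K1.of_equiv {K L : Type*} [Group K] [Group L] (e : K ≃* L) (h : K1 L) : K1 K := by
  rcases h with ⟨F, iF, iF', h1, h2, ⟨f⟩⟩ | ⟨F, iF, iF', f, h1, h2, ⟨g⟩⟩ | h | ⟨g, hg⟩
  · exact Or.inl ⟨F, iF, iF', h1, h2, ⟨e.trans f⟩⟩
  · exact Or.inr (Or.inl ⟨F, iF, iF', f, h1, h2, ⟨e.trans g⟩⟩)
  · exact Or.inr (Or.inr (Or.inl (Cfsg.Agent.ThreePrime.ACFacts.isoSuzuki_of_equiv e h)))
  · exact Or.inr (Or.inr (Or.inr ⟨e.symm g, by rw [MulEquiv.orderOf_eq, hg]⟩))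

theorem oddCyc_subgroup {G : Type*} [Group G] [Finite G] (hc : OddCyc G) (M : Subgroup G) : OddCyc M := by
  intro p P hp h2
  have := isCyclic_of_oddCyc hc hp h2 (P.isPGroup'.map M.subtype)
  have e := (P : Subgroup M).equivMapOfInjective M.subtype M.subtype_injective
  exact isCyclic_of_surjective e.symm e.symm.surjective

theorem oddCyc_surj {A B : Type*} [Group A] [Group B] [Finite A] (f : A →* B) (hf : Function.Surjective f)
    (hc : OddCyc A) : OddCyc B := by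
  intro p P hp h2
  have : Fact p.Prime := ⟨hp⟩
  obtain ⟨Q, rfl⟩ := Sylow.mapSurjective_surjective hf p P
  have := hc p Q hp h2
  exact isCyclic_of_surjective _ (f.subgroupMap_surjective Q)

/-- sections of proper subgroups -/
theorem kSec_of_surj {G : Type u} [Group G] [Finite G] (hG : KProper G) {M : Subgroup G} (hM : M ≠ ⊤) {B : Type u}
    [Group B] (f : M →* B) (hf : Function.Surjective f) : KSec B := by
  intro A N hN hs hab
  let A' : Subgroup G := (A.comap f).map M.subtype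
  let e : A.comap f ≃* A' := (A.comap f).equivMapOfInjective M.subtype M.subtype_injective
  let g₀ : A.comap f →* A := f.subgroupComap A
  have hg₀ : Function.Surjective g₀ := MonoidHom.subgroupComap_surjective_of_surjective f A hf
  let g : A' →* A ⧸ N := ((QuotientGroup.mk' N).comp g₀).comp e.symm.toMonoidHom
  have hg : Function.Surjective g :=
    ((QuotientGroup.mk'_surjective N).comp hg₀).comp e.symm.surjective
  have hA' : A' ≠ ⊤ := fun h => hM (top_le_iff.1 (h ▸ map_subtype_le _))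
  let ε : A' ⧸ g.ker ≃* A ⧸ N := QuotientGroup.quotientKerEquivOfSurjective g hg
  have h1 : IsSimpleGroup (A' ⧸ g.ker) := (MulEquiv.isSimpleGroup_congr ε).mpr hs
  obtain ⟨a, b, hne⟩ := hab
  have h2 := hG A' hA' g.ker h1 ⟨ε.symm a, ε.symm b, fun h => hne (by
    have := congrArg ε h
    simpa using this)⟩
  exact K1.of_equiv ε.symm h2

variable {G : Type u} [Group G] [Finite G]

/-! ## the dichotomy -/

theorem frattini {P N S : Subgroup G} (hS : IsSyl2 P S) (hN : NormalIn P N) {g : G} (hg : g ∈ P) :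
    ∃ n ∈ N, ∃ k ∈ P, (∀ x, x ∈ N ⊓ S ↔ k * x * k⁻¹ ∈ N ⊓ S) ∧ g = k * n := by
  have : Fact (Nat.Prime 2) := ⟨Nat.prime_two⟩
  have hNn : (N.subgroupOf P).Normal := by
    refine ⟨fun n hn g => ?_⟩
    rw [mem_subgroupOf] at hn ⊢
    exact hN.2 g g.2 n hn
  let S' : Sylow 2 P := Cfsg.Agent.LieExceptional.CITBasic.IsSyl2.toSylow hS
  have hS' : (S' : Subgroup P) = S.subgroupOf P := rfl
  obtain ⟨R, hR⟩ := Cfsg.Agent.S0542.result 2 (N.subgroupOf P) hNn.isSubnormal S'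
  have hmap : (R : Subgroup (N.subgroupOf P)).map (N.subgroupOf P).subtype = (N ⊓ S).subgroupOf P := by
    rw [hR, hS', subgroupOf_map_subtype]
    ext x
    rw [mem_inf, mem_subgroupOf, mem_subgroupOf, mem_subgroupOf, mem_inf, and_comm]
  have htop := Sylow.normalizer_sup_eq_top R
  rw [hmap] at htop
  have h1 : (⟨g, hg⟩ : P) ∈ normalizer (((N ⊓ S).subgroupOf P : Subgroup P) : Set P) ⊔ N.subgroupOf P := by
    rw [htop]; exact mem_top _
  rw [← SetLike.mem_coe, mul_normal, Set.mem_mul] at h1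
  obtain ⟨k, hk, n, hn, hkn⟩ := h1
  refine ⟨n, mem_subgroupOf.1 hn, k, k.2, ?_, (congrArg Subtype.val hkn).symm⟩
  intro x
  rw [SetLike.mem_coe, mem_normalizer_iff] at hk
  constructor
  · intro hx
    have hxP : x ∈ P := hN.1 hx.1
    have := (hk ⟨x, hxP⟩).1 (mem_subgroupOf.2 hx)
    exact mem_subgroupOf.1 this
  · intro hx
    have hxP : x ∈ P := by
      have h2 : k * x * (k : G)⁻¹ ∈ P := hN.1 hx.1
      have h3 := mul_mem (mul_mem (inv_mem k.2) h2) k.2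
      have h4 : (k : G)⁻¹ * (k * x * (k : G)⁻¹) * k = x := by group
      rwa [h4] at h3
    exact mem_subgroupOf.1 ((hk ⟨x, hxP⟩).2 (mem_subgroupOf.2 hx))

/-- (N) -/
theorem normal_dichotomy {M P Q S P₂ Q₂ : Subgroup G} {q : ℕ} (h : CaseII M P Q S P₂ Q₂ q) {N : Subgroup G}
    (hN : NormalIn P₂ N) : N ⊓ S ≤ Q₂ ∨ P₂ = N ⊔ S := by
  have hS : IsSyl2 P₂ S := ⟨h.le, h.sylow.two, fun Y _ h2 h3 => h.sylow.max Y le_top h2 h3⟩
  by_contra hcon
  push Not at hcon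
  obtain ⟨h1, h2⟩ := hcon
  have hNS : N ⊔ S ≤ M := h.min _ le_sup_right (sup_le hN.1 h.le) (Ne.symm h2)
  let K : Subgroup G := P₂ ⊓ normalizer ((N ⊓ S : Subgroup G) : Set G)
  have hSK : S ≤ K := by
    intro s hs
    refine ⟨h.le hs, ?_⟩
    change s ∈ normalizer ((N ⊓ S : Subgroup G) : Set G)
    rw [mem_normalizer_iff]
    intro x
    constructor
    · intro hx
      exact ⟨hN.2 s (h.le hs) x hx.1, S.mul_mem (S.mul_mem hs hx.2) (S.inv_mem hs)⟩
    · intro hx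
      have h4 : s⁻¹ * (s * x * s⁻¹) * s = x := by group
      refine ⟨?_, ?_⟩
      · have h5 := hN.2 s⁻¹ (inv_mem (h.le hs)) _ hx.1
        rwa [inv_inv, h4] at h5
      · have h5 := S.mul_mem (S.mul_mem (S.inv_mem hs) hx.2) hs
        rwa [h4] at h5
  have hK : K ≠ P₂ := by
    intro hK
    apply h1
    refine h.o2.max _ (inf_le_left.trans hN.1) (h.sylow.two.to_le inf_le_right) ?_
    intro m hm y hy
    have hm' : m ∈ K := hK ▸ hm
    exact (mem_normalizer_iff.1 hm'.2 y).1 hy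
  have hKM : K ≤ M := h.min _ hSK inf_le_left hK
  apply h.not_le
  intro g hg
  obtain ⟨n, hn, k, hk, hk2, rfl⟩ := frattini hS hN hg
  have hkK : k ∈ K := ⟨hk, mem_normalizer_iff.2 hk2⟩
  exact mul_mem (hKM hkK) (hNS (le_sup_left (a := N) hn))

/-! ## the quotient `P₂/Q₂` -/

omit [Finite G] in
theorem normal_subgroupOf {P Q : Subgroup G} (h : IsO2 P Q) : (Q.subgroupOf P).Normal := by
  refine ⟨fun n hn g => ?_⟩
  rw [mem_subgroupOf] at hn ⊢
  exact h.normal g g.2 n hn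

omit [Finite G] in
theorem isO2_le_sylow {P Q S : Subgroup G} (h : IsO2 P Q) (hS : IsSyl2 P S) : Q ≤ S := by
  have hn : S ≤ normalizer (Q : Set G) := by
    intro s hs
    rw [mem_normalizer_iff]
    intro x
    constructor
    · intro hx
      exact h.normal s (hS.le hs) x hx
    · intro hx
      have h1 := h.normal s⁻¹ (inv_mem (hS.le hs)) _ hx
      have h2 : s⁻¹ * (s * x * s⁻¹) * s⁻¹⁻¹ = x := by group
      rwa [h2] at h1
  have h1 : IsPGroup 2 (S ⊔ Q : Subgroup G) := IsPGroup.to_sup_of_normal_right' hS.two h.two hn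
  rw [← hS.max _ (sup_le hS.le h.le) h1 le_sup_left]
  exact le_sup_right

omit [Finite G] in
theorem pCore_quotient {P Q : Subgroup G} (h : IsO2 P Q) [(Q.subgroupOf P).Normal] :
    pCore 2 (P ⧸ Q.subgroupOf P) = ⊥ := by
  have h2 : IsPGroup 2 (Q.subgroupOf P) := h.two.comap_of_injective P.subtype P.subtype_injective
  have h1 := Cfsg.Agent.Lib.Cores.comap_mk_pCore 2 h2
  have h3 : pCore 2 P ≤ Q.subgroupOf P := by
    intro x hx
    have h4 : (pCore 2 P).map P.subtype ≤ Q := by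
      refine h.max _ (map_subtype_le _) ((Cfsg.Agent.Lib.Cores.pCore_isPGroup 2).map _) ?_
      rintro m hm _ ⟨y, hy, rfl⟩
      exact ⟨⟨m, hm⟩ * y * ⟨m, hm⟩⁻¹, (Cfsg.Agent.Lib.Cores.pCore_normal (G := P) 2).conj_mem y hy ⟨m, hm⟩, rfl⟩
    exact h4 ⟨x, hx, rfl⟩
  rw [← h1] at h3
  have h5 := Subgroup.map_mono (f := QuotientGroup.mk' (Q.subgroupOf P)) h3
  rw [map_comap_eq_self_of_surjective (QuotientGroup.mk'_surjective _)] at h5
  rw [eq_bot_iff]
  refine h5.trans ?_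
  rintro _ ⟨x, hx, rfl⟩
  rw [mem_bot]
  exact (QuotientGroup.eq_one_iff x).2 hx

/-- 4.0 -/
theorem minPar [IsSimpleGroup G] (hG : Hyp G) {M P Q S P₂ Q₂ : Subgroup G} {q : ℕ} (h : CaseII M P Q S P₂ Q₂ q) :
    (∃ p r, RType P₂ Q₂ S p r) ∨ SzType P₂ Q₂ := by
  have : Fact (Nat.Prime 2) := ⟨Nat.prime_two⟩
  have hS : IsSyl2 P₂ S := ⟨h.le, h.sylow.two, fun Y _ h2 h3 => h.sylow.max Y le_top h2 h3⟩
  have hn := normal_subgroupOf h.o2
  have hQS : Q₂ ≤ S := isO2_le_sylow h.o2 hS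
  have hSM : S ≤ M := h.t₁.syl.le
  have hSQ : ¬ S ≤ Q₂ := by
    intro hle
    have heq : S = Q₂ := le_antisymm hle hQS
    apply h.not_le
    intro g hg
    apply h.norm
    rw [mem_normalizer_iff]
    intro x
    constructor
    · intro hx
      rw [heq] at hx ⊢
      exact h.o2.normal g hg x hx
    · intro hx
      rw [heq] at hx ⊢
      have h1 := h.o2.normal g⁻¹ (inv_mem hg) _ hx
      have h2 : g⁻¹ * (g * x * g⁻¹) * g⁻¹⁻¹ = x := by group
      rwa [h2] at h1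
  have hPtop : P₂ ≠ ⊤ := by
    rintro rfl
    apply h.three
    rw [card_top]
    exact hG.three
  -- the quotient
  set H := P₂ ⧸ Q₂.subgroupOf P₂ with hH
  let π : P₂ →* H := QuotientGroup.mk' (Q₂.subgroupOf P₂)
  have hπ : Function.Surjective π := QuotientGroup.mk'_surjective _
  have hπ1 : ∀ x : P₂, π x = 1 ↔ (x : G) ∈ Q₂ := by
    intro x
    exact (QuotientGroup.eq_one_iff x).trans mem_subgroupOf
  let T : Subgroup H := (S.subgroupOf P₂).map π
  have hT : ∃ P : Sylow 2 H, (P : Subgroup H) = T := by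
    refine ⟨(Cfsg.Agent.LieExceptional.CITBasic.IsSyl2.toSylow hS).mapSurjective hπ, ?_⟩
    rw [Sylow.coe_mapSurjective]
    rfl
  have hmemT : ∀ x : P₂, π x ∈ T → (x : G) ∈ S := by
    rintro x ⟨s, hs, hsx⟩
    have h1 : π (s⁻¹ * x) = 1 := by rw [map_mul, map_inv, hsx, inv_mul_cancel]
    rw [hπ1] at h1
    have h2 : (x : G) = s * (s⁻¹ * x : P₂) := by
      rw [← Subgroup.coe_mul, mul_inv_cancel_left]
    rw [h2]
    exact mul_mem (mem_subgroupOf.1 hs) (hQS h1)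
  have hT1 : T ≠ ⊥ := by
    intro hT
    apply hSQ
    intro s hs
    have h1 : π ⟨s, h.le hs⟩ ∈ T := ⟨⟨s, h.le hs⟩, mem_subgroupOf.2 hs, rfl⟩
    rw [hT, mem_bot, hπ1] at h1
    exact h1
  let Mb : Subgroup H := (M.subgroupOf P₂).map π
  have hMb : Mb ≠ ⊤ := by
    intro hM
    apply h.not_le
    intro g hg
    have h1 : π ⟨g, hg⟩ ∈ Mb := by rw [hM]; exact mem_top _
    obtain ⟨m, hm, hmg⟩ := h1
    have h2 : π (m⁻¹ * ⟨g, hg⟩) = 1 := by rw [map_mul, map_inv, hmg, inv_mul_cancel]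
    rw [hπ1] at h2
    have h3 : g = m * (m⁻¹ * ⟨g, hg⟩ : P₂) := by
      rw [← Subgroup.coe_mul, mul_inv_cancel_left]
    rw [h3]
    exact mul_mem (mem_subgroupOf.1 hm) (hSM (hQS h2))
  have hmin : ∀ K : Subgroup H, T ≤ K → K ≠ ⊤ → K ≤ Mb := by
    intro K hTK hK
    have h1 : (K.comap π).map P₂.subtype ≤ M := by
      refine h.min _ ?_ (map_subtype_le _) ?_
      · intro s hs
        exact ⟨⟨s, h.le hs⟩, hTK ⟨⟨s, h.le hs⟩, mem_subgroupOf.2 hs, rfl⟩, rfl⟩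
      · intro heq
        apply hK
        rw [eq_top_iff]
        intro x _
        obtain ⟨y, rfl⟩ := hπ x
        have h2 : (y : G) ∈ (K.comap π).map P₂.subtype := by rw [heq]; exact y.2
        obtain ⟨z, hz, hzy⟩ := h2
        have h3 : z = y := Subtype.ext hzy
        rw [← h3]
        exact hz
    intro x hx
    obtain ⟨y, rfl⟩ := hπ x
    exact ⟨y, mem_subgroupOf.2 (h1 ⟨y, hx, rfl⟩), rfl⟩
  have hdich : ∀ N : Subgroup H, N.Normal → N ⊓ T = ⊥ ∨ N ⊔ T = ⊤ := by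
    intro N hN
    have hNn : NormalIn P₂ ((N.comap π).map P₂.subtype) := by
      refine ⟨map_subtype_le _, ?_⟩
      rintro m hm _ ⟨y, hy, rfl⟩
      exact ⟨⟨m, hm⟩ * y * ⟨m, hm⟩⁻¹, (hN.comap π).conj_mem y hy ⟨m, hm⟩, rfl⟩
    rcases normal_dichotomy h hNn with h1 | h1
    · left
      rw [eq_bot_iff]
      rintro x ⟨hxN, hxT⟩
      obtain ⟨y, rfl⟩ := hπ x
      rw [mem_bot, hπ1]
      exact h1 ⟨⟨y, hxN, rfl⟩, hmemT y hxT⟩
    · right
      rw [eq_top_iff]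
      intro x _
      obtain ⟨y, rfl⟩ := hπ x
      have h2 : (N.comap π).map P₂.subtype ⊔ S ≤ ((N ⊔ T).comap π).map P₂.subtype := by
        refine sup_le ?_ ?_
        · rintro _ ⟨z, hz, rfl⟩
          exact ⟨z, le_sup_left (a := N) hz, rfl⟩
        · intro s hs
          exact ⟨⟨s, h.le hs⟩, le_sup_right (a := N) ⟨⟨s, h.le hs⟩, mem_subgroupOf.2 hs, rfl⟩, rfl⟩
      have h3 : (y : G) ∈ (N.comap π).map P₂.subtype ⊔ S := h1 ▸ y.2
      obtain ⟨z, hz, hzy⟩ := h2 h3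
      have h4 : z = y := Subtype.ext hzy
      rw [← h4]
      exact hz
  have h3H : ¬ 3 ∣ Nat.card H := fun h3 => h.three (h3.trans (card_quotient_dvd_card _))
  rcases Cfsg.Agent.OddCyclic.T1MinParAbs.structure_abs (pCore_quotient h.o2)
    (oddCyc_surj π hπ (oddCyc_subgroup hG.cyc P₂)) (kSec_of_surj hG.kproper hPtop π hπ) h3H hT hT1 hdich hMb hmin with
    ⟨p, R, hR⟩ | hs
  · left
    have hfp : Fact p.Prime := ⟨hR.prime⟩
    have hRn := hR.normal
    have hp2 : p ≠ 2 := by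
      have := hR.five
      omega
    have hTp : IsPGroup 2 T := by
      obtain ⟨P, hP⟩ := hT
      rw [← hP]
      exact P.isPGroup'
    have hRT : ∀ x ∈ R, x ∈ T → x = 1 := by
      intro x hxR hxT
      obtain ⟨a, ha⟩ := hR.two ⟨x, hxR⟩
      obtain ⟨b, hb⟩ := hTp ⟨x, hxT⟩
      exact Cfsg.Agent.LieExceptional.CITSylow.eq_one_of_coprime_pow (m := p ^ a) (n := 2 ^ b)
        (Nat.Coprime.pow _ _ ((Nat.coprime_primes hR.prime Nat.prime_two).2 hp2)) (congrArg Subtype.val ha)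
        (congrArg Subtype.val hb)
    obtain ⟨⟨r₁, hr₁⟩, hgen⟩ := hR.cyc.exists_generator
    obtain ⟨r₀, hr₀⟩ := hπ r₁
    obtain ⟨a, ha⟩ := hR.two ⟨r₁, hr₁⟩
    have ha' : r₁ ^ p ^ a = 1 := congrArg Subtype.val ha
    have h1 : ((r₀ ^ p ^ a : P₂) : G) ∈ Q₂ := by
      rw [← hπ1, map_pow, hr₀, ha']
    obtain ⟨b, hb⟩ := h.o2.two ⟨_, h1⟩
    have hb' : ((r₀ : G) ^ p ^ a) ^ 2 ^ b = 1 := by
      have := congrArg Subtype.val hb
      simpa using this
    obtain ⟨r, hr⟩ : ∃ r : P₂, r = r₀ ^ 2 ^ b := ⟨_, rfl⟩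
    have hπr : π r = r₁ ^ 2 ^ b := by rw [hr, map_pow, hr₀]
    have hrR : π r ∈ R := by rw [hπr]; exact pow_mem hr₁ _
    have hpow : ∀ x ∈ R, ∃ i : ℕ, x = π r ^ i := by
      -- `r₁` is a power of `π r`
      have h2 : ∃ j : ℕ, r₁ = π r ^ j := by
        have hcop : (2 ^ b).Coprime (p ^ a) :=
          Nat.Coprime.pow _ _ ((Nat.coprime_primes Nat.prime_two hR.prime).2 hp2.symm)
        obtain ⟨j, hj⟩ := exists_pow_eq_self_of_coprime (x := r₁) (n := 2 ^ b)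
          (Nat.Coprime.coprime_dvd_right (orderOf_dvd_of_pow_eq_one ha') hcop)
        exact ⟨j, by rw [hπr, hj]⟩
      obtain ⟨j, hj⟩ := h2
      intro x hx
      obtain ⟨i, hi⟩ := (mem_powers_iff_mem_zpowers.2 (hgen ⟨x, hx⟩) : (⟨x, hx⟩ : R) ∈ Submonoid.powers _)
      have hi' : r₁ ^ i = x := congrArg Subtype.val hi
      exact ⟨j * i, by rw [pow_mul, ← hj, hi']⟩
    refine ⟨p, r, ?_⟩
    refine ⟨hR.prime, hR.five, r.2, ⟨a, ?_⟩, ?_, ?_, ?_, ?_, ?_, ?_, fun hcon => hSQ hcon.le⟩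
    · rw [hr, SubmonoidClass.coe_pow, ← pow_mul, mul_comm, pow_mul]
      exact hb'
    · intro hmem
      rw [← hπ1] at hmem
      apply hR.ne
      rw [eq_bot_iff]
      intro x hx
      obtain ⟨i, rfl⟩ := hpow x hx
      rw [hmem, one_pow]
      exact one_mem _
    · intro g hg
      have h2 : π ⟨g, hg⟩ ∈ R ⊔ T := by rw [hR.top]; exact mem_top _
      rw [← SetLike.mem_coe, normal_mul, Set.mem_mul] at h2
      obtain ⟨x, hx, t, ht, hxt⟩ := h2
      obtain ⟨i, rfl⟩ := hpow x hx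
      refine ⟨i, ((r ^ i)⁻¹ * ⟨g, hg⟩ : P₂), ?_, ?_⟩
      · apply hmemT
        rw [map_mul, map_inv, map_pow, ← hxt, inv_mul_cancel_left]
        exact ht
      · rw [Subgroup.coe_mul, Subgroup.coe_inv, SubmonoidClass.coe_pow, mul_inv_cancel_left]
    · intro g hg
      have h2 : π (⟨g, hg⟩ * r * ⟨g, hg⟩⁻¹) ∈ R := by
        rw [map_mul, map_mul, map_inv]
        exact hRn.conj_mem _ hrR _
      obtain ⟨k, hk⟩ := hpow _ h2
      refine ⟨k, ?_⟩
      have h3 : π (⟨g, hg⟩ * r * ⟨g, hg⟩⁻¹ * (r ^ k)⁻¹) = 1 := by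
        rw [map_mul, hk, map_inv, map_pow, mul_inv_cancel]
      rw [hπ1] at h3
      exact h3
    · obtain ⟨⟨t₀, ht₀⟩, hgen'⟩ := hR.cycT.exists_generator
      obtain ⟨s₀, hs₀, rfl⟩ := ht₀
      refine ⟨s₀, mem_subgroupOf.1 hs₀, ?_⟩
      intro s hs
      have hsT : π ⟨s, h.le hs⟩ ∈ T := ⟨⟨s, h.le hs⟩, mem_subgroupOf.2 hs, rfl⟩
      obtain ⟨k, hk⟩ := (mem_powers_iff_mem_zpowers.2 (hgen' ⟨_, hsT⟩) : (⟨_, hsT⟩ : T) ∈ Submonoid.powers _)
      have hk' : π s₀ ^ k = π ⟨s, h.le hs⟩ := congrArg Subtype.val hk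
      refine ⟨k, ?_⟩
      have h3 : π (⟨s, h.le hs⟩ * (s₀ ^ k)⁻¹) = 1 := by
        rw [map_mul, map_inv, map_pow, hk', mul_inv_cancel]
      rw [hπ1] at h3
      exact h3
    · intro s hs hsr
      have h2 : π (⟨s, h.le hs⟩ * r * ⟨s, h.le hs⟩⁻¹ * r⁻¹) = 1 := by
        rw [hπ1]
        exact hsr
      rw [map_mul, map_mul, map_mul, map_inv, map_inv, mul_inv_eq_one, mul_inv_eq_iff_eq_mul] at h2
      have h3 : π ⟨s, h.le hs⟩ ∈ R := by
        apply hR.cent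
        rw [mem_centralizer_iff]
        intro x hx
        obtain ⟨i, rfl⟩ := hpow x hx
        exact (Commute.pow_right (show Commute (π ⟨s, h.le hs⟩) (π r) from h2) i).eq.symm
      have h4 := hRT _ h3 ⟨⟨s, h.le hs⟩, mem_subgroupOf.2 hs, rfl⟩
      rw [hπ1] at h4
      exact h4
    · intro t ht htQ htt
      have htT : π ⟨t, h.le ht⟩ ∈ T := ⟨⟨t, h.le ht⟩, mem_subgroupOf.2 ht, rfl⟩
      have h2 := hR.inv _ htT (fun h1 => htQ ((hπ1 _).1 h1)) (by
        rw [← map_mul, hπ1]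
        exact htt) _ hrR
      have h3 : π (⟨t, h.le ht⟩ * r * ⟨t, h.le ht⟩⁻¹ * r) = 1 := by
        rw [map_mul, map_mul, map_mul, map_inv, h2, inv_mul_cancel]
      rw [hπ1] at h3
      exact h3
  · right
    exact ⟨H, inferInstance, π, hπ, QuotientGroup.ker_mk' _, hs⟩

end Cfsg.Agent.OddCyclic.T1MinPar
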