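import Cfsg.Agent.OddCyclic.RedDefs
import Cfsg.Agent.OddCyclic.T1MinPar
import Cfsg.Agent.MinSimple.DBlkExist
import Cfsg.Agent.MinSimple.Basic
import Cfsg.Agent.ZN.Plane
import Mathlib.GroupTheory.SpecificGroups.ZGroup

/-!
# S0342, (C2), 1.1: the block lemma

A four-group `V` normalised and moved by `B = bau T`, `T` a Sylow 2-subgroup of `X ≤ N_G(V)`, `X` of characteristic 2
and moving the point of `V`: there is a dihedral block `L ≤ X` over `B` with `vl B L = V`.
-/

set_option autoImplicit false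

namespace Cfsg.Agent.OddCyclic.Red

open Subgroup Cfsg Cfsg.Agent.ZN Cfsg.Agent.MinSimple Cfsg.Agent.MinSimple.DBlkApi
open Cfsg.Agent.OddCyclic.T1Defs (OddCyc)
open scoped commutatorElement

universe u

/-- groups of odd order with cyclic Sylow subgroups are solvable -/
theorem solvable_of_odd {X : Type*} [Group X] [Finite X] (h : OddCyc X) (ho : ¬ 2 ∣ Nat.card X) :
    Group.IsSolvable X := by
  have h1 : IsZGroup X := ⟨fun p hp P => by
    by_cases h2 : p = 2
    · subst h2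
      have hf : Fact (Nat.Prime 2) := ⟨Nat.prime_two⟩
      have h3 : Nat.card P = 1 := by
        rcases P.2.card_eq_or_dvd with h3 | h3
        · exact h3
        · exact absurd (h3.trans (P : Subgroup X).card_subgroup_dvd_card) ho
      have : Subsingleton P := (Nat.card_eq_one_iff_unique.1 h3).1
      exact isCyclic_of_subsingleton
    · exact h p P hp h2⟩
  infer_instance

/-- a group with a normal Sylow 2-subgroup and cyclic odd Sylow subgroups is solvable -/
theorem solvable_of_normal_syl {X : Type*} [Group X] [Finite X] (h : OddCyc X) {D : Subgroup X} [D.Normal]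
    (hD : IsPGroup 2 D) (hi : ¬ 2 ∣ D.index) : Group.IsSolvable X := by
  have hf : Fact (Nat.Prime 2) := ⟨Nat.prime_two⟩
  rw [Group.isSolvable_iff_subgroup_quotient D]
  refine ⟨?_, solvable_of_odd ?_ hi⟩
  · have : Group.IsNilpotent D := hD.isNilpotent
    infer_instance
  · exact T1MinPar.oddCyc_surj (QuotientGroup.mk' D) (QuotientGroup.mk'_surjective D) h

variable {G : Type u} [Group G]

theorem not_dvd_inf [Finite G] {T X N : Subgroup G} (hT : IsPGroup 2 T) (hTs : ¬ 2 ∣ T.relIndex X)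
    (hNX : N ≤ X) (hXN : X ≤ normalizer (N : Set G)) : ¬ 2 ∣ (T ⊓ N).relIndex N := by
  have hf : Fact (Nat.Prime 2) := ⟨Nat.prime_two⟩
  have h1 : IsPGroup 2 (T.subgroupOf X) := hT.comap_of_injective _ X.subtype_injective
  have hn : (N.subgroupOf X).Normal := (Subgroup.normal_subgroupOf_iff_le_normalizer hNX).2 hXN
  have h2 := Lib.SylowNormalInf.not_dvd_relIndex (h1.toSylow hTs : Sylow 2 X) (N.subgroupOf X)
  have h3 : ((h1.toSylow hTs : Sylow 2 X) : Subgroup X) = T.subgroupOf X := rfl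
  rw [h3, relIndex_subgroupOf hNX] at h2
  rwa [inf_relIndex_right]

/-- `X` normalises a four-group `V`, the Sylow 2-subgroup `D` of `C_X(V)` is normal in `X`: `X` is solvable. -/
theorem solvable_stab [Finite G] (h : OddCyc G) {X V D : Subgroup G} (h4 : Nat.card V = 4)
    (hXV : X ≤ normalizer (V : Set G)) (hDX : D ≤ X) (hD : IsPGroup 2 D) (hXD : X ≤ normalizer (D : Set G))
    (hDV : D ≤ centralizer (V : Set G)) (hi : ¬ 2 ∣ D.relIndex (X ⊓ centralizer (V : Set G))) :
    Group.IsSolvable X := by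
  set C := (X ⊓ centralizer (V : Set G)).subgroupOf X with hC
  have hCn : C.Normal := by
    rw [hC, Subgroup.normal_subgroupOf_iff_le_normalizer inf_le_left]
    intro x hx
    rw [mem_normalizer_iff]
    intro y
    have h1 := DBlkReduce.nc V (hXV hx)
    rw [mem_inf, mem_inf]
    constructor
    · rintro ⟨h2, h3⟩
      exact ⟨X.mul_mem (X.mul_mem hx h2) (X.inv_mem hx), (mem_normalizer_iff.1 h1 y).1 h3⟩
    · rintro ⟨h2, h3⟩
      refine ⟨?_, (mem_normalizer_iff.1 h1 y).2 h3⟩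
      have := X.mul_mem (X.mul_mem (X.inv_mem hx) h2) hx
      have e : x⁻¹ * (x * y * x⁻¹) * x = y := by group
      rwa [e] at this
  rw [Group.isSolvable_iff_subgroup_quotient C]
  constructor
  · -- `C` is solvable
    have e : C ≃* (X ⊓ centralizer (V : Set G) : Subgroup G) := subgroupOfEquivOfLe inf_le_left
    have h1 : OddCyc (X ⊓ centralizer (V : Set G) : Subgroup G) := T1MinPar.oddCyc_subgroup h _
    set Y := (X ⊓ centralizer (V : Set G) : Subgroup G) with hY
    have hDY : D ≤ Y := le_inf hDX hDV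
    have hn : (D.subgroupOf Y).Normal :=
      (Subgroup.normal_subgroupOf_iff_le_normalizer hDY).2 (inf_le_left.trans hXD)
    have h2 : Group.IsSolvable Y := solvable_of_normal_syl h1 (D := D.subgroupOf Y)
      (hD.comap_of_injective _ Y.subtype_injective) hi
    exact Group.isSolvable_of_isSolvable_injective (f := e.toMonoidHom) e.injective
  · -- `X / C` has order dividing 6
    have h1 : Nat.card (X ⧸ C) ∣ 6 := by
      have h2 := Plane.relIndex_dvd_six h4 hXV
      have h3 : C.index = (centralizer (V : Set G)).relIndex X := by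
        rw [hC]
        change (X ⊓ centralizer (V : Set G)).relIndex X = _
        rw [inf_relIndex_left]
      rw [← Subgroup.index_eq_card, h3]
      exact h2
    have h5 : Squarefree (Nat.card (X ⧸ C)) := Squarefree.squarefree_of_dvd h1 (by
      have : Squarefree (2 * 3) := (Nat.squarefree_mul (by norm_num)).2
        ⟨Nat.prime_two.squarefree, Nat.prime_three.squarefree⟩
      simpa using this)
    have h6 : IsZGroup (X ⧸ C) := IsZGroup.of_squarefree h5
    infer_instance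

/-- 1.1, the block lemma -/
theorem exists_blk [Finite G] (hG : OddCyc G) {X T V : Subgroup G} {z : G}
    (hc : X ⊓ centralizer (o2 X : Set G) ≤ o2 X) (hT : IsPGroup 2 T) (hTX : T ≤ X) (hTs : ¬ 2 ∣ T.relIndex X)
    (hVX : V ≤ X) (hXV : X ≤ normalizer (V : Set G)) (h4 : Nat.card V = 4) (h2 : ∀ v ∈ V, v ^ 2 = 1)
    (hzV : z ∈ V) (hz1 : z ≠ 1) (hzT : ∀ t ∈ T, t * z = z * t) (hB : ∃ b ∈ bau T, ∃ v ∈ V, b * v ≠ v * b)
    (hy : ∃ y ∈ X, y * z * y⁻¹ ≠ z) :
    ∃ (L : Subgroup G) (k : ℕ), L ≤ X ∧ IsDBlk (bau T) L k ∧ vl (bau T) L = V := by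
  have hV2 : IsPGroup 2 V := fun v => ⟨1, by
    rw [pow_one]; exact Subtype.ext (h2 v v.2)⟩
  have hVo : V ≤ o2 X := le_o2 hVX hV2 hXV
  have hoT : o2 X ≤ T := VModule.o2_le_of_sylow hT hTs
  have hVT : V ≤ T := hVo.trans hoT
  have hVc : ∀ x ∈ V, ∀ y ∈ V, x * y = y * x := fun x hx y hy => Four.comm_of_sq h2 hx hy
  set D := T ⊓ centralizer (V : Set G) with hD
  set K := X ⊓ normalizer (D : Set G) with hK
  -- `T ≤ K`
  have hTD : T ≤ normalizer (D : Set G) := by
    intro t ht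
    rw [mem_normalizer_iff]
    intro x
    have h1 := DBlkReduce.nc V (hXV (hTX ht))
    rw [hD, mem_inf, mem_inf]
    constructor
    · rintro ⟨h2, h3⟩
      exact ⟨T.mul_mem (T.mul_mem ht h2) (T.inv_mem ht), (mem_normalizer_iff.1 h1 x).1 h3⟩
    · rintro ⟨h2, h3⟩
      refine ⟨?_, (mem_normalizer_iff.1 h1 x).2 h3⟩
      have := T.mul_mem (T.mul_mem (T.inv_mem ht) h2) ht
      have e : t⁻¹ * (t * x * t⁻¹) * t = x := by group
      rwa [e] at this
  have hTK : T ≤ K := le_inf hTX hTD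
  have hKX : K ≤ X := inf_le_left
  have hTs' : ¬ 2 ∣ T.relIndex K := DBlkReduce.not_dvd_of_le hTs hTK hKX
  have hcK : K ⊓ centralizer (o2 K : Set G) ≤ o2 K := Basic.char2_of_le hc (hoT.trans hTK) hKX
  -- `D` is a Sylow 2-subgroup of `C_X(V)`
  have hCX : X ≤ normalizer ((X ⊓ centralizer (V : Set G) : Subgroup G) : Set G) :=
    (le_inf le_normalizer (hXV.trans (DBlkReduce.nc V))).trans
      inf_normalizer_le_normalizer_inf
  have hDs : ¬ 2 ∣ D.relIndex (X ⊓ centralizer (V : Set G)) := by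
    have h1 := not_dvd_inf hT hTs (inf_le_left : X ⊓ centralizer (V : Set G) ≤ X) hCX
    have h3 : T ⊓ (X ⊓ centralizer (V : Set G)) = D := by
      rw [hD, ← inf_assoc, inf_eq_left.2 hTX]
    rwa [h3] at h1
  have hDs' : ¬ 2 ∣ D.relIndex (K ⊓ centralizer (V : Set G)) :=
    DBlkReduce.not_dvd_of_le hDs (le_inf (inf_le_left.trans hTK) inf_le_right) (inf_le_inf_right _ hKX)
  have hsol : Group.IsSolvable K := solvable_stab hG h4 (hKX.trans hXV) (inf_le_left.trans hTK)
    (hT.to_le inf_le_left) inf_le_right inf_le_right hDs'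
  -- `z ∈ zc T ≤ zc (bau T)`
  have hzTm : z ∈ zc T := mem_zc.2 ⟨hVT hzV, hzT, h2 z hzV⟩
  have hzB : z ∈ zc (bau T) := by
    rw [zc_bau]
    exact zc_le_zj T hzTm
  obtain ⟨b, hb, v, hv, hbv⟩ := hB
  have hbT : b ∈ T := ChoiceBase.bau_le T hb
  have hfix : ∀ w ∈ V, (∀ c ∈ bau T, c * w = w * c) → w = 1 ∨ w = z := by
    intro w hw hcw
    by_contra hcon
    push Not at hcon
    have h1 := Four.cent_of_two h4 h2 hzV hw hz1 hcon.1 (fun h => hcon.2 h.symm)
      (Four.conj_eq_iff_comm.2 (hzT b hbT)) (Four.conj_eq_iff_comm.2 (hcw b hb))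
    exact hbv (Four.conj_eq_iff_comm.1 (Four.mem_cent_iff.1 h1 v hv))
  -- the block
  obtain ⟨L, k, hL, hLr, hLK, hLz⟩ := DBlkExist.exists_dblk (M := centralizer ({z} : Set G)) hsol hcK hT hTK hTs'
    (by
      rintro x ⟨-, hx⟩
      rw [mem_centralizer_singleton_iff]
      exact (mem_centralizer_iff.1 hx z hzTm).symm)
    (by
      rintro x ⟨hxK, hx⟩
      rw [mem_centralizer_singleton_iff]
      have h1 : x * z * x⁻¹ ∈ V := Four.conj_mem (hXV (hKX hxK)) hzV
      have h3 : ∀ c ∈ bau T, c * (x * z * x⁻¹) = (x * z * x⁻¹) * c := by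
        intro c hc
        have h5 : x⁻¹ * c * x ∈ bau T := Four.conj_mem' hx hc
        have h6 := hzT _ (ChoiceBase.bau_le T h5)
        calc c * (x * z * x⁻¹) = x * ((x⁻¹ * c * x) * z) * x⁻¹ := by group
          _ = x * (z * (x⁻¹ * c * x)) * x⁻¹ := by rw [h6]
          _ = (x * z * x⁻¹) * c := by group
      rcases hfix _ h1 h3 with h5 | h5
      · exact absurd (conj_eq_one_iff.1 h5) hz1
      · exact Four.conj_eq_iff_comm.1 h5)
    (by
      intro hcon
      obtain ⟨y, hyX, hyz⟩ := hy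
      have h1 := Basic.frattini hTX hT hTs hCX hyX
      have h3 : T ⊓ (X ⊓ centralizer (V : Set G)) = D := by
        rw [hD, ← inf_assoc, inf_eq_left.2 hTX]
      rw [h3] at h1
      have h5 : (X ⊓ centralizer (V : Set G)) ⊔ (X ⊓ normalizer (D : Set G)) ≤ centralizer ({z} : Set G) := by
        refine sup_le ?_ hcon
        rintro x ⟨-, hx⟩
        rw [mem_centralizer_singleton_iff]
        exact (mem_centralizer_iff.1 hx z hzV).symm
      have h6 := mem_centralizer_singleton_iff.1 (h5 h1)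
      exact hyz (Four.conj_eq_iff_comm.2 h6))
  refine ⟨L, k, hLK.trans hKX, hL, ?_⟩
  -- `L` moves `z`
  obtain ⟨l, hl, hlz⟩ : ∃ l ∈ L, l * z * l⁻¹ ≠ z := by
    by_contra hcon
    push Not at hcon
    exact hLz fun l hl => mem_centralizer_singleton_iff.2 (Four.conj_eq_iff_comm.1 (hcon l hl))
  have hzz : z * z = 1 := by rw [← pow_two]; exact h2 z hzV
  have hzi : z⁻¹ = z := inv_eq_of_mul_eq_one_left hzz
  have hlV : l * z * l⁻¹ ∈ V := Four.conj_mem (hXV (hKX (hLK hl))) hzV
  set w := (l * z * l⁻¹) * z with hw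
  have hwV : w ∈ V := V.mul_mem hlV hzV
  have hzl : z ∈ zl (bau T) L := zc_le_zl hzB
  have hwv : w ∈ vl (bau T) L := by
    have h1 : ⁅l, z⁆ ∈ vl (bau T) L := by
      rw [vl, Subgroup.commutator_comm]
      exact Subgroup.commutator_mem_commutator hl hzl
    rw [commutatorElement_def, hzi] at h1
    exact h1
  have hw1 : w ≠ 1 := by
    intro h
    apply hlz
    calc l * z * l⁻¹ = w * z⁻¹ := by rw [hw]; group
      _ = z := by rw [h, one_mul, hzi]
  have hwz : w ≠ z := by
    intro h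
    have h1 : l * z * l⁻¹ = 1 := by
      calc l * z * l⁻¹ = w * z⁻¹ := by rw [hw]; group
        _ = 1 := by rw [h, mul_inv_cancel]
    exact hz1 (conj_eq_one_iff.1 h1)
  have hbn : b * z * b⁻¹ = z := Four.conj_eq_iff_comm.2 (hzT b hbT)
  have hbw : b * w * b⁻¹ = z * w := by
    rcases Four.fix_dichotomy h4 h2 hzV hwV hz1 hw1 (Ne.symm hwz) (hXV (hTX hbT)) hbn with h | h
    · exfalso
      have h1 := Four.cent_of_two h4 h2 hzV hwV hz1 hw1 (Ne.symm hwz) hbn h
      exact hbv (Four.conj_eq_iff_comm.1 (Four.mem_cent_iff.1 h1 v hv))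
    · exact h
  have hzv : z ∈ vl (bau T) L := by
    have h1 : b * w * b⁻¹ ∈ vl (bau T) L :=
      Four.conj_mem (le_normalizer_vl _ L (hL.le hb)) hwv
    rw [hbw] at h1
    have h3 := (vl (bau T) L).mul_mem h1 ((vl (bau T) L).inv_mem hwv)
    rwa [mul_inv_cancel_right] at h3
  symm
  apply Subgroup.eq_of_le_of_card_ge
  · intro x hx
    rcases Four.four h4 h2 hzV hwV hz1 hw1 (Ne.symm hwz) x hx with rfl | rfl | rfl | rfl
    · exact one_mem _
    · exact hzv
    · exact hwv
    · exact mul_mem hzv hwv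
  · rw [h4, hL.card_vl]

/-- a `B`-plane -/
structure Plane (B V : Subgroup G) : Prop where
  card : Nat.card V = 4
  sq : ∀ v ∈ V, v ^ 2 = 1
  norm : B ≤ normalizer (V : Set G)
  moved : ∃ b ∈ B, ∃ v ∈ V, b * v ≠ v * b
  act : ∃ y ∈ normalizer (V : Set G), ∀ v ∈ V, v ≠ 1 → y * v * y⁻¹ ≠ v

/-- 1.1 for `B = bau S`, `S` a Sylow 2-subgroup of `G`, in `N_G(V)` -/
theorem Plane.exists_blk [Finite G] (hG : IsCharacteristicTwoType G) (hc : OddCyc G) (S : Sylow 2 G) {V : Subgroup G}
    (hV : Plane (bau (S : Subgroup G)) V) : ∃ (L : Subgroup G) (k : ℕ), L ≤ normalizer (V : Set G) ∧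
      IsDBlk (bau (S : Subgroup G)) L k ∧ vl (bau (S : Subgroup G)) L = V := by
  have hf : Fact (Nat.Prime 2) := ⟨Nat.prime_two⟩
  have hB2 : IsPGroup 2 (bau (S : Subgroup G)) := S.isPGroup'.to_le (ChoiceBase.bau_le _)
  obtain ⟨T, hT, hBT⟩ := ChoiceSit.exists_syl hB2 hV.norm
  have hb := SamePt.bau_eq S hT.2.1 hBT
  have hV2 : IsPGroup 2 V := fun v => ⟨1, by
    rw [pow_one]; exact Subtype.ext (hV.sq v v.2)⟩
  have hVne : V ≠ ⊥ := by
    intro h0
    have := hV.card
    rw [h0, card_bot] at this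
    omega
  have h3 := PLocal.OffenderStep.inf_centralizer_ne_bot V T hV2 hT.2.1 hT.1 hVne
  obtain ⟨⟨z, hz⟩, hz1'⟩ := Subgroup.ne_bot_iff_exists_ne_one.1 h3
  have hz1 : z ≠ 1 := fun h => hz1' (Subtype.ext h)
  obtain ⟨y, hy, hyf⟩ := hV.act
  rw [← hb] at hV ⊢
  exact Red.exists_blk hc (Basic.char2_normalizer hG hV2 hVne) hT.2.1 hT.1 (ChoiceSit.syl_not_dvd hT) le_normalizer
    le_rfl hV.card hV.sq hz.1 hz1 (fun t ht => mem_centralizer_iff.1 hz.2 t ht) hV.moved ⟨y, hy, hyf z hz.1 hz1⟩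

/-- the plane of a dihedral block -/
theorem plane_vl {B L : Subgroup G} {k : ℕ} (h : IsDBlk B L k) : Plane B (vl B L) where
  card := h.card_vl
  sq := vl_sq h
  norm := h.le.trans (le_normalizer_vl B L)
  moved := by
    by_contra hcon
    push Not at hcon
    obtain ⟨b, hb, hbQ⟩ := exists_b h
    exact hbQ (mem_o2_of_cent h hb (mem_centralizer_iff.2 fun v hv => (hcon b hb v hv).symm))
  act := by
    obtain ⟨y, hy, h0, h1, h2, h3, h4⟩ := h.dih
    exact ⟨y, le_normalizer_vl B L hy, fun v hv hv1 h => hv1 (h3 v hv h)⟩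

end Cfsg.Agent.OddCyclic.Red
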