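import Cfsg.Agent.OddCyclic.RedRep
import Cfsg.Agent.OddCyclic.RedBlock

/-!
# S0342, (C2), 2.3: planes and blocks

* `jj_bau_eq`: 2-subgroups of `X` over `bau T`, `T` Sylow in `X`;
* `exists_blk_of_plane`: a plane `V ≤ Ω₁Z(O₂(X))` gives a dihedral block of `N_X(V)`;
* `pl_of_blk`: the plane of a dihedral block of `X` is a `RedFam.Pl`;
* `bau_fix`: `bau T` centralises `C_Y(J(T))`.
-/

set_option autoImplicit false

namespace Cfsg.Agent.OddCyclic.RedPl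

open Subgroup Cfsg Cfsg.Agent.ZN Cfsg.Agent.MinSimple Cfsg.Agent.MinSimple.DBlkApi
open Cfsg.Agent.ZN.ChoiceBase (AA cj)
open Cfsg.Agent.OddCyclic.T1Module Cfsg.Agent.OddCyclic.FFBasic Cfsg.Agent.OddCyclic.FFRed
open Cfsg.Agent.OddCyclic.RedFam Cfsg.Agent.OddCyclic.RedTy Cfsg.Agent.OddCyclic.RedRep
open Cfsg.Agent.OddCyclic.RedX (Loc)
open Cfsg.Agent.OddCyclic.T1Defs (OddCyc)

universe u

variable {G : Type u} [Group G] [Finite G] {X T Y V : Subgroup G}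

/-- 2-subgroups of `X` over `bau T` -/
theorem jj_bau_eq (hL : Loc X T) {T₁ : Subgroup G} (h1 : IsPGroup 2 T₁) (h2 : T₁ ≤ X) (h3 : bau T ≤ T₁) :
    jj T₁ = jj T ∧ bau T₁ = bau T := by
  obtain ⟨S₁, hS₁, hT₁⟩ := ChoiceSit.exists_syl h1 h2
  have hT : ChoiceSit.Syl T X := by
    refine ⟨hL.TX, hL.two, fun Q hQ hQ2 hTQ => ?_⟩
    have h4 := relIndex_mul_relIndex T Q X hTQ hQ
    have h5 : ¬ 2 ∣ T.relIndex Q := fun h => hL.syl (h4 ▸ Dvd.dvd.mul_right h _)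
    have hf : Fact (Nat.Prime 2) := ⟨Nat.prime_two⟩
    obtain ⟨n, hn⟩ := IsPGroup.iff_card.1 hQ2
    have h6 : T.relIndex Q ∣ 2 ^ n := by
      rw [← hn]
      exact (T.subgroupOf Q).index_dvd_card
    obtain ⟨m, -, hm⟩ := (Nat.dvd_prime_pow Nat.prime_two).1 h6
    have h7 : m = 0 := by
      by_contra hm0
      apply h5
      rw [hm]
      exact dvd_pow_self 2 hm0
    rw [h7, pow_zero, relIndex_eq_one] at hm
    exact le_antisymm hm hTQ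
  obtain ⟨g, hg, hg2⟩ := ChoiceSit.syl_conj hT hS₁
  have h4 : ChoiceBase.key T₁ ≤ ChoiceBase.key T := by
    refine (ChoiceBase.key_mono hT₁).trans ?_
    rw [← hg2, ChoiceBase.key_cj]
  obtain ⟨-, h5, h6, -⟩ := ChoiceBase.of_key_le h3 h4
  exact ⟨h5, h6⟩

theorem o2_le_inf (hV : V ≤ zc (o2 X)) : o2 X ≤ X ⊓ normalizer (V : Set G) := by
  refine le_inf (o2_le X) ?_
  intro x hx
  refine centralizer_le_normalizer _ (mem_centralizer_iff.2 fun v hv => ?_)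
  exact (zc_comm (hV hv) hx).symm

/-- `N_X(V)` has characteristic 2 -/
theorem char2_inf (hL : Loc X T) (hV : V ≤ zc (o2 X)) :
    (X ⊓ normalizer (V : Set G)) ⊓ centralizer (o2 (X ⊓ normalizer (V : Set G)) : Set G) ≤
      o2 (X ⊓ normalizer (V : Set G)) := by
  have h1 : o2 X ≤ o2 (X ⊓ normalizer (V : Set G)) := by
    refine FinalBridge.le_o2 (o2_le_inf hV) (FinalBridge.o2_isPGroup X) ?_
    exact inf_le_left.trans (ZN.le_normalizer_o2 X)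
  intro x hx
  exact h1 (hL.char2 ⟨hx.1.1, centralizer_le h1 hx.2⟩)

/-- a plane in `Ω₁Z(O₂(X))` gives a block of `X` -/
theorem exists_blk_of_plane (hc : OddCyc G) (hL : Loc X T) (hV : V ≤ zc (o2 X)) (h4 : Nat.card V = 4)
    (hB : bau T ≤ normalizer (V : Set G)) (hm : ∃ b ∈ bau T, ∃ v ∈ V, b * v ≠ v * b)
    (hy : ∃ y ∈ X, y ∈ normalizer (V : Set G) ∧ ∀ v ∈ V, v ≠ 1 → y * v * y⁻¹ ≠ v) :
    ∃ (L : Subgroup G) (k : ℕ), L ≤ X ∧ L ≤ normalizer (V : Set G) ∧ IsDBlk (bau T) L k ∧ vl (bau T) L = V := by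
  have hf : Fact (Nat.Prime 2) := ⟨Nat.prime_two⟩
  have hB2 : IsPGroup 2 (bau T) := isPGroup_bau hL.two
  have hBX : bau T ≤ X ⊓ normalizer (V : Set G) := le_inf ((ZN.bau_le T).trans hL.TX) hB
  obtain ⟨T₁, hT₁, hBT⟩ := ChoiceSit.exists_syl hB2 hBX
  have hb := (jj_bau_eq hL hT₁.2.1 (hT₁.1.trans inf_le_left) hBT).2
  have hV2 : ∀ v ∈ V, v ^ 2 = 1 := fun v hv => zc_sq (hV hv)
  have hVp : IsPGroup 2 V := fun v => ⟨1, by rw [pow_one]; exact Subtype.ext (hV2 v v.2)⟩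
  have hVne : V ≠ ⊥ := by
    intro h0
    rw [h0, card_bot] at h4
    omega
  have h3 := PLocal.OffenderStep.inf_centralizer_ne_bot V T₁ hVp hT₁.2.1 (hT₁.1.trans inf_le_right) hVne
  obtain ⟨⟨z, hz⟩, hz1'⟩ := Subgroup.ne_bot_iff_exists_ne_one.1 h3
  have hz1 : z ≠ 1 := fun h => hz1' (Subtype.ext h)
  obtain ⟨y, hyX, hyV, hyf⟩ := hy
  have hVX : V ≤ X := hV.trans ((zc_le _).trans (o2_le X))
  rw [← hb] at hm ⊢
  obtain ⟨L, k, h5, h6, h7⟩ := Red.exists_blk hc (char2_inf hL hV) hT₁.2.1 hT₁.1 (ChoiceSit.syl_not_dvd hT₁)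
    (le_inf hVX Subgroup.le_normalizer) inf_le_right h4 hV2 hz.1 hz1
    (fun t ht => mem_centralizer_iff.1 hz.2 t ht) hm ⟨y, ⟨hyX, hyV⟩, hyf z hz.1 hz1⟩
  exact ⟨L, k, h5.trans inf_le_left, h5.trans inf_le_right, h6, h7⟩

/-- `bau T` centralises `C_Y(J(T))` -/
theorem mem_zc_bau (hY : YC X T Y) {y : G} (hy : y ∈ Y) (hc : ∀ a ∈ jj T, a * y = y * a) : y ∈ zc (bau T) := by
  rw [zc_bau]
  exact mem_zj_of_comm ((hY.le.trans ((zc_le _).trans hY.toLoc.o2_le)) hy) (zc_sq (hY.le hy)) hc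

theorem bau_fix (hY : YC X T Y) {y : G} (hy : y ∈ Y) (hc : ∀ a ∈ jj T, a * y = y * a) :
    ∀ b ∈ bau T, b * y = y * b := fun _ hb => zc_comm (mem_zc_bau hY hy hc) hb

theorem YC.Y_le (hY : YC X T Y) : Y ≤ X := hY.le.trans ((zc_le _).trans (o2_le X))

theorem YC.sq (hY : YC X T Y) {y : G} (hy : y ∈ Y) : y ^ 2 = 1 := zc_sq (hY.le hy)

theorem YC.comm (hY : YC X T Y) {x y : G} (hx : x ∈ Y) (hy : y ∈ Y) : x * y = y * x :=
  zc_comm (hY.le hy) (zc_le _ (hY.le hx))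

variable {H W : Type u} [Group H] [CommGroup W] {r : X →* H} {ρ : H →* MulAut W} {ι : W →* G}

/-- the plane of a dihedral block of `X` -/
theorem pl_of_blk' (hY : YC X T Y) (hr : Rep X Y r ρ ι) {L : Subgroup G} {k : ℕ} (hLX : L ≤ X)
    (hL : IsDBlk (bau T) L k) : ∃ y : X, (y : G) ∈ L ∧ El3 (y : G) ∧
      (∀ g ∈ L, ∃ n : ℕ, ∃ b ∈ bau T, g = (y : G) ^ n * b) ∧
      Pl ρ (famOf X T r) ((vl (bau T) L).comap ι) (r y) := by
  obtain ⟨y, hy, h3, h4, h5, h6, h7⟩ := hL.dih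
  have hvY : vl (bau T) L ≤ Y := hY.vl_le L hLX (Or.inl ⟨k, hL⟩)
  have hmap : ((vl (bau T) L).comap ι).map ι = vl (bau T) L := by
    rw [Subgroup.map_comap_eq, hr.range, inf_eq_right]
    exact hvY
  have hcard : Nat.card ((vl (bau T) L).comap ι) = 4 := by
    rw [← hL.card_vl]
    conv_rhs => rw [← hmap]
    exact (Subgroup.card_map_of_injective hr.iinj).symm
  have hinv : ∀ (x : X), (x : G) ∈ L → ∀ p ∈ (vl (bau T) L).comap ι, ρ (r x) p ∈ (vl (bau T) L).comap ι := by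
    intro x hx p hp
    rw [mem_comap] at hp ⊢
    rw [hr.act]
    exact Four.conj_mem (le_normalizer_vl (bau T) L hx) hp
  refine ⟨⟨y, hLX hy⟩, hy, ⟨k, h3⟩, h5, hcard, ⟨k, ?_⟩, hinv _ hy, ?_, ?_, ?_⟩
  · rw [← map_pow]
    have : (⟨y, hLX hy⟩ : X) ^ 3 ^ k = 1 := Subtype.ext h3
    rw [this, map_one]
  · intro p hp hf
    apply hr.iinj
    rw [map_one]
    apply h6 _ hp
    have h8 := hr.act ⟨y, hLX hy⟩ p
    rw [hf] at h8
    exact h8.symm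
  · rintro _ ⟨A, hA, rfl⟩ _ ⟨a, ha, rfl⟩ p hp
    refine hinv a ?_ p hp
    exact hL.le (ZN.jj_le_bau T (ChoiceBase.le_jj hA (mem_subgroupOf.1 ha)))
  · by_contra hcon
    push Not at hcon
    apply hL.not_jj_le
    rw [jj_bau]
    have h8 : ∀ A ∈ AA T, A ≤ o2 L := by
      intro A hA a ha
      have haB : a ∈ bau T := ZN.jj_le_bau T (ChoiceBase.le_jj hA ha)
      have haX : a ∈ X := hLX (hL.le haB)
      refine mem_o2_of_cent hL haB (mem_centralizer_iff.2 fun v hv => ?_)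
      obtain ⟨w, rfl⟩ := hr.exists_v (hvY hv)
      have h9 := hcon _ ⟨A, hA, rfl⟩ (r ⟨a, haX⟩) ⟨⟨a, haX⟩, mem_subgroupOf.2 ha, rfl⟩ w hv
      exact (hr.fix.1 h9).symm
    rw [ChoiceBase.jj_eq]
    exact sSup_le h8

/-- the plane of a dihedral block of `X` -/
theorem pl_of_blk (hY : YC X T Y) (hr : Rep X Y r ρ ι) {L : Subgroup G} {k : ℕ} (hLX : L ≤ X)
    (hL : IsDBlk (bau T) L k) : ∃ y : X, (y : G) ∈ L ∧ El3 (y : G) ∧
      Pl ρ (famOf X T r) ((vl (bau T) L).comap ι) (r y) := by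
  obtain ⟨y, h1, h2, -, h3⟩ := pl_of_blk' hY hr hLX hL
  exact ⟨y, h1, h2, h3⟩

end Cfsg.Agent.OddCyclic.RedPl
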