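import Cfsg.Agent.OddCyclic.RedSame
import Cfsg.Agent.OddCyclic.RedPl
import Cfsg.Agent.OddCyclic.APQDD
import Cfsg.Agent.MinSimple.CaseDivRl

/-!
# S0342, case C2, 5(A): two dihedral blocks over `B` in no common 2-local subgroup, part 1

`Cf B L L' k k' z z'`: the output of the graph argument (`APQ.graph_dd`) for `L` (the index `i`): `[Z_{L'}, B] ≤ rl B L`, `L`
normalises `Z_L Z_{L'}`. Then `|zc B| = 4`, `rl B L = {1, z'}`, `rl B L' = {1, r}`, `r ∈ {z, z z'}`, and for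
`v ∈ vl B L' ∖ ⟨z'⟩` the 3-element of `L` fixes `v z` (or `v z z'`), which is conjugate to `z' r` in `L'`.
-/

set_option autoImplicit false

namespace Cfsg.Agent.OddCyclic.APA

open Subgroup Cfsg Cfsg.Agent.ZN Cfsg.Agent.MinSimple Cfsg.Agent.MinSimple.DBlkApi

universe u

variable {G : Type u} [Group G]

structure Cf (B L L' : Subgroup G) (k k' : ℕ) (z z' : G) : Prop where
  h : IsDBlk B L k
  h' : IsDBlk B L' k'
  pt : IsPt B L z
  pt' : IsPt B L' z'
  core : ∀ N : Subgroup G, N ≤ B → L ≤ normalizer (N : Set G) → L' ≤ normalizer (N : Set G) → N = ⊥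
  comm : ∀ x ∈ zl B L, ∀ y ∈ zl B L', x * y = y * x
  g1 : ∀ x ∈ zl B L', ∀ b ∈ B, x * b * x⁻¹ * b⁻¹ ∈ rl B L
  g2 : L ≤ normalizer ((zl B L ⊔ zl B L' : Subgroup G) : Set G)

variable {B L L' : Subgroup G} {k k' : ℕ} {z z' : G}

theorem inv_eq {v : G} (hv : v * v = 1) : v⁻¹ = v := inv_eq_of_mul_eq_one_left hv

namespace Cf

variable (c : Cf B L L' k k' z z')

include c

theorem vsq' {v : G} (hv : v ∈ vl B L') : v * v = 1 := by rw [← pow_two]; exact vl_sq c.h' v hv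

theorem vsq {v : G} (hv : v ∈ vl B L) : v * v = 1 := by rw [← pow_two]; exact vl_sq c.h v hv

theorem zsq {v : G} (hv : v ∈ zl B L) : v * v = 1 := by rw [← pow_two]; exact c.h.zl_sq v hv

/-- `z' ∈ rl B L` -/
theorem pt_mem : z' ∈ rl B L := by
  obtain ⟨b, hb, hbQ⟩ := exists_b c.h'
  obtain ⟨v, hv, hv1, hvz⟩ := Four.exists_other c.h'.card_vl z'
  have h1 := conj_eq c.h' c.pt' hv hv1 hvz hb hbQ
  have h2 := c.g1 v (vl_le_zl B L' hv) b hb
  have h3 : v * b * v⁻¹ * b⁻¹ = z' := by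
    rw [inv_eq (c.vsq' hv)]
    calc v * b * v * b⁻¹ = v * (b * v * b⁻¹) := by group
      _ = v * (z' * v) := by rw [h1]
      _ = (v * v) * z' := by rw [Four.comm_of_sq (vl_sq c.h') c.pt'.1 hv]; group
      _ = z' := by rw [c.vsq' hv, one_mul]
  rwa [h3] at h2

theorem rl_inf {x : G} (hx : x ∈ rl B L) (hx' : x ∈ rl B L') : x = 1 := by
  have hn : ∀ g : G, g * x = x * g → g ∈ normalizer (zpowers x : Set G) := fun g hg => by
    refine centralizer_le_normalizer _ ?_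
    rw [mem_centralizer_iff]
    intro y hy
    obtain ⟨n, rfl⟩ := mem_zpowers_iff.1 hy
    exact ((Commute.zpow_right (show Commute g x from hg) n).eq).symm
  have h1 := c.core (zpowers x) (by rw [zpowers_le]; exact zc_le B (rl_le_zc B L hx))
    (fun l hl => hn l (rl_comm hx hl)) (fun l hl => hn l (rl_comm hx' hl))
  rwa [zpowers_eq_bot] at h1

/-- `rl B L = {1, z'}` -/
theorem rl_cases {x : G} (hx : x ∈ rl B L) : x = 1 ∨ x = z' := by
  rcases mem_zc_cases c.h' c.pt' (rl_le_zc B L hx) with h1 | h1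
  · left; exact c.rl_inf hx h1
  · right
    have h2 := c.rl_inf ((rl B L).mul_mem c.pt_mem hx) h1
    calc x = z'⁻¹ * (z' * x) := by group
      _ = z' := by rw [h2, mul_one, inv_eq c.pt'.mul_self]

theorem ne : z ≠ z' := fun h0 => pt_notMem_rl c.h c.pt (by rw [h0]; exact c.pt_mem)

theorem comm_zz : z * z' = z' * z :=
  zc_comm c.pt'.2.1 (zc_le B c.pt.2.1)

/-- `zc B = {1, z', z, z z'}` -/
theorem zc_cases {x : G} (hx : x ∈ zc B) : x = 1 ∨ x = z' ∨ x = z ∨ x = z * z' := by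
  rcases mem_zc_cases c.h c.pt hx with h1 | h1
  · rcases c.rl_cases h1 with h2 | h2
    · exact Or.inl h2
    · exact Or.inr (Or.inl h2)
  · right; right
    have e : x = z * (z * x) := by
      calc x = (z * z) * x := by rw [c.pt.mul_self, one_mul]
        _ = _ := by group
    rcases c.rl_cases h1 with h2 | h2
    · left; rw [e, h2, mul_one]
    · right; rw [e, h2]

/-- `rl B L' = {1, r}`, `r ∈ {z, z z'}` -/
theorem exists_r : ∃ r ∈ rl B L', (r = z ∨ r = z * z') ∧ ∀ x ∈ rl B L', x = 1 ∨ x = r := by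
  have key : ∀ r ∈ rl B L', (r = z ∨ r = z * z') → ∀ x ∈ rl B L', x = 1 ∨ x = r := by
    intro r hr hrz x hx
    have hz' := pt_notMem_rl c.h' c.pt'
    have hz1 : z * (z * z') = z' := by
      calc z * (z * z') = (z * z) * z' := by group
        _ = z' := by rw [c.pt.mul_self, one_mul]
    have hz2 : (z * z') * z = z' := by
      rw [c.comm_zz]
      calc z' * z * z = z' * (z * z) := by group
        _ = z' := by rw [c.pt.mul_self, mul_one]
    rcases c.zc_cases (rl_le_zc B L' hx) with h1 | h1 | h1 | h1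
    · exact Or.inl h1
    · exact absurd (h1 ▸ hx) hz'
    · rcases hrz with h2 | h2
      · right; rw [h1, h2]
      · exfalso; apply hz'
        rw [← hz2, ← h2]
        exact (rl B L').mul_mem hr (h1 ▸ hx)
    · rcases hrz with h2 | h2
      · exfalso; apply hz'
        rw [← hz1, ← h1]
        exact (rl B L').mul_mem (h2 ▸ hr) hx
      · right; rw [h1, h2]
  rcases mem_zc_cases c.h' c.pt' c.pt.2.1 with h1 | h1
  · exact ⟨z, h1, Or.inl rfl, key z h1 (Or.inl rfl)⟩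
  · rw [← c.comm_zz] at h1
    exact ⟨z * z', h1, Or.inr rfl, key _ h1 (Or.inr rfl)⟩

/-- `V' ∩ Z_L = ⟨z'⟩` -/
theorem notMem_zl {v : G} (hv : v ∈ vl B L') (hv1 : v ≠ 1) (hvz : v ≠ z') : v ∉ zl B L := by
  intro h0
  obtain ⟨b, hb, hbQ⟩ := exists_b c.h'
  have h1 := conj_eq c.h' c.pt' hv hv1 hvz hb hbQ
  have h3 : v * b * v⁻¹ * b⁻¹ = z' := by
    rw [inv_eq (c.vsq' hv)]
    calc v * b * v * b⁻¹ = v * (b * v * b⁻¹) := by group
      _ = v * (z' * v) := by rw [h1]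
      _ = (v * v) * z' := by rw [Four.comm_of_sq (vl_sq c.h') c.pt'.1 hv]; group
      _ = z' := by rw [c.vsq' hv, one_mul]
  rcases comm_eq c.h c.pt h0 hb with h2 | h2
  · rw [commutatorElement_def, h3] at h2
    exact c.pt'.2.2 h2
  · rw [commutatorElement_def, h3] at h2
    exact c.ne h2.symm

omit c in
theorem rl_le_zl' {x : G} (hx : x ∈ rl B L') : x ∈ zl B L :=
  FinalBridge.zc_le_zl B L (rl_le_zc B L' hx)

theorem pt'_mem_zl : z' ∈ zl B L := rl_le_zl B L c.pt_mem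

/-- `Z_L Z_{L'} = Z_L ∪ Z_L v` -/
theorem sup_cases {v : G} (hv : v ∈ vl B L') (hv1 : v ≠ 1) (hvz : v ≠ z') {x : G}
    (hx : x ∈ zl B L ⊔ zl B L') : x ∈ zl B L ∨ x * v ∈ zl B L := by
  obtain ⟨a, ha, b, hb, rfl⟩ := (BlkFam.mem_sup_of_comm c.comm).mp hx
  obtain ⟨r, hr, u, hu, rfl⟩ := mem_zl c.h' hb
  have har : a * r ∈ zl B L := (zl B L).mul_mem ha (rl_le_zl' hr)
  rcases Four.four c.h'.card_vl (vl_sq c.h') c.pt'.1 hv c.pt'.2.2 hv1 hvz.symm u hu with h1 | h1 | h1 | h1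
  · left; rw [h1, mul_one]; exact har
  · left
    rw [h1]
    have e : a * (r * z') = a * r * z' := by group
    rw [e]; exact (zl B L).mul_mem har c.pt'_mem_zl
  · right
    rw [h1]
    have e : a * (r * v) * v = a * r * (v * v) := by group
    rw [e, c.vsq' hv, mul_one]; exact har
  · right
    rw [h1]
    have e : a * (r * (z' * v)) * v = a * r * z' * (v * v) := by group
    rw [e, c.vsq' hv, mul_one]; exact (zl B L).mul_mem har c.pt'_mem_zl

omit c in
theorem mem_sup' {v : G} (hv : v ∈ vl B L') : v ∈ zl B L ⊔ zl B L' := mem_sup_right (vl_le_zl B L' hv)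

/-- elements of `Z_L Z_{L'}` commute modulo `rl B L` with `o2 L` -/
theorem q_comm {x q : G} (hx : x ∈ zl B L ⊔ zl B L') (hq : q ∈ o2 L) : x * q * x⁻¹ * q⁻¹ ∈ rl B L := by
  obtain ⟨a, ha, b, hb, rfl⟩ := (BlkFam.mem_sup_of_comm c.comm).mp hx
  have h1 := c.g1 b hb q (c.h.o2_le hq)
  have h2 : a * q = q * a := mem_centralizer_iff.1 (o2_cent_zl c.h hq) a ha
  have hr : a * (b * q * b⁻¹ * q⁻¹) = (b * q * b⁻¹ * q⁻¹) * a :=
    rl_comm h1 (c.h.le (zl_le_B c.h ha))
  have e : a * b * q * (a * b)⁻¹ * q⁻¹ = a * (b * q * b⁻¹ * q⁻¹) * (q * a⁻¹ * q⁻¹) := by group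
  have h3 : q * a⁻¹ * q⁻¹ = a⁻¹ := by
    have : q * a⁻¹ = a⁻¹ * q := by
      calc q * a⁻¹ = a⁻¹ * (a * q) * a⁻¹ := by group
        _ = a⁻¹ * (q * a) * a⁻¹ := by rw [h2]
        _ = a⁻¹ * q := by group
    rw [this]; group
  rw [e, h3, hr]
  have e2 : b * q * b⁻¹ * q⁻¹ * a * a⁻¹ = b * q * b⁻¹ * q⁻¹ := by group
  rw [e2]
  exact h1

omit c in
/-- an element of odd order fixing `x` modulo a commuting involution fixes `x` -/
theorem fixr {y x r : G} {k : ℕ} (hy : y ^ 3 ^ k = 1) (h1 : y * x * y⁻¹ = r * x) (h2 : y * r = r * y)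
    (h3 : r * r = 1) : y * x = x * y := by
  have h4 : y * y ∈ centralizer ({x} : Set G) := by
    rw [mem_centralizer_singleton_iff]
    calc y * y * x = y * (y * x * y⁻¹) * y := by group
      _ = (y * r) * x * y := by rw [h1]; group
      _ = r * (y * x * y⁻¹) * y * y := by rw [h2]; group
      _ = (r * r) * x * (y * y) := by rw [h1]; group
      _ = x * (y * y) := by rw [h3, one_mul]
  have h5 := mem_of_sq_mem hy h4
  exact mem_centralizer_singleton_iff.1 h5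

/-- a 3-element of `L` fixes `v z`, for some `v ∈ vl B L' ∖ ⟨z'⟩` -/
theorem exists_y : ∃ y ∈ L, ∃ v ∈ vl B L', v ≠ 1 ∧ v ≠ z' ∧ y ^ 3 ^ k = 1 ∧
    (∀ u ∈ vl B L, y * u * y⁻¹ = u → u = 1) ∧ (∀ u ∈ vl B L, y ^ 3 * u * (y ^ 3)⁻¹ = u) ∧
    y * (v * z) = (v * z) * y := by
  obtain ⟨y, hy, h0, h1, h2, h3, h4⟩ := c.h.dih
  obtain ⟨v, hv, hv1, hvz⟩ := Four.exists_other c.h'.card_vl z'
  refine ⟨y, hy, v, hv, hv1, hvz, h0, h3, h4, ?_⟩
  have hvS : v ∈ zl B L ⊔ zl B L' := mem_sup' hv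
  have hyS : y * v * y⁻¹ ∈ zl B L ⊔ zl B L' := Four.conj_mem (c.g2 hy) hvS
  rcases c.sup_cases hv hv1 hvz hyS with h5 | h5
  · exfalso
    have h6 := Four.conj_mem' (le_normalizer_zl B L hy) h5
    have e : y⁻¹ * (y * v * y⁻¹) * y = v := by group
    rw [e] at h6
    exact c.notMem_zl hv hv1 hvz h6
  obtain ⟨r, hr, a, ha, he⟩ := mem_zl c.h h5
  have hvv := c.vsq' hv
  have hnV := le_normalizer_vl B L hy
  set a1 := y * a * y⁻¹ with ha1
  set a2 := y * a1 * y⁻¹ with ha2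
  have ha1V : a1 ∈ vl B L := Four.conj_mem hnV ha
  have ha2V : a2 ∈ vl B L := Four.conj_mem hnV ha1V
  have ha3 : y * a2 * y⁻¹ = a := by
    have := h4 a ha
    calc y * a2 * y⁻¹ = y ^ 3 * a * (y ^ 3)⁻¹ := by
          rw [ha2, ha1]; simp only [pow_succ, pow_zero, one_mul]; group
      _ = a := this
  have hVc : ∀ {p q : G}, p ∈ vl B L → q ∈ vl B L → p * q = q * p := fun hp hq => Four.comm_of_sq (vl_sq c.h) hp hq
  have hprod : a * a1 * a2 = 1 := by
    refine h3 _ ((vl B L).mul_mem ((vl B L).mul_mem ha ha1V) ha2V) ?_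
    calc y * (a * a1 * a2) * y⁻¹ = (y * a * y⁻¹) * (y * a1 * y⁻¹) * (y * a2 * y⁻¹) := by group
      _ = a1 * a2 * a := by rw [ha3]
      _ = a * a1 * a2 := by rw [hVc ((vl B L).mul_mem ha1V ha2V) ha]; group
  have ha2' : a2 = a * a1 := by
    have h6 : (a * a1) * (a * a1) = 1 := c.vsq ((vl B L).mul_mem ha ha1V)
    calc a2 = (a * a1)⁻¹ * (a * a1 * a2) := by group
      _ = a * a1 := by rw [hprod, mul_one, inv_eq h6]
  have haz := vl_le_zl B L ha
  have ha1z := vl_le_zl B L ha1V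
  have hrz := rl_le_zl B L hr
  have hvz' := vl_le_zl B L' hv
  -- `y w y⁻¹ = r w`
  have hw : y * (v * a1) * y⁻¹ = r * (v * a1) := by
    have h6 : y * v * y⁻¹ = r * a * v := by
      calc y * v * y⁻¹ = (y * v * y⁻¹ * v) * v⁻¹ := by group
        _ = r * a * v := by rw [he, inv_eq hvv]
    calc y * (v * a1) * y⁻¹ = (y * v * y⁻¹) * (y * a1 * y⁻¹) := by group
      _ = (r * a * v) * (a * a1) := by rw [h6, ← ha2, ha2']
      _ = r * a * (v * a) * a1 := by group
      _ = r * a * (a * v) * a1 := by rw [c.comm a haz v hvz']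
      _ = r * (a * a) * (v * a1) := by group
      _ = r * (v * a1) := by rw [c.vsq ha, mul_one]
  have hyw : y * (v * a1) = (v * a1) * y := fixr h0 hw (rl_comm hr hy) (c.zsq hrz)
  have hyz' : y * z' = z' * y := rl_comm c.pt_mem hy
  by_cases hu1 : a1 = 1
  · -- `V'` is normalised by `L`
    exfalso
    rw [hu1, mul_one] at hyw
    have hyN : y ∈ normalizer (vl B L' : Set G) := by
      refine centralizer_le_normalizer _ ?_
      rw [mem_centralizer_iff]
      intro x hx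
      rcases Four.four c.h'.card_vl (vl_sq c.h') c.pt'.1 hv c.pt'.2.2 hv1 hvz.symm x hx with h6 | h6 | h6 | h6
      · rw [h6, one_mul, mul_one]
      · rw [h6, hyz']
      · rw [h6, hyw]
      · rw [h6]
        calc z' * v * y = z' * (v * y) := by group
          _ = z' * (y * v) := by rw [hyw]
          _ = (z' * y) * v := by group
          _ = y * (z' * v) := by rw [← hyz']; group
    have h7 := c.core (vl B L') (vl_le_B c.h') (fun g hg => ?_) (le_normalizer_vl B L')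
    · exact c.pt'.2.2 (by have := c.pt'.1; rwa [h7, mem_bot] at this)
    · obtain ⟨n, b, hb, rfl⟩ := h2 g hg
      exact mul_mem (pow_mem hyN n) (le_normalizer_vl B L' (c.h'.le hb))
  by_cases huz : a1 = z
  · rw [huz] at hyw
    exact hyw
  exfalso
  obtain ⟨b, hb, hbQ⟩ := exists_b c.h
  have hbu := conj_eq c.h c.pt ha1V hu1 huz hb hbQ
  set w1 := b * (v * a1) * b⁻¹ with hw1
  have hwS : v * a1 ∈ zl B L ⊔ zl B L' := mul_mem hvS (mem_sup_left ha1z)
  have hBS : B ≤ normalizer ((zl B L ⊔ zl B L' : Subgroup G) : Set G) := c.h.le.trans c.g2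
  have hw1S : w1 ∈ zl B L ⊔ zl B L' := Four.conj_mem (hBS hb) hwS
  -- `y` fixes `w1`
  have hyw1 : y * w1 = w1 * y := by
    set q := b * y * b⁻¹ * y with hq
    have hqQ : q ∈ o2 L := h1 b hb hbQ
    have h6 : (q * y⁻¹) * w1 = w1 * (q * y⁻¹) := by
      have e : q * y⁻¹ = b * y * b⁻¹ := by rw [hq]; group
      rw [e, hw1]
      calc b * y * b⁻¹ * (b * (v * a1) * b⁻¹) = b * (y * (v * a1)) * b⁻¹ := by group
        _ = b * ((v * a1) * y) * b⁻¹ := by rw [hyw]
        _ = b * (v * a1) * b⁻¹ * (b * y * b⁻¹) := by group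
    have h7 := c.q_comm hw1S ((o2 L).inv_mem hqQ)
    have h8 : y⁻¹ * w1 * (y⁻¹)⁻¹ = (w1 * q⁻¹ * w1⁻¹ * q⁻¹⁻¹)⁻¹ * w1 := by
      calc y⁻¹ * w1 * (y⁻¹)⁻¹ = q⁻¹ * ((q * y⁻¹) * w1) * y := by group
        _ = q⁻¹ * (w1 * (q * y⁻¹)) * y := by rw [h6]
        _ = q⁻¹ * w1 * q := by group
        _ = _ := by group
    have h9 : y⁻¹ * w1 = w1 * y⁻¹ := by
      refine fixr (k := k) (by rw [inv_pow, h0, inv_one]) h8 (rl_comm ((rl B L).inv_mem h7) (L.inv_mem hy)) ?_
      exact c.zsq (rl_le_zl B L ((rl B L).inv_mem h7))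
    calc y * w1 = y * (w1 * y⁻¹) * y := by group
      _ = y * (y⁻¹ * w1) * y := by rw [h9]
      _ = w1 * y := by group
  -- `w1 = z'^i z w`
  have hbv : b * v * b⁻¹ = v ∨ b * v * b⁻¹ = z' * v :=
    Four.fix_dichotomy c.h'.card_vl (vl_sq c.h') c.pt'.1 hv c.pt'.2.2 hv1 hvz.symm
      (le_normalizer_vl B L' (c.h'.le hb)) (c.pt'.conj hb)
  have hyz : y * z = z * y := by
    have hzv : v * z = z * v := (c.comm z (vl_le_zl B L c.pt.1) v hvz').symm
    have hww : (v * a1) * (v * a1)⁻¹ = 1 := mul_inv_cancel _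
    have hyC : v * a1 ∈ centralizer ({y} : Set G) := mem_centralizer_singleton_iff.2 hyw.symm
    have hw1C : w1 ∈ centralizer ({y} : Set G) := mem_centralizer_singleton_iff.2 hyw1.symm
    have hz'C : z' ∈ centralizer ({y} : Set G) := mem_centralizer_singleton_iff.2 hyz'.symm
    have e : w1 = (b * v * b⁻¹) * (z * a1) := by rw [hw1, ← hbu]; group
    have hzC : z ∈ centralizer ({y} : Set G) := by
      rcases hbv with h6 | h6
      · have e2 : z = w1 * (v * a1)⁻¹ := by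
          rw [e, h6]
          calc z = (z * v) * a1 * (v * a1)⁻¹ := by group
            _ = (v * z) * a1 * (v * a1)⁻¹ := by rw [hzv]
            _ = _ := by group
        rw [e2]
        exact mul_mem hw1C (inv_mem hyC)
      · have e2 : z = z'⁻¹ * w1 * (v * a1)⁻¹ := by
          rw [e, h6]
          calc z = (z * v) * a1 * (v * a1)⁻¹ := by group
            _ = (v * z) * a1 * (v * a1)⁻¹ := by rw [hzv]
            _ = _ := by group
        rw [e2]
        exact mul_mem (mul_mem (inv_mem hz'C) hw1C) (inv_mem hyC)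
    exact (mem_centralizer_singleton_iff.1 hzC).symm
  exact c.pt.2.2 (h3 z c.pt.1 (Four.conj_eq_iff_comm.2 hyz))

/-- `v z` is conjugate to `z' r` in `L'` -/
theorem exists_l {r v : G} (hr : r ∈ rl B L') (hrz : r = z ∨ r = z * z') (hv : v ∈ vl B L') (hv1 : v ≠ 1)
    (hvz : v ≠ z') : ∃ l ∈ L', l * (z' * r) * l⁻¹ = v * z := by
  obtain ⟨y, hy, h0, h1, h2, h3, h4⟩ := c.h'.dih
  have hz'z : z' * z = z * z' := c.comm_zz.symm
  have key : ∀ x ∈ vl B L', x ≠ 1 → ∃ l ∈ L', l * z' * l⁻¹ = x := by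
    intro x hx hx1
    have hyV : y ∉ centralizer (vl B L' : Set G) := fun h5 =>
      c.pt'.2.2 (h3 z' c.pt'.1 (Four.mem_cent_iff.1 h5 z' c.pt'.1))
    have hy3 : y ^ 3 ∈ centralizer (vl B L' : Set G) := Four.mem_cent_iff.2 h4
    rcases Four.cyc_trans c.h'.card_vl (vl_sq c.h') (le_normalizer_vl B L' hy) hyV hy3 c.pt'.1 c.pt'.2.2 hx hx1 with
      h5 | h5 | h5
    · exact ⟨1, L'.one_mem, by rw [h5]; group⟩
    · exact ⟨y, hy, h5.symm⟩
    · exact ⟨y⁻¹, L'.inv_mem hy, by rw [h5]; group⟩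
  have hvz1 : v * z' ∈ vl B L' := (vl B L').mul_mem hv c.pt'.1
  rcases hrz with h5 | h5
  · obtain ⟨l, hl, h6⟩ := key v hv hv1
    refine ⟨l, hl, ?_⟩
    calc l * (z' * r) * l⁻¹ = (l * z' * l⁻¹) * (l * r * l⁻¹) := by group
      _ = v * z := by rw [h6, rl_conj hr hl, h5]
  · obtain ⟨l, hl, h6⟩ := key (v * z') hvz1 (fun h7 => hvz (by
      calc v = (v * z') * z'⁻¹ := by group
        _ = z' := by rw [h7, one_mul, inv_eq c.pt'.mul_self]))
    refine ⟨l, hl, ?_⟩
    calc l * (z' * r) * l⁻¹ = (l * z' * l⁻¹) * (l * r * l⁻¹) := by group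
      _ = v * z' * (z * z') := by rw [h6, rl_conj hr hl, h5]
      _ = v * (z' * z) * z' := by group
      _ = v * z * (z' * z') := by rw [hz'z]; group
      _ = v * z := by rw [c.pt'.mul_self, mul_one]

end Cf

end Cfsg.Agent.OddCyclic.APA
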