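import Cfsg.Agent.OddCyclic.COneLin

/-!
# S0342 (D): the case `H / C_H(W) = SL₂(q).2ᵃ`, Baumann's argument

`W₁ = W Z_J` is normal in `H`, `|W₁ : Z_J| = q`.
-/

set_option autoImplicit false

namespace Cfsg.Agent.OddCyclic.COneLinB

open Subgroup Cfsg Cfsg.Agent.ZN
open Cfsg.Agent.MinSimple
open Cfsg.Agent.OddCyclic.T1Defs Cfsg.Agent.OddCyclic.COneDefs Cfsg.Agent.OddCyclic.COneBase
open Cfsg.Agent.OddCyclic.COneLin
open Cfsg.Agent.PLocal.ThompsonJ
open Matrix (SpecialLinearGroup)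
open scoped commutatorElement

universe u

variable {G : Type u} [Group G]

/-! ### index facts -/

theorem relIndex_sup_of_le_normalizer {K S : Subgroup G}
    (h : K ≤ Subgroup.normalizer (S : Set G)) : S.relIndex (K ⊔ S) = S.relIndex K := by
  have := Subgroup.normal_subgroupOf_of_le_normalizer h
  have := Subgroup.normal_subgroupOf_sup_of_le_normalizer h
  exact (Nat.card_congr (QuotientGroup.quotientInfEquivProdNormalizerQuotient K S h).toEquiv).symm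

theorem exists_mul_of_mem_sup {H N : Subgroup G} (h : H ≤ normalizer (N : Set G)) {x : G} (hx : x ∈ H ⊔ N) :
    ∃ a ∈ H, ∃ b ∈ N, x = a * b := by
  have h1 : x ∈ ((H ⊔ N : Subgroup G) : Set G) := hx
  rw [Subgroup.coe_mul_of_left_le_normalizer_right H N h, Set.mem_mul] at h1
  obtain ⟨a, ha, b, hb, hab⟩ := h1
  exact ⟨a, ha, b, hb, hab.symm⟩

theorem le_normalizer_of_comm {H L : Subgroup G} (hc : ∀ x ∈ H, ∀ y ∈ L, x * y = y * x) :
    H ≤ normalizer (L : Set G) := by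
  rw [le_normalizer_iff]
  intro x hx y hy
  rw [hc x hx y hy, mul_inv_cancel_right]
  exact hy

theorem card_mul_relIndex {A B : Subgroup G} (h : A ≤ B) :
    Nat.card A * A.relIndex B = Nat.card B := by
  have h1 := Subgroup.relIndex_mul_relIndex (⊥ : Subgroup G) A B bot_le h
  rwa [Subgroup.relIndex_bot_left, Subgroup.relIndex_bot_left] at h1

theorem relIndex_pos [Finite G] (A B : Subgroup G) : A.relIndex B ≠ 0 := by
  have : Finite B := inferInstance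
  exact Subgroup.index_ne_zero_of_finite

variable {M T H N : Subgroup G} {s : G}
variable {F : Type} [Field F] [Fintype F] [CharP F 2] {ψ : N →* SpecialLinearGroup (Fin 2) F}

variable (d : LinD M T H N s F ψ)

include d

theorem relIndex_Q_A [Finite G] {A : Subgroup G} (hA : IsMaxIn T A) (hA1 : ¬ A ≤ centralizer (zl T H : Set G)) :
    (A ⊓ o2 H).relIndex A = Fintype.card F := by
  have hAN : A ≤ N := d.lin.inN A hA hA1
  have hker : ψ.ker = (o2 H).subgroupOf N := by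
    ext n
    rw [MonoidHom.mem_ker, mem_subgroupOf]
    exact d.ker n.2
  have h1 := d.lin.cardA A hA hA1
  rw [← Subgroup.relIndex_ker, hker, Subgroup.relIndex_subgroupOf hAN] at h1
  rw [← h1, ← Subgroup.inf_relIndex_right (o2 H) A, inf_comm]

/-- `W (A ∩ Q)` is again a largest elementary abelian subgroup of `T`. -/
theorem isMaxIn_sup [Finite G] {A : Subgroup G} (hA : IsMaxIn T A) (hA1 : ¬ A ≤ centralizer (zl T H : Set G)) :
    IsMaxIn T (zl T H ⊔ (A ⊓ o2 H)) := by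
  set D : Subgroup G := A ⊓ o2 H with hD
  have hA2 := isElementaryAbelian_iff.1 hA.2.1
  have hWD : zl T H ≤ normalizer (D : Set G) :=
    le_normalizer_of_comm fun x hx y hy => (d.Q_cent hy.2 hx).symm
  have hmul : ∀ x ∈ zl T H ⊔ D, ∃ w ∈ zl T H, ∃ a ∈ D, x = w * a := fun x hx =>
    exists_mul_of_mem_sup hWD hx
  have hel : IsElementaryAbelian 2 (zl T H ⊔ D : Subgroup G) := by
    rw [isElementaryAbelian_iff]
    constructor
    · intro x hx y hy
      obtain ⟨w, hw, a, ha, rfl⟩ := hmul x hx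
      obtain ⟨w', hw', a', ha', rfl⟩ := hmul y hy
      have e1 := d.W_comm hw hw'
      have e2 := hA2.1 a ha.1 a' ha'.1
      have e3 := d.Q_cent ha.2 hw'
      have e4 := d.Q_cent ha'.2 hw
      calc w * a * (w' * a') = w * (a * w') * a' := by group
        _ = (w * w') * (a * a') := by rw [e3]; group
        _ = w' * (w * a') * a := by rw [e1, e2]; group
        _ = w' * a' * (w * a) := by rw [← e4]; group
    · intro x hx
      obtain ⟨w, hw, a, ha, rfl⟩ := hmul x hx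
      have e3 := d.Q_cent ha.2 hw
      have e5 := hA2.2 a ha.1
      rw [pow_two] at e5 ⊢
      calc w * a * (w * a) = w * (a * w) * a := by group
        _ = (w * w) * (a * a) := by rw [e3]; group
        _ = 1 := by rw [d.W_sq hw, e5, one_mul]
  refine ⟨sup_le d.W_le_T (inf_le_left.trans hA.1), hel, fun B hB hB2 => (hA.2.2 B hB hB2).trans ?_⟩
  have h1 := card_mul_relIndex (inf_le_left : D ≤ A)
  have h2 := card_mul_relIndex (le_sup_right : D ≤ zl T H ⊔ D)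
  have h3 : D.relIndex (zl T H) = Fintype.card F := by
    rw [← Subgroup.inf_relIndex_right]
    have h4 : D ⊓ zl T H = zl T H ⊓ centralizer (A : Set G) := by
      ext w
      constructor
      · rintro ⟨⟨hwA, -⟩, hw⟩
        exact ⟨hw, mem_centralizer_iff.2 fun a ha => hA2.1 a ha w hwA⟩
      · rintro ⟨hw, hwA⟩
        refine ⟨⟨hA.mem_of_comm (d.W_le_T hw) (by rw [pow_two]; exact d.W_sq hw) fun a ha =>
          mem_centralizer_iff.1 hwA a ha, d.W_le_Q hw⟩, hw⟩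
    rw [h4]
    exact d.lin.idx A hA hA1
  have h5 : D.relIndex (zl T H) ≤ D.relIndex (zl T H ⊔ D) :=
    Subgroup.relIndex_le_of_le_right le_sup_left (relIndex_pos _ _)
  rw [← h1, ← h2, relIndex_Q_A d hA hA1, ← h3]
  exact Nat.mul_le_mul_left _ h5

theorem zj_le_sup [Finite G] {A : Subgroup G} (hA : IsMaxIn T A) (hA1 : ¬ A ≤ centralizer (zl T H : Set G)) :
    zj T ≤ zl T H ⊔ (A ⊓ o2 H) := (isMaxIn_sup d hA hA1).zj_le

theorem sup_le_Q [Finite G] (A : Subgroup G) : zl T H ⊔ (A ⊓ o2 H) ≤ o2 H :=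
  sup_le d.W_le_Q inf_le_right

theorem zj_le_Q [Finite G] : zj T ≤ o2 H := by
  obtain ⟨A, hA, hA1⟩ := d.exists_A
  exact (zj_le_sup d hA hA1).trans (sup_le_Q d A)

/-- `Z_J ≤ Z_J(Q)`. -/
theorem zj_le_zj [Finite G] : zj T ≤ zj (o2 H) := by
  obtain ⟨A, hA, hA1⟩ := d.exists_A
  have h1 : jj (o2 H) ≤ jj T := jj_le_jj_of_isMaxIn (isMaxIn_sup d hA hA1) (sup_le_Q d A) d.Q_le_T
  intro x hx
  exact mem_zj_of_comm (zj_le_Q d hx) (zj_sq hx) fun b hb => (mem_zj.1 hx).2.1 b (h1 hb)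

theorem comm_A [Finite G] {A : Subgroup G} (hA : IsMaxIn T A) (hA1 : ¬ A ≤ centralizer (zl T H : Set G))
    {a y : G} (ha : a ∈ A) (hy : y ∈ zj (o2 H)) : a * y * a⁻¹ * y⁻¹ ∈ zl T H := by
  have h1 : IsMaxIn (o2 H) (zl T H ⊔ (A ⊓ o2 H)) := (isMaxIn_sup d hA hA1).mono (sup_le_Q d A) d.Q_le_T
  have h2 := h1.zj_le hy
  have hWD : zl T H ≤ normalizer ((A ⊓ o2 H : Subgroup G) : Set G) :=
    le_normalizer_of_comm fun x hx y hy => (d.Q_cent hy.2 hx).symm
  obtain ⟨w, hw, c, hc, rfl⟩ := exists_mul_of_mem_sup hWD h2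
  have e1 := (isElementaryAbelian_iff.1 hA.2.1).1 a ha c hc.1
  have e2 : a * (w * c) * a⁻¹ * (w * c)⁻¹ = (a * w * a⁻¹) * w⁻¹ := by
    calc a * (w * c) * a⁻¹ * (w * c)⁻¹ = a * w * (c * a⁻¹) * c⁻¹ * w⁻¹ := by group
      _ = a * w * (a⁻¹ * c) * c⁻¹ * w⁻¹ := by
        have : c * a⁻¹ = a⁻¹ * c := by
          calc c * a⁻¹ = a⁻¹ * (a * c) * a⁻¹ := by group
            _ = a⁻¹ * (c * a) * a⁻¹ := by rw [e1]
            _ = a⁻¹ * c := by group
        rw [this]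
      _ = (a * w * a⁻¹) * w⁻¹ := by group
  rw [e2]
  exact mul_mem (d.W_conj (d.TH (hA.1 ha)) hw) (inv_mem hw)

/-- the elements of `N` centralising `Z_J(Q) / W` -/
def PP (T H N : Subgroup G) : Subgroup G where
  carrier := {x | x ∈ N ∧ x ∈ H ∧ ∀ y ∈ zj (o2 H), x * y * x⁻¹ * y⁻¹ ∈ zl T H}
  one_mem' := ⟨one_mem _, one_mem _, fun y _ => by simp⟩
  mul_mem' := by
    rintro a b ⟨haN, haH, ha⟩ ⟨hbN, hbH, hb⟩
    refine ⟨mul_mem haN hbN, mul_mem haH hbH, fun y hy => ?_⟩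
    have e : a * b * y * (a * b)⁻¹ * y⁻¹ = (a * (b * y * b⁻¹ * y⁻¹) * a⁻¹) * (a * y * a⁻¹ * y⁻¹) := by group
    rw [e]
    exact mul_mem ((mem_normalizer_iff.1 (le_normalizer_zl T H haH) _).1 (hb y hy)) (ha y hy)
  inv_mem' := by
    rintro a ⟨haN, haH, ha⟩
    refine ⟨inv_mem haN, inv_mem haH, fun y hy => ?_⟩
    have h1 := inv_mem (ha y hy)
    have h2 := (mem_normalizer_iff.1 (le_normalizer_zl T H (inv_mem haH)) _).1 h1
    have e : a⁻¹ * (a * y * a⁻¹ * y⁻¹)⁻¹ * a⁻¹⁻¹ = a⁻¹ * y * a⁻¹⁻¹ * y⁻¹ := by group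
    rwa [e] at h2

omit d in
theorem PP_conj (hN : H ≤ normalizer (N : Set G)) {g x : G} (hg : g ∈ H) (hx : x ∈ PP T H N) :
    g * x * g⁻¹ ∈ PP T H N := by
  obtain ⟨h1, h2, h3⟩ := hx
  refine ⟨(mem_normalizer_iff.1 (hN hg) x).1 h1, mul_mem (mul_mem hg h2) (inv_mem hg), fun y hy => ?_⟩
  have hzj : H ≤ normalizer (zj (o2 H) : Set G) :=
    (le_normalizer_o2 H).trans (normalizer_le_normalizer_zj (o2 H))
  have h4 : g⁻¹ * y * g ∈ zj (o2 H) := by
    have := (mem_normalizer_iff.1 (hzj (inv_mem hg)) y).1 hy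
    rwa [inv_inv] at this
  have h5 := (mem_normalizer_iff.1 (le_normalizer_zl T H hg) _).1 (h3 _ h4)
  have e : g * (x * (g⁻¹ * y * g) * x⁻¹ * (g⁻¹ * y * g)⁻¹) * g⁻¹ = g * x * g⁻¹ * y * (g * x * g⁻¹)⁻¹ * y⁻¹ := by
    group
  rwa [e] at h5

/-- `N = P Q`. -/
theorem exists_PP [Finite G] {n : G} (hn : n ∈ N) : ∃ p ∈ PP T H N, ∃ x ∈ o2 H, n = p * x := by
  have hPN : PP T H N ≤ N := fun x hx => hx.1
  have h1 : (((PP T H N).subgroupOf N).map ψ).Normal := by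
    refine ⟨?_⟩
    rintro _ ⟨p, hp, rfl⟩ g
    obtain ⟨m, rfl⟩ := d.lin.surj g
    exact ⟨m * p * m⁻¹, PP_conj d.lin.norm (d.NH m.2) hp, by rw [map_mul, map_mul, map_inv]⟩
  have hs := FFBasic.isSimpleGroup_sl2 (F := F) d.lin.four
  have h2 : ((PP T H N).subgroupOf N).map ψ = ⊤ := by
    refine (h1.eq_bot_or_eq_top).resolve_left fun hb => ?_
    obtain ⟨A, hA, hA1⟩ := d.exists_A
    apply hA1
    have hAN := d.lin.inN A hA hA1
    intro a ha
    have h3 : ψ ⟨a, hAN ha⟩ ∈ ((PP T H N).subgroupOf N).map ψ :=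
      ⟨⟨a, hAN ha⟩, ⟨hAN ha, d.TH (hA.1 ha), fun y hy => comm_A d hA hA1 ha hy⟩, rfl⟩
    rw [hb, mem_bot] at h3
    exact (d.lin.ker _).1 h3
  obtain ⟨p, hp, hpn⟩ : ψ ⟨n, hn⟩ ∈ ((PP T H N).subgroupOf N).map ψ := by rw [h2]; exact mem_top _
  have h3 : ψ (p⁻¹ * ⟨n, hn⟩) = 1 := by rw [map_mul, map_inv, hpn, inv_mul_cancel]
  have h4 := (d.ker (p⁻¹ * ⟨n, hn⟩ : N).2).1 h3
  refine ⟨p, hp, _, h4, ?_⟩
  rw [coe_mul, coe_inv]; group

theorem T_norm_zj : T ≤ normalizer (zj T : Set G) := le_normalizer_zj T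

theorem W_norm_zj [Finite G] : zl T H ≤ normalizer (zj T : Set G) := d.W_le_T.trans (T_norm_zj d)

theorem exists_W_mul [Finite G] {x : G} (hx : x ∈ zl T H ⊔ zj T) : ∃ w ∈ zl T H, ∃ z ∈ zj T, x = w * z :=
  exists_mul_of_mem_sup (W_norm_zj d) hx

/-- `W Z_J` is normal in `H`. -/
theorem norm_W1 [Finite G] : H ≤ normalizer ((zl T H ⊔ zj T : Subgroup G) : Set G) := by
  have hW : ∀ g ∈ H, ∀ w ∈ zl T H, g * w * g⁻¹ ∈ zl T H := fun g hg w hw => d.W_conj hg hw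
  refine d.N_sup_T.ge.trans (sup_le ?_ ?_)
  · rw [le_normalizer_iff]
    intro n hn x hx
    obtain ⟨w, hw, z, hz, rfl⟩ := exists_W_mul d hx
    obtain ⟨p, hp, c, hc, rfl⟩ := exists_PP d hn
    have h1 : c * z * c⁻¹ ∈ zj T := (mem_normalizer_iff.1 (T_norm_zj d (d.Q_le_T hc)) z).1 hz
    have h2 := hp.2.2 _ (zj_le_zj d h1)
    have e : p * c * (w * z) * (p * c)⁻¹ =
        (p * c * w * (p * c)⁻¹) * (p * (c * z * c⁻¹) * p⁻¹ * (c * z * c⁻¹)⁻¹) * (c * z * c⁻¹) := by group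
    rw [e]
    refine mul_mem (mem_sup_left (mul_mem (hW _ (d.NH hn) w hw) h2)) (mem_sup_right h1)
  · rw [le_normalizer_iff]
    intro t ht x hx
    obtain ⟨w, hw, z, hz, rfl⟩ := exists_W_mul d hx
    have h1 : t * z * t⁻¹ ∈ zj T := (mem_normalizer_iff.1 (T_norm_zj d ht) z).1 hz
    have e : t * (w * z) * t⁻¹ = (t * w * t⁻¹) * (t * z * t⁻¹) := by group
    rw [e]
    exact mul_mem (mem_sup_left (hW _ (d.TH ht) w hw)) (mem_sup_right h1)

/-- `|W Z_J : Z_J| = q`. -/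
theorem relIndex_zj [Finite G] : (zj T).relIndex (zl T H ⊔ zj T) = Fintype.card F := by
  rw [relIndex_sup_of_le_normalizer (W_norm_zj d), ← d.relIndex_inf_zj, ← Subgroup.inf_relIndex_right,
    inf_comm]

theorem W1_le_Q [Finite G] : zl T H ⊔ zj T ≤ o2 H := sup_le d.W_le_Q (zj_le_Q d)

theorem W1_comm [Finite G] {x y : G} (hx : x ∈ zl T H ⊔ zj T) (hy : y ∈ zl T H ⊔ zj T) : x * y = y * x := by
  obtain ⟨w, hw, z, hz, rfl⟩ := exists_W_mul d hx
  obtain ⟨w', hw', z', hz', rfl⟩ := exists_W_mul d hy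
  have e1 := d.W_comm hw hw'
  have e2 : z * z' = z' * z := (mem_zj.1 hz').2.1 z ((mem_zj.1 hz).1)
  have e3 := d.Q_cent (zj_le_Q d hz) hw'
  have e4 := d.Q_cent (zj_le_Q d hz') hw
  calc w * z * (w' * z') = w * (z * w') * z' := by group
    _ = (w * w') * (z * z') := by rw [e3]; group
    _ = w' * (w * z') * z := by rw [e1, e2]; group
    _ = w' * z' * (w * z) := by rw [← e4]; group

theorem W1_sq [Finite G] {x : G} (hx : x ∈ zl T H ⊔ zj T) : x * x = 1 := by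
  obtain ⟨w, hw, z, hz, rfl⟩ := exists_W_mul d hx
  have e3 := d.Q_cent (zj_le_Q d hz) hw
  have e5 := zj_sq hz
  rw [pow_two] at e5
  calc w * z * (w * z) = w * (z * w) * z := by group
    _ = (w * w) * (z * z) := by rw [e3]; group
    _ = 1 := by rw [d.W_sq hw, e5, one_mul]

end Cfsg.Agent.OddCyclic.COneLinB
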