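import Cfsg.Agent.OddCyclic.RedRep
import Cfsg.Agent.OddCyclic.RedBlock
import Cfsg.Agent.OddCyclic.COneLinB
import Cfsg.Agent.LieExceptional.CITFFLocal

/-!
# S0342, (C2), 2.2: the action of `X` on a 2-reduced normal subgroup `Y`

`YC X T Y`. `AD X Y ρ π ι`: `H` (the group induced by `X` on `Y`) acts on `W` (a copy of `Y`), `π : X →* H`, `ι : W →* G`.
* `exists_ad`;
* `AD.fam`: the images of the members of `𝒜(T)` form a family of best offenders (`RedFam.Fam`);
* `exists_rep`: the same in the language of `RedRep.Rep`;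
* `frattini_jj`: `X = N C_X(Y) N_X(J(T))` if `J(T) ≤ N C_X(Y)`; `exists_three`: 3-elements lift.
-/

set_option autoImplicit false
set_option linter.unusedSectionVars false

namespace Cfsg.Agent.OddCyclic.RedAct

open Subgroup Cfsg Cfsg.Agent.ZN Cfsg.Agent.ZN.ChoiceBase Cfsg.Agent.MinSimple Cfsg.Agent.MinSimple.DBlkApi
open Cfsg.Agent.OddCyclic.T1Defs
open Cfsg.Agent.OddCyclic.T1Module Cfsg.Agent.OddCyclic.FFBasic Cfsg.Agent.OddCyclic.FFRed
open Cfsg.Agent.OddCyclic.RedTy Cfsg.Agent.OddCyclic.RedFam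
open Cfsg.Agent.OddCyclic.RedX (Loc)
open Cfsg.Agent.PLocal.ThompsonJ

universe u

variable {G : Type u} [Group G] {X T Y : Subgroup G}

/-! ### preliminaries -/

theorem YC.le_o2 [Finite G] (h : YC X T Y) : Y ≤ o2 X := h.le.trans (zc_le (o2 X))

theorem YC.le_T [Finite G] (h : YC X T Y) : Y ≤ T := (YC.le_o2 h).trans h.toLoc.o2_le

theorem YC.le_X [Finite G] (h : YC X T Y) : Y ≤ X := (YC.le_T h).trans h.TX

theorem YC.comm [Finite G] (h : YC X T Y) {x y : G} (hx : x ∈ Y) (hy : y ∈ Y) : x * y = y * x :=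
  (ChoiceBase.mem_zc.1 (h.le hy)).2.2 x (zc_le (o2 X) (h.le hx))

theorem YC.sq [Finite G] (h : YC X T Y) {x : G} (hx : x ∈ Y) : x * x = 1 := by
  rw [← pow_two]; exact (ChoiceBase.mem_zc.1 (h.le hx)).2.1

theorem YC.conj [Finite G] (h : YC X T Y) {g y : G} (hg : g ∈ X) (hy : y ∈ Y) : g * y * g⁻¹ ∈ Y :=
  Four.conj_mem (h.nor hg) hy

/-- a conjugate in a Sylow 2-subgroup -/
theorem exists_cj_le [Finite G] {C T A : Subgroup G} (hT : IsPGroup 2 T)
    (hs : ¬ 2 ∣ T.relIndex C) (hAC : A ≤ C) (hA : IsPGroup 2 A) : ∃ c ∈ C, cj c A ≤ T := by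
  have : Fact (Nat.Prime 2) := ⟨Nat.prime_two⟩
  have hT' : IsPGroup 2 (T.subgroupOf C) := hT.comap_of_injective _ C.subtype_injective
  have hA' : IsPGroup 2 (A.subgroupOf C) := hA.comap_of_injective _ C.subtype_injective
  obtain ⟨Q, hQ⟩ := hA'.exists_le_sylow
  obtain ⟨g, hg⟩ := MulAction.exists_smul_eq C Q (hT'.toSylow hs)
  refine ⟨g, g.2, ?_⟩
  rintro _ ⟨x, hx, rfl⟩
  have h1 : (⟨x, hAC hx⟩ : C) ∈ (Q : Subgroup C) := hQ (mem_subgroupOf.mpr hx)
  have h2 : (MulAut.conj g) ⟨x, hAC hx⟩ ∈ ((g • Q : Sylow 2 C) : Subgroup C) := by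
    rw [Sylow.smul_def]
    exact Subgroup.smul_mem_pointwise_smul _ (MulAut.conj g) _ h1
  rw [hg] at h2
  exact mem_subgroupOf.mp h2

/-- the group induced by `X` on `Y` -/
structure AD {H W : Type u} [Group H] [CommGroup W] (X Y : Subgroup G) (ρ : H →* MulAut W) (π : X →* H)
    (ι : W →* G) : Prop where
  sq : ∀ w : W, w * w = 1
  inj : Function.Injective ρ
  surj : Function.Surjective π
  ιinj : Function.Injective ι
  mem : ∀ w, ι w ∈ Y
  ex : ∀ g ∈ Y, ∃ w, ι w = g
  act : ∀ (x : X) (w : W), ι (ρ (π x) w) = x * ι w * (x : G)⁻¹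

@[reducible] def ycComm [Finite G] (h : YC X T Y) : CommGroup Y :=
  { (inferInstance : Group Y) with mul_comm := fun a b => Subtype.ext (YC.comm h a.2 b.2) }

theorem exists_ad [Finite G] (h : YC X T Y) :
    ∃ (H W : Type u) (_ : Group H) (_ : CommGroup W) (_ : Finite H) (_ : Finite W) (ρ : H →* MulAut W) (π : X →* H)
      (ι : W →* G), AD X Y ρ π ι := by
  let _ : CommGroup Y := ycComm h
  let c := Cfsg.Agent.LieExceptional.CITFFLocal.conjHom X Y
    (fun m hm x hx => (mem_normalizer_iff.1 (h.nor hm) x).1 hx)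
  have hfin : Finite (MulAut Y) := inferInstance
  refine ⟨c.range, Y, inferInstance, inferInstance, inferInstance, inferInstance, c.range.subtype,
    c.rangeRestrict, Y.subtype, ?_⟩
  exact
  { sq := fun w => Subtype.ext (YC.sq h w.2)
    inj := c.range.subtype_injective
    surj := c.rangeRestrict_surjective
    ιinj := Y.subtype_injective
    mem := fun w => w.2
    ex := fun g hg => ⟨⟨g, hg⟩, rfl⟩
    act := fun x w => rfl }

/-- the image of `A ≤ X` in `H` -/
def im {H : Type u} [Group H] (π : X →* H) (A : Subgroup G) : Subgroup H := (A.subgroupOf X).map π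

/-- preimages -/
def pre {H : Type u} [Group H] (π : X →* H) (B : Subgroup H) : Subgroup G := (B.comap π).map X.subtype

section pre

variable {H : Type u} [Group H] {π : X →* H}

theorem mem_im {A : Subgroup G} {a : G} (ha : a ∈ A) (haX : a ∈ X) : π ⟨a, haX⟩ ∈ im π A :=
  ⟨⟨a, haX⟩, ha, rfl⟩

theorem exists_of_mem_im {A : Subgroup G} {h : H} (hh : h ∈ im π A) : ∃ (a : G) (haX : a ∈ X), a ∈ A ∧ π ⟨a, haX⟩ = h := by
  obtain ⟨a, ha, rfl⟩ := hh
  exact ⟨a, a.2, ha, rfl⟩

theorem mem_pre {B : Subgroup H} {x : G} (hx : x ∈ X) : x ∈ pre π B ↔ π ⟨x, hx⟩ ∈ B := by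
  constructor
  · rintro ⟨y, hy, hyx⟩
    have : y = ⟨x, hx⟩ := Subtype.ext hyx
    rw [← this]
    exact hy
  · intro h
    exact ⟨⟨x, hx⟩, h, rfl⟩

theorem pre_le {B : Subgroup H} : pre π B ≤ X := map_subtype_le _

theorem pre_norm {B : Subgroup H} (hB : B.Normal) : X ≤ normalizer (pre π B : Set G) := by
  rw [le_normalizer_iff]
  intro h hh x hx
  have hxX := pre_le hx
  rw [mem_pre (X.mul_mem (X.mul_mem hh hxX) (X.inv_mem hh))]
  rw [mem_pre hxX] at hx
  have h1 := hB.conj_mem _ hx (π ⟨h, hh⟩)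
  rw [← map_inv, ← map_mul, ← map_mul] at h1
  exact h1

theorem im_pre (hsurj : Function.Surjective π) {B : Subgroup H} : im π (pre π B) = B := by
  ext y
  constructor
  · rintro ⟨x, hx, rfl⟩
    exact (mem_pre x.2).1 hx
  · intro hy
    obtain ⟨x, rfl⟩ := hsurj y
    exact ⟨x, (mem_pre x.2).2 hy, rfl⟩

end pre

namespace AD

variable {H W : Type u} [Group H] [CommGroup W] {ρ : H →* MulAut W} {π : X →* H} {ι : W →* G}
variable (d : AD X Y ρ π ι)

include d

theorem fix_iff (x : X) (w : W) : ρ (π x) w = w ↔ (x : G) * ι w = ι w * x := by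
  rw [← d.ιinj.eq_iff, d.act]
  constructor
  · intro h1
    calc (x : G) * ι w = (x * ι w * (x : G)⁻¹) * x := by group
      _ = ι w * x := by rw [h1]
  · intro h1
    rw [h1]; group

theorem ker (x : X) : π x = 1 ↔ (x : G) ∈ centralizer (Y : Set G) := by
  constructor
  · intro h1
    rw [mem_centralizer_iff]
    intro g hg
    obtain ⟨w, rfl⟩ := d.ex g hg
    exact ((d.fix_iff x w).1 (by rw [h1, map_one]; rfl)).symm
  · intro h1
    apply d.inj
    rw [map_one]
    ext w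
    exact (d.fix_iff x w).2 (mem_centralizer_iff.1 h1 _ (d.mem w)).symm

theorem eq_iff (x y : X) : π x = π y ↔ ((x⁻¹ * y : X) : G) ∈ centralizer (Y : Set G) := by
  rw [← d.ker, map_mul, map_inv, inv_mul_eq_one]

theorem card_im [Finite G] {A : Subgroup G} (hA : A ≤ X) :
    Nat.card (im π A) * Nat.card (A ⊓ centralizer (Y : Set G) : Subgroup G) = Nat.card A := by
  have hker : π.ker = (centralizer (Y : Set G)).subgroupOf X := by
    ext x
    rw [MonoidHom.mem_ker, mem_subgroupOf]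
    exact d.ker x
  have h1 := COneLinB.card_mul_relIndex (inf_le_left : A ⊓ centralizer (Y : Set G) ≤ A)
  rw [inf_comm, Subgroup.inf_relIndex_right] at h1
  rw [im, ← Subgroup.relIndex_ker, hker, Subgroup.relIndex_subgroupOf hA, mul_comm, inf_comm]
  exact h1

/-- fixed points -/
theorem map_CS {A : Subgroup G} (hA : A ≤ X) : (CS ρ (im π A)).map ι = Y ⊓ centralizer (A : Set G) := by
  ext g
  constructor
  · rintro ⟨w, hw, rfl⟩
    refine ⟨d.mem w, mem_centralizer_iff.2 fun a ha => ?_⟩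
    exact (d.fix_iff ⟨a, hA ha⟩ w).1 (hw _ (mem_im ha (hA ha)))
  · rintro ⟨hg, hga⟩
    obtain ⟨w, rfl⟩ := d.ex g hg
    refine ⟨w, ?_, rfl⟩
    rintro _ ⟨a, ha, rfl⟩
    exact (d.fix_iff a w).2 (mem_centralizer_iff.1 hga _ ha)

theorem card_CS [Finite G] {A : Subgroup G} (hA : A ≤ X) :
    Nat.card (CS ρ (im π A)) = Nat.card (Y ⊓ centralizer (A : Set G) : Subgroup G) := by
  rw [← d.map_CS hA, Subgroup.card_map_of_injective d.ιinj]

theorem map_top : (⊤ : Subgroup W).map ι = Y := by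
  ext g
  constructor
  · rintro ⟨w, -, rfl⟩
    exact d.mem w
  · intro hg
    obtain ⟨w, rfl⟩ := d.ex g hg
    exact ⟨w, mem_top _, rfl⟩

theorem card_W : Nat.card W = Nat.card Y := by
  rw [← d.map_top, Subgroup.card_map_of_injective d.ιinj, Subgroup.card_top]

theorem index_CS [Finite G] {A : Subgroup G} (hA : A ≤ X) :
    (CS ρ (im π A)).index = (Y ⊓ centralizer (A : Set G)).relIndex Y := by
  have h1 := (CS ρ (im π A)).card_mul_index
  have h2 := COneLinB.card_mul_relIndex (inf_le_left : Y ⊓ centralizer (A : Set G) ≤ Y)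
  rw [d.card_CS hA, d.card_W] at h1
  rw [← h2] at h1
  exact Nat.eq_of_mul_eq_mul_left Nat.card_pos h1

theorem map_fx (x : X) : (fx ρ (π x)).map ι = Y ⊓ centralizer ({(x : G)} : Set G) := by
  ext g
  constructor
  · rintro ⟨w, hw, rfl⟩
    exact ⟨d.mem w, mem_centralizer_singleton_iff.2 ((d.fix_iff x w).1 hw).symm⟩
  · rintro ⟨hg, hga⟩
    obtain ⟨w, rfl⟩ := d.ex g hg
    exact ⟨w, (d.fix_iff x w).2 (mem_centralizer_singleton_iff.1 hga).symm, rfl⟩

/-- the images of the members of `𝒜(T)` are best offenders -/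
theorem bo [Finite G] [Finite H] [Finite W] (h : YC X T Y) {A : Subgroup G} (hA : A ∈ AA T) : BO ρ (im π A) := by
  have hAT : A ≤ T := hA.2.1
  have hAX : A ≤ X := hAT.trans h.TX
  have hA2 := isElementaryAbelian_iff.1 hA.1
  have hYT : Y ≤ T := YC.le_T h
  constructor
  · rintro _ ⟨a, ha, rfl⟩
    rw [← map_mul]
    have h1 : a * a = 1 := by
      apply Subtype.ext
      have := hA2.2 a ha
      rw [pow_two] at this
      exact this
    rw [h1, map_one]
  · intro B hB
    -- `B' = A ∩ π⁻¹(B)`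
    set B' : Subgroup G := A ⊓ pre π B with hB'
    have hB'A : B' ≤ A := inf_le_left
    have hB'X : B' ≤ X := hB'A.trans hAX
    have hBB : im π B' = B := by
      ext y
      constructor
      · rintro ⟨x, hx, rfl⟩
        exact (mem_pre x.2).1 hx.2
      · intro hy
        obtain ⟨a, ha, rfl⟩ := hB hy
        exact ⟨a, ⟨ha, (mem_pre a.2).2 hy⟩, rfl⟩
    -- `A ∩ C(W) ≤ B'`
    have hcap : B' ⊓ centralizer (Y : Set G) = A ⊓ centralizer (Y : Set G) := by
      apply le_antisymm (inf_le_inf_right _ hB'A)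
      rintro x ⟨hxA, hxc⟩
      refine ⟨⟨hxA, (mem_pre (hAX hxA)).2 ?_⟩, hxc⟩
      rw [(d.ker ⟨x, hAX hxA⟩).2 hxc]
      exact one_mem _
    have hcA := d.card_im hAX
    have hcB := d.card_im hB'X
    rw [hBB, hcap] at hcB
    have hfA := d.card_CS hAX
    have hfB := d.card_CS hB'X
    rw [hBB] at hfB
    -- the elementary abelian group `B' C_W(B')`
    set D : Subgroup G := Y ⊓ centralizer (B' : Set G) with hD
    have hcomm : ∀ x ∈ B', ∀ y ∈ D, x * y = y * x := fun x hx y hy => mem_centralizer_iff.1 hy.2 x hx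
    have hn : B' ≤ normalizer (D : Set G) := COneLinB.le_normalizer_of_comm hcomm
    have hel : IsElementaryAbelian 2 (B' ⊔ D : Subgroup G) := by
      rw [isElementaryAbelian_iff]
      constructor
      · intro x hx y hy
        obtain ⟨a, ha, v, hv, rfl⟩ := COneLinB.exists_mul_of_mem_sup hn hx
        obtain ⟨a', ha', v', hv', rfl⟩ := COneLinB.exists_mul_of_mem_sup hn hy
        have e1 := hA2.1 a (hB'A ha) a' (hB'A ha')
        have e2 := YC.comm h hv.1 hv'.1
        have e3 := hcomm a ha v' hv'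
        have e4 := hcomm a' ha' v hv
        calc a * v * (a' * v') = a * (v * a') * v' := by group
          _ = (a * a') * (v * v') := by rw [← e4]; group
          _ = a' * (a * v') * v := by rw [e1, e2]; group
          _ = a' * v' * (a * v) := by rw [e3]; group
      · intro x hx
        obtain ⟨a, ha, v, hv, rfl⟩ := COneLinB.exists_mul_of_mem_sup hn hx
        have e1 := hA2.2 a (hB'A ha)
        have e3 := hcomm a ha v hv
        rw [pow_two] at e1 ⊢
        calc a * v * (a * v) = a * (v * a) * v := by group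
          _ = (a * a) * (v * v) := by rw [← e3]; group
          _ = 1 := by rw [e1, YC.sq h hv.1, one_mul]
    have hle := hA.2.2 (B' ⊔ D) hel (sup_le (hB'A.trans hAT) (inf_le_left.trans hYT))
    have h1 := COneLinB.card_mul_relIndex (le_sup_right : D ≤ B' ⊔ D)
    rw [COneLinB.relIndex_sup_of_le_normalizer hn] at h1
    have h2 := COneLinB.card_mul_relIndex (inf_le_left : B' ⊓ D ≤ B')
    rw [inf_comm, Subgroup.inf_relIndex_right] at h2
    have h3 : Nat.card (D ⊓ B' : Subgroup G) ≤ Nat.card (Y ⊓ centralizer (A : Set G) : Subgroup G) := by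
      apply Subgroup.card_le_of_le
      rintro x ⟨hxD, hxB⟩
      exact ⟨hxD.1, mem_centralizer_iff.2 fun a ha => hA2.1 a ha x (hB'A hxB)⟩
    -- `|B'| |D| ≤ |A| |C_W(A)|`
    have h4 : Nat.card B' * Nat.card D ≤
        Nat.card A * Nat.card (Y ⊓ centralizer (A : Set G) : Subgroup G) := by
      calc Nat.card B' * Nat.card D = Nat.card (D ⊓ B' : Subgroup G) * (Nat.card D * D.relIndex B') := by
            rw [← h2]; ring
        _ = Nat.card (D ⊓ B' : Subgroup G) * Nat.card (B' ⊔ D : Subgroup G) := by rw [h1]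
        _ ≤ Nat.card (Y ⊓ centralizer (A : Set G) : Subgroup G) * Nat.card A := Nat.mul_le_mul h3 hle
        _ = _ := mul_comm _ _
    have hpos : 0 < Nat.card (A ⊓ centralizer (Y : Set G) : Subgroup G) := Nat.card_pos
    refine Nat.le_of_mul_le_mul_right ?_ hpos
    calc Nat.card B * Nat.card (CS ρ B) * Nat.card (A ⊓ centralizer (Y : Set G) : Subgroup G)
        = Nat.card B' * Nat.card D := by rw [hfB, ← hcB]; ring
      _ ≤ Nat.card A * Nat.card (Y ⊓ centralizer (A : Set G) : Subgroup G) := h4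
      _ = _ := by rw [hfA, ← hcA]; ring

theorem im_ne_bot {A : Subgroup G} (hAX : A ≤ X) (hA : ¬ A ≤ centralizer (Y : Set G)) : im π A ≠ ⊥ := by
  intro h0
  apply hA
  intro a ha
  have h1 := mem_im (π := π) ha (hAX ha)
  rw [h0, mem_bot] at h1
  exact (d.ker _).1 h1

theorem core_of_le (h : YC X T Y) {D : Subgroup H} (hD : D.Normal) (hDT : D ≤ im π T) : D = ⊥ := by
  have h1 : pre π D ≤ centralizer (Y : Set G) := by
    refine h.core _ pre_le (pre_norm hD) ?_
    intro x hx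
    have hxX := pre_le hx
    obtain ⟨t, htX, htT, he⟩ := exists_of_mem_im (hDT ((mem_pre hxX).1 hx))
    refine ⟨x * t⁻¹, ?_, t, htT, by group⟩
    have h2 := (d.ker (⟨x, hxX⟩ * (⟨t, htX⟩ : X)⁻¹)).1 (by rw [map_mul, map_inv, he, mul_inv_cancel])
    exact h2
  rw [eq_bot_iff]
  intro y hy
  obtain ⟨x, rfl⟩ := d.surj y
  rw [mem_bot, d.ker]
  exact h1 ((mem_pre x.2).2 hy)

theorem core [Finite H] (h : YC X T Y) (hT : IsPGroup 2 (im π T)) (hTs : ¬ 2 ∣ (im π T).index) {D : Subgroup H}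
    (hD : D.Normal) (hD2 : IsPGroup 2 D) : D = ⊥ := by
  have hf : Fact (Nat.Prime 2) := ⟨Nat.prime_two⟩
  refine d.core_of_le h hD ?_
  have h1 := hD2.le_sylow_of_normal (hT.toSylow hTs)
  exact h1

omit d in
theorem isPGroup_im (h : YC X T Y) : IsPGroup 2 (im π T) :=
  (h.two.comap_of_injective _ X.subtype_injective).map π

theorem not_dvd_index (h : YC X T Y) : ¬ 2 ∣ (im π T).index := fun h3 =>
  h.syl (h3.trans (Subgroup.index_map_dvd _ d.surj))

omit d in
theorem im_cj {A : Subgroup G} (hA : A ≤ X) {x : G} (hx : x ∈ X) :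
    im π (cj x A) = (im π A).map (MulAut.conj (π ⟨x, hx⟩)).toMonoidHom := by
  ext y
  constructor
  · rintro ⟨z, hz, rfl⟩
    have hz' : x⁻¹ * (z : G) * x ∈ A := mem_cj.1 hz
    refine ⟨π ⟨x⁻¹ * z * x, hA hz'⟩, mem_im hz' _, ?_⟩
    change π ⟨x, hx⟩ * π ⟨x⁻¹ * z * x, hA hz'⟩ * (π ⟨x, hx⟩)⁻¹ = π z
    rw [← map_inv, ← map_mul, ← map_mul]
    congr 1
    apply Subtype.ext
    change x * (x⁻¹ * (z : G) * x) * x⁻¹ = z
    group
  · rintro ⟨_, ⟨z, hz, rfl⟩, rfl⟩
    have hz' : (z : G) ∈ A := hz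
    refine ⟨⟨x * z * x⁻¹, X.mul_mem (X.mul_mem hx z.2) (X.inv_mem hx)⟩, ?_, ?_⟩
    · change x * (z : G) * x⁻¹ ∈ cj x A
      rw [mem_cj]
      have e : x⁻¹ * (x * (z : G) * x⁻¹) * x = z := by group
      rw [e]; exact hz'
    · change _ = π ⟨x, hx⟩ * π z * (π ⟨x, hx⟩)⁻¹
      rw [← map_inv, ← map_mul, ← map_mul]
      rfl

theorem conj_mem [Finite G] (h : YC X T Y) {A : Subgroup G} (hA : A ∈ AA T) (g : H)
    (hle : (im π A).map (MulAut.conj g).toMonoidHom ≤ im π T) :
    ∃ A' ∈ AA T, im π A' = (im π A).map (MulAut.conj g).toMonoidHom := by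
  obtain ⟨⟨x, hx⟩, rfl⟩ := d.surj g
  have hAX : A ≤ X := hA.2.1.trans h.TX
  rw [← im_cj hAX hx] at hle ⊢
  set K := pre π (im π T) with hK
  have hKX : K ≤ X := pre_le
  have hTK : T ≤ K := fun t ht => (mem_pre (h.TX ht)).2 (mem_im ht _)
  have hxA : cj x A ≤ K := by
    intro y hy
    have hyX : y ∈ X := by
      have h1 := hAX (mem_cj.1 hy)
      have h2 := X.mul_mem (X.mul_mem hx h1) (X.inv_mem hx)
      have e : x * (x⁻¹ * y * x) * x⁻¹ = y := by group
      rwa [e] at h2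
    exact (mem_pre hyX).2 (hle (mem_im hy hyX))
  obtain ⟨k, hk, hkA⟩ := exists_cj_le h.two (DBlkReduce.not_dvd_of_le h.syl hTK hKX) hxA
    (isPGroup_cj x (h.two.to_le hA.2.1))
  obtain ⟨t, htX, ht, hkt⟩ := exists_of_mem_im ((mem_pre (hKX hk)).1 hk)
  have hc1 : t⁻¹ * k ∈ X := X.mul_mem (X.inv_mem htX) (hKX hk)
  have hc : π ⟨t⁻¹ * k, hc1⟩ = 1 := by
    have : (⟨t⁻¹ * k, hc1⟩ : X) = (⟨t, htX⟩ : X)⁻¹ * ⟨k, hKX hk⟩ := rfl
    rw [this, map_mul, map_inv, hkt, inv_mul_cancel]
  have hTt : cj t⁻¹ (cj k (cj x A)) ≤ T := by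
    rw [cj_le_iff, inv_inv, cj_eq_of_mem_normalizer (le_normalizer ht)]
    exact hkA
  refine ⟨cj (t⁻¹ * k) (cj x A), ?_, ?_⟩
  · rw [mem_AA_iff]
    refine ⟨isElementaryAbelian_cj _ (isElementaryAbelian_cj _ hA.1), ?_, ?_⟩
    · rw [← cj_cj]; exact hTt
    · rw [card_cj, card_cj]; exact (mm_eq hA).le
  · rw [im_cj (hxA.trans hKX) hc1, hc]
    ext y
    rw [mem_map]
    simp

theorem mem_CS_zpowers {a : H} {w : W} : w ∈ CS ρ (zpowers a) ↔ w ∈ fx ρ a := by
  constructor
  · intro h1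
    exact h1 a (mem_zpowers a)
  · intro h1 b hb
    obtain ⟨n, rfl⟩ := mem_zpowers_iff.1 hb
    have h2 : zpowers a ≤ { carrier := {g : H | ρ g w = w}
                            mul_mem' := fun {x y} hx hy => by
                              change ρ (x * y) w = w
                              rw [map_mul, MulAut.mul_apply]
                              rw [show ρ y w = w from hy, show ρ x w = w from hx]
                            one_mem' := by change ρ 1 w = w; rw [map_one]; rfl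
                            inv_mem' := fun {x} hx => fx_inv ρ (y := x) hx } := by
      rw [zpowers_le]
      exact h1
    exact h2 hb

theorem repl [Finite G] (h : YC X T Y) {A : Subgroup G} (hA : A ∈ AA T) {a : H} (ha : a ∈ im π A)
    (h4 : Nat.card (im π A) = 4) (hi : (fx ρ a).index = 2) (hi' : (CS ρ (im π A)).index = 4) :
    ∃ A' ∈ AA T, im π A' = zpowers a := by
  have hAT : A ≤ T := hA.2.1
  have hAX : A ≤ X := hAT.trans h.TX
  have hA2 := isElementaryAbelian_iff.1 hA.1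
  have hYT : Y ≤ T := YC.le_T h
  obtain ⟨b, hbX, hbA, rfl⟩ := exists_of_mem_im ha
  set a := π ⟨b, hbX⟩ with hadef
  have ha1 : a ≠ 1 := by
    intro h0
    rw [h0, fx_one, index_top] at hi
    norm_num at hi
  have haa : a * a = 1 := by
    rw [hadef, ← map_mul]
    have : (⟨b, hbX⟩ : X) * ⟨b, hbX⟩ = 1 := by
      apply Subtype.ext
      have := hA2.2 b hbA
      rw [pow_two] at this
      exact this
    rw [this, map_one]
  have hcz : Nat.card (zpowers a) = 2 := by
    rw [Nat.card_zpowers]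
    exact orderOf_eq_prime (by rw [pow_two]; exact haa) ha1
  set B' : Subgroup G := A ⊓ pre π (zpowers a) with hB'
  have hB'A : B' ≤ A := inf_le_left
  have hB'X : B' ≤ X := hB'A.trans hAX
  have hBB : im π B' = zpowers a := by
    ext y
    constructor
    · rintro ⟨x, hx, rfl⟩
      exact (mem_pre x.2).1 hx.2
    · intro hy
      have h1 : zpowers a ≤ im π B' := by
        rw [zpowers_le]
        exact mem_im (A := B') ⟨hbA, (mem_pre hbX).2 (mem_zpowers _)⟩ hbX
      exact h1 hy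
  have hcap : B' ⊓ centralizer (Y : Set G) = A ⊓ centralizer (Y : Set G) := by
    apply le_antisymm (inf_le_inf_right _ hB'A)
    rintro x ⟨hxA, hxc⟩
    refine ⟨⟨hxA, (mem_pre (hAX hxA)).2 ?_⟩, hxc⟩
    rw [(d.ker ⟨x, hAX hxA⟩).2 hxc]
    exact one_mem _
  have hcA := d.card_im hAX
  have hcB := d.card_im hB'X
  rw [hBB, hcap, hcz] at hcB
  rw [h4] at hcA
  -- `|A| = 2 |B'|`
  have hAB : Nat.card A = 2 * Nat.card B' := by
    rw [← hcA, ← hcB]; ring
  set D : Subgroup G := Y ⊓ centralizer (B' : Set G) with hD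
  have hfB := d.card_CS hB'X
  have hfA := d.card_CS hAX
  have hCz : CS ρ (zpowers a) = fx ρ a := by
    ext w; exact d.mem_CS_zpowers
  have h5 : 2 * Nat.card D = Nat.card W := by
    have := (fx ρ a).card_mul_index
    rw [hi, ← hCz, ← hBB, hfB] at this
    rw [← this]; ring
  have h6 : 4 * Nat.card (Y ⊓ centralizer (A : Set G) : Subgroup G) = Nat.card W := by
    have := (CS ρ (im π A)).card_mul_index
    rw [hi', hfA] at this
    rw [← this]; ring
  have hcomm : ∀ x ∈ B', ∀ y ∈ D, x * y = y * x := fun x hx y hy => mem_centralizer_iff.1 hy.2 x hx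
  have hn : B' ≤ normalizer (D : Set G) := COneLinB.le_normalizer_of_comm hcomm
  have hel : IsElementaryAbelian 2 (B' ⊔ D : Subgroup G) := by
    rw [isElementaryAbelian_iff]
    constructor
    · intro x hx y hy
      obtain ⟨a, ha, v, hv, rfl⟩ := COneLinB.exists_mul_of_mem_sup hn hx
      obtain ⟨a', ha', v', hv', rfl⟩ := COneLinB.exists_mul_of_mem_sup hn hy
      have e1 := hA2.1 a (hB'A ha) a' (hB'A ha')
      have e2 := YC.comm h hv.1 hv'.1
      have e3 := hcomm a ha v' hv'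
      have e4 := hcomm a' ha' v hv
      calc a * v * (a' * v') = a * (v * a') * v' := by group
        _ = (a * a') * (v * v') := by rw [← e4]; group
        _ = a' * (a * v') * v := by rw [e1, e2]; group
        _ = a' * v' * (a * v) := by rw [e3]; group
    · intro x hx
      obtain ⟨a, ha, v, hv, rfl⟩ := COneLinB.exists_mul_of_mem_sup hn hx
      have e1 := hA2.2 a (hB'A ha)
      have e3 := hcomm a ha v hv
      rw [pow_two] at e1 ⊢
      calc a * v * (a * v) = a * (v * a) * v := by group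
        _ = (a * a) * (v * v) := by rw [← e3]; group
        _ = 1 := by rw [e1, YC.sq h hv.1, one_mul]
  have h1 := COneLinB.card_mul_relIndex (le_sup_right : D ≤ B' ⊔ D)
  rw [COneLinB.relIndex_sup_of_le_normalizer hn] at h1
  have h2 := COneLinB.card_mul_relIndex (inf_le_left : B' ⊓ D ≤ B')
  rw [inf_comm, Subgroup.inf_relIndex_right] at h2
  have h3 : Nat.card (D ⊓ B' : Subgroup G) ≤ Nat.card (Y ⊓ centralizer (A : Set G) : Subgroup G) := by
    apply Subgroup.card_le_of_le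
    rintro x ⟨hxD, hxB⟩
    exact ⟨hxD.1, mem_centralizer_iff.2 fun a ha => hA2.1 a ha x (hB'A hxB)⟩
  -- `|B'| |D| ≤ |B' D| |C_Y(A)|`
  have h7 : Nat.card B' * Nat.card D ≤
      Nat.card (B' ⊔ D : Subgroup G) * Nat.card (Y ⊓ centralizer (A : Set G) : Subgroup G) := by
    calc Nat.card B' * Nat.card D = Nat.card (D ⊓ B' : Subgroup G) * (Nat.card D * D.relIndex B') := by
          rw [← h2]; ring
      _ = Nat.card (D ⊓ B' : Subgroup G) * Nat.card (B' ⊔ D : Subgroup G) := by rw [h1]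
      _ ≤ Nat.card (Y ⊓ centralizer (A : Set G) : Subgroup G) * Nat.card (B' ⊔ D : Subgroup G) :=
          Nat.mul_le_mul_right _ h3
      _ = _ := mul_comm _ _
  have h8 : Nat.card D = 2 * Nat.card (Y ⊓ centralizer (A : Set G) : Subgroup G) := by omega
  have hpos : 0 < Nat.card (Y ⊓ centralizer (A : Set G) : Subgroup G) := Nat.card_pos
  have h9 : Nat.card A ≤ Nat.card (B' ⊔ D : Subgroup G) := by
    refine Nat.le_of_mul_le_mul_right ?_ hpos
    calc Nat.card A * Nat.card (Y ⊓ centralizer (A : Set G) : Subgroup G) = Nat.card B' * Nat.card D := by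
          rw [hAB, h8]; ring
      _ ≤ _ := h7
  refine ⟨B' ⊔ D, ?_, ?_⟩
  · rw [mem_AA_iff]
    exact ⟨hel, sup_le (hB'A.trans hAT) (inf_le_left.trans hYT), (mm_eq hA).le.trans h9⟩
  · rw [← hBB]
    apply le_antisymm
    · rintro _ ⟨x, hx, rfl⟩
      have hx' : (x : G) ∈ B' ⊔ D := hx
      obtain ⟨c, hc, v, hv, he⟩ := COneLinB.exists_mul_of_mem_sup hn hx'
      have hvX : v ∈ X := YC.le_X h hv.1
      have h10 : x = ⟨c, hB'X hc⟩ * ⟨v, hvX⟩ := Subtype.ext he
      have h11 : π ⟨v, hvX⟩ = 1 := by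
        rw [d.ker, mem_centralizer_iff]
        exact fun y hy => YC.comm h hy hv.1
      rw [h10, map_mul, h11, mul_one]
      exact mem_im hc _
    · rintro _ ⟨x, hx, rfl⟩
      exact ⟨x, (le_sup_left : B' ≤ B' ⊔ D) hx, rfl⟩

/-- the family of the images of the members of `𝒜(T)` -/
def fm {H : Type u} [Group H] (π : X →* H) (T : Subgroup G) : Set (Subgroup H) := {B | ∃ A ∈ AA T, im π A = B}

theorem fam [Finite G] [Finite H] [Finite W] (hG : OddCyc G) (h : YC X T Y) (hF : RedFFDefs.FFC H) :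
    Fam ρ (im π T) (fm π T) where
  sq := d.sq
  inj := d.inj
  cyc := T1MinPar.oddCyc_surj π d.surj (T1MinPar.oddCyc_subgroup hG X)
  core := fun D hD hD2 => d.core h (isPGroup_im h) (d.not_dvd_index h) hD hD2
  two := isPGroup_im h
  syl := d.not_dvd_index h
  le := by
    rintro _ ⟨A, hA, rfl⟩
    exact Subgroup.map_mono fun x hx => hA.2.1 hx
  bo := by
    rintro _ ⟨A, hA, rfl⟩
    exact d.bo h hA
  conj := by
    rintro _ ⟨A, hA, rfl⟩ g hg
    exact d.conj_mem h hA g hg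
  repl := by
    rintro _ ⟨A, hA, rfl⟩ a ha h4 hi hi'
    exact d.repl h hA ha h4 hi hi'
  out := by
    rintro _ ⟨A, hA, rfl⟩ hne
    exact hF W d.sq ρ d.inj (fun D hD hD2 => d.core h (isPGroup_im h) (d.not_dvd_index h) hD hD2) _ (d.bo h hA) hne

end AD

/-- the group `H` induced by `X` on `Y`, with the family of the images of the members of `𝒜(T)` -/
theorem exists_rep [Finite G] (hG : OddCyc G) (h : YC X T Y)
    (hF : ∀ (H : Type u) [Group H] (f : X →* H), Function.Surjective f → RedFFDefs.FFC H) :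
    ∃ (H W : Type u) (_ : Group H) (_ : CommGroup W) (_ : Finite H) (_ : Finite W) (r : X →* H) (ρ : H →* MulAut W)
      (ι : W →* G), RedRep.Rep X Y r ρ ι ∧ Fam ρ (RedRep.im X T r) (RedRep.famOf X T r) := by
  obtain ⟨H, W, i1, i2, i3, i4, ρ, r, ι, d⟩ := exists_ad h
  refine ⟨H, W, i1, i2, i3, i4, r, ρ, ι, ⟨d.surj, d.inj, d.ιinj, ?_, d.act⟩, ?_⟩
  · rw [← d.map_top, MonoidHom.range_eq_map]
  · have h1 := d.fam hG h (hF H r d.surj)
    have h2 : AD.fm r T = RedRep.famOf X T r := by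
      ext B
      exact ⟨fun ⟨A, hA, he⟩ => ⟨A, hA, he.symm⟩, fun ⟨A, hA, he⟩ => ⟨A, hA, he.symm⟩⟩
    rw [h2] at h1
    exact h1

/-- `X = N C_X(Y) N_X(J(T))` for `N` normal in `X`, `J(T) ≤ N C_X(Y)` -/
theorem frattini_jj [Finite G] (h : YC X T Y) {N : Subgroup G} (hN : X ≤ normalizer (N : Set G))
    (hJ : jj T ≤ N ⊔ (X ⊓ centralizer (Y : Set G))) :
    X ≤ N ⊔ (X ⊓ centralizer (Y : Set G)) ⊔ (X ⊓ normalizer (jj T : Set G)) := by
  refine Cfsg.Agent.MinSimple.Basic.frattini_jj h.TX h.two h.syl ?_ hJ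
  have h1 : X ≤ normalizer ((X ⊓ centralizer (Y : Set G) : Subgroup G) : Set G) := by
    rw [le_normalizer_iff]
    intro g hg x hx
    refine ⟨X.mul_mem (X.mul_mem hg hx.1) (X.inv_mem hg), mem_centralizer_iff.2 fun y hy => ?_⟩
    have h2 : g⁻¹ * y * g ∈ Y := by
      have := Four.conj_mem (h.nor (X.inv_mem hg)) hy
      rwa [inv_inv] at this
    have h3 := mem_centralizer_iff.1 hx.2 _ h2
    calc y * (g * x * g⁻¹) = g * ((g⁻¹ * y * g) * x) * g⁻¹ := by group
      _ = g * (x * (g⁻¹ * y * g)) * g⁻¹ := by rw [h3]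
      _ = g * x * g⁻¹ * y := by group
  rw [le_normalizer_iff]
  intro g hg x hx
  have h4 : N ⊔ (X ⊓ centralizer (Y : Set G)) ≤
      (N ⊔ (X ⊓ centralizer (Y : Set G))).comap (MulAut.conj g).toMonoidHom := by
    refine sup_le (fun y hy => ?_) fun y hy => ?_
    · exact (le_sup_left : N ≤ N ⊔ (X ⊓ centralizer (Y : Set G))) (Four.conj_mem (hN hg) hy)
    · exact (le_sup_right : (X ⊓ centralizer (Y : Set G)) ≤ N ⊔ (X ⊓ centralizer (Y : Set G)))
        (Four.conj_mem (h1 hg) hy)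
  exact h4 hx

/-- 3-elements lift to 3-elements -/
theorem exists_three [Finite G] {H : Type u} [Group H] {r : X →* H} (hr : Function.Surjective r) {y : H}
    (hy : ∃ k : ℕ, y ^ 3 ^ k = 1) : ∃ x : X, El3 (x : G) ∧ r x = y := by
  obtain ⟨k, hk⟩ := hy
  obtain ⟨x, rfl⟩ := hr y
  -- `orderOf x = 3 ^ a * m`, `m` prime to 3
  have hpos : 0 < orderOf x := orderOf_pos x
  obtain ⟨a, m, hm, he⟩ := Nat.exists_eq_pow_mul_and_not_dvd hpos.ne' 3 (by norm_num)
  have hcop : Nat.Coprime (3 ^ k) m := Nat.Coprime.pow_left _ ((Nat.Prime.coprime_iff_not_dvd Nat.prime_three).2 hm)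
  obtain ⟨u, hu1, hu2⟩ := (Nat.chineseRemainder hcop 1 0)
  refine ⟨x ^ u, ⟨a, ?_⟩, ?_⟩
  · have h1 : m ∣ u := (Nat.modEq_zero_iff_dvd).1 hu2
    obtain ⟨c, rfl⟩ := h1
    have h2 : x ^ (m * c * 3 ^ a) = 1 := by
      have e : m * c * 3 ^ a = orderOf x * c := by rw [he]; ring
      rw [e, pow_mul, pow_orderOf_eq_one, one_pow]
    change ((x ^ (m * c) : X) : G) ^ 3 ^ a = 1
    rw [← SubmonoidClass.coe_pow, ← pow_mul, h2]
    rfl
  · rw [map_pow]
    have h1 : orderOf (r x) ∣ 3 ^ k := orderOf_dvd_of_pow_eq_one hk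
    have h2 : u ≡ 1 [MOD orderOf (r x)] := hu1.of_dvd h1
    have h3 : (r x) ^ u = (r x) ^ 1 := pow_eq_pow_iff_modEq.2 h2
    rw [h3, pow_one]

end Cfsg.Agent.OddCyclic.RedAct
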