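import Cfsg.Agent.OddCyclic.APAMain
import Cfsg.Agent.OddCyclic.RedAct

/-!
# S0342, case C2, 5(A), part 4: any two planes over `B` are linked

`X = C_G(w)`, `w = v z`, with Sylow 2-subgroup `T = B ^ l`: all types of `X` are impossible.
-/

set_option autoImplicit false
set_option linter.unusedSectionVars false

namespace Cfsg.Agent.OddCyclic.APALink

open Subgroup Cfsg Cfsg.Agent.ZN Cfsg.Agent.ZN.ChoiceBase Cfsg.Agent.MinSimple Cfsg.Agent.MinSimple.DBlkApi
open Cfsg.Agent.MinSimple.SamePt (isPt_conj AllComm le_normalizer)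
open Cfsg.Agent.OddCyclic.Red Cfsg.Agent.OddCyclic.APA Cfsg.Agent.OddCyclic.APASyl Cfsg.Agent.OddCyclic.RedTy
open Cfsg.Agent.OddCyclic.APAMain

universe u

variable {G : Type u} [Group G] [Finite G]
variable {B L L' : Subgroup G} {k k' : ℕ} {z z' r v y l : G}

/-- type (0) -/
theorem false_of_zero (d : Dat B L L' k k' z z' r v y l)
    (hJ : ∀ a ∈ jj (cj l B), ∀ u ∈ vl B L, a * u = u * a) : False := by
  have hQ' : cj l (o2 L') = o2 L' := cj_eq_of_mem_normalizer (ZN.le_normalizer_o2 L' d.l_mem)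
  have h1 : jj (o2 L') ≤ jj (cj l B) := by
    have e : jj (o2 L') = cj l (jj (o2 L')) := by rw [← jj_cj, hQ']
    rw [e, jj_cj]
    exact cj_mono l d.h'.jj_o2_le
  have h2 : jj (o2 L') ≤ o2 L := by
    intro a ha
    refine mem_o2_of_cent d.h (d.h'.o2_le (ChoiceBase.jj_le _ ha)) (mem_centralizer_iff.2 fun u hu => ?_)
    exact (hJ a (h1 ha) u hu).symm
  set U := o2 L ⊓ o2 L' with hU
  have h3 : jj U = jj (o2 L') := Basic.jj_eq_of_le (le_inf h2 (ChoiceBase.jj_le _)) inf_le_right
  set W := zl B L ⊔ zl B L' with hW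
  have h4 : U = o2 L ⊓ centralizer (W : Set G) := by
    apply le_antisymm
    · refine le_inf inf_le_left ?_
      rw [le_centralizer_iff]
      refine sup_le ?_ ?_
      · rw [le_centralizer_iff]; exact inf_le_left.trans (o2_cent_zl d.h)
      · rw [le_centralizer_iff]; exact inf_le_right.trans (o2_cent_zl d.h')
    · refine le_inf inf_le_left ?_
      rw [← d.h'.cent_zl]
      exact le_inf (inf_le_left.trans d.h.o2_le) (inf_le_right.trans (centralizer_le (le_sup_right : zl B L' ≤ W)))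
  have h5 : L ≤ normalizer (U : Set G) := by
    rw [h4, le_normalizer_iff]
    intro g hg x hx
    refine ⟨Four.conj_mem (ZN.le_normalizer_o2 L hg) hx.1, mem_centralizer_iff.2 fun w hw => ?_⟩
    have h6 := mem_centralizer_iff.1 hx.2 _ (Four.conj_mem' (d.g2 hg) hw)
    calc w * (g * x * g⁻¹) = g * ((g⁻¹ * w * g) * x) * g⁻¹ := by group
      _ = g * (x * (g⁻¹ * w * g)) * g⁻¹ := by rw [h6]
      _ = g * x * g⁻¹ * w := by group
  have h6 := d.core (jj U) ((ChoiceBase.jj_le U).trans (inf_le_left.trans d.h.o2_le))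
    (h5.trans (ChoiceBase.normalizer_le_jj U))
    (by rw [h3]; exact (ZN.le_normalizer_o2 L').trans (ChoiceBase.normalizer_le_jj _))
  refine CaseTwo.jj_ne_bot (d.h'.two.to_le d.h'.o2_le) ?_ (h3 ▸ h6)
  intro h7
  have h8 : z' ∈ o2 L' := vl_le_o2 d.h' d.pt'.1
  rw [h7, mem_bot] at h8
  exact d.pt'.2.2 h8

/-- `|T : C_T(Z_L Z_{L'})| ≤ 4` -/
theorem index_le (d : Dat B L L' k k' z z' r v y l) {Y : Subgroup G} (hY : Y ≤ zl B L ⊔ zl B L') :
    (cj l B ⊓ centralizer (Y : Set G)).relIndex (cj l B) ≤ 4 := by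
  have hQ' : cj l (o2 L') = o2 L' := cj_eq_of_mem_normalizer (ZN.le_normalizer_o2 L' d.l_mem)
  have h1 : o2 L' ≤ cj l B := by rw [← hQ']; exact cj_mono l d.h'.o2_le
  have h2 : (o2 L').relIndex (cj l B) = 2 := by
    have h3 : (cj l (o2 L')).relIndex (cj l B) = (o2 L').relIndex B :=
      relIndex_map_map_of_injective _ _ (MulAut.conj l).injective
    rw [hQ'] at h3
    rw [h3, d.h'.o2_index]
  have h3 : (o2 L ⊓ o2 L').relIndex (o2 L') ≤ 2 := by
    rw [inf_relIndex_right]
    have h4 := relIndex_le_of_le_right (H := o2 L) d.h'.o2_le (by rw [d.h.o2_index]; norm_num)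
    rw [d.h.o2_index] at h4
    exact h4
  have h4 := relIndex_mul_relIndex (o2 L ⊓ o2 L') (o2 L') (cj l B) inf_le_right h1
  have h5 : (o2 L ⊓ o2 L').relIndex (cj l B) ≤ 4 := by
    rw [← h4, h2]; omega
  have h6 : o2 L ⊓ o2 L' ≤ cj l B ⊓ centralizer (Y : Set G) := by
    refine le_inf (inf_le_right.trans h1) ?_
    rw [le_centralizer_iff]
    refine hY.trans (sup_le ?_ ?_)
    · rw [le_centralizer_iff]; exact inf_le_left.trans (o2_cent_zl d.h)
    · rw [le_centralizer_iff]; exact inf_le_right.trans (o2_cent_zl d.h')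
  have h7 : (o2 L ⊓ o2 L').relIndex (cj l B) ≠ 0 := by
    have : (o2 L ⊓ o2 L').relIndex (cj l B) = ((o2 L ⊓ o2 L').subgroupOf (cj l B)).index := rfl
    rw [this]; exact Subgroup.index_ne_zero_of_finite
  exact (relIndex_le_of_le_left h6 h7).trans h5

/-- no block of `X` has the point `z = r` -/
theorem false_of_pt {S : Sylow 2 G} (hX : LX (S : Subgroup G)) (hc : AllComm (bau (S : Subgroup G)))
    (d : Dat (bau (S : Subgroup G)) L L' k k' z z' r v y l) (h : r = z) {L₁ : Subgroup G} {k₁ : ℕ}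
    (hL₁ : L₁ ≤ centralizer ({v * z} : Set G)) (h₁ : IsDBlk (cj l (bau (S : Subgroup G))) L₁ k₁)
    (hz : IsPt (cj l (bau (S : Subgroup G))) L₁ z) : False := by
  set B := bau (S : Subgroup G) with hB
  have h2 := h₁.conj l⁻¹
  have h3 := isPt_conj hz l⁻¹
  have e1 : (cj l B).map (MulAut.conj l⁻¹).toMonoidHom = B := cj_inv_cj l B
  have e2 : l⁻¹ * z * l⁻¹⁻¹ = z := by
    have := d.l_fix
    rw [h] at this
    calc l⁻¹ * z * l⁻¹⁻¹ = l⁻¹ * (l * z * l⁻¹) * l⁻¹⁻¹ := by rw [this]
      _ = z := by group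
  rw [e1] at h2 h3
  rw [e2] at h3
  have hv := vl_eq_of_pt hX h2 d.h h3 d.pt (hc _ _ _ _ h2 d.h)
  have hr := CaseDiv.rl_eq_rl S h2 d.h hv
  have h4 : z' * r ∈ rl B (L₁.map (MulAut.conj l⁻¹).toMonoidHom) := by
    refine ⟨d.zr_zc, mem_centralizer_iff.2 ?_⟩
    rintro _ ⟨x, hx, rfl⟩
    have h5 := mem_centralizer_singleton_iff.1 (hL₁ hx)
    rw [← d.l_eq] at h5
    change l⁻¹ * x * l⁻¹⁻¹ * (z' * r) = z' * r * (l⁻¹ * x * l⁻¹⁻¹)
    calc l⁻¹ * x * l⁻¹⁻¹ * (z' * r) = l⁻¹ * (x * (l * (z' * r) * l⁻¹)) * l := by group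
      _ = l⁻¹ * (l * (z' * r) * l⁻¹ * x) * l := by rw [h5]
      _ = _ := by group
  rw [hr] at h4
  rcases d.toCf.rl_cases h4 with h5 | h5
  · apply d.toCf.ne
    rw [h] at h5
    calc z = z'⁻¹ * (z' * z) := by group
      _ = z' := by rw [h5, mul_one, inv_eq d.zz']
  · apply d.r_ne
    calc r = z'⁻¹ * (z' * r) := by group
      _ = 1 := by rw [h5, inv_mul_cancel]

/-- type (L3a), `r = z z'` -/
theorem false_of_sev (d : Dat B L L' k k' z z' r v y l) (h : r = z * z') {X Y N V₀ : Subgroup G} {z₀ : G}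
    (hX : X ≤ centralizer ({v * z} : Set G)) (hb : bau (cj l B) = cj l B) (hY : YC X (cj l B) Y)
    (hs : SevY X (cj l B) Y N V₀ z₀) (hV : vl B L ≤ Y) : False := by
  have hYX : Y ≤ X := RedAct.YC.le_X hY
  have hW : zl B L ⊔ zl B L' ≤ Y := d.W_le h hV hY.zc_le
  have hkk : kk X (cj l B) ≤ X := LemX.nc_le ((ChoiceBase.jj_le _).trans hY.TX) Subgroup.le_normalizer
  have hwY : v * z ∈ Y := hY.zc_le d.w_zcT
  -- `w ∈ C(kk)`
  have hwk : v * z ∈ centralizer (kk X (cj l B) : Set G) := by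
    rw [mem_centralizer_iff]
    intro x hx
    exact mem_centralizer_singleton_iff.1 (hX (hkk hx))
  have hNk : ∀ x ∈ N, x ∈ centralizer (kk X (cj l B) : Set G) → x = 1 := fun x hx hx' => by
    have : x ∈ N ⊓ centralizer (kk X (cj l B) : Set G) := ⟨hx, hx'⟩
    rwa [hs.disj, mem_bot] at this
  have hz₀N : z₀ ∈ N := hs.VN hs.zV
  have hz₀T : z₀ ∈ zc (cj l B) := by
    have h1 : z₀ ∈ Y := hs.le hz₀N
    refine mem_zc.2 ⟨RedAct.YC.le_T hY h1, fun t ht => hs.T_cent t ht, ?_⟩
    rw [pow_two]; exact RedAct.YC.sq hY h1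
  have hwN : v * z ∉ N := fun h0 => d.w_ne (hNk _ h0 hwk)
  -- `C_Y(kk) = ⟨w⟩`
  have hck : ∀ x ∈ Y, x ∈ centralizer (kk X (cj l B) : Set G) → x = 1 ∨ x = v * z := by
    intro x hx hxk
    have h1 : x ∈ zc (cj l B) := by
      rw [← hb]
      refine RedPl.mem_zc_bau hY hx fun a ha => ?_
      exact mem_centralizer_iff.1 hxk a (LemX.le_nc X (jj (cj l B)) ha)
    have hrk : r ∉ centralizer (kk X (cj l B) : Set G) := by
      intro h2
      have h3 : z₀ ∈ centralizer (kk X (cj l B) : Set G) := by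
        rcases d.zcT_cases hz₀T with h4 | h4 | h4 | h4
        · rw [h4]; exact one_mem _
        · rw [h4]; exact h2
        · rw [h4]; exact hwk
        · rw [h4]; exact mul_mem hwk h2
      exact hs.z_ne (hNk _ hz₀N h3)
    rcases d.zcT_cases h1 with h2 | h2 | h2 | h2
    · exact Or.inl h2
    · exact absurd (h2 ▸ hxk) hrk
    · exact Or.inr h2
    · exfalso; apply hrk
      have h3 := mul_mem (inv_mem hwk) hxk
      rw [h2] at h3
      have e : (v * z)⁻¹ * (v * z * r) = r := by group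
      rwa [e] at h3
  have hYN : ∀ x ∈ Y, x ∈ N ∨ x * (v * z) ∈ N := by
    intro x hx
    have h1 := hs.split hx
    have hcomm : ∀ n ∈ N, ∀ c ∈ Y ⊓ centralizer (kk X (cj l B) : Set G), n * c = c * n := fun n hn c hc =>
      RedAct.YC.comm hY (hs.le hn) hc.1
    obtain ⟨n, hn, c, hc, rfl⟩ := (BlkFam.mem_sup_of_comm hcomm).mp h1
    rcases hck c hc.1 hc.2 with h2 | h2
    · left; rw [h2, mul_one]; exact hn
    · right
      rw [h2, mul_assoc, d.ww, mul_one]; exact hn
  set W := zl B L ⊔ zl B L' with hWdef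
  have hwW : v * z ∈ W := mul_mem (mem_sup_right (vl_le_zl B L' d.v_mem)) (mem_sup_left d.z_zl)
  -- `N ≤ W`
  have hNW : N ≤ W := by
    have h1 : (N ⊓ W).relIndex W ≤ 2 := by
      by_cases h2 : W ≤ N
      · have : (N ⊓ W).relIndex W = 1 := by rw [relIndex_eq_one]; exact le_inf h2 le_rfl
        omega
      · have h3 : ∀ a ∈ W, ∀ b ∈ W, a ∉ N ⊓ W → b ∉ N ⊓ W → a * b⁻¹ ∈ N ⊓ W := by
          intro a ha b hb ha' hb'
          have haN : a * (v * z) ∈ N := (hYN a (hW ha)).resolve_left fun h4 => ha' ⟨h4, ha⟩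
          have hbN : b * (v * z) ∈ N := (hYN b (hW hb)).resolve_left fun h4 => hb' ⟨h4, hb⟩
          refine ⟨?_, W.mul_mem ha (W.inv_mem hb)⟩
          have := N.mul_mem haN (N.inv_mem hbN)
          have e : a * (v * z) * (b * (v * z))⁻¹ = a * b⁻¹ := by group
          rwa [e] at this
        have h4 := COneLinB.card_mul_relIndex (inf_le_right : N ⊓ W ≤ W)
        -- index two
        obtain ⟨a, ha, ha'⟩ := SetLike.not_le_iff_exists.1 h2
        have h5 : (N ⊓ W).relIndex W = ((N ⊓ W).subgroupOf W).index := rfl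
        rw [h5]
        have h6 : ((N ⊓ W).subgroupOf W).index = 2 := by
          rw [Subgroup.index_eq_two_iff]
          refine ⟨⟨a, ha⟩, fun b => ?_⟩
          have haI : a ∉ N ⊓ W := fun h7 => ha' h7.1
          by_cases hbI : (b : G) ∈ N ⊓ W
          · right
            refine ⟨hbI, fun h8 => haI ?_⟩
            have h9 : (b : G) * a ∈ N ⊓ W := h8
            have := (N ⊓ W).mul_mem ((N ⊓ W).inv_mem hbI) h9
            have e : (b : G)⁻¹ * (b * a) = a := by group
            rwa [e] at this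
          · left
            refine ⟨?_, hbI⟩
            have h9 := h3 b b.2 a⁻¹ (inv_mem ha) hbI (fun h10 => haI (by
              have := (N ⊓ W).inv_mem h10; rwa [inv_inv] at this))
            rw [inv_inv] at h9
            exact h9
        omega
    have h4 := COneLinB.card_mul_relIndex (inf_le_right : N ⊓ W ≤ W)
    have h5 := d.card_W
    have h6 : Nat.card N ≤ Nat.card (N ⊓ W : Subgroup G) := by
      rw [hs.card]
      rw [← hWdef, ← h4] at h5
      nlinarith
    have h7 : N ⊓ W = N := Subgroup.eq_of_le_of_card_ge inf_le_left h6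
    exact inf_eq_left.1 h7
  have hYW : Y ≤ W := by
    intro x hx
    rcases hYN x hx with h1 | h1
    · exact hNW h1
    · have := mul_mem (hNW h1) hwW
      rwa [mul_assoc, d.ww, mul_one] at this
  have h8 := index_le d hYW
  have h9 := hs.index
  rw [hb] at h9
  omega

theorem not_lin (d : Dat B L L' k k' z z' r v y l) {L₁ : Subgroup G} {q : ℕ}
    (hL₁ : L₁ ≤ centralizer ({v * z} : Set G)) (h₁ : COneDefs.LBlk (cj l B) L₁ q) : False := by
  have h1 : v * z ∈ rl (cj l B) L₁ := by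
    refine ⟨d.w_zcT, mem_centralizer_iff.2 fun x hx => ?_⟩
    exact mem_centralizer_singleton_iff.1 (hL₁ hx)
  have h2 := COneLinB.card_mul_relIndex (rl_le_zc (cj l B) L₁)
  rw [h₁.rl_index] at h2
  have h3 : 2 ≤ Nat.card (rl (cj l B) L₁) := by
    have h4 : Nat.card (rl (cj l B) L₁) ≠ 1 := by
      intro h5
      have h6 := Subgroup.eq_bot_of_card_eq _ h5
      rw [h6, mem_bot] at h1
      exact d.w_ne h1
    have : 0 < Nat.card (rl (cj l B) L₁) := Nat.card_pos
    omega
  have h4 : Nat.card (zc (cj l B)) ≤ 4 := by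
    have h5 : (zc (cj l B) : Set G) ⊆ {1, r, v * z, v * z * r} := by
      intro x hx
      rcases d.zcT_cases hx with h6 | h6 | h6 | h6 <;> simp [h6]
    have h6 : Nat.card (zc (cj l B)) = (zc (cj l B) : Set G).ncard := rfl
    rw [h6]
    refine (Set.ncard_le_ncard h5 (Set.toFinite _)).trans ?_
    have h7 := Set.ncard_insert_le 1 ({r, v * z, v * z * r} : Set G)
    have h8 := Set.ncard_insert_le r ({v * z, v * z * r} : Set G)
    have h9 := Set.ncard_insert_le (v * z) ({v * z * r} : Set G)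
    have h10 := Set.ncard_singleton (v * z * r)
    omega
  have h5 := h₁.four
  nlinarith

/-- all types of `C_G(w)` are impossible -/
theorem false_of_ty {S : Sylow 2 G} (hX : LX (S : Subgroup G)) (hc : AllComm (bau (S : Subgroup G)))
    (d : Dat (bau (S : Subgroup G)) L L' k k' z z' r v y l)
    (hL : RedX.Loc (centralizer ({v * z} : Set G)) (cj l (bau (S : Subgroup G))))
    (hb : bau (cj l (bau (S : Subgroup G))) = cj l (bau (S : Subgroup G)))
    (hty : Ty (centralizer ({v * z} : Set G)) (cj l (bau (S : Subgroup G)))) : False := by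
  set B := bau (S : Subgroup G) with hB
  set X := centralizer ({v * z} : Set G) with hXdef
  set Y := RedX.mod X (cj l B) with hYdef
  have hY : YC X (cj l B) Y := yc_mod hL
  have hrY : r ∈ Y := hY.zc_le d.r_zcT
  have hV : vl B L ≤ Y := d.V_le hrY hY.nor
  have hyX : y ∈ X := d.y_mem_X
  have hy3 : El3 y := ⟨k, d.y_three⟩
  -- the point of a block of `X` in `V`
  cases hty with
  | zero h =>
    refine false_of_zero d fun a ha u hu => ?_
    exact (mem_centralizer_iff.1 (h ha) u (hV hu)).symm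
  | tri V₀ h =>
    obtain ⟨L₁, k₁, h1, h2, h3⟩ := h.blk
    have h4 : vl B L ≤ V₀ := d.V_le' hV fun u hu => h.three y hyX hy3 u hu
    have h5 : vl B L = V₀ := by
      refine Subgroup.eq_of_le_of_card_ge h4 ?_
      rw [d.h.card_vl, ← h3, h2.card_vl]
    rw [hb] at h2 h3
    obtain ⟨p, hp⟩ := exists_pt h2
    have hpV : p ∈ vl B L := by rw [h5, ← h3]; exact hp.1
    have hpr := d.pt_cases hp.2.1 hpV hp.2.2
    rcases d.r_eq with h6 | h6
    · exact false_of_pt hX hc d h6 h1 h2 (by rw [← h6, ← hpr]; exact hp)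
    · exact d.r_notMem h6 (hpr ▸ hpV)
  | sev N V₀ z₀ h =>
    rcases d.r_eq with h6 | h6
    · obtain ⟨L₁, k₁, h1, h2, h3⟩ := h.blk
      rw [hb] at h2 h3
      have h4 : vl B L ≤ N := d.V_le' hV fun u hu => h.three y hyX hy3 u hu
      have hz₀N : z₀ ∈ N := h.VN h.zV
      have hz₀T : z₀ ∈ zc (cj l B) := by
        have h1 : z₀ ∈ Y := h.le hz₀N
        refine mem_zc.2 ⟨RedAct.YC.le_T hY h1, fun t ht => h.T_cent t ht, ?_⟩
        rw [pow_two]; exact RedAct.YC.sq hY h1
      have hkk : kk X (cj l B) ≤ X := LemX.nc_le ((ChoiceBase.jj_le _).trans hY.TX) Subgroup.le_normalizer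
      have hwN : v * z ∉ N := fun h0 => d.w_ne (by
        have : v * z ∈ N ⊓ centralizer (kk X (cj l B) : Set G) := by
          refine ⟨h0, mem_centralizer_iff.2 fun x hx => ?_⟩
          exact mem_centralizer_singleton_iff.1 (hkk hx)
        rwa [h.disj, mem_bot] at this)
      have hzN : r ∈ N := by rw [h6]; exact h4 d.pt.1
      have hzr : z₀ = z := by
        rcases d.zcT_cases hz₀T with h7 | h7 | h7 | h7
        · exact absurd h7 h.z_ne
        · rw [h7, h6]
        · exact absurd (h7 ▸ hz₀N) hwN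
        · exfalso; apply hwN
          have := N.mul_mem hz₀N hzN
          rw [h7] at this
          have e : v * z * r * r = v * z * (r * r) := by group
          rwa [e, d.rr, mul_one] at this
      refine false_of_pt hX hc d h6 h1 h2 ⟨?_, ?_, d.pt.2.2⟩
      · rw [h3, ← hzr]; exact h.zV
      · rw [← hzr]; exact hz₀T
    · exact false_of_sev d h6 le_rfl hb hY h hV
  | fiv U φ e h => exact h.bau_ne hb
  | lin L₁ q h =>
    have h1 := h.blk
    rw [hb] at h1
    exact not_lin d h.le h1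
  | bc L₁ h => exact h.bau_ne hb

end Cfsg.Agent.OddCyclic.APALink
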