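import Cfsg.Agent.OddCyclic.APASyl
import Cfsg.Agent.MinSimple.PushEnd
import Cfsg.Agent.MinSimple.Geo
import Cfsg.Agent.OddCyclic.COneLinB

/-!
# S0342, case C2, 5(A), part 3: any two planes over `B` are linked

`X = C_G(w)`, `w = v z`, with Sylow 2-subgroup `T = B ^ l`: all types of `X` are impossible.
-/

set_option autoImplicit false
set_option linter.unusedSectionVars false

namespace Cfsg.Agent.OddCyclic.APAMain

open Subgroup Cfsg Cfsg.Agent.ZN Cfsg.Agent.ZN.ChoiceBase Cfsg.Agent.MinSimple Cfsg.Agent.MinSimple.DBlkApi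
open Cfsg.Agent.MinSimple.SamePt (isPt_conj AllComm le_normalizer)
open Cfsg.Agent.OddCyclic.Red Cfsg.Agent.OddCyclic.APA Cfsg.Agent.OddCyclic.APASyl Cfsg.Agent.OddCyclic.RedTy

universe u

variable {G : Type u} [Group G] [Finite G]

structure Dat (B L L' : Subgroup G) (k k' : ℕ) (z z' r v y l : G) : Prop extends Cf B L L' k k' z z' where
  r_mem : r ∈ rl B L'
  r_eq : r = z ∨ r = z * z'
  r_only : ∀ x ∈ rl B L', x = 1 ∨ x = r
  v_mem : v ∈ vl B L'
  v_ne : v ≠ 1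
  v_nz : v ≠ z'
  y_mem : y ∈ L
  y_three : y ^ 3 ^ k = 1
  y_fpf : ∀ u ∈ vl B L, y * u * y⁻¹ = u → u = 1
  y_cube : ∀ u ∈ vl B L, y ^ 3 * u * (y ^ 3)⁻¹ = u
  y_comm : y * (v * z) = (v * z) * y
  l_mem : l ∈ L'
  l_eq : l * (z' * r) * l⁻¹ = v * z

theorem exists_dat {B L L' : Subgroup G} {k k' : ℕ} {z z' : G} (c : Cf B L L' k k' z z') :
    ∃ r v y l, Dat B L L' k k' z z' r v y l := by
  obtain ⟨r, h1, h2, h3⟩ := c.exists_r
  obtain ⟨y, h4, v, h5, h6, h7, h8, h9, h10, h11⟩ := c.exists_y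
  obtain ⟨l, h12, h13⟩ := c.exists_l h1 h2 h5 h6 h7
  exact ⟨r, v, y, l, c, h1, h2, h3, h5, h6, h7, h4, h8, h9, h10, h11, h12, h13⟩

variable {B L L' : Subgroup G} {k k' : ℕ} {z z' r v y l : G}

namespace Dat

variable (d : Dat B L L' k k' z z' r v y l)

include d

theorem zz : z * z = 1 := d.pt.mul_self

theorem zz' : z' * z' = 1 := d.pt'.mul_self

theorem vv : v * v = 1 := d.toCf.vsq' d.v_mem

theorem v_notMem : v ∉ zl B L := d.toCf.notMem_zl d.v_mem d.v_ne d.v_nz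

theorem z_zl : z ∈ zl B L := vl_le_zl B L d.pt.1

theorem r_zl : r ∈ zl B L := APA.Cf.rl_le_zl' d.r_mem

theorem vz : v * z = z * v := (d.comm z d.z_zl v (vl_le_zl B L' d.v_mem)).symm

theorem w_notMem : v * z ∉ zl B L := fun h0 => d.v_notMem (by
  have := (zl B L).mul_mem h0 d.z_zl
  have e : v * z * z = v * (z * z) := by group
  rwa [e, d.zz, mul_one] at this)

theorem ww : (v * z) * (v * z) = 1 := by
  calc v * z * (v * z) = (v * z) * (z * v) := by rw [← d.vz]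
    _ = v * (z * z) * v := by group
    _ = 1 := by rw [d.zz, mul_one, d.vv]

theorem w_ne : v * z ≠ 1 := fun h0 => d.w_notMem (by rw [h0]; exact one_mem _)

theorem r_ne : r ≠ 1 := by
  intro h0
  rcases d.r_eq with h1 | h1
  · exact d.pt.2.2 (h1 ▸ h0)
  · rw [h0] at h1
    apply d.toCf.ne
    calc z = (z * z') * z'⁻¹ := by group
      _ = z' := by rw [← h1, one_mul, inv_eq d.zz']

theorem rr : r * r = 1 := by rw [← pow_two]; exact zc_sq (rl_le_zc B L' d.r_mem)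

/-- `zc B = {1, z', r, z' r}` -/
theorem zc_cases' {x : G} (hx : x ∈ zc B) : x = 1 ∨ x = z' ∨ x = r ∨ x = z' * r := by
  have e : z' * z = z * z' := d.toCf.comm_zz.symm
  rcases d.r_eq with h1 | h1
  · rw [h1]
    rcases d.toCf.zc_cases hx with h2 | h2 | h2 | h2
    · exact Or.inl h2
    · exact Or.inr (Or.inl h2)
    · exact Or.inr (Or.inr (Or.inl h2))
    · exact Or.inr (Or.inr (Or.inr (by rw [h2, e])))
  · rw [h1]
    rcases d.toCf.zc_cases hx with h2 | h2 | h2 | h2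
    · exact Or.inl h2
    · exact Or.inr (Or.inl h2)
    · refine Or.inr (Or.inr (Or.inr ?_))
      rw [h2]
      calc z = (z' * z') * z := by rw [d.zz', one_mul]
        _ = z' * (z' * z) := by group
        _ = _ := by rw [e]
    · exact Or.inr (Or.inr (Or.inl h2))

theorem l_fix : l * r * l⁻¹ = r := rl_conj d.r_mem d.l_mem

/-- `Ω₁(Z(T)) = {1, r, w, w r}`, `T = B ^ l` -/
theorem zcT_cases {x : G} (hx : x ∈ zc (cj l B)) : x = 1 ∨ x = r ∨ x = v * z ∨ x = v * z * r := by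
  have h1 : x ∈ cj l (zc B) := by
    have := zc_map (MulAut.conj l).toMonoidHom (MulAut.conj l).injective B
    exact this.le hx
  have h2 := mem_cj.1 h1
  have e : x = l * (l⁻¹ * x * l) * l⁻¹ := by group
  have hlz : l * z' * l⁻¹ = v * z * r := by
    calc l * z' * l⁻¹ = (l * (z' * r) * l⁻¹) * (l * r * l⁻¹)⁻¹ := by group
      _ = v * z * r := by rw [d.l_eq, d.l_fix, inv_eq d.rr]
  rcases d.zc_cases' h2 with h3 | h3 | h3 | h3
  · left; rw [e, h3]; group
  · right; right; right; rw [e, h3, hlz]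
  · right; left; rw [e, h3, d.l_fix]
  · right; right; left; rw [e, h3, d.l_eq]

theorem mem_zcT {x : G} (hx : x ∈ zc B) : l * x * l⁻¹ ∈ zc (cj l B) := by
  have := zc_map (MulAut.conj l).toMonoidHom (MulAut.conj l).injective B
  exact this.ge (conj_mem_cj hx)

theorem zr_zc : z' * r ∈ zc B := (zc B).mul_mem d.pt'.2.1 (rl_le_zc B L' d.r_mem)

theorem w_zcT : v * z ∈ zc (cj l B) := by
  rw [← d.l_eq]; exact d.mem_zcT d.zr_zc

theorem r_zcT : r ∈ zc (cj l B) := by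
  have := d.mem_zcT (rl_le_zc B L' d.r_mem)
  rwa [d.l_fix] at this

theorem w_r_notMem : v * z * r ∉ zl B L := fun h0 => d.w_notMem (by
  have := (zl B L).mul_mem h0 d.r_zl
  have e : v * z * r * r = v * z * (r * r) := by group
  rwa [e, d.rr, mul_one] at this)

/-- `V ∩ Ω₁(Z(T)) ≤ ⟨r⟩` -/
theorem pt_cases {p : G} (hp : p ∈ zc (cj l B)) (hpV : p ∈ vl B L) (hp1 : p ≠ 1) : p = r := by
  have h1 := vl_le_zl B L hpV
  rcases d.zcT_cases hp with h2 | h2 | h2 | h2
  · exact absurd h2 hp1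
  · exact h2
  · exact absurd (h2 ▸ h1) d.w_notMem
  · exact absurd (h2 ▸ h1) d.w_r_notMem

/-- `r ∉ V` if `r = z z'` -/
theorem r_notMem (h : r = z * z') : r ∉ vl B L := by
  intro h0
  have h1 : z' ∈ vl B L := by
    have := (vl B L).mul_mem d.pt.1 h0
    rw [h] at this
    have e : z * (z * z') = (z * z) * z' := by group
    rwa [e, d.zz, one_mul] at this
  have h2 : z' ∈ rl B L ⊓ vl B L := ⟨d.toCf.pt_mem, h1⟩
  rw [d.h.disj, mem_bot] at h2
  exact d.pt'.2.2 h2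

theorem yN : y ∈ normalizer (vl B L : Set G) := le_normalizer_vl B L d.y_mem

/-- `V = [V, y]` -/
theorem exists_u {a : G} (ha : a ∈ vl B L) : ∃ u ∈ vl B L, y * u * y⁻¹ * u⁻¹ = a := by
  have hnV := d.yN
  set a1 := y * a * y⁻¹ with ha1
  set a2 := y * a1 * y⁻¹ with ha2
  have ha1V : a1 ∈ vl B L := Four.conj_mem hnV ha
  have ha2V : a2 ∈ vl B L := Four.conj_mem hnV ha1V
  have ha3 : y * a2 * y⁻¹ = a := by
    have := d.y_cube a ha
    calc y * a2 * y⁻¹ = y ^ 3 * a * (y ^ 3)⁻¹ := by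
          rw [ha2, ha1]; simp only [pow_succ, pow_zero, one_mul]; group
      _ = a := this
  have hVc : ∀ {p q : G}, p ∈ vl B L → q ∈ vl B L → p * q = q * p := fun hp hq => Four.comm_of_sq (vl_sq d.h) hp hq
  have hprod : a * a1 * a2 = 1 := by
    refine d.y_fpf _ ((vl B L).mul_mem ((vl B L).mul_mem ha ha1V) ha2V) ?_
    calc y * (a * a1 * a2) * y⁻¹ = (y * a * y⁻¹) * (y * a1 * y⁻¹) * (y * a2 * y⁻¹) := by group
      _ = a1 * a2 * a := by rw [ha3]
      _ = a * a1 * a2 := by rw [hVc ((vl B L).mul_mem ha1V ha2V) ha]; group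
  refine ⟨a1, ha1V, ?_⟩
  have h6 : (a * a1) * (a * a1) = 1 := d.toCf.vsq ((vl B L).mul_mem ha ha1V)
  calc a2 * a1⁻¹ = (a * a1)⁻¹ * (a * a1 * a2) * a1⁻¹ := by group
    _ = (a * a1) * a1⁻¹ := by rw [hprod, mul_one, inv_eq h6]
    _ = a := by group

theorem y_mem_X : y ∈ centralizer ({v * z} : Set G) := mem_centralizer_singleton_iff.2 d.y_comm

/-- `V` lies in every `X`-invariant subgroup containing `r` -/
theorem V_le {Y : Subgroup G} (hr : r ∈ Y) (hY : centralizer ({v * z} : Set G) ≤ normalizer (Y : Set G)) :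
    vl B L ≤ Y := by
  have hyY := hY d.y_mem_X
  have hyz' : y * z' = z' * y := rl_comm d.toCf.pt_mem d.y_mem
  -- `a = [y, z] ∈ Y`
  have ha : y * z * y⁻¹ * z⁻¹ ∈ Y := by
    have h1 := Y.mul_mem (Four.conj_mem hyY hr) (Y.inv_mem hr)
    rcases d.r_eq with h2 | h2
    · rw [h2] at h1; exact h1
    · have e : y * (z * z') * y⁻¹ * (z * z')⁻¹ = y * z * y⁻¹ * z⁻¹ := by
        have h3 : y * z' * y⁻¹ = z' := Four.conj_eq_iff_comm.2 hyz'
        calc y * (z * z') * y⁻¹ * (z * z')⁻¹ = (y * z * y⁻¹) * (y * z' * y⁻¹) * (z * z')⁻¹ := by group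
          _ = (y * z * y⁻¹) * z' * (z * z')⁻¹ := by rw [h3]
          _ = _ := by group
      rw [h2, e] at h1; exact h1
  set a := y * z * y⁻¹ * z⁻¹ with hadef
  have haV : a ∈ vl B L := (vl B L).mul_mem (Four.conj_mem d.yN d.pt.1) ((vl B L).inv_mem d.pt.1)
  have ha1 : a ≠ 1 := by
    intro h0
    exact d.pt.2.2 (d.y_fpf z d.pt.1 (mul_inv_eq_one.1 h0))
  have hyV : y ∉ centralizer (vl B L : Set G) := fun h5 =>
    d.pt.2.2 (d.y_fpf z d.pt.1 (Four.mem_cent_iff.1 h5 z d.pt.1))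
  have hy3 : y ^ 3 ∈ centralizer (vl B L : Set G) := Four.mem_cent_iff.2 d.y_cube
  intro x hx
  by_cases hx1 : x = 1
  · rw [hx1]; exact one_mem _
  rcases Four.cyc_trans d.h.card_vl (vl_sq d.h) d.yN hyV hy3 haV ha1 hx hx1 with h5 | h5 | h5
  · rw [h5]; exact ha
  · rw [h5]; exact Four.conj_mem hyY ha
  · rw [h5]; exact Four.conj_mem' hyY ha

/-- `V ≤ N` if `[Y, y] ≤ N` -/
theorem V_le' {Y N : Subgroup G} (hV : vl B L ≤ Y) (h3 : ∀ u ∈ Y, y * u * y⁻¹ * u⁻¹ ∈ N) : vl B L ≤ N := by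
  intro a ha
  obtain ⟨u, hu, rfl⟩ := d.exists_u ha
  exact h3 u (hV hu)

/-- `W = Z_L Z_{L'} ≤ Y` if `r = z z'` -/
theorem W_le (h : r = z * z') {Y : Subgroup G} (hV : vl B L ≤ Y) (hzT : zc (cj l B) ≤ Y) : zl B L ⊔ zl B L' ≤ Y := by
  have hz : z ∈ Y := hV d.pt.1
  have hr : r ∈ Y := hzT d.r_zcT
  have hz' : z' ∈ Y := by
    have := Y.mul_mem hz hr
    rw [h] at this
    have e : z * (z * z') = (z * z) * z' := by group
    rwa [e, d.zz, one_mul] at this
  have hv : v ∈ Y := by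
    have := Y.mul_mem (hzT d.w_zcT) hz
    have e : v * z * z = v * (z * z) := by group
    rwa [e, d.zz, mul_one] at this
  refine sup_le ?_ ?_
  · intro x hx
    obtain ⟨s, hs, u, hu, rfl⟩ := mem_zl d.h hx
    refine Y.mul_mem ?_ (hV hu)
    rcases d.toCf.rl_cases hs with h1 | h1
    · rw [h1]; exact Y.one_mem
    · rw [h1]; exact hz'
  · intro x hx
    obtain ⟨s, hs, u, hu, rfl⟩ := mem_zl d.h' hx
    refine Y.mul_mem ?_ ?_
    · rcases d.r_only s hs with h1 | h1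
      · rw [h1]; exact Y.one_mem
      · rw [h1]; exact hr
    · rcases Four.four d.h'.card_vl (vl_sq d.h') d.pt'.1 d.v_mem d.pt'.2.2 d.v_ne d.v_nz.symm u hu with
        h6 | h6 | h6 | h6
      · rw [h6]; exact Y.one_mem
      · rw [h6]; exact hz'
      · rw [h6]; exact hv
      · rw [h6]; exact Y.mul_mem hz' hv

/-- `zl B L ⊔ zl B L' = Z_L ∪ Z_L v` -/
theorem card_W : 16 ≤ Nat.card (zl B L ⊔ zl B L' : Subgroup G) := by
  have h1 : Nat.card (rl B L) = 2 := by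
    have e : rl B L = zpowers z' := by
      ext x
      rw [zpowers_eq d.pt'.sq]
      constructor
      · exact fun hx => d.toCf.rl_cases hx
      · rintro (rfl | rfl)
        · exact one_mem _
        · exact d.toCf.pt_mem
    rw [e, card_zpowers d.pt'.sq d.pt'.2.2]
  have h2 := PushEnd.card_zl d.h
  rw [h1] at h2
  have h3 := COneLinB.card_mul_relIndex (le_sup_left : zl B L ≤ zl B L ⊔ zl B L')
  have h4 : (zl B L).relIndex (zl B L ⊔ zl B L') ≠ 1 := by
    rw [Ne, relIndex_eq_one]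
    intro h5
    exact d.v_notMem (h5 (mem_sup_right (vl_le_zl B L' d.v_mem)))
  have h5 : (zl B L).relIndex (zl B L ⊔ zl B L') ≠ 0 := by
    intro h6
    rw [h6, mul_zero] at h3
    have : 0 < Nat.card (zl B L ⊔ zl B L' : Subgroup G) := Nat.card_pos
    omega
  have h6 : 2 ≤ (zl B L).relIndex (zl B L ⊔ zl B L') := by omega
  rw [← h3, h2]
  omega

end Dat

end Cfsg.Agent.OddCyclic.APAMain
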