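import Cfsg.Agent.OddCyclic.APA

/-!
# S0342, case C2, 5(A), part 2: `B` is a Sylow 2-subgroup of `C_G(z' r)`

`L`, `L'` are not linked: no block over `B` with the plane of `L` and no block over `B` with the plane of `L'` lie in a
common 2-local subgroup.
-/

set_option autoImplicit false
set_option linter.unusedSectionVars false

namespace Cfsg.Agent.OddCyclic.APASyl

open Subgroup Cfsg Cfsg.Agent.ZN Cfsg.Agent.ZN.ChoiceBase Cfsg.Agent.MinSimple Cfsg.Agent.MinSimple.DBlkApi
open Cfsg.Agent.MinSimple.SamePt (isPt_conj AllComm le_normalizer bau_eq jj_eq zj_eq)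
open Cfsg.Agent.OddCyclic.Red Cfsg.Agent.OddCyclic.APA

universe u

variable {G : Type u} [Group G]

/-- no block with the plane of `L` and no block with the plane of `L'` lie in a common 2-local -/
def NLk (B L L' : Subgroup G) : Prop :=
  ∀ (L₁ L₂ : Subgroup G) (k₁ k₂ : ℕ), IsDBlk B L₁ k₁ → IsDBlk B L₂ k₂ → vl B L₁ = vl B L → vl B L₂ = vl B L' →
    ¬ Loc2 L₁ L₂

theorem NLk.symm {B L L' : Subgroup G} (h : NLk B L L') : NLk B L' L := fun L₁ L₂ k₁ k₂ h1 h2 h3 h4 h5 =>
  h L₂ L₁ k₂ k₁ h2 h1 h4 h3 h5.symm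

theorem cj_sup (g : G) (H K : Subgroup G) : cj g (H ⊔ K) = cj g H ⊔ cj g K := Subgroup.map_sup _ _ _

variable [Finite G] {S : Sylow 2 G}

/-- an element of a 2-group over `bau S`, centralising `zc (bau S)`, lies in `bau S` -/
theorem mem_bau_of_cent {T₀ : Subgroup G} (hT : IsPGroup 2 T₀) (hBT : bau (S : Subgroup G) ≤ T₀) {t : G}
    (ht : t ∈ T₀) (hc : ∀ x ∈ zc (bau (S : Subgroup G)), t * x * t⁻¹ = x) : t ∈ bau (S : Subgroup G) := by
  rw [← bau_eq S hT hBT, mem_bau]
  refine ⟨ht, fun y hy => ?_⟩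
  rw [zj_eq S hT hBT, ← ChoiceBase.zc_bau] at hy
  exact (Four.conj_eq_iff_comm.1 (hc y hy)).symm

variable {L L' : Subgroup G} {k k' : ℕ} {z z' : G}

/-- the conjugate of a block over `B` by an element of `N_G(B)` -/
theorem dblk_cj {B : Subgroup G} (h : IsDBlk B L k) {t : G} (ht : t ∈ normalizer (B : Set G)) :
    IsDBlk B (cj t L) k := by
  have h1 := h.conj t
  have h2 : B.map (MulAut.conj t).toMonoidHom = B := cj_eq_of_mem_normalizer ht
  rw [h2] at h1
  exact h1

theorem pt_cj {B : Subgroup G} (h : IsPt B L z) {t : G} (ht : t ∈ normalizer (B : Set G)) :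
    IsPt B (cj t L) (t * z * t⁻¹) := by
  have h1 := isPt_conj h t
  have h2 : B.map (MulAut.conj t).toMonoidHom = B := cj_eq_of_mem_normalizer ht
  rw [h2] at h1
  exact h1

theorem vl_cj {B : Subgroup G} {t : G} (ht : t ∈ normalizer (B : Set G)) : vl B (cj t L) = cj t (vl B L) := by
  have h1 := vl_map (MulAut.conj t).toMonoidHom (MulAut.conj t).injective B L
  have h2 : B.map (MulAut.conj t).toMonoidHom = B := cj_eq_of_mem_normalizer ht
  rw [h2] at h1
  exact h1

theorem rl_cj {B : Subgroup G} {t : G} (ht : t ∈ normalizer (B : Set G)) : rl B (cj t L) = cj t (rl B L) := by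
  have h1 := rl_map (MulAut.conj t).toMonoidHom (MulAut.conj t).injective B L
  have h2 : B.map (MulAut.conj t).toMonoidHom = B := cj_eq_of_mem_normalizer ht
  rw [h2] at h1
  exact h1

theorem zl_cj {B : Subgroup G} {t : G} (ht : t ∈ normalizer (B : Set G)) : zl B (cj t L) = cj t (zl B L) := by
  have h1 := zl_map (MulAut.conj t).toMonoidHom (MulAut.conj t).injective B L
  have h2 : B.map (MulAut.conj t).toMonoidHom = B := cj_eq_of_mem_normalizer ht
  rw [h2] at h1
  exact h1

theorem conj_mem_cj {t x : G} {H : Subgroup G} (hx : x ∈ H) : t * x * t⁻¹ ∈ cj t H := by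
  rw [mem_cj]
  have e : t⁻¹ * (t * x * t⁻¹) * t = x := by group
  rw [e]; exact hx

/-- (b) `B` is a Sylow 2-subgroup of `C_G(z' r)` -/
theorem syl_le (hX : LX (S : Subgroup G)) (hc : AllComm (bau (S : Subgroup G)))
    (c : Cf (bau (S : Subgroup G)) L L' k k' z z') (hN : NLk (bau (S : Subgroup G)) L L') {r : G}
    (hrz : r = z ∨ r = z * z') {T₀ : Subgroup G} (hT : IsPGroup 2 T₀) (hBT : bau (S : Subgroup G) ≤ T₀)
    (hTc : ∀ t ∈ T₀, t * (z' * r) * t⁻¹ = z' * r) : T₀ ≤ bau (S : Subgroup G) := by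
  set B := bau (S : Subgroup G) with hB
  intro t ht
  have htN : t ∈ normalizer (B : Set G) := le_normalizer S hT hBT ht
  have htz : t * z * t⁻¹ ∈ zc B := Four.conj_mem (normalizer_le_normalizer_zc B htN) c.pt.2.1
  have hfix := hTc t ht
  have hz'z : z' * z = z * z' := c.comm_zz.symm
  have hz'i := inv_eq c.pt'.mul_self
  have hzi := inv_eq c.pt.mul_self
  -- it suffices to fix `z` and `z'`
  have fin : t * z * t⁻¹ = z → t * z' * t⁻¹ = z' → t ∈ B := by
    intro h1 h2
    refine mem_bau_of_cent hT hBT ht fun x hx => ?_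
    rcases c.zc_cases hx with h3 | h3 | h3 | h3
    · rw [h3]; group
    · rw [h3]; exact h2
    · rw [h3]; exact h1
    · rw [h3]
      calc t * (z * z') * t⁻¹ = (t * z * t⁻¹) * (t * z' * t⁻¹) := by group
        _ = z * z' := by rw [h1, h2]
  rcases hrz with h0 | h0
  · -- `r = z`
    rw [h0] at hfix
    have hprod : (t * z' * t⁻¹) * (t * z * t⁻¹) = z' * z := by rw [← hfix]; group
    rcases c.zc_cases htz with h1 | h1 | h1 | h1
    · exact absurd (conj_eq_one_iff.1 h1) c.pt.2.2
    · -- `t` swaps `z` and `z'`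
      exfalso
      have h2 : t * z' * t⁻¹ = z := by
        have : t * z' * t⁻¹ = (z' * z) * z'⁻¹ := by rw [← hprod, h1]; group
        rw [this, hz'z]; group
      have hd := dblk_cj c.h htN
      have hd' := dblk_cj c.h' htN
      have hp := pt_cj c.pt htN
      have hp' := pt_cj c.pt' htN
      rw [h1] at hp
      rw [h2] at hp'
      have hv := vl_eq_of_pt hX hd c.h' hp c.pt' (hc _ _ _ _ hd c.h')
      have hv' := vl_eq_of_pt hX hd' c.h hp' c.pt (hc _ _ _ _ hd' c.h)
      have hr := CaseDiv.rl_eq_rl S hd c.h' hv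
      have hr' := CaseDiv.rl_eq_rl S hd' c.h hv'
      have hz1 : cj t (zl B L) = zl B L' := by
        rw [← zl_cj htN, ← hd.sup_eq, ← c.h'.sup_eq, hB, hr, hv]
      have hz2 : cj t (zl B L') = zl B L := by
        rw [← zl_cj htN, ← hd'.sup_eq, ← c.h.sup_eq, hB, hr', hv']
      have hW : cj t (zl B L ⊔ zl B L') = zl B L ⊔ zl B L' := by
        rw [cj_sup, hz1, hz2, sup_comm]
      refine hN L (cj t L) k k c.h hd rfl hv ⟨zl B L ⊔ zl B L', ?_, ?_, c.g2, ?_⟩
      · exact c.h.two.to_le (sup_le (zl_le_B c.h) (zl_le_B c.h'))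
      · intro h3
        have h4 : z ∈ zl B L ⊔ zl B L' := mem_sup_left (vl_le_zl B L c.pt.1)
        rw [h3, mem_bot] at h4
        exact c.pt.2.2 h4
      · have h3 := cj_mono t c.g2
        rw [cj_normalizer, hW] at h3
        exact h3
    · refine fin h1 ?_
      have : t * z' * t⁻¹ = (z' * z) * z⁻¹ := by rw [← hprod, h1]; group
      rw [this]; group
    · exfalso
      have h2 : t * z' * t⁻¹ = 1 := by
        have : t * z' * t⁻¹ = (z' * z) * (z * z')⁻¹ := by rw [← hprod, h1]; group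
        rw [this, hz'z, mul_inv_cancel]
      exact c.pt'.2.2 (conj_eq_one_iff.1 h2)
  · -- `r = z z'`
    have h1 : z' * r = z := by
      rw [h0]
      calc z' * (z * z') = z' * (z' * z) := by rw [hz'z]
        _ = (z' * z') * z := by group
        _ = z := by rw [c.pt'.mul_self, one_mul]
    rw [h1] at hfix
    refine fin hfix ?_
    have hd := dblk_cj c.h htN
    have hp := pt_cj c.pt htN
    rw [hfix] at hp
    have hv := vl_eq_of_pt hX hd c.h hp c.pt (hc _ _ _ _ hd c.h)
    have hr := CaseDiv.rl_eq_rl S hd c.h hv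
    have h2 : t * z' * t⁻¹ ∈ rl B L := by
      rw [hB, ← hr, rl_cj htN]
      exact conj_mem_cj c.pt_mem
    rcases c.rl_cases h2 with h3 | h3
    · exact absurd (conj_eq_one_iff.1 h3) c.pt'.2.2
    · exact h3

end Cfsg.Agent.OddCyclic.APASyl
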