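import Cfsg.Agent.OddCyclic.APALink

/-!
# S0342, case C2, 5(A), (B): any two planes over `B` are linked, there are at most two

`B = bau S`. `hty`: the types of the 2-local subgroups (RedTy).
* `linked`: for any two dihedral blocks `L`, `L'` over `B` there are blocks with the same planes in a common 2-local;
* `exists_fiv`: if the planes are different this 2-local has type (S5), and it normalises `vl B L ⊔ vl B L'`;
* `three`: among three dihedral blocks over `B` two have the same plane.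
-/

set_option autoImplicit false
set_option linter.unusedSectionVars false

namespace Cfsg.Agent.OddCyclic.APB

open Subgroup Cfsg Cfsg.Agent.ZN Cfsg.Agent.ZN.ChoiceBase Cfsg.Agent.MinSimple Cfsg.Agent.MinSimple.DBlkApi
open Cfsg.Agent.MinSimple.SamePt (isPt_conj AllComm le_normalizer)
open Cfsg.Agent.OddCyclic.Red Cfsg.Agent.OddCyclic.APA Cfsg.Agent.OddCyclic.APASyl Cfsg.Agent.OddCyclic.RedTy
open Cfsg.Agent.OddCyclic.APAMain Cfsg.Agent.OddCyclic.APALink

universe u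

variable {G : Type u} [Group G] [Finite G]
variable {S : Sylow 2 G} {L L' : Subgroup G} {k k' : ℕ}

/-- the output of section 2: the types of the 2-local subgroups -/
def TyA (G : Type u) [Group G] : Prop := ∀ X T : Subgroup G, IsTwoLocal X → RedX.Loc X T → Ty X T

theorem false_of_cf (hX : LX (S : Subgroup G)) (hc : AllComm (bau (S : Subgroup G))) (hty : TyA G) {z z' : G}
    (c : Cf (bau (S : Subgroup G)) L L' k k' z z') (hN : NLk (bau (S : Subgroup G)) L L') : False := by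
  set B := bau (S : Subgroup G) with hB
  obtain ⟨r, v, y, l, d⟩ := exists_dat c
  set X := centralizer ({v * z} : Set G) with hXdef
  have hbB : bau B = B := SamePt.bau_eq S c.h.two le_rfl
  have hb : bau (cj l B) = cj l B := by rw [ChoiceBase.bau_cj, hbB]
  have hTX : cj l B ≤ X := by
    intro x hx
    have h1 := mem_cj.1 hx
    have h2 := zc_comm d.zr_zc h1
    rw [hXdef, mem_centralizer_singleton_iff, ← d.l_eq]
    calc x * (l * (z' * r) * l⁻¹) = l * ((l⁻¹ * x * l) * (z' * r)) * l⁻¹ := by group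
      _ = l * ((z' * r) * (l⁻¹ * x * l)) * l⁻¹ := by rw [h2]
      _ = _ := by group
  have hT : ChoiceSit.Syl (cj l B) X := by
    refine ⟨hTX, isPGroup_cj l c.h.two, fun Q hQ hQ2 hTQ => le_antisymm ?_ hTQ⟩
    have h1 : B ≤ cj l⁻¹ Q := cj_le_iff.1 hTQ
    have h2 : cj l⁻¹ Q ≤ B := by
      refine syl_le hX hc c hN d.r_eq (isPGroup_cj l⁻¹ hQ2) h1 fun t ht => ?_
      have h3 := mem_cj.1 ht
      rw [inv_inv] at h3
      have h4 : l * t * l⁻¹ * (v * z) = v * z * (l * t * l⁻¹) := mem_centralizer_singleton_iff.1 (hQ h3)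
      rw [← d.l_eq] at h4
      rw [Four.conj_eq_iff_comm]
      calc t * (z' * r) = l⁻¹ * (l * t * l⁻¹ * (l * (z' * r) * l⁻¹)) * l := by group
        _ = l⁻¹ * (l * (z' * r) * l⁻¹ * (l * t * l⁻¹)) * l := by rw [h4]
        _ = _ := by group
    have h3 := cj_le_iff.1 h2
    rwa [inv_inv] at h3
  have hX2 : IsTwoLocal X := Geo.isTwoLocal_centralizer d.ww d.w_ne
  have hL : RedX.Loc X (cj l B) := ⟨ChoiceSit.self_cent hX.char2 hX2, hT.2.1, hT.1, ChoiceSit.syl_not_dvd hT⟩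
  exact false_of_ty hX hc d hL hb (hty X _ hX2 hL)

/-- **5(A)** any two planes over `B` are linked -/
theorem linked (hX : LX (S : Subgroup G)) (hc : AllComm (bau (S : Subgroup G))) (hty : TyA G)
    (h : IsDBlk (bau (S : Subgroup G)) L k) (h' : IsDBlk (bau (S : Subgroup G)) L' k') :
    ∃ (L₁ L₂ : Subgroup G) (k₁ k₂ : ℕ), IsDBlk (bau (S : Subgroup G)) L₁ k₁ ∧
      IsDBlk (bau (S : Subgroup G)) L₂ k₂ ∧ vl (bau (S : Subgroup G)) L₁ = vl (bau (S : Subgroup G)) L ∧
      vl (bau (S : Subgroup G)) L₂ = vl (bau (S : Subgroup G)) L' ∧ Loc2 L₁ L₂ := by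
  set B := bau (S : Subgroup G) with hB
  by_contra hcon
  have hN : NLk B L L' := fun L₁ L₂ k₁ k₂ h1 h2 h3 h4 h5 => hcon ⟨L₁, L₂, k₁, k₂, h1, h2, h3, h4, h5⟩
  have core : ∀ N : Subgroup G, N ≤ B → L ≤ normalizer (N : Set G) → L' ≤ normalizer (N : Set G) → N = ⊥ := by
    intro N hNB h1 h2
    by_contra h3
    exact hN L L' k k' h h' rfl rfl ⟨N, h.two.to_le hNB, h3, h1, h2⟩
  have comm := zl_commute h h' (hc _ _ _ _ h h')
  obtain ⟨z, hz⟩ := exists_pt h
  obtain ⟨z', hz'⟩ := exists_pt h'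
  rcases APQ.graph_dd h h' core comm with ⟨h1, h2, -⟩ | ⟨h1, h2, -⟩
  · exact false_of_cf hX hc hty ⟨h, h', hz, hz', core, comm, h1, h2⟩ hN
  · exact false_of_cf hX hc hty ⟨h', h, hz', hz, fun N hNB h3 h4 => core N hNB h4 h3,
      fun x hx y hy => (comm y hy x hx).symm, h1, h2⟩ hN.symm

/-- a 2-local with two different planes over `B` has type (S5) -/
theorem fiv_of_local (hX : LX (S : Subgroup G)) (hty : TyA G) {X : Subgroup G} (hX2 : IsTwoLocal X)
    (h : IsDBlk (bau (S : Subgroup G)) L k) (h' : IsDBlk (bau (S : Subgroup G)) L' k') (hLX : L ≤ X) (hLX' : L' ≤ X)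
    (hne : vl (bau (S : Subgroup G)) L ≠ vl (bau (S : Subgroup G)) L') :
    ∃ (T U : Subgroup G) (φ : X →* Equiv.Perm (Fin 5)) (e : Fin 5 → Fin 5 → G), RedX.Loc X T ∧
      bau T = bau (S : Subgroup G) ∧ Fiv X T U φ e := by
  obtain ⟨T, hT, hBT⟩ := ChoiceSit.exists_syl h.two (h.le.trans hLX)
  have hb : bau T = bau (S : Subgroup G) := SamePt.bau_eq S hT.2.1 hBT
  have hL : RedX.Loc X T := ⟨ChoiceSit.self_cent hX.char2 hX2, hT.2.1, hT.1, ChoiceSit.syl_not_dvd hT⟩
  rw [← hb] at h h' hne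
  have ht := hty X T hX2 hL
  cases ht with
  | zero h0 =>
    exfalso
    apply h.not_jj_le
    rw [ChoiceBase.jj_bau]
    intro a ha
    refine mem_o2_of_cent h (ChoiceBase.jj_le_bau T ha) (mem_centralizer_iff.2 fun v hv => ?_)
    exact mem_centralizer_iff.1 (h0 ha) v (RedX.vl_le_mod hLX (Or.inl ⟨k, h⟩) hv)
  | tri V h0 => exact absurd ((h0.only L k hLX h).trans (h0.only L' k' hLX' h').symm) hne
  | sev N V z h0 => exact absurd ((h0.only L k hLX h).trans (h0.only L' k' hLX' h').symm) hne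
  | fiv U φ e h0 => exact ⟨T, U, φ, e, hL, hb, h0⟩
  | lin L₁ q h0 => exact absurd h (h0.nodih L k hLX)
  | bc L₁ h0 => exact absurd (Or.inl ⟨k, h⟩) (h0.noblk L hLX)

/-- two different planes over `B`: a 2-local of type (S5) -/
theorem exists_fiv (hX : LX (S : Subgroup G)) (hc : AllComm (bau (S : Subgroup G))) (hty : TyA G)
    (h : IsDBlk (bau (S : Subgroup G)) L k) (h' : IsDBlk (bau (S : Subgroup G)) L' k')
    (hne : vl (bau (S : Subgroup G)) L ≠ vl (bau (S : Subgroup G)) L') :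
    ∃ (X T U : Subgroup G) (φ : X →* Equiv.Perm (Fin 5)) (e : Fin 5 → Fin 5 → G), IsTwoLocal X ∧ RedX.Loc X T ∧
      bau T = bau (S : Subgroup G) ∧ Fiv X T U φ e ∧ ∃ (L₁ L₂ : Subgroup G) (k₁ k₂ : ℕ), L₁ ≤ X ∧ L₂ ≤ X ∧
      IsDBlk (bau (S : Subgroup G)) L₁ k₁ ∧ IsDBlk (bau (S : Subgroup G)) L₂ k₂ ∧
      vl (bau (S : Subgroup G)) L₁ = vl (bau (S : Subgroup G)) L ∧
      vl (bau (S : Subgroup G)) L₂ = vl (bau (S : Subgroup G)) L' := by
  obtain ⟨L₁, L₂, k₁, k₂, h1, h2, h3, h4, U₀, h5, h6, h7, h8⟩ := linked hX hc hty h h'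
  have hX2 : IsTwoLocal (normalizer (U₀ : Set G)) := ⟨U₀, h5, h6, rfl⟩
  obtain ⟨T, U, φ, e, h9, h10, h11⟩ := fiv_of_local hX hty hX2 h1 h2 h7 h8 (by rw [h3, h4]; exact hne)
  exact ⟨_, T, U, φ, e, hX2, h9, h10, h11, L₁, L₂, k₁, k₂, h7, h8, h1, h2, h3, h4⟩

/-- type (S5): the module is the product of the two planes -/
theorem fiv_sup {X T Y U : Subgroup G} {φ : X →* Equiv.Perm (Fin 5)} {e : Fin 5 → Fin 5 → G}
    (h : FivY X T Y U φ e) : closure {e 0 1, e 0 4} ⊔ closure {e 2 3, e 2 4} = U := by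
  set V := closure {e 0 1, e 0 4} ⊔ closure {e 2 3, e 2 4} with hV
  apply le_antisymm
  · refine sup_le ?_ ?_ <;> rw [closure_le]
    · rintro x (rfl | rfl)
      · exact h.mem _ _
      · exact h.mem _ _
    · rintro x (rfl | rfl)
      · exact h.mem _ _
      · exact h.mem _ _
  · have m01 : e 0 1 ∈ V := mem_sup_left (subset_closure (by simp))
    have m04 : e 0 4 ∈ V := mem_sup_left (subset_closure (by simp))
    have m23 : e 2 3 ∈ V := mem_sup_right (subset_closure (by simp))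
    have m24 : e 2 4 ∈ V := mem_sup_right (subset_closure (by simp))
    have m14 : e 1 4 ∈ V := by
      rw [← h.mul 1 0 4, h.symm 1 0]; exact V.mul_mem m01 m04
    have m34 : e 3 4 ∈ V := by
      rw [← h.mul 3 2 4, h.symm 3 2]; exact V.mul_mem m23 m24
    have key : ∀ i, e i 4 ∈ V := by
      intro i
      fin_cases i
      · exact m04
      · exact m14
      · exact m24
      · exact m34
      · change e 4 4 ∈ V
        rw [h.self]; exact V.one_mem
    have key2 : ∀ i j, e i j ∈ V := by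
      intro i j
      rw [← h.mul i 4 j, h.symm 4 j]
      exact V.mul_mem (key i) (key j)
    intro u hu
    obtain ⟨i, j, k, l, rfl⟩ := h.all u hu
    exact V.mul_mem (key2 i j) (key2 k l)

/-- two different planes over `B` in a 2-local `X`: `X` normalises their product; there is no third plane in `X` -/
theorem of_local (hX : LX (S : Subgroup G)) (hty : TyA G) {X : Subgroup G} (hX2 : IsTwoLocal X)
    (h : IsDBlk (bau (S : Subgroup G)) L k) (h' : IsDBlk (bau (S : Subgroup G)) L' k') (hLX : L ≤ X) (hLX' : L' ≤ X)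
    (hne : vl (bau (S : Subgroup G)) L ≠ vl (bau (S : Subgroup G)) L') :
    X ≤ normalizer ((vl (bau (S : Subgroup G)) L ⊔ vl (bau (S : Subgroup G)) L' : Subgroup G) : Set G) ∧
      ∀ (L₁ : Subgroup G) (k₁ : ℕ), IsDBlk (bau (S : Subgroup G)) L₁ k₁ → L₁ ≤ X →
        vl (bau (S : Subgroup G)) L₁ = vl (bau (S : Subgroup G)) L ∨
        vl (bau (S : Subgroup G)) L₁ = vl (bau (S : Subgroup G)) L' := by
  obtain ⟨T, U, φ, e, hL, hb, h0⟩ := fiv_of_local hX hty hX2 h h' hLX hLX' hne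
  rw [← hb] at h h' hne ⊢
  have h1 := h0.only L k hLX h
  have h2 := h0.only L' k' hLX' h'
  have h3 := fiv_sup h0
  have key : (vl (bau T) L = closure {e 0 1, e 0 4} ∧ vl (bau T) L' = closure {e 2 3, e 2 4}) ∨
      (vl (bau T) L = closure {e 2 3, e 2 4} ∧ vl (bau T) L' = closure {e 0 1, e 0 4}) := by
    rcases h1 with h1 | h1 <;> rcases h2 with h2 | h2
    · exact absurd (h1.1.trans h2.1.symm) hne
    · exact Or.inl ⟨h1.1, h2.1⟩
    · exact Or.inr ⟨h1.1, h2.1⟩
    · exact absurd (h1.1.trans h2.1.symm) hne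
  constructor
  · have h4 : vl (bau T) L ⊔ vl (bau T) L' = U := by
      rcases key with h5 | h5
      · rw [h5.1, h5.2, h3]
      · rw [h5.1, h5.2, sup_comm, h3]
    rw [h4]
    exact h0.norm
  · intro L₁ k₁ h4 h5
    rcases h0.only L₁ k₁ h5 h4 with h6 | h6 <;> rcases key with h7 | h7
    · left; rw [h6.1, h7.1]
    · right; rw [h6.1, h7.2]
    · right; rw [h6.1, h7.2]
    · left; rw [h6.1, h7.1]

/-- the point of one plane is centralised by the blocks for the other -/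
theorem pt_mem_rl (hX : LX (S : Subgroup G)) (hc : AllComm (bau (S : Subgroup G))) (hty : TyA G)
    (h : IsDBlk (bau (S : Subgroup G)) L k) (h' : IsDBlk (bau (S : Subgroup G)) L' k')
    (hne : vl (bau (S : Subgroup G)) L ≠ vl (bau (S : Subgroup G)) L') {z : G}
    (hz : IsPt (bau (S : Subgroup G)) L' z) : z ∈ rl (bau (S : Subgroup G)) L := by
  obtain ⟨L₁, L₂, k₁, k₂, h1, h2, h3, h4, h5⟩ := linked hX hc hty h h'
  have h6 := hX.indep L₁ L₂ k₁ k₂ h1 h2 h5 (by rw [h3, h4]; exact hne) z ⟨by rw [h4]; exact hz.1, hz.2.1, hz.2.2⟩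
  rwa [CaseDiv.rl_eq_rl S h1 h h3] at h6

theorem le_centralizer_of_mem_rl {B : Subgroup G} {x : G} (hx : x ∈ rl B L) : L ≤ centralizer ({x} : Set G) :=
  fun _ hl => mem_centralizer_singleton_iff.2 (rl_comm hx hl)

/-- **5(B)** at most two planes over `B` -/
theorem three (hX : LX (S : Subgroup G)) (hc : AllComm (bau (S : Subgroup G))) (hty : TyA G) {L₁ L₂ L₃ : Subgroup G}
    {k₁ k₂ k₃ : ℕ} (h₁ : IsDBlk (bau (S : Subgroup G)) L₁ k₁) (h₂ : IsDBlk (bau (S : Subgroup G)) L₂ k₂)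
    (h₃ : IsDBlk (bau (S : Subgroup G)) L₃ k₃) :
    vl (bau (S : Subgroup G)) L₁ = vl (bau (S : Subgroup G)) L₂ ∨
      vl (bau (S : Subgroup G)) L₁ = vl (bau (S : Subgroup G)) L₃ ∨
      vl (bau (S : Subgroup G)) L₂ = vl (bau (S : Subgroup G)) L₃ := by
  set B := bau (S : Subgroup G) with hB
  by_contra hcon
  push Not at hcon
  obtain ⟨n12, n13, n23⟩ := hcon
  have key : ∀ {A C D : Subgroup G} {a c d : ℕ}, IsDBlk B A a → IsDBlk B C c → IsDBlk B D d → vl B A ≠ vl B C →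
      vl B A ≠ vl B D → vl B C ≠ vl B D → A ≤ normalizer ((vl B A ⊔ vl B C : Subgroup G) : Set G) ∧
        C ≤ normalizer ((vl B A ⊔ vl B C : Subgroup G) : Set G) := by
    intro A C D a c d hA hC hD h1 h2 h3
    obtain ⟨z, hz⟩ := exists_pt hD
    have h4 := pt_mem_rl hX hc hty hA hD h2 hz
    have h5 := pt_mem_rl hX hc hty hC hD h3 hz
    have h6 := le_centralizer_of_mem_rl h4
    have h7 := le_centralizer_of_mem_rl h5
    have h8 := (of_local hX hty (Geo.isTwoLocal_centralizer hz.mul_self hz.2.2) hA hC h6 h7 h1).1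
    exact ⟨h6.trans h8, h7.trans h8⟩
  obtain ⟨a1, a2⟩ := key h₁ h₂ h₃ n12 n13 n23
  obtain ⟨b1, b3⟩ := key h₁ h₃ h₂ n13 n12 n23.symm
  obtain ⟨c2, c3⟩ := key h₂ h₃ h₁ n23 n12.symm n13.symm
  set W := vl B L₁ ⊔ vl B L₂ ⊔ vl B L₃ with hW
  have ns : ∀ {P Q : Subgroup G} {g : G}, g ∈ normalizer (P : Set G) → g ∈ normalizer (Q : Set G) →
      g ∈ normalizer ((P ⊔ Q : Subgroup G) : Set G) := by
    intro P Q g hP hQ
    rw [ChoiceBase.mem_normalizer_iff_cj] at hP hQ ⊢
    rw [cj_sup, hP, hQ]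
  have e1 : W = vl B L₁ ⊔ vl B L₂ ⊔ (vl B L₁ ⊔ vl B L₃) := by
    rw [hW]
    apply le_antisymm
    · exact sup_le le_sup_left (le_sup_right.trans le_sup_right)
    · exact sup_le le_sup_left (sup_le (le_sup_left.trans le_sup_left) le_sup_right)
  have e2 : W = vl B L₁ ⊔ vl B L₂ ⊔ (vl B L₂ ⊔ vl B L₃) := by
    rw [hW]
    apply le_antisymm
    · exact sup_le le_sup_left (le_sup_right.trans le_sup_right)
    · exact sup_le le_sup_left (sup_le (le_sup_right.trans le_sup_left) le_sup_right)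
  have e3 : W = vl B L₁ ⊔ vl B L₃ ⊔ (vl B L₂ ⊔ vl B L₃) := by
    rw [hW]
    apply le_antisymm
    · exact sup_le (sup_le (le_sup_left.trans le_sup_left) (le_sup_left.trans le_sup_right))
        (le_sup_right.trans le_sup_left)
    · exact sup_le (sup_le (le_sup_left.trans le_sup_left) le_sup_right)
        (sup_le (le_sup_right.trans le_sup_left) le_sup_right)
  have m1 : L₁ ≤ normalizer (W : Set G) := fun g hg => by rw [e1]; exact ns (a1 hg) (b1 hg)
  have m2 : L₂ ≤ normalizer (W : Set G) := fun g hg => by rw [e2]; exact ns (a2 hg) (c2 hg)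
  have m3 : L₃ ≤ normalizer (W : Set G) := fun g hg => by rw [e3]; exact ns (b3 hg) (c3 hg)
  have hWB : W ≤ B := sup_le (sup_le (vl_le_B h₁) (vl_le_B h₂)) (vl_le_B h₃)
  have hW1 : W ≠ ⊥ := by
    intro h0
    obtain ⟨z, hz⟩ := exists_pt h₁
    have h1 : z ∈ W := mem_sup_left (mem_sup_left hz.1)
    rw [h0, mem_bot] at h1
    exact hz.2.2 h1
  have hX2 : IsTwoLocal (normalizer (W : Set G)) := ⟨W, h₁.two.to_le hWB, hW1, rfl⟩
  rcases (of_local hX hty hX2 h₁ h₂ m1 m2 n12).2 L₃ k₃ h₃ m3 with h4 | h4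
  · exact n13 h4.symm
  · exact n23 h4.symm

end Cfsg.Agent.OddCyclic.APB
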