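import Cfsg.Agent.OddCyclic.APQEnd

/-!
# S0342, case C2: a plane and an `SL₂(q)`-block, `q ≥ 4`, over the same Baumann subgroup do not coexist

(C) = section 5' of blueprints/S0342-C2-reduction-helper213.md.
-/

set_option autoImplicit false
set_option linter.unusedSectionVars false

namespace Cfsg.Agent.OddCyclic.APQ

open Subgroup Pointwise Cfsg Cfsg.Agent.ZN Cfsg.Agent.MinSimple
open Cfsg.Agent.OddCyclic.COneDefs Cfsg.Agent.OddCyclic.COneBlk Cfsg.Agent.OddCyclic.COnePair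
open Cfsg.Agent.OddCyclic.T1Defs
open Cfsg.Agent.LieExceptional.CITPlaneCount (cj mem_cj card_cj conj_mem_cj cj_mul cj_one cj_eq_self_of_mem_normalizer)
open Cfsg.Agent.MinSimple.DBlkApi (IsPt exists_pt)
open scoped commutatorElement

universe u

variable {G : Type u} [Group G] [Finite G]

omit [Finite G] in
theorem conj_cent {X : Subgroup G} {g c : G} (hg : g ∈ normalizer (X : Set G)) (hc : c ∈ centralizer (X : Set G)) :
    g * c * g⁻¹ ∈ centralizer (X : Set G) := by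
  rw [mem_centralizer_iff] at hc ⊢
  intro x hx
  have h1 : g⁻¹ * x * g ∈ X := by
    have := (mem_normalizer_iff.1 (inv_mem hg) x).1 hx
    rwa [inv_inv] at this
  have h2 := hc _ h1
  calc x * (g * c * g⁻¹) = g * ((g⁻¹ * x * g) * c) * g⁻¹ := by group
    _ = g * (c * (g⁻¹ * x * g)) * g⁻¹ := by rw [h2]
    _ = g * c * g⁻¹ * x := by group

/-! ### One `SL₂(q)`-block -/

section One

variable {B L : Subgroup G} {q : ℕ}

theorem card_zc_eq (h : LBlk B L q) : Nat.card (zc B) = Nat.card (rl B L) * q := by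
  have := T1Tools.card_mul_relIndex (COneBlk.rl_le_zc B L)
  rw [h.rl_index] at this
  exact this.symm

theorem card_zl_eq (h : LBlk B L q) : Nat.card (zl B L) = Nat.card (rl B L) * q * q := by
  have := T1Tools.card_mul_relIndex (zc_le_zl B L)
  rw [h.zl_index, card_zc_eq h] at this
  exact this.symm

/-- `Z ∩ Z^l = R` -/
theorem zc_inf {l : G} (hA : Ad B L l) : zc B ⊓ cj l (zc B) ≤ rl B L := by
  rintro x ⟨hx, hx'⟩
  have hx2 := mem_cj.1 hx'
  refine ⟨hx, ?_⟩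
  have h1 : L ≤ centralizer ({x} : Set G) := by
    refine hA _ ?_ ?_
    · intro b hb
      exact mem_centralizer_singleton_iff.2 (COneBlk.zc_comm hb hx)
    · intro b hb
      rw [mem_centralizer_singleton_iff]
      have h2 := COneBlk.zc_comm hb hx2
      calc l * b * l⁻¹ * x = l * (b * (l⁻¹ * x * l)) * l⁻¹ := by group
        _ = l * ((l⁻¹ * x * l) * b) * l⁻¹ := by rw [h2]
        _ = x * (l * b * l⁻¹) := by group
  exact mem_centralizer_iff.2 fun g hg => (mem_centralizer_singleton_iff.1 (h1 hg))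

theorem cj_zl {l : G} (hl : l ∈ L) : cj l (zl B L) = zl B L :=
  cj_eq_self_of_mem_normalizer (FinalBridge.le_normalizer_zl B L hl)

theorem comm_normal (h : LBlk B L q) {X Y : Subgroup G} (hX : X ≤ zl B L) (hY : Y ≤ zl B L) :
    Y ≤ normalizer (X : Set G) := by
  intro y hy
  refine Subgroup.mem_normalizer_fintype (fun x hx => ?_)
  have hx' : x ∈ X := hx
  rw [h.zl_comm y (hY hy) x (hX hx'), mul_inv_cancel_right]
  exact hx

theorem cj_le {l : G} (hl : l ∈ L) {X : Subgroup G} (hX : X ≤ zl B L) : cj l X ≤ zl B L := by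
  rw [← cj_zl hl]
  exact Subgroup.map_mono hX

/-- `V = Z Z^l` -/
theorem zl_eq_sup (h : LBlk B L q) {l : G} (hl : l ∈ L) (hA : Ad B L l) : zl B L = zc B ⊔ cj l (zc B) := by
  have h1 := T1Tools.card_sup_mul (K := zc B) (H := cj l (zc B))
    (comm_normal h (zc_le_zl B L) (cj_le hl (zc_le_zl B L)))
  have h2 : Nat.card (zc B ⊓ cj l (zc B) : Subgroup G) ≤ Nat.card (rl B L) :=
    Subgroup.card_le_of_le (zc_inf hA)
  rw [card_cj, card_zc_eq h] at h1
  refine (Subgroup.eq_of_le_of_card_ge (sup_le (zc_le_zl B L) (cj_le hl (zc_le_zl B L))) ?_).symm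
  rw [card_zl_eq h]
  have h3 : 0 < Nat.card (rl B L) := Nat.card_pos
  have h4 : Nat.card (rl B L) * q * q * Nat.card (rl B L) ≤
      Nat.card (zc B ⊔ cj l (zc B) : Subgroup G) * Nat.card (rl B L) := by
    calc Nat.card (rl B L) * q * q * Nat.card (rl B L) = Nat.card (rl B L) * q * (Nat.card (rl B L) * q) := by ring
      _ = _ := h1.symm
      _ ≤ _ := Nat.mul_le_mul_left _ h2
  exact Nat.le_of_mul_le_mul_right h4 h3

theorem le_St (h : LBlk B L q) {l : G} (hl : l ∈ L) (hA : Ad B L l) {D : Subgroup G} (hD : D ≤ zl B L)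
    (h1 : ∀ b ∈ B, ∀ v ∈ zl B L, b * v * b⁻¹ * v⁻¹ ∈ D)
    (h2 : ∀ b ∈ B, ∀ v ∈ zl B L, l * (b * v * b⁻¹ * v⁻¹) * l⁻¹ ∈ D) : L ≤ St (zl B L) D := by
  have hVn : ∀ g ∈ L, g ∈ normalizer (zl B L : Set G) := fun g hg => FinalBridge.le_normalizer_zl B L hg
  have key : ∀ g ∈ L, (∀ v ∈ zl B L, g * v * g⁻¹ * v⁻¹ ∈ D) → g ∈ St (zl B L) D := by
    intro g hg hv
    refine ⟨hVn g hg, Subgroup.mem_normalizer_fintype (fun x hx => ?_), hv⟩
    have e : g * x * g⁻¹ = (g * x * g⁻¹ * x⁻¹) * x := by group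
    rw [e]; exact D.mul_mem (hv x (hD hx)) hx
  refine hA _ (fun b hb => key b (h.le hb) (h1 b hb)) (fun b hb => key _ ?_ (fun v hv => ?_))
  · exact L.mul_mem (L.mul_mem hl (h.le hb)) (L.inv_mem hl)
  · have h3 : l⁻¹ * v * l ∈ zl B L := by
      have := zl_conj (L.inv_mem hl) hv
      rwa [inv_inv] at this
    have h4 := h2 b hb _ h3
    have e : l * b * l⁻¹ * v * (l * b * l⁻¹)⁻¹ * v⁻¹ =
        l * (b * (l⁻¹ * v * l) * b⁻¹ * (l⁻¹ * v * l)⁻¹) * l⁻¹ := by group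
    rw [e]; exact h4

/-- If `[V, B] ≤ D`, `|D| ≤ q`, `Z = D R`, then `V` splits over `R`. -/
theorem split (h : LBlk B L q) {D : Subgroup G} (hD : D ≤ zc B) (hc : Nat.card D ≤ q)
    (h1 : ∀ b ∈ B, ∀ v ∈ zl B L, b * v * b⁻¹ * v⁻¹ ∈ D) (hZ : zc B ≤ D ⊔ rl B L) :
    ∃ N : Subgroup G, N ≤ zl B L ∧ L ≤ St (zl B L) N ∧ N ⊓ rl B L = ⊥ := by
  obtain ⟨l, hl, hlb⟩ := not_normal h
  have hA := (ad_iff h hl).2 hlb
  have hDV : D ≤ zl B L := hD.trans (zc_le_zl B L)
  set N : Subgroup G := D ⊔ cj l D with hN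
  have hNV : N ≤ zl B L := sup_le hDV (cj_le hl hDV)
  refine ⟨N, hNV, ?_, ?_⟩
  · refine le_St h hl hA hNV (fun b hb v hv => mem_sup_left (h1 b hb v hv)) (fun b hb v hv => mem_sup_right ?_)
    exact conj_mem_cj (h1 b hb v hv)
  · have hcN : Nat.card N ≤ q * q := by
      have h2 := T1Tools.card_sup_mul (K := D) (H := cj l D) (comm_normal h hDV (cj_le hl hDV))
      rw [card_cj] at h2
      calc Nat.card N ≤ Nat.card N * Nat.card (D ⊓ cj l D : Subgroup G) :=
            Nat.le_mul_of_pos_right _ Nat.card_pos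
        _ = Nat.card D * Nat.card D := h2
        _ ≤ q * q := Nat.mul_le_mul hc hc
    have hRl : cj l (rl B L) = rl B L := cj_eq_self_of_mem_normalizer (rl_le_normalizer L hl)
    have hsup : zl B L ≤ N ⊔ rl B L := by
      rw [zl_eq_sup h hl hA]
      refine sup_le (hZ.trans (sup_le_sup_right le_sup_left _)) ?_
      have h2 : cj l (zc B) ≤ cj l (D ⊔ rl B L) := Subgroup.map_mono hZ
      refine h2.trans ?_
      have h3 : cj l (D ⊔ rl B L) = cj l D ⊔ cj l (rl B L) := Subgroup.map_sup _ _ _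
      rw [h3, hRl]
      exact sup_le_sup_right le_sup_right _
    have h3 := T1Tools.card_sup_mul (K := N) (H := rl B L) (comm_normal h hNV (COneBlk.rl_le_zl B L))
    have h4 : Nat.card (zl B L) ≤ Nat.card (N ⊔ rl B L : Subgroup G) := Subgroup.card_le_of_le hsup
    rw [card_zl_eq h] at h4
    have h5 : 0 < Nat.card (rl B L) := Nat.card_pos
    have h6 : 0 < q := by have := h.four; omega
    have h7 : Nat.card (rl B L) * q * q * Nat.card (N ⊓ rl B L : Subgroup G) ≤ Nat.card (rl B L) * q * q * 1 := by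
      calc _ ≤ Nat.card (N ⊔ rl B L : Subgroup G) * Nat.card (N ⊓ rl B L : Subgroup G) :=
            Nat.mul_le_mul_right _ h4
        _ = Nat.card N * Nat.card (rl B L) := h3
        _ ≤ q * q * Nat.card (rl B L) := Nat.mul_le_mul_right _ hcN
        _ = Nat.card (rl B L) * q * q * 1 := by ring
    have h8 := Nat.le_of_mul_le_mul_left h7 (by positivity)
    have h9 : 0 < Nat.card (N ⊓ rl B L : Subgroup G) := Nat.card_pos
    exact Subgroup.eq_bot_of_card_eq _ (by omega)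

end One

/-! ### Transvections -/

/-- Let every 2-subgroup over `B` normalise `B`.  If the elements of `B` stabilising the chain `1 < U < W`
centralise `W`, then `B` commutes on `W` with all elements stabilising this chain. -/
theorem com_act {B W U : Subgroup G} (hB2 : IsPGroup 2 B)
    (hT : ∀ T : Subgroup G, IsPGroup 2 T → B ≤ T → T ≤ normalizer (B : Set G))
    (hU2 : ∀ x ∈ U, x * x = 1) (hBW : B ≤ normalizer (W : Set G))
    (hBU : B ≤ normalizer (U : Set G))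
    (hcB : ∀ c ∈ B, c ∈ St W U → (∀ u ∈ U, c * u = u * c) → ∀ w ∈ W, c * w = w * c)
    {d : G} (hd : d ∈ St W U) (hdU : ∀ u ∈ U, d * u = u * d) {b : G} (hb : b ∈ B) {w : G} (hw : w ∈ W) :
    (d * b * d⁻¹ * b⁻¹) * w = w * (d * b * d⁻¹ * b⁻¹) := by
  have _ : Fact (Nat.Prime 2) := ⟨Nat.prime_two⟩
  set D : Subgroup G := St W U ⊓ centralizer (U : Set G) with hD
  have hdD : d ∈ D := ⟨hd, mem_centralizer_iff.2 fun u hu => (hdU u hu).symm⟩
  have hBD : B ≤ normalizer (D : Set G) := by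
    intro x hx
    refine Subgroup.mem_normalizer_fintype ?_
    rintro g ⟨h1, h2⟩
    refine ⟨(mem_normalizer_iff.1 (norm_St (hBW hx) (hBU hx)) g).1 h1, ?_⟩
    exact conj_cent (hBU hx) h2
  set X : Subgroup G := D ⊔ B with hX
  have hXD : X ≤ normalizer (D : Set G) := sup_le le_normalizer hBD
  set C : Subgroup G := D ⊓ centralizer (W : Set G) with hC
  have hDW : D ≤ normalizer (W : Set G) := fun g hg => hg.1.1
  have hXC : X ≤ normalizer (C : Set G) := by
    have h1 : X ≤ normalizer (W : Set G) := sup_le hDW hBW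
    intro g hg
    refine Subgroup.mem_normalizer_fintype ?_
    rintro c ⟨h2, h3⟩
    refine ⟨(mem_normalizer_iff.1 (hXD hg) c).1 h2, ?_⟩
    exact conj_cent (h1 hg) h3
  -- squares of `D` are in `C`
  have hsq : ∀ g ∈ D, g ^ 2 ∈ C := by
    intro g hg
    refine ⟨D.pow_mem hg 2, mem_centralizer_iff.2 fun w hw => ?_⟩
    have h1 : g * w * g⁻¹ * w⁻¹ ∈ U := hg.1.2.2 w hw
    set a := g * w * g⁻¹ * w⁻¹ with ha
    have h2 : a * g = g * a := mem_centralizer_iff.1 hg.2 a h1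
    have h3 : g * w = a * w * g := by rw [ha]; group
    calc w * g ^ 2 = (a * a) * w * g ^ 2 := by rw [hU2 a h1, one_mul]
      _ = a * (a * w * g) * g := by rw [pow_two]; group
      _ = a * (g * w) * g := by rw [h3]
      _ = (a * g) * w * g := by group
      _ = (g * a) * w * g := by rw [h2]
      _ = g * (a * w * g) := by group
      _ = g * (g * w) := by rw [h3]
      _ = g ^ 2 * w := by rw [pow_two]; group
  have h1 : IsPGroup 2 (B.subgroupOf X) := hB2.comap_of_injective _ X.subtype_injective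
  obtain ⟨T, hBT⟩ := h1.exists_le_sylow
  have hnD : (D.subgroupOf X).Normal := normal_subgroupOf_of_le_normalizer hXD
  have hnC : (C.subgroupOf X).Normal := normal_subgroupOf_of_le_normalizer hXC
  have h2 := Lib.SylowNormalInf.le_sup_inf T (D.subgroupOf X) (C.subgroupOf X)
    (fun x hx => ⟨1, by
      rw [pow_one]
      exact hsq x hx⟩)
  have h3 : (⟨d, le_sup_left (a := D) hdD⟩ : X) ∈ C.subgroupOf X ⊔ ((T : Subgroup X) ⊓ D.subgroupOf X) := h2 hdD
  rw [mem_sup_of_normal_left] at h3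
  obtain ⟨c, hc, t, ht, hct⟩ := h3
  have hct' : (c : G) * (t : G) = d := congrArg Subtype.val hct
  have htD : (t : G) ∈ D := ht.2
  have hcC : (c : G) ∈ C := hc
  -- `T` normalises `B`
  have hTB : (T : Subgroup X).map X.subtype ≤ normalizer (B : Set G) := by
    refine hT _ (T.isPGroup'.map _) (fun x hx => ?_)
    exact ⟨⟨x, le_sup_right (a := D) hx⟩, hBT (show (⟨x, le_sup_right (a := D) hx⟩ : X) ∈ B.subgroupOf X from hx), rfl⟩
  have htB : (t : G) ∈ normalizer (B : Set G) := hTB ⟨t, ht.1, rfl⟩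
  set s : G := t * b * (t : G)⁻¹ * b⁻¹ with hs
  have hsB : s ∈ B := B.mul_mem ((mem_normalizer_iff.1 htB b).1 hb) (B.inv_mem hb)
  have hsD : s ∈ D := by
    have h4 : b * (t : G)⁻¹ * b⁻¹ ∈ D := (mem_normalizer_iff.1 (hBD hb) _).1 (D.inv_mem htD)
    have e : s = t * (b * (t : G)⁻¹ * b⁻¹) := by rw [hs]; group
    rw [e]; exact D.mul_mem htD h4
  have hsw : ∀ w ∈ W, s * w = w * s := hcB s hsB hsD.1 (fun u hu => (mem_centralizer_iff.1 hsD.2 u hu).symm)
  have hsC : s ∈ C := ⟨hsD, mem_centralizer_iff.2 fun w hw => (hsw w hw).symm⟩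
  have hfin : d * b * d⁻¹ * b⁻¹ ∈ C := by
    have e : d * b * d⁻¹ * b⁻¹ = c * s * (b * (c : G)⁻¹ * b⁻¹) := by
      rw [← hct', hs]; group
    rw [e]
    exact C.mul_mem (C.mul_mem hcC hsC)
      ((mem_normalizer_iff.1 (hXC (mem_sup_right hb)) _).1 (C.inv_mem hcC))
  exact (mem_centralizer_iff.1 hfin.2 w hw).symm

/-! ### The mixed configuration -/

/-- an `SL₂(q)`-block `L` and a dihedral block `L'` with plane `vl B L'` and point `z`, commuting; `k ≠ 1` is an element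
of odd order of `L` normalising `B` and the plane -/
structure Mix (B L L' : Subgroup G) (q m : ℕ) (z k : G) : Prop where
  b : LBlk B L q
  b' : IsDBlk B L' m
  comm : ∀ x ∈ zl B L, ∀ y ∈ zl B L', x * y = y * x
  core : ∀ N : Subgroup G, N ≤ B → L ≤ normalizer (N : Set G) → L' ≤ normalizer (N : Set G) → N = ⊥
  hQ : B ≤ o2 L ⊔ o2 L'
  pt : IsPt B L' z
  kL : k ∈ L
  k1 : k ≠ 1
  ko : Odd (orderOf k)
  kB : k ∈ normalizer (B : Set G)
  kP : k ∈ normalizer (vl B L' : Set G)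

namespace Mix

variable {B L L' : Subgroup G} {q m : ℕ} {z k : G} (h : Mix B L L' q m z k)

include h

theorem kz : k * z * k⁻¹ = z := by
  have h1 : k * z * k⁻¹ ∈ vl B L' := (mem_normalizer_iff.1 h.kP z).1 h.pt.1
  have h2 : k * z * k⁻¹ ∈ zc B :=
    (mem_normalizer_iff.1 (VModule.normalizer_le_normalizer_zc B h.kB) z).1 h.pt.2.1
  rcases DBlkApi.eq_of_mem h.b' h.pt h1 h2 with h3 | h3
  · exact absurd (conj_eq_one_iff.1 h3) h.pt.2.2
  · exact h3

theorem kc {u : G} (hu : u ∈ vl B L') : k * u * k⁻¹ = u := by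
  by_cases hu1 : u = 1
  · rw [hu1]; group
  by_cases huz : u = z
  · rw [huz]; exact h.kz
  rcases Four.fix_dichotomy h.b'.card_vl (DBlkApi.vl_sq h.b') h.pt.1 hu h.pt.2.2 hu1 (Ne.symm huz) h.kP h.kz with h1 | h1
  · exact h1
  · exfalso
    refine h.pt.2.2 (eq_one_of_odd h.ko h1 ?_ h.pt.mul_self)
    have := h.kz
    calc k * z = (k * z * k⁻¹) * k := by group
      _ = z * k := by rw [this]

theorem z_mem : z ∈ rl B L := by
  refine fpf_odd h.b h.kL h.ko h.k1 (zc_le_zl B L h.pt.2.1) ?_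
  rw [h.kz, mul_inv_cancel]; exact one_mem _

theorem R_inf {x : G} (h1 : x ∈ rl B L) (h2 : x ∈ rl B L') : x = 1 := by
  have h3 := h.core (rl B L ⊓ rl B L')
    (inf_le_left.trans ((COneBlk.rl_le_zl B L).trans (COnePair.zl_le h.b))) ?_ ?_
  · have h4 : x ∈ rl B L ⊓ rl B L' := ⟨h1, h2⟩
    rw [h3] at h4
    exact mem_bot.1 h4
  · intro g hg
    refine Subgroup.mem_normalizer_fintype (fun r hr => ?_)
    rw [COneBlk.rl_comm hr.1 hg, mul_inv_cancel_right]
    exact hr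
  · intro g hg
    refine Subgroup.mem_normalizer_fintype (fun r hr => ?_)
    rw [COneBlk.rl_comm hr.2 hg, mul_inv_cancel_right]
    exact hr

theorem rl_eq {r : G} (hr : r ∈ rl B L) : r = 1 ∨ r = z := by
  rcases DBlkApi.mem_zc_cases h.b' h.pt (COneBlk.rl_le_zc B L hr) with h1 | h1
  · left; exact h.R_inf hr h1
  · right
    have h2 := h.R_inf ((rl B L).mul_mem h.z_mem hr) h1
    have h3 := h.pt.mul_self
    calc r = z * (z * r) := by rw [← mul_assoc, h3, one_mul]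
      _ = z := by rw [h2, mul_one]

theorem card_R : Nat.card (rl B L) = 2 := by
  have h1 : rl B L = zpowers z := by
    apply le_antisymm
    · intro r hr
      exact (DBlkApi.zpowers_eq h.pt.sq).2 (h.rl_eq hr)
    · rw [zpowers_le]; exact h.z_mem
  rw [h1]; exact DBlkApi.card_zpowers h.pt.sq h.pt.2.2

theorem card_Z : Nat.card (zc B) = 2 * q := by rw [card_zc_eq h.b, h.card_R]

theorem card_V : Nat.card (zl B L) = 2 * q * q := by rw [card_zl_eq h.b, h.card_R]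

theorem card_R' : Nat.card (rl B L') = q := by
  have h1 := T1Tools.card_mul_relIndex (COneBlk.rl_le_zc B L')
  rw [h.b'.rl_index, h.card_Z] at h1
  omega

theorem mem_Z {x : G} (h1 : x ∈ zl B L) (h2 : x ∈ zl B L') : x ∈ zc B := by
  have h3 : ∀ b ∈ B, b * x = x * b := by
    intro b hb
    have h4 : B ≤ centralizer ({x} : Set G) := by
      refine h.hQ.trans (sup_le ?_ ?_)
      · intro y hy
        exact mem_centralizer_singleton_iff.2 (o2_comm h.b hy h1)
      · intro y hy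
        exact mem_centralizer_singleton_iff.2 ((mem_centralizer_iff.1 (DBlkApi.o2_cent_zl h.b' hy) x h2).symm)
    exact mem_centralizer_singleton_iff.1 (h4 hb)
  obtain ⟨b, hb, hbQ⟩ := exists_not_mem h.b
  exact h.b.cent b hb hbQ x h1 (h3 b hb)

theorem eq_of_mem {x : G} (h1 : x ∈ zl B L) (h2 : x ∈ vl B L') : x = 1 ∨ x = z :=
  DBlkApi.eq_of_mem h.b' h.pt h2 (h.mem_Z h1 (ZN.vl_le_zl B L' h2))

theorem sup_eq : zl B L ⊔ zl B L' = zl B L ⊔ vl B L' := by
  apply le_antisymm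
  · refine sup_le le_sup_left ?_
    rw [← h.b'.sup_eq]
    exact sup_le_sup_right ((COneBlk.rl_le_zc B L').trans (zc_le_zl B L)) _
  · exact sup_le_sup_left (ZN.vl_le_zl B L') _

theorem exists_mul {x : G} (hx : x ∈ zl B L ⊔ zl B L') : ∃ v ∈ zl B L, ∃ u ∈ vl B L', x = v * u := by
  rw [h.sup_eq] at hx
  exact (BlkFam.mem_sup_of_comm (R := zl B L) (V := vl B L')
    (fun r hr v hv => h.comm r hr v (ZN.vl_le_zl B L' hv))).mp hx

theorem W_comm {x y : G} (hx : x ∈ zl B L ⊔ zl B L') (hy : y ∈ zl B L ⊔ zl B L') : x * y = y * x := by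
  obtain ⟨v, hv, w, hw, rfl⟩ := h.exists_mul hx
  obtain ⟨v', hv', w', hw', rfl⟩ := h.exists_mul hy
  have hw2 := ZN.vl_le_zl B L' hw
  have hw2' := ZN.vl_le_zl B L' hw'
  have c1 : Commute v v' := h.b.zl_comm v hv v' hv'
  have c2 : Commute v w' := h.comm v hv w' hw2'
  have c3 : Commute w v' := (h.comm v' hv' w hw2).symm
  have c4 : Commute w w' := h.b'.zl_comm w hw2 w' hw2'
  exact ((c1.mul_right c2).mul_left (c3.mul_right c4)).eq

theorem W_sq {x : G} (hx : x ∈ zl B L ⊔ zl B L') : x * x = 1 := by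
  obtain ⟨v, hv, w, hw, rfl⟩ := h.exists_mul hx
  have hw2 := ZN.vl_le_zl B L' hw
  have h1 := h.comm v hv w hw2
  calc v * w * (v * w) = v * (w * v) * w := by group
    _ = v * (v * w) * w := by rw [h1]
    _ = (v * v) * (w * w) := by group
    _ = 1 := by rw [h.b.zl_sq v hv, ← pow_two, h.b'.zl_sq w hw2, one_mul]

/-- `C_W(k) = V_p` -/
theorem fix {w : G} (hw : w ∈ zl B L ⊔ zl B L') (hk : k * w * k⁻¹ = w) : w ∈ vl B L' := by
  obtain ⟨v, hv, u, hu, rfl⟩ := h.exists_mul hw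
  have h1 := h.kc hu
  have h2 : k * v * k⁻¹ = v := by
    have e : k * (v * u) * k⁻¹ = (k * v * k⁻¹) * (k * u * k⁻¹) := by group
    rw [e, h1] at hk
    exact mul_right_cancel hk
  have h3 : v ∈ rl B L := by
    refine fpf_odd h.b h.kL h.ko h.k1 hv ?_
    rw [h2, mul_inv_cancel]; exact one_mem _
  rcases h.rl_eq h3 with rfl | rfl
  · rw [one_mul]; exact hu
  · exact (vl B L').mul_mem h.pt.1 hu

/-- alternative 1: `L` normalises `W`, `[V', B] ≤ R` -/
theorem case_one (hR : ∀ x ∈ zl B L', ∀ b ∈ B, x * b * x⁻¹ * b⁻¹ ∈ rl B L)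
    (hN : L ≤ normalizer ((zl B L ⊔ zl B L' : Subgroup G) : Set G)) : False := by
  obtain ⟨l, hl, hlb⟩ := not_normal h.b
  have hA := (ad_iff h.b hl).2 hlb
  set V' := zl B L' with hV'
  set N : Subgroup G := V' ⊓ cj l V' with hNd
  have hRN : rl B L ≤ N := by
    intro r hr
    refine ⟨zc_le_zl B L' (COneBlk.rl_le_zc B L hr), mem_cj.2 ?_⟩
    have h1 := COneBlk.rl_comm hr (L.inv_mem hl)
    have e : l⁻¹ * r * l = r := by rw [h1]; group
    rw [e]
    exact zc_le_zl B L' (COneBlk.rl_le_zc B L hr)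
  have hSt : L ≤ St N (rl B L) := by
    have hRn : ∀ g ∈ L, g ∈ normalizer (rl B L : Set G) := fun g hg => rl_le_normalizer L hg
    refine hA _ ?_ ?_
    · intro b hb
      refine mem_St_of hRN (hRn b (h.b.le hb)) (fun x hx => ?_)
      have h1 := hR x hx.1 b hb
      have e : b * x * b⁻¹ * x⁻¹ = (x * b * x⁻¹ * b⁻¹)⁻¹ := by group
      rw [e]; exact (rl B L).inv_mem h1
    · intro b hb
      have hlb : l * b * l⁻¹ ∈ L := L.mul_mem (L.mul_mem hl (h.b.le hb)) (L.inv_mem hl)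
      refine mem_St_of hRN (hRn _ hlb) (fun x hx => ?_)
      have hx2 := mem_cj.1 hx.2
      have h1 := hR _ hx2 b hb
      have e : l * b * l⁻¹ * x * (l * b * l⁻¹)⁻¹ * x⁻¹ =
          l * ((l⁻¹ * x * l) * b * (l⁻¹ * x * l)⁻¹ * b⁻¹)⁻¹ * l⁻¹ := by group
      rw [e]
      have h2 := (rl B L).inv_mem h1
      rw [COneBlk.rl_comm h2 hl, mul_inv_cancel_right]
      exact h2
  have hW : V' ≤ zl B L ⊔ V' := le_sup_right
  have hWl : cj l V' ≤ zl B L ⊔ V' := by
    intro x hx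
    have hx2 := mem_cj.1 hx
    have h1 := (mem_normalizer_iff.1 (hN hl) _).1 (hW hx2)
    have e : l * (l⁻¹ * x * l) * l⁻¹ = x := by group
    rwa [e] at h1
  have hNP : N ≤ vl B L' := by
    intro x hx
    refine h.fix (hW hx.1) ?_
    have h2 := (hSt h.kL).2.2 x hx
    have h3 : k * x * k⁻¹ * x⁻¹ = 1 := by
      refine eq_one_of_odd (g := k) (x := x) h.ko (by group) (COneBlk.rl_comm h2 h.kL) ?_
      exact h.b.zl_sq _ (COneBlk.rl_le_zl B L h2)
    exact mul_inv_eq_one.1 h3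
  -- cards
  have hq : 4 ≤ q := h.b.four
  have c1 : Nat.card V' = 4 * q := by
    have h1 := T1Tools.card_sup_mul (K := rl B L') (H := vl B L') (by
      intro y hy
      refine Subgroup.mem_normalizer_fintype (fun x hx => ?_)
      have hx' : x ∈ rl B L' := hx
      rw [h.b'.zl_comm y (ZN.vl_le_zl B L' hy) x (COneBlk.rl_le_zl B L' hx'), mul_inv_cancel_right]
      exact hx)
    rw [h.b'.sup_eq, h.b'.disj, card_bot, mul_one, h.card_R', h.b'.card_vl] at h1
    rw [h1]; ring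
  have c2 : Nat.card (zl B L ⊔ V' : Subgroup G) * (2 * q) = 2 * q * q * (4 * q) := by
    have h1 := T1Tools.card_sup_mul (K := zl B L) (H := V') (by
      intro y hy
      refine Subgroup.mem_normalizer_fintype (fun x hx => ?_)
      rw [← h.comm x hx y hy, mul_inv_cancel_right]; exact hx)
    have h2 : zl B L ⊓ V' = zc B :=
      le_antisymm (fun x hx => h.mem_Z hx.1 hx.2) (le_inf (zc_le_zl B L) (zc_le_zl B L'))
    rw [h2, h.card_Z, h.card_V, c1] at h1
    exact h1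
  have c2' : Nat.card (zl B L ⊔ V' : Subgroup G) = 4 * q * q := by
    have h2 : Nat.card (zl B L ⊔ V' : Subgroup G) * (2 * q) = 4 * q * q * (2 * q) := by rw [c2]; ring
    exact Nat.eq_of_mul_eq_mul_right (by omega) h2
  have c3 := T1Tools.card_sup_mul (K := V') (H := cj l V') (by
    intro y hy
    refine Subgroup.mem_normalizer_fintype (fun x hx => ?_)
    rw [h.W_comm (hWl hy) (hW hx), mul_inv_cancel_right]; exact hx)
  rw [card_cj, c1] at c3
  have c4 : Nat.card (V' ⊔ cj l V' : Subgroup G) ≤ 4 * q * q := by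
    rw [← c2']
    exact Subgroup.card_le_of_le (sup_le hW hWl)
  have c5 : 4 ≤ Nat.card N := by
    by_contra hcon
    push Not at hcon
    have h1 : Nat.card (V' ⊔ cj l V' : Subgroup G) * Nat.card N < 4 * q * q * 4 :=
      calc _ ≤ 4 * q * q * Nat.card N := Nat.mul_le_mul_right _ c4
        _ < _ := Nat.mul_lt_mul_of_pos_left hcon (by positivity)
    have h2 : 4 * q * (4 * q) = 4 * q * q * 4 := by ring
    rw [← h2, ← c3] at h1
    exact absurd h1 (lt_irrefl _)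
  have hEq : N = vl B L' := Subgroup.eq_of_le_of_card_ge hNP (by rw [h.b'.card_vl]; exact c5)
  have hbot := h.core (vl B L') (DBlkApi.vl_le_B h.b')
    (by rw [← hEq]; exact fun g hg => (hSt hg).1) (ZN.le_normalizer_vl B L')
  have := h.pt.1
  rw [hbot, mem_bot] at this
  exact h.pt.2.2 this

/-- `R' = [V, B]` in alternative 2 -/
theorem rl_eq_comm (hR : ∀ x ∈ zl B L, ∀ b ∈ B, x * b * x⁻¹ * b⁻¹ ∈ rl B L') : rl B L' = ⁅zl B L, B⁆ := by
  have hle : ⁅zl B L, B⁆ ≤ rl B L' := by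
    rw [Subgroup.commutator_le]
    intro x hx b hb
    rw [commutatorElement_def]
    exact hR x hx b hb
  refine le_antisymm (fun r hr => ?_) hle
  have h1 := zc_le_sup h.b (COneBlk.rl_le_zc B L' hr)
  have hn : rl B L ≤ normalizer ((⁅zl B L, B⁆ : Subgroup G) : Set G) := by
    intro y hy
    refine Subgroup.mem_normalizer_fintype (fun x hx => ?_)
    have hx' := hle hx
    rw [h.comm y (COneBlk.rl_le_zl B L hy) x (COneBlk.rl_le_zl B L' hx'), mul_inv_cancel_right]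
    exact hx
  rw [sup_comm, ← SetLike.mem_coe, Subgroup.coe_mul_of_left_le_normalizer_right _ _ hn] at h1
  obtain ⟨s, hs, c, hc, hsc⟩ := h1
  have hsc' : s * c = r := hsc
  have h2 : s ∈ rl B L' := by
    have e : s = r * c⁻¹ := by rw [← hsc']; group
    rw [e]; exact mul_mem hr (inv_mem (hle hc))
  have h3 := h.R_inf hs h2
  rw [← hsc', h3, one_mul]
  exact hc

/-- alternative 2: `L'` normalises `W`, `[V, B] ≤ R'` -/
theorem case_two (hT : ∀ T : Subgroup G, IsPGroup 2 T → B ≤ T → T ≤ normalizer (B : Set G))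
    (hR : ∀ x ∈ zl B L, ∀ b ∈ B, x * b * x⁻¹ * b⁻¹ ∈ rl B L')
    (hN : L' ≤ normalizer ((zl B L ⊔ zl B L' : Subgroup G) : Set G)) : False := by
  have hWc : ∀ {x y : G}, x ∈ zl B L ⊔ zl B L' → y ∈ zl B L ⊔ zl B L' → x * y = y * x := fun hx hy => h.W_comm hx hy
  have hVW : zl B L ≤ zl B L ⊔ zl B L' := le_sup_left
  have hV'W : zl B L' ≤ zl B L ⊔ zl B L' := le_sup_right
  have hPV' : vl B L' ≤ zl B L' := ZN.vl_le_zl B L'
  have hPW : vl B L' ≤ zl B L ⊔ zl B L' := hPV'.trans hV'W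
  have hRV' : rl B L' ≤ zl B L' := COneBlk.rl_le_zl B L'
  obtain ⟨y, hyL, hy0, -, hydec, hyfix, -⟩ := h.b'.dih
  have hyo : Odd (orderOf y) :=
    Odd.of_dvd_nat (Odd.pow (by decide)) (orderOf_dvd_of_pow_eq_one hy0)
  have hyz : y * z * y⁻¹ ≠ z := fun h1 => h.pt.2.2 (hyfix z h.pt.1 h1)
  have hA := dad_of_moves h.b' h.pt hyL hyz
  have hV'n : ∀ g ∈ L', g ∈ normalizer (zl B L' : Set G) := fun g hg => FinalBridge.le_normalizer_zl B L' hg
  have hPn : ∀ g ∈ L', g ∈ normalizer (vl B L' : Set G) := fun g hg => ZN.le_normalizer_vl B L' hg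
  have hBL' := h.b'.le
  -- `[b, w]` for `b ∈ B`
  have hbw : ∀ b ∈ B, ∀ v ∈ zl B L, ∀ u ∈ vl B L', ∃ r ∈ rl B L', ∃ p ∈ vl B L',
      b * (v * u) * b⁻¹ * (v * u)⁻¹ = r * p := by
    intro b hb v hv u hu
    have hp : b * u * b⁻¹ * u⁻¹ ∈ vl B L' :=
      (vl B L').mul_mem ((mem_normalizer_iff.1 (hPn b (hBL' hb)) u).1 hu) ((vl B L').inv_mem hu)
    refine ⟨b * v * b⁻¹ * v⁻¹, ?_, b * u * b⁻¹ * u⁻¹, hp, ?_⟩
    · have e : b * v * b⁻¹ * v⁻¹ = (v * b * v⁻¹ * b⁻¹)⁻¹ := by group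
      rw [e]; exact (rl B L').inv_mem (hR v hv b hb)
    · have h1 := h.comm v hv _ (hPV' hp)
      calc b * (v * u) * b⁻¹ * (v * u)⁻¹ = (b * v * b⁻¹ * v⁻¹) * (v * (b * u * b⁻¹ * u⁻¹)) * v⁻¹ := by group
        _ = (b * v * b⁻¹ * v⁻¹) * ((b * u * b⁻¹ * u⁻¹) * v) * v⁻¹ := by rw [h1]
        _ = (b * v * b⁻¹ * v⁻¹) * (b * u * b⁻¹ * u⁻¹) := by group
  -- `L'` is trivial on `W / V'`
  have hStV : L' ≤ St (zl B L ⊔ zl B L') (zl B L') := by
    have hB : B ≤ St (zl B L ⊔ zl B L') (zl B L') := by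
      intro b hb
      refine ⟨hN (hBL' hb), hV'n b (hBL' hb), fun w hw => ?_⟩
      obtain ⟨v, hv, u, hu, rfl⟩ := h.exists_mul hw
      obtain ⟨r, hr, p, hp, e⟩ := hbw b hb v hv u hu
      rw [e]
      exact (zl B L').mul_mem (hRV' hr) (hPV' hp)
    refine hA _ hB ?_
    intro b hb
    exact (mem_normalizer_iff.1 (norm_St (hN hyL) (hV'n y hyL)) b).1 (hB hb)
  -- the map `u ↦ [y, u]` on the plane
  have hsurj : ∀ p ∈ vl B L', ∃ u ∈ vl B L', y * u * y⁻¹ * u⁻¹ = p := by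
    let f : vl B L' → vl B L' := fun u => ⟨y * u * y⁻¹ * (u : G)⁻¹,
      (vl B L').mul_mem ((mem_normalizer_iff.1 (hPn y hyL) u).1 u.2) ((vl B L').inv_mem u.2)⟩
    have hf : Function.Injective f := by
      intro a c hac
      have h3 : y * a * y⁻¹ * (a : G)⁻¹ = y * c * y⁻¹ * (c : G)⁻¹ := congrArg Subtype.val hac
      have h4 : y * ((c : G)⁻¹ * a) * y⁻¹ = (c : G)⁻¹ * a := by
        have h5 : y * a * y⁻¹ = y * c * y⁻¹ * (c : G)⁻¹ * a := by rw [← h3]; group
        calc y * ((c : G)⁻¹ * a) * y⁻¹ = (y * c * y⁻¹)⁻¹ * (y * a * y⁻¹) := by group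
          _ = (y * c * y⁻¹)⁻¹ * (y * c * y⁻¹ * (c : G)⁻¹ * a) := by rw [h5]
          _ = (c : G)⁻¹ * a := by group
      have h5 := hyfix _ ((vl B L').mul_mem ((vl B L').inv_mem c.2) a.2) h4
      exact Subtype.ext (inv_mul_eq_one.1 h5).symm
    intro p hp
    obtain ⟨u, hu⟩ := Finite.surjective_of_injective hf ⟨p, hp⟩
    exact ⟨u, u.2, congrArg Subtype.val hu⟩
  -- `W = F P`, `F = C_W(y)`
  set F : Subgroup G := (zl B L ⊔ zl B L') ⊓ centralizer ({y} : Set G) with hF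
  have hFy : ∀ f ∈ F, y * f * y⁻¹ = f := by
    intro f hf
    have := mem_centralizer_singleton_iff.1 hf.2
    rw [← this, mul_inv_cancel_right]
  have memF : ∀ f ∈ zl B L ⊔ zl B L', y * f * y⁻¹ = f → f ∈ F := by
    intro f hf h1
    refine ⟨hf, mem_centralizer_singleton_iff.2 ?_⟩
    calc f * y = (y * f * y⁻¹) * y := by rw [h1]
      _ = y * f := by group
  have hdec : ∀ w ∈ zl B L ⊔ zl B L', ∃ f ∈ F, ∃ u ∈ vl B L', w = f * u := by
    intro w hw
    have ha := (hStV hyL).2.2 w hw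
    obtain ⟨r, hr, p, hp, hrp⟩ := DBlkApi.mem_zl h.b' ha
    obtain ⟨u, hu, hup⟩ := hsurj p hp
    have hpW := hPW hp
    have huW := hPW hu
    have hrW := hV'W (hRV' hr)
    have hw' : w * u⁻¹ ∈ zl B L ⊔ zl B L' := mul_mem hw (inv_mem huW)
    have e1 : y * w * y⁻¹ = r * p * w := by rw [← hrp]; group
    have e2 : y * u * y⁻¹ = p * u := by rw [← hup]; group
    have h1 : y * (w * u⁻¹) * y⁻¹ = r * (w * u⁻¹) := by
      calc y * (w * u⁻¹) * y⁻¹ = (y * w * y⁻¹) * (y * u * y⁻¹)⁻¹ := by group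
        _ = r * p * w * (p * u)⁻¹ := by rw [e1, e2]
        _ = r * (p * (w * u⁻¹)) * p⁻¹ := by group
        _ = r * ((w * u⁻¹) * p) * p⁻¹ := by rw [hWc hpW hw']
        _ = r * (w * u⁻¹) := by group
    have hr1 : r = 1 := eq_one_of_odd hyo h1 (COneBlk.rl_comm hr hyL) (h.W_sq hrW)
    rw [hr1, one_mul] at h1
    exact ⟨w * u⁻¹, memF _ hw' h1, u, hu, by group⟩
  have hFP : ∀ x ∈ F, x ∈ vl B L' → x = 1 := fun x hx hxP => hyfix x hxP (hFy x hx)
  have hySt : y ∈ St (zl B L ⊔ zl B L') (vl B L') := by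
    refine ⟨hN hyL, hPn y hyL, fun w hw => ?_⟩
    obtain ⟨f, hf, u, hu, rfl⟩ := hdec w hw
    have h1 := hFy f hf
    have hp : y * u * y⁻¹ * u⁻¹ ∈ vl B L' :=
      (vl B L').mul_mem ((mem_normalizer_iff.1 (hPn y hyL) u).1 hu) ((vl B L').inv_mem hu)
    have e : y * (f * u) * y⁻¹ * (f * u)⁻¹ = y * u * y⁻¹ * u⁻¹ := by
      calc y * (f * u) * y⁻¹ * (f * u)⁻¹ = (y * f * y⁻¹) * (y * u * y⁻¹ * u⁻¹) * f⁻¹ := by group
        _ = f * (y * u * y⁻¹ * u⁻¹) * f⁻¹ := by rw [h1]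
        _ = (y * u * y⁻¹ * u⁻¹) * f * f⁻¹ := by rw [hWc hf.1 (hPW hp)]
        _ = _ := by group
    rw [e]; exact hp
  -- `k`
  have hkP := h.kP
  have hkV : k ∈ normalizer (zl B L : Set G) := FinalBridge.le_normalizer_zl B L h.kL
  have hkW : k ∈ normalizer ((zl B L ⊔ zl B L' : Subgroup G) : Set G) := by
    refine Subgroup.mem_normalizer_fintype (fun w hw => ?_)
    obtain ⟨v, hv, u, hu, rfl⟩ := h.exists_mul hw
    have h1 := h.kc hu
    have e : k * (v * u) * k⁻¹ = (k * v * k⁻¹) * (k * u * k⁻¹) := by group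
    rw [e, h1]
    exact (zl B L ⊔ zl B L').mul_mem (hVW ((mem_normalizer_iff.1 hkV v).1 hv)) (hPW hu)
  have hkR : k ∈ normalizer (rl B L' : Set G) := by
    rw [h.rl_eq_comm hR]
    refine Subgroup.mem_normalizer_fintype (fun x hx => ?_)
    have h1 : cj k ⁅zl B L, B⁆ = ⁅zl B L, B⁆ := by
      show Subgroup.map _ _ = _
      rw [Subgroup.map_commutator]
      show ⁅cj k (zl B L), cj k B⁆ = _
      rw [cj_eq_self_of_mem_normalizer h.kB, cj_eq_self_of_mem_normalizer hkV]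
    rw [← h1]
    exact conj_mem_cj hx
  have hkc' : ∀ u ∈ vl B L', k⁻¹ * u * k = u := by
    intro u hu
    have h1 := h.kc hu
    calc k⁻¹ * u * k = k⁻¹ * (k * u * k⁻¹) * k := by rw [h1]
      _ = u := by group
  -- elements stabilising the chain and centralising `P`, `R'`
  have hcB : ∀ c ∈ B, c ∈ St (zl B L ⊔ zl B L') (vl B L') → (∀ u ∈ vl B L', c * u = u * c) →
      ∀ w ∈ zl B L ⊔ zl B L', c * w = w * c := by
    intro c hc hcS hcP w hw
    obtain ⟨v, hv, u, hu, rfl⟩ := h.exists_mul hw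
    have h1 : c * v * c⁻¹ * v⁻¹ ∈ vl B L' := hcS.2.2 v (hVW hv)
    have h2 : c * v * c⁻¹ * v⁻¹ ∈ rl B L' := by
      have e : c * v * c⁻¹ * v⁻¹ = (v * c * v⁻¹ * c⁻¹)⁻¹ := by group
      rw [e]; exact (rl B L').inv_mem (hR v hv c hc)
    have h3 : c * v * c⁻¹ * v⁻¹ = 1 := by
      have : c * v * c⁻¹ * v⁻¹ ∈ rl B L' ⊓ vl B L' := ⟨h2, h1⟩
      rw [h.b'.disj] at this
      exact mem_bot.1 this
    have h4 : c * v * c⁻¹ = v := mul_inv_eq_one.1 h3
    have h5 := hcP u hu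
    calc c * (v * u) = (c * v * c⁻¹) * (c * u) := by group
      _ = v * (u * c) := by rw [h4, h5]
      _ = v * u * c := by group
  have claim1 : ∀ d ∈ St (zl B L ⊔ zl B L') (vl B L'), (∀ u ∈ vl B L', d * u = u * d) →
      (∀ r ∈ rl B L', d * r = r * d) → ∀ w ∈ zl B L ⊔ zl B L',
      d * w * d⁻¹ * w⁻¹ = 1 ∨ d * w * d⁻¹ * w⁻¹ = z := by
    intro d hd hdP hdR w hw
    by_contra hcon
    push Not at hcon
    obtain ⟨b, hb, hbQ⟩ := DBlkApi.exists_b h.b'
    set e := d * w * d⁻¹ * w⁻¹ with he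
    have heP : e ∈ vl B L' := hd.2.2 w hw
    have h1 := DBlkApi.conj_eq h.b' h.pt heP hcon.1 hcon.2 hb hbQ
    set c := d * b * d⁻¹ * b⁻¹ with hc
    have hcW : ∀ x ∈ zl B L ⊔ zl B L', c * x = x * c := fun x hx =>
      com_act h.b'.two hT (fun u hu => h.W_sq (hPW hu)) (fun b hb => hN (hBL' hb)) (fun b hb => hPn b (hBL' hb))
        hcB hd hdP hb hx
    have hbW : b ∈ normalizer ((zl B L ⊔ zl B L' : Subgroup G) : Set G) := hN (hBL' hb)
    have hw1 : b * w * b⁻¹ ∈ zl B L ⊔ zl B L' := (mem_normalizer_iff.1 hbW w).1 hw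
    have hdw1 : d * (b * w * b⁻¹) * d⁻¹ ∈ zl B L ⊔ zl B L' := (mem_normalizer_iff.1 hd.1 _).1 hw1
    have h2 : b * e * b⁻¹ = d * (b * w * b⁻¹) * d⁻¹ * (b * w * b⁻¹)⁻¹ := by
      calc b * e * b⁻¹ = c⁻¹ * (d * (b * w * b⁻¹) * d⁻¹) * c * (b * w * b⁻¹)⁻¹ := by rw [he, hc]; group
        _ = c⁻¹ * (c * (d * (b * w * b⁻¹) * d⁻¹)) * (b * w * b⁻¹)⁻¹ := by rw [hcW _ hdw1]; group
        _ = _ := by group
    -- `b w b⁻¹ = t w`
    obtain ⟨v, hv, u, hu, hwvu⟩ := h.exists_mul hw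
    obtain ⟨r, hr, p, hp, hrp⟩ := hbw b hb v hv u hu
    rw [← hwvu] at hrp
    have h3 : b * w * b⁻¹ = r * p * w := by rw [← hrp]; group
    have hdt : d * (r * p) * d⁻¹ = r * p := by
      calc d * (r * p) * d⁻¹ = (d * r) * p * d⁻¹ := by group
        _ = (r * d) * p * d⁻¹ := by rw [hdR r hr]
        _ = r * (d * p) * d⁻¹ := by group
        _ = r * (p * d) * d⁻¹ := by rw [hdP p hp]
        _ = r * p := by group
    have h4 : b * e * b⁻¹ = e := by
      have hrpW : r * p ∈ zl B L ⊔ zl B L' := mul_mem (hV'W (hRV' hr)) (hPW hp)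
      rw [h2, h3]
      calc d * (r * p * w) * d⁻¹ * (r * p * w)⁻¹ = (d * (r * p) * d⁻¹) * (d * w * d⁻¹ * w⁻¹) * (r * p)⁻¹ := by group
        _ = (r * p) * e * (r * p)⁻¹ := by rw [hdt]
        _ = e * (r * p) * (r * p)⁻¹ := by rw [hWc hrpW (hPW heP)]
        _ = e := by group
    rw [h4] at h1
    exact h.pt.2.2 (by simpa using h1)
  have claim2 : ∀ d ∈ St (zl B L ⊔ zl B L') (vl B L'), (∀ u ∈ vl B L', d * u = u * d) →
      (∀ r ∈ rl B L', d * r = r * d) → ∀ w ∈ zl B L ⊔ zl B L', d * w * d⁻¹ = w := by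
    intro d hd hdP hdR w hw
    rcases claim1 d hd hdP hdR w hw with h1 | h1
    · exact mul_inv_eq_one.1 h1
    exfalso
    have hyn : y ∈ normalizer (St (zl B L ⊔ zl B L') (vl B L') : Set G) := norm_St (hN hyL) (hPn y hyL)
    have g1 : y * d * y⁻¹ ∈ St (zl B L ⊔ zl B L') (vl B L') := (mem_normalizer_iff.1 hyn d).1 hd
    have g2 : ∀ u ∈ vl B L', (y * d * y⁻¹) * u = u * (y * d * y⁻¹) := by
      intro u hu
      have h2 : y⁻¹ * u * y ∈ vl B L' := by
        have := (mem_normalizer_iff.1 (inv_mem (hPn y hyL)) u).1 hu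
        rwa [inv_inv] at this
      have h3 := hdP _ h2
      calc (y * d * y⁻¹) * u = y * (d * (y⁻¹ * u * y)) * y⁻¹ := by group
        _ = y * ((y⁻¹ * u * y) * d) * y⁻¹ := by rw [h3]
        _ = u * (y * d * y⁻¹) := by group
    have g3 : ∀ r ∈ rl B L', (y * d * y⁻¹) * r = r * (y * d * y⁻¹) := by
      intro r hr
      have h2 : y * r = r * y := COneBlk.rl_comm hr hyL
      have h2' : y⁻¹ * r = r * y⁻¹ := COneBlk.rl_comm hr (L'.inv_mem hyL)
      have h3 := hdR r hr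
      calc (y * d * y⁻¹) * r = y * d * (y⁻¹ * r) := by group
        _ = y * d * (r * y⁻¹) := by rw [h2']
        _ = y * (d * r) * y⁻¹ := by group
        _ = y * (r * d) * y⁻¹ := by rw [h3]
        _ = (y * r) * d * y⁻¹ := by group
        _ = (r * y) * d * y⁻¹ := by rw [h2]
        _ = r * (y * d * y⁻¹) := by group
    have hw1 : y * w * y⁻¹ ∈ zl B L ⊔ zl B L' := (mem_normalizer_iff.1 (hN hyL) w).1 hw
    have g4 := claim1 _ g1 g2 g3 _ hw1
    have e : (y * d * y⁻¹) * (y * w * y⁻¹) * (y * d * y⁻¹)⁻¹ * (y * w * y⁻¹)⁻¹ = y * z * y⁻¹ := by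
      rw [← h1]; group
    rw [e] at g4
    rcases g4 with g4 | g4
    · exact h.pt.2.2 (conj_eq_one_iff.1 g4)
    · exact hyz g4
  -- `k` normalises `F`
  set y' := k * y * k⁻¹ with hy'
  have hy'St : y' ∈ St (zl B L ⊔ zl B L') (vl B L') := (mem_normalizer_iff.1 (norm_St hkW hkP) y).1 hySt
  have hy'u : ∀ u ∈ vl B L', y' * u * y'⁻¹ = y * u * y⁻¹ := by
    intro u hu
    have h1 : y * u * y⁻¹ ∈ vl B L' := (mem_normalizer_iff.1 (hPn y hyL) u).1 hu
    calc y' * u * y'⁻¹ = k * (y * (k⁻¹ * u * k) * y⁻¹) * k⁻¹ := by rw [hy']; group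
      _ = k * (y * u * y⁻¹) * k⁻¹ := by rw [hkc' u hu]
      _ = _ := h.kc h1
  have hdW := claim2 (y' * y⁻¹) (mul_mem hy'St (inv_mem hySt)) (by
    intro u hu
    have h1 : y⁻¹ * u * y ∈ vl B L' := by
      have := (mem_normalizer_iff.1 (inv_mem (hPn y hyL)) u).1 hu
      rwa [inv_inv] at this
    have h2 := hy'u _ h1
    calc y' * y⁻¹ * u = (y' * (y⁻¹ * u * y) * y'⁻¹) * (y' * y⁻¹) := by group
      _ = (y * (y⁻¹ * u * y) * y⁻¹) * (y' * y⁻¹) := by rw [h2]
      _ = u * (y' * y⁻¹) := by group) (by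
    intro r hr
    have h1 : k⁻¹ * r * k ∈ rl B L' := by
      have := (mem_normalizer_iff.1 (inv_mem hkR) r).1 hr
      rwa [inv_inv] at this
    have h2 : y * (k⁻¹ * r * k) = (k⁻¹ * r * k) * y := COneBlk.rl_comm h1 hyL
    have h3 : y⁻¹ * r = r * y⁻¹ := COneBlk.rl_comm hr (L'.inv_mem hyL)
    calc y' * y⁻¹ * r = y' * (y⁻¹ * r) := by group
      _ = y' * (r * y⁻¹) := by rw [h3]
      _ = k * (y * (k⁻¹ * r * k)) * k⁻¹ * y⁻¹ := by rw [hy']; group
      _ = k * ((k⁻¹ * r * k) * y) * k⁻¹ * y⁻¹ := by rw [h2]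
      _ = r * (y' * y⁻¹) := by rw [hy']; group)
  have hkF : ∀ f ∈ F, k⁻¹ * f * k ∈ F := by
    intro f hf
    have h1 := hdW f hf.1
    have h2 := hFy f hf
    have hkf : k⁻¹ * f * k ∈ zl B L ⊔ zl B L' := by
      have := (mem_normalizer_iff.1 (inv_mem hkW) f).1 hf.1
      rwa [inv_inv] at this
    refine memF _ hkf ?_
    have h3 : y' * f * y'⁻¹ = f := by
      calc y' * f * y'⁻¹ = (y' * y⁻¹) * (y * f * y⁻¹) * (y' * y⁻¹)⁻¹ := by group
        _ = (y' * y⁻¹) * f * (y' * y⁻¹)⁻¹ := by rw [h2]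
        _ = f := h1
    calc y * (k⁻¹ * f * k) * y⁻¹ = k⁻¹ * (y' * f * y'⁻¹) * k := by rw [hy']; group
      _ = k⁻¹ * f * k := by rw [h3]
  -- the complement
  obtain ⟨N, hNV, hLN, hNR⟩ := split h.b (D := rl B L') (COneBlk.rl_le_zc B L') h.card_R'.le (by
    intro b hb v hv
    have e : b * v * b⁻¹ * v⁻¹ = (v * b * v⁻¹ * b⁻¹)⁻¹ := by group
    rw [e]; exact (rl B L').inv_mem (hR v hv b hb)) (by
    intro x hx
    rcases DBlkApi.mem_zc_cases h.b' h.pt hx with h1 | h1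
    · exact mem_sup_left h1
    · have e : x = (z * x) * z := by
        have h2 : z * x = x * z := COneBlk.zc_comm (COnePair.zl_le h.b (zc_le_zl B L h.pt.2.1)) hx
        rw [h2, mul_assoc, h.pt.mul_self, mul_one]
      rw [e]
      exact mul_mem (mem_sup_left h1) (mem_sup_right h.z_mem))
  -- `F ≤ N`
  have hFN : F ≤ N := by
    let f : F → F := fun x => ⟨k⁻¹ * x * k * (x : G)⁻¹, F.mul_mem (hkF x x.2) (F.inv_mem x.2)⟩
    have hf : Function.Injective f := by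
      intro a c hac
      have h3 : k⁻¹ * a * k * (a : G)⁻¹ = k⁻¹ * c * k * (c : G)⁻¹ := congrArg Subtype.val hac
      have h4 : k⁻¹ * ((c : G)⁻¹ * a) * k = (c : G)⁻¹ * a := by
        have h5 : k⁻¹ * a * k = k⁻¹ * c * k * (c : G)⁻¹ * a := by rw [← h3]; group
        calc k⁻¹ * ((c : G)⁻¹ * a) * k = (k⁻¹ * c * k)⁻¹ * (k⁻¹ * a * k) := by group
          _ = (k⁻¹ * c * k)⁻¹ * (k⁻¹ * c * k * (c : G)⁻¹ * a) := by rw [h5]
          _ = (c : G)⁻¹ * a := by group
      have hca : (c : G)⁻¹ * a ∈ F := F.mul_mem (F.inv_mem c.2) a.2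
      have h5 : k * ((c : G)⁻¹ * a) * k⁻¹ = (c : G)⁻¹ * a := by
        calc k * ((c : G)⁻¹ * a) * k⁻¹ = k * (k⁻¹ * ((c : G)⁻¹ * a) * k) * k⁻¹ := by rw [h4]
          _ = (c : G)⁻¹ * a := by group
      have h6 := hFP _ hca (h.fix hca.1 h5)
      exact Subtype.ext (inv_mul_eq_one.1 h6).symm
    intro x hx
    obtain ⟨x', hx'⟩ := Finite.surjective_of_injective hf ⟨x, hx⟩
    have h3 : k⁻¹ * x' * k * (x' : G)⁻¹ = x := congrArg Subtype.val hx'
    obtain ⟨v, hv, u, hu, hvu⟩ := h.exists_mul x'.2.1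
    have h4 : k⁻¹ * v * k * v⁻¹ ∈ N := by
      have := (hLN (L.inv_mem h.kL)).2.2 v hv
      rwa [inv_inv] at this
    have e : x = k⁻¹ * v * k * v⁻¹ := by
      rw [← h3, hvu]
      calc k⁻¹ * (v * u) * k * (v * u)⁻¹ = (k⁻¹ * v * k) * ((k⁻¹ * u * k) * u⁻¹) * v⁻¹ := by group
        _ = (k⁻¹ * v * k) * (u * u⁻¹) * v⁻¹ := by rw [hkc' u hu]
        _ = _ := by group
    rw [e]; exact h4
  have hNF : N ≤ F := by
    intro n hn
    obtain ⟨f, hf, u, hu, hfu⟩ := hdec n (hVW (hNV hn))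
    have h1 : u ∈ N := by
      have e : u = f⁻¹ * n := by rw [hfu]; group
      rw [e]; exact N.mul_mem (N.inv_mem (hFN hf)) hn
    rcases h.eq_of_mem (hNV h1) hu with rfl | rfl
    · rw [hfu, mul_one]; exact hf
    · exfalso
      have h2 : u ∈ N ⊓ rl B L := ⟨h1, h.z_mem⟩
      rw [hNR, mem_bot] at h2
      exact h.pt.2.2 h2
  have hEq : N = F := le_antisymm hNF hFN
  have hL'F : L' ≤ normalizer (F : Set G) := by
    have hyF : y ∈ normalizer (F : Set G) :=
      Subgroup.mem_normalizer_fintype (fun f hf => by rw [hFy f hf]; exact hf)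
    intro g hg
    obtain ⟨n, b, hb, rfl⟩ := hydec g hg
    refine mul_mem (pow_mem hyF n) ?_
    rw [← hEq]
    exact (hLN (h.b.le hb)).2.1
  have hbot := h.core F (by rw [← hEq]; exact hNV.trans (COnePair.zl_le h.b))
    (by rw [← hEq]; exact fun g hg => (hLN hg).2.1) hL'F
  have hVP : zl B L ≤ vl B L' := by
    intro v hv
    obtain ⟨f, hf, u, hu, rfl⟩ := hdec v (hVW hv)
    rw [hbot, mem_bot] at hf
    rw [hf, one_mul]; exact hu
  have h1 := Subgroup.card_le_of_le hVP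
  rw [h.card_V, h.b'.card_vl] at h1
  have := h.b.four
  nlinarith

end Mix

/-- **(C)**: a plane and an `SL₂(q)`-block, `q ≥ 4`, over `B` do not coexist. -/
theorem false_of_mix {B L L' : Subgroup G} {q m : ℕ} (b : LBlk B L q) (b' : IsDBlk B L' m)
    (hc : ∀ x ∈ zl B L, ∀ y ∈ zl B L', x * y = y * x)
    (core : ∀ N : Subgroup G, N ≤ B → L ≤ normalizer (N : Set G) → L' ≤ normalizer (N : Set G) → N = ⊥)
    (hT : ∀ T : Subgroup G, IsPGroup 2 T → B ≤ T → T ≤ normalizer (B : Set G))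
    (hfix : ∀ k ∈ L, Odd (orderOf k) → k ∈ normalizer (B : Set G) → k ∈ normalizer (vl B L' : Set G)) : False := by
  obtain ⟨z, hz⟩ := exists_pt b'
  obtain ⟨K, hKL, -, hcard, hn, -, -⟩ := COneBlk.exists_torus b
  obtain ⟨k, hk, hk1⟩ := COnePair.exists_ne_one (K := K) (by rw [hcard]; have := b.four; omega)
  have hko : Odd (orderOf k) := by
    refine Odd.of_dvd_nat (odd_pred b) ?_
    rw [← hcard]
    have := orderOf_dvd_natCard (⟨k, hk⟩ : K)
    rwa [Subgroup.orderOf_mk] at this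
  have hkB : k ∈ normalizer (B : Set G) := Subgroup.mem_normalizer_fintype (hn k hk)
  have hkP := hfix k (hKL hk) hko hkB
  rcases graph b (bk_of_dblk b') core hc with ⟨h1, h2, h3⟩ | ⟨h1, h2, h3⟩
  · exact Mix.case_one (L := L) (L' := L') (q := q) (m := m) (z := z) (k := k)
      ⟨b, b', hc, core, h3, hz, hKL hk, hk1, hko, hkB, hkP⟩ h1 h2
  · refine Mix.case_two (L := L) (L' := L') (q := q) (m := m) (z := z) (k := k)
      ⟨b, b', hc, core, by rwa [sup_comm], hz, hKL hk, hk1, hko, hkB, hkP⟩ hT h1 ?_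
    rwa [sup_comm]

end Cfsg.Agent.OddCyclic.APQ
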