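import Cfsg.Agent.OddCyclic.RedDefs

/-!
# S0342, (C2), 3.2, 3.3: the point of a dihedral block determines its plane (no solvability)

The port of `MinSimple.SamePt` to `LX`.
-/

set_option autoImplicit false
set_option linter.unusedSectionVars false

namespace Cfsg.Agent.OddCyclic.Red

open Subgroup Cfsg Cfsg.Agent.ZN Cfsg.Agent.MinSimple Cfsg.Agent.MinSimple.PlanePair
open Cfsg.Agent.MinSimple.DBlkApi
open Cfsg.Agent.MinSimple.SamePt (isPt_conj AllComm le_normalizer bau_eq jj_eq cmod cmod_le comm_of_normalizer)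

universe u

variable {G : Type u} [Group G] [Finite G] {S : Sylow 2 G} (hX : LX (S : Subgroup G))

include hX in
/-- Step (2): two blocks over `bau S` with the same point and commuting lines have the same
line. -/
theorem vl_eq_of_pt {L L' : Subgroup G} {k k' : ℕ} {z : G}
    (h : IsDBlk (bau (S : Subgroup G)) L k) (h' : IsDBlk (bau (S : Subgroup G)) L' k')
    (hz : IsPt (bau (S : Subgroup G)) L z) (hz' : IsPt (bau (S : Subgroup G)) L' z)
    (hc : ∀ v ∈ vl (bau (S : Subgroup G)) L, ∀ w ∈ vl (bau (S : Subgroup G)) L', v * w = w * v) :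
    vl (bau (S : Subgroup G)) L = vl (bau (S : Subgroup G)) L' := by
  by_cases hcore : ∀ N : Subgroup G, N ≤ bau (S : Subgroup G) → L ≤ normalizer (N : Set G) →
      L' ≤ normalizer (N : Set G) → N = ⊥
  · exfalso
    obtain ⟨u, hu, w, hw, huw⟩ := exists_noncommuting h h' hz hz' hcore
    exact huw (hc u hu w hw)
  · push Not at hcore
    obtain ⟨N, hN, hLN, hLN', hN1⟩ := hcore
    exact hX.pt h h' ⟨N, h.two.to_le hN, hN1, hLN, hLN'⟩ hz hz'

include hX in
/-- Step (3): an element of `N_G(bau S)` centralizing the point of a block over `bau S` normalizes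
its line. -/
theorem mem_normalizer_vl (hc : AllComm (bau (S : Subgroup G))) {L : Subgroup G} {k : ℕ}
    {z g : G} (h : IsDBlk (bau (S : Subgroup G)) L k) (hz : IsPt (bau (S : Subgroup G)) L z)
    (hg : g ∈ normalizer (bau (S : Subgroup G) : Set G)) (hgz : g * z * g⁻¹ = z) :
    g ∈ normalizer (vl (bau (S : Subgroup G)) L : Set G) := by
  set B := bau (S : Subgroup G) with hB
  have hBg : B.map (MulAut.conj g).toMonoidHom = B :=
    ChoiceBase.mem_normalizer_iff_cj.mp hg
  have h' := h.conj g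
  have hz' := isPt_conj hz g
  rw [hBg] at h' hz'
  rw [hgz] at hz'
  have h1 : vl B L = vl B (L.map (MulAut.conj g).toMonoidHom) :=
    vl_eq_of_pt hX h h' hz hz' (hc _ _ _ _ h h')
  have h2 : vl B (L.map (MulAut.conj g).toMonoidHom) =
      (vl B L).map (MulAut.conj g).toMonoidHom := by
    rw [← vl_map _ (MulAut.conj g).injective, hBg]
  rw [ChoiceBase.mem_normalizer_iff_cj]
  exact (h1.trans h2).symm

include hX in
/-- Step (3): a 2-subgroup `T ≥ bau S` centralizing the point of a block over `bau S` normalizes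
its line. -/
theorem le_normalizer_vl' (hc : AllComm (bau (S : Subgroup G))) {L T : Subgroup G} {k : ℕ}
    {z : G} (h : IsDBlk (bau (S : Subgroup G)) L k) (hz : IsPt (bau (S : Subgroup G)) L z)
    (hT : IsPGroup 2 T) (hBT : bau (S : Subgroup G) ≤ T) (hTz : T ≤ centralizer ({z} : Set G)) :
    T ≤ normalizer (vl (bau (S : Subgroup G)) L : Set G) := fun t ht =>
  mem_normalizer_vl hX hc h hz (le_normalizer S hT hBT ht) (by
    have := mem_centralizer_singleton_iff.mp (hTz ht)
    rw [this]
    group)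

include hX in
/-- `V_L ≤ O₂(C_G(z_L))`. -/
theorem vl_le_o2_centralizer (hc : AllComm (bau (S : Subgroup G))) {L : Subgroup G} {k : ℕ}
    {z : G} (h : IsDBlk (bau (S : Subgroup G)) L k) (hz : IsPt (bau (S : Subgroup G)) L z) :
    vl (bau (S : Subgroup G)) L ≤ o2 (centralizer ({z} : Set G)) := by
  have hBz : bau (S : Subgroup G) ≤ centralizer ({z} : Set G) := fun b hb => by
    rw [mem_centralizer_singleton_iff]
    exact hz.comm hb
  obtain ⟨T, hT, hBT⟩ := ChoiceSit.exists_syl h.two hBz
  have hTn := le_normalizer_vl' hX hc h hz hT.2.1 hBT hT.1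
  have hQT : o2 (centralizer ({z} : Set G)) ≤ T :=
    VModule.o2_le_of_sylow hT.2.1 (ChoiceSit.syl_not_dvd hT)
  refine le_trans ?_ (cmod_le le_rfl hz.mul_self (Basic.char2_centralizer hX.char2 hz.sq hz.2.2))
  intro v hv
  refine ⟨hBz (vl_le_B h hv), fun q hq => ?_⟩
  have hqz : q * z * q⁻¹ = z := by
    have := mem_centralizer_singleton_iff.mp (hT.1 (hQT hq))
    rw [this]; group
  by_cases hv1 : v = 1
  · left; rw [hv1]; group
  by_cases hvz : v = z
  · left
    have := mem_centralizer_singleton_iff.mp (hT.1 (hQT hq))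
    rw [hvz, ← this]; group
  have hvv : v * v = 1 := by rw [← pow_two]; exact vl_sq h v hv
  have hvi : v⁻¹ = v := inv_eq_of_mul_eq_one_left hvv
  have hvzc : v * z = z * v := Four.comm_of_sq (vl_sq h) hv hz.1
  rcases Four.fix_dichotomy h.card_vl (vl_sq h) hz.1 hv hz.2.2 hv1 (fun h0 => hvz h0.symm)
    (hTn (hQT hq)) hqz with h1 | h1
  · left
    have h2 : q * v = v * q := by
      calc q * v = (q * v * q⁻¹) * q := by group
        _ = v * q := by rw [h1]
    rw [← h2]; group
  · right
    have h2 : q * v = z * v * q := by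
      calc q * v = (q * v * q⁻¹) * q := by group
        _ = z * v * q := by rw [h1]
    have h3 : v * q = z * (q * v) := by
      calc v * q = (z * z) * v * q := by rw [hz.mul_self, one_mul]
        _ = z * (z * v * q) := by group
        _ = z * (q * v) := by rw [h2]
    calc v * q * v⁻¹ = z * (q * v) * v⁻¹ := by rw [h3]
      _ = z * q := by group

include hX in
/-- A Sylow 2-subgroup `T ≥ bau S` of `C_G(z_L)` is a Sylow 2-subgroup of `N_G(V_L)`. -/
theorem syl_normalizer_vl (hc : AllComm (bau (S : Subgroup G))) {L T : Subgroup G} {k : ℕ}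
    {z : G} (h : IsDBlk (bau (S : Subgroup G)) L k) (hz : IsPt (bau (S : Subgroup G)) L z)
    (hT : ChoiceSit.Syl T (centralizer ({z} : Set G))) (hBT : bau (S : Subgroup G) ≤ T) :
    ChoiceSit.Syl T (normalizer (vl (bau (S : Subgroup G)) L : Set G)) := by
  refine ⟨le_normalizer_vl' hX hc h hz hT.2.1 hBT hT.1, hT.2.1, fun Q hQ hQ2 hTQ => ?_⟩
  refine hT.2.2 Q (fun q hq => ?_) hQ2 hTQ
  rw [mem_centralizer_singleton_iff]
  have h1 := comm_of_normalizer h hz (le_normalizer S hQ2 (hBT.trans hTQ) hq) (hQ hq)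
  exact Four.conj_eq_iff_comm.mp h1

include hX in
/-- A Sylow 2-subgroup `T ≥ bau S` of `N_G(V_L)` is a Sylow 2-subgroup of `C_G(z_L)`. -/
theorem syl_centralizer (hc : AllComm (bau (S : Subgroup G))) {L T : Subgroup G} {k : ℕ}
    {z : G} (h : IsDBlk (bau (S : Subgroup G)) L k) (hz : IsPt (bau (S : Subgroup G)) L z)
    (hT : ChoiceSit.Syl T (normalizer (vl (bau (S : Subgroup G)) L : Set G)))
    (hBT : bau (S : Subgroup G) ≤ T) : ChoiceSit.Syl T (centralizer ({z} : Set G)) := by
  refine ⟨fun q hq => ?_, hT.2.1, fun Q hQ hQ2 hTQ => ?_⟩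
  · rw [mem_centralizer_singleton_iff]
    have h1 := comm_of_normalizer h hz (le_normalizer S hT.2.1 hBT hq) (hT.1 hq)
    exact Four.conj_eq_iff_comm.mp h1
  · exact hT.2.2 Q (le_normalizer_vl' hX hc h hz hQ2 (hBT.trans hTQ) hQ) hQ2 hTQ

end Cfsg.Agent.OddCyclic.Red
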