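import Cfsg.Agent.OddCyclic.RedPush
import Cfsg.Agent.MinSimple.TwoBlk

/-!
# S0342, (C2), 3.1: two blocks over the Baumann subgroup of a Sylow 2-subgroup commute (no solvability)

The port of `MinSimple.TwoBlk`: the hypothesis that 2-local subgroups are solvable is replaced by `LX`.
-/

set_option autoImplicit false
set_option linter.unusedSectionVars false

namespace Cfsg.Agent.MinSimple.TwoBlk.NS

open Subgroup Cfsg Cfsg.Agent.ZN Cfsg.Agent.MinSimple Cfsg.Agent.MinSimple.DBlkApi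
  Cfsg.Agent.OddCyclic.Red Cfsg.Agent.MinSimple.TwoBlk.Pair
open Cfsg.Agent.MinSimple.PushEnd.NS (NL toNL)
open scoped commutatorElement

universe u

variable {G : Type u} [Group G]

section pair

variable {B L L' : Subgroup G} {k k' : ℕ} {z a b : G}

/-- `L` and `L'` do not normalise a common nontrivial 2-subgroup. -/
theorem core (p : Pair B L L' k k' z a b)
    (hL : NL B) {R : Subgroup G}
    (hR : IsPGroup 2 R) (h1 : L ≤ normalizer (R : Set G)) (h2 : L' ≤ normalizer (R : Set G)) :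
    R = ⊥ :=
  hL L L' k k' p.h p.h' ⟨a, p.aV, b, p.bV, p.nc⟩ R hR h1 h2

theorem bone [Finite G] (p : Pair B L L' k k' z a b)
    (hL : NL B) :
    o2 L = zl B L ∧ o2 L' = zl B L' ∧ o2 L ⊓ o2 L' = zc B ∧ Nat.card (zc B) ≤ 4 :=
  PushEnd.bone p.h p.h' (fun _ hR h1 h2 => core p hL (p.h.two.to_le hR) h1 h2)
    ⟨a, vl_le_zl B L p.aV, b, vl_le_zl B L' p.bV, p.nc⟩


theorem rl_inf [Finite G] (p : Pair B L L' k k' z a b)
    (hL : NL B) {x : G} (hx : x ∈ rl B L)
    (hx' : x ∈ rl B L') : x = 1 := by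
  have hn : ∀ g : G, g * x = x * g → g ∈ normalizer (zpowers x : Set G) := fun g hg => by
    refine centralizer_le_normalizer _ ?_
    rw [mem_centralizer_iff]
    intro y hy
    obtain ⟨n, rfl⟩ := mem_zpowers_iff.1 hy
    exact (((show Commute g x from hg).zpow_right n).eq).symm
  have hbot : zpowers x = ⊥ := by
    refine core p hL (p.h.two.to_le (zpowers_le.2 (zc_le B hx.1))) (fun l hl => hn l ?_)
      (fun l hl => hn l ?_)
    · exact rl_comm hx hl
    · exact rl_comm hx' hl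
  exact zpowers_eq_bot.1 hbot


/-- the elements of `zc B` -/
theorem zc_cases [Finite G] (p : Pair B L L' k k' z a b)
    (hL : NL B) {c : G} (hc : c ∈ rl B L)
    (hc1 : c ≠ 1) {x : G} (hx : x ∈ zc B) : x = 1 ∨ x = z ∨ x = c ∨ x = c * z := by
  have hzz := p.pt.mul_self
  -- uniqueness in `rl B L`
  have huniq : ∀ w ∈ rl B L, w = 1 ∨ w = c := by
    intro w hw
    by_contra hcon
    push Not at hcon
    have hcl : c ∉ rl B L' := fun h0 => hc1 (rl_inf p hL hc h0)
    have hwl : w ∉ rl B L' := fun h0 => hcon.1 (rl_inf p hL hw h0)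
    have h1 : w * c ∈ rl B L' := Block.mul_mem_of_relIndex_two p.h'.rl_index hw.1 hc.1 hwl hcl
    have h2 := rl_inf p hL (mul_mem hw hc) h1
    apply hcon.2
    have hcc : c * c = 1 := by rw [← pow_two]; exact zc_sq hc.1
    calc w = w * (c * c) := by rw [hcc, mul_one]
      _ = (w * c) * c := by group
      _ = c := by rw [h2, one_mul]
  rcases mem_zc_cases p.h p.pt hx with h1 | h1
  · rcases huniq x h1 with h2 | h2
    · exact Or.inl h2
    · exact Or.inr (Or.inr (Or.inl h2))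
  · have hxz : z * x = x * z := (zc_comm hx (zc_le B p.pt.2.1))
    have e : x = (z * x) * z := by
      calc x = x * (z * z) := by rw [hzz, mul_one]
        _ = (x * z) * z := by group
        _ = (z * x) * z := by rw [hxz]
    rcases huniq _ h1 with h2 | h2
    · rw [h2, one_mul] at e
      exact Or.inr (Or.inl e)
    · rw [h2] at e
      exact Or.inr (Or.inr (Or.inr e))


/-- an involution of `B` lies in `zl B L` or in `zl B L'` -/
theorem invol [Finite G] (p : Pair B L L' k k' z a b)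
    (hL : NL B) {x : G} (hx : x ∈ B)
    (hxx : x * x = 1) : x ∈ zl B L ∨ x ∈ zl B L' := by
  obtain ⟨e1, e2, -, -⟩ := bone p hL
  by_cases hxL : x ∈ zl B L
  · exact Or.inl hxL
  right
  have h1 : x * b ∈ o2 L :=
    Block.mul_mem_of_relIndex_two p.h.o2_index hx p.bB (by rwa [e1]) p.bQ
  rw [e1] at h1
  -- `y = x b`, `x = y b`
  have hyy : (x * b) * (x * b) = 1 := by
    rw [← pow_two]; exact p.h.zl_sq _ h1
  have hxb : x * b = b * x := by
    have hx' : x⁻¹ = x := inv_eq_of_mul_eq_one_left hxx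
    have hb' : b⁻¹ = b := inv_eq_of_mul_eq_one_left p.bb
    calc x * b = (x * b)⁻¹ := (inv_eq_of_mul_eq_one_left hyy).symm
      _ = b * x := by rw [mul_inv_rev, hx', hb']
  obtain ⟨r, hr, v, hv, hrv⟩ := mem_zl p.h h1
  have hrb : r * b = b * r := (zc_comm (rl_le_zc B L hr) p.bB).symm
  have hvb : v * b = b * v := by
    have h2 : (x * b) * b = b * (x * b) := by
      calc (x * b) * b = (b * x) * b := by rw [hxb]
        _ = b * (x * b) := by group
    rw [hrv] at h2
    have h3 : r * (v * b) = r * (b * v) := by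
      calc r * (v * b) = r * v * b := by group
        _ = b * (r * v) := h2
        _ = (b * r) * v := by group
        _ = r * (b * v) := by rw [← hrb]; group
    exact mul_left_cancel h3
  have hv' : v = 1 ∨ v = z := by
    by_contra hcon
    push Not at hcon
    have h3 := conj_eq p.h p.pt hv hcon.1 hcon.2 p.bB p.bQ
    rw [Four.conj_eq_iff_comm.mpr hvb.symm] at h3
    apply p.pt.2.2
    have h4 : 1 * v = z * v := by rw [one_mul]; exact h3
    exact (mul_right_cancel h4).symm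
  have hxzc : x * b ∈ zc B := by
    rw [hrv]
    refine mul_mem (rl_le_zc B L hr) ?_
    rcases hv' with rfl | rfl
    · exact one_mem _
    · exact p.pt.2.1
  have h5 : x = (x * b) * b := by rw [mul_assoc, p.bb, mul_one]
  rw [h5]
  exact mul_mem (zc_le_zl hxzc) (vl_le_zl B L' p.bV)


/-- The normaliser of `B` fixes `z`. -/
theorem fix_z [Finite G] (p : Pair B L L' k k' z a b)
    (hL : NL B) {g : G}
    (hg : g ∈ normalizer (B : Set G)) : g * z * g⁻¹ = z := by
  have hzi : z⁻¹ = z := inv_eq_of_mul_eq_one_left p.pt.mul_self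
  have ha : g * a * g⁻¹ ∈ B := Four.conj_mem hg p.aB
  have hb : g * b * g⁻¹ ∈ B := Four.conj_mem hg p.bB
  have haa : (g * a * g⁻¹) * (g * a * g⁻¹) = 1 := by
    calc (g * a * g⁻¹) * (g * a * g⁻¹) = g * (a * a) * g⁻¹ := by group
      _ = 1 := by rw [p.aa]; group
  have hcomm : ⁅g * b * g⁻¹, g * a * g⁻¹⁆ = g * z * g⁻¹ := by
    rw [← p.comm, commutatorElement_def, commutatorElement_def]; group
  have hne : g * z * g⁻¹ ≠ 1 := fun h => p.pt.2.2 (conj_eq_one_iff.mp h)
  have key : ⁅g * a * g⁻¹, g * b * g⁻¹⁆ = 1 ∨ ⁅g * a * g⁻¹, g * b * g⁻¹⁆ = z := by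
    rcases invol p hL ha haa with h1 | h1
    · exact comm_eq p.h p.pt h1 hb
    · exact comm_eq p.h' p.pt' h1 hb
  have hinv : ⁅g * a * g⁻¹, g * b * g⁻¹⁆ = (g * z * g⁻¹)⁻¹ := by
    rw [← hcomm, commutatorElement_inv]
  rw [hinv] at key
  rcases key with h1 | h1
  · exact absurd (inv_eq_one.mp h1) hne
  · calc g * z * g⁻¹ = ((g * z * g⁻¹)⁻¹)⁻¹ := (inv_inv _).symm
      _ = z⁻¹ := by rw [h1]
      _ = z := hzi



variable [Finite G] {S : Sylow 2 G}

/-- The normaliser of `B` and the centraliser of `rl B L` -/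
theorem comm_zc (p : Pair B L L' k k' z a b)
    (hL : NL B) {x : G}
    (hx : x ∈ normalizer (B : Set G)) (hxc : x ∈ centralizer (rl B L : Set G)) :
    ∀ y ∈ zc B, y * x = x * y := by
  have h1 : z * x = x * z := (Four.conj_eq_iff_comm.mp (fix_z p hL hx)).symm
  intro y hy
  rcases mem_zc_cases p.h p.pt hy with h2 | h2
  · exact mem_centralizer_iff.mp hxc y h2
  · have h3 := mem_centralizer_iff.mp hxc _ h2
    have h4 : z * (y * x) = z * (x * y) := by
      calc z * (y * x) = (z * y) * x := by group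
        _ = x * (z * y) := h3
        _ = (x * z) * y := by group
        _ = (z * x) * y := by rw [h1]
        _ = z * (x * y) := by group
    exact mul_left_cancel h4


/-- `bau S` is a Sylow 2-subgroup of the centraliser of `rl B L`. -/
theorem eq_bau (p : Pair (bau (S : Subgroup G)) L L' k k' z a b)
    (hL : NL (bau (S : Subgroup G))) {P : Subgroup G}
    (hP : IsPGroup 2 P) (hBP : bau (S : Subgroup G) ≤ P)
    (hPc : P ≤ centralizer (rl (bau (S : Subgroup G)) L : Set G)) :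
    P = bau (S : Subgroup G) := by
  obtain ⟨U, hPU, hU, hz⟩ := exists_sylow_bau S hP hBP
  refine le_antisymm ?_ hBP
  intro x hx
  rw [← hU, ChoiceBase.mem_bau]
  refine ⟨hPU hx, ?_⟩
  rw [hz, ← ChoiceBase.zc_bau]
  refine comm_zc p hL ?_ (hPc hx)
  rw [← hU]
  exact le_normalizer_bau _ (hPU hx)


/-- Case I: `rl B L = 1` -/
theorem case_one (p : Pair (bau (S : Subgroup G)) L L' k k' z a b)
    (hL : NL (bau (S : Subgroup G)))
    (h0 : Nat.card (rl (bau (S : Subgroup G)) L) = 1) : PRankLE 2 2 G := by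
  refine PushEnd.rank_two p.h (bone p hL).1 (by rw [PushEnd.card_zc p.h, h0]) ?_
  intro P hP hBP _
  refine eq_bau p hL hP hBP ?_
  rw [Subgroup.eq_bot_of_card_eq _ h0]
  intro x _
  rw [mem_centralizer_iff]
  rintro y hy
  rw [SetLike.mem_coe, mem_bot] at hy
  rw [hy, one_mul, mul_one]


/-- Case II.2.ii: index two. -/
theorem case_swap (p : Pair (bau (S : Subgroup G)) L L' k k' z a b)
    (hL : NL (bau (S : Subgroup G)))
    (h4 : Nat.card (zc (bau (S : Subgroup G))) = 4) {t : G} (ht : t ∈ S)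
    (htt : t * t ∈ bau (S : Subgroup G))
    (hne : ∃ v ∈ zl (bau (S : Subgroup G)) L, ∃ u ∈ zl (bau (S : Subgroup G)) L,
      v * (t * u * t⁻¹) ≠ (t * u * t⁻¹) * v) :
    ∃ N : Subgroup G, N.Normal ∧ N.index = 2 := by
  have htB : t ∈ normalizer ((bau (S : Subgroup G) : Subgroup G) : Set G) :=
    le_normalizer_bau _ ht
  have h' := PushEnd.blk_conj p.h htB
  have hne' : ∃ v ∈ zl (bau (S : Subgroup G)) L,
      ∃ u ∈ zl (bau (S : Subgroup G)) (L.map (MulAut.conj t).toMonoidHom), v * u ≠ u * v := by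
    obtain ⟨v, hv, u, hu, huv⟩ := hne
    exact ⟨v, hv, _, by rw [PushEnd.zl_conj' L htB]; exact PushEnd.mem_map_conj hu, huv⟩
  obtain ⟨h1, -, h3, -⟩ := PushEnd.bone p.h h'
    (fun R hR hR1 hR2 => PushEnd.NS.ap hL p.h htB hne (p.h.two.to_le hR) hR1 hR2) hne'
  exact PushEnd.NS.index_two hL p.h htB htt S (ChoiceBase.bau_le _) ht hne h1 h3 h4
    (fun P hP hBP hPC => eq_bau p hL hP hBP hPC)


theorem mul_c_mem_qq (p : Pair B L L' k k' z a b)
    (hL : NL B) {c : G} (hc : IsC B L c) {x : G}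
    (hx : x ∈ B) : x * c ∈ p.qq ∨ x ∈ p.qq := by
  have hcc : c * c = 1 := by rw [← pow_two]; exact zc_sq hc.1.1
  have hcB : ∀ y ∈ B, y * c = c * y := fun y hy => zc_comm hc.1.1 hy
  have key : ∀ y ∈ zl B L, y * c ∈ vl B L ∨ y ∈ vl B L := by
    intro y hy
    obtain ⟨r, hr, v, hv, rfl⟩ := mem_zl p.h hy
    rcases hc.2.2 r hr with rfl | rfl
    · right; rwa [one_mul]
    · left
      have h1 : r * v * r = v := by
        calc r * v * r = r * (v * r) := by group
          _ = r * (r * v) := by rw [hcB v (vl_le_B p.h hv)]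
          _ = (r * r) * v := by group
          _ = v := by rw [hcc, one_mul]
      rwa [h1]
  have h1 := (bone p hL).1
  by_cases hxQ : x ∈ o2 L
  · rw [h1] at hxQ
    rcases key x hxQ with h2 | h2
    · exact Or.inl ⟨_, h2, Or.inl rfl⟩
    · exact Or.inr ⟨_, h2, Or.inl rfl⟩
  · have h2 := Block.mul_mem_of_relIndex_two p.h.o2_index hx p.bB hxQ p.bQ
    rw [h1] at h2
    rcases key _ h2 with h3 | h3
    · left
      refine ⟨_, h3, Or.inr ?_⟩
      calc x * c = x * (b * b) * c := by rw [p.bb, mul_one]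
        _ = x * b * (b * c) := by group
        _ = x * b * (c * b) := by rw [hcB b p.bB]
        _ = x * b * c * b := by group
    · right
      refine ⟨_, h3, Or.inr ?_⟩
      rw [mul_assoc, p.bb, mul_one]


/-- Case II.1: `S = B`. -/
theorem case_transfer (p : Pair (bau (S : Subgroup G)) L L' k k' z a b)
    (hL : NL (bau (S : Subgroup G))) {c : G}
    (hc : IsC (bau (S : Subgroup G)) L c) (hS : (S : Subgroup G) ≤ bau (S : Subgroup G)) :
    ∃ N : Subgroup G, N.Normal ∧ N.index = 2 := by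
  have hf : Fact (Nat.Prime 2) := ⟨Nat.prime_two⟩
  have hSB : bau (S : Subgroup G) = (S : Subgroup G) := le_antisymm (ChoiceBase.bau_le _) hS
  have hcS : c ∈ (S : Subgroup G) := by
    have := zc_le _ hc.1.1
    exact ChoiceBase.bau_le _ this
  have hcc : c * c = 1 := by rw [← pow_two]; exact zc_sq hc.1.1
  have hord : orderOf c = 2 := orderOf_eq_prime (by rw [pow_two, hcc]) hc.2.1
  have hQle : p.qq ≤ (S : Subgroup G) := p.qq_le.trans (ChoiceBase.bau_le _)
  have hrel : p.qq.relIndex (S : Subgroup G) = 2 := by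
    rw [Subgroup.relIndex_eq_two_iff_exists_notMem_and]
    exact ⟨c, hcS, p.c_notMem_qq hc, fun x hx => mul_c_mem_qq p hL hc (hS hx)⟩
  rcases Cfsg.Agent.S0111.result S p.qq hQle hrel c hord hcS (p.c_notMem_qq hc) with
    ⟨N, hN, hN2, _⟩ | ⟨g, hg⟩
  · exact ⟨N, hN, hN2⟩
  · exfalso
    have h1 : (g * c * g⁻¹) * (g * c * g⁻¹) = 1 := by
      calc (g * c * g⁻¹) * (g * c * g⁻¹) = g * (c * c) * g⁻¹ := by group
        _ = 1 := by rw [hcc]; group
    have h2 : g * c * g⁻¹ ≠ 1 := fun h => hc.2.1 (conj_eq_one_iff.mp h)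
    obtain ⟨d, hd⟩ := p.fus_qq hg h1 h2
    have h3 : (((d * g)⁻¹)⁻¹ : G) * c * (d * g)⁻¹ = z := by rw [← hd]; group
    have hcent : ∀ x ∈ zc (bau (S : Subgroup G)), x ∈ centralizer ((S : Subgroup G) : Set G) := by
      intro x hx
      rw [mem_centralizer_iff]
      intro y hy
      exact zc_comm hx (hS hy)
    obtain ⟨n, hn, hn'⟩ := S.conj_eq_normalizer_conj_of_mem_centralizer c ((d * g)⁻¹)
      (hcent c hc.1.1) (by rw [h3]; exact hcent z p.pt.2.1)
    rw [h3] at hn'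
    have h4 : n ∈ normalizer ((bau (S : Subgroup G) : Subgroup G) : Set G) := by
      rw [hSB]; exact hn
    have h5 := fix_z p hL h4
    have h6 : c = z := by
      calc c = n * (n⁻¹ * c * n) * n⁻¹ := by group
        _ = z := by rw [← hn', h5]
    exact pt_notMem_rl p.h p.pt (h6 ▸ hc.1)


/-- Lemma X: an element of `S` normalising `zl B L` (with `S ≤ N(zl B L)`) normalises `vl B L`. -/
theorem norm_vl (p : Pair (bau (S : Subgroup G)) L L' k k' z a b)
    (hX : LX (S : Subgroup G))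
    (hSX : (S : Subgroup G) ≤ normalizer (zl (bau (S : Subgroup G)) L : Set G)) {s : G}
    (hs : s ∈ S) : s ∈ normalizer (vl (bau (S : Subgroup G)) L : Set G) := by
  set B := bau (S : Subgroup G) with hB
  have hzl1 : zl B L ≠ ⊥ := fun h0 => by
    have h1 : z ∈ zl B L := PushEnd.vl_le_zl B L p.pt.1
    rw [h0, mem_bot] at h1
    exact p.pt.2.2 h1
  have hLX : L ≤ normalizer (zl B L : Set G) := le_normalizer_zl B L
  have hsB : s ∈ normalizer (B : Set G) := le_normalizer_bau _ hs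
  have hbl := PushEnd.blk_conj p.h hsB
  have hLX' : L.map (MulAut.conj s).toMonoidHom ≤ normalizer (zl B L : Set G) := by
    rintro _ ⟨l, hl, rfl⟩
    exact mul_mem (mul_mem (hSX hs) (hLX hl)) (inv_mem (hSX hs))
  have hpz : DBlkApi.IsPt B (L.map (MulAut.conj s).toMonoidHom) z := by
    refine ⟨?_, p.pt.2⟩
    rw [PushEnd.vl_conj' L hsB]
    have h2 := PushEnd.mem_map_conj (t := s) p.pt.1
    rwa [fix_z p (toNL hX) hsB] at h2
  have h1 := hX.pt p.h hbl ⟨zl B L, p.h.two.to_le (DBlkApi.zl_le_B p.h), hzl1, hLX, hLX'⟩ p.pt hpz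
  rw [PushEnd.vl_conj' L hsB] at h1
  exact VModule.mem_normalizer_of_map_le h1.ge

/-- Case II.2.i: impossible. -/
theorem case_norm (p : Pair (bau (S : Subgroup G)) L L' k k' z a b)
    (hX : LX (S : Subgroup G)) {c : G}
    (hc : IsC (bau (S : Subgroup G)) L c)
    (hSX : (S : Subgroup G) ≤ normalizer (zl (bau (S : Subgroup G)) L : Set G))
    (hSc : ∀ x ∈ (S : Subgroup G), x ∈ bau (S : Subgroup G) ∨ x * c * x⁻¹ = c * z) :
    (S : Subgroup G) ≤ bau (S : Subgroup G) := by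
  have hf : Fact (Nat.Prime 2) := ⟨Nat.prime_two⟩
  set B := bau (S : Subgroup G) with hB
  set V := vl B L with hV
  intro s hs
  by_contra hsB
  have hnV : ∀ x ∈ (S : Subgroup G), x ∈ normalizer (V : Set G) := fun x hx =>
    norm_vl p hX hSX hx
  have hBS : B ≤ (S : Subgroup G) := ChoiceBase.bau_le _
  have hzz := p.pt.mul_self
  have hcV : ∀ v ∈ V, v * c = c * v := fun v hv => zc_comm hc.1.1 (vl_le_B p.h hv)
  -- replace `s` by an element centralising `V`
  obtain ⟨t, ht, htB, htV⟩ : ∃ t ∈ (S : Subgroup G), t ∉ B ∧ t ∈ centralizer (V : Set G) := by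
    have hzs : ∀ x ∈ (S : Subgroup G), x * z * x⁻¹ = z := fun x hx =>
      fix_z p (toNL hX) (le_normalizer_bau _ hx)
    rcases Four.fix_dichotomy p.h.card_vl (vl_sq p.h) p.pt.1 p.aV p.pt.2.2 p.a1 p.az.symm
      (hnV s hs) (hzs s hs) with h1 | h1
    · exact ⟨s, hs, hsB, Four.cent_of_two p.h.card_vl (vl_sq p.h) p.pt.1 p.aV p.pt.2.2 p.a1
        p.az.symm (hzs s hs) h1⟩
    · have h2 : s * b ∈ (S : Subgroup G) := mul_mem hs (hBS p.bB)
      refine ⟨s * b, h2, fun h3 => hsB ?_, Four.cent_of_two p.h.card_vl (vl_sq p.h) p.pt.1 p.aV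
        p.pt.2.2 p.a1 p.az.symm (hzs _ h2) ?_⟩
      · have h4 : s = (s * b) * b⁻¹ := by group
        rw [h4]; exact mul_mem h3 (inv_mem p.bB)
      · calc s * b * a * (s * b)⁻¹ = s * (b * a * b⁻¹) * s⁻¹ := by group
          _ = (s * z * s⁻¹) * (s * a * s⁻¹) := by rw [p.bab]; group
          _ = z * (z * a) := by rw [hzs s hs, h1]
          _ = (z * z) * a := by group
          _ = a := by rw [hzz, one_mul]
  have htc : t * c * t⁻¹ = c * z := (hSc t ht).resolve_left htB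
  have hcz : c * z = z * c := (hcV z p.pt.1).symm
  -- the conjugate `r = y t y⁻¹`
  obtain ⟨y, hy, h0, h1, h2, h3, h4⟩ := p.h.dih
  set w := y * z * y⁻¹ with hw
  have hwV : w ∈ V := Four.conj_mem (le_normalizer_vl B L hy) p.pt.1
  have hw1 : w ≠ 1 := fun h => p.pt.2.2 (conj_eq_one_iff.mp h)
  have hwz : w ≠ z := fun h => p.pt.2.2 (h3 z p.pt.1 h)
  set r := y * t * y⁻¹ with hr
  have hrc : r * c * r⁻¹ * c⁻¹ = w := by
    have e1 : y * c * y⁻¹ = c := rl_conj hc.1 hy
    have e2 : y⁻¹ * c * y = c := by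
      have := rl_conj hc.1 (inv_mem hy)
      rwa [inv_inv] at this
    calc r * c * r⁻¹ * c⁻¹ = y * (t * (y⁻¹ * c * y) * t⁻¹) * y⁻¹ * c⁻¹ := by rw [hr]; group
      _ = y * (c * z) * y⁻¹ * c⁻¹ := by rw [e2, htc]
      _ = y * (z * c) * y⁻¹ * c⁻¹ := by rw [hcz]
      _ = (y * z * y⁻¹) * (y * c * y⁻¹) * c⁻¹ := by group
      _ = w := by rw [e1, hw]; group
  have hrV : r ∈ centralizer (V : Set G) := by
    rw [Four.mem_cent_iff]
    intro v hv
    have h5 : y⁻¹ * v * y ∈ V := Four.conj_mem' (le_normalizer_vl B L hy) hv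
    calc r * v * r⁻¹ = y * (t * (y⁻¹ * v * y) * t⁻¹) * y⁻¹ := by rw [hr]; group
      _ = y * (y⁻¹ * v * y) * y⁻¹ := by rw [Four.mem_cent_iff.mp htV _ h5]
      _ = v := by group
  have hrK : r ∈ kk V c := ⟨hrV, by rw [hrc]; exact hwV⟩
  -- `S` normalises `K`
  have hcS : ∀ x ∈ (S : Subgroup G), x * c * x⁻¹ = c ∨ x * c * x⁻¹ = c * z := by
    intro x hx
    rcases hSc x hx with h5 | h5
    · left; exact Four.conj_eq_iff_comm.mpr (zc_comm hc.1.1 h5)
    · right; exact h5
  have hKn : (S : Subgroup G) ≤ normalizer ((kk V c : Subgroup G) : Set G) := by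
    intro x hx
    refine VModule.mem_normalizer_of_map_le ?_
    rintro _ ⟨q, ⟨hq1, hq2⟩, rfl⟩
    change x * q * x⁻¹ ∈ kk V c
    have h5 : x * q * x⁻¹ ∈ centralizer (V : Set G) := by
      rw [Four.mem_cent_iff]
      intro v hv
      have h6 : x⁻¹ * v * x ∈ V := Four.conj_mem' (hnV x hx) hv
      calc x * q * x⁻¹ * v * (x * q * x⁻¹)⁻¹ = x * (q * (x⁻¹ * v * x) * q⁻¹) * x⁻¹ := by group
        _ = x * (x⁻¹ * v * x) * x⁻¹ := by rw [Four.mem_cent_iff.mp hq1 _ h6]
        _ = v := by group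
    refine ⟨h5, ?_⟩
    have h6 : x * (q * c * q⁻¹ * c⁻¹) * x⁻¹ ∈ V := Four.conj_mem (hnV x hx) hq2
    have h7 : x * (q * c * q⁻¹ * c⁻¹) * x⁻¹ =
        (x * q * x⁻¹) * (x * c * x⁻¹) * (x * q * x⁻¹)⁻¹ * (x * c * x⁻¹)⁻¹ := by group
    rw [h7] at h6
    rcases hcS x hx with h8 | h8
    · rwa [h8] at h6
    · rw [h8] at h6
      have h9 := Four.mem_cent_iff.mp h5 _ p.pt.1
      have h10 : (x * q * x⁻¹) * (c * z) * (x * q * x⁻¹)⁻¹ * (c * z)⁻¹ =
          (x * q * x⁻¹) * c * (x * q * x⁻¹)⁻¹ * c⁻¹ := by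
        calc (x * q * x⁻¹) * (c * z) * (x * q * x⁻¹)⁻¹ * (c * z)⁻¹
            = (x * q * x⁻¹) * c * (x * q * x⁻¹)⁻¹ * ((x * q * x⁻¹) * z * (x * q * x⁻¹)⁻¹) *
                (c * z)⁻¹ := by group
          _ = (x * q * x⁻¹) * c * (x * q * x⁻¹)⁻¹ * z * (c * z)⁻¹ := by rw [h9]
          _ = _ := by group
      rwa [h10] at h6
  -- a conjugate of `r` lies in `S`
  have hSyl : ChoiceSit.Syl (S : Subgroup G) (kk V c ⊔ S : Subgroup G) :=
    ⟨le_sup_right, S.isPGroup', fun Q _ hQ hSQ => S.is_maximal' hQ hSQ⟩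
  have hr2 : IsPGroup 2 (zpowers r) := by
    have h5 : zpowers t ≤ (S : Subgroup G) := zpowers_le.mpr ht
    have h6 : IsPGroup 2 (zpowers t) := S.isPGroup'.to_le h5
    have h7 : zpowers r = (zpowers t).map (MulAut.conj y).toMonoidHom := by
      rw [MonoidHom.map_zpowers]
      rfl
    rw [h7]
    exact h6.map _
  obtain ⟨P, hP, hrP⟩ := ChoiceSit.exists_syl hr2
    ((zpowers_le.mpr hrK).trans (le_sup_left : kk V c ≤ kk V c ⊔ S))
  obtain ⟨x, hx, hxP⟩ := ChoiceSit.syl_conj hSyl hP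
  have h5 : x⁻¹ * r * x ∈ (S : Subgroup G) := by
    rw [← ChoiceBase.mem_cj, hxP]
    exact hrP (mem_zpowers r)
  have hx' : x ∈ ((kk V c ⊔ (S : Subgroup G) : Subgroup G) : Set G) := hx
  rw [Subgroup.coe_mul_of_right_le_normalizer_left _ _ hKn] at hx'
  obtain ⟨q, hq, σ, hσ, rfl⟩ := hx'
  have h6 : q⁻¹ * r * q ∈ (S : Subgroup G) := by
    have e : q⁻¹ * r * q = σ * ((q * σ)⁻¹ * r * (q * σ)) * σ⁻¹ := by group
    rw [e]
    exact mul_mem (mul_mem hσ h5) (inv_mem hσ)
  have h7 : (q⁻¹ * r * q) * c * (q⁻¹ * r * q)⁻¹ * c⁻¹ = w := by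
    -- `[q⁻¹ r q, c] = [r, c]`
    have hq1 : q⁻¹ ∈ centralizer (V : Set G) := inv_mem hq.1
    set d := q * c * q⁻¹ * c⁻¹ with hd
    have hdV : d ∈ V := hq.2
    have e1 : q * c * q⁻¹ = d * c := by rw [hd]; group
    have e2 : q⁻¹ * c⁻¹ * q = (q⁻¹ * c * q)⁻¹ := by group
    -- `q⁻¹ c q = c d⁻¹`
    have e3 : q⁻¹ * c * q = d⁻¹ * c := by
      have e4 := Four.mem_cent_iff.mp hq1 _ (inv_mem hdV)
      calc q⁻¹ * c * q = q⁻¹ * d⁻¹ * (d * c) * q := by group
        _ = q⁻¹ * d⁻¹ * (q * c * q⁻¹) * q := by rw [e1]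
        _ = (q⁻¹ * d⁻¹ * q⁻¹⁻¹) * c := by group
        _ = d⁻¹ * c := by rw [e4]
    have e5 := Four.mem_cent_iff.mp hrV _ hdV
    calc (q⁻¹ * r * q) * c * (q⁻¹ * r * q)⁻¹ * c⁻¹
        = q⁻¹ * (r * (q * c * q⁻¹) * r⁻¹) * q * c⁻¹ := by group
      _ = q⁻¹ * ((r * d * r⁻¹) * (r * c * r⁻¹ * c⁻¹) * c) * q * c⁻¹ := by rw [e1]; group
      _ = q⁻¹ * (d * w * c) * q * c⁻¹ := by rw [e5, hrc]
      _ = (q⁻¹ * (d * w) * q⁻¹⁻¹) * (q⁻¹ * c * q) * c⁻¹ := by group
      _ = (d * w) * (d⁻¹ * c) * c⁻¹ := by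
          rw [Four.mem_cent_iff.mp hq1 _ (mul_mem hdV hwV), e3]
      _ = (d * w) * d⁻¹ := by group
      _ = w := by
          rw [Four.comm_of_sq (vl_sq p.h) hdV hwV]; group
  rcases hcS _ h6 with h8 | h8
  · rw [h8, mul_inv_cancel] at h7
    exact hw1 h7.symm
  · rw [h8, hcz, mul_assoc, mul_inv_cancel, mul_one] at h7
    exact hwz h7.symm


/-- **3.1**, two dihedral blocks. -/
theorem result (hX : LX (S : Subgroup G)) (h : IsDBlk (bau (S : Subgroup G)) L k)
    (h' : IsDBlk (bau (S : Subgroup G)) L' k')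
    (hn : ∃ u ∈ vl (bau (S : Subgroup G)) L, ∃ w ∈ vl (bau (S : Subgroup G)) L',
      u * w ≠ w * u) : PRankLE 2 2 G ∨ ∃ N : Subgroup G, N.Normal ∧ N.index = 2 := by
  obtain ⟨a, ha, b, hb, hab⟩ := hn
  obtain ⟨z, p⟩ := exists_pair h h' ha hb hab
  have hzc := PushEnd.card_zc h
  have hpos : 0 < Nat.card (rl (bau (S : Subgroup G)) L) := Nat.card_pos
  have h4 := (bone p (toNL hX)).2.2.2
  by_cases h1 : Nat.card (rl (bau (S : Subgroup G)) L) = 1
  · exact Or.inl (case_one p (toNL hX) h1)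
  right
  have h2 : Nat.card (rl (bau (S : Subgroup G)) L) = 2 := by omega
  have h4' : Nat.card (zc (bau (S : Subgroup G))) = 4 := by omega
  obtain ⟨c, hc⟩ := Pair.exists_c h2
  have hcS : ∀ x ∈ (S : Subgroup G), x ∈ bau (S : Subgroup G) ∨ x * c * x⁻¹ = c * z := by
    intro x hx
    have hxB : x ∈ normalizer ((bau (S : Subgroup G) : Subgroup G) : Set G) :=
      le_normalizer_bau _ hx
    have hz := fix_z p (toNL hX) hxB
    have h5 : x * c * x⁻¹ ∈ zc (bau (S : Subgroup G)) := PushEnd.zc_conj' hxB hc.1.1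
    rcases zc_cases p (toNL hX) hc.1 hc.2.1 h5 with h6 | h6 | h6 | h6
    · exact absurd (conj_eq_one_iff.mp h6) hc.2.1
    · exfalso
      rw [← hz] at h6
      have h7 : c = z := mul_left_cancel (mul_right_cancel h6)
      exact pt_notMem_rl h p.pt (h7 ▸ hc.1)
    · left
      rw [ChoiceBase.mem_bau]
      refine ⟨hx, ?_⟩
      rw [← ChoiceBase.zc_bau]
      refine comm_zc p (toNL hX) hxB ?_
      rw [mem_centralizer_iff]
      intro y hy
      rcases hc.2.2 y hy with rfl | rfl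
      · rw [one_mul, mul_one]
      · exact (Four.conj_eq_iff_comm.mp h6).symm
    · exact Or.inr h6
  have hsq : ∀ x ∈ (S : Subgroup G), x * x ∈ bau (S : Subgroup G) := by
    intro x hx
    rcases hcS x hx with h5 | h5
    · exact mul_mem h5 h5
    · rcases hcS _ (mul_mem hx hx) with h6 | h6
      · exact h6
      · exfalso
        have hz := fix_z p (toNL hX) (le_normalizer_bau (S : Subgroup G) hx)
        have h7 : x * x * c * (x * x)⁻¹ = c := by
          calc x * x * c * (x * x)⁻¹ = x * (x * c * x⁻¹) * x⁻¹ := by group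
            _ = x * (c * z) * x⁻¹ := by rw [h5]
            _ = (x * c * x⁻¹) * (x * z * x⁻¹) := by group
            _ = c * z * z := by rw [h5, hz]
            _ = c := by rw [mul_assoc, p.pt.mul_self, mul_one]
        rw [h6] at h7
        exact p.pt.2.2 (mul_eq_left.mp h7)
  by_cases hne : ∃ t ∈ (S : Subgroup G), ∃ v ∈ zl (bau (S : Subgroup G)) L,
      ∃ u ∈ zl (bau (S : Subgroup G)) L, v * (t * u * t⁻¹) ≠ (t * u * t⁻¹) * v
  · obtain ⟨t, ht, hne⟩ := hne
    exact case_swap p (toNL hX) h4' ht (hsq t ht) hne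
  · push Not at hne
    have hSX : (S : Subgroup G) ≤ normalizer (zl (bau (S : Subgroup G)) L : Set G) := by
      intro t ht
      refine VModule.mem_normalizer_of_map_le ?_
      rintro _ ⟨u, hu, rfl⟩
      change t * u * t⁻¹ ∈ _
      have htB : t ∈ normalizer ((bau (S : Subgroup G) : Subgroup G) : Set G) :=
        le_normalizer_bau _ ht
      rw [← (bone p (toNL hX)).1, ← h.cent_zl]
      refine ⟨Four.conj_mem htB (zl_le_B h hu), ?_⟩
      change _ ∈ centralizer _
      rw [mem_centralizer_iff]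
      exact fun v hv => hne t ht v hv u hu
    exact case_transfer p (toNL hX) hc (case_norm p hX hc hSX hcS)


end pair

end Cfsg.Agent.MinSimple.TwoBlk.NS
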