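import Cfsg.Agent.OddCyclic.RedPl
import Cfsg.Agent.OddCyclic.RedTwo
import Cfsg.Agent.OddCyclic.RedSame

/-!
# S0342, case (C2): the context of the reduction

`Ctx S`: `G` of characteristic 2 type with cyclic odd Sylow subgroups, the types of the 2-local subgroups are known
(`RedTy.TyY`), `O₂(G) = 1`.

* `exists_ty`: a 2-local `N_G(U)` over `bau S` has a Sylow 2-subgroup `T ≥ bau S` and a type;
* `cases_of_blk`, `fiv_of_two`: the types of a 2-local with a dihedral block, with two planes;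
* `lx`: Lemma X (`Red.LX`);
-/

set_option autoImplicit false

namespace Cfsg.Agent.OddCyclic.RedCtx

open Subgroup Cfsg Cfsg.Agent.ZN Cfsg.Agent.ZN.ChoiceBase Cfsg.Agent.MinSimple Cfsg.Agent.MinSimple.DBlkApi
open Cfsg.Agent.OddCyclic.RedTy Cfsg.Agent.OddCyclic.Red
open Cfsg.Agent.OddCyclic.COneDefs (LBlk)
open Cfsg.Agent.OddCyclic.RedX (mod Loc IsB)
open Cfsg.Agent.OddCyclic.T1Defs (OddCyc)

universe u

variable {G : Type u} [Group G]

/-- the context of the reduction of (C2) -/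
structure Ctx (S : Sylow 2 G) : Prop where
  cyc : OddCyc G
  char2 : IsCharacteristicTwoType G
  core : ∀ R : Subgroup G, IsPGroup 2 R → R.Normal → R = ⊥
  ty : ∀ X T Y : Subgroup G, X ≠ ⊤ → YC X T Y → TyY X T Y

variable [Finite G] {S : Sylow 2 G}

theorem Ctx.ne_top (c : Ctx S) {U : Subgroup G} (hU : IsPGroup 2 U) (hU1 : U ≠ ⊥) : normalizer (U : Set G) ≠ ⊤ :=
  fun h => hU1 (c.core U hU (normalizer_eq_top_iff.1 h))

theorem Ctx.loc (c : Ctx S) {U T : Subgroup G} (hU : IsPGroup 2 U) (hU1 : U ≠ ⊥)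
    (hT : ChoiceSit.Syl T (normalizer (U : Set G))) : Loc (normalizer (U : Set G)) T :=
  ⟨Basic.char2_normalizer c.char2 hU hU1, hT.2.1, hT.1, ChoiceSit.syl_not_dvd hT⟩

/-- a 2-local over `bau S` has a type -/
theorem Ctx.exists_ty (c : Ctx S) {U : Subgroup G} (hU : IsPGroup 2 U) (hU1 : U ≠ ⊥)
    (hB : bau (S : Subgroup G) ≤ normalizer (U : Set G)) :
    ∃ T : Subgroup G, bau (S : Subgroup G) ≤ T ∧ bau T = bau (S : Subgroup G) ∧ Loc (normalizer (U : Set G)) T ∧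
      Ty (normalizer (U : Set G)) T := by
  obtain ⟨T, hT, hBT⟩ := ChoiceSit.exists_syl (S.isPGroup'.to_le (ChoiceBase.bau_le _)) hB
  exact ⟨T, hBT, SamePt.bau_eq S hT.2.1 hBT, c.loc hU hU1 hT, c.ty _ _ _ (c.ne_top hU hU1) (yc_mod (c.loc hU hU1 hT))⟩

/-- a 2-local over `S` has a type with respect to `S` -/
theorem Ctx.ty_syl (c : Ctx S) {U : Subgroup G} (hU : IsPGroup 2 U) (hU1 : U ≠ ⊥)
    (hS : (S : Subgroup G) ≤ normalizer (U : Set G)) :
    Loc (normalizer (U : Set G)) S ∧ Ty (normalizer (U : Set G)) S := by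
  have hT : ChoiceSit.Syl (S : Subgroup G) (normalizer (U : Set G)) :=
    ⟨hS, S.isPGroup', fun Q _ hQ2 hSQ => S.3 hQ2 hSQ⟩
  exact ⟨c.loc hU hU1 hT, c.ty _ _ _ (c.ne_top hU hU1) (yc_mod (c.loc hU hU1 hT))⟩

/-- a 2-local with a dihedral block is not of type `zero` -/
theorem not_zero {X T L Y : Subgroup G} {k : ℕ} (hY : YC X T Y) (hLX : L ≤ X) (h : IsDBlk (bau T) L k) :
    ¬ jj T ≤ centralizer (Y : Set G) := by
  intro h0
  obtain ⟨b, hb, v, hv, hne⟩ := (plane_vl h).moved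
  have hvY := hY.vl_le L hLX (Or.inl ⟨k, h⟩) hv
  exact hne (RedPl.bau_fix hY hvY (fun a ha => (mem_centralizer_iff.1 (h0 ha) v hvY).symm) b hb)

/-- the types of a 2-local with a dihedral block -/
theorem cases_of_blk {X T L Y : Subgroup G} {k : ℕ} (hY : YC X T Y) (ht : TyY X T Y) (hLX : L ≤ X)
    (h : IsDBlk (bau T) L k) : (∃ V, TriY X T Y V) ∨ (∃ N V z, SevY X T Y N V z) ∨
      ∃ (U : Subgroup G) (φ : X →* Equiv.Perm (Fin 5)) (e : Fin 5 → Fin 5 → G), FivY X T Y U φ e := by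
  cases ht with
  | zero h0 => exact absurd h0 (not_zero hY hLX h)
  | tri V h1 => exact Or.inl ⟨V, h1⟩
  | sev N V z h1 => exact Or.inr (Or.inl ⟨N, V, z, h1⟩)
  | fiv U φ e h1 => exact Or.inr (Or.inr ⟨U, φ, e, h1⟩)
  | lin L' q h1 => exact absurd h (h1.nodih L k hLX)
  | bc L' h1 => exact absurd (Or.inl ⟨k, h⟩) (h1.noblk L hLX)

/-- the type of a 2-local with two planes -/
theorem fiv_of_two {X T L L' Y : Subgroup G} {k k' : ℕ} (hY : YC X T Y) (ht : TyY X T Y) (hLX : L ≤ X) (hLX' : L' ≤ X)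
    (h : IsDBlk (bau T) L k) (h' : IsDBlk (bau T) L' k') (hne : vl (bau T) L ≠ vl (bau T) L') :
    ∃ (U : Subgroup G) (φ : X →* Equiv.Perm (Fin 5)) (e : Fin 5 → Fin 5 → G), FivY X T Y U φ e := by
  rcases cases_of_blk hY ht hLX h with ⟨V, h1⟩ | ⟨N, V, z, h1⟩ | h1
  · exact absurd ((h1.only L k hLX h).trans (h1.only L' k' hLX' h').symm) hne
  · exact absurd ((h1.only L k hLX h).trans (h1.only L' k' hLX' h').symm) hne
  · exact h1

/-- a 2-local with a dihedral block contains no `SL₂(q)`-block -/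
theorem nolin_of_blk {X T L L' Y : Subgroup G} {k q : ℕ} (hY : YC X T Y) (ht : TyY X T Y) (hLX : L ≤ X)
    (h : IsDBlk (bau T) L k) (hLX' : L' ≤ X) : ¬ LBlk (bau T) L' q := by
  rcases cases_of_blk hY ht hLX h with ⟨V, h1⟩ | ⟨N, V, z, h1⟩ | ⟨U, φ, e, h1⟩
  · exact h1.nolin L' q hLX'
  · exact h1.nolin L' q hLX'
  · exact h1.nolin L' q hLX'

/-! ### type (S5) -/

section fiv

variable {X T Y U : Subgroup G} {φ : X →* Equiv.Perm (Fin 5)} {e : Fin 5 → Fin 5 → G} (h : FivY X T Y U φ e)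

include h

theorem fiv_comm {x y : G} (hx : x ∈ U) (hy : y ∈ U) : x * y = y * x :=
  Cfsg.Agent.LieExceptional.CITDefs.Elem.comm (A := U) h.sq hx hy

theorem p1_le : closure {e 0 1, e 0 4} ≤ U := by
  rw [closure_le]
  rintro x (rfl | rfl)
  · exact h.mem _ _
  · exact h.mem _ _

theorem p2_le : closure {e 2 3, e 2 4} ≤ U := by
  rw [closure_le]
  rintro x (rfl | rfl)
  · exact h.mem _ _
  · exact h.mem _ _

/-- a block of `X` has its plane in `U` -/
theorem vl_le_U {L : Subgroup G} {k : ℕ} (hLX : L ≤ X) (hL : IsDBlk (bau T) L k) : vl (bau T) L ≤ U := by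
  rcases h.only L k hLX hL with ⟨h1, -⟩ | ⟨h1, -⟩
  · rw [h1]; exact p1_le h
  · rw [h1]; exact p2_le h

end fiv

/-! ### Lemma X -/

/-- two blocks over `bau S` in a common 2-local -/
theorem Ctx.common (c : Ctx S) {L L' : Subgroup G} {k k' : ℕ} (h : IsDBlk (bau (S : Subgroup G)) L k)
    (h' : IsDBlk (bau (S : Subgroup G)) L' k') (hl : Loc2 L L')
    (hne : vl (bau (S : Subgroup G)) L ≠ vl (bau (S : Subgroup G)) L') :
    ∃ (X T U : Subgroup G) (φ : X →* Equiv.Perm (Fin 5)) (e : Fin 5 → Fin 5 → G), X ≠ ⊤ ∧ L ≤ X ∧ L' ≤ X ∧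
      bau (S : Subgroup G) ≤ T ∧ bau T = bau (S : Subgroup G) ∧ Loc X T ∧ Fiv X T U φ e := by
  obtain ⟨R, hR, hR1, h1, h2⟩ := hl
  obtain ⟨T, hBT, hb, hloc, ht⟩ := c.exists_ty hR hR1 (h.le.trans h1)
  rw [← hb] at h h' hne
  obtain ⟨U, φ, e, hf⟩ := fiv_of_two (yc_mod hloc) ht h1 h2 h h' hne
  exact ⟨_, T, U, φ, e, c.ne_top hR hR1, h1, h2, hBT, hb, hloc, hf⟩

theorem Ctx.lx (c : Ctx S) : LX (S : Subgroup G) where
  char2 := c.char2
  comm := fun L L' k k' h h' hl v hv w hw => by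
    by_cases hne : vl (bau (S : Subgroup G)) L = vl (bau (S : Subgroup G)) L'
    · rw [← hne] at hw
      exact Four.comm_of_sq (vl_sq h) hv hw
    obtain ⟨X, T, U, φ, e, -, h1, h2, -, hb, -, hf⟩ := c.common h h' hl hne
    rw [← hb] at h h' hv hw
    exact fiv_comm hf (vl_le_U hf h1 h hv) (vl_le_U hf h2 h' hw)
  indep := fun L L' k k' h h' hl hne z hz => by
    obtain ⟨X, T, U, φ, e, -, h1, h2, -, hb, -, hf⟩ := c.common h h' hl hne
    rw [← hb] at h h' hne hz ⊢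
    rcases hf.only L k h1 h with ⟨a1, a2, a3⟩ | ⟨a1, a2, a3⟩ <;>
      rcases hf.only L' k' h2 h' with ⟨b1, b2, b3⟩ | ⟨b1, b2, b3⟩
    · exact absurd (a1.trans b1.symm) hne
    · rw [IsPt.unique h' b2 hz]; exact a3
    · rw [IsPt.unique h' b2 hz]; exact a3
    · exact absurd (a1.trans b1.symm) hne

/-- 3.1: the planes of the blocks over `bau S` commute -/
theorem Ctx.allComm (c : Ctx S) (hr : ¬ PRankLE 2 2 G) (hi : ∀ N : Subgroup G, N.Normal → N.index ≠ 2) :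
    SamePt.AllComm (bau (S : Subgroup G)) := by
  intro L L' k k' h h'
  by_contra hcon
  push Not at hcon
  rcases TwoBlk.NS.result c.lx h h' hcon with h1 | ⟨N, hN, h2⟩
  · exact hr h1
  · exact hi N hN h2

end Cfsg.Agent.OddCyclic.RedCtx
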