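import Cfsg.Agent.OddCyclic.APB
import Cfsg.Agent.OddCyclic.APQMix
import Cfsg.Agent.OddCyclic.AOnePair
import Cfsg.Agent.OddCyclic.RedTwo
import Cfsg.Agent.OddCyclic.RedCtx

/-!
# S0342, case C2: the interface `LX`, commuting planes, (C) and 4'

From the types of the 2-local subgroups (`APB.TyA`):
* `lx_of_ty`: `LX S`; `allComm`: the planes over `bau S` commute;
* `not_mixed` (5'): a dihedral block and an `SL₂(q)`-block over `bau S` do not coexist;
* `zl_eq` (4'): two `SL₂`-blocks over `bau S` have the same module.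
-/

set_option autoImplicit false
set_option linter.unusedSectionVars false

namespace Cfsg.Agent.OddCyclic.APC

open Subgroup Cfsg Cfsg.Agent.ZN Cfsg.Agent.ZN.ChoiceBase Cfsg.Agent.MinSimple Cfsg.Agent.MinSimple.DBlkApi
open Cfsg.Agent.MinSimple.SamePt (isPt_conj AllComm le_normalizer)
open Cfsg.Agent.OddCyclic.Red Cfsg.Agent.OddCyclic.APASyl Cfsg.Agent.OddCyclic.RedTy Cfsg.Agent.OddCyclic.APB
open Cfsg.Agent.OddCyclic.COneDefs (LBlk)
open Cfsg.Agent.OddCyclic.T1Defs (OddCyc)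

universe u

variable {G : Type u} [Group G] [Finite G]
variable {S : Sylow 2 G} {L L' : Subgroup G} {k k' q q' : ℕ}

/-- the hypotheses of the reduction -/
structure Hyp (G : Type u) [Group G] : Prop where
  simple : IsSimpleGroup G
  cyc : OddCyc G
  char2 : IsCharacteristicTwoType G
  rank : ¬ PRankLE 2 2 G
  six : ∃ g : G, orderOf g = 6
  ty : TyA G

/-- a Sylow 2-subgroup over `bau S` of a 2-local subgroup -/
theorem exists_loc (hch : IsCharacteristicTwoType G) {X : Subgroup G} (hX2 : IsTwoLocal X)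
    (hB : bau (S : Subgroup G) ≤ X) : ∃ T, RedX.Loc X T ∧ bau T = bau (S : Subgroup G) := by
  obtain ⟨T, hT, hBT⟩ := ChoiceSit.exists_syl ((S.2.to_le (ChoiceBase.bau_le _))) hB
  have hb : bau T = bau (S : Subgroup G) := SamePt.bau_eq S hT.2.1 hBT
  exact ⟨T, ⟨ChoiceSit.self_cent hch hX2, hT.2.1, hT.1, ChoiceSit.syl_not_dvd hT⟩, hb⟩

theorem bau_bau : bau (bau (S : Subgroup G)) = bau (S : Subgroup G) :=
  SamePt.bau_eq S (S.2.to_le (ChoiceBase.bau_le _)) le_rfl

/-! ### `LX` -/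

/-- a 2-local with two different planes over `B` has type (S5) -/
theorem fiv_of_local' (hch : IsCharacteristicTwoType G) (hty : TyA G) {X : Subgroup G} (hX2 : IsTwoLocal X)
    (h : IsDBlk (bau (S : Subgroup G)) L k) (h' : IsDBlk (bau (S : Subgroup G)) L' k') (hLX : L ≤ X) (hLX' : L' ≤ X)
    (hne : vl (bau (S : Subgroup G)) L ≠ vl (bau (S : Subgroup G)) L') :
    ∃ (T U : Subgroup G) (φ : X →* Equiv.Perm (Fin 5)) (e : Fin 5 → Fin 5 → G), RedX.Loc X T ∧
      bau T = bau (S : Subgroup G) ∧ Fiv X T U φ e := by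
  obtain ⟨T, hL, hb⟩ := exists_loc hch hX2 (h.le.trans hLX)
  rw [← hb] at h h' hne
  have ht := hty X T hX2 hL
  cases ht with
  | zero h0 =>
    exfalso
    apply h.not_jj_le
    rw [ChoiceBase.jj_bau]
    intro a ha
    refine mem_o2_of_cent h (ChoiceBase.jj_le_bau T ha) (mem_centralizer_iff.2 fun v hv => ?_)
    exact mem_centralizer_iff.1 (h0 ha) v (RedX.vl_le_mod hLX (Or.inl ⟨k, h⟩) hv)
  | tri V h0 => exact absurd ((h0.only L k hLX h).trans (h0.only L' k' hLX' h').symm) hne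
  | sev N V z h0 => exact absurd ((h0.only L k hLX h).trans (h0.only L' k' hLX' h').symm) hne
  | fiv U φ e h0 => exact ⟨T, U, φ, e, hL, hb, h0⟩
  | lin L₁ q h0 => exact absurd h (h0.nodih L k hLX)
  | bc L₁ h0 => exact absurd (Or.inl ⟨k, h⟩) (h0.noblk L hLX)

theorem lx_of_ty (hch : IsCharacteristicTwoType G) (hty : TyA G) (S : Sylow 2 G) : LX (S : Subgroup G) where
  char2 := hch
  comm := by
    rintro L L' k k' h h' ⟨U, hU, hU1, hLU, hLU'⟩ v hv w hw
    have hX2 : IsTwoLocal (normalizer (U : Set G)) := ⟨U, hU, hU1, rfl⟩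
    obtain ⟨T, hL, hb⟩ := exists_loc hch hX2 (h.le.trans hLU)
    rw [← hb] at h h' hv hw
    have h1 := RedX.vl_le_zc_o2 hL hLU (Or.inl ⟨k, h⟩) hv
    have h2 := RedX.vl_le_zc_o2 hL hLU' (Or.inl ⟨k', h'⟩) hw
    exact zc_comm h2 (ZN.zc_le _ h1)
  indep := by
    rintro L L' k k' h h' ⟨U, hU, hU1, hLU, hLU'⟩ hne z hz
    have hX2 : IsTwoLocal (normalizer (U : Set G)) := ⟨U, hU, hU1, rfl⟩
    obtain ⟨T, U', φ, e, hL, hb, h0⟩ := fiv_of_local' hch hty hX2 h h' hLU hLU' hne
    rw [← hb] at h h' hz hne ⊢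
    rcases h0.only L k hLU h with ⟨h1, h2, h3⟩ | ⟨h1, h2, h3⟩ <;>
      rcases h0.only L' k' hLU' h' with ⟨h4, h5, h6⟩ | ⟨h4, h5, h6⟩
    · exact absurd (h1.trans h4.symm) hne
    · rw [IsPt.unique h' h5 hz]; exact h3
    · rw [IsPt.unique h' h5 hz]; exact h3
    · exact absurd (h1.trans h4.symm) hne

theorem Hyp.lx (H : Hyp G) (S : Sylow 2 G) : LX (S : Subgroup G) := lx_of_ty H.char2 H.ty S

theorem Hyp.nontriv (H : Hyp G) : ∃ a b : G, a * b ≠ b * a := by
  by_contra hcon
  push Not at hcon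
  obtain ⟨g, hg⟩ := H.six
  have := H.simple
  let _ : CommGroup G := { (inferInstance : Group G) with mul_comm := hcon }
  have h1 : (Nat.card G).Prime := (inferInstance : IsSimpleGroup G).prime_card
  have h2 : orderOf g ∣ Nat.card G := orderOf_dvd_natCard g
  rw [hg] at h2
  have h3 := (Nat.Prime.eq_one_or_self_of_dvd h1 6 h2).resolve_left (by norm_num)
  rw [← h3] at h1
  norm_num at h1

theorem Hyp.not_index_two (H : Hyp G) : ¬ ∃ N : Subgroup G, N.Normal ∧ N.index = 2 := by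
  rintro ⟨N, hN, hi⟩
  have := H.simple
  rcases hN.eq_bot_or_eq_top with h | h
  · rw [h, index_bot] at hi
    obtain ⟨g, hg⟩ := H.six
    have h2 : orderOf g ∣ Nat.card G := orderOf_dvd_natCard g
    rw [hg, hi] at h2
    omega
  · rw [h, index_top] at hi
    omega

/-- **3.1** the planes over `bau S` commute -/
theorem Hyp.allComm (H : Hyp G) (S : Sylow 2 G) : AllComm (bau (S : Subgroup G)) := by
  intro L L' k k' h h' v hv w hw
  by_contra hne
  rcases Cfsg.Agent.MinSimple.TwoBlk.NS.result (H.lx S) h h' ⟨v, hv, w, hw, hne⟩ with h1 | h1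
  · exact H.rank h1
  · exact H.not_index_two h1

/-! ### (C) -/

/-- no 2-local contains blocks of both kinds over `bau S` -/
theorem not_both_of_local (hch : IsCharacteristicTwoType G) (hty : TyA G) {X : Subgroup G} (hX2 : IsTwoLocal X)
    (h : IsDBlk (bau (S : Subgroup G)) L k) (h' : LBlk (bau (S : Subgroup G)) L' q) (hLX : L ≤ X) (hLX' : L' ≤ X) :
    False := by
  obtain ⟨T, hL, hb⟩ := exists_loc hch hX2 (h.le.trans hLX)
  rw [← hb] at h h'
  have ht := hty X T hX2 hL
  cases ht with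
  | zero h0 =>
    apply h.not_jj_le
    rw [ChoiceBase.jj_bau]
    intro a ha
    refine mem_o2_of_cent h (ChoiceBase.jj_le_bau T ha) (mem_centralizer_iff.2 fun v hv => ?_)
    exact mem_centralizer_iff.1 (h0 ha) v (RedX.vl_le_mod hLX (Or.inl ⟨k, h⟩) hv)
  | tri V h0 => exact h0.nolin L' q hLX' h'
  | sev N V z h0 => exact h0.nolin L' q hLX' h'
  | fiv U φ e h0 => exact h0.nolin L' q hLX' h'
  | lin L₁ q h0 => exact h0.nodih L k hLX h
  | bc L₁ h0 => exact h0.noblk L hLX (Or.inl ⟨k, h⟩)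

/-- elements of odd order of `N_G(B)` normalise the planes over `B = bau S` -/
theorem odd_normalizer_vl (hX : LX (S : Subgroup G)) (hc : AllComm (bau (S : Subgroup G))) (hty : TyA G)
    (h : IsDBlk (bau (S : Subgroup G)) L k) {g : G} (ho : Odd (orderOf g))
    (hg : g ∈ normalizer (bau (S : Subgroup G) : Set G)) : g ∈ normalizer (vl (bau (S : Subgroup G)) L : Set G) := by
  have hgg : g * g ∈ normalizer (bau (S : Subgroup G) : Set G) := mul_mem hg hg
  rcases three hX hc hty h (dblk_cj h hg) (dblk_cj h hgg) with h1 | h1 | h1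
  · rw [vl_cj hg] at h1
    exact ChoiceBase.mem_normalizer_iff_cj.2 h1.symm
  · rw [vl_cj hgg] at h1
    have h2 : g * g ∈ normalizer (vl (bau (S : Subgroup G)) L : Set G) := ChoiceBase.mem_normalizer_iff_cj.2 h1.symm
    obtain ⟨m, hm⟩ := ho
    have h3 : (g * g) ^ (m + 1) = g := by
      rw [← pow_two, ← pow_mul]
      have : 2 * (m + 1) = orderOf g + 1 := by omega
      rw [this, pow_succ, pow_orderOf_eq_one, one_mul]
    rw [← h3]
    exact pow_mem h2 _
  · rw [vl_cj hg, vl_cj hgg, ← cj_cj] at h1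
    have h2 := congrArg (cj g⁻¹) h1
    rw [cj_inv_cj, cj_inv_cj] at h2
    exact ChoiceBase.mem_normalizer_iff_cj.2 h2.symm

/-- **(C)** a dihedral block and an `SL₂(q)`-block over `bau S` do not coexist -/
theorem Hyp.not_mixed (H : Hyp G) (h : IsDBlk (bau (S : Subgroup G)) L k)
    (h' : LBlk (bau (S : Subgroup G)) L' q) : False := by
  refine APQ.false_of_mix h' h (fun x hx y hy => (AOnePair.comm_mixed h h' y hy x hx).symm) ?_ ?_ ?_
  · intro N hN h1 h2
    by_contra h3
    exact not_both_of_local H.char2 H.ty ⟨N, h.two.to_le hN, h3, rfl⟩ h h' h2 h1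
  · exact fun T hT hBT => le_normalizer S hT hBT
  · exact fun g _ ho hg => odd_normalizer_vl (H.lx S) (H.allComm S) H.ty h ho hg

/-! ### 4' -/

/-- `J(B)` does not centralise `[Z_L, L]` -/
theorem not_jj_le_cent {B : Subgroup G} (hb : bau B = B) (h : LBlk B L q) :
    ¬ jj B ≤ centralizer (vl B L : Set G) := by
  intro hJ
  -- `vl B L ≰ zc B`
  have hv : ¬ vl B L ≤ zc B := by
    intro h1
    have h2 : vl B L ≤ zl B L := vl_le_zl B L
    obtain ⟨g, hg, hgn⟩ : ∃ g ∈ L, ∃ x ∈ B, g * x * g⁻¹ ∉ B := COneBlk.not_normal h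
    -- `zl B L = zc B`
    have h3 : L ≤ normalizer (zc B : Set G) := by
      rw [le_normalizer_iff]
      intro l hl x hx
      have h4 : x * l * x⁻¹ * l⁻¹ ∈ vl B L := commutator_mem_commutator (FinalBridge.zc_le_zl B L hx) hl
      have h5 := h1 h4
      have e : l * x * l⁻¹ = (x * l * x⁻¹ * l⁻¹)⁻¹ * x := by group
      rw [e]
      exact (zc B).mul_mem ((zc B).inv_mem h5) hx
    have h6 : zl B L ≤ zc B := by
      rw [zl]
      refine iSup_le fun l => ?_
      rintro _ ⟨x, hx, rfl⟩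
      exact Four.conj_mem (h3 l.2) hx
    have h7 := h.zl_index
    rw [relIndex_eq_one.2 h6] at h7
    have := h.four
    omega
  obtain ⟨v, hvL, hvc⟩ := SetLike.not_le_iff_exists.1 hv
  have h1 : jj B ≤ o2 L := by
    intro a ha
    by_contra h2
    exact hvc (h.cent a (ChoiceBase.jj_le B ha) h2 v (vl_le_zl B L hvL) (mem_centralizer_iff.1 (hJ ha) v hvL).symm)
  have h2 : jj (o2 L) = jj B := Basic.jj_eq_of_le h1 h.o2_le
  have h3 : L ≤ normalizer (zc B : Set G) := by
    have h4 : zc B = zj B := by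
      conv_lhs => rw [← hb]
      exact ChoiceBase.zc_bau B
    have h5 : zj B = zj (o2 L) := zj_congr h2.symm
    rw [h4, h5]
    exact (ZN.le_normalizer_o2 L).trans (normalizer_le_normalizer_zj _)
  have h6 : zl B L ≤ zc B := by
    rw [zl]
    refine iSup_le fun l => ?_
    rintro _ ⟨x, hx, rfl⟩
    exact Four.conj_mem (h3 l.2) hx
  have h7 := h.zl_index
  rw [relIndex_eq_one.2 h6] at h7
  have := h.four
  omega

/-- two `SL₂`-blocks over `bau S` in a 2-local have the same module -/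
theorem zl_eq_of_local (hch : IsCharacteristicTwoType G) (hty : TyA G) {X : Subgroup G} (hX2 : IsTwoLocal X)
    (h : LBlk (bau (S : Subgroup G)) L q) (h' : LBlk (bau (S : Subgroup G)) L' q') (hLX : L ≤ X) (hLX' : L' ≤ X) :
    zl (bau (S : Subgroup G)) L = zl (bau (S : Subgroup G)) L' ∧ q = q' := by
  obtain ⟨T, hL, hb⟩ := exists_loc (S := S) hch hX2 (h.le.trans hLX)
  have hbb : bau (bau T) = bau T := by rw [hb, bau_bau]
  rw [← hb] at h h' ⊢
  have ht := hty X T hX2 hL
  cases ht with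
  | zero h0 =>
    exfalso
    refine not_jj_le_cent hbb h ?_
    rw [ChoiceBase.jj_bau]
    exact h0.trans (centralizer_le (RedX.vl_le_mod hLX (Or.inr ⟨q, h⟩)))
  | tri V h0 => exact absurd h (h0.nolin L q hLX)
  | sev N V z h0 => exact absurd h (h0.nolin L q hLX)
  | fiv U φ e h0 => exact absurd h (h0.nolin L q hLX)
  | lin L₁ q₁ h0 =>
    have h1 := h0.only L q hLX h
    have h2 := h0.only L' q' hLX' h'
    exact ⟨h1.1.trans h2.1.symm, h1.2.trans h2.2.symm⟩
  | bc L₁ h0 => exact absurd (Or.inr ⟨q, h⟩) (h0.noblk L hLX)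

/-- **4'** two `SL₂`-blocks over `bau S` have the same module -/
theorem Hyp.zl_eq (H : Hyp G) (h : LBlk (bau (S : Subgroup G)) L q) (h' : LBlk (bau (S : Subgroup G)) L' q') :
    zl (bau (S : Subgroup G)) L = zl (bau (S : Subgroup G)) L' := by
  have := H.simple
  by_contra hne
  refine APQ.false_of_two H.cyc h h' (AOnePair.comm_of_lblk H.nontriv H.cyc H.char2 H.six
    (COneMid.isSyl2_top S) h h') ?_
  intro L₁ L₂ h1 h2 h3 h4 N hN h5 h6
  by_contra h7
  have h8 := (zl_eq_of_local H.char2 H.ty ⟨N, h.two.to_le hN, h7, rfl⟩ h1 h2 h5 h6).1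
  exact hne (h3.symm.trans (h8.trans h4))

theorem q_eq {B : Subgroup G} (h : LBlk B L q) (h' : LBlk B L' q') (he : zl B L = zl B L') : q = q' := by
  rw [← h.zl_index, ← h'.zl_index, he]

/-! ### the same from `RedCtx.Ctx` -/

open Cfsg.Agent.OddCyclic.RedCtx (Ctx)

theorem tyA (c : Ctx S) : TyA G := by
  rintro X T ⟨U, hU, hU1, rfl⟩ hL
  exact c.ty _ _ _ (c.ne_top hU hU1) (yc_mod hL)

theorem hyp (c : Ctx S) (hs : IsSimpleGroup G) (h6 : ∃ g : G, orderOf g = 6) (hr : ¬ PRankLE 2 2 G) : Hyp G :=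
  ⟨hs, c.cyc, c.char2, hr, h6, tyA c⟩

/-- **(C)** -/
theorem not_mixed (c : Ctx S) (hc : AllComm (bau (S : Subgroup G))) (h : IsDBlk (bau (S : Subgroup G)) L k)
    (h' : LBlk (bau (S : Subgroup G)) L' q) : False := by
  refine APQ.false_of_mix h' h (fun x hx y hy => (AOnePair.comm_mixed h h' y hy x hx).symm) ?_ ?_ ?_
  · intro N hN h1 h2
    by_contra h3
    exact not_both_of_local c.char2 (tyA c) ⟨N, h.two.to_le hN, h3, rfl⟩ h h' h2 h1
  · exact fun T hT hBT => le_normalizer S hT hBT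
  · exact fun g _ ho hg => odd_normalizer_vl c.lx hc (tyA c) h ho hg

/-- **4'** -/
theorem zl_eq (c : Ctx S) (hs : IsSimpleGroup G) (h6 : ∃ g : G, orderOf g = 6)
    (h : LBlk (bau (S : Subgroup G)) L q) (h' : LBlk (bau (S : Subgroup G)) L' q') :
    zl (bau (S : Subgroup G)) L = zl (bau (S : Subgroup G)) L' ∧ q = q' := by
  have key : zl (bau (S : Subgroup G)) L = zl (bau (S : Subgroup G)) L' := by
    by_contra hne
    have hnab : ∃ a b : G, a * b ≠ b * a := by
      by_contra hcon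
      push Not at hcon
      obtain ⟨g, hg⟩ := h6
      let _ : CommGroup G := { (inferInstance : Group G) with mul_comm := hcon }
      have h1 : (Nat.card G).Prime := (inferInstance : IsSimpleGroup G).prime_card
      have h2 : orderOf g ∣ Nat.card G := orderOf_dvd_natCard g
      rw [hg] at h2
      have h3 := (Nat.Prime.eq_one_or_self_of_dvd h1 6 h2).resolve_left (by norm_num)
      rw [← h3] at h1
      norm_num at h1
    refine APQ.false_of_two c.cyc h h' (AOnePair.comm_of_lblk hnab c.cyc c.char2 h6 (COneMid.isSyl2_top S) h h') ?_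
    intro L₁ L₂ h1 h2 h3 h4 N hN h5 h6
    by_contra h7
    have h8 := (zl_eq_of_local c.char2 (tyA c) ⟨N, h.two.to_le hN, h7, rfl⟩ h1 h2 h5 h6).1
    exact hne (h3.symm.trans (h8.trans h4))
  exact ⟨key, q_eq h h' key⟩

end Cfsg.Agent.OddCyclic.APC
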