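import Cfsg.Agent.OddCyclic.APQGraph

/-!
# S0342, case C2: two commuting blocks over the same Baumann subgroup (coset graph)

`Bk B Z P Q V R`: the common shape of the `S₃`- and the `SL₂(q)`-blocks.  `Bk.main`: the graph argument of
`APQGraph` for the coset graph of two blocks over `B` without common normal subgroup.
-/

set_option autoImplicit false
set_option linter.unusedSectionVars false

namespace Cfsg.Agent.OddCyclic.APQ

open Subgroup MulAction Pointwise
open Cfsg.Agent.MinSimple.CosetGraph Cfsg.Agent.MinSimple.CosetFam Cfsg.Agent.OddCyclic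
open scoped commutatorElement

universe u

variable {G : Type u} [Group G]

/-- the subgroup generated by the 2-elements -/
def tw (X : Subgroup G) : Subgroup G := closure {x | x ∈ X ∧ ∃ k : ℕ, x ^ 2 ^ k = 1}

theorem tw_le (X : Subgroup G) : tw X ≤ X := (closure_le _).2 fun _ hx => hx.1

theorem tw_conj_le (g : G) (X : Subgroup G) : MulAut.conj g • tw X ≤ tw (MulAut.conj g • X) := by
  rw [conj_smul_le_iff]
  intro x hx
  induction hx using closure_induction with
  | mem x hx =>
    obtain ⟨h1, k, hk⟩ := hx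
    refine subset_closure ⟨?_, k, ?_⟩
    · rw [mem_conj_smul]
      have e : g⁻¹ * (g * x * g⁻¹) * g = x := by group
      rwa [e]
    · rw [conj_pow, hk, mul_one, mul_inv_cancel]
  | one => rw [mul_one, mul_inv_cancel]; exact one_mem _
  | mul x y _ _ h1 h2 =>
    have e : g * (x * y) * g⁻¹ = (g * x * g⁻¹) * (g * y * g⁻¹) := by group
    rw [e]; exact mul_mem h1 h2
  | inv x _ h1 =>
    have e : g * x⁻¹ * g⁻¹ = (g * x * g⁻¹)⁻¹ := by group
    rw [e]; exact inv_mem h1

theorem tw_conj (g : G) (X : Subgroup G) : tw (MulAut.conj g • X) = MulAut.conj g • tw X := by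
  refine le_antisymm ?_ (tw_conj_le g X)
  have h1 := tw_conj_le g⁻¹ (MulAut.conj g • X)
  rw [conj_smul_conj_smul, inv_mul_cancel, conj_one_smul] at h1
  have h2 := pointwise_smul_le_pointwise_smul_iff (a := MulAut.conj g) |>.2 h1
  rw [conj_smul_conj_smul, mul_inv_cancel, conj_one_smul] at h2
  exact h2

/-- `B` and `B ^ l` generate `P` -/
def Ad (B P : Subgroup G) (l : G) : Prop := ∀ H : Subgroup G, B ≤ H → (∀ b ∈ B, l * b * l⁻¹ ∈ H) → P ≤ H

/-- the common shape of the blocks over `B` -/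
structure Bk (B Z P Q V R : Subgroup G) : Prop where
  le : B ≤ P
  QB : Q ≤ B
  VQ : V ≤ Q
  ZV : Z ≤ V
  RZ : R ≤ Z
  nR : ¬ Z ≤ R
  nt : ∃ b ∈ B, b ∉ Q
  Qn : P ≤ normalizer (Q : Set G)
  Vn : P ≤ normalizer (V : Set G)
  Vsq : ∀ v ∈ V, v * v = 1
  QV : ∀ x ∈ Q, ∀ v ∈ V, x * v = v * x
  cent : ∀ b ∈ B, (∀ v ∈ V, b * v = v * b) → b ∈ Q
  BZ : ∀ b ∈ B, ∀ z ∈ Z, b * z = z * b
  comm : ∀ v ∈ V, ∀ b ∈ B, v * b * v⁻¹ * b⁻¹ ∈ Z
  ncomm : ∀ b ∈ B, b ∉ Q → ∀ v ∈ V, b * v = v * b → v ∈ Z
  RP : ∀ p ∈ P, ∀ r ∈ R, p * r = r * p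
  fix : ∀ v ∈ V, (∀ p ∈ P, p * v = v * p) → v ∈ R
  card : Q.relIndex B = Z.relIndex V
  sup : Z ≤ ⁅V, B⁆ ⊔ R
  adm2 : ∃ l ∈ P, ∃ l' ∈ P, Ad B P l ∧ Ad B P l' ∧ Ad B P (l⁻¹ * l')
  admu : ∀ l ∈ P, Ad B P l → ∀ u ∈ B, u ∉ Q → Ad B P (l⁻¹ * u * l)

section

variable {P Q V R : Bool → Subgroup G} {B Z : Subgroup G}

theorem stab_smul (P : Bool → Subgroup G) (g : G) (v : CV P) :
    stabilizer G (g • v) = MulAut.conj g • stabilizer G v :=
  Eqv.stabilizer (G := G) (V := CV P) g v

/-- edge groups -/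
def Ef (P : Bool → Subgroup G) (v w : CV P) : Subgroup G := tw (stabilizer G v ⊓ stabilizer G w)

theorem Ef_smul (g : G) (v w : CV P) : Ef P (g • v) (g • w) = MulAut.conj g • Ef P v w := by
  show tw (stabilizer G (g • v) ⊓ stabilizer G (g • w)) = _
  rw [stab_smul, stab_smul, ← smul_inf, tw_conj]
  rfl

/-- the centre -/
noncomputable def Zf (P V : Bool → Subgroup G) (v w : CV P) : Subgroup G := fam P V v ⊓ centralizer (Ef P v w : Set G)

theorem Ef_comm (v w : CV P) : Ef P v w = Ef P w v := by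
  show tw _ = tw _
  rw [inf_comm]

variable (h : ∀ i, Bk B Z (P i) (Q i) (V i) (R i)) (h2 : IsPGroup 2 B)
  (htw : ∀ x, x ∈ P false → x ∈ P true → (∃ k : ℕ, x ^ 2 ^ k = 1) → x ∈ B)

include h h2 htw in
theorem Ef_base (i : Bool) : Ef P (mk P i 1) (mk P (!i) 1) = B := by
  show tw (stabilizer G (mk P i 1) ⊓ stabilizer G (mk P (!i) 1)) = B
  rw [mk_one_stab, mk_one_stab]
  apply le_antisymm
  · refine (closure_le _).2 ?_
    rintro x ⟨hx, hk⟩
    cases i
    · exact htw x hx.1 hx.2 hk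
    · exact htw x hx.2 hx.1 hk
  · intro b hb
    refine subset_closure ⟨⟨(h i).le hb, (h (!i)).le hb⟩, ?_⟩
    obtain ⟨k, hk⟩ := h2 ⟨b, hb⟩
    exact ⟨k, by simpa using congrArg Subtype.val hk⟩

theorem Zf_smul (hV : ∀ i, P i ≤ normalizer (V i : Set G)) (g : G) (v w : CV P) :
    Zf P V (g • v) (g • w) = MulAut.conj g • Zf P V v w := by
  show fam P V (g • v) ⊓ centralizer (Ef P (g • v) (g • w) : Set G) = _
  rw [fam_eqv P hV g v, Ef_smul, centralizer_conj, ← smul_inf]
  rfl

include h h2 htw in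
theorem Zf_base (i : Bool) : Zf P V (mk P i 1) (mk P (!i) 1) = Z := by
  show fam P V (mk P i 1) ⊓ centralizer (Ef P (mk P i 1) (mk P (!i) 1) : Set G) = Z
  rw [fam_mk_one P (fun i => (h i).Vn), Ef_base h h2 htw]
  apply le_antisymm
  · rintro x ⟨hx, hc⟩
    obtain ⟨b, hb, hbQ⟩ := (h i).nt
    exact (h i).ncomm b hb hbQ x hx (mem_centralizer_iff.1 hc b hb)
  · intro z hz
    exact ⟨(h i).ZV hz, mem_centralizer_iff.2 (fun b hb => (h i).BZ b hb z hz)⟩

include h h2 htw in
theorem Ef_base' (i : Bool) {l : G} (hl : l ∈ P i) :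
    Ef P (mk P i 1) (mk P (!i) l) = MulAut.conj l • B := by
  have e1 : mk P i 1 = l • mk P i 1 := by
    rw [smul_mk, mul_one, mk_eq_iff]
    simpa using hl
  have e2 : mk P (!i) l = l • mk P (!i) 1 := by rw [smul_mk_one]
  rw [e2]
  conv_lhs => rw [e1]
  rw [Ef_smul, Ef_base h h2 htw]

theorem Adm_smul {v p m : CV P} (hA : Adm (Ef P) v p m) (g : G) : Adm (Ef P) (g • v) (g • p) (g • m) := by
  intro H h1 h2
  have h3 := hA (MulAut.conj g⁻¹ • H) ?_ ?_
  · rw [stab_smul, pointwise_smul_subset_iff, ← map_inv]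
    exact h3
  · rw [Ef_smul, pointwise_smul_subset_iff, ← map_inv] at h1
    exact h1
  · rw [Ef_smul, pointwise_smul_subset_iff, ← map_inv] at h2
    exact h2

theorem Adm_smul_iff {v p m : CV P} (g : G) : Adm (Ef P) (g • v) (g • p) (g • m) ↔ Adm (Ef P) v p m := by
  constructor
  · intro hA
    have := Adm_smul hA g⁻¹
    rwa [inv_smul_smul, inv_smul_smul, inv_smul_smul] at this
  · exact fun hA => Adm_smul hA g

include h h2 htw in
theorem Adm_base (i : Bool) {l l' : G} (hl : l ∈ P i) (hl' : l' ∈ P i) :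
    Adm (Ef P) (mk P i 1) (mk P (!i) l) (mk P (!i) l') ↔ Ad B (P i) (l⁻¹ * l') := by
  unfold Adm Ad
  rw [Ef_base' h h2 htw i hl, Ef_base' h h2 htw i hl', mk_one_stab]
  have hPl : MulAut.conj l⁻¹ • P i = P i :=
    mem_normalizer_iff_conj_smul.1 (le_normalizer ((P i).inv_mem hl))
  constructor
  · intro hA H hB hB'
    have h3 := hA (MulAut.conj l • H) ?_ ?_
    · rw [← hPl, pointwise_smul_subset_iff, ← map_inv, inv_inv]
      exact h3
    · exact pointwise_smul_le_pointwise_smul_iff.2 hB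
    · rw [conj_smul_le_iff]
      intro b hb
      rw [mem_conj_smul]
      have := hB' b hb
      have e : l⁻¹ * (l' * b * l'⁻¹) * l = l⁻¹ * l' * b * (l⁻¹ * l')⁻¹ := by group
      rwa [e]
  · intro hA H hB hB'
    have h3 := hA (MulAut.conj l⁻¹ • H) ?_ ?_
    · rw [← hPl] at h3
      exact pointwise_smul_le_pointwise_smul_iff.1 h3
    · rw [pointwise_smul_subset_iff, ← map_inv] at hB
      exact hB
    · intro b hb
      rw [mem_conj_smul, inv_inv]
      have := (conj_smul_le_iff.1 hB') b hb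
      have e : l * (l⁻¹ * l' * b * (l⁻¹ * l')⁻¹) * l⁻¹ = l' * b * l'⁻¹ := by group
      rwa [e]

include h h2 htw in
/-- the graph facts -/
theorem toGF (core : ∀ N : Subgroup G, N ≤ P false → N ≤ P true → P false ≤ normalizer (N : Set G) →
      P true ≤ normalizer (N : Set G) → N = ⊥)
    (hc : ∀ x ∈ V false, ∀ y ∈ V true, x * y = y * x) :
    GF (coset P) (fam P V) (fam P Q) (fam P R) (Ef P) (Zf P V) := by
  have hVn : ∀ i, P i ≤ normalizer (V i : Set G) := fun i => (h i).Vn
  have hQn : ∀ i, P i ≤ normalizer (Q i : Set G) := fun i => (h i).Qn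
  have hRn : ∀ i, P i ≤ normalizer (R i : Set G) := by
    intro i g hg
    rw [mem_normalizer_iff]
    intro r
    constructor
    · intro hr
      rw [(h i).RP g hg r hr, mul_inv_cancel_right]; exact hr
    · intro hr
      have h3 := (h i).RP g⁻¹ (inv_mem hg) _ hr
      have h5 : g⁻¹ * (g * r * g⁻¹) * g = r := by group
      rw [h3] at h5
      have h6 : g * r * g⁻¹ * g⁻¹ * g = g * r * g⁻¹ := by group
      rw [h6] at h5
      rwa [h5] at hr
  have hVe := fam_eqv P hVn
  have hQe := fam_eqv P hQn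
  have hRe := fam_eqv P hRn
  have hV1 : ∀ i, fam P V (mk P i 1) = V i := fam_mk_one P hVn
  have hQ1 : ∀ i, fam P Q (mk P i 1) = Q i := fam_mk_one P hQn
  have hR1 : ∀ i, fam P R (mk P i 1) = R i := fam_mk_one P hRn
  have hE1 : ∀ i, Ef P (mk P i 1) (mk P (!i) 1) = B := Ef_base h h2 htw
  have hZ1 : ∀ i, Zf P V (mk P i 1) (mk P (!i) 1) = Z := Zf_base h h2 htw
  have hZs := Zf_smul (P := P) hVn
  have hst := Eqv.stabilizer (G := G) (V := CV P)
  have hcc : ∀ i, ∀ x ∈ V i, ∀ y ∈ V (!i), x * y = y * x := by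
    intro i x hx y hy
    cases i
    · exact hc x hx y hy
    · exact (hc y hy x hx).symm
  -- transfer of elementwise statements
  have mem1 : ∀ {g x : G} {X : Subgroup G}, x ∈ MulAut.conj g • X ↔ g⁻¹ * x * g ∈ X := mem_conj_smul
  have comm1 : ∀ {g x y : G}, (g⁻¹ * x * g) * (g⁻¹ * y * g) = (g⁻¹ * y * g) * (g⁻¹ * x * g) ↔
      x * y = y * x := by
    intro g x y
    have e1 : (g⁻¹ * x * g) * (g⁻¹ * y * g) = g⁻¹ * (x * y) * g := by group
    have e2 : (g⁻¹ * y * g) * (g⁻¹ * x * g) = g⁻¹ * (y * x) * g := by group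
    rw [e1, e2]
    constructor
    · intro he
      exact mul_left_cancel (mul_right_cancel he)
    · intro he
      rw [he]
  have back : ∀ {g x : G}, g⁻¹ * (g * x * g⁻¹) * g = x := by intro g x; group
  constructor
  · exact coset_faithful P core
  · exact hVe
  · exact hQe
  · exact hRe
  · exact Ef_smul
  · exact hZs
  · exact Ef_comm
  · -- Zc
    intro v w hvw
    refine forall_edge P (p := fun v w => Zf P V v w = Zf P V w v) ?_ ?_ hvw
    · intro g v w h1
      rw [hZs, hZs, h1]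
    · intro i
      rw [hZ1]
      have := hZ1 (!i)
      rw [Bool.not_not] at this
      exact this.symm
  · -- Est
    intro v w _
    exact (tw_le _).trans inf_le_left
  · -- Qs
    refine forall_vertex P (p := fun v => fam P Q v ≤ stabilizer G v) ?_ ?_
    · intro g v h1
      exact (hQe.le_iff hst).2 h1
    · intro i
      rw [hQ1, mk_one_stab]
      exact (h i).QB.trans (h i).le
  · -- QE
    intro v w hvw
    refine forall_edge P (p := fun v w => fam P Q v ≤ Ef P v w) ?_ ?_ hvw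
    · intro g v w h1
      rw [Ef_smul, hQe, pointwise_smul_le_pointwise_smul_iff]
      exact h1
    · intro i
      rw [hQ1, hE1]; exact (h i).QB
  · -- VQ
    refine forall_vertex P (p := fun v => fam P V v ≤ fam P Q v) ?_ ?_
    · intro g v h1
      exact (hVe.le_iff hQe).2 h1
    · intro i
      rw [hV1, hQ1]; exact (h i).VQ
  · -- adj
    intro v w hvw
    refine forall_edge P (p := fun v w => fam P V v ≤ fam P Q w) ?_ ?_ hvw
    · intro g v w h1
      exact (hVe.le_iff hQe).2 h1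
    · intro i
      rw [hV1, hQ1]
      intro x hx
      exact (h (!i)).cent x ((h i).QB ((h i).VQ hx)) (fun y hy => hcc i x hx y hy)
  · -- ZV
    intro v w _
    exact inf_le_left
  · -- RZ
    intro v w hvw
    refine forall_edge P (p := fun v w => fam P R v ≤ Zf P V v w) ?_ ?_ hvw
    · intro g v w h1
      rw [hZs, hRe, pointwise_smul_le_pointwise_smul_iff]
      exact h1
    · intro i
      rw [hR1, hZ1]; exact (h i).RZ
  · -- RZne
    intro v w hvw
    refine forall_edge P (p := fun v w => ¬ Zf P V v w ≤ fam P R v) ?_ ?_ hvw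
    · intro g v w h1
      rw [hZs, hRe, pointwise_smul_le_pointwise_smul_iff]
      exact h1
    · intro i
      rw [hR1, hZ1]; exact (h i).nR
  · -- QV
    refine forall_vertex P (p := fun v => ∀ x ∈ fam P Q v, ∀ y ∈ fam P V v, x * y = y * x) ?_ ?_
    · intro g v h1 x hx y hy
      rw [hQe, mem1] at hx
      rw [hVe, mem1] at hy
      exact comm1.1 (h1 _ hx _ hy)
    · intro i
      rw [hV1, hQ1]; exact (h i).QV
  · -- Vsq
    refine forall_vertex P (p := fun v => ∀ y ∈ fam P V v, y * y = 1) ?_ ?_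
    · intro g v h1 y hy
      rw [hVe, mem1] at hy
      have h3 := h1 _ hy
      have e : (g⁻¹ * y * g) * (g⁻¹ * y * g) = g⁻¹ * (y * y) * g := by group
      rw [e] at h3
      have h4 : y * y = g * (g⁻¹ * (y * y) * g) * g⁻¹ := by group
      rw [h4, h3]; group
    · intro i
      rw [hV1]; exact (h i).Vsq
  · -- cent
    intro v w hvw
    refine forall_edge P (p := fun v w => ∀ b ∈ Ef P v w, (∀ y ∈ fam P V v, b * y = y * b) →
      b ∈ fam P Q v) ?_ ?_ hvw
    · intro g v w h1 b hb hby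
      rw [Ef_smul, mem1] at hb
      rw [hQe, mem1]
      refine h1 _ hb (fun y hy => ?_)
      have h3 := hby (g * y * g⁻¹) (by rw [hVe, mem1, back]; exact hy)
      have h4 := comm1 (g := g).2 h3
      rwa [back] at h4
    · intro i
      rw [hV1, hQ1, hE1]; exact (h i).cent
  · -- EZ
    intro v w _ b hb z hz
    exact mem_centralizer_iff.1 hz.2 b hb
  · -- comm
    intro v w hvw
    refine forall_edge P (p := fun v w => ∀ y ∈ fam P V v, ∀ b ∈ Ef P v w,
      y * b * y⁻¹ * b⁻¹ ∈ Zf P V v w) ?_ ?_ hvw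
    · intro g v w h1 y hy b hb
      rw [hVe, mem1] at hy
      rw [Ef_smul, mem1] at hb
      rw [hZs, mem1]
      have e1 : g⁻¹ * (y * b * y⁻¹ * b⁻¹) * g =
          (g⁻¹ * y * g) * (g⁻¹ * b * g) * (g⁻¹ * y * g)⁻¹ * (g⁻¹ * b * g)⁻¹ := by group
      rw [e1]
      exact h1 _ hy _ hb
    · intro i
      rw [hV1, hE1, hZ1]; exact (h i).comm
  · -- ncomm
    intro v w hvw
    refine forall_edge P (p := fun v w => ∀ b ∈ Ef P v w, b ∉ fam P Q v → ∀ y ∈ fam P V v,
      b * y = y * b → y ∈ Zf P V v w) ?_ ?_ hvw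
    · intro g v w h1 b hb hbQ y hy hby
      rw [hVe, mem1] at hy
      rw [Ef_smul, mem1] at hb
      rw [hQe, mem1] at hbQ
      rw [hZs, mem1]
      exact h1 _ hb hbQ _ hy (comm1.2 hby)
    · intro i
      rw [hV1, hE1, hZ1, hQ1]; exact (h i).ncomm
  · -- RP
    refine forall_vertex P (p := fun v => ∀ p ∈ stabilizer G v, ∀ r ∈ fam P R v, p * r = r * p) ?_ ?_
    · intro g v h1 p hp r hr
      rw [stab_smul, mem1] at hp
      rw [hRe, mem1] at hr
      exact comm1.1 (h1 _ hp _ hr)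
    · intro i
      rw [hR1, mk_one_stab]; exact (h i).RP
  · -- fix
    refine forall_vertex P (p := fun v => ∀ y ∈ fam P V v, (∀ p ∈ stabilizer G v, p * y = y * p) →
      y ∈ fam P R v) ?_ ?_
    · intro g v h1 y hy hpy
      rw [hVe, mem1] at hy
      rw [hRe, mem1]
      refine h1 _ hy (fun p hp => ?_)
      have h3 := hpy (g * p * g⁻¹) (by rw [stab_smul, mem1, back]; exact hp)
      have h4 := comm1 (g := g).2 h3
      rwa [back] at h4
    · intro i
      rw [hV1, hR1, mk_one_stab]; exact (h i).fix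
  · -- card
    intro v w hvw
    refine forall_edge P (p := fun v w => (fam P Q v).relIndex (Ef P v w) =
      (Zf P V v w).relIndex (fam P V v)) ?_ ?_ hvw
    · intro g v w h1
      rw [Ef_smul, hQe, hZs, hVe, Subgroup.relIndex_pointwise_smul, Subgroup.relIndex_pointwise_smul]
      exact h1
    · intro i
      rw [hV1, hQ1, hE1, hZ1]; exact (h i).card
  · -- sup
    intro v w hvw
    refine forall_edge P (p := fun v w => Zf P V v w ≤ ⁅fam P V v, Ef P v w⁆ ⊔ fam P R v) ?_ ?_ hvw
    · intro g v w h1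
      rw [Ef_smul, hRe, hZs, hVe]
      have h3 : ⁅MulAut.conj g • fam P V v, MulAut.conj g • Ef P v w⁆ =
          MulAut.conj g • ⁅fam P V v, Ef P v w⁆ :=
        (Subgroup.map_commutator (fam P V v) (Ef P v w) (MulAut.conj g).toMonoidHom).symm
      rw [h3, ← smul_sup, pointwise_smul_le_pointwise_smul_iff]
      exact h1
    · intro i
      rw [hV1, hR1, hE1, hZ1]; exact (h i).sup
  · -- adm2
    intro v w hvw
    refine forall_edge P (p := fun v w => ∃ m m', (coset P).A v m ∧ (coset P).A v m' ∧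
      Adm (Ef P) v w m ∧ Adm (Ef P) v w m' ∧ Adm (Ef P) v m m') ?_ ?_ hvw
    · rintro g v w ⟨m, m', h1, h2, h3, h4, h5⟩
      exact ⟨g • m, g • m', (coset P).smul g h1, (coset P).smul g h2, Adm_smul h3 g, Adm_smul h4 g,
        Adm_smul h5 g⟩
    · intro i
      obtain ⟨l, hl, l', hl', h3, h4, h5⟩ := (h i).adm2
      refine ⟨mk P (!i) l, mk P (!i) l', ?_, ?_, ?_, ?_, ?_⟩
      · exact (coset_adj_iff P).2 ⟨l, hl, by rw [one_mul]⟩
      · exact (coset_adj_iff P).2 ⟨l', hl', by rw [one_mul]⟩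
      · rw [Adm_base h h2 htw i (one_mem _) hl, inv_one, one_mul]; exact h3
      · rw [Adm_base h h2 htw i (one_mem _) hl', inv_one, one_mul]; exact h4
      · rw [Adm_base h h2 htw i hl hl']; exact h5
  · -- admu
    intro v w m hvw hvm hadm u hu huQ
    have key : ∀ m, (coset P).A v m → Adm (Ef P) v w m → ∀ u ∈ Ef P v w, u ∉ fam P Q v →
        Adm (Ef P) v m (u • m) := by
      refine forall_edge P (p := fun v w => ∀ m, (coset P).A v m → Adm (Ef P) v w m →
        ∀ u ∈ Ef P v w, u ∉ fam P Q v → Adm (Ef P) v m (u • m)) ?_ ?_ hvw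
      · intro g v w h1 m hvm hadm u hu huQ
        have hm : m = g • (g⁻¹ • m) := by rw [smul_inv_smul]
        have hvm' : (coset P).A v (g⁻¹ • m) := by
          have := (coset P).smul g⁻¹ hvm
          rwa [inv_smul_smul] at this
        have hadm' : Adm (Ef P) v w (g⁻¹ • m) := by
          rw [hm] at hadm
          exact (Adm_smul_iff g).1 hadm
        rw [Ef_smul, mem1] at hu
        rw [hQe, mem1] at huQ
        have h3 := Adm_smul (h1 _ hvm' hadm' _ hu huQ) g
        rw [smul_inv_smul] at h3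
        have e : g • (g⁻¹ * u * g) • g⁻¹ • m = u • m := by
          rw [← mul_smul, ← mul_smul]
          congr 1
          group
        rwa [e] at h3
      · intro i m hvm hadm u hu huQ
        rw [hE1] at hu
        rw [hQ1] at huQ
        obtain ⟨l, hl, rfl⟩ := (coset_adj_iff P).1 hvm
        rw [one_mul] at hadm hvm ⊢
        rw [Adm_base h h2 htw i (one_mem _) hl, inv_one, one_mul] at hadm
        have huP : u ∈ P i := (h i).le hu
        rw [smul_mk, Adm_base h h2 htw i hl (mul_mem huP hl), ← mul_assoc]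
        exact (h i).admu l hl hadm u hu huQ
    exact key m hvm hadm u hu huQ

include h h2 htw in
/-- **the graph argument** for two commuting blocks over `B` -/
theorem bk_main [Finite G] (core : ∀ N : Subgroup G, N ≤ P false → N ≤ P true →
      P false ≤ normalizer (N : Set G) → P true ≤ normalizer (N : Set G) → N = ⊥)
    (hc : ∀ x ∈ V false, ∀ y ∈ V true, x * y = y * x) :
    ∃ i, (∀ x ∈ V (!i), ∀ b ∈ B, x * b * x⁻¹ * b⁻¹ ∈ R i) ∧
      P i ≤ normalizer ((V i ⊔ V (!i) : Subgroup G) : Set G) ∧ B ≤ Q i ⊔ Q (!i) := by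
  have hG := toGF h h2 htw core hc
  have hne : fam P V (mk P false 1) ≠ ⊥ := by
    intro h0
    rw [fam_mk_one P (fun i => (h i).Vn)] at h0
    apply (h false).nR
    intro z hz
    have h3 := (h false).ZV hz
    rw [h0, mem_bot] at h3
    rw [h3]; exact one_mem _
  obtain ⟨v, m, hvm, h3, h4, h5⟩ := hG.main (coset_adj P false 1) hne
  obtain ⟨i, g, rfl, rfl⟩ := hvm
  have hVn : ∀ i, P i ≤ normalizer (V i : Set G) := fun i => (h i).Vn
  have hQn : ∀ i, P i ≤ normalizer (Q i : Set G) := fun i => (h i).Qn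
  have hRn : ∀ i, P i ≤ normalizer (R i : Set G) := by
    intro i g hg
    rw [mem_normalizer_iff]
    intro r
    constructor
    · intro hr
      rw [(h i).RP g hg r hr, mul_inv_cancel_right]; exact hr
    · intro hr
      have h3 := (h i).RP g⁻¹ (inv_mem hg) _ hr
      have h5 : g⁻¹ * (g * r * g⁻¹) * g = r := by group
      rw [h3] at h5
      have h6 : g * r * g⁻¹ * g⁻¹ * g = g * r * g⁻¹ := by group
      rw [h6] at h5
      rwa [h5] at hr
  have hs := Ef_smul (P := P) g (mk P i 1) (mk P (!i) 1)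
  rw [smul_mk_one, smul_mk_one, Ef_base h h2 htw] at hs
  have hs' : Ef P (mk P (!i) g) (mk P i g) = MulAut.conj g • B := by rw [Ef_comm, hs]
  rw [fam_mk P hVn, fam_mk P hRn, hs'] at h3
  rw [fam_mk P hVn, fam_mk P hVn, mk_stab, ← smul_sup, normalizer_conj,
    pointwise_smul_le_pointwise_smul_iff] at h4
  rw [fam_mk P hQn, fam_mk P hQn, hs, ← smul_sup, pointwise_smul_le_pointwise_smul_iff] at h5
  refine ⟨i, ?_, h4, h5⟩
  intro x hx b hb
  have h6 := h3 (g * x * g⁻¹) (by rw [mem_conj_smul]; have e : g⁻¹ * (g * x * g⁻¹) * g = x := by group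
                                  rwa [e])
    (g * b * g⁻¹) (by rw [mem_conj_smul]; have e : g⁻¹ * (g * b * g⁻¹) * g = b := by group
                      rwa [e])
  rw [mem_conj_smul] at h6
  have e : g⁻¹ * (g * x * g⁻¹ * (g * b * g⁻¹) * (g * x * g⁻¹)⁻¹ * (g * b * g⁻¹)⁻¹) * g =
      x * b * x⁻¹ * b⁻¹ := by group
  rwa [e] at h6

end

end Cfsg.Agent.OddCyclic.APQ
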