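import Cfsg.Agent.OddCyclic.APQBk
import Cfsg.Agent.OddCyclic.COnePair
import Cfsg.Agent.OddCyclic.CycConj
import Cfsg.Agent.MinSimple.DBlkApi

/-!
# S0342, case C2: `SL₂(q)`-blocks and dihedral blocks are blocks in the sense of `APQ.Bk`

`bk_of_lblk : LBlk B L q → Bk B (zc B) L (o2 L) (zl B L) (rl B L)`, `bk_of_dblk` (dihedral blocks), and
`graph` : the graph argument for an `SL₂(q)`-block and a second block.
-/

set_option autoImplicit false
set_option linter.unusedSectionVars false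

namespace Cfsg.Agent.OddCyclic.APQ

open Subgroup Pointwise Cfsg Cfsg.Agent.ZN Cfsg.Agent.MinSimple
open Cfsg.Agent.OddCyclic.COneDefs Cfsg.Agent.OddCyclic.COneBlk Cfsg.Agent.OddCyclic.COnePair
open Cfsg.Agent.LieExceptional.CITPlaneCount (cj mem_cj card_cj conj_mem_cj cj_mul cj_one)
open scoped commutatorElement

universe u

variable {G : Type u} [Group G] [Finite G]

section LB

variable {B L : Subgroup G} {q : ℕ}

/-- a 2-element of `L` normalising `B` is in `B` -/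
theorem mem_of_norm (h : LBlk B L q) {x : G} (hx : x ∈ L) (hn : ∀ b ∈ B, x * b * x⁻¹ ∈ B)
    (h2 : ∃ k : ℕ, x ^ 2 ^ k = 1) : x ∈ B := by
  have hB := isSyl2 h
  have hxn : zpowers x ≤ normalizer (B : Set G) := by
    rw [zpowers_le]
    exact Subgroup.mem_normalizer_fintype (fun b hb => hn b hb)
  have h3 : IsPGroup 2 (zpowers x) := by
    obtain ⟨k, hk⟩ := h2
    obtain ⟨n, -, hn'⟩ := (Nat.dvd_prime_pow Nat.prime_two).1 (orderOf_dvd_of_pow_eq_one hk)
    exact IsPGroup.of_card (n := n) (by rw [Nat.card_zpowers, hn'])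
  have h4 : IsPGroup 2 (B ⊔ zpowers x : Subgroup G) := h.two.to_sup_of_normal_left' h3 hxn
  have h5 := hB.max (B ⊔ zpowers x) (sup_le h.le (by rw [zpowers_le]; exact hx)) h4 le_sup_left
  rw [← h5]
  exact mem_sup_right (mem_zpowers x)

/-- `l` does not normalise `B` -/
theorem ad_iff (h : LBlk B L q) {l : G} (hl : l ∈ L) : Ad B L l ↔ ∃ b ∈ B, l * b * l⁻¹ ∉ B := by
  constructor
  · intro hA
    by_contra hcon
    push Not at hcon
    have h1 := hA B le_rfl hcon
    obtain ⟨g, hg, x, hx, hgx⟩ := not_normal h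
    exact hgx (B.mul_mem (B.mul_mem (h1 hg) hx) (B.inv_mem (h1 hg)))
  · rintro ⟨b, hb, hlb⟩ H hBH hlH
    have h1 : B ≤ H ⊓ L := le_inf hBH h.le
    rcases normalizes_or h h1 inf_le_right with h2 | h2
    · exfalso
      apply hlb
      have h3 : l * b * l⁻¹ ∈ H ⊓ L := ⟨hlH b hb, L.mul_mem (L.mul_mem hl (h.le hb)) (L.inv_mem hl)⟩
      refine mem_of_norm h h3.2 (h2 _ h3) ?_
      obtain ⟨k, hk⟩ := h.two ⟨b, hb⟩
      refine ⟨k, ?_⟩
      rw [conj_pow]
      have : b ^ 2 ^ k = 1 := congrArg Subtype.val hk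
      rw [this]; group
    · rw [← h2]; exact inf_le_left

/-- two different Sylow 2-subgroups of `L` meet in `O₂(L)` -/
theorem inf_le_o2 (h : LBlk B L q) {l : G} (hl : l ∈ L) (hA : Ad B L l) {u : G} (hu : u ∈ B)
    (hul : l⁻¹ * u * l ∈ B) : u ∈ o2 L := by
  by_contra huQ
  -- `u` centralises `Z` and `Z ^ l`
  have h1 : ∀ z ∈ zc B, l * z * l⁻¹ ∈ zc B := by
    intro z hz
    have h2 := zl_conj hl (zc_le_zl B L hz)
    refine h.cent u hu huQ _ h2 ?_
    have h3 := zc_comm hul hz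
    calc u * (l * z * l⁻¹) = l * ((l⁻¹ * u * l) * z) * l⁻¹ := by group
      _ = l * (z * (l⁻¹ * u * l)) * l⁻¹ := by rw [h3]
      _ = l * z * l⁻¹ * u := by group
  obtain ⟨z, hz, hzr⟩ : ∃ z ∈ zc B, z ∉ rl B L := by
    by_contra hcon
    push Not at hcon
    have h5 : rl B L = zc B := le_antisymm (COneBlk.rl_le_zc B L) hcon
    have h6 := h.rl_index
    rw [h5, relIndex_self] at h6
    have := h.four
    omega
  -- `L` normalises `Z`
  have h2 : L ≤ normalizer (zc B : Set G) := by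
    refine hA _ ?_ ?_
    · intro b hb
      rw [mem_normalizer_iff]
      intro x
      constructor
      · intro hx
        have h3 := zc_comm hb hx
        rw [h3, mul_inv_cancel_right]; exact hx
      · intro hx
        have h3 := zc_comm (B.inv_mem hb) hx
        have h4 : x = b * x * b⁻¹ := by
          have e : b⁻¹ * (b * x * b⁻¹) * b = x := by group
          rw [h3] at e
          have e2 : b * x * b⁻¹ * b⁻¹ * b = b * x * b⁻¹ := by group
          rw [e2] at e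
          exact e.symm
        rw [h4]; exact hx
    · intro b hb
      have hn : l ∈ normalizer (zc B : Set G) := Subgroup.mem_normalizer_fintype h1
      refine mul_mem (mul_mem hn ?_) (inv_mem hn)
      exact Subgroup.mem_normalizer_fintype (fun z hz => by
        rw [zc_comm hb hz, mul_inv_cancel_right]; exact hz)
  -- an element of order 3 moves `z`
  apply hzr
  refine mem_inf.2 ⟨hz, ?_⟩
  have h3 : L ≤ centralizer ({z} : Set G) := by
    refine hA _ ?_ ?_
    · intro b hb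
      rw [mem_centralizer_singleton_iff]; exact zc_comm hb hz
    · intro b hb
      rw [mem_centralizer_singleton_iff]
      have h4 : l⁻¹ * z * l ∈ zc B := by
        have := (mem_normalizer_iff.1 (h2 (L.inv_mem hl)) z).1 hz
        rwa [inv_inv] at this
      have h5 := zc_comm hb h4
      calc l * b * l⁻¹ * z = l * (b * (l⁻¹ * z * l)) * l⁻¹ := by group
        _ = l * ((l⁻¹ * z * l) * b) * l⁻¹ := by rw [h5]
        _ = z * (l * b * l⁻¹) := by group
  rw [mem_centralizer_iff]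
  intro g hg
  exact mem_centralizer_singleton_iff.1 (h3 hg)

theorem admu (h : LBlk B L q) {l : G} (hl : l ∈ L) (hA : Ad B L l) {u : G} (hu : u ∈ B) (huQ : u ∉ o2 L) :
    Ad B L (l⁻¹ * u * l) := by
  have hul : l⁻¹ * u * l ∈ L := L.mul_mem (L.mul_mem (L.inv_mem hl) (h.le hu)) hl
  rw [ad_iff h hul]
  by_contra hcon
  push Not at hcon
  apply huQ
  refine inf_le_o2 h hl hA hu ?_
  refine mem_of_norm h hul hcon ?_
  obtain ⟨k, hk⟩ := h.two ⟨u, hu⟩
  refine ⟨k, ?_⟩
  have : u ^ 2 ^ k = 1 := congrArg Subtype.val hk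
  have e : (l⁻¹ * u * l) ^ 2 ^ k = l⁻¹ * u ^ 2 ^ k * l := by
    have := conj_pow (i := 2 ^ k) (a := l⁻¹) (b := u)
    rw [inv_inv] at this
    exact this
  rw [e, this]; group

/-- an element of order 3 inverted modulo `O₂(L)` -/
theorem inverts (h : LBlk B L q) : ∀ t ∈ B, t ∉ o2 L → ∃ x ∈ L, orderOf x = 3 ∧ t * x * t⁻¹ * x ∈ o2 L := by
  intro t ht htQ
  obtain ⟨F, _, _, _, ⟨D⟩⟩ := exists_dat h
  have h1 := T1Sl2.sylow_elem D.U _ ((D.memU ⟨t, h.le ht⟩).2 ht)
  obtain ⟨s, hs, hs2⟩ := T1Sl2.inverts_three h1 (fun h2 => htQ ((D.ker _).1 h2))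
  obtain ⟨x, hx, hx2⟩ := D.lift_odd s (by rw [hs]; decide)
  refine ⟨x, x.2, ?_, ?_⟩
  · rw [Subgroup.orderOf_coe, hx2, hs]
  · have h3 : D.φ (⟨t, h.le ht⟩ * x * ⟨t, h.le ht⟩⁻¹ * x) = 1 := by
      rw [map_mul, map_mul, map_mul, map_inv, hx, hs2, inv_mul_cancel]
    exact (D.ker _).1 h3

/-- `[v, b] ∈ R` implies `v ∈ Z` for `b ∈ B ∖ Q` -/
theorem nat (h : LBlk B L q) {b v : G} (hb : b ∈ B) (hbQ : b ∉ o2 L) (hv : v ∈ zl B L)
    (hc : b * v * b⁻¹ * v⁻¹ ∈ rl B L) : v ∈ zc B := by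
  obtain ⟨x, hx, ho, hbx⟩ := inverts h b hb hbQ
  set r := b * v * b⁻¹ * v⁻¹ with hr
  have hx3 : x * x * x = 1 := by
    have := pow_orderOf_eq_one x
    rw [ho] at this
    simpa [pow_succ] using this
  have hxr : x * r = r * x := rl_comm hc hx
  have hbr : b * r = r * b := rl_comm hc (h.le hb)
  have e1 : b * v * b⁻¹ = r * v := by rw [hr]; group
  -- conjugation by `x`
  set v1 := x * v * x⁻¹ with hv1
  set v2 := x * v1 * x⁻¹ with hv2
  have hv1V : v1 ∈ zl B L := zl_conj hx hv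
  have hv2V : v2 ∈ zl B L := zl_conj hx hv1V
  have e3 : x * v2 * x⁻¹ = v := by
    rw [hv2, hv1]
    calc x * (x * (x * v * x⁻¹) * x⁻¹) * x⁻¹ = (x * x * x) * v * (x * x * x)⁻¹ := by group
      _ = v := by rw [hx3]; group
  have e4 : x⁻¹ * v * x = v2 := by
    rw [← e3]; group
  have e5 : x⁻¹ * v2 * x = v1 := by
    rw [hv2]; group
  -- `b x b⁻¹ = y x⁻¹`
  set y := b * x * b⁻¹ * x with hy
  have hyV : ∀ w ∈ zl B L, y * w * y⁻¹ = w := by
    intro w hw
    have := o2_comm h hbx hw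
    rw [this, mul_inv_cancel_right]
  have e6 : b * x * b⁻¹ = y * x⁻¹ := by rw [hy]; group
  have hrinv : ∀ g : G, g * r = r * g → g⁻¹ * r * g = r := by
    intro g hg
    rw [mul_assoc, ← hg]; group
  have hrV : r ∈ zl B L := COneBlk.rl_le_zl B L hc
  have e7 : b * v1 * b⁻¹ = r * v2 := by
    calc b * v1 * b⁻¹ = (b * x * b⁻¹) * (b * v * b⁻¹) * (b * x * b⁻¹)⁻¹ := by rw [hv1]; group
      _ = y * (x⁻¹ * (r * v) * x) * y⁻¹ := by rw [e6, e1]; group
      _ = y * ((x⁻¹ * r * x) * (x⁻¹ * v * x)) * y⁻¹ := by group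
      _ = y * (r * v2) * y⁻¹ := by rw [hrinv x hxr, e4]
      _ = r * v2 := hyV _ ((zl B L).mul_mem hrV hv2V)
  have e8 : b * v2 * b⁻¹ = r * v1 := by
    calc b * v2 * b⁻¹ = (b * x * b⁻¹) * (b * v1 * b⁻¹) * (b * x * b⁻¹)⁻¹ := by rw [hv2]; group
      _ = y * (x⁻¹ * (r * v2) * x) * y⁻¹ := by rw [e6, e7]; group
      _ = y * ((x⁻¹ * r * x) * (x⁻¹ * v2 * x)) * y⁻¹ := by group
      _ = y * (r * v1) * y⁻¹ := by rw [hrinv x hxr, e5]
      _ = r * v1 := hyV _ ((zl B L).mul_mem hrV hv1V)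
  have hc1 : v * v1 = v1 * v := h.zl_comm v hv v1 hv1V
  have hc2 : v * v2 = v2 * v := h.zl_comm v hv v2 hv2V
  have hc3 : v1 * v2 = v2 * v1 := h.zl_comm v1 hv1V v2 hv2V
  -- `n = v v1 v2` is in `R`
  have hn : v * v1 * v2 ∈ rl B L := by
    refine h.fpf x hx ho _ ((zl B L).mul_mem ((zl B L).mul_mem hv hv1V) hv2V) ?_
    have e9 : x * (v * v1 * v2) * x⁻¹ = v * v1 * v2 := by
      calc x * (v * v1 * v2) * x⁻¹ = (x * v * x⁻¹) * (x * v1 * x⁻¹) * (x * v2 * x⁻¹) := by group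
        _ = v1 * v2 * v := by rw [← hv1, ← hv2, e3]
        _ = v1 * (v2 * v) := by group
        _ = v1 * (v * v2) := by rw [hc2]
        _ = (v1 * v) * v2 := by group
        _ = v * v1 * v2 := by rw [hc1]
    calc x * (v * v1 * v2) = (x * (v * v1 * v2) * x⁻¹) * x := by group
      _ = v * v1 * v2 * x := by rw [e9]
  have hbn : b * (v * v1 * v2) * b⁻¹ = v * v1 * v2 := by
    rw [rl_comm hn (h.le hb), mul_inv_cancel_right]
  have hrr : r * r = 1 := h.zl_sq _ hrV
  have hrc : ∀ w ∈ zl B L, w * r = r * w := fun w hw => h.zl_comm w hw r hrV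
  have e10 : b * (v * v1 * v2) * b⁻¹ = r * (v * v1 * v2) := by
    calc b * (v * v1 * v2) * b⁻¹ = (b * v * b⁻¹) * (b * v1 * b⁻¹) * (b * v2 * b⁻¹) := by group
      _ = r * v * (r * v2) * (r * v1) := by rw [e1, e7, e8]
      _ = r * (v * r) * v2 * r * v1 := by group
      _ = r * (r * v) * v2 * r * v1 := by rw [hrc v hv]
      _ = (r * r) * (v * (v2 * r) * v1) := by group
      _ = v * (r * v2) * v1 := by rw [hrr, one_mul, hrc v2 hv2V]
      _ = (v * r) * (v2 * v1) := by group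
      _ = (r * v) * (v1 * v2) := by rw [hrc v hv, hc3]
      _ = r * (v * v1 * v2) := by group
  rw [hbn] at e10
  have hr1 : r = 1 := by
    have := mul_right_cancel (b := v * v1 * v2) (a := 1) (c := r) (by rw [one_mul]; exact e10)
    exact this.symm
  refine h.cent b hb hbQ v hv ?_
  have : b * v * b⁻¹ = v := by rw [e1, hr1, one_mul]
  calc b * v = (b * v * b⁻¹) * b := by group
    _ = v * b := by rw [this]

theorem comm_mem' (h : LBlk B L q) {v b : G} (hv : v ∈ zl B L) (hb : b ∈ B) : v * b * v⁻¹ * b⁻¹ ∈ zc B := by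
  have e : v * b * v⁻¹ * b⁻¹ = (b * v * b⁻¹ * v⁻¹)⁻¹ := by group
  rw [e]
  exact (zc B).inv_mem (h.comm b hb v hv)

theorem rl_le_normalizer (L : Subgroup G) : L ≤ normalizer (rl B L : Set G) := by
  intro g hg
  exact Subgroup.mem_normalizer_fintype (fun r hr => by
    rw [rl_comm hr hg, mul_inv_cancel_right]; exact hr)

/-- `Z = [V, B] R` -/
theorem zc_le_sup (h : LBlk B L q) : zc B ≤ ⁅zl B L, B⁆ ⊔ rl B L := by
  obtain ⟨b, hb, hbQ⟩ := exists_not_mem h
  let f : zl B L →* G :=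
    { toFun := fun v => v * b * (v : G)⁻¹ * b⁻¹
      map_one' := by simp
      map_mul' := fun v w => by
        have h1 : (w : G) * b * (w : G)⁻¹ * b⁻¹ ∈ zl B L := zc_le_zl B L (comm_mem' h w.2 hb)
        have h2 := h.zl_comm v v.2 _ h1
        show (v * w : G) * b * (v * w : G)⁻¹ * b⁻¹ = (v * b * (v : G)⁻¹ * b⁻¹) * (w * b * (w : G)⁻¹ * b⁻¹)
        have h3 : (w * b * (w : G)⁻¹ * b⁻¹) * (v * b * (v : G)⁻¹ * b⁻¹) =
            (v * b * (v : G)⁻¹ * b⁻¹) * (w * b * (w : G)⁻¹ * b⁻¹) :=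
          h.zl_comm _ h1 _ (zc_le_zl B L (comm_mem' h v.2 hb))
        calc (v * w : G) * b * (v * w : G)⁻¹ * b⁻¹
            = (v * (w * b * (w : G)⁻¹ * b⁻¹)) * b * (v : G)⁻¹ * b⁻¹ := by group
          _ = ((w * b * (w : G)⁻¹ * b⁻¹) * v) * b * (v : G)⁻¹ * b⁻¹ := by rw [h2]
          _ = (w * b * (w : G)⁻¹ * b⁻¹) * (v * b * (v : G)⁻¹ * b⁻¹) := by group
          _ = _ := h3 }
  have hf : ∀ v : zl B L, f v = v * b * (v : G)⁻¹ * b⁻¹ := fun _ => rfl
  have hker : f.ker = (zc B).subgroupOf (zl B L) := by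
    ext v
    rw [MonoidHom.mem_ker, mem_subgroupOf, hf]
    constructor
    · intro h1
      refine h.cent b hb hbQ v v.2 ?_
      have h2 : (v : G) * b * (v : G)⁻¹ = b := mul_inv_eq_one.1 h1
      calc b * v = ((v : G) * b * (v : G)⁻¹) * v := by rw [h2]
        _ = v * b := by group
    · intro h1
      rw [← zc_comm hb h1]; group
  have hcard : Nat.card f.range = q := by
    rw [← Subgroup.index_ker, hker]
    exact h.zl_index
  have hle : f.range ≤ zc B := by
    rintro _ ⟨v, rfl⟩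
    exact comm_mem' h v.2 hb
  have hle2 : f.range ≤ ⁅zl B L, B⁆ := by
    rintro _ ⟨v, rfl⟩
    exact commutator_mem_commutator v.2 hb
  have hinf : rl B L ⊓ f.range = ⊥ := by
    rw [eq_bot_iff]
    rintro _ ⟨hr, v, rfl⟩
    rw [SetLike.mem_coe] at hr
    have h1 : b * v * b⁻¹ * (v : G)⁻¹ ∈ rl B L := by
      have e : b * v * b⁻¹ * (v : G)⁻¹ = (f v)⁻¹ := by rw [hf]; group
      rw [e]; exact (rl B L).inv_mem hr
    have h2 := nat h hb hbQ v.2 h1
    rw [mem_bot, hf, ← zc_comm hb h2]; group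
  have h3 := T1Tools.card_sup_mul (K := rl B L) (H := f.range)
    ((hle.trans ((zc_le_zl B L).trans ((COnePair.zl_le h).trans h.le))).trans (rl_le_normalizer L))
  rw [hinf, card_bot, mul_one, hcard] at h3
  have h4 := T1Tools.card_mul_relIndex (COneBlk.rl_le_zc B L)
  rw [h.rl_index] at h4
  have h5 : rl B L ⊔ f.range = zc B :=
    Subgroup.eq_of_le_of_card_ge (sup_le (COneBlk.rl_le_zc B L) hle) (by rw [h3, h4])
  rw [← h5]
  exact sup_le le_sup_right (hle2.trans le_sup_left)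

/-- an `SL₂(q)`-block is a block -/
theorem bk_of_lblk (h : LBlk B L q) : Bk B (zc B) L (o2 L) (zl B L) (rl B L) := by
  refine
    { le := h.le
      QB := h.o2_le
      VQ := COnePair.zl_le_o2 h
      ZV := zc_le_zl B L
      RZ := COneBlk.rl_le_zc B L
      nR := ?_
      nt := exists_not_mem h
      Qn := FinalBridge.le_normalizer_o2 L
      Vn := FinalBridge.le_normalizer_zl B L
      Vsq := h.zl_sq
      QV := fun x hx v hv => o2_comm h hx hv
      cent := ?_
      BZ := fun b hb z hz => zc_comm hb hz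
      comm := fun v hv b hb => comm_mem' h hv hb
      ncomm := h.cent
      RP := fun p hp r hr => rl_comm hr hp
      fix := ?_
      card := by rw [h.o2_index, h.zl_index]
      sup := zc_le_sup h
      adm2 := ?_
      admu := fun l hl hA u hu huQ => admu h hl hA hu huQ }
  · intro hle
    have h5 : rl B L = zc B := le_antisymm (COneBlk.rl_le_zc B L) hle
    have h6 := h.rl_index
    rw [h5, relIndex_self] at h6
    have := h.four
    omega
  · intro b hb hc
    rw [← h.cent_zl]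
    exact ⟨hb, mem_centralizer_iff.2 (fun v hv => (hc v hv).symm)⟩
  · intro v hv hc
    obtain ⟨b, hb, hbQ⟩ := exists_not_mem h
    exact ⟨h.cent b hb hbQ v hv (hc b (h.le hb)), mem_centralizer_iff.2 hc⟩
  · obtain ⟨l, hl, hlb⟩ := not_normal h
    have hA := (ad_iff h hl).2 hlb
    obtain ⟨u, hu, huQ⟩ := exists_not_mem h
    refine ⟨l, hl, u * l, L.mul_mem (h.le hu) hl, hA, ?_, ?_⟩
    · rw [ad_iff h (L.mul_mem (h.le hu) hl)]
      obtain ⟨b, hb, hb'⟩ := hlb
      refine ⟨b, hb, fun hcon => hb' ?_⟩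
      have e : l * b * l⁻¹ = u⁻¹ * (u * l * b * (u * l)⁻¹) * u := by group
      rw [e]
      exact B.mul_mem (B.mul_mem (B.inv_mem hu) hcon) hu
    · rw [← mul_assoc]
      exact admu h hl hA hu huQ

end LB

section DB

open Cfsg.Agent.MinSimple.DBlkApi (IsPt exists_pt)

variable {B L : Subgroup G} {k : ℕ} {z : G}

theorem dad_of_moves (h : IsDBlk B L k) (hz : IsPt B L z) {l : G} (hl : l ∈ L) (hlz : l * z * l⁻¹ ≠ z) :
    Ad B L l := by
  obtain ⟨y, hy, h0, h1, h2, h3, h4⟩ := h.dih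
  obtain ⟨n, b, hb, rfl⟩ := h2 l hl
  have hzV := hz.1
  have hbz : b * z * b⁻¹ = z := hz.conj hb
  have hyz : y ^ n * z * (y ^ n)⁻¹ ≠ z := by
    intro hcon
    apply hlz
    calc y ^ n * b * z * (y ^ n * b)⁻¹ = y ^ n * (b * z * b⁻¹) * (y ^ n)⁻¹ := by group
      _ = z := by rw [hbz, hcon]
  have hn3 : ¬ 3 ∣ n := by
    rintro ⟨m, rfl⟩
    apply hyz
    have key : ∀ m : ℕ, y ^ (3 * m) * z * (y ^ (3 * m))⁻¹ = z := by
      intro m
      induction m with
      | zero => simp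
      | succ m ih =>
        have e : y ^ (3 * (m + 1)) * z * (y ^ (3 * (m + 1)))⁻¹ =
            y ^ 3 * (y ^ (3 * m) * z * (y ^ (3 * m))⁻¹) * (y ^ 3)⁻¹ := by
          rw [show 3 * (m + 1) = 3 + 3 * m by ring, pow_add]; group
        rw [e, ih, h4 z hzV]
    exact key m
  intro H hBH hlH
  have hQH : o2 L ≤ H := h.o2_le.trans hBH
  obtain ⟨u, hu, huQ⟩ := DBlkApi.exists_b h
  have h5 : y ^ n * u * (y ^ n)⁻¹ ∈ H := by
    have h6 := hlH (b⁻¹ * u * b) (B.mul_mem (B.mul_mem (B.inv_mem hb) hu) hb)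
    have e : y ^ n * b * (b⁻¹ * u * b) * (y ^ n * b)⁻¹ = y ^ n * u * (y ^ n)⁻¹ := by group
    rwa [e] at h6
  have h6 := hQH (DBlkApi.conj_pow_mul h hy hu (h1 u hu huQ) n)
  have h7 : y ^ (2 * n) ∈ H := by
    have e : y ^ (2 * n) = (y ^ n * u * (y ^ n)⁻¹) * u⁻¹ * (u * y ^ n * u⁻¹ * y ^ n) := by
      rw [two_mul, pow_add]; group
    rw [e]
    exact H.mul_mem (H.mul_mem h5 (H.inv_mem (hBH hu))) h6
  have h8 : y ∈ H := by
    have hco : Nat.Coprime (2 * n) (orderOf y) := by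
      have h9 : orderOf y ∣ 3 ^ k := orderOf_dvd_of_pow_eq_one h0
      refine Nat.Coprime.coprime_dvd_right h9 ?_
      refine Nat.Coprime.pow_right k ?_
      refine Nat.Coprime.mul_left (by decide) ?_
      exact ((Nat.Prime.coprime_iff_not_dvd Nat.prime_three).2 hn3).symm
    obtain ⟨m, hm⟩ := exists_pow_eq_self_of_coprime hco
    rw [← hm]
    exact H.pow_mem h7 m
  intro g hg
  obtain ⟨m, c, hc, rfl⟩ := h2 g hg
  exact H.mul_mem (H.pow_mem h8 m) (hBH hc)

theorem moves_of_dad (h : IsDBlk B L k) (hz : IsPt B L z) {l : G} (hA : Ad B L l) : l * z * l⁻¹ ≠ z := by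
  intro hlz
  have h1 : L ≤ centralizer ({z} : Set G) := by
    refine hA _ ?_ ?_
    · intro b hb
      rw [mem_centralizer_singleton_iff]; exact hz.comm hb
    · intro b hb
      rw [mem_centralizer_singleton_iff]
      have h2 := hz.comm hb
      calc l * b * l⁻¹ * z = l * b * l⁻¹ * (l * z * l⁻¹) := by rw [hlz]
        _ = l * (b * z) * l⁻¹ := by group
        _ = l * (z * b) * l⁻¹ := by rw [h2]
        _ = (l * z * l⁻¹) * (l * b * l⁻¹) := by group
        _ = z * (l * b * l⁻¹) := by rw [hlz]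
  obtain ⟨g, hg, hgz⟩ := DBlkApi.moves h hz
  apply hgz
  rw [mem_centralizer_singleton_iff.1 (h1 hg), mul_inv_cancel_right]

/-- a dihedral block is a block -/
theorem bk_of_dblk (h : IsDBlk B L k) : Bk B (zc B) L (o2 L) (zl B L) (rl B L) := by
  obtain ⟨z, hz⟩ := exists_pt h
  have hVc : ∀ v ∈ vl B L, ∀ b ∈ B, b ∉ o2 L → b * v = v * b → v = 1 ∨ v = z := by
    intro v hv b hb hbQ hc
    by_contra hcon
    push Not at hcon
    have h1 := DBlkApi.conj_eq h hz hv hcon.1 hcon.2 hb hbQ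
    rw [hc, mul_inv_cancel_right] at h1
    apply hz.2.2
    have := mul_right_cancel (b := v) (a := 1) (c := z) (by rw [one_mul]; exact h1)
    exact this.symm
  have hncomm : ∀ b ∈ B, b ∉ o2 L → ∀ v ∈ zl B L, b * v = v * b → v ∈ zc B := by
    intro b hb hbQ v hv hc
    obtain ⟨r, hr, w, hw, rfl⟩ := DBlkApi.mem_zl h hv
    have hrz : r ∈ zc B := COneBlk.rl_le_zc B L hr
    have h1 : b * w = w * b := by
      have h2 := DBlkApi.rl_comm hr (h.le hb)
      have h3 : r * (b * w) = r * (w * b) := by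
        calc r * (b * w) = (r * b) * w := by group
          _ = (b * r) * w := by rw [h2]
          _ = b * (r * w) := by group
          _ = (r * w) * b := hc
          _ = r * (w * b) := by group
      exact mul_left_cancel h3
    rcases hVc w hw b hb hbQ h1 with rfl | rfl
    · rw [mul_one]; exact hrz
    · exact (zc B).mul_mem hrz hz.2.1
  have hsq : ∀ v ∈ zl B L, v * v = 1 := by
    intro v hv
    rw [← pow_two]; exact h.zl_sq v hv
  have hidx : (zc B).relIndex (zl B L) = 2 := by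
    have h1 := T1Tools.card_sup_mul (K := rl B L) (H := vl B L)
      (((vl_le_zl B L).trans ((DBlkApi.zl_le_B h).trans h.le)).trans (rl_le_normalizer L))
    rw [h.disj, card_bot, mul_one, h.sup_eq, h.card_vl] at h1
    have h2 := T1Tools.card_mul_relIndex (COneBlk.rl_le_zc B L)
    rw [h.rl_index] at h2
    have h3 := T1Tools.card_mul_relIndex (zc_le_zl B L)
    rw [h1, ← h2] at h3
    have h4 : 0 < Nat.card (rl B L) := Nat.card_pos
    have h5 : Nat.card (rl B L) * 2 * (zc B).relIndex (zl B L) = Nat.card (rl B L) * 2 * 2 := by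
      rw [h3]; ring
    exact Nat.eq_of_mul_eq_mul_left (by omega) h5
  refine
    { le := h.le
      QB := h.o2_le
      VQ := DBlkApi.zl_le_o2 h
      ZV := zc_le_zl B L
      RZ := COneBlk.rl_le_zc B L
      nR := ?_
      nt := DBlkApi.exists_b h
      Qn := FinalBridge.le_normalizer_o2 L
      Vn := FinalBridge.le_normalizer_zl B L
      Vsq := hsq
      QV := ?_
      cent := ?_
      BZ := fun b hb z hz => zc_comm hb hz
      comm := ?_
      ncomm := hncomm
      RP := fun p hp r hr => COneBlk.rl_comm hr hp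
      fix := ?_
      card := by rw [h.o2_index, hidx]
      sup := ?_
      adm2 := ?_
      admu := ?_ }
  · intro hle
    have h5 : rl B L = zc B := le_antisymm (COneBlk.rl_le_zc B L) hle
    have h6 := h.rl_index
    rw [h5, relIndex_self] at h6
    omega
  · intro x hx v hv
    exact (mem_centralizer_iff.1 (DBlkApi.o2_cent_zl h hx) v hv).symm
  · intro b hb hc
    rw [← h.cent_zl]
    exact ⟨hb, mem_centralizer_iff.2 (fun v hv => (hc v hv).symm)⟩
  · intro v hv b hb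
    have h1 := DBlkApi.comm_eq h hz hv hb
    rw [commutatorElement_def] at h1
    rcases h1 with h1 | h1
    · rw [h1]; exact one_mem _
    · rw [h1]; exact hz.2.1
  · intro v hv hc
    obtain ⟨b, hb, hbQ⟩ := DBlkApi.exists_b h
    exact ⟨hncomm b hb hbQ v hv (hc b (h.le hb)), mem_centralizer_iff.2 hc⟩
  · intro x hx
    rw [DBlkApi.commutator_eq h hz]
    rcases DBlkApi.mem_zc_cases h hz hx with h1 | h1
    · exact mem_sup_right h1
    · have e : x = z⁻¹ * (z * x) := by group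
      rw [e]
      exact mul_mem (mem_sup_left (inv_mem (mem_zpowers z))) (mem_sup_right h1)
  · obtain ⟨y, hy, h0, h1, h2, h3, h4⟩ := h.dih
    have hyz : y * z * y⁻¹ ≠ z := fun hc => hz.2.2 (h3 z hz.1 hc)
    have hy2 : (y * y) * z * (y * y)⁻¹ ≠ z := by
      intro hc
      apply hyz
      have h5 := h4 z hz.1
      have e0 : y ^ 3 = y * (y * y) := by rw [pow_succ, pow_two, mul_assoc]
      have e : y ^ 3 * z * (y ^ 3)⁻¹ = y * ((y * y) * z * (y * y)⁻¹) * y⁻¹ := by
        rw [e0]; simp only [mul_inv_rev, mul_assoc]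
      rw [e, hc] at h5
      exact h5
    refine ⟨y, hy, y * y, L.mul_mem hy hy, dad_of_moves h hz hy hyz,
      dad_of_moves h hz (L.mul_mem hy hy) hy2, ?_⟩
    rw [inv_mul_cancel_left]
    exact dad_of_moves h hz hy hyz
  · intro l hl hA u hu huQ
    have h1 := moves_of_dad h hz hA
    refine dad_of_moves h hz (L.mul_mem (L.mul_mem (L.inv_mem hl) (h.le hu)) hl) ?_
    intro hc
    have h2 : l * z * l⁻¹ ∈ vl B L := Four.conj_mem (le_normalizer_vl B L hl) hz.1
    have h3 : l * z * l⁻¹ ≠ 1 := fun h => hz.2.2 (conj_eq_one_iff.mp h)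
    have h4 := DBlkApi.conj_eq h hz h2 h3 h1 hu huQ
    have h5 : u * (l * z * l⁻¹) * u⁻¹ = l * z * l⁻¹ := by
      calc u * (l * z * l⁻¹) * u⁻¹ = l * ((l⁻¹ * u * l) * z * (l⁻¹ * u * l)⁻¹) * l⁻¹ := by group
        _ = l * z * l⁻¹ := by rw [hc]
    rw [h4] at h5
    apply hz.2.2
    exact mul_right_cancel (b := l * z * l⁻¹) (a := z) (c := 1) (by rw [one_mul]; exact h5)

end DB

section graph

variable {B L L' V' : Subgroup G} {q : ℕ}

/-- no nontrivial subgroup normal in both (from the same statement for subgroups of `B`) -/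
theorem core_of (h : LBlk B L q) (hBL' : B ≤ L')
    (core : ∀ N : Subgroup G, N ≤ B → L ≤ normalizer (N : Set G) → L' ≤ normalizer (N : Set G) → N = ⊥)
    {X : Subgroup G} (hX : X ≤ B) (hX' : L' ≤ normalizer (X : Set G)) (hX1 : X ≠ ⊥) :
    (¬ L ≤ L') ∧ (∀ x, x ∈ L → x ∈ L' → (∃ k : ℕ, x ^ 2 ^ k = 1) → x ∈ B) ∧
    ∀ N : Subgroup G, N ≤ L → N ≤ L' → L ≤ normalizer (N : Set G) → L' ≤ normalizer (N : Set G) → N = ⊥ := by
  have h0 : ¬ L ≤ L' := fun hle => hX1 (core X hX (hle.trans hX') hX')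
  have h1 : ∀ x, x ∈ L → x ∈ L' → (∃ k : ℕ, x ^ 2 ^ k = 1) → x ∈ B := by
    intro x hx hx' h2
    rcases normalizes_or h (K := L ⊓ L') (le_inf h.le hBL') inf_le_left with h3 | h3
    · exact mem_of_norm h hx (h3 x ⟨hx, hx'⟩) h2
    · exact absurd (by rw [← h3]; exact inf_le_right) h0
  refine ⟨h0, h1, ?_⟩
  intro N hNL hNL' hn hn'
  apply core N ?_ hn hn'
  -- the elements of `N` normalise `B`
  have h3 : ∀ x ∈ N, ∀ b ∈ B, x * b * x⁻¹ ∈ B := by
    rcases normalizes_or h (K := N ⊔ B) le_sup_right (sup_le hNL h.le) with h4 | h4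
    · exact fun x hx => h4 x (mem_sup_left hx)
    · exact absurd (by rw [← h4]; exact sup_le hNL' hBL') h0
  -- the 2-elements of `N` are in `B`, so in `O₂(L)`
  have h4 : ∀ x ∈ N, x ∈ B → x ∈ o2 L := by
    intro x hx hxB
    obtain ⟨l, hl, hlb⟩ := not_normal h
    have hA := (ad_iff h hl).2 hlb
    refine inf_le_o2 h hl hA hxB ?_
    have h5 : l⁻¹ * x * l ∈ N := by
      have := (mem_normalizer_iff.1 (hn (L.inv_mem hl)) x).1 hx
      rwa [inv_inv] at this
    refine mem_of_norm h (hNL h5) (h3 _ h5) ?_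
    obtain ⟨k, hk⟩ := h.two ⟨x, hxB⟩
    refine ⟨k, ?_⟩
    have e1 : x ^ 2 ^ k = 1 := congrArg Subtype.val hk
    have e : (l⁻¹ * x * l) ^ 2 ^ k = l⁻¹ * x ^ 2 ^ k * l := by
      have := conj_pow (i := 2 ^ k) (a := l⁻¹) (b := x)
      rw [inv_inv] at this
      exact this
    rw [e, e1]; group
  obtain ⟨K, hKL, -, -, hnB, hfac, hfpf⟩ := exists_torus h
  intro x hx
  obtain ⟨t, ht, k, hk, rfl⟩ := hfac x (hNL hx) (h3 x hx)
  by_cases hk1 : k = 1
  · rw [hk1, mul_one]; exact ht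
  · exfalso
    obtain ⟨b, hb, hbQ⟩ := exists_not_mem h
    apply hbQ
    refine hfpf k hk hk1 b hb ?_
    -- `[x, b] ∈ N ∩ B ≤ Q`
    have h5 : t * k * b * (t * k)⁻¹ * b⁻¹ ∈ o2 L := by
      apply h4
      · have h6 : b * (t * k)⁻¹ * b⁻¹ ∈ N := (mem_normalizer_iff.1 (hn (h.le hb)) _).1 (N.inv_mem hx)
        have e : t * k * b * (t * k)⁻¹ * b⁻¹ = (t * k) * (b * (t * k)⁻¹ * b⁻¹) := by group
        rw [e]; exact N.mul_mem hx h6
      · exact B.mul_mem (h3 _ hx b hb) (B.inv_mem hb)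
    -- `[t, ·] ∈ Q`
    have h7 : ∀ s ∈ B, ∀ t ∈ B, s * t * s⁻¹ * t⁻¹ ∈ o2 L := by
      intro s hs t ht
      obtain ⟨F, _, _, _, ⟨D⟩⟩ := exists_dat h
      have g1 := T1Sl2.sylow_elem D.U _ ((D.memU ⟨s, h.le hs⟩).2 hs)
      have g2 := T1Sl2.sylow_elem D.U _ ((D.memU ⟨t, h.le ht⟩).2 ht)
      have g3 := T1Sl2.sylow_elem D.U _ (mul_mem ((D.memU ⟨s, h.le hs⟩).2 hs) ((D.memU ⟨t, h.le ht⟩).2 ht))
      have g4 := T1Local.comm_eq_one g1 g2 g3
      rw [← map_inv, ← map_inv, ← map_mul, ← map_mul, ← map_mul, D.ker] at g4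
      exact g4
    have h8 : k * b * k⁻¹ ∈ B := hnB k hk b hb
    have h9 := h7 t ht _ h8
    have e : k * b * k⁻¹ * b⁻¹ = (t * (k * b * k⁻¹) * t⁻¹ * (k * b * k⁻¹)⁻¹)⁻¹ * 
        (t * k * b * (t * k)⁻¹ * b⁻¹) := by group
    rw [e]
    exact (o2 L).mul_mem ((o2 L).inv_mem h9) h5

/-- **the graph argument** for an `SL₂(q)`-block `L` and another block `L'` -/
theorem graph (h : LBlk B L q) {Q' V' R' : Subgroup G} (h' : Bk B (zc B) L' Q' V' R')
    (core : ∀ N : Subgroup G, N ≤ B → L ≤ normalizer (N : Set G) → L' ≤ normalizer (N : Set G) → N = ⊥)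
    (hc : ∀ x ∈ zl B L, ∀ y ∈ V', x * y = y * x) :
    ((∀ x ∈ V', ∀ b ∈ B, x * b * x⁻¹ * b⁻¹ ∈ rl B L) ∧ L ≤ normalizer ((zl B L ⊔ V' : Subgroup G) : Set G) ∧
        B ≤ o2 L ⊔ Q') ∨
      ((∀ x ∈ zl B L, ∀ b ∈ B, x * b * x⁻¹ * b⁻¹ ∈ R') ∧ L' ≤ normalizer ((V' ⊔ zl B L : Subgroup G) : Set G) ∧
        B ≤ Q' ⊔ o2 L) := by
  have hVne : Q' ≠ ⊥ := by
    intro h0
    apply h'.nR
    intro z hz
    have h1 := h'.VQ (h'.ZV hz)
    rw [h0, mem_bot] at h1
    rw [h1]; exact one_mem _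
  obtain ⟨-, h2, h3⟩ := core_of h h'.le core h'.QB h'.Qn hVne
  have hB := bk_of_lblk h
  have key := bk_main (P := fun i => cond i L' L) (Q := fun i => cond i Q' (o2 L)) (V := fun i => cond i V' (zl B L))
    (R := fun i => cond i R' (rl B L)) (B := B) (Z := zc B) (by
      intro i
      cases i
      · exact hB
      · exact h') h.two (fun x hx hx' hk => h2 x hx hx' hk) h3 hc
  obtain ⟨i, h4, h5, h6⟩ := key
  cases i
  · left; exact ⟨h4, h5, h6⟩
  · right; exact ⟨h4, h5, h6⟩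

end graph

end Cfsg.Agent.OddCyclic.APQ
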