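import Cfsg.Agent.OddCyclic.APQBlk
import Cfsg.Agent.OddCyclic.CompBasic

/-!
# S0342, case C2: two commuting `SL₂(q)`-blocks over the same Baumann subgroup do not exist

`L`, `L'` are `SL₂(q)`-, `SL₂(q')`-blocks over `B` with `V = zl B L`, `V' = zl B L'` commuting.  By the graph argument
`[V', B] ≤ R = C_Z(L)` and `L` normalises `V V'` (up to exchanging `L` and `L'`).  Then
`N = V' ∩ V'^l` satisfies `[N, L] ≤ R`, `|N| = q'²`, and `N` is normalised by a conjugate of `L'`.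
-/

set_option autoImplicit false
set_option linter.unusedSectionVars false

namespace Cfsg.Agent.OddCyclic.APQ

open Subgroup Pointwise Cfsg Cfsg.Agent.ZN Cfsg.Agent.MinSimple
open Cfsg.Agent.OddCyclic.COneDefs Cfsg.Agent.OddCyclic.COneBlk Cfsg.Agent.OddCyclic.COnePair
open Cfsg.Agent.OddCyclic.T1Defs
open Cfsg.Agent.LieExceptional.CITPlaneCount (cj mem_cj card_cj conj_mem_cj cj_mul cj_one cj_eq_self_of_mem_normalizer)
open scoped commutatorElement

universe u

variable {G : Type u} [Group G]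

/-! ### Tools -/

/-- the stabiliser of the chain `D ≤ X` acting trivially on `X / D` -/
def St (X D : Subgroup G) : Subgroup G where
  carrier := {g | g ∈ normalizer (X : Set G) ∧ g ∈ normalizer (D : Set G) ∧ ∀ x ∈ X, g * x * g⁻¹ * x⁻¹ ∈ D}
  one_mem' := ⟨one_mem _, one_mem _, fun x _ => by
    have : (1 : G) * x * 1⁻¹ * x⁻¹ = 1 := by group
    rw [this]; exact one_mem _⟩
  mul_mem' := by
    rintro g g' ⟨h1, h2, h3⟩ ⟨h1', h2', h3'⟩
    refine ⟨mul_mem h1 h1', mul_mem h2 h2', fun x hx => ?_⟩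
    have e : g * g' * x * (g * g')⁻¹ * x⁻¹ = (g * (g' * x * g'⁻¹ * x⁻¹) * g⁻¹) * (g * x * g⁻¹ * x⁻¹) := by group
    rw [e]
    exact D.mul_mem ((mem_normalizer_iff.1 h2 _).1 (h3' x hx)) (h3 x hx)
  inv_mem' := by
    rintro g ⟨h1, h2, h3⟩
    refine ⟨inv_mem h1, inv_mem h2, fun x hx => ?_⟩
    have e : g⁻¹ * x * g⁻¹⁻¹ * x⁻¹ = g⁻¹ * (g * x * g⁻¹ * x⁻¹)⁻¹ * g⁻¹⁻¹ := by group
    rw [e]
    exact (mem_normalizer_iff.1 (inv_mem h2) _).1 (D.inv_mem (h3 x hx))

theorem mem_St {X D : Subgroup G} {g : G} : g ∈ St X D ↔ g ∈ normalizer (X : Set G) ∧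
    g ∈ normalizer (D : Set G) ∧ ∀ x ∈ X, g * x * g⁻¹ * x⁻¹ ∈ D := Iff.rfl

theorem mem_St_of [Finite G] {X D : Subgroup G} (hDX : D ≤ X) {g : G} (hg : g ∈ normalizer (D : Set G))
    (hx : ∀ x ∈ X, g * x * g⁻¹ * x⁻¹ ∈ D) : g ∈ St X D := by
  refine ⟨Subgroup.mem_normalizer_fintype (fun x hxX => ?_), hg, hx⟩
  have e : g * x * g⁻¹ = (g * x * g⁻¹ * x⁻¹) * x := by group
  rw [e]
  exact X.mul_mem (hDX (hx x hxX)) hxX

theorem norm_St [Finite G] {X D : Subgroup G} {g : G} (h1 : g ∈ normalizer (X : Set G))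
    (h2 : g ∈ normalizer (D : Set G)) : g ∈ normalizer (St X D : Set G) := by
  refine Subgroup.mem_normalizer_fintype (fun a ha => ?_)
  obtain ⟨h3, h4, h5⟩ := ha
  refine ⟨mul_mem (mul_mem h1 h3) (inv_mem h1), mul_mem (mul_mem h2 h4) (inv_mem h2), fun x hx => ?_⟩
  have h6 : g⁻¹ * x * g ∈ X := by
    have := (mem_normalizer_iff.1 (inv_mem h1) x).1 hx
    rwa [inv_inv] at this
  have e : g * a * g⁻¹ * x * (g * a * g⁻¹)⁻¹ * x⁻¹ =
      g * (a * (g⁻¹ * x * g) * a⁻¹ * (g⁻¹ * x * g)⁻¹) * g⁻¹ := by group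
  rw [e]
  exact (mem_normalizer_iff.1 h2 _).1 (h5 _ h6)

/-- an element of odd order acting as `x ↦ ρ x`, `ρ² = 1`, acts trivially -/
theorem eq_one_of_odd {g x r : G} (hg : Odd (orderOf g)) (h1 : g * x * g⁻¹ = r * x) (h2 : g * r = r * g)
    (h3 : r * r = 1) : r = 1 := by
  have key : ∀ n : ℕ, g ^ n * x * (g ^ n)⁻¹ = r ^ n * x := by
    intro n
    induction n with
    | zero => simp
    | succ n ih =>
      have h4 : g * r ^ n = r ^ n * g := by
        have : Commute g (r ^ n) := (show Commute g r from h2).pow_right n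
        exact this.eq
      calc g ^ (n + 1) * x * (g ^ (n + 1))⁻¹ = g * (g ^ n * x * (g ^ n)⁻¹) * g⁻¹ := by
            rw [pow_succ']; group
        _ = g * (r ^ n * x) * g⁻¹ := by rw [ih]
        _ = (g * r ^ n) * x * g⁻¹ := by group
        _ = (r ^ n * g) * x * g⁻¹ := by rw [h4]
        _ = r ^ n * (g * x * g⁻¹) := by group
        _ = r ^ (n + 1) * x := by rw [h1, pow_succ]; group
  have h4 := key (orderOf g)
  rw [pow_orderOf_eq_one] at h4
  have h5 : r ^ orderOf g = 1 := by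
    have e : (1 : G) * x * 1⁻¹ = 1 * x := by group
    rw [e] at h4
    exact (mul_right_cancel h4).symm
  obtain ⟨m, hm⟩ := hg
  rw [hm, pow_succ, pow_mul, pow_two, h3, one_pow, one_mul] at h5
  exact h5

variable [Finite G]

/-- a subgroup normalised by `B` and `B ^ l` is normalised by `L` -/
theorem le_of_ad {B L H : Subgroup G} {l : G} (hA : Ad B L l) (h1 : B ≤ H) (h2 : ∀ b ∈ B, l * b * l⁻¹ ∈ H) :
    L ≤ H := hA H h1 h2

/-- Frattini argument: an element normalising `E` may be changed by an element of `E` to normalise a Sylow subgroup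
of `E` containing a given `r`-element. -/
theorem frat {r : ℕ} (hr : r.Prime) {E : Subgroup G} {k k0 : G} (hk : k ∈ E) (hkr : orderOf k = r)
    (hk0 : k0 ∈ normalizer (E : Set G)) : ∃ P : Subgroup G, k ∈ P ∧ P ≤ E ∧ IsPGroup r P ∧
      ∃ e ∈ E, e * k0 ∈ normalizer (P : Set G) := by
  have _ : Fact r.Prime := ⟨hr⟩
  set X : Subgroup G := normalizer (E : Set G) with hX
  have hEX : E ≤ X := le_normalizer
  have h1 : IsPGroup r (zpowers (⟨k, hEX hk⟩ : X)) := by
    refine IsPGroup.of_card (n := 1) ?_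
    rw [Nat.card_zpowers, Subgroup.orderOf_mk, hkr, pow_one]
  obtain ⟨R, hR⟩ := h1.exists_le_sylow
  have hn : (E.subgroupOf X).Normal := normal_subgroupOf_of_le_normalizer le_rfl
  have h2 := Lib.SylowNormalInf.normalizer_inf_sup_eq_top R (E.subgroupOf X)
  have h3 : (⟨k0, hk0⟩ : X) ∈ normalizer (((R : Subgroup X) ⊓ E.subgroupOf X : Subgroup X) : Set X) ⊔
      E.subgroupOf X := by
    rw [h2]; exact mem_top _
  rw [mem_sup_of_normal_right] at h3
  obtain ⟨a, ha, b, hb, hab⟩ := h3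
  have hab' : (a : G) * (b : G) = k0 := congrArg Subtype.val hab
  refine ⟨((R : Subgroup X) ⊓ E.subgroupOf X).map X.subtype, ⟨⟨k, hEX hk⟩, ⟨hR (mem_zpowers _), hk⟩, rfl⟩, ?_, ?_,
    k0 * (b : G)⁻¹ * k0⁻¹, (mem_normalizer_iff.1 hk0 _).1 (E.inv_mem hb), ?_⟩
  · rintro _ ⟨x, ⟨-, hx⟩, rfl⟩
    exact hx
  · exact (R.isPGroup'.to_le inf_le_left).map _
  · have e : k0 * (b : G)⁻¹ * k0⁻¹ * k0 = a := by rw [← hab']; group
    rw [e]
    refine Subgroup.mem_normalizer_fintype ?_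
    rintro _ ⟨x, hx, rfl⟩
    exact ⟨a * x * a⁻¹, (mem_normalizer_iff.1 ha x).1 hx, rfl⟩

/-! ### The configuration -/

/-- the output of the graph argument for two `SL₂(q)`-blocks -/
structure EndH (B L L' : Subgroup G) (q q' : ℕ) : Prop where
  b : LBlk B L q
  b' : LBlk B L' q'
  comm : ∀ x ∈ zl B L, ∀ y ∈ zl B L', x * y = y * x
  hR : ∀ x ∈ zl B L', ∀ b ∈ B, x * b * x⁻¹ * b⁻¹ ∈ rl B L
  hN : L ≤ normalizer ((zl B L ⊔ zl B L' : Subgroup G) : Set G)
  hQ : B ≤ o2 L ⊔ o2 L'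
  core : ∀ L₂ : Subgroup G, LBlk B L₂ q' → zl B L₂ = zl B L' → ∀ N : Subgroup G, N ≤ B →
    L ≤ normalizer (N : Set G) → L₂ ≤ normalizer (N : Set G) → N = ⊥

namespace EndH

variable {B L L' : Subgroup G} {q q' : ℕ} (h : EndH B L L' q q')

include h

theorem R_inf {x : G} (h1 : x ∈ rl B L) (h2 : x ∈ rl B L') : x = 1 := by
  have h3 := h.core L' h.b' rfl (rl B L ⊓ rl B L')
    (inf_le_left.trans ((COneBlk.rl_le_zl B L).trans (COnePair.zl_le h.b))) ?_ ?_
  · have h4 : x ∈ rl B L ⊓ rl B L' := ⟨h1, h2⟩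
    rw [h3] at h4
    exact mem_bot.1 h4
  · intro g hg
    refine Subgroup.mem_normalizer_fintype (fun r hr => ?_)
    rw [COneBlk.rl_comm hr.1 hg, mul_inv_cancel_right]
    exact hr
  · intro g hg
    refine Subgroup.mem_normalizer_fintype (fun r hr => ?_)
    rw [COneBlk.rl_comm hr.2 hg, mul_inv_cancel_right]
    exact hr

theorem R_inf_eq : rl B L ⊓ rl B L' = ⊥ := by
  rw [eq_bot_iff]
  rintro x ⟨h1, h2⟩
  exact mem_bot.2 (h.R_inf h1 h2)

theorem comm_le : ⁅zl B L', B⁆ ≤ rl B L := by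
  rw [Subgroup.commutator_le]
  intro x hx b hb
  rw [commutatorElement_def]
  exact h.hR x hx b hb

theorem zc_eq : rl B L ⊔ rl B L' = zc B := by
  apply le_antisymm (sup_le (COneBlk.rl_le_zc B L) (COneBlk.rl_le_zc B L'))
  exact (zc_le_sup h.b').trans (sup_le_sup_right h.comm_le _)

theorem zl_norm_rl : zl B L' ≤ normalizer (rl B L : Set G) :=
  (COnePair.zl_le h.b').trans (h.b.le.trans (rl_le_normalizer L))

theorem card_Z' : Nat.card (zc B) = Nat.card (rl B L) * Nat.card (rl B L') := by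
  have h1 := T1Tools.card_sup_mul (K := rl B L) (H := rl B L') ((COneBlk.rl_le_zl B L').trans h.zl_norm_rl)
  rw [h.R_inf_eq, card_bot, mul_one, h.zc_eq] at h1
  exact h1

theorem card_R' : Nat.card (rl B L') = q := by
  have h1 := h.card_Z'
  have h2 := T1Tools.card_mul_relIndex (COneBlk.rl_le_zc B L)
  rw [h.b.rl_index, h1] at h2
  exact (Nat.eq_of_mul_eq_mul_left Nat.card_pos h2).symm

theorem card_R : Nat.card (rl B L) = q' := by
  have h1 := h.card_Z'
  have h2 := T1Tools.card_mul_relIndex (COneBlk.rl_le_zc B L')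
  rw [h.b'.rl_index, h1, mul_comm] at h2
  exact (Nat.eq_of_mul_eq_mul_right Nat.card_pos h2).symm

theorem card_Z : Nat.card (zc B) = q' * q := by rw [h.card_Z', h.card_R, h.card_R']

theorem card_V : Nat.card (zl B L) = q' * q * q := by
  have := T1Tools.card_mul_relIndex (zc_le_zl B L)
  rw [h.b.zl_index, h.card_Z] at this
  exact this.symm

theorem card_V' : Nat.card (zl B L') = q' * q * q' := by
  have := T1Tools.card_mul_relIndex (zc_le_zl B L')
  rw [h.b'.zl_index, h.card_Z] at this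
  exact this.symm

theorem qpos : 0 < q := by have := h.b.four; omega

theorem qpos' : 0 < q' := by have := h.b'.four; omega

theorem mem_Z {x : G} (h1 : x ∈ zl B L) (h2 : x ∈ zl B L') : x ∈ zc B := by
  have h3 : ∀ b ∈ B, b * x = x * b := by
    intro b hb
    have h4 : B ≤ centralizer ({x} : Set G) := by
      refine h.hQ.trans (sup_le ?_ ?_)
      · intro y hy
        exact mem_centralizer_singleton_iff.2 (o2_comm h.b hy h1)
      · intro y hy
        exact mem_centralizer_singleton_iff.2 (o2_comm h.b' hy h2)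
    exact mem_centralizer_singleton_iff.1 (h4 hb)
  obtain ⟨b, hb, hbQ⟩ := exists_not_mem h.b
  exact h.b.cent b hb hbQ x h1 (h3 b hb)

theorem inf_V : zl B L ⊓ zl B L' = zc B :=
  le_antisymm (fun _ hx => h.mem_Z hx.1 hx.2) (le_inf (zc_le_zl B L) (zc_le_zl B L'))

theorem norm_V : zl B L' ≤ normalizer (zl B L : Set G) := by
  intro y hy
  refine Subgroup.mem_normalizer_fintype (fun x hx => ?_)
  rw [← h.comm x hx y hy, mul_inv_cancel_right]; exact hx

theorem card_sup : Nat.card (zl B L ⊔ zl B L' : Subgroup G) = q' * q * (q * q') := by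
  have h1 := T1Tools.card_sup_mul (K := zl B L) (H := zl B L') h.norm_V
  rw [h.inf_V, h.card_V, h.card_V', h.card_Z] at h1
  have h2 : 0 < q' * q := Nat.mul_pos h.qpos' h.qpos
  have h3 : Nat.card (zl B L ⊔ zl B L' : Subgroup G) * (q' * q) = q' * q * (q * q') * (q' * q) := by
    rw [h1]; ring
  exact Nat.eq_of_mul_eq_mul_right h2 h3

theorem exists_mul {x : G} (hx : x ∈ zl B L ⊔ zl B L') : ∃ v ∈ zl B L, ∃ w ∈ zl B L', x = v * w := by
  have h1 : x ∈ zl B L' ⊔ zl B L := by rwa [sup_comm]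
  rw [← SetLike.mem_coe, Subgroup.coe_mul_of_left_le_normalizer_right _ _ h.norm_V] at h1
  obtain ⟨w, hw, v, hv, rfl⟩ := h1
  exact ⟨v, hv, w, hw, (h.comm v hv w hw).symm⟩

/-- `L` is trivial on `V V' / V` -/
theorem triv_mod_V : L ≤ St (zl B L ⊔ zl B L') (zl B L) := by
  have hB : B ≤ St (zl B L ⊔ zl B L') (zl B L) := by
    intro b hb
    refine mem_St_of le_sup_left (FinalBridge.le_normalizer_zl B L (h.b.le hb)) (fun x hx => ?_)
    obtain ⟨v, hv, w, hw, rfl⟩ := h.exists_mul hx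
    have h1 : b * w * b⁻¹ * w⁻¹ ∈ zl B L := by
      have e : b * w * b⁻¹ * w⁻¹ = (w * b * w⁻¹ * b⁻¹)⁻¹ := by group
      rw [e]
      exact (zl B L).inv_mem (COneBlk.rl_le_zl B L (h.hR w hw b hb))
    have e : b * (v * w) * b⁻¹ * (v * w)⁻¹ = (b * v * b⁻¹) * (b * w * b⁻¹ * w⁻¹) * v⁻¹ := by group
    rw [e]
    exact (zl B L).mul_mem ((zl B L).mul_mem (zl_conj (h.b.le hb) hv) h1) ((zl B L).inv_mem hv)
  obtain ⟨l, hl, hlb⟩ := not_normal h.b
  refine (ad_iff h.b hl).2 hlb _ hB ?_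
  intro b hb
  have h1 : l ∈ normalizer (St (zl B L ⊔ zl B L') (zl B L) : Set G) :=
    norm_St (h.hN hl) (FinalBridge.le_normalizer_zl B L hl)
  exact (mem_normalizer_iff.1 h1 b).1 (hB hb)

/-- elements of `L` normalising `B` normalise `V'` -/
theorem norm_V' {k : G} (hk : k ∈ L) (hkB : ∀ b ∈ B, k * b * k⁻¹ ∈ B) : k ∈ normalizer (zl B L' : Set G) := by
  refine Subgroup.mem_normalizer_fintype (fun x hx => ?_)
  have h1 : k * x * k⁻¹ ∈ zl B L ⊔ zl B L' :=
    (mem_normalizer_iff.1 (h.hN hk) x).1 (mem_sup_right hx)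
  have hkB' : ∀ b ∈ B, k⁻¹ * b * k ∈ B := by
    intro b hb
    have h2 : k ∈ normalizer (B : Set G) := Subgroup.mem_normalizer_fintype hkB
    have := (mem_normalizer_iff.1 (inv_mem h2) b).1 hb
    rwa [inv_inv] at this
  obtain ⟨v, hv, w, hw, hvw⟩ := h.exists_mul h1
  have h2 : v ∈ zc B := by
    obtain ⟨b, hb, hbQ⟩ := exists_not_mem h.b
    refine nat h.b hb hbQ hv ?_
    -- `[k x k⁻¹, b] ∈ R`, `[w, b] ∈ R`
    have h3 : (k * x * k⁻¹) * b * (k * x * k⁻¹)⁻¹ * b⁻¹ ∈ rl B L := by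
      have h4 := h.hR x hx _ (hkB' b hb)
      have e : (k * x * k⁻¹) * b * (k * x * k⁻¹)⁻¹ * b⁻¹ =
          k * (x * (k⁻¹ * b * k) * x⁻¹ * (k⁻¹ * b * k)⁻¹) * k⁻¹ := by group
      rw [e, COneBlk.rl_comm h4 hk, mul_inv_cancel_right]
      exact h4
    have h4 := h.hR w hw b hb
    rw [hvw] at h3
    have h5 : v * (w * b * w⁻¹ * b⁻¹) = (w * b * w⁻¹ * b⁻¹) * v :=
      h.b.zl_comm v hv _ (COneBlk.rl_le_zl B L h4)
    have e : v * w * b * (v * w)⁻¹ * b⁻¹ = (w * b * w⁻¹ * b⁻¹) * (v * b * v⁻¹ * b⁻¹) := by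
      calc v * w * b * (v * w)⁻¹ * b⁻¹ = (v * (w * b * w⁻¹ * b⁻¹)) * b * v⁻¹ * b⁻¹ := by group
        _ = ((w * b * w⁻¹ * b⁻¹) * v) * b * v⁻¹ * b⁻¹ := by rw [h5]
        _ = (w * b * w⁻¹ * b⁻¹) * (v * b * v⁻¹ * b⁻¹) := by group
    rw [e] at h3
    have h6 : v * b * v⁻¹ * b⁻¹ ∈ rl B L := by
      have := (rl B L).mul_mem ((rl B L).inv_mem h4) h3
      rwa [inv_mul_cancel_left] at this
    have e2 : b * v * b⁻¹ * v⁻¹ = (v * b * v⁻¹ * b⁻¹)⁻¹ := by group
    rw [e2]
    exact (rl B L).inv_mem h6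
  rw [hvw]
  exact (zl B L').mul_mem (zc_le_zl B L' h2) hw

section N

variable {l : G} (hl : l ∈ L) (hA : Ad B L l)

include hl hA

omit h hA hl in
/-- the subgroup `N = V' ∩ V'^l` -/
def N (B L' : Subgroup G) (l : G) : Subgroup G := zl B L' ⊓ cj l (zl B L')

theorem R_le_N : rl B L ≤ N B L' l := by
  intro r hr
  refine ⟨zc_le_zl B L' (COneBlk.rl_le_zc B L hr), mem_cj.2 ?_⟩
  have h1 := COneBlk.rl_comm hr (L.inv_mem hl)
  have e : l⁻¹ * r * l = r := by rw [h1]; group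
  rw [e]
  exact zc_le_zl B L' (COneBlk.rl_le_zc B L hr)

/-- `[N, L] ≤ R` -/
theorem triv_N : L ≤ St (N B L' l) (rl B L) := by
  have hRn : ∀ g ∈ L, g ∈ normalizer (rl B L : Set G) := fun g hg => rl_le_normalizer L hg
  refine hA _ ?_ ?_
  · intro b hb
    refine mem_St_of (h.R_le_N hl hA) (hRn b (h.b.le hb)) (fun x hx => ?_)
    have h1 := h.hR x hx.1 b hb
    have e : b * x * b⁻¹ * x⁻¹ = (x * b * x⁻¹ * b⁻¹)⁻¹ := by group
    rw [e]; exact (rl B L).inv_mem h1
  · intro b hb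
    have hlb : l * b * l⁻¹ ∈ L := L.mul_mem (L.mul_mem hl (h.b.le hb)) (L.inv_mem hl)
    refine mem_St_of (h.R_le_N hl hA) (hRn _ hlb) (fun x hx => ?_)
    have hx2 := mem_cj.1 hx.2
    have h1 := h.hR _ hx2 b hb
    have e : l * b * l⁻¹ * x * (l * b * l⁻¹)⁻¹ * x⁻¹ =
        l * ((l⁻¹ * x * l) * b * (l⁻¹ * x * l)⁻¹ * b⁻¹)⁻¹ * l⁻¹ := by group
    rw [e]
    have h2 := (rl B L).inv_mem h1
    rw [COneBlk.rl_comm h2 hl, mul_inv_cancel_right]
    exact h2

theorem card_N_ge : q' * q' ≤ Nat.card (N B L' l) := by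
  have hle : cj l (zl B L') ≤ zl B L ⊔ zl B L' := by
    intro x hx
    rw [mem_cj] at hx
    have h1 := (mem_normalizer_iff.1 (h.hN hl) _).1 (mem_sup_right (S := zl B L) hx)
    have e : l * (l⁻¹ * x * l) * l⁻¹ = x := by group
    rwa [e] at h1
  have habel : ∀ x ∈ zl B L ⊔ zl B L', ∀ y ∈ zl B L ⊔ zl B L', x * y = y * x := by
    intro x hx y hy
    obtain ⟨v, hv, w, hw, rfl⟩ := h.exists_mul hx
    obtain ⟨v', hv', w', hw', rfl⟩ := h.exists_mul hy
    have c1 : Commute v v' := h.b.zl_comm v hv v' hv'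
    have c2 : Commute v w' := h.comm v hv w' hw'
    have c3 : Commute w v' := (h.comm v' hv' w hw).symm
    have c4 : Commute w w' := h.b'.zl_comm w hw w' hw'
    exact ((c1.mul_right c2).mul_left (c3.mul_right c4)).eq
  have h1 := T1Tools.card_sup_mul (K := zl B L') (H := cj l (zl B L')) (by
    intro y hy
    refine Subgroup.mem_normalizer_fintype (fun x hx => ?_)
    rw [habel y (hle hy) x (mem_sup_right hx), mul_inv_cancel_right]; exact hx)
  rw [card_cj, h.card_V'] at h1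
  have h2 : Nat.card (zl B L' ⊔ cj l (zl B L') : Subgroup G) ≤ q' * q * (q * q') := by
    rw [← h.card_sup]
    exact Subgroup.card_le_of_le (sup_le le_sup_right hle)
  have h3 : 0 < q' * q * (q * q') :=
    Nat.mul_pos (Nat.mul_pos h.qpos' h.qpos) (Nat.mul_pos h.qpos h.qpos')
  by_contra hcon
  push Not at hcon
  have h4 : Nat.card (zl B L' ⊔ cj l (zl B L') : Subgroup G) * Nat.card (N B L' l) <
      q' * q * (q * q') * (q' * q') := by
    calc _ ≤ q' * q * (q * q') * Nat.card (N B L' l) := Nat.mul_le_mul_right _ h2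
      _ < _ := Nat.mul_lt_mul_of_pos_left hcon h3
  have h5 : q' * q * q' * (q' * q * q') = q' * q * (q * q') * (q' * q') := by ring
  rw [← h5, ← h1] at h4
  exact absurd h4 (lt_irrefl _)

theorem N_inf_V {x : G} (hx : x ∈ N B L' l) (hxV : x ∈ zl B L) : x ∈ rl B L := by
  obtain ⟨b, hb, hbQ⟩ := exists_not_mem h.b
  obtain ⟨y, hy, ho, -⟩ := inverts h.b b hb hbQ
  have h1 := (h.triv_N hl hA hy).2.2 x hx
  refine fpf_odd h.b hy (by rw [ho]; decide) ?_ hxV h1
  intro h0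
  rw [h0, orderOf_one] at ho
  omega

theorem L_norm_N : L ≤ normalizer (N B L' l : Set G) := fun _ hg => (h.triv_N hl hA hg).1

/-- `C_{V'}(k) ≤ N` -/
theorem mem_N {k : G} (hk : k ∈ L) (hk1 : k ≠ 1) (ho : Odd (orderOf k)) {x : G}
    (hx : x ∈ zl B L') (hc : k * x = x * k) : x ∈ N B L' l := by
  set C : Subgroup G := zl B L' ⊓ centralizer ({k} : Set G) with hC
  have h1 : N B L' l ≤ C := by
    intro y hy
    refine ⟨hy.1, mem_centralizer_singleton_iff.2 ?_⟩
    have h2 := (h.triv_N hl hA hk).2.2 y hy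
    have h3 : k * y * k⁻¹ * y⁻¹ = 1 := by
      refine eq_one_of_odd (g := k) (x := y) ho (by group) (COneBlk.rl_comm h2 hk) ?_
      exact h.b.zl_sq _ (COneBlk.rl_le_zl B L h2)
    have h4 : k * y * k⁻¹ = y := mul_inv_eq_one.1 h3
    calc y * k = (k * y * k⁻¹) * k := by rw [h4]
      _ = k * y := by group
  have h2 : Nat.card C ≤ q' * q' := by
    have h3 : zc B ⊓ C ≤ rl B L := by
      rintro y ⟨hy, hyC⟩
      have h4 : k * y = y * k := (mem_centralizer_singleton_iff.1 hyC.2).symm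
      refine fpf_odd h.b hk ho hk1 (zc_le_zl B L hy) ?_
      rw [h4]
      have e : y * k * k⁻¹ * y⁻¹ = 1 := by group
      rw [e]; exact one_mem _
    have h4 : Nat.card (zc B ⊓ C : Subgroup G) * (zc B).relIndex C = Nat.card C := by
      have := T1Tools.card_mul_relIndex (inf_le_right : zc B ⊓ C ≤ C)
      rwa [inf_relIndex_right] at this
    have h5 : Nat.card (zc B ⊓ C : Subgroup G) ≤ q' := by
      rw [← h.card_R]; exact Subgroup.card_le_of_le h3
    have h6 : (zc B).relIndex C ≤ q' := by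
      rw [← h.b'.zl_index]
      exact relIndex_le_of_le_right inf_le_left (by rw [h.b'.zl_index]; exact h.qpos'.ne')
    rw [← h4]
    exact Nat.mul_le_mul h5 h6
  have h3 : N B L' l = C := Subgroup.eq_of_le_of_card_ge h1 (h2.trans (h.card_N_ge hl hA))
  rw [h3]
  exact ⟨hx, mem_centralizer_singleton_iff.2 hc.symm⟩

/-- the final contradiction -/
theorem final {L₂ : Subgroup G} (h2 : LBlk B L₂ q') (hV : zl B L₂ = zl B L') (hRR : ∀ x ∈ rl B L, x ∈ rl B L₂ → x = 1)
    {k : G} (hk : k ∈ L₂) (hk1 : k ≠ 1) (ho : Odd (orderOf k)) (hkN : k ∈ normalizer (N B L' l : Set G)) : False := by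
  have hNV : N B L' l ≤ zl B L₂ := by rw [hV]; exact inf_le_left
  have hfix : ∀ x ∈ N B L' l, k * x * k⁻¹ = x → x = 1 := by
    intro x hx hc
    have h3 : x ∈ rl B L₂ := by
      refine fpf_odd h2 hk ho hk1 (hNV hx) ?_
      rw [hc, mul_inv_cancel]; exact one_mem _
    refine hRR x ?_ h3
    exact h.N_inf_V hl hA hx (zc_le_zl B L (COneBlk.rl_le_zc B L₂ h3))
  obtain ⟨m, hm, hmb⟩ := not_normal h2
  have hAm := (ad_iff h2 hm).2 hmb
  set D : Subgroup G := rl B L ⊔ cj m (rl B L) with hD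
  have hRD : rl B L ≤ D := le_sup_left
  have hRmD : cj m (rl B L) ≤ D := le_sup_right
  have hVn : ∀ g ∈ L₂, g ∈ normalizer (zl B L₂ : Set G) := fun g hg => FinalBridge.le_normalizer_zl B L₂ hg
  have hRV : rl B L ≤ zl B L₂ := by
    rw [hV]; exact (COneBlk.rl_le_zc B L).trans (zc_le_zl B L')
  have hDV : D ≤ zl B L₂ := by
    refine sup_le hRV ?_
    intro x hx
    rw [mem_cj] at hx
    have h3 := zl_conj hm (hRV hx)
    have e : m * (m⁻¹ * x * m) * m⁻¹ = x := by group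
    rwa [e] at h3
  have hB1 : ∀ b ∈ B, ∀ x ∈ zl B L₂, b * x * b⁻¹ * x⁻¹ ∈ rl B L := by
    intro b hb x hx
    rw [hV] at hx
    have e : b * x * b⁻¹ * x⁻¹ = (x * b * x⁻¹ * b⁻¹)⁻¹ := by group
    rw [e]; exact (rl B L).inv_mem (h.hR x hx b hb)
  have hB2 : ∀ b ∈ B, ∀ x ∈ zl B L₂, (m * b * m⁻¹) * x * (m * b * m⁻¹)⁻¹ * x⁻¹ ∈ cj m (rl B L) := by
    intro b hb x hx
    rw [mem_cj]
    have h3 : m⁻¹ * x * m ∈ zl B L₂ := by
      have := zl_conj (L₂.inv_mem hm) hx
      rwa [inv_inv] at this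
    have h4 := hB1 b hb _ h3
    have e : m⁻¹ * ((m * b * m⁻¹) * x * (m * b * m⁻¹)⁻¹ * x⁻¹) * m =
        b * (m⁻¹ * x * m) * b⁻¹ * (m⁻¹ * x * m)⁻¹ := by group
    rw [e]; exact h4
  have hSt : L₂ ≤ St (zl B L₂) D := by
    refine hAm _ ?_ ?_
    · intro b hb
      refine ⟨hVn b (h2.le hb), Subgroup.mem_normalizer_fintype (fun x hx => ?_),
        fun x hx => hRD (hB1 b hb x hx)⟩
      have e : b * x * b⁻¹ = (b * x * b⁻¹ * x⁻¹) * x := by group
      rw [e]; exact D.mul_mem (hRD (hB1 b hb x (hDV hx))) hx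
    · intro b hb
      have hmb : m * b * m⁻¹ ∈ L₂ := L₂.mul_mem (L₂.mul_mem hm (h2.le hb)) (L₂.inv_mem hm)
      refine ⟨hVn _ hmb, Subgroup.mem_normalizer_fintype (fun x hx => ?_),
        fun x hx => hRmD (hB2 b hb x hx)⟩
      have e : m * b * m⁻¹ * x * (m * b * m⁻¹)⁻¹ =
          ((m * b * m⁻¹) * x * (m * b * m⁻¹)⁻¹ * x⁻¹) * x := by group
      rw [e]; exact D.mul_mem (hRmD (hB2 b hb x (hDV hx))) hx
  -- `N ≤ D`
  have hND : N B L' l ≤ D := by
    have hkN' : ∀ x ∈ N B L' l, k * x * k⁻¹ ∈ N B L' l := fun x hx => (mem_normalizer_iff.1 hkN x).1 hx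
    let f : N B L' l → N B L' l := fun x => ⟨k * x * k⁻¹ * (x : G)⁻¹,
      (N B L' l).mul_mem (hkN' x x.2) ((N B L' l).inv_mem x.2)⟩
    have hf : Function.Injective f := by
      intro x y hxy
      have h3 : k * x * k⁻¹ * (x : G)⁻¹ = k * y * k⁻¹ * (y : G)⁻¹ := congrArg Subtype.val hxy
      have h4 : k * ((y : G)⁻¹ * x) * k⁻¹ = (y : G)⁻¹ * x := by
        have h5 : k * x * k⁻¹ = k * y * k⁻¹ * (y : G)⁻¹ * x := by
          rw [← h3]; group
        calc k * ((y : G)⁻¹ * x) * k⁻¹ = (k * y * k⁻¹)⁻¹ * (k * x * k⁻¹) := by group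
          _ = (k * y * k⁻¹)⁻¹ * (k * y * k⁻¹ * (y : G)⁻¹ * x) := by rw [h5]
          _ = (y : G)⁻¹ * x := by group
      have h5 := hfix _ ((N B L' l).mul_mem ((N B L' l).inv_mem y.2) x.2) h4
      apply Subtype.ext
      have := inv_mul_eq_one.1 h5
      exact this.symm
    have hs : Function.Surjective f := Finite.surjective_of_injective hf
    intro x hx
    obtain ⟨y, hy⟩ := hs ⟨x, hx⟩
    have h3 : k * y * k⁻¹ * (y : G)⁻¹ = x := congrArg Subtype.val hy
    rw [← h3]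
    exact (hSt hk).2.2 y (hNV y.2)
  have hcardD : Nat.card D ≤ q' * q' := by
    have h3 := T1Tools.card_sup_mul (K := rl B L) (H := cj m (rl B L)) (by
      have h4 : cj m (rl B L) ≤ zl B L' := by rw [← hV]; exact hRmD.trans hDV
      exact h4.trans h.zl_norm_rl)
    rw [card_cj, h.card_R] at h3
    calc Nat.card D ≤ Nat.card D * Nat.card (rl B L ⊓ cj m (rl B L) : Subgroup G) :=
          Nat.le_mul_of_pos_right _ Nat.card_pos
      _ = q' * q' := h3
  have hEq : N B L' l = D := Subgroup.eq_of_le_of_card_ge hND (hcardD.trans (h.card_N_ge hl hA))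
  have hbot := h.core L₂ h2 hV (N B L' l) (hNV.trans (COnePair.zl_le h2)) (h.L_norm_N hl hA)
    (by rw [hEq]; exact fun g hg => (hSt hg).2.1)
  have h3 := h.card_N_ge hl hA
  rw [hbot, card_bot] at h3
  have h4 := h.b'.four
  nlinarith

omit hA in
/-- `N` centralises the elements of odd order of `L` -/
theorem N_comm (hA : Ad B L l) {k : G} (hk : k ∈ L) (ho : Odd (orderOf k)) {y : G} (hy : y ∈ N B L' l) :
    k * y = y * k := by
  have h2 := (h.triv_N hl hA hk).2.2 y hy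
  have h3 : k * y * k⁻¹ * y⁻¹ = 1 := by
    refine eq_one_of_odd (g := k) (x := y) ho (by group) (COneBlk.rl_comm h2 hk) ?_
    exact h.b.zl_sq _ (COneBlk.rl_le_zl B L h2)
  have h4 : k * y * k⁻¹ = y := mul_inv_eq_one.1 h3
  calc k * y = (k * y * k⁻¹) * k := by group
    _ = y * k := by rw [h4]

end N

theorem comm_le_eq : rl B L = ⁅zl B L', B⁆ := by
  refine le_antisymm (fun r hr => ?_) h.comm_le
  have h1 := zc_le_sup h.b' (COneBlk.rl_le_zc B L hr)
  have hn : rl B L' ≤ normalizer ((⁅zl B L', B⁆ : Subgroup G) : Set G) := by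
    intro y hy
    refine Subgroup.mem_normalizer_fintype (fun x hx => ?_)
    have hx' := h.comm_le hx
    rw [h.b.zl_comm y (zc_le_zl B L (COneBlk.rl_le_zc B L' hy)) x (COneBlk.rl_le_zl B L hx'),
      mul_inv_cancel_right]
    exact hx
  rw [sup_comm, ← SetLike.mem_coe, Subgroup.coe_mul_of_left_le_normalizer_right _ _ hn] at h1
  obtain ⟨s, hs, c, hc, hsc⟩ := h1
  have hsc' : s * c = r := hsc
  have h2 : s ∈ rl B L := by
    have e : s = r * c⁻¹ := by rw [← hsc']; group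
    rw [e]; exact mul_mem hr (inv_mem (h.comm_le hc))
  have h3 := h.R_inf h2 hs
  rw [← hsc', h3, one_mul]
  exact hc

/-- The configuration does not exist. -/
theorem false (hG : OddCyc G) : False := by
  -- elements of prime order of tori
  have tor : ∀ {A M : Subgroup G} {s : ℕ}, LBlk A M s → ∃ k ∈ M, (orderOf k).Prime ∧ Odd (orderOf k) ∧
      ∀ b ∈ A, k * b * k⁻¹ ∈ A := by
    intro A M s hb
    obtain ⟨K, hKL, hcyc, hcard, hn, -, -⟩ := COneBlk.exists_torus hb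
    have h1 : s - 1 ≠ 1 := by have := hb.four; omega
    have hodd := odd_pred hb
    have _ : Fact (s - 1).minFac.Prime := ⟨Nat.minFac_prime h1⟩
    obtain ⟨k, hk⟩ := exists_prime_orderOf_dvd_card' (G := K) (s - 1).minFac (by
      rw [hcard]; exact Nat.minFac_dvd _)
    refine ⟨k, hKL k.2, ?_, ?_, hn k k.2⟩
    · rw [Subgroup.orderOf_coe, hk]; exact Nat.minFac_prime h1
    · rw [Subgroup.orderOf_coe, hk]
      exact Odd.of_dvd_nat hodd (Nat.minFac_dvd _)
  obtain ⟨k, hkL, hkp, hko, hkB⟩ := tor h.b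
  obtain ⟨k0, hk0L, hk0p, hk0o, hk0B⟩ := tor h.b'
  have hk1 : k ≠ 1 := by rintro rfl; rw [orderOf_one] at hkp; exact Nat.not_prime_one hkp
  have hk01 : k0 ≠ 1 := by rintro rfl; rw [orderOf_one] at hk0p; exact Nat.not_prime_one hk0p
  have hp2 : orderOf k ≠ 2 := by intro h2; rw [h2] at hko; exact absurd hko (by decide)
  have hkN : k ∈ normalizer (B : Set G) := Subgroup.mem_normalizer_fintype hkB
  have hk0N : k0 ∈ normalizer (B : Set G) := Subgroup.mem_normalizer_fintype hk0B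
  have hNZ : normalizer (B : Set G) ≤ normalizer (zc B : Set G) := VModule.normalizer_le_normalizer_zc B
  have hk0V : k0 ∈ normalizer (zl B L' : Set G) := FinalBridge.le_normalizer_zl B L' hk0L
  have hRN : ∀ g ∈ normalizer (B : Set G), g ∈ normalizer (zl B L' : Set G) → g ∈ normalizer (rl B L : Set G) := by
    intro g hg hg'
    rw [h.comm_le_eq]
    refine Subgroup.mem_normalizer_fintype (fun x hx => ?_)
    have h1 : cj g ⁅zl B L', B⁆ = ⁅zl B L', B⁆ := by
      show Subgroup.map _ _ = _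
      rw [Subgroup.map_commutator]
      show ⁅cj g (zl B L'), cj g B⁆ = _
      rw [cj_eq_self_of_mem_normalizer hg, cj_eq_self_of_mem_normalizer hg']
    rw [← h1]
    exact conj_mem_cj hx
  -- the subgroup `E`
  set E : Subgroup G := normalizer (B : Set G) ⊓ centralizer (rl B L : Set G) ⊓ St (zl B L') (zc B) with hE
  have hkE : k ∈ E := by
    refine ⟨⟨hkN, mem_centralizer_iff.2 fun r hr => (COneBlk.rl_comm hr hkL).symm⟩, h.norm_V' hkL hkB, hNZ hkN, ?_⟩
    intro x hx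
    have h1 : k * x * k⁻¹ * x⁻¹ ∈ zl B L' := by
      have h0 : x ∈ zl B L' := hx
      exact (zl B L').mul_mem ((mem_normalizer_iff.1 (h.norm_V' hkL hkB) x).1 h0) ((zl B L').inv_mem h0)
    exact h.mem_Z ((h.triv_mod_V hkL).2.2 x (mem_sup_right hx)) h1
  have hk0E : k0 ∈ normalizer (E : Set G) := by
    refine Subgroup.mem_normalizer_fintype ?_
    rintro g ⟨⟨h1, h2⟩, h3⟩
    refine ⟨⟨(normalizer (B : Set G)).mul_mem ((normalizer (B : Set G)).mul_mem hk0N h1)
      ((normalizer (B : Set G)).inv_mem hk0N), mem_centralizer_iff.2 fun r hr => ?_⟩,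
      (mem_normalizer_iff.1 (norm_St hk0V (hNZ hk0N)) g).1 h3⟩
    have h4 : k0⁻¹ * r * k0 ∈ rl B L := by
      have := (mem_normalizer_iff.1 (inv_mem (hRN k0 hk0N hk0V)) r).1 hr
      rwa [inv_inv] at this
    have h5 := mem_centralizer_iff.1 h2 _ h4
    calc r * (k0 * g * k0⁻¹) = k0 * ((k0⁻¹ * r * k0) * g) * k0⁻¹ := by group
      _ = k0 * (g * (k0⁻¹ * r * k0)) * k0⁻¹ := by rw [h5]
      _ = k0 * g * k0⁻¹ * r := by group
  have hk0nE : k0 ∉ E := by
    intro h0
    have h1 : rl B L = ⊥ := by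
      rw [eq_bot_iff]
      intro r hr
      refine mem_bot.2 (h.R_inf hr ?_)
      have h2 : r * k0 = k0 * r := mem_centralizer_iff.1 h0.1.2 r hr
      refine fpf_odd h.b' hk0L hk0o hk01 (zc_le_zl B L' (COneBlk.rl_le_zc B L hr)) ?_
      rw [← h2]
      have e : r * k0 * k0⁻¹ * r⁻¹ = 1 := by group
      rw [e]; exact one_mem _
    have h2 := h.card_R
    rw [h1, card_bot] at h2
    have := h.b'.four
    omega
  -- Frattini
  obtain ⟨P, hkP, hPE, hPr, e, he, hn⟩ := frat hkp hkE rfl hk0E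
  set X : Subgroup G := normalizer (B : Set G) ⊓ normalizer (zl B L' : Set G) with hX
  have hEX : E ≤ X := fun g hg => ⟨hg.1.1, hg.2.1⟩
  have hk0X : k0 ∈ X := ⟨hk0N, hk0V⟩
  set n := e * k0 with hnd
  have hnX : n ∈ X := mul_mem (hEX he) hk0X
  have hnE : n ∉ E := by
    intro h0
    apply hk0nE
    have := mul_mem (inv_mem he) h0
    rwa [hnd, inv_mul_cancel_left] at this
  have hpow : ∀ m : ℕ, ∃ f ∈ E, n ^ m = f * k0 ^ m := by
    intro m
    induction m with
    | zero => exact ⟨1, one_mem _, by simp⟩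
    | succ m ih =>
      obtain ⟨f, hf, hfm⟩ := ih
      refine ⟨e * (k0 * f * k0⁻¹), mul_mem he ((mem_normalizer_iff.1 hk0E f).1 hf), ?_⟩
      rw [pow_succ', hfm, hnd, pow_succ']
      group
  have hdvd : orderOf k0 ∣ orderOf n := by
    by_contra hcon
    have hco : Nat.Coprime (orderOf k0) (orderOf n) := (Nat.Prime.coprime_iff_not_dvd hk0p).2 hcon
    obtain ⟨f, hf, hfe⟩ := hpow (orderOf k0)
    rw [pow_orderOf_eq_one, mul_one] at hfe
    obtain ⟨m, hm⟩ := exists_pow_eq_self_of_coprime hco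
    apply hnE
    rw [← hm, hfe]
    exact pow_mem hf m
  have hn0 : 0 < orderOf n := orderOf_pos n
  set n' := n ^ (orderOf n / orderOf k0) with hn'
  have hn'o : orderOf n' = orderOf k0 := by
    rw [hn', orderOf_pow_orderOf_div hn0.ne' hdvd]
  obtain ⟨g, hg, hgz⟩ := CycConj.zpowers_conj hG (orderOf k0) X n' k0 (pow_mem hnX _) hk0X hn'o rfl hk0o
  set k' := g * k0 * g⁻¹ with hk'
  have hk'P : k' ∈ normalizer (P : Set G) := by
    have h1 : k' ∈ zpowers n' := by rw [← hgz]; exact mem_zpowers _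
    have h2 : zpowers n' ≤ normalizer (P : Set G) := zpowers_le.2 (pow_mem hn _)
    exact h2 h1
  have hgB : cj g B = B := cj_eq_self_of_mem_normalizer hg.1
  have hgV : cj g (zl B L') = zl B L' := cj_eq_self_of_mem_normalizer hg.2
  have hL2 : LBlk B (cj g L') q' := by
    have := LBlk_cj h.b' g
    rwa [hgB] at this
  have hV2 : zl B (cj g L') = zl B L' := by
    have := zl_cj g B L'
    rw [hgB, hgV] at this
    exact this
  have hR2 : rl B (cj g L') = cj g (rl B L') := by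
    have := rl_cj g B L'
    rwa [hgB] at this
  have hk'L : k' ∈ cj g L' := conj_mem_cj hk0L
  have hk'o : orderOf k' = orderOf k0 := by
    have := orderOf_injective (MulAut.conj g).toMonoidHom (MulAut.conj g).injective k0
    simpa using this
  have hk'1 : k' ≠ 1 := by
    intro h0
    rw [h0, orderOf_one] at hk'o
    rw [← hk'o] at hk0p
    exact Nat.not_prime_one hk0p
  obtain ⟨l, hl, hlb⟩ := not_normal h.b
  have hA : Ad B L l := (ad_iff h.b hl).2 hlb
  -- `N = C_{V'}(P)`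
  have _ : Fact (orderOf k).Prime := ⟨hkp⟩
  have hcyc : IsCyclic P := CompBasic.isCyclic_of_isPGroup hG hkp hp2 hPr
  have hPc : ∀ a ∈ P, ∀ b ∈ P, a * b = b * a := by
    intro a ha b hb
    have := (IsCyclic.commGroup (α := P)).mul_comm ⟨a, ha⟩ ⟨b, hb⟩
    exact congrArg Subtype.val this
  have hPo : ∀ p ∈ P, Odd (orderOf p) := by
    intro p hp
    obtain ⟨m, hm⟩ := (IsPGroup.iff_orderOf.1 hPr) ⟨p, hp⟩
    rw [Subgroup.orderOf_mk] at hm
    rw [hm]
    exact hko.pow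
  have hNP : ∀ x, x ∈ N B L' l ↔ x ∈ zl B L' ∧ ∀ p ∈ P, p * x = x * p := by
    intro x
    constructor
    · intro hx
      refine ⟨hx.1, fun p hp => ?_⟩
      have hpE := hPE hp
      have h1 : p * x * p⁻¹ ∈ N B L' l := by
        refine h.mem_N hl hA hkL hk1 hko ((mem_normalizer_iff.1 hpE.2.1 x).1 hx.1) ?_
        have h2 := h.N_comm hl hA hkL hko hx
        have h3 := hPc k hkP p hp
        calc k * (p * x * p⁻¹) = (k * p) * x * p⁻¹ := by group
          _ = p * (k * x) * p⁻¹ := by rw [h3]; group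
          _ = p * x * (k * p⁻¹) := by rw [h2]; group
          _ = p * x * p⁻¹ * k := by
            have h4 : k * p⁻¹ = p⁻¹ * k := by
              calc k * p⁻¹ = p⁻¹ * (p * k) * p⁻¹ := by group
                _ = p⁻¹ * (k * p) * p⁻¹ := by rw [h3]
                _ = p⁻¹ * k := by group
            rw [h4]; group
      have h2 : p * x * p⁻¹ * x⁻¹ ∈ rl B L := by
        refine h.N_inf_V hl hA (mul_mem h1 (inv_mem hx)) (zc_le_zl B L (hpE.2.2.2 x hx.1))
      have h3 : p * x * p⁻¹ * x⁻¹ = 1 := by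
        refine eq_one_of_odd (g := p) (x := x) (hPo p hp) (by group) ?_ ?_
        · exact (mem_centralizer_iff.1 hpE.1.2 _ h2).symm
        · exact h.b.zl_sq _ (COneBlk.rl_le_zl B L h2)
      have h4 : p * x * p⁻¹ = x := mul_inv_eq_one.1 h3
      calc p * x = (p * x * p⁻¹) * p := by group
        _ = x * p := by rw [h4]
    · rintro ⟨hx, hxP⟩
      exact h.mem_N hl hA hkL hk1 hko hx (hxP k hkP)
  have hk'N : k' ∈ normalizer (N B L' l : Set G) := by
    refine Subgroup.mem_normalizer_fintype (fun x hx' => (hNP _).2 ?_)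
    have hx := (hNP _).1 hx'
    have hk'V : k' ∈ normalizer (zl B L' : Set G) := mul_mem (mul_mem hg.2 hk0V) (inv_mem hg.2)
    refine ⟨(mem_normalizer_iff.1 hk'V x).1 hx.1, fun p hp => ?_⟩
    have h1 : k'⁻¹ * p * k' ∈ P := by
      have := (mem_normalizer_iff.1 (inv_mem hk'P) p).1 hp
      rwa [inv_inv] at this
    have h2 := hx.2 _ h1
    calc p * (k' * x * k'⁻¹) = k' * ((k'⁻¹ * p * k') * x) * k'⁻¹ := by group
      _ = k' * (x * (k'⁻¹ * p * k')) * k'⁻¹ := by rw [h2]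
      _ = k' * x * k'⁻¹ * p := by group
  refine h.final hl hA hL2 hV2 ?_ hk'L hk'1 (by rw [hk'o]; exact hk0o) hk'N
  intro x hx hx2
  rw [hR2] at hx2
  have h1 : g⁻¹ * x * g ∈ rl B L' := mem_cj.1 hx2
  have h2 : g⁻¹ * x * g ∈ rl B L := by
    have := (mem_normalizer_iff.1 (inv_mem (hRN g hg.1 hg.2)) x).1 hx
    rwa [inv_inv] at this
  have h3 := h.R_inf h2 h1
  have e : x = g * (g⁻¹ * x * g) * g⁻¹ := by group
  rw [e, h3]; group

end EndH

/-- Two commuting `SL₂`-blocks over the same subgroup `B` do not exist. -/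
theorem false_of_two (hG : OddCyc G) {B L L' : Subgroup G} {q q' : ℕ} (b : LBlk B L q) (b' : LBlk B L' q')
    (hc : ∀ x ∈ zl B L, ∀ y ∈ zl B L', x * y = y * x)
    (core : ∀ L₁ L₂ : Subgroup G, LBlk B L₁ q → LBlk B L₂ q' → zl B L₁ = zl B L → zl B L₂ = zl B L' →
      ∀ N : Subgroup G, N ≤ B → L₁ ≤ normalizer (N : Set G) → L₂ ≤ normalizer (N : Set G) → N = ⊥) : False := by
  rcases graph b (bk_of_lblk b') (core L L' b b' rfl rfl) hc with ⟨h1, h2, h3⟩ | ⟨h1, h2, h3⟩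
  · exact EndH.false ⟨b, b', hc, h1, h2, h3, fun L₂ hb hV => core L L₂ b hb rfl hV⟩ hG
  · exact EndH.false ⟨b', b, fun x hx y hy => (hc y hy x hx).symm, h1, h2, h3,
      fun L₂ hb hV N hN h4 h5 => core L₂ L' hb b' hV rfl N hN h5 h4⟩ hG

end Cfsg.Agent.OddCyclic.APQ
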