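import Cfsg.Agent.MinSimple.CosetFam
import Cfsg.Agent.OddCyclic.T1Tools

/-!
# S0342, case C2: two commuting blocks over the same Baumann subgroup (the graph argument)

`GF Γ V Q R E Z q`: a rank two graph with the equivariant families `V v` (elementary abelian), `Q v = C_E(V v)`,
`R v = C_{V v}(G_v)` and, for the edges, `E v w` (the conjugates of `B`), `Z v w = C_{V v}(E v w)`.
The critical pair argument (blueprints/S0342-C2-reduction-helper213.md, section 4, (4.1), (4.2), (4.5)): there is a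
type `i` such that for every edge `v ~ m` with `typ v = i`: `⁅V m, E v m⁆ ≤ R v`, `G_v` normalises `V v ⊔ V m` and
`E v m = Q v Q m`.
-/

set_option autoImplicit false
set_option linter.unusedSectionVars false

namespace Cfsg.Agent.OddCyclic.APQ

open Subgroup MulAction Pointwise
open Cfsg.Agent.MinSimple.CosetGraph Cfsg.Agent.OddCyclic
open scoped commutatorElement

universe u v

variable {G : Type u} {W : Type v} [Group G] [MulAction G W]

/-- if `X ∩ Q ≤ Z` and `|E : Q| ≤ |X : Z|` then `E = X Q` -/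
theorem exists_mul_of_relIndex_le [Finite G] {E X Q Z : Subgroup G} (hX : X ≤ E) (hQ : Q ≤ E)
    (hn : E ≤ normalizer (Q : Set G)) (h1 : ∀ x ∈ X, x ∈ Q → x ∈ Z) (h2 : Q.relIndex E ≤ Z.relIndex X) :
    ∀ e ∈ E, ∃ x ∈ X, ∃ y ∈ Q, e = x * y := by
  have h3 := T1Tools.card_sup_mul (K := Q) (H := X) (hX.trans hn)
  have h4 : Nat.card (Q ⊓ X : Subgroup G) ≠ 0 := Nat.card_pos.ne'
  have h5 : Nat.card (Q ⊓ X : Subgroup G) * Q.relIndex X = Nat.card X := by
    have := T1Tools.card_mul_relIndex (inf_le_right : Q ⊓ X ≤ X)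
    rwa [inf_relIndex_right] at this
  have h6 : Z.relIndex X ≤ Q.relIndex X := by
    have h7 : (Q ⊓ X).relIndex X = Q.relIndex X := inf_relIndex_right Q X
    rw [← h7]
    have h8 : (Q ⊓ X : Subgroup G) ≤ Z := fun x hx => h1 x hx.2 hx.1
    exact Nat.le_of_dvd (Nat.pos_of_ne_zero (Subgroup.index_ne_zero_of_finite (H := (Q ⊓ X).subgroupOf X)))
      (relIndex_dvd_of_le_left X h8)
  have h7 := T1Tools.card_mul_relIndex hQ
  have h8 : Nat.card E ≤ Nat.card (Q ⊔ X : Subgroup G) := by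
    have h9 : Nat.card (Q ⊔ X : Subgroup G) * Nat.card (Q ⊓ X : Subgroup G)
        = (Nat.card Q * Q.relIndex X) * Nat.card (Q ⊓ X : Subgroup G) := by
      rw [h3, ← h5]; ring
    have h10 := Nat.eq_of_mul_eq_mul_right (Nat.pos_of_ne_zero h4) h9
    rw [h10, ← h7]
    exact Nat.mul_le_mul le_rfl (h2.trans h6)
  have h9 : Q ⊔ X = E := Subgroup.eq_of_le_of_card_ge (sup_le hQ hX) h8
  intro e he
  rw [← h9] at he
  have h10 : e ∈ (X : Subgroup G) ⊔ Q := by rwa [sup_comm]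
  rw [← SetLike.mem_coe, Subgroup.coe_mul_of_left_le_normalizer_right X Q (hX.trans hn)] at h10
  obtain ⟨x, hx, y, hy, rfl⟩ := h10
  exact ⟨x, hx, y, hy, rfl⟩

/-- the edge groups of `v ~ p` and `v ~ m` generate the stabiliser of `v` -/
def Adm (E : W → W → Subgroup G) (v p m : W) : Prop :=
  ∀ H : Subgroup G, E v p ≤ H → E v m ≤ H → stabilizer G v ≤ H

/-- the members of the family at `v` and `w` commute -/
def Cm (V : W → Subgroup G) (v w : W) : Prop := ∀ x ∈ V v, ∀ y ∈ V w, x * y = y * x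

theorem Cm.symm {V : W → Subgroup G} {v w : W} (h : Cm V v w) : Cm V w v :=
  fun x hx y hy => (h y hy x hx).symm

/-- the local facts -/
structure GF (Γ : RGraph G W) (V Q R : W → Subgroup G) (E Z : W → W → Subgroup G) : Prop where
  faith : Γ.Faithful
  Ve : Eqv V
  Qe : Eqv Q
  Re : Eqv R
  Es : ∀ (g : G) (v w : W), E (g • v) (g • w) = MulAut.conj g • E v w
  Zs : ∀ (g : G) (v w : W), Z (g • v) (g • w) = MulAut.conj g • Z v w
  Ec : ∀ v w, E v w = E w v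
  Zc : ∀ {v w}, Γ.A v w → Z v w = Z w v
  Est : ∀ {v w}, Γ.A v w → E v w ≤ stabilizer G v
  Qs : ∀ v, Q v ≤ stabilizer G v
  QE : ∀ {v w}, Γ.A v w → Q v ≤ E v w
  VQ : ∀ v, V v ≤ Q v
  adj : ∀ {v w}, Γ.A v w → V v ≤ Q w
  ZV : ∀ {v w}, Γ.A v w → Z v w ≤ V v
  RZ : ∀ {v w}, Γ.A v w → R v ≤ Z v w
  RZne : ∀ {v w}, Γ.A v w → ¬ Z v w ≤ R v
  QV : ∀ v, ∀ x ∈ Q v, ∀ y ∈ V v, x * y = y * x
  Vsq : ∀ v, ∀ y ∈ V v, y * y = 1
  cent : ∀ {v w}, Γ.A v w → ∀ b ∈ E v w, (∀ y ∈ V v, b * y = y * b) → b ∈ Q v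
  EZ : ∀ {v w}, Γ.A v w → ∀ b ∈ E v w, ∀ z ∈ Z v w, b * z = z * b
  comm : ∀ {v w}, Γ.A v w → ∀ y ∈ V v, ∀ b ∈ E v w, y * b * y⁻¹ * b⁻¹ ∈ Z v w
  ncomm : ∀ {v w}, Γ.A v w → ∀ b ∈ E v w, b ∉ Q v → ∀ y ∈ V v, b * y = y * b → y ∈ Z v w
  RP : ∀ v, ∀ p ∈ stabilizer G v, ∀ r ∈ R v, p * r = r * p
  fix : ∀ v, ∀ y ∈ V v, (∀ p ∈ stabilizer G v, p * y = y * p) → y ∈ R v
  card : ∀ {v w}, Γ.A v w → (Q v).relIndex (E v w) = (Z v w).relIndex (V v)
  sup : ∀ {v w}, Γ.A v w → Z v w ≤ ⁅V v, E v w⁆ ⊔ R v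
  adm2 : ∀ {v w}, Γ.A v w →
    ∃ m m', Γ.A v m ∧ Γ.A v m' ∧ Adm E v w m ∧ Adm E v w m' ∧ Adm E v m m'
  admu : ∀ {v w m}, Γ.A v w → Γ.A v m → Adm E v w m → ∀ u ∈ E v w, u ∉ Q v → Adm E v m (u • m)

namespace GF

variable {Γ : RGraph G W} {V Q R : W → Subgroup G} {E Z : W → W → Subgroup G}
variable (h : GF Γ V Q R E Z)

include h

theorem Qst (v w : W) (hvw : Γ.A v w) : Q v ≤ stabilizer G v := (h.QE hvw).trans (h.Est hvw)

theorem RV {v w : W} (hvw : Γ.A v w) : R v ≤ V v := (h.RZ hvw).trans (h.ZV hvw)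

theorem Est' {v w : W} (hvw : Γ.A v w) : E v w ≤ stabilizer G w := by
  rw [h.Ec]; exact h.Est (Γ.symm hvw)

theorem Vconj {v : W} {g x : G} (hg : g ∈ stabilizer G v) (hx : x ∈ V v) : g * x * g⁻¹ ∈ V v :=
  (mem_normalizer_iff.1 (h.Ve.stab_le_normalizer v hg) x).1 hx

theorem Qconj {v : W} {g x : G} (hg : g ∈ stabilizer G v) (hx : x ∈ Q v) : g * x * g⁻¹ ∈ Q v :=
  (mem_normalizer_iff.1 (h.Qe.stab_le_normalizer v hg) x).1 hx

theorem cm_of_le {v w : W} (hle : V v ≤ Q w) : Cm V v w := fun x hx y hy => h.QV w x (hle hx) y hy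

theorem R_inf {v w : W} (hvw : Γ.A v w) {x : G} (h1 : x ∈ R v) (h2 : x ∈ R w) : x = 1 := by
  have h3 : R v ⊓ R w = ⊥ := by
    refine h.faith v w hvw _ ?_ ?_ ?_ ?_
    · exact inf_le_left.trans ((h.RV hvw).trans ((h.VQ v).trans (h.Qst v w hvw)))
    · exact inf_le_right.trans ((h.RV (Γ.symm hvw)).trans ((h.VQ w).trans (h.Qst w v (Γ.symm hvw))))
    · intro g hg
      rw [mem_normalizer_iff]
      intro x
      constructor
      · rintro ⟨hx1, hx2⟩
        have e : g * x * g⁻¹ = x := by rw [h.RP v g hg x hx1, mul_inv_cancel_right]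
        rw [e]; exact ⟨hx1, hx2⟩
      · rintro ⟨hx1, hx2⟩
        have e : g * x * g⁻¹ = x := by
          have h4 := h.RP v g⁻¹ (inv_mem hg) _ hx1
          have h5 : g⁻¹ * (g * x * g⁻¹) * g = x := by group
          rw [h4] at h5
          have h6 : g * x * g⁻¹ * g⁻¹ * g = g * x * g⁻¹ := by group
          rw [h6] at h5
          exact h5
        rw [e] at hx1 hx2; exact ⟨hx1, hx2⟩
    · intro g hg
      rw [mem_normalizer_iff]
      intro x
      constructor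
      · rintro ⟨hx1, hx2⟩
        have e : g * x * g⁻¹ = x := by rw [h.RP w g hg x hx2, mul_inv_cancel_right]
        rw [e]; exact ⟨hx1, hx2⟩
      · rintro ⟨hx1, hx2⟩
        have e : g * x * g⁻¹ = x := by
          have h4 := h.RP w g⁻¹ (inv_mem hg) _ hx2
          have h5 : g⁻¹ * (g * x * g⁻¹) * g = x := by group
          rw [h4] at h5
          have h6 : g * x * g⁻¹ * g⁻¹ * g = g * x * g⁻¹ := by group
          rw [h6] at h5
          exact h5
        rw [e] at hx1 hx2; exact ⟨hx1, hx2⟩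
  have h4 : x ∈ R v ⊓ R w := ⟨h1, h2⟩
  rw [h3] at h4
  exact Subgroup.mem_bot.1 h4

section crit

variable [Finite G] {b : ℕ} (hmin : ∀ m < b + 2, ∀ v w, Γ.W m v w → V v ≤ Q w)

include hmin

/-- (4.1) -/
theorem crit_le {v p q w : W} (hvp : Γ.A v p) (hpq : Γ.W b p q) (hqw : Γ.A q w) :
    V v ≤ E w q ∧ V w ≤ E v p ∧ V w ≤ Q p ∧ V v ≤ Q q := by
  have h1 : V v ≤ Q q := hmin (b + 1) (by omega) v q (Wlk.cons hvp hpq)
  have h2 : V w ≤ Q p := hmin (b + 1) (by omega) w p (Wlk.cons (Γ.symm hqw) (RGraph.W.symm hpq))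
  refine ⟨?_, ?_, h2, h1⟩
  · rw [h.Ec]; exact h1.trans (h.QE hqw)
  · rw [h.Ec]; exact h2.trans (h.QE (Γ.symm hvp))

theorem crit_Z {v p q w : W} (hvp : Γ.A v p) (hpq : Γ.W b p q) (hqw : Γ.A q w) (hn : ¬ Cm V v w) :
    ∀ x ∈ V w, x ∈ Q v → x ∈ Z w q := by
  obtain ⟨h1, h2, h3, h4⟩ := h.crit_le hmin hvp hpq hqw
  simp only [Cm] at hn
  push Not at hn
  obtain ⟨a, ha, c, hc, hac⟩ := hn
  intro x hx hxQ
  refine h.ncomm (Γ.symm hqw) a (h1 ha) ?_ x hx ?_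
  · intro haQ
    exact hac (h.QV w a haQ c hc)
  · exact (h.QV v x hxQ a ha).symm

theorem crit_cover {v p q w : W} (hvp : Γ.A v p) (hpq : Γ.W b p q) (hqw : Γ.A q w) (hn : ¬ Cm V v w) :
    ∀ e ∈ E v p, ∃ x ∈ V w, ∃ y ∈ Q v, e = x * y := by
  obtain ⟨h1, h2, h3, h4⟩ := h.crit_le hmin hvp hpq hqw
  have h5 := h.crit_Z hmin hvp hpq hqw hn
  have h6 := h.crit_Z hmin (Γ.symm hqw) (RGraph.W.symm hpq) (Γ.symm hvp) (fun hc => hn hc.symm)
  refine exists_mul_of_relIndex_le h2 (h.QE hvp) ?_ h5 ?_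
  · exact (h.Est hvp).trans (h.Qe.stab_le_normalizer v)
  · rw [h.card hvp, ← h.card (Γ.symm hqw)]
    have h7 : (Z v p).relIndex (V v) ≤ (Q w).relIndex (V v) := by
      have h8 : (Q w ⊓ V v).relIndex (V v) = (Q w).relIndex (V v) := inf_relIndex_right _ _
      rw [← h8]
      have h9 : (Q w ⊓ V v : Subgroup G) ≤ Z v p := fun x hx => h6 x hx.2 hx.1
      exact Nat.le_of_dvd (Nat.pos_of_ne_zero (Subgroup.index_ne_zero_of_finite
        (H := (Q w ⊓ V v).subgroupOf (V v)))) (relIndex_dvd_of_le_left _ h9)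
    refine h7.trans ?_
    exact relIndex_le_of_le_right h1 (Subgroup.index_ne_zero_of_finite (H := (Q w).subgroupOf (E w q)))

/-- some element of `V w` is not in `Q v` -/
theorem crit_elt {v p q w : W} (hvp : Γ.A v p) (hpq : Γ.W b p q) (hqw : Γ.A q w) (hn : ¬ Cm V v w) :
    ∃ u ∈ V w, u ∈ E v p ∧ u ∉ Q v := by
  obtain ⟨h1, h2, h3, h4⟩ := h.crit_le hmin hvp hpq hqw
  by_contra hcon
  push Not at hcon
  exact hn (fun x hx y hy => (h.QV v y (hcon y hy (h2 hy)) x hx).symm)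

/-- `E v p = Q v Q p` if there is a critical pair `(v, w)` with first step `p` -/
theorem crit_sup {v p q w : W} (hvp : Γ.A v p) (hpq : Γ.W b p q) (hqw : Γ.A q w) (hn : ¬ Cm V v w) :
    E v p ≤ Q v ⊔ Q p := by
  intro e he
  obtain ⟨x, hx, y, hy, rfl⟩ := h.crit_cover hmin hvp hpq hqw hn e he
  exact mul_mem (mem_sup_right ((h.crit_le hmin hvp hpq hqw).2.2.1 hx)) (mem_sup_left hy)

omit hmin [Finite G] in
/-- the property `E v p ≤ Q v ⊔ Q p` is invariant -/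
theorem sup_all {v p : W} (hvp : Γ.A v p) (h1 : E v p ≤ Q v ⊔ Q p) {a d : W} (had : Γ.A a d) :
    E a d ≤ Q a ⊔ Q d := by
  have key : ∀ {a d : W}, Γ.A a d → Γ.typ v = Γ.typ a → E a d ≤ Q a ⊔ Q d := by
    intro a d had ht
    obtain ⟨g, rfl, rfl⟩ := Γ.trans hvp had ht
    rw [h.Es, h.Qe, h.Qe, ← smul_sup]
    exact pointwise_smul_le_pointwise_smul_iff.2 h1
  by_cases ht : Γ.typ v = Γ.typ a
  · exact key had ht
  · have h5 : Γ.typ v = Γ.typ d := by
      rw [Γ.typ_adj had]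
      cases h6 : Γ.typ v <;> cases h7 : Γ.typ a <;> simp_all
    have := key (Γ.symm had) h5
    rwa [h.Ec, sup_comm] at this

/-- elements of `E a d` when `E a d ≤ Q a ⊔ Q d` -/
theorem mem_mul {a d : W} (had : Γ.A a d) (h1 : E a d ≤ Q a ⊔ Q d) {e : G} (he : e ∈ E a d) :
    ∃ x ∈ Q a, ∃ y ∈ Q d, e = x * y := by
  have h2 : Q a ≤ normalizer (Q d : Set G) :=
    ((h.QE had).trans (h.Est' had)).trans (h.Qe.stab_le_normalizer d)
  have h3 := h1 he
  rw [← SetLike.mem_coe, Subgroup.coe_mul_of_left_le_normalizer_right (Q a) (Q d) h2] at h3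
  obtain ⟨x, hx, y, hy, rfl⟩ := h3
  exact ⟨x, hx, y, hy, rfl⟩

/-- (4.2), case (S), first part -/
theorem crit_norm {v p q w m : W} (hvp : Γ.A v p) (hpq : Γ.W b p q) (hqw : Γ.A q w) (hn : ¬ Cm V v w)
    (hvm : Γ.A v m) (hadm : Adm E v p m) (hS : Cm V m q) :
    stabilizer G v ≤ normalizer ((V v ⊔ V m : Subgroup G) : Set G) := by
  obtain ⟨h1, h2, h3, h4⟩ := h.crit_le hmin hvp hpq hqw
  have hcov := h.crit_cover hmin hvp hpq hqw hn
  have hcov' := h.crit_cover hmin (Γ.symm hqw) (RGraph.W.symm hpq) (Γ.symm hvp) (fun hc => hn hc.symm)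
  -- `V m ≤ Q q`
  obtain ⟨q', hvq', hq'q⟩ := Wlk.succ_iff'.1 (show Γ.W (b + 1) v q from Wlk.cons hvp hpq)
  have h5 : V m ≤ Q q' := hmin (b + 1) (by omega) m q' (Wlk.cons (Γ.symm hvm) hvq')
  have h6 : V m ≤ E q q' := by
    rw [h.Ec]; exact h5.trans (h.QE hq'q)
  have h7 : V m ≤ Q q := fun x hx => h.cent (Γ.symm hq'q) x (h6 hx) (fun y hy => hS x hx y hy)
  have h8 : V m ≤ E w q := by
    rw [h.Ec]; exact h7.trans (h.QE hqw)
  -- commutators
  have h9 : ∀ y ∈ V w, ∀ x ∈ V m, y * x * y⁻¹ * x⁻¹ ∈ V v := by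
    intro y hy x hx
    obtain ⟨x1, hx1, y1, hy1, rfl⟩ := hcov' x (h8 hx)
    have e1 : y1 * y⁻¹ = y⁻¹ * y1 := h.QV w y1 hy1 _ ((V w).inv_mem hy)
    have e : y * (x1 * y1) * y⁻¹ * (x1 * y1)⁻¹ = (y * x1 * y⁻¹) * x1⁻¹ := by
      calc y * (x1 * y1) * y⁻¹ * (x1 * y1)⁻¹ = y * x1 * (y1 * y⁻¹) * y1⁻¹ * x1⁻¹ := by group
        _ = y * x1 * (y⁻¹ * y1) * y1⁻¹ * x1⁻¹ := by rw [e1]
        _ = (y * x1 * y⁻¹) * x1⁻¹ := by group
    rw [e]
    exact (V v).mul_mem (h.Vconj (h.Est hvp (h2 hy)) hx1) ((V v).inv_mem hx1)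
  have hmem : ∀ {X : Subgroup G} {g : G}, (∀ x ∈ X, g * x * g⁻¹ ∈ (V v ⊔ V m : Subgroup G)) →
      ∀ x ∈ X, x ∈ ((V v ⊔ V m : Subgroup G)).comap (MulAut.conj g).toMonoidHom := by
    intro X g hX x hx
    exact hX x hx
  have hnorm : ∀ g : G, (∀ x ∈ V v, g * x * g⁻¹ ∈ (V v ⊔ V m : Subgroup G)) →
      (∀ x ∈ V m, g * x * g⁻¹ ∈ (V v ⊔ V m : Subgroup G)) →
      g ∈ normalizer ((V v ⊔ V m : Subgroup G) : Set G) := by
    intro g ha hb
    apply Subgroup.mem_normalizer_fintype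
    intro n hn'
    have hle : (V v ⊔ V m : Subgroup G) ≤ ((V v ⊔ V m : Subgroup G)).comap (MulAut.conj g).toMonoidHom :=
      sup_le (hmem ha) (hmem hb)
    exact hle hn'
  refine hadm _ ?_ ?_
  · intro e he
    obtain ⟨y, hy, a, ha, rfl⟩ := hcov e he
    refine mul_mem ?_ ?_
    · refine hnorm y (fun x hx => mem_sup_left (h.Vconj (h.Est hvp (h2 hy)) hx)) (fun x hx => ?_)
      have e : y * x * y⁻¹ = (y * x * y⁻¹ * x⁻¹) * x := by group
      rw [e]
      exact mul_mem (mem_sup_left (h9 y hy x hx)) (mem_sup_right hx)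
    · have ha1 : a ∈ E v m := h.QE hvm ha
      refine hnorm a (fun x hx => mem_sup_left (h.Vconj (h.Est hvm ha1) hx)) (fun x hx => ?_)
      exact mem_sup_right (h.Vconj (h.Est' hvm ha1) hx)
  · intro a ha1
    refine hnorm a (fun x hx => mem_sup_left (h.Vconj (h.Est hvm ha1) hx)) (fun x hx => ?_)
    exact mem_sup_right (h.Vconj (h.Est' hvm ha1) hx)

/-- (4.2): for a critical pair `(v, w)` with first step `p` and an admissible neighbour `m` of `v`. -/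
theorem crit_comm {v p q w m : W} (hvp : Γ.A v p) (hpq : Γ.W b p q) (hqw : Γ.A q w) (hn : ¬ Cm V v w)
    (hvm : Γ.A v m) (hadm : Adm E v p m) : ∀ x ∈ V m, ∀ e ∈ E m v, x * e * x⁻¹ * e⁻¹ ∈ R v := by
  obtain ⟨h1, h2, h3, h4⟩ := h.crit_le hmin hvp hpq hqw
  have hcov := h.crit_cover hmin hvp hpq hqw hn
  have hfix : ∀ c ∈ V v, (∀ y ∈ V w, y * c = c * y) → (∀ e ∈ E v m, e * c = c * e) → c ∈ R v := by
    intro c hc h5 h6
    refine h.fix v c hc ?_
    have h7 : stabilizer G v ≤ centralizer ({c} : Set G) := by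
      refine hadm _ ?_ ?_
      · intro e he
        obtain ⟨y, hy, a, ha, rfl⟩ := hcov e he
        rw [mem_centralizer_singleton_iff]
        have e1 := h5 y hy
        have e2 := h.QV v a ha c hc
        calc y * a * c = y * (a * c) := by group
          _ = (y * c) * a := by rw [e2]; group
          _ = c * (y * a) := by rw [e1]; group
      · intro e he
        rw [mem_centralizer_singleton_iff]
        exact h6 e he
    intro g hg
    exact mem_centralizer_singleton_iff.1 (h7 hg)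
  obtain ⟨q', hvq', hq'q⟩ := Wlk.succ_iff'.1 (show Γ.W (b + 1) v q from Wlk.cons hvp hpq)
  by_cases hF : Cm V m q
  · -- case (S)
    have hN := h.crit_norm hmin hvp hpq hqw hn hvm hadm hF
    have hsup := h.sup_all hvp (h.crit_sup hmin hvp hpq hqw hn) (Γ.symm hvm)
    have hQ : ∀ x ∈ V m, ∀ a ∈ Q v, x * a * x⁻¹ * a⁻¹ ∈ Z v m := by
      intro x hx a ha
      rw [h.Zc hvm]
      refine h.comm (Γ.symm hvm) x hx a ?_
      rw [h.Ec]; exact h.QE hvm ha
    have hVc : ∀ x ∈ V v, ∀ y ∈ V m, x * y = y * x := by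
      intro x hx y hy
      exact h.QV m x (h.adj hvm hx) y hy
    have key : ∀ x ∈ V m, ∀ a ∈ Q v, x * a * x⁻¹ * a⁻¹ ∈ R v := by
      intro x hx a ha
      have hc := hQ x hx a ha
      set c := x * a * x⁻¹ * a⁻¹ with hcd
      -- `c` is centralised by `E v p`
      have h8 : ∀ e ∈ E v p, e * c = c * e := by
        obtain ⟨g, hg, hgp⟩ := RGraph.loc_trans hvp hvm
        intro e he
        have hge : g * e * g⁻¹ ∈ E v m := by
          have := h.Es g v p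
          rw [mem_stabilizer_iff.1 hg, hgp] at this
          rw [this, mem_conj_smul]
          have e0 : g⁻¹ * (g * e * g⁻¹) * g = e := by group
          rwa [e0]
        have h9 : g * x * g⁻¹ ∈ V v ⊔ V m := (mem_normalizer_iff.1 (hN hg) x).1 (mem_sup_right hx)
        have h10 : V v ≤ normalizer (V m : Set G) :=
          (h.adj hvm).trans ((h.Qst m v (Γ.symm hvm)).trans (h.Ve.stab_le_normalizer m))
        rw [← SetLike.mem_coe, Subgroup.coe_mul_of_left_le_normalizer_right (V v) (V m) h10] at h9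
        obtain ⟨y', hy', x', hx', hyx⟩ := h9
        have ha' : g * a * g⁻¹ ∈ Q v := h.Qconj hg ha
        have h11 := hQ x' hx' _ ha'
        have e1 : g * c * g⁻¹ = x' * (g * a * g⁻¹) * x'⁻¹ * (g * a * g⁻¹)⁻¹ := by
          have h12 : (x' * (g * a * g⁻¹) * x'⁻¹ * (g * a * g⁻¹)⁻¹) * y' =
              y' * (x' * (g * a * g⁻¹) * x'⁻¹ * (g * a * g⁻¹)⁻¹) :=
            h.QV v _ (h.VQ v (h.ZV hvm h11)) y' hy'
          have h13 : (g * a * g⁻¹) * y'⁻¹ = y'⁻¹ * (g * a * g⁻¹) := h.QV v _ ha' _ ((V v).inv_mem hy')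
          have h14 : g * c * g⁻¹ = (g * x * g⁻¹) * (g * a * g⁻¹) * (g * x * g⁻¹)⁻¹ * (g * a * g⁻¹)⁻¹ := by
            rw [hcd]; group
          have h15 : g * x * g⁻¹ = y' * x' := hyx.symm
          rw [h14, h15]
          have h16 : (g * a * g⁻¹)⁻¹ * y' = y' * (g * a * g⁻¹)⁻¹ :=
            h.QV v _ ((Q v).inv_mem ha') _ hy'
          calc y' * x' * (g * a * g⁻¹) * (y' * x')⁻¹ * (g * a * g⁻¹)⁻¹
              = y' * (x' * (g * a * g⁻¹) * x'⁻¹) * (y'⁻¹ * (g * a * g⁻¹)⁻¹) := by group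
            _ = y' * (x' * (g * a * g⁻¹) * x'⁻¹) * ((g * a * g⁻¹)⁻¹ * y'⁻¹) := by
                have h17 : y'⁻¹ * (g * a * g⁻¹)⁻¹ = (g * a * g⁻¹)⁻¹ * y'⁻¹ := by
                  have := h.QV v _ ((Q v).inv_mem ha') _ ((V v).inv_mem hy')
                  exact this.symm
                rw [h17]
            _ = y' * (x' * (g * a * g⁻¹) * x'⁻¹ * (g * a * g⁻¹)⁻¹) * y'⁻¹ := by group
            _ = (x' * (g * a * g⁻¹) * x'⁻¹ * (g * a * g⁻¹)⁻¹) * y' * y'⁻¹ := by rw [h12]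
            _ = x' * (g * a * g⁻¹) * x'⁻¹ * (g * a * g⁻¹)⁻¹ := by group
        have h17 : g * c * g⁻¹ ∈ Z v m := by rw [e1]; exact h11
        have h18 := h.EZ hvm _ hge _ h17
        have h19 : g * (e * c) * g⁻¹ = g * (c * e) * g⁻¹ := by
          calc g * (e * c) * g⁻¹ = (g * e * g⁻¹) * (g * c * g⁻¹) := by group
            _ = (g * c * g⁻¹) * (g * e * g⁻¹) := h18
            _ = g * (c * e) * g⁻¹ := by group
        exact mul_left_cancel (mul_right_cancel h19)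
      refine hfix c (h.ZV hvm hc) (fun y hy => h8 y (h2 hy)) (fun e he => h.EZ hvm e he c hc)
    intro x hx e he
    obtain ⟨k, hk, a, ha, rfl⟩ := h.mem_mul hmin (Γ.symm hvm) hsup he
    have h9 := key x hx a ha
    have e1 : x * k = k * x := (h.QV m k hk x hx).symm
    have e2 : x * (k * a) * x⁻¹ * (k * a)⁻¹ = k * (x * a * x⁻¹ * a⁻¹) * k⁻¹ := by
      calc x * (k * a) * x⁻¹ * (k * a)⁻¹ = (x * k) * a * x⁻¹ * a⁻¹ * k⁻¹ := by group
        _ = (k * x) * a * x⁻¹ * a⁻¹ * k⁻¹ := by rw [e1]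
        _ = k * (x * a * x⁻¹ * a⁻¹) * k⁻¹ := by group
    rw [e2]
    have h10 : k ∈ stabilizer G v := h.Est' (Γ.symm hvm) (h.QE (Γ.symm hvm) hk)
    have h11 := h.RP v k h10 _ h9
    rw [h11, mul_inv_cancel_right]
    exact h9
  · -- case (F)
    obtain ⟨g1, g2, g3, g4⟩ := h.crit_le hmin (Γ.symm hvm) hvq' hq'q
    have gcov := h.crit_cover hmin (Γ.symm hvm) hvq' hq'q hF
    intro x hx e he
    obtain ⟨y, hy, k, hk, rfl⟩ := gcov e he
    have e1 : k * x⁻¹ = x⁻¹ * k := h.QV m k hk _ ((V m).inv_mem hx)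
    have e2 : x * (y * k) * x⁻¹ * (y * k)⁻¹ = x * y * x⁻¹ * y⁻¹ := by
      calc x * (y * k) * x⁻¹ * (y * k)⁻¹ = x * y * (k * x⁻¹) * k⁻¹ * y⁻¹ := by group
        _ = x * y * (x⁻¹ * k) * k⁻¹ * y⁻¹ := by rw [e1]
        _ = x * y * x⁻¹ * y⁻¹ := by group
    rw [e2]
    have hyE : y ∈ E m v := g2 hy
    have hcZ : x * y * x⁻¹ * y⁻¹ ∈ Z v m := by
      rw [h.Zc hvm]; exact h.comm (Γ.symm hvm) x hx y hyE
    have hcq : x * y * x⁻¹ * y⁻¹ ∈ V q :=
      (V q).mul_mem (h.Vconj (h.Est (Γ.symm hq'q) (g1 hx)) hy) ((V q).inv_mem hy)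
    refine hfix _ (h.ZV hvm hcZ) (fun t ht => ?_) (fun e he => h.EZ hvm e he _ hcZ)
    exact h.QV q t (h.adj (Γ.symm hqw) ht) _ hcq

/-- `⁅V v, E v p⁆ = ⁅V v, V w⁆` for a critical pair -/
theorem crit_eq {v p q w : W} (hvp : Γ.A v p) (hpq : Γ.W b p q) (hqw : Γ.A q w) (hn : ¬ Cm V v w) :
    ⁅V v, E v p⁆ = ⁅V v, V w⁆ := by
  obtain ⟨h1, h2, h3, h4⟩ := h.crit_le hmin hvp hpq hqw
  refine le_antisymm ?_ (commutator_mono le_rfl h2)
  rw [Subgroup.commutator_le]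
  intro x hx e he
  obtain ⟨y, hy, k, hk, rfl⟩ := h.crit_cover hmin hvp hpq hqw hn e he
  have e1 : k * x⁻¹ = x⁻¹ * k := h.QV v k hk _ ((V v).inv_mem hx)
  have e2 : ⁅x, y * k⁆ = ⁅x, y⁆ := by
    rw [commutatorElement_def, commutatorElement_def]
    calc x * (y * k) * x⁻¹ * (y * k)⁻¹ = x * y * (k * x⁻¹) * k⁻¹ * y⁻¹ := by group
      _ = x * y * (x⁻¹ * k) * k⁻¹ * y⁻¹ := by rw [e1]
      _ = x * y * x⁻¹ * y⁻¹ := by group
  rw [e2]
  exact commutator_mem_commutator hx hy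

omit hmin [Finite G] in
theorem comm_all {v m : W} (hvm : Γ.A v m) (h1 : ∀ x ∈ V m, ∀ e ∈ E m v, x * e * x⁻¹ * e⁻¹ ∈ R v)
    {a d : W} (had : Γ.A a d) (ht : Γ.typ v = Γ.typ a) : ∀ x ∈ V d, ∀ e ∈ E d a, x * e * x⁻¹ * e⁻¹ ∈ R a := by
  obtain ⟨g, rfl, rfl⟩ := Γ.trans hvm had ht
  intro x hx e he
  rw [h.Ve, mem_conj_smul] at hx
  rw [h.Es, mem_conj_smul] at he
  rw [h.Re, mem_conj_smul]
  have e1 : g⁻¹ * (x * e * x⁻¹ * e⁻¹) * g =
      (g⁻¹ * x * g) * (g⁻¹ * e * g) * (g⁻¹ * x * g)⁻¹ * (g⁻¹ * e * g)⁻¹ := by group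
  rw [e1]
  exact h1 _ hx _ he

/-- (4.5): case (F) cannot hold always -/
theorem not_always (hcrit : ∃ v p q w, Γ.A v p ∧ Γ.W b p q ∧ Γ.A q w ∧ ¬ Cm V v w)
    (hF : ∀ v p q w m, Γ.A v p → Γ.W b p q → Γ.A q w → ¬ Cm V v w → Γ.A v m → Adm E v p m →
      ¬ Cm V m q) : False := by
  obtain ⟨v, p, q, w, hvp, hpq, hqw, hn⟩ := hcrit
  obtain ⟨q', hvq', hq'q⟩ := Wlk.succ_iff'.1 (show Γ.W (b + 1) v q from Wlk.cons hvp hpq)
  obtain ⟨m, m', hvm, hvm', hadm, hadm', hadm''⟩ := h.adm2 hvp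
  have hc := hF v p q w m hvp hpq hqw hn hvm hadm
  have hc' := hF v p q w m' hvp hpq hqw hn hvm' hadm'
  -- both types are critical
  have hPr : ∀ {a d : W}, Γ.A a d → ∀ x ∈ V d, ∀ e ∈ E d a, x * e * x⁻¹ * e⁻¹ ∈ R a := by
    intro a d had
    by_cases ht : Γ.typ v = Γ.typ a
    · exact h.comm_all hvm (h.crit_comm hmin hvp hpq hqw hn hvm hadm) had ht
    · obtain ⟨n, -, hmn, -, hadn, -, -⟩ := h.adm2 (Γ.symm hvm)
      refine h.comm_all hmn (h.crit_comm hmin (Γ.symm hvm) hvq' hq'q hc hmn hadn) had ?_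
      have h5 := Γ.typ_adj hvm
      rw [h5]
      cases h6 : Γ.typ v <;> cases h7 : Γ.typ a <;> simp_all
  have hcle : ∀ {a d : W}, Γ.A a d → ⁅V d, E d a⁆ ≤ R a := by
    intro a d had
    rw [Subgroup.commutator_le]
    intro x hx e he
    rw [commutatorElement_def]
    exact hPr had x hx e he
  have hceq : ∀ {a d : W}, Γ.A a d → ⁅V d, E d a⁆ = R a := by
    intro a d had
    refine le_antisymm (hcle had) ?_
    intro r hr
    have h1 : r ∈ ⁅V d, E d a⁆ ⊔ R d := h.sup (Γ.symm had) (by rw [← h.Zc had]; exact h.RZ had hr)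
    have h2 : ⁅V d, E d a⁆ ≤ normalizer (R d : Set G) := by
      refine (hcle had).trans ?_
      refine (h.RV had).trans ((h.adj had).trans ?_)
      exact (h.Qst d a (Γ.symm had)).trans (h.Re.stab_le_normalizer d)
    rw [← SetLike.mem_coe, Subgroup.coe_mul_of_left_le_normalizer_right _ _ h2] at h1
    obtain ⟨c, hc1, s, hs, hcs⟩ := h1
    have hcs' : c * s = r := hcs
    have h3 : s = 1 := by
      refine h.R_inf had ?_ hs
      have : s = c⁻¹ * r := by rw [← hcs']; group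
      rw [this]
      exact (R a).mul_mem ((R a).inv_mem (hcle had hc1)) hr
    rw [← hcs', h3, mul_one]
    exact hc1
  have hRne : ∀ {a d : W}, Γ.A a d → ∃ r ∈ R a, r ≠ 1 := by
    intro a d had
    by_contra hcon
    push Not at hcon
    apply h.RZne (Γ.symm had)
    refine (h.sup (Γ.symm had)).trans (sup_le ?_ le_rfl)
    intro x hx
    rw [hcon x (hcle had hx)]
    exact one_mem _
  rcases Nat.eq_zero_or_pos b with hb | hb
  · -- `b = 0`
    subst hb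
    have hpq0 : p = q := Wlk.zero_iff.1 hpq
    subst hpq0
    have hvq0 : v = q' := Wlk.zero_iff.1 hvq'
    subst hvq0
    have hex : ∀ {a d : W}, Γ.A a d → ∃ n, Γ.A d n ∧ ¬ Cm V a n := by
      have key : ∀ {a₀ d₀ n₀ : W}, Γ.A a₀ d₀ → Γ.A d₀ n₀ → ¬ Cm V a₀ n₀ → ∀ {a d : W}, Γ.A a d →
          Γ.typ a₀ = Γ.typ a → ∃ n, Γ.A d n ∧ ¬ Cm V a n := by
        intro a₀ d₀ n₀ h1 h2 h3 a d had ht
        obtain ⟨g, rfl, rfl⟩ := Γ.trans h1 had ht
        refine ⟨g • n₀, Γ.smul g h2, fun hcm => h3 ?_⟩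
        intro x hx y hy
        have h4 := hcm (g * x * g⁻¹) (h.Ve.mem_of_mem g hx) (g * y * g⁻¹) (h.Ve.mem_of_mem g hy)
        have h5 : g * (x * y) * g⁻¹ = g * (y * x) * g⁻¹ := by
          calc g * (x * y) * g⁻¹ = (g * x * g⁻¹) * (g * y * g⁻¹) := by group
            _ = (g * y * g⁻¹) * (g * x * g⁻¹) := h4
            _ = g * (y * x) * g⁻¹ := by group
        exact mul_left_cancel (mul_right_cancel h5)
      intro a d had
      by_cases ht : Γ.typ v = Γ.typ a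
      · exact key hvp hqw hn had ht
      · refine key (Γ.symm hvm) hvp hc had ?_
        have h5 := Γ.typ_adj hvm
        rw [h5]
        cases h6 : Γ.typ v <;> cases h7 : Γ.typ a <;> simp_all
    have hB : ∀ {a d m : W}, Γ.A a d → Γ.A a m → Adm E a d m → ¬ Cm V m d := by
      intro a d m had ham hadm
      obtain ⟨n, hdn, hn'⟩ := hex had
      exact hF a d d n m had (Wlk.nil d) hdn hn' ham hadm
    -- the elements `u`, `u'`
    obtain ⟨u, hu, huE, huQ⟩ := h.crit_elt hmin hvp (Wlk.nil p) hqw hn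
    have hum : Γ.A v (u • m) := by
      have := Γ.smul u hvm
      rwa [mem_stabilizer_iff.1 (h.Est hvp huE)] at this
    have hadu := h.admu hvp hvm hadm u huE huQ
    have hnc := hB hvm hum hadu
    have hnc' : ¬ Cm V m (u • m) := fun hcm => hnc hcm.symm
    simp only [Cm] at hc
    push Not at hc
    obtain ⟨u', hu', y, hy, huy⟩ := hc
    have hu'Z : u' ∉ Z m v := by
      intro hz
      apply huy
      have h1 : u' ∈ V v := by rw [← h.Zc hvm] at hz; exact h.ZV hvm hz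
      exact (h.QV p u' (h.adj hvp h1) y hy)
    have hgZ := h.crit_Z hmin (Γ.symm hvm) (Wlk.nil v) hum hnc'
    obtain ⟨g1, g2, g3, g4⟩ := h.crit_le hmin (Γ.symm hvm) (Wlk.nil v) hum
    set a' := u * u' * u⁻¹ with ha'
    have ha'V : a' ∈ V (u • m) := h.Ve.mem_of_mem u hu'
    have ha'Q : a' ∉ Q m := by
      intro hq
      have h1 := hgZ a' ha'V hq
      apply hu'Z
      have h2 := h.Zs u m v
      rw [mem_stabilizer_iff.1 (h.Est hvp huE)] at h2
      rw [h2, mem_conj_smul, ha'] at h1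
      have e : u⁻¹ * (u * u' * u⁻¹) * u = u' := by group
      rwa [e] at h1
    have hne : a' * u' ≠ u' * a' := by
      intro heq
      exact hu'Z (h.ncomm (Γ.symm hvm) a' (g2 ha'V) ha'Q u' hu' heq)
    -- `(u' a')² ∈ R v`
    have hsq : u' * u' = 1 := h.Vsq m u' hu'
    have hinv : u'⁻¹ = u' := inv_eq_of_mul_eq_one_left hsq
    have hsqa : a' * a' = 1 := h.Vsq _ a' ha'V
    have hinva : a'⁻¹ = a' := inv_eq_of_mul_eq_one_left hsqa
    have hR1 : u' * a' * (u' * a') ∈ R v := by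
      have h1 := hPr hvm u' hu' a' (g2 ha'V)
      rw [hinv, hinva] at h1
      have e : u' * a' * u' * a' = u' * a' * (u' * a') := by group
      rwa [e] at h1
    have hu'p : u' ∈ stabilizer G p := by
      refine h.Est' hvp (h.QE hvp ?_)
      exact h.adj (Γ.symm hvm) hu'
    have hpn : Γ.A p (u' • w) := by
      have := Γ.smul u' hqw
      rwa [mem_stabilizer_iff.1 hu'p] at this
    have huinv : u * u = 1 := h.Vsq w u hu
    have huinv' : u⁻¹ = u := inv_eq_of_mul_eq_one_left huinv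
    have hR2 : u' * a' * (u' * a') ∈ R p := by
      have h1 : u' * u * u'⁻¹ ∈ V (u' • w) := h.Ve.mem_of_mem u' hu
      have h2 : u ∈ E (u' • w) p := by
        rw [h.Ec]
        exact h.QE hpn (h.adj (Γ.symm hqw) hu)
      have h3 := hPr hpn _ h1 u h2
      have h4 : (u' * u * u'⁻¹) * (u' * u * u'⁻¹) = 1 := h.Vsq _ _ h1
      have h5 : (u' * u * u'⁻¹)⁻¹ = u' * u * u'⁻¹ := inv_eq_of_mul_eq_one_left h4
      rw [h5, huinv', hinv] at h3
      have e : u' * u * u' * u * (u' * u * u') * u = u' * a' * (u' * a') := by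
        rw [ha', huinv']; group
      rwa [e] at h3
    have hone := h.R_inf hvp hR1 hR2
    apply hne
    have h6 : (u' * a')⁻¹ = u' * a' := inv_eq_of_mul_eq_one_left hone
    rw [← h6, mul_inv_rev, hinv, hinva]
  · -- `b ≥ 1`
    obtain ⟨b', rfl⟩ : ∃ b', b = b' + 1 := ⟨b - 1, by omega⟩
    obtain ⟨t, hvt, htq'⟩ := Wlk.succ_iff'.1 hvq'
    have hR : ∀ {m : W}, Γ.A v m → ¬ Cm V m q → R m = R t := by
      intro m hvm hc
      obtain ⟨n, -, hmn, -, hadn, -, -⟩ := h.adm2 (Γ.symm hvm)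
      have hcn := hF m v q' q n (Γ.symm hvm) hvq' hq'q hc hmn hadn
      have h1 := h.crit_eq hmin (Γ.symm hmn) (show Γ.W (b' + 1) m t from Wlk.cons (Γ.symm hvm) hvt) htq' hcn
      have h2 := h.crit_eq hmin (Γ.symm htq')
        (RGraph.W.symm (show Γ.W (b' + 1) m t from Wlk.cons (Γ.symm hvm) hvt)) hmn (fun hx => hcn hx.symm)
      rw [← hceq hmn, ← hceq htq', h1, h2, commutator_comm]
    have hm := hR hvm hc
    have hm' := hR hvm' hc'
    obtain ⟨r, hr, hr1⟩ := hRne (Γ.symm hvm)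
    apply hr1
    refine h.R_inf hvm ?_ hr
    refine h.fix v r ?_ ?_
    · refine h.ZV hvm ?_
      rw [h.Zc hvm]; exact h.RZ (Γ.symm hvm) hr
    · have h7 : stabilizer G v ≤ centralizer ({r} : Set G) := by
        refine hadm'' _ ?_ ?_
        · intro e he
          rw [mem_centralizer_singleton_iff]
          exact h.RP m e (h.Est' hvm he) r hr
        · intro e he
          rw [mem_centralizer_singleton_iff]
          exact h.RP m' e (h.Est' hvm' he) r (by rw [hm', ← hm]; exact hr)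
      intro g hg
      exact mem_centralizer_singleton_iff.1 (h7 hg)

end crit

/-- **the graph argument** -/
theorem main [Finite G] {v₀ w₀ : W} (hvw : Γ.A v₀ w₀) (hne : V v₀ ≠ ⊥) :
    ∃ v m, Γ.A v m ∧ (∀ x ∈ V m, ∀ e ∈ E m v, x * e * x⁻¹ * e⁻¹ ∈ R v) ∧
      stabilizer G v ≤ normalizer ((V v ⊔ V m : Subgroup G) : Set G) ∧ E v m ≤ Q v ⊔ Q m := by
  obtain ⟨b, hb⟩ := Γ.exists_crit h.faith h.Ve h.Qe h.Qs hvw hne
  have hb2 : 2 ≤ b := hb.two_le h.VQ (fun v w hvw => h.adj hvw)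
  obtain ⟨b, rfl⟩ : ∃ b', b = b' + 2 := ⟨b - 2, by omega⟩
  have hmin := hb.min
  obtain ⟨v, w, hw, hn⟩ := hb.ex
  obtain ⟨p, hvp, hpw⟩ := Wlk.succ_iff.mp hw
  obtain ⟨q, hpq, hqw⟩ := Wlk.succ_iff'.mp hpw
  have hnc : ¬ Cm V v w := by
    intro hcm
    apply hn
    intro x hx
    exact h.cent (Γ.symm hqw) x ((h.crit_le hmin hvp hpq hqw).1 hx) (fun y hy => hcm x hx y hy)
  by_contra hcon
  refine h.not_always hmin ⟨v, p, q, w, hvp, hpq, hqw, hnc⟩ ?_
  intro v p q w m hvp hpq hqw hn hvm hadm hS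
  apply hcon
  refine ⟨v, m, hvm, h.crit_comm hmin hvp hpq hqw hn hvm hadm,
    h.crit_norm hmin hvp hpq hqw hn hvm hadm hS, ?_⟩
  exact h.sup_all hvp (h.crit_sup hmin hvp hpq hqw hn) hvm

end GF

end Cfsg.Agent.OddCyclic.APQ
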