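import Mathlib
import Cfsg.Agent.OddCyclic.B2Defs
import Cfsg.Agent.LieExceptional.CITGlobal
import Cfsg.Agent.LieExceptional.CITBasic

/-!
# Tools for case B2 (blueprints/S0342-B2.md)
-/

set_option autoImplicit false

namespace Cfsg.Agent.OddCyclic.B2Tools

open Cfsg.Agent.LieExceptional Cfsg.Agent.LieExceptional.CITDefs Cfsg.Agent.OddCyclic.B2Defs

variable {G : Type*} [Group G]

theorem mem_norm [Finite G] {S : Subgroup G} {x : G} (h : ∀ s ∈ S, x * s * x⁻¹ ∈ S) :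
    x ∈ Subgroup.normalizer (S : Set G) := by
  rw [Subgroup.mem_normalizer_iff]
  intro s
  constructor
  · exact h s
  · intro hs
    have hinj : Function.Injective (fun s : S => (⟨x * s * x⁻¹, h s s.2⟩ : S)) := by
      intro a b hab
      have := congrArg Subtype.val hab
      simp only at this
      apply Subtype.ext
      exact mul_left_cancel (mul_right_cancel this)
    obtain ⟨⟨t, ht⟩, h⟩ := Finite.surjective_of_injective hinj ⟨_, hs⟩
    have h1 : x * t * x⁻¹ = x * s * x⁻¹ := congrArg Subtype.val h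
    have h2 : t = s := mul_left_cancel (mul_right_cancel h1)
    rw [← h2]
    exact ht

theorem conj_inv_mem [Finite G] {S : Subgroup G} {x : G} (h : ∀ s ∈ S, x * s * x⁻¹ ∈ S) {s : G} (hs : s ∈ S) :
    x⁻¹ * s * x ∈ S := by
  have h1 := Subgroup.inv_mem _ (mem_norm h)
  have h2 := (Subgroup.mem_normalizer_iff.1 h1 s).1 hs
  rwa [inv_inv] at h2

/-- normalisers grow in 2-groups -/
theorem grow [Finite G] {A T : Subgroup G} (hAT : A ≤ T) (hT : IsPGroup 2 T) (hne : A ≠ T) :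
    ∃ g ∈ T, g ∉ A ∧ ∀ a ∈ A, g * a * g⁻¹ ∈ A := by
  obtain ⟨Q, hQ, hQT, hQ2, hQN⟩ := CITGlobal.exists_bigger hAT (hT.to_le hAT) (by
    intro hs
    exact hne (hs.max T le_rfl hT hAT).symm)
  obtain ⟨g, hgQ, hgA⟩ := SetLike.exists_of_lt hQ
  exact ⟨g, hQT hgQ, hgA, fun a ha => (Subgroup.mem_normalizer_iff.1 (hQN hgQ) a).1 ha⟩

/-- a 2-element normalising the 2-group `S` lies with `S` in a Sylow 2-subgroup -/
theorem exists_syl [Finite G] {S : Subgroup G} {x : G} (hS : IsPGroup 2 S) (hx : ∃ k : ℕ, x ^ 2 ^ k = 1)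
    (hxS : ∀ s ∈ S, x * s * x⁻¹ ∈ S) : ∃ T : Subgroup G, IsSyl2 ⊤ T ∧ S ≤ T ∧ x ∈ T := by
  have hz : IsPGroup 2 (Subgroup.zpowers x) := by
    obtain ⟨k, hk⟩ := hx
    rintro ⟨y, m, rfl⟩
    refine ⟨k, ?_⟩
    apply Subtype.ext
    show (x ^ m) ^ 2 ^ k = 1
    rw [← zpow_natCast, zpow_comm, zpow_natCast, hk, one_zpow]
  have h1 : IsPGroup 2 (Subgroup.zpowers x ⊔ S : Subgroup G) := by
    refine IsPGroup.to_sup_of_normal_right' hz hS ?_
    rw [Subgroup.zpowers_le]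
    exact mem_norm hxS
  obtain ⟨T, hT, hle⟩ := CITBasic.exists_isSyl2 ⊤ _ le_top h1
  exact ⟨T, hT, le_sup_right.trans hle, hle (Subgroup.mem_sup_left (Subgroup.mem_zpowers x))⟩

/-- `S` Sylow in `C(t)`, `S ≤ T`: `T ∩ C(t) = S` -/
theorem mem_of_comm {t : G} {S T : Subgroup G} (hS : IsSyl2 (Subgroup.centralizer ({t} : Set G)) S)
    (hT : IsPGroup 2 T) (hST : S ≤ T) {g : G} (hg : g ∈ T) (hgt : g * t = t * g) : g ∈ S := by
  have h1 := hS.max (T ⊓ Subgroup.centralizer ({t} : Set G)) inf_le_right (hT.to_le inf_le_left) (le_inf hST hS.le)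
  rw [← h1, Subgroup.mem_inf, Subgroup.mem_centralizer_singleton_iff]
  exact ⟨hg, hgt⟩

theorem relIndex_two {T₀ T : Subgroup G} (h : T₀ ≤ T) {g : G} (hg : g ∈ T) (hg' : g ∉ T₀)
    (hall : ∀ x ∈ T, x ∈ T₀ ∨ g⁻¹ * x ∈ T₀) : T₀.relIndex T = 2 := by
  rw [Subgroup.relIndex_eq_two_iff_exists_notMem_and']
  refine ⟨g⁻¹, inv_mem hg, fun h' => hg' ((Subgroup.inv_mem_iff _).1 h'), fun b hb => ?_⟩
  exact (hall b hb).symm

end Cfsg.Agent.OddCyclic.B2Tools
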