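import Mathlib
import Cfsg.Agent.OddCyclic.B2Tools
import Cfsg.Agent.OddCyclic.B2Four

/-!
# Case B2: involutions acting on an elementary abelian group `F` of order 16
-/

set_option autoImplicit false

namespace Cfsg.Agent.OddCyclic.B2Act

open Cfsg.Agent.LieExceptional Cfsg.Agent.LieExceptional.CITDefs Cfsg.Agent.OddCyclic.B2Defs
  Cfsg.Agent.OddCyclic.B2Tools

variable {G : Type*} [Group G]

/-- `C_F(a)` -/
def CF (F : Subgroup G) (a : G) : Subgroup G := F ⊓ Subgroup.centralizer ({a} : Set G)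

theorem mem_CF {F : Subgroup G} {a f : G} : f ∈ CF F a ↔ f ∈ F ∧ f * a = a * f := by
  unfold CF
  rw [Subgroup.mem_inf, Subgroup.mem_centralizer_singleton_iff]

theorem CF_le {F : Subgroup G} {a : G} : CF F a ≤ F := inf_le_left

/-- `C_F(a)` depends only on the coset of `a` -/
theorem CF_congr {F : Subgroup G} (hE : Elem F) {a b : G} (h : a⁻¹ * b ∈ F) : CF F a = CF F b := by
  have key : ∀ {a b : G}, a⁻¹ * b ∈ F → CF F a ≤ CF F b := by
    intro a b h f hf
    rw [mem_CF] at hf ⊢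
    refine ⟨hf.1, ?_⟩
    have h1 := hE.comm hf.1 h
    calc f * b = f * a * (a⁻¹ * b) := by group
      _ = a * (f * (a⁻¹ * b)) := by rw [hf.2]; group
      _ = b * f := by rw [h1]; group
  refine le_antisymm (key h) (key ?_)
  have := inv_mem h
  rwa [mul_inv_rev, inv_inv] at this

theorem CF_mul {F : Subgroup G} (hE : Elem F) {a f : G} (h : f ∈ F) : CF F (a * f) = CF F a :=
  (CF_congr hE (by rwa [inv_mul_cancel_left])).symm

/-- conjugation -/
theorem mem_CF_conj {F : Subgroup G} {a g f : G} (hg : ∀ f ∈ F, g * f * g⁻¹ ∈ F) (hf : f ∈ CF F a) :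
    g * f * g⁻¹ ∈ CF F (g * a * g⁻¹) := by
  rw [mem_CF] at hf ⊢
  refine ⟨hg f hf.1, ?_⟩
  calc g * f * g⁻¹ * (g * a * g⁻¹) = g * (f * a) * g⁻¹ := by group
    _ = g * a * g⁻¹ * (g * f * g⁻¹) := by rw [hf.2]; group

theorem card_CF_conj [Finite G] {F : Subgroup G} {a g : G} (hg : ∀ f ∈ F, g * f * g⁻¹ ∈ F) :
    Nat.card (CF F (g * a * g⁻¹)) = Nat.card (CF F a) := by
  refine (Nat.card_congr (Equiv.ofBijective
    (fun f : CF F a => (⟨g * f * g⁻¹, mem_CF_conj hg f.2⟩ : CF F (g * a * g⁻¹))) ⟨?_, ?_⟩)).symm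
  · intro f f' h
    have h1 := congrArg Subtype.val h
    simp only at h1
    exact Subtype.ext (mul_left_cancel (mul_right_cancel h1))
  · rintro ⟨f, hf⟩
    rw [mem_CF] at hf
    refine ⟨⟨g⁻¹ * f * g, mem_CF.2 ⟨conj_inv_mem hg hf.1, ?_⟩⟩, ?_⟩
    · calc g⁻¹ * f * g * a = g⁻¹ * (f * (g * a * g⁻¹)) * g := by group
        _ = a * (g⁻¹ * f * g) := by rw [hf.2]; group
    · apply Subtype.ext
      show g * (g⁻¹ * f * g) * g⁻¹ = f
      group

/-- cosets -/
theorem card_le_cover [Finite G] {A F : Subgroup G} {ι : Type*} [Finite ι] (c : ι → G)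
    (h : ∀ a ∈ A, ∃ i, (c i)⁻¹ * a ∈ F) : Nat.card A ≤ Nat.card ι * Nat.card (A ⊓ F : Subgroup G) := by
  classical
  have h1 : (F.subgroupOf A).index ≤ Nat.card ι := by
    choose i hi using fun a : A => h a a.2
    have hinj : Function.Injective (fun x : A ⧸ F.subgroupOf A => i x.out) := by
      intro x x' hx
      simp only at hx
      have h2 := hi x.out
      have h3 := hi x'.out
      rw [← hx] at h3
      rw [← QuotientGroup.out_eq' x, ← QuotientGroup.out_eq' x']
      rw [QuotientGroup.eq, Subgroup.mem_subgroupOf]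
      have h4 := mul_mem (inv_mem h2) h3
      have h5 : ((c (i x.out))⁻¹ * (x.out : G))⁻¹ * ((c (i x.out))⁻¹ * (x'.out : G)) =
          ((x.out : A) : G)⁻¹ * (x'.out : A) := by group
      rw [h5] at h4
      exact h4
    exact Nat.card_le_card_of_injective _ hinj
  have h2 := Subgroup.card_mul_index (F.subgroupOf A)
  have h3 : Nat.card (F.subgroupOf A) = Nat.card (A ⊓ F : Subgroup G) := by
    rw [← Subgroup.inf_subgroupOf_left]
    exact Nat.card_congr (Subgroup.subgroupOfEquivOfLe inf_le_left).toEquiv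
  rw [← h2, h3, mul_comm]
  exact Nat.mul_le_mul_right _ h1

/-- the number of fixed points of an involution acting on `F` -/
theorem card_le_sq [Finite G] {F : Subgroup G} (hE : Elem F) {u : G} (hu : ∀ f ∈ F, u * f * u⁻¹ ∈ F)
    (hu2 : ∀ f ∈ F, (u * u) * f = f * (u * u)) : Nat.card F ≤ Nat.card (CF F u) * Nat.card (CF F u) := by
  let δ : F →* F :=
    { toFun := fun f => ⟨u * f * u⁻¹ * (f : G)⁻¹, mul_mem (hu f f.2) (inv_mem f.2)⟩
      map_one' := Subtype.ext (by
        show u * 1 * u⁻¹ * (1 : G)⁻¹ = 1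
        group)
      map_mul' := by
        intro a b
        apply Subtype.ext
        show u * (a * b) * u⁻¹ * (a * b : G)⁻¹ = (u * a * u⁻¹ * (a : G)⁻¹) * (u * b * u⁻¹ * (b : G)⁻¹)
        have h1 := hE.comm (mul_mem (hu b b.2) (inv_mem b.2)) (inv_mem a.2)
        calc u * (a * b) * u⁻¹ * (a * b : G)⁻¹ = (u * a * u⁻¹) * ((u * b * u⁻¹ * (b : G)⁻¹) * (a : G)⁻¹) := by group
          _ = _ := by rw [h1]; group }
  have hker : Nat.card δ.ker ≤ Nat.card (CF F u) := by
    have h1 : Function.Injective (fun x : δ.ker => (⟨(x : F), by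
        have hx : δ x = 1 := x.2
        have h2 : u * (x : F) * u⁻¹ * ((x : F) : G)⁻¹ = 1 := congrArg Subtype.val hx
        rw [mem_CF]
        refine ⟨(x : F).2, ?_⟩
        exact (mul_inv_eq_iff_eq_mul.1 (mul_inv_eq_one.1 h2)).symm⟩ : CF F u)) := by
      intro x x' hxx
      have h9 : ((x : F) : G) = ((x' : F) : G) := congrArg (fun z : CF F u => (z : G)) hxx
      exact Subtype.ext (Subtype.ext h9)
    exact Nat.card_le_card_of_injective _ h1
  have hrange : Nat.card δ.range ≤ Nat.card (CF F u) := by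
    have h1 : Function.Injective (fun x : δ.range => (⟨(x : F), by
        obtain ⟨f, hf⟩ := x.2
        rw [← hf, mem_CF]
        refine ⟨(δ f).2, ?_⟩
        show (u * f * u⁻¹ * (f : G)⁻¹) * u = u * (u * f * u⁻¹ * (f : G)⁻¹)
        have h2 := hu2 f f.2
        have h3 := hE.comm (hu f f.2) (inv_mem f.2)
        have h4 := hE _ f.2
        have h5 : (f : G)⁻¹ = f := inv_eq_of_mul_eq_one_left h4
        calc (u * f * u⁻¹ * (f : G)⁻¹) * u = ((f : G)⁻¹ * (u * f * u⁻¹)) * u := by rw [h3]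
          _ = (f : G) * (u * f * u⁻¹) * u := by rw [h5]
          _ = (f * (u * u)) * (u⁻¹ * f) := by group
          _ = (u * u) * f * (u⁻¹ * f) := by rw [h2]
          _ = u * (u * f * u⁻¹ * (f : G)) := by group
          _ = _ := by rw [h5]⟩ : CF F u)) := by
      intro x x' hxx
      have h9 : ((x : F) : G) = ((x' : F) : G) := congrArg (fun z : CF F u => (z : G)) hxx
      exact Subtype.ext (Subtype.ext h9)
    exact Nat.card_le_card_of_injective _ h1
  have h1 := δ.ker.card_mul_index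
  rw [Subgroup.index_ker] at h1
  rw [← h1]
  exact Nat.mul_le_mul hker hrange

/-- an element inverting `h` has at most 4 fixed points -/
theorem eq_one_of_inv {F : Subgroup G} {h u f : G} (fpf : ∀ f ∈ F, h * f = f * h → f = 1)
    (hh : h * h * h = 1) (huh : u * h * u⁻¹ = h⁻¹) (hf : f ∈ F) (h1 : f * u = u * f)
    (h2 : h * f * h⁻¹ * u = u * (h * f * h⁻¹)) : f = 1 := by
  apply fpf f hf
  have h3 : h⁻¹ = h * h := (eq_inv_of_mul_eq_one_left hh).symm
  have h4 : h * f * h⁻¹ = h⁻¹ * f * h := by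
    have h5 : u * h⁻¹ * u⁻¹ = h := by
      have : u * h⁻¹ * u⁻¹ = (u * h * u⁻¹)⁻¹ := by group
      rw [this, huh, inv_inv]
    calc h * f * h⁻¹ = (u * (h * f * h⁻¹)) * u⁻¹ := by rw [← h2]; group
      _ = (u * h * u⁻¹) * (u * f) * u⁻¹ * (u * h⁻¹ * u⁻¹) := by group
      _ = h⁻¹ * (f * u) * u⁻¹ * h := by rw [huh, h5, h1]
      _ = h⁻¹ * f * h := by group
  -- `h²` commutes with `f`
  have h6 : h * h * f = f * (h * h) := by
    calc h * h * f = h * (h * f * h⁻¹) * h := by group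
      _ = f * (h * h) := by rw [h4]; group
  rw [← h3] at h6
  calc h * f = h * (f * h⁻¹) * h := by group
    _ = f * h := by rw [← h6]; group

theorem card_le_four [Finite G] {F : Subgroup G} {h u : G} (h16 : Nat.card F = 16)
    (fpf : ∀ f ∈ F, h * f = f * h → f = 1) (hh : h * h * h = 1) (hF : ∀ f ∈ F, h * f * h⁻¹ ∈ F)
    (huh : u * h * u⁻¹ = h⁻¹) : Nat.card (CF F u) ≤ 4 := by
  have hinj : Function.Injective (fun x : CF F u × CF F u => (⟨x.1 * (h * x.2 * h⁻¹),
      mul_mem (CF_le x.1.2) (hF _ (CF_le x.2.2))⟩ : F)) := by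
    rintro ⟨a, b⟩ ⟨a', b'⟩ hab
    have h1 : (a : G) * (h * b * h⁻¹) = a' * (h * b' * h⁻¹) := congrArg Subtype.val hab
    have h2 : (a' : G)⁻¹ * a = h * (b' * (b : G)⁻¹) * h⁻¹ := by
      calc (a' : G)⁻¹ * a = (a' : G)⁻¹ * (a * (h * b * h⁻¹)) * (h * (b : G)⁻¹ * h⁻¹) := by group
        _ = _ := by rw [h1]; group
    have h3 : (b' * b⁻¹ : CF F u).1 = 1 := by
      refine eq_one_of_inv fpf hh huh (CF_le (b' * b⁻¹).2) (mem_CF.1 (b' * b⁻¹).2).2 ?_
      have h4 := (mem_CF.1 (a'⁻¹ * a).2).2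
      have h5 : ((a'⁻¹ * a : CF F u) : G) = h * (b' * b⁻¹ : CF F u).1 * h⁻¹ := h2
      rw [h5] at h4
      exact h4
    have h4 : b' = b := by
      apply Subtype.ext
      exact mul_inv_eq_one.1 h3
    subst h4
    have h5 : a = a' := Subtype.ext (mul_right_cancel h1)
    rw [h5]
  have := Nat.card_le_card_of_injective _ hinj
  rw [Nat.card_prod, h16] at this
  by_contra hcon
  push Not at hcon
  nlinarith

/-! ### the four involutions -/

section four

variable [Finite G] {t h y : G} {V P F T₄ : Subgroup G}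

theorem h_ne (L : Loc t h V) : h ≠ 1 := B2Four.h_ne L

theorem t_norm (D : PData t h V P F) : ∀ f ∈ F, t * f * t⁻¹ ∈ F := fun f hf => D.norm t (B2Four.t_mem D) f hf

theorem t_inv (L : Loc t h V) : t⁻¹ = t := inv_eq_of_mul_eq_one_left L.t_sq

theorem CF_t (L : Loc t h V) (D : PData t h V P F) : CF F t = V := by
  ext f
  rw [mem_CF]
  constructor
  · rintro ⟨h1, h2⟩
    exact D.cF f h1 h2.symm
  · intro hf
    exact ⟨D.V_le hf, (L.tV f hf).symm⟩

theorem hinv_t (L : Loc t h V) (Y : TypeY t h y V) : t * y * h * (t * y)⁻¹ = h⁻¹ := by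
  have h1 : t * y * h * (t * y)⁻¹ = t * (y * h * y⁻¹) * t⁻¹ := by group
  have h2 : h⁻¹ * t = t * h⁻¹ := by
    calc h⁻¹ * t = h⁻¹ * (t * h) * h⁻¹ := by group
      _ = t * h⁻¹ := by rw [← L.ht]; group
  rw [h1, Y.yh, ← h2, mul_inv_cancel_right]

theorem card_CF_y (L : Loc t h V) (Y : TypeY t h y V) (D : FourData t h y V P F T₄) (hE : Elem F)
    (h16 : Nat.card F = 16) : Nat.card (CF F y) = 4 := by
  have h1 := card_le_four h16 D.fpf L.h_cube D.hF Y.yh
  have h2 := card_le_sq hE (u := y) D.yF (fun f _ => by rw [Y.y_sq, one_mul, mul_one])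
  rw [h16] at h2
  nlinarith

theorem ty_norm (D : FourData t h y V P F T₄) : ∀ f ∈ F, t * y * f * (t * y)⁻¹ ∈ F := by
  intro f hf
  have h1 : t * y * f * (t * y)⁻¹ = t * (y * f * y⁻¹) * t⁻¹ := by group
  rw [h1]
  exact t_norm D.toPData _ (D.yF f hf)

theorem ty_sq (L : Loc t h V) (Y : TypeY t h y V) : t * y * (t * y) = 1 := by
  calc t * y * (t * y) = (t * y) * (y * t) := by rw [Y.ty]
    _ = t * (y * y) * t := by group
    _ = 1 := by rw [Y.y_sq, mul_one, L.t_sq]

theorem card_CF_ty (L : Loc t h V) (Y : TypeY t h y V) (D : FourData t h y V P F T₄) (hE : Elem F)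
    (h16 : Nat.card F = 16) : Nat.card (CF F (t * y)) = 4 := by
  have h1 := card_le_four h16 D.fpf L.h_cube D.hF (hinv_t L Y)
  have h2 := card_le_sq hE (u := t * y) (ty_norm D) (fun f _ => by rw [ty_sq L Y, one_mul, mul_one])
  rw [h16] at h2
  nlinarith

/-- `V` has at most one element `≠ 1` centralised by `y`: an `h`-invariant subgroup centralised by `y` is trivial -/
theorem V_le_false (L : Loc t h V) (Y : TypeY t h y V) (hV : ∀ v ∈ V, v * y = y * v) : False := by
  obtain ⟨v, hv, hv1⟩ := B2Four.exists_ne_one L.card_V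
  exact hv1 (eq_one_of_inv L.fpfV L.h_cube Y.yh hv (hV v hv) (hV _ (L.hV v hv)))

theorem CF_t_ne_y (L : Loc t h V) (Y : TypeY t h y V) (D : FourData t h y V P F T₄) : CF F t ≠ CF F y := by
  intro h1
  apply V_le_false L Y
  intro v hv
  rw [← CF_t L D.toPData, h1, mem_CF] at hv
  exact hv.2

theorem comm_of_both {a : G} (h1 : a * t = t * a) (h2 : a * (t * y) = t * y * a) : a * y = y * a := by
  calc a * y = t⁻¹ * (t * a) * y := by group
    _ = t⁻¹ * (a * (t * y)) := by rw [← h1]; group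
    _ = y * a := by rw [h2]; group

theorem CF_t_ne_ty (L : Loc t h V) (Y : TypeY t h y V) (D : FourData t h y V P F T₄) : CF F t ≠ CF F (t * y) := by
  intro h1
  apply V_le_false L Y
  intro v hv
  have hv' := hv
  rw [← CF_t L D.toPData, h1, mem_CF] at hv'
  exact comm_of_both (L.tV v hv).symm hv'.2

theorem CF_y_ne_ty (L : Loc t h V) (Y : TypeY t h y V) (D : FourData t h y V P F T₄) (hE : Elem F)
    (h16 : Nat.card F = 16) : CF F y ≠ CF F (t * y) := by
  intro h1
  apply CF_t_ne_y L Y D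
  symm
  apply Subgroup.eq_of_le_of_card_ge
  · intro a ha
    have h2 := mem_CF.1 ha
    rw [h1, mem_CF] at ha
    rw [mem_CF]
    refine ⟨h2.1, ?_⟩
    calc a * t = (a * (t * y)) * y⁻¹ := by group
      _ = t * (y * a) * y⁻¹ := by rw [ha.2]; group
      _ = t * a := by rw [← h2.2]; group
  · rw [CF_t L D.toPData, L.card_V, card_CF_y L Y D hE h16]

theorem t_notin (D : PData t h V P F) : t ∉ F := D.t_notin

theorem y_notin (L : Loc t h V) (Y : TypeY t h y V) (D : FourData t h y V P F T₄) (hE : Elem F)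
    (h16 : Nat.card F = 16) : y ∉ F := by
  intro h1
  have h2 : CF F y = F := le_antisymm CF_le (fun f hf => mem_CF.2 ⟨hf, hE.comm hf h1⟩)
  have h3 := card_CF_y L Y D hE h16
  rw [h2, h16] at h3
  omega

theorem ty_notin (L : Loc t h V) (Y : TypeY t h y V) (D : FourData t h y V P F T₄) (hE : Elem F)
    (h16 : Nat.card F = 16) : t * y ∉ F := by
  intro h1
  have h2 : CF F (t * y) = F := le_antisymm CF_le (fun f hf => mem_CF.2 ⟨hf, hE.comm hf h1⟩)
  have h3 := card_CF_ty L Y D hE h16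
  rw [h2, h16] at h3
  omega

/-- the type of an element of `T₄` -/
theorem type_cases (L : Loc t h V) (Y : TypeY t h y V) (D : FourData t h y V P F T₄) (hE : Elem F)
    (h16 : Nat.card F = 16) {a : G} (ha : a ∈ T₄) (haF : a ∉ F) :
    (t⁻¹ * a ∈ F ∨ y⁻¹ * a ∈ F ∨ (t * y)⁻¹ * a ∈ F) ∧ Nat.card (CF F a) = 4 := by
  obtain ⟨f, hf, rfl | rfl | rfl | rfl⟩ := (D.mem₄ a).1 ha
  · exact absurd hf haF
  · refine ⟨Or.inl (by rwa [inv_mul_cancel_left]), ?_⟩
    rw [CF_mul hE hf, CF_t L D.toPData, L.card_V]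
  · refine ⟨Or.inr (Or.inl (by rwa [inv_mul_cancel_left])), ?_⟩
    rw [CF_mul hE hf, card_CF_y L Y D hE h16]
  · refine ⟨Or.inr (Or.inr (by rwa [inv_mul_cancel_left])), ?_⟩
    rw [CF_mul hE hf, card_CF_ty L Y D hE h16]

/-- `F` is the only elementary abelian subgroup of order 16 of `T₄` -/
theorem uniq_four (L : Loc t h V) (Y : TypeY t h y V) (D : FourData t h y V P F T₄) (hE : Elem F)
    (h16 : Nat.card F = 16) {A : Subgroup G} (hA : A ≤ T₄) (hAE : Elem A) (hA16 : Nat.card A = 16) : A = F := by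
  by_contra hne
  have h1 : ∃ a ∈ A, a ∉ F := by
    by_contra hcon
    push Not at hcon
    exact hne (Subgroup.eq_of_le_of_card_ge hcon (by rw [h16, hA16]))
  obtain ⟨a, ha, haF⟩ := h1
  have h4 : 4 ≤ Nat.card (A ⊓ F : Subgroup G) := by
    have h2 := card_le_cover (A := A) (F := F) ![1, t, y, t * y] (by
      intro x hx
      obtain ⟨f, hf, hx | hx | hx | hx⟩ := (D.mem₄ x).1 (hA hx)
      · exact ⟨0, by simpa [hx] using hf⟩
      · exact ⟨1, by simpa [hx] using hf⟩
      · exact ⟨2, by simpa [hx] using hf⟩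
      · refine ⟨3, ?_⟩
        show (t * y)⁻¹ * x ∈ F
        rw [hx, inv_mul_cancel_left]
        exact hf)
    rw [hA16, Nat.card_fin] at h2
    omega
  have hle : ∀ x ∈ A, A ⊓ F ≤ CF F x := fun x hx f hf => mem_CF.2 ⟨hf.2, hAE.comm hf.1 hx⟩
  have heq : ∀ x ∈ A, x ∉ F → A ⊓ F = CF F x := by
    intro x hx hxF
    refine Subgroup.eq_of_le_of_card_ge (hle x hx) ?_
    rw [(type_cases L Y D hE h16 (hA hx) hxF).2]
    exact h4
  have hcov : ∀ x ∈ A, ∃ i : Fin 2, (![1, a] i)⁻¹ * x ∈ F := by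
    intro x hx
    by_cases hxF : x ∈ F
    · exact ⟨0, by simpa using hxF⟩
    · refine ⟨1, ?_⟩
      show a⁻¹ * x ∈ F
      have h5 : CF F a = CF F x := (heq a ha haF).symm.trans (heq x hx hxF)
      have key : ∀ {b : G}, b⁻¹ * a ∈ F → b⁻¹ * x ∈ F → a⁻¹ * x ∈ F := by
        intro b hb hb'
        have := mul_mem (inv_mem hb) hb'
        have h6 : (b⁻¹ * a)⁻¹ * (b⁻¹ * x) = a⁻¹ * x := by group
        rwa [h6] at this
      rcases (type_cases L Y D hE h16 (hA ha) haF).1 with h2 | h2 | h2 <;>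
        rcases (type_cases L Y D hE h16 (hA hx) hxF).1 with h3 | h3 | h3
      · exact key h2 h3
      · exact absurd ((CF_congr hE h2).trans (h5.trans (CF_congr hE h3).symm)) (CF_t_ne_y L Y D)
      · exact absurd ((CF_congr hE h2).trans (h5.trans (CF_congr hE h3).symm)) (CF_t_ne_ty L Y D)
      · exact absurd ((CF_congr hE h2).trans (h5.trans (CF_congr hE h3).symm)).symm (CF_t_ne_y L Y D)
      · exact key h2 h3
      · exact absurd ((CF_congr hE h2).trans (h5.trans (CF_congr hE h3).symm)) (CF_y_ne_ty L Y D hE h16)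
      · exact absurd ((CF_congr hE h2).trans (h5.trans (CF_congr hE h3).symm)).symm (CF_t_ne_ty L Y D)
      · exact absurd ((CF_congr hE h2).trans (h5.trans (CF_congr hE h3).symm)).symm (CF_y_ne_ty L Y D hE h16)
      · exact key h2 h3
  have h6 := card_le_cover (A := A) (F := F) ![1, a] hcov
  rw [heq a ha haF, (type_cases L Y D hE h16 (hA ha) haF).2, hA16, Nat.card_fin] at h6
  omega

end four

end Cfsg.Agent.OddCyclic.B2Act
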