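import Mathlib
import Cfsg.Agent.OddCyclic.B2Tools

/-!
# Case B2, (1.4), (1.5): a 2-group of exponent at most 4 with a self-centralising four-group `⟨t, y⟩`, `t` not
conjugate to `y`, is dihedral of order 8
-/

set_option autoImplicit false

namespace Cfsg.Agent.OddCyclic.B2Dih

open Cfsg.Agent.LieExceptional Cfsg.Agent.LieExceptional.CITDefs Cfsg.Agent.OddCyclic.B2Defs
  Cfsg.Agent.OddCyclic.B2Tools

open DihedralGroup

section Hom

variable {Q : Type*} [Group Q]

/-- powers of an element of order dividing 4, indexed by `ZMod 4` -/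
def zp (c : Q) (i : ZMod 4) : Q := c ^ i.val

theorem zp_add {c : Q} (hc : c ^ 4 = 1) (i j : ZMod 4) : zp c (i + j) = zp c i * zp c j := by
  unfold zp
  rw [← pow_add, ZMod.val_add, ← Nat.div_add_mod (i.val + j.val) 4]
  rw [pow_add c (4 * _), pow_mul, hc, one_pow, one_mul]
  simp

theorem zp_zero (c : Q) : zp c 0 = 1 := by simp [zp]

theorem zp_one (c : Q) : zp c 1 = c := by
  unfold zp
  rw [show (1 : ZMod 4).val = 1 from rfl, pow_one]

theorem zp_two (c : Q) : zp c 2 = c ^ 2 := by
  unfold zp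
  rw [show (2 : ZMod 4).val = 2 from rfl]

theorem zp_neg {c : Q} (hc : c ^ 4 = 1) (i : ZMod 4) : zp c (-i) = (zp c i)⁻¹ := by
  apply eq_inv_of_mul_eq_one_left
  rw [← zp_add hc, neg_add_cancel, zp_zero]

theorem conj_zp {c t : Q} (hc : c ^ 4 = 1) (ht : t * t = 1) (htc : t * c * t⁻¹ = c⁻¹) (i : ZMod 4) :
    zp c i * t = t * zp c (-i) := by
  rw [zp_neg hc]
  have h1 : t * zp c i * t⁻¹ = (zp c i)⁻¹ := by
    unfold zp
    rw [← conj_pow, htc, inv_pow]
  rw [← h1]
  have h2 : t * (t * zp c i * t⁻¹) = (t * t) * zp c i * t⁻¹ := by group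
  rw [h2, ht, one_mul, inv_eq_of_mul_eq_one_left ht]

/-- the homomorphism `D₈ → Q` -/
def psi {c t : Q} (hc : c ^ 4 = 1) (ht : t * t = 1) (htc : t * c * t⁻¹ = c⁻¹) : DihedralGroup 4 →* Q where
  toFun := fun x => match x with
    | r i => zp c i
    | sr i => t * zp c i
  map_one' := by
    show zp c 0 = 1
    exact zp_zero c
  map_mul' := by
    rintro (i | i) (j | j)
    · show zp c (i + j) = _
      exact zp_add hc i j
    · show t * zp c (j - i) = zp c i * (t * zp c j)
      rw [← mul_assoc, conj_zp hc ht htc, mul_assoc, ← zp_add hc, sub_eq_neg_add]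
    · show t * zp c (i + j) = _
      rw [zp_add hc, mul_assoc]
    · show zp c (j - i) = t * zp c i * (t * zp c j)
      rw [← mul_assoc, mul_assoc t, conj_zp hc ht htc, ← mul_assoc, ht, one_mul, ← zp_add hc, sub_eq_neg_add]

theorem psi_r {c t : Q} (hc : c ^ 4 = 1) (ht : t * t = 1) (htc : t * c * t⁻¹ = c⁻¹) (i : ZMod 4) :
    psi hc ht htc (r i) = zp c i := rfl

theorem psi_sr {c t : Q} (hc : c ^ 4 = 1) (ht : t * t = 1) (htc : t * c * t⁻¹ = c⁻¹) (i : ZMod 4) :
    psi hc ht htc (sr i) = t * zp c i := rfl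

theorem psi_inj {c t : Q} (hc : c ^ 4 = 1) (ht : t * t = 1) (htc : t * c * t⁻¹ = c⁻¹) (hc2 : c ^ 2 ≠ 1)
    (ht1 : t ≠ 1) (htc2 : t ≠ c ^ 2) : Function.Injective (psi hc ht htc) := by
  rw [injective_iff_map_eq_one]
  have hc3 : c ^ 3 = 1 → False := by
    intro h
    apply hc2
    have h1 : c = 1 := by
      have : c ^ 4 = c ^ 3 * c := pow_succ c 3
      rw [hc, h, one_mul] at this
      exact this.symm
    rw [h1, one_pow]
  have hc1 : c = 1 → False := by
    intro h
    apply hc2
    rw [h, one_pow]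
  rintro (i | i) h
  · rw [psi_r] at h
    unfold zp at h
    fin_cases i
    · rfl
    · exact absurd ((pow_one c).symm.trans h) hc1
    · exact absurd h hc2
    · exact absurd h hc3
  · exfalso
    rw [psi_sr] at h
    have h1 : zp c i = t := by
      have h2 := eq_inv_of_mul_eq_one_right h
      rw [h2, inv_eq_of_mul_eq_one_left ht]
    unfold zp at h1
    fin_cases i
    · have h2 : (1 : Q) = t := (pow_zero c).symm.trans h1
      exact ht1 h2.symm
    · have h2 : c = t := (pow_one c).symm.trans h1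
      apply hc2
      rw [h2, pow_two, ht]
    · exact htc2 h1.symm
    · have h2 : c ^ 3 = t := h1
      apply hc2
      have h3 : c ^ 3 * c ^ 3 = 1 := by rw [h2, ht]
      calc c ^ 2 = c ^ 4 * c ^ 2 := by rw [hc, one_mul]
        _ = c ^ 3 * c ^ 3 := by group
        _ = 1 := h3

theorem fin_check : ∀ a b d : DihedralGroup 4, (a = sr 1 ∨ a = sr 3) → (b = r 1 ∨ b = r 3) →
    d * d = 1 → (a * d * sr 0) * (a * d * sr 0) = 1 →
    (match d with
      | r j => b ^ j.val
      | sr j => a * b ^ j.val) = d → False := by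
  rintro a b (j | j) (rfl | rfl) (rfl | rfl) <;> revert j <;> decide

end Hom

section Main

variable {Q : Type*} [Group Q] [Finite Q] {t y : Q}

/-- the element `c` -/
theorem exists_c (hQ : IsPGroup 2 Q) (ht : t * t = 1) (hy : y * y = 1) (hty : t * y = y * t) (ht1 : t ≠ 1)
    (hy1 : y ≠ 1) (hne : t ≠ y) (hC : ∀ g, g * t = t * g → g = 1 ∨ g = t ∨ g = y ∨ g = t * y)
    (hconj : ∀ g, g * t * g⁻¹ ≠ y) (hbig : ∃ g, g ≠ 1 ∧ g ≠ t ∧ g ≠ y ∧ g ≠ t * y) :
    ∃ c : Q, c * c = y ∧ c * t * c⁻¹ = t * y := by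
  have hE : ∀ g, g ∈ Subgroup.centralizer ({t} : Set Q) ↔ g = 1 ∨ g = t ∨ g = y ∨ g = t * y := by
    intro g
    rw [Subgroup.mem_centralizer_singleton_iff]
    constructor
    · exact hC g
    · rintro (rfl | rfl | rfl | rfl)
      · rw [one_mul, mul_one]
      · rfl
      · exact hty.symm
      · rw [mul_assoc, ← hty]
  obtain ⟨g, -, hgE, hg⟩ := grow (le_top : Subgroup.centralizer ({t} : Set Q) ≤ ⊤)
    (hQ.to_subgroup ⊤) (by
      obtain ⟨g, h1, h2, h3, h4⟩ := hbig
      intro h
      have h5 : g ∈ Subgroup.centralizer ({t} : Set Q) := h ▸ Subgroup.mem_top g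
      rcases (hE g).1 h5 with h | h | h | h
      · exact h1 h
      · exact h2 h
      · exact h3 h
      · exact h4 h)
  have hgt : g * t * g⁻¹ = t * y := by
    rcases (hE _).1 (hg t ((hE t).2 (Or.inr (Or.inl rfl)))) with h | h | h | h
    · exfalso
      apply ht1
      have : t = g⁻¹ * (g * t * g⁻¹) * g := by group
      rw [this, h]
      group
    · exfalso
      apply hgE
      rw [Subgroup.mem_centralizer_singleton_iff]
      exact mul_inv_eq_iff_eq_mul.1 h
    · exact absurd h (hconj g)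
    · exact h
  have hgy : g * y * g⁻¹ = y := by
    rcases (hE _).1 (hg y ((hE y).2 (Or.inr (Or.inr (Or.inl rfl))))) with h | h | h | h
    · exfalso
      apply hy1
      have : y = g⁻¹ * (g * y * g⁻¹) * g := by group
      rw [this, h]
      group
    · exfalso
      apply hconj (g * g)
      have : g * g * t * (g * g)⁻¹ = g * (g * t * g⁻¹) * g⁻¹ := by group
      rw [this, hgt]
      have : g * (t * y) * g⁻¹ = (g * t * g⁻¹) * (g * y * g⁻¹) := by group
      rw [this, hgt, h, hty, mul_assoc, ht, mul_one]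
    · exact h
    · exfalso
      apply hne
      have h1 : g * t * g⁻¹ = g * y * g⁻¹ := by rw [h, hgt]
      exact mul_left_cancel (mul_right_cancel h1)
  have hg2 : (g * g) * t = t * (g * g) := by
    rw [← mul_inv_eq_iff_eq_mul]
    have : g * g * t * (g * g)⁻¹ = g * (g * t * g⁻¹) * g⁻¹ := by group
    rw [this, hgt]
    have : g * (t * y) * g⁻¹ = (g * t * g⁻¹) * (g * y * g⁻¹) := by group
    rw [this, hgt, hgy, mul_assoc, hy, mul_one]
  have hgg : g * (g * g) * g⁻¹ = g * g := by group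
  rcases hC _ hg2 with h | h | h | h
  · refine ⟨g * t, ?_, ?_⟩
    · have h1 : g * t * (g * t) = (g * t * g⁻¹) * (g * g) * t := by group
      rw [h1, hgt, h, mul_one, hty, mul_assoc, ht, mul_one]
    · have h1 : g * t * t * (g * t)⁻¹ = g * t * g⁻¹ := by group
      rw [h1, hgt]
  · exfalso
    rw [h, hgt] at hgg
    exact hy1 (mul_left_cancel (a := t) (by rw [hgg, mul_one]))
  · exact ⟨g, h, hgt⟩
  · exfalso
    have : g * (t * y) * g⁻¹ = (g * t * g⁻¹) * (g * y * g⁻¹) := by group
    rw [h, this, hgt, hgy, mul_assoc, hy, mul_one] at hgg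
    exact hy1 (mul_left_cancel (a := t) (by rw [← hgg, mul_one]))

/-- **the dihedral group of order 8** -/
theorem exists_dihedral (hQ : IsPGroup 2 Q) (h4 : ∀ e : Q, e ^ 4 = 1) (ht : t * t = 1) (hy : y * y = 1)
    (hty : t * y = y * t) (ht1 : t ≠ 1)
    (hy1 : y ≠ 1) (hne : t ≠ y) (hC : ∀ g, g * t = t * g → g = 1 ∨ g = t ∨ g = y ∨ g = t * y)
    (hconj : ∀ g, g * t * g⁻¹ ≠ y) (hbig : ∃ g, g ≠ 1 ∧ g ≠ t ∧ g ≠ y ∧ g ≠ t * y) :
    ∃ φ : DihedralGroup 4 ≃* Q, φ (sr 0) = t ∧ φ (r 2) = y := by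
  obtain ⟨c, hc2, hct⟩ := exists_c hQ ht hy hty ht1 hy1 hne hC hconj hbig
  have hc4 : c ^ 4 = 1 := h4 c
  have htinv : t⁻¹ = t := inv_eq_of_mul_eq_one_left ht
  have hyinv : y⁻¹ = y := inv_eq_of_mul_eq_one_left hy
  have hcy : c * y = y * c := by
    rw [← hc2]
    group
  have htc : t * c * t⁻¹ = c⁻¹ := by
    have h1 : t * c * t⁻¹ = t * (c * t * c⁻¹) * c := by
      rw [htinv]
      group
    rw [h1, hct, ← mul_assoc, ht, one_mul]
    apply eq_inv_of_mul_eq_one_left
    rw [mul_assoc, hc2, hy]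
  set ψ := psi hc4 ht htc with hψ
  have h0 : ψ (sr 0) = t := by
    rw [hψ, psi_sr, zp_zero, mul_one]
  have h1 : ψ (r 1) = c := by
    rw [hψ, psi_r, zp_one]
  have h2 : ψ (r 2) = y := by
    rw [hψ, psi_r, zp_two, pow_two, hc2]
  have hinj : Function.Injective ψ :=
    psi_inj hc4 ht htc (by rw [pow_two, hc2]; exact hy1) ht1 (by rw [pow_two, hc2]; exact hne)
  -- a conjugate of `t` in `{t, ty}`
  have hoft : ∀ g, (g * t * g⁻¹ = ψ (sr 0) ∨ g * t * g⁻¹ = ψ (sr 2)) → g ∈ ψ.range := by
    have hE : ∀ g, g * t = t * g → g ∈ ψ.range := by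
      intro g hg
      rcases hC g hg with rfl | rfl | rfl | rfl
      · exact one_mem _
      · exact ⟨_, h0⟩
      · exact ⟨_, h2⟩
      · exact ⟨sr 0 * r 2, by rw [map_mul, h0, h2]⟩
    rintro g (hg | hg)
    · rw [h0] at hg
      exact hE g (mul_inv_eq_iff_eq_mul.1 hg)
    · have h3 : c⁻¹ * g ∈ ψ.range := by
        apply hE
        rw [← mul_inv_eq_iff_eq_mul]
        have h4 : c⁻¹ * g * t * (c⁻¹ * g)⁻¹ = c⁻¹ * (g * t * g⁻¹) * c := by group
        have h5 : (sr 2 : DihedralGroup 4) = sr 0 * r 2 := by decide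
        rw [h4, hg, h5, map_mul, h0, h2, ← hct]
        group
      have h6 := mul_mem (⟨_, h1⟩ : c ∈ ψ.range) h3
      rwa [mul_inv_cancel_left] at h6
  have hsurj : ψ.range = ⊤ := by
    by_contra hcon
    obtain ⟨k, -, hk, hkN⟩ := grow (le_top : ψ.range ≤ ⊤) (hQ.to_subgroup ⊤) hcon
    obtain ⟨a, ha⟩ := hkN t ⟨_, h0⟩
    obtain ⟨b, hb⟩ := hkN c ⟨_, h1⟩
    have ha2 : a * a = 1 := by
      apply hinj
      rw [map_mul, ha, map_one]
      have : k * t * k⁻¹ * (k * t * k⁻¹) = k * (t * t) * k⁻¹ := by group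
      rw [this, ht]
      group
    have ha' : a = sr 1 ∨ a = sr 3 := by
      have n1 : a ≠ sr 0 := by
        rintro rfl
        exact hk (hoft k (Or.inl ha.symm))
      have n2 : a ≠ sr 2 := by
        rintro rfl
        exact hk (hoft k (Or.inr ha.symm))
      have n3 : a ≠ r 2 := by
        rintro rfl
        exact hconj k (by rw [← ha, h2])
      have n4 : a ≠ 1 := by
        rintro rfl
        rw [map_one] at ha
        apply ht1
        have : t = k⁻¹ * (k * t * k⁻¹) * k := by group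
        rw [this, ← ha]
        group
      clear_value ψ
      clear ha hb
      revert a
      decide
    have hb' : b = r 1 ∨ b = r 3 := by
      have n1 : b * b ≠ 1 := by
        intro h
        apply hy1
        have h3 : ψ (b * b) = k * y * k⁻¹ := by
          rw [map_mul, hb, ← hc2]
          group
        rw [h, map_one] at h3
        have : y = k⁻¹ * (k * y * k⁻¹) * k := by group
        rw [this, ← h3]
        group
      clear_value ψ
      clear ha hb
      revert b
      decide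
    have hr : ∀ j : ZMod 4, k * ψ (r j) * k⁻¹ = ψ (b ^ j.val) := by
      intro j
      rw [map_pow, hb, conj_pow]
      rfl
    have hsr : ∀ j : ZMod 4, k * ψ (sr j) * k⁻¹ = ψ (a * b ^ j.val) := by
      intro j
      have h3 : (sr j : DihedralGroup 4) = sr 0 * r j := by
        rw [sr_mul_r, zero_add]
      rw [map_mul, ha, ← hr, h3, map_mul, h0]
      group
    have hk2 : k * k ∈ ψ.range := by
      apply hoft
      have h3 : k * k * t * (k * k)⁻¹ = k * (k * t * k⁻¹) * k⁻¹ := by group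
      rw [h3, ← ha]
      rcases ha' with rfl | rfl <;> rcases hb' with rfl | rfl <;> rw [hsr]
      · right; congr 1
      · left; congr 1
      · right; congr 1
      · left; congr 1
    obtain ⟨d, hd⟩ := hk2
    refine fin_check a b d ha' hb' ?_ ?_ ?_
    · apply hinj
      rw [map_mul, hd, map_one, ← h4 k]
      simp only [pow_succ, pow_zero, one_mul, mul_assoc]
    · apply hinj
      rw [map_mul, map_mul, map_mul, hd, ha, h0, map_one, ← h4 (k * t)]
      have h3 : k * t * k⁻¹ * (k * k) * t = (k * t) * (k * t) := by group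
      rw [h3]
      simp only [pow_succ, pow_zero, one_mul, mul_assoc]
    · apply hinj
      have h3 : k * ψ d * k⁻¹ = ψ d := by
        rw [hd]
        group
      rcases d with j | j
      · show ψ (b ^ j.val) = _
        rw [← hr, h3]
      · show ψ (a * b ^ j.val) = _
        rw [← hsr, h3]
  refine ⟨MulEquiv.ofBijective ψ ⟨hinj, MonoidHom.range_eq_top.1 hsurj⟩, h0, h2⟩

end Main

end Cfsg.Agent.OddCyclic.B2Dih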