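import Mathlib
import Cfsg.Agent.OddCyclic.B2Tools

/-!
# Case B2: a 2-element normalising an elementary abelian group of order 16 acts on it with order dividing 4
-/

set_option autoImplicit false

namespace Cfsg.Agent.OddCyclic.B2Exp

open Cfsg.Agent.LieExceptional Cfsg.Agent.LieExceptional.CITDefs Cfsg.Agent.OddCyclic.B2Defs
  Cfsg.Agent.OddCyclic.B2Tools

/-- linear algebra: a 2-power order automorphism of `F₂⁴` has order dividing 4 -/
theorem linear_four {A : Type*} [AddCommGroup A] [Module (ZMod 2) A] (h16 : Nat.card A = 16)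
    (E : Module.End (ZMod 2) A) {n : ℕ} (hE : E ^ 2 ^ n = 1) : E ^ 4 = 1 := by
  have hfin : Finite A := Nat.finite_of_card_ne_zero (by rw [h16]; norm_num)
  have hrank : Module.finrank (ZMod 2) A = 4 := by
    have h1 := Module.natCard_eq_pow_finrank (K := ZMod 2) (V := A)
    rw [h16, Nat.card_zmod] at h1
    exact (Nat.pow_right_injective (le_refl 2) (by simpa using h1)).symm
  have : Nontrivial A := by
    rw [← Finite.one_lt_card_iff_nontrivial, h16]
    norm_num
  have hchar : CharP (Module.End (ZMod 2) A) 2 := by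
    have := charP_of_injective_algebraMap (R := ZMod 2) (A := Module.End (ZMod 2) A)
      (FaithfulSMul.algebraMap_injective (ZMod 2) (Module.End (ZMod 2) A)) 2
    exact this
  have hD : (E - 1) ^ 2 ^ n = 0 := by
    rw [sub_pow_char_pow_of_commute 2 n (Commute.one_right E), hE, one_pow, sub_self]
  have hD4 : (E - 1) ^ 4 = 0 := by
    rw [← LinearMap.ker_eq_top]
    have h1 := Module.End.ker_pow_eq_ker_pow_finrank_of_le (f := E - 1) (m := max 4 (2 ^ n))
      (by rw [hrank]; exact le_max_left _ _)
    rw [hrank] at h1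
    rw [← h1, LinearMap.ker_eq_top]
    exact pow_eq_zero_of_le (le_max_right _ _) hD
  have h2 := sub_pow_char_pow_of_commute 2 2 (Commute.one_right E)
  norm_num at h2
  rw [hD4] at h2
  exact (sub_eq_zero.1 h2.symm)

/-- the conjugation action of an element normalising `F` -/
def conjHom {G : Type*} [Group G] {F : Subgroup G} {e : G} (he : ∀ f ∈ F, e * f * e⁻¹ ∈ F) : F →* F where
  toFun := fun f => ⟨e * f * e⁻¹, he f f.2⟩
  map_one' := by
    apply Subtype.ext
    show e * 1 * e⁻¹ = 1
    group
  map_mul' := by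
    intro a b
    apply Subtype.ext
    show e * (a * b) * e⁻¹ = (e * a * e⁻¹) * (e * b * e⁻¹)
    group

theorem pow_four {G : Type*} [Group G] {F : Subgroup G} (hE : Elem F) (h16 : Nat.card F = 16) {e : G}
    (he : ∀ f ∈ F, e * f * e⁻¹ ∈ F) {n : ℕ} (hn : e ^ 2 ^ n = 1) : ∀ f ∈ F, e ^ 4 * f * (e ^ 4)⁻¹ = f := by
  letI : CommGroup F := { (inferInstance : Group F) with mul_comm := fun a b => Subtype.ext (hE.comm a.2 b.2) }
  letI : Module (ZMod 2) (Additive F) := AddCommGroup.zmodModule (n := 2) (by
    intro x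
    rw [two_nsmul]
    exact congrArg Additive.ofMul (Subtype.ext (hE _ x.toMul.2)))
  let E : Module.End (ZMod 2) (Additive F) := AddMonoidHom.toZModLinearMap 2 (conjHom he).toAdditive
  have hEpow : ∀ m : ℕ, ∀ f : F, (((E ^ m) (Additive.ofMul f)).toMul : G) = e ^ m * f * (e ^ m)⁻¹ := by
    intro m
    induction m with
    | zero =>
      intro f
      simp
    | succ m ih =>
      intro f
      rw [pow_succ', Module.End.mul_apply]
      show e * (((E ^ m) (Additive.ofMul f)).toMul : G) * e⁻¹ = _
      rw [ih, pow_succ']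
      group
  have h1 : E ^ 2 ^ n = 1 := by
    apply LinearMap.ext
    intro f
    apply Additive.toMul.injective
    apply Subtype.ext
    have := hEpow (2 ^ n) f.toMul
    rw [hn] at this
    simpa using this
  have h2 := linear_four (A := Additive F) h16 E h1
  intro f hf
  rw [← hEpow 4 ⟨f, hf⟩, h2]
  rfl

end Cfsg.Agent.OddCyclic.B2Exp
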