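import Mathlib
import Cfsg.Agent.OddCyclic.B2Tools

/-!
# Case B2: an element acting with order 1 or 3 on `F` and fixing a nontrivial element of `F` centralises `F`
-/

set_option autoImplicit false

namespace Cfsg.Agent.OddCyclic.B2Three

open Cfsg.Agent.LieExceptional Cfsg.Agent.LieExceptional.CITDefs Cfsg.Agent.OddCyclic.B2Defs
  Cfsg.Agent.OddCyclic.B2Tools

/-- in a cyclic group, elements of order dividing 3 -/
theorem cyclic_three {P : Type*} [Group P] [Finite P] (hP : IsCyclic P) {a b : P} (ha : a ^ 3 = 1) (ha1 : a ≠ 1)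
    (hb : b ^ 3 = 1) : b = 1 ∨ b = a ∨ b = a⁻¹ := by
  classical
  have : Fintype P := Fintype.ofFinite P
  by_contra hcon
  push Not at hcon
  obtain ⟨h0, h1, h2⟩ := hcon
  have hcard := IsCyclic.card_pow_eq_one_le (α := P) (n := 3) (by norm_num)
  have hsub : ({1, a, a⁻¹, b} : Finset P) ⊆ Finset.univ.filter fun g : P => g ^ 3 = 1 := by
    intro g hg
    simp only [Finset.mem_insert, Finset.mem_singleton] at hg
    rw [Finset.mem_filter]
    refine ⟨Finset.mem_univ _, ?_⟩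
    rcases hg with rfl | rfl | rfl | rfl
    · exact one_pow _
    · exact ha
    · rw [inv_pow, ha, inv_one]
    · exact hb
  have haa : a ≠ a⁻¹ := by
    intro h
    apply ha1
    have h3 : a * a = 1 := by
      nth_rw 1 [h]
      exact inv_mul_cancel a
    calc a = a * a * a := by rw [h3, one_mul]
      _ = a ^ 3 := by rw [pow_succ, pow_two]
      _ = 1 := ha
  have h4 : ({1, a, a⁻¹, b} : Finset P).card = 4 := by
    have e5 : (1 : P) ≠ a⁻¹ := fun h => ha1 (inv_eq_one.mp h.symm)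
    rw [Finset.card_insert_of_notMem (by simp [ha1.symm, e5, h0.symm]),
      Finset.card_insert_of_notMem (by simp [haa, h1.symm]),
      Finset.card_insert_of_notMem (by simpa using h2.symm), Finset.card_singleton]
  have := (Finset.card_le_card hsub).trans hcard
  omega

theorem isCyclic_of_sylow {G : Type*} [Group G] [Finite G] (cyc : ∀ P : Sylow 3 G, IsCyclic P) (D : Subgroup G)
    (P : Sylow 3 D) : IsCyclic P := by
  have h1 : IsPGroup 3 ((P : Subgroup D).map D.subtype) := P.isPGroup'.map _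
  obtain ⟨Q, hQ⟩ := h1.exists_le_sylow
  have := cyc Q
  have h2 : IsCyclic ((P : Subgroup D).map D.subtype) :=
    isCyclic_of_injective (Subgroup.inclusion hQ) (Subgroup.inclusion_injective hQ)
  exact (MulEquiv.isCyclic (Subgroup.equivMapOfInjective (P : Subgroup D) D.subtype D.subtype_injective)).mpr h2

/-- elements of order 3 of a group with cyclic Sylow 3-subgroups: conjugate up to inversion -/
theorem conj_three {G : Type*} [Group G] [Finite G] (cyc : ∀ P : Sylow 3 G, IsCyclic P) {h r : G} (hh : h ^ 3 = 1)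
    (hh1 : h ≠ 1) (hr : r ^ 3 = 1) (hr1 : r ≠ 1) : ∃ n : G, r = n * h * n⁻¹ ∨ r = (n * h * n⁻¹)⁻¹ := by
  have : Fact (Nat.Prime 3) := ⟨Nat.prime_three⟩
  have hz : ∀ x : G, x ^ 3 = 1 → IsPGroup 3 (Subgroup.zpowers x) := by
    intro x hx
    rintro ⟨y, m, rfl⟩
    refine ⟨1, ?_⟩
    apply Subtype.ext
    show (x ^ m) ^ 3 ^ 1 = 1
    rw [pow_one, ← zpow_natCast, zpow_comm, zpow_natCast, hx, one_zpow]
  obtain ⟨Q1, hQ1⟩ := (hz h hh).exists_le_sylow
  obtain ⟨Q2, hQ2⟩ := (hz r hr).exists_le_sylow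
  obtain ⟨n, hn⟩ := MulAction.exists_smul_eq G Q1 Q2
  have h1 : h ∈ Q1 := hQ1 (Subgroup.mem_zpowers h)
  have h2 : r ∈ Q2 := hQ2 (Subgroup.mem_zpowers r)
  have h3 : n * h * n⁻¹ ∈ Q2 := by
    rw [← hn]
    have := Subgroup.smul_mem_pointwise_smul h (MulAut.conj n) (Q1 : Subgroup G) h1
    exact this
  have h4 := cyclic_three (cyc Q2) (a := ⟨n * h * n⁻¹, h3⟩) (b := ⟨r, h2⟩) (by
      apply Subtype.ext
      show (n * h * n⁻¹) ^ 3 = 1
      rw [conj_pow, hh]
      group) (by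
      intro h5
      apply hh1
      have h6 : n * h * n⁻¹ = 1 := congrArg Subtype.val h5
      have h7 : h = n⁻¹ * (n * h * n⁻¹) * n := by group
      rw [h7, h6]
      group) (Subtype.ext hr)
  refine ⟨n, ?_⟩
  rcases h4 with h5 | h5 | h5
  · exact absurd (congrArg Subtype.val h5) hr1
  · exact Or.inl (congrArg Subtype.val h5)
  · exact Or.inr (congrArg Subtype.val h5)

theorem order_three {G : Type*} [Group G] [Finite G] (cyc : ∀ P : Sylow 3 G, IsCyclic P) {F : Subgroup G} {h ρ : G}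
    (hh : h * h * h = 1) (hh1 : h ≠ 1) (hF : ∀ f ∈ F, h * f * h⁻¹ ∈ F) (fpf : ∀ f ∈ F, h * f = f * h → f = 1)
    (h3 : ¬ 3 ∣ Nat.card (Subgroup.centralizer (F : Set G))) (hρF : ∀ f ∈ F, ρ * f * ρ⁻¹ ∈ F)
    (hρ3 : ∀ f ∈ F, (ρ * ρ * ρ) * f = f * (ρ * ρ * ρ)) {f₀ : G} (hf₀ : f₀ ∈ F) (hf1 : f₀ ≠ 1)
    (hfix : ρ * f₀ = f₀ * ρ) : ∀ f ∈ F, ρ * f = f * ρ := by
  have hρc : ρ ^ 3 ∈ Subgroup.centralizer (F : Set G) := by
    rw [Subgroup.mem_centralizer_iff]
    intro f hf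
    rw [pow_succ, pow_two]
    exact (hρ3 f hf).symm
  set m := orderOf (ρ ^ 3) with hm
  have hm3 : ¬ 3 ∣ m := by
    intro h
    apply h3
    have h1 : m = orderOf (⟨ρ ^ 3, hρc⟩ : Subgroup.centralizer (F : Set G)) :=
      (Subgroup.orderOf_mk _ _).symm
    rw [h1] at h
    exact h.trans (orderOf_dvd_natCard _)
  have hr3 : (ρ ^ m) ^ 3 = 1 := by
    rw [← pow_mul, mul_comm, pow_mul, hm, pow_orderOf_eq_one]
  have hrm : ρ ^ m = 1 := by
    by_contra hr1
    set N := Subgroup.normalizer (F : Set G) with hN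
    have hhN : h ∈ N := mem_norm hF
    have hρN : ρ ∈ N := mem_norm hρF
    obtain ⟨n, hn⟩ := conj_three (isCyclic_of_sylow cyc N) (h := (⟨h, hhN⟩ : N)) (r := (⟨ρ ^ m, pow_mem hρN m⟩ : N))
      (Subtype.ext (by
        show h ^ 3 = 1
        rw [pow_succ, pow_two]
        exact hh)) (fun h5 => hh1 (congrArg Subtype.val h5)) (Subtype.ext hr3)
      (fun h5 => hr1 (congrArg Subtype.val h5))
    have hfixm : ρ ^ m * f₀ = f₀ * ρ ^ m := (show Commute ρ f₀ from hfix).pow_left m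
    have h5 : n.1 * h * n.1⁻¹ * f₀ = f₀ * (n.1 * h * n.1⁻¹) := by
      rcases hn with hn | hn
      · have h6 : ρ ^ m = n.1 * h * n.1⁻¹ := congrArg Subtype.val hn
        rw [← h6]
        exact hfixm
      · have h6 : ρ ^ m = (n.1 * h * n.1⁻¹)⁻¹ := congrArg Subtype.val hn
        have h7 : n.1 * h * n.1⁻¹ = (ρ ^ m)⁻¹ := by rw [h6, inv_inv]
        rw [h7]
        exact (show Commute (ρ ^ m) f₀ from hfixm).inv_left
    have hn0 : n.1⁻¹ * f₀ * n.1 ∈ F := by
      have := (Subgroup.mem_normalizer_iff.1 (inv_mem n.2) f₀).1 hf₀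
      rwa [inv_inv] at this
    have h6 := fpf _ hn0 (by
      calc h * (n.1⁻¹ * f₀ * n.1) = n.1⁻¹ * (n.1 * h * n.1⁻¹ * f₀) * n.1 := by group
        _ = n.1⁻¹ * f₀ * n.1 * h := by rw [h5]; group)
    apply hf1
    have h7 : f₀ = n.1 * (n.1⁻¹ * f₀ * n.1) * n.1⁻¹ := by group
    rw [h7, h6]
    group
  -- `ρ` is a power of `ρ³`
  have hcop : IsCoprime (m : ℤ) 3 := by
    have h1 : Nat.Coprime m 3 := (Nat.Coprime.symm ((Nat.Prime.coprime_iff_not_dvd Nat.prime_three).2 hm3))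
    exact_mod_cast (Nat.isCoprime_iff_coprime.2 h1)
  obtain ⟨a, b, hab⟩ := hcop
  have hρ : ρ = (ρ ^ 3) ^ b := by
    have h1 : ρ ^ (a * m + b * 3) = ρ := by rw [hab, zpow_one]
    rw [zpow_add, mul_comm a, zpow_mul, zpow_natCast, hrm, one_zpow, one_mul, mul_comm, zpow_mul] at h1
    exact_mod_cast h1.symm
  intro f hf
  have h1 := Subgroup.zpow_mem _ hρc b
  rw [← hρ, Subgroup.mem_centralizer_iff] at h1
  exact (h1 f hf).symm

end Cfsg.Agent.OddCyclic.B2Three
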