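import Mathlib
import Cfsg.Agent.OddCyclic.B2Act
import Cfsg.Agent.OddCyclic.B2Dih
import Cfsg.Agent.OddCyclic.B2Exp
import Cfsg.Agent.OddCyclic.B2Three

/-!
# Case B2, (1.4), (1.5): `N_T(F)/F` is dihedral of order 8
-/

set_option autoImplicit false

namespace Cfsg.Agent.OddCyclic.B2Conf

open Cfsg.Agent.LieExceptional Cfsg.Agent.LieExceptional.CITDefs Cfsg.Agent.OddCyclic.B2Defs
  Cfsg.Agent.OddCyclic.B2Tools Cfsg.Agent.OddCyclic.B2Act

open DihedralGroup

variable {G : Type*} [Group G] [Finite G] {t h y : G} {V P F T₄ T : Subgroup G}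

theorem of_norm {A : Subgroup G} {g : G} (hg : g ∈ Subgroup.normalizer (A : Set G)) {a : G} (ha : a ∈ A) :
    g * a * g⁻¹ ∈ A := (Subgroup.mem_normalizer_iff.1 hg a).1 ha

theorem F_le_T₄ (D : FourData t h y V P F T₄) : F ≤ T₄ := fun f hf => (D.mem₄ f).2 ⟨f, hf, Or.inl rfl⟩

theorem t_mem_T₄ (D : FourData t h y V P F T₄) : t ∈ T₄ :=
  (D.mem₄ t).2 ⟨1, one_mem _, Or.inr (Or.inl (mul_one t).symm)⟩

theorem y_mem_T₄ (D : FourData t h y V P F T₄) : y ∈ T₄ :=
  (D.mem₄ y).2 ⟨1, one_mem _, Or.inr (Or.inr (Or.inl (mul_one y).symm))⟩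

/-- `T₄` normalises `F` -/
theorem T₄_norm (D : FourData t h y V P F T₄) {a : G} (ha : a ∈ T₄) : a ∈ Subgroup.normalizer (F : Set G) := by
  have hF : ∀ f ∈ F, f ∈ Subgroup.normalizer (F : Set G) := fun f hf => Subgroup.le_normalizer hf
  have ht : t ∈ Subgroup.normalizer (F : Set G) := mem_norm (t_norm D.toPData)
  have hy : y ∈ Subgroup.normalizer (F : Set G) := mem_norm D.yF
  obtain ⟨f, hf, rfl | rfl | rfl | rfl⟩ := (D.mem₄ a).1 ha
  · exact hF _ hf
  · exact mul_mem ht (hF f hf)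
  · exact mul_mem hy (hF f hf)
  · exact mul_mem (mul_mem ht hy) (hF f hf)

theorem mem_T₄_of_norm (D : FourData t h y V P F T₄) (hT : IsPGroup 2 T) (hle : T₄ ≤ T) {g : G} (hg : g ∈ T)
    (hgV : ∀ v ∈ V, g * v * g⁻¹ ∈ V) : g ∈ T₄ := by
  have h1 := D.syl₄.max (T ⊓ Subgroup.normalizer (V : Set G)) inf_le_right (hT.to_le inf_le_left)
    (le_inf hle D.syl₄.le)
  rw [← h1]
  exact ⟨hg, mem_norm hgV⟩

/-- L1 -/
theorem mem_T₄_of_t (L : Loc t h V) (D : FourData t h y V P F T₄) (hE : Elem F) (hT : IsPGroup 2 T) (hle : T₄ ≤ T)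
    {g : G} (hg : g ∈ T) (hgF : ∀ f ∈ F, g * f * g⁻¹ ∈ F) (h1 : t⁻¹ * (g * t * g⁻¹) ∈ F) : g ∈ T₄ := by
  refine mem_T₄_of_norm D hT hle hg ?_
  intro v hv
  rw [← CF_t L D.toPData] at hv ⊢
  rw [CF_congr hE h1]
  exact mem_CF_conj hgF hv

/-- `C_T(F) = F` -/
theorem mem_F_of_cent (L : Loc t h V) (Y : TypeY t h y V) (D : FourData t h y V P F T₄) (hE : Elem F)
    (h16 : Nat.card F = 16) (hT : IsPGroup 2 T) (hle : T₄ ≤ T) {g : G} (hg : g ∈ T)
    (h1 : ∀ f ∈ F, g * f = f * g) : g ∈ F := by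
  have h2 : g ∈ T₄ := mem_T₄_of_norm D hT hle hg (fun v hv => by
    rw [h1 v (D.V_le hv), mul_inv_cancel_right]
    exact hv)
  by_contra h3
  have h4 := (type_cases L Y D hE h16 h2 h3).2
  have h5 : CF F g = F := le_antisymm CF_le (fun f hf => mem_CF.2 ⟨hf, (h1 f hf).symm⟩)
  rw [h5, h16] at h4
  omega

/-- a 2-element has 2-power order -/
theorem pow_of_mem {T : Subgroup G} (hT : IsPGroup 2 T) {g : G} (hg : g ∈ T) : ∃ n : ℕ, g ^ 2 ^ n = 1 := by
  obtain ⟨n, hn⟩ := hT ⟨g, hg⟩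
  exact ⟨n, congrArg Subtype.val hn⟩

/-- **(1.4), (1.5)** -/
theorem exists_p (L : Loc t h V) (Y : TypeY t h y V) (D : FourData t h y V P F T₄) (hT : IsPGroup 2 T)
    (hle : T₄ ≤ T) (hne : T₄ ≠ T) (hE : Elem F) (h16 : Nat.card F = 16)
    (hyF : ∀ f ∈ F, ∀ g : G, g * t * g⁻¹ ≠ y * f) :
    ∃ p : G → DihedralGroup 4,
      (∀ a ∈ T ⊓ Subgroup.normalizer (F : Set G), ∀ b ∈ T ⊓ Subgroup.normalizer (F : Set G), p (a * b) = p a * p b) ∧
      (∀ a ∈ T ⊓ Subgroup.normalizer (F : Set G), p a = 1 ↔ a ∈ F) ∧ p t = sr 0 ∧ p y = r 2 ∧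
      ∀ x, ∃ c ∈ T ⊓ Subgroup.normalizer (F : Set G), p c = x := by
  classical
  set M := T ⊓ Subgroup.normalizer (F : Set G) with hM
  have hFM : F ≤ M := le_inf ((F_le_T₄ D).trans hle) Subgroup.le_normalizer
  have hT4M : T₄ ≤ M := le_inf hle (fun a ha => T₄_norm D ha)
  have htM : t ∈ M := hT4M (t_mem_T₄ D)
  have hyM : y ∈ M := hT4M (y_mem_T₄ D)
  have hn : (F.subgroupOf M).Normal := by
    refine ⟨fun f hf m => ?_⟩
    rw [Subgroup.mem_subgroupOf] at hf ⊢
    exact of_norm m.2.2 hf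
  have hM2 : IsPGroup 2 M := hT.to_le inf_le_left
  have hQ2 : IsPGroup 2 (M ⧸ F.subgroupOf M) := hM2.to_quotient _
  have heq : ∀ a b : M, ((a : M ⧸ F.subgroupOf M) = b ↔ (a : G)⁻¹ * b ∈ F) := by
    intro a b
    rw [QuotientGroup.eq, Subgroup.mem_subgroupOf]
    rfl
  have hex : ∃ φ : DihedralGroup 4 ≃* M ⧸ F.subgroupOf M, φ (sr 0) = ((⟨t, htM⟩ : M) : M ⧸ F.subgroupOf M) ∧
      φ (r 2) = ((⟨y, hyM⟩ : M) : M ⧸ F.subgroupOf M) := by
    refine B2Dih.exists_dihedral hQ2 ?_ ?_ ?_ ?_ ?_ ?_ ?_ ?_ ?_ ?_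
    · -- exponent 4
      intro e
      obtain ⟨m, rfl⟩ := QuotientGroup.mk_surjective e
      have h1 : (m : G) ^ 4 ∈ F := by
        apply mem_F_of_cent L Y D hE h16 hT hle (pow_mem m.2.1 4)
        obtain ⟨n, hn⟩ := pow_of_mem hT m.2.1
        intro f hf
        have := B2Exp.pow_four hE h16 (fun f hf => of_norm m.2.2 hf) hn f hf
        rwa [mul_inv_eq_iff_eq_mul] at this
      have h2 : ((m ^ 4 : M) : M ⧸ F.subgroupOf M) = 1 := by
        rw [QuotientGroup.eq_one_iff, Subgroup.mem_subgroupOf]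
        exact h1
      exact h2
    · -- `t² = 1`
      have : (⟨t, htM⟩ : M) * ⟨t, htM⟩ = 1 := Subtype.ext L.t_sq
      exact congrArg (QuotientGroup.mk' (F.subgroupOf M)) this
    · have : (⟨y, hyM⟩ : M) * ⟨y, hyM⟩ = 1 := Subtype.ext Y.y_sq
      exact congrArg (QuotientGroup.mk' (F.subgroupOf M)) this
    · have : (⟨t, htM⟩ : M) * ⟨y, hyM⟩ = ⟨y, hyM⟩ * ⟨t, htM⟩ := Subtype.ext Y.ty
      exact congrArg (QuotientGroup.mk' (F.subgroupOf M)) this
    · intro h1
      rw [QuotientGroup.eq_one_iff, Subgroup.mem_subgroupOf] at h1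
      exact D.t_notin h1
    · intro h1
      rw [QuotientGroup.eq_one_iff, Subgroup.mem_subgroupOf] at h1
      exact y_notin L Y D hE h16 h1
    · intro h1
      rw [heq] at h1
      apply ty_notin L Y D hE h16
      rw [t_inv L] at h1
      exact h1
    · -- centraliser of `t`
      intro g
      obtain ⟨m, rfl⟩ := QuotientGroup.mk_surjective g
      intro hg
      have h1 : t⁻¹ * ((m : G) * t * (m : G)⁻¹) ∈ F := by
        have h2 : ((⟨t, htM⟩ * m : M) : M ⧸ F.subgroupOf M) = ((m * ⟨t, htM⟩ : M) : M ⧸ F.subgroupOf M) := hg.symm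
        rw [heq] at h2
        have h3 := of_norm m.2.2 h2
        have h4 : (m : G) * ((((⟨t, htM⟩ * m : M) : G))⁻¹ * ((m * ⟨t, htM⟩ : M) : G)) * (m : G)⁻¹ =
            t⁻¹ * ((m : G) * t * (m : G)⁻¹) := by
          show (m : G) * ((t * m)⁻¹ * (m * t)) * (m : G)⁻¹ = _
          group
        rwa [h4] at h3
      have hm4 := mem_T₄_of_t L D hE hT hle m.2.1 (fun f hf => of_norm m.2.2 hf) h1
      obtain ⟨f, hf, hm | hm | hm | hm⟩ := (D.mem₄ m).1 hm4
      · left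
        rw [QuotientGroup.eq_one_iff, Subgroup.mem_subgroupOf, hm]
        exact hf
      · right; left
        symm
        rw [heq, hm]
        show t⁻¹ * (t * f) ∈ F
        rwa [inv_mul_cancel_left]
      · right; right; left
        symm
        rw [heq, hm]
        show y⁻¹ * (y * f) ∈ F
        rwa [inv_mul_cancel_left]
      · right; right; right
        symm
        have h5 : ((⟨t, htM⟩ * ⟨y, hyM⟩ : M) : M ⧸ F.subgroupOf M) = (m : M ⧸ F.subgroupOf M) := by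
          rw [heq, hm]
          show (t * y)⁻¹ * (t * y * f) ∈ F
          rwa [inv_mul_cancel_left]
        exact h5
    · intro g
      obtain ⟨m, rfl⟩ := QuotientGroup.mk_surjective g
      intro hg
      have h2 : ((m * ⟨t, htM⟩ * m⁻¹ : M) : M ⧸ F.subgroupOf M) = ((⟨y, hyM⟩ : M) : M ⧸ F.subgroupOf M) := hg
      have h3 := h2.symm
      rw [heq] at h3
      refine hyF _ h3 (m : G) ?_
      rw [mul_inv_cancel_left]
      rfl
    · -- bigger than `T₄`
      obtain ⟨g, hgT, hg4, hgN⟩ := grow hle hT hne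
      have hgF : ∀ f ∈ F, g * f * g⁻¹ ∈ F := by
        have h1 : F.map (MulAut.conj g).toMonoidHom = F := by
          apply uniq_four L Y D hE h16
          · rintro _ ⟨f, hf, rfl⟩
            exact hgN f (F_le_T₄ D hf)
          · rintro _ ⟨f, hf, rfl⟩
            rw [← map_mul, hE f hf, map_one]
          · rw [← h16]
            exact Nat.card_congr (Subgroup.equivMapOfInjective F _ (MulAut.conj g).injective).symm.toEquiv
        intro f hf
        rw [← h1]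
        exact ⟨f, hf, rfl⟩
      have hgM : g ∈ M := ⟨hgT, mem_norm hgF⟩
      refine ⟨((⟨g, hgM⟩ : M) : M ⧸ F.subgroupOf M), ?_, ?_, ?_, ?_⟩
      · intro h1
        rw [QuotientGroup.eq_one_iff, Subgroup.mem_subgroupOf] at h1
        exact hg4 (F_le_T₄ D h1)
      · intro h1
        have h3 := h1.symm
        rw [heq] at h3
        apply hg4
        have := mul_mem (t_mem_T₄ D) (F_le_T₄ D h3)
        rwa [mul_inv_cancel_left] at this
      · intro h1
        have h3 := h1.symm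
        rw [heq] at h3
        apply hg4
        have := mul_mem (y_mem_T₄ D) (F_le_T₄ D h3)
        rwa [mul_inv_cancel_left] at this
      · intro h1
        have h3 : ((⟨g, hgM⟩ : M) : M ⧸ F.subgroupOf M) = ((⟨t, htM⟩ * ⟨y, hyM⟩ : M) : M ⧸ F.subgroupOf M) := h1
        have h3 := h3.symm
        rw [heq] at h3
        apply hg4
        have := mul_mem (mul_mem (t_mem_T₄ D) (y_mem_T₄ D)) (F_le_T₄ D h3)
        have h4 : t * y * (((⟨t, htM⟩ * ⟨y, hyM⟩ : M) : G)⁻¹ * ((⟨g, hgM⟩ : M) : G)) = g := by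
          show t * y * ((t * y)⁻¹ * g) = g
          group
        rwa [h4] at this
  obtain ⟨φ, hφt, hφy⟩ := hex
  refine ⟨fun g => if hg : g ∈ M then φ.symm ((⟨g, hg⟩ : M) : M ⧸ F.subgroupOf M) else 1, ?_, ?_, ?_, ?_, ?_⟩
  · intro a ha b hb
    simp only [ha, hb, mul_mem ha hb, dite_true]
    rw [← map_mul]
    rfl
  · intro a ha
    simp only [ha, dite_true]
    rw [map_eq_one_iff _ φ.symm.injective, QuotientGroup.eq_one_iff, Subgroup.mem_subgroupOf]
  · simp only [htM, dite_true]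
    rw [← hφt, MulEquiv.symm_apply_apply]
  · simp only [hyM, dite_true]
    rw [← hφy, MulEquiv.symm_apply_apply]
  · intro x
    obtain ⟨c, hc⟩ := QuotientGroup.mk_surjective (φ x)
    refine ⟨c, c.2, ?_⟩
    simp only [c.2, dite_true]
    have h1 : (⟨(c : G), c.2⟩ : M) = c := rfl
    rw [h1, hc, MulEquiv.symm_apply_apply]

end Cfsg.Agent.OddCyclic.B2Conf
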