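import Mathlib
import Cfsg.Agent.OddCyclic.B2Conf

/-!
# Case B2, (1.6): the configuration, and: no element of `N_T(F)` acts on `F` as a transvection
-/

set_option autoImplicit false

namespace Cfsg.Agent.OddCyclic.B2Tv

open Cfsg.Agent.LieExceptional Cfsg.Agent.LieExceptional.CITDefs Cfsg.Agent.OddCyclic.B2Defs
  Cfsg.Agent.OddCyclic.B2Tools Cfsg.Agent.OddCyclic.B2Act Cfsg.Agent.OddCyclic.B2Conf

open DihedralGroup

/-- the configuration of (1.6) -/
structure Conf {G : Type*} [Group G] (t h y : G) (V P F T₄ T : Subgroup G) (p : G → DihedralGroup 4) : Prop where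
  L : Loc t h V
  Y : TypeY t h y V
  D : FourData t h y V P F T₄
  syl : IsSyl2 ⊤ T
  le : T₄ ≤ T
  hE : Elem F
  h16 : Nat.card F = 16
  hyF : ∀ f ∈ F, ∀ g : G, g * t * g⁻¹ ≠ y * f
  three : ¬ 3 ∣ Nat.card (Subgroup.centralizer (V : Set G))
  p_mul : ∀ a ∈ T ⊓ Subgroup.normalizer (F : Set G), ∀ b ∈ T ⊓ Subgroup.normalizer (F : Set G), p (a * b) = p a * p b
  p_ker : ∀ a ∈ T ⊓ Subgroup.normalizer (F : Set G), p a = 1 ↔ a ∈ F
  p_t : p t = sr 0
  p_y : p y = r 2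
  p_surj : ∀ x, ∃ c ∈ T ⊓ Subgroup.normalizer (F : Set G), p c = x

variable {G : Type*} [Group G] [Finite G] {t h y : G} {V P F T₄ T : Subgroup G} {p : G → DihedralGroup 4}

/-- `M = N_T(F)` -/
def MM (T F : Subgroup G) : Subgroup G := T ⊓ Subgroup.normalizer (F : Set G)

theorem MM_norm {a f : G} (ha : a ∈ MM T F) (hf : f ∈ F) : a * f * a⁻¹ ∈ F := of_norm ha.2 hf

theorem MM_le : MM T F ≤ T := inf_le_left

theorem F_le_MM (C : Conf t h y V P F T₄ T p) : F ≤ MM T F :=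
  le_inf ((F_le_T₄ C.D).trans C.le) Subgroup.le_normalizer

theorem T₄_le_MM (C : Conf t h y V P F T₄ T p) : T₄ ≤ MM T F := le_inf C.le (fun _ ha => T₄_norm C.D ha)

theorem t_mem (C : Conf t h y V P F T₄ T p) : t ∈ MM T F := T₄_le_MM C (t_mem_T₄ C.D)

theorem y_mem (C : Conf t h y V P F T₄ T p) : y ∈ MM T F := T₄_le_MM C (y_mem_T₄ C.D)

theorem mem_MM (C : Conf t h y V P F T₄ T p) {a : G} (ha : a ∈ T) (haF : ∀ f ∈ F, a * f * a⁻¹ ∈ F) : a ∈ MM T F :=
  ⟨ha, mem_norm haF⟩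

theorem p_mul' (C : Conf t h y V P F T₄ T p) {a b : G} (ha : a ∈ MM T F) (hb : b ∈ MM T F) : p (a * b) = p a * p b :=
  C.p_mul a ha b hb

theorem p_one (C : Conf t h y V P F T₄ T p) : p 1 = 1 := (C.p_ker 1 (one_mem _)).2 (one_mem _)

theorem p_inv (C : Conf t h y V P F T₄ T p) {a : G} (ha : a ∈ MM T F) : p a⁻¹ = (p a)⁻¹ := by
  apply eq_inv_of_mul_eq_one_left
  rw [← p_mul' C (inv_mem ha) ha, inv_mul_cancel, p_one C]

theorem p_conj (C : Conf t h y V P F T₄ T p) {a b : G} (ha : a ∈ MM T F) (hb : b ∈ MM T F) :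
    p (a * b * a⁻¹) = p a * p b * (p a)⁻¹ := by
  rw [p_mul' C (mul_mem ha hb) (inv_mem ha), p_mul' C ha hb, p_inv C ha]

theorem p_eq_iff (C : Conf t h y V P F T₄ T p) {a b : G} (ha : a ∈ MM T F) (hb : b ∈ MM T F) :
    p a = p b ↔ a⁻¹ * b ∈ F := by
  rw [← C.p_ker _ (mul_mem (inv_mem ha) hb), p_mul' C (inv_mem ha) hb, p_inv C ha, inv_mul_eq_one]

theorem p_F (C : Conf t h y V P F T₄ T p) {f : G} (hf : f ∈ F) : p f = 1 := (C.p_ker f (F_le_MM C hf)).2 hf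

theorem CF_p (C : Conf t h y V P F T₄ T p) {a b : G} (ha : a ∈ MM T F) (hb : b ∈ MM T F) (h : p a = p b) :
    CF F a = CF F b := CF_congr C.hE ((p_eq_iff C ha hb).1 h)

theorem F_inv (C : Conf t h y V P F T₄ T p) {f : G} (hf : f ∈ F) : f⁻¹ = f := inv_eq_of_mul_eq_one_left (C.hE f hf)

/-- elements of the same coset of `F` act in the same way -/
theorem act_p (C : Conf t h y V P F T₄ T p) {a b f : G} (ha : a ∈ MM T F) (hb : b ∈ MM T F) (h : p a = p b)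
    (hf : f ∈ F) : a * f * a⁻¹ = b * f * b⁻¹ := by
  have h1 := C.hE.comm ((p_eq_iff C ha hb).1 h) hf
  calc a * f * a⁻¹ = a * (f * (a⁻¹ * b)) * b⁻¹ := by group
    _ = b * f * b⁻¹ := by rw [← h1]; group

/-- three conjugates under `h` -/
theorem prod_three (L : Loc t h V) (D : PData t h V P F) (hE : Elem F) {z : G} (hz : z ∈ F) :
    h⁻¹ * z * h = z * (h * z * h⁻¹) := by
  have h1 : h⁻¹ = h * h := (eq_inv_of_mul_eq_one_left L.h_cube).symm
  have hz1 := D.hF z hz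
  have hz2 := D.hF _ hz1
  have h2 : h⁻¹ * z * h = h * (h * z * h⁻¹) * h⁻¹ := by
    have h3 : h = h⁻¹ * h⁻¹ := by
      rw [← mul_inv_rev, ← h1, inv_inv]
    calc h⁻¹ * z * h = (h * h) * z * (h⁻¹ * h⁻¹) := by rw [← h3, ← h1]
      _ = _ := by group
  rw [h2]
  have h4 : z * (h * z * h⁻¹) * (h * (h * z * h⁻¹) * h⁻¹) = 1 := by
    apply D.fpf _ (mul_mem (mul_mem hz hz1) hz2)
    have h5 : h * (h * (h * z * h⁻¹) * h⁻¹) * h⁻¹ = z := by
      calc h * (h * (h * z * h⁻¹) * h⁻¹) * h⁻¹ = (h * h * h) * z * (h * h * h)⁻¹ := by group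
        _ = z := by rw [L.h_cube]; group
    have h6 : h * (z * (h * z * h⁻¹) * (h * (h * z * h⁻¹) * h⁻¹)) * h⁻¹ =
        (h * z * h⁻¹) * (h * (h * z * h⁻¹) * h⁻¹) * z := by
      calc _ = (h * z * h⁻¹) * (h * (h * z * h⁻¹) * h⁻¹) * (h * (h * (h * z * h⁻¹) * h⁻¹) * h⁻¹) := by group
        _ = _ := by rw [h5]
    have h7 : (h * z * h⁻¹) * (h * (h * z * h⁻¹) * h⁻¹) * z = z * (h * z * h⁻¹) * (h * (h * z * h⁻¹) * h⁻¹) := by
      rw [hE.comm (mul_mem hz1 hz2) hz]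
      exact (mul_assoc _ _ _).symm
    rw [h7] at h6
    exact mul_inv_eq_iff_eq_mul.1 h6
  have h5 := hE _ hz2
  have h6 : (h * (h * z * h⁻¹) * h⁻¹)⁻¹ = h * (h * z * h⁻¹) * h⁻¹ := inv_eq_of_mul_eq_one_left h5
  rw [← h6]
  exact (eq_inv_of_mul_eq_one_left h4).symm

theorem order_three (C : Conf t h y V P F T₄ T p) {ρ : G} (hρF : ∀ f ∈ F, ρ * f * ρ⁻¹ ∈ F)
    (hρ3 : ∀ f ∈ F, (ρ * ρ * ρ) * f = f * (ρ * ρ * ρ)) {f₀ : G} (hf₀ : f₀ ∈ F) (hf1 : f₀ ≠ 1)
    (hfix : ρ * f₀ = f₀ * ρ) : ∀ f ∈ F, ρ * f = f * ρ := by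
  refine B2Three.order_three C.L.cyc C.L.h_cube (h_ne C.L) C.D.hF C.D.fpf ?_ hρF hρ3 hf₀ hf1 hfix
  intro h3
  apply C.three
  refine h3.trans (Subgroup.card_dvd_of_le ?_)
  exact Subgroup.centralizer_le C.D.V_le

/-- **no transvections** -/
theorem card_CF_le (C : Conf t h y V P F T₄ T p) {s : G} (hs : s ∈ MM T F) (hps : p s = sr 1 ∨ p s = sr 3) :
    Nat.card (CF F s) ≤ 4 := by
  by_contra hcon
  push Not at hcon
  have hsF : s ∉ F := by
    intro h1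
    rw [p_F C h1] at hps
    rcases hps with h | h <;> revert h <;> decide
  -- `B` has index 2
  have h8 : Nat.card (CF F s) = 8 := by
    have h1 : Nat.card (CF F s) ∣ 2 ^ 4 := by
      have := Subgroup.card_dvd_of_le (CF_le : CF F s ≤ F)
      rw [C.h16] at this
      exact this
    obtain ⟨k, hk, hk'⟩ := (Nat.dvd_prime_pow Nat.prime_two).1 h1
    have h2 : Nat.card (CF F s) ≠ 16 := by
      intro h2
      have h3 : CF F s = F := Subgroup.eq_of_le_of_card_ge CF_le (by rw [h2, C.h16])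
      apply hsF
      apply mem_F_of_cent C.L C.Y C.D C.hE C.h16 C.syl.two C.le hs.1
      intro f hf
      rw [← h3, mem_CF] at hf
      exact hf.2.symm
    rw [hk'] at hcon h2 ⊢
    interval_cases k <;> simp_all
  have hidx : ((CF F s).subgroupOf F).index = 2 := by
    have h1 := Subgroup.card_mul_index ((CF F s).subgroupOf F)
    rw [Nat.card_congr (Subgroup.subgroupOfEquivOfLe CF_le).toEquiv, h8, C.h16] at h1
    omega
  have htwo : ∀ f ∈ F, ∀ f' ∈ F, f ∉ CF F s → f' ∉ CF F s → f * f' ∈ CF F s := by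
    intro f hf f' hf' h1 h2
    have h3 := Subgroup.mul_mem_iff_of_index_two hidx (a := ⟨f, hf⟩) (b := ⟨f', hf'⟩)
    simp only [Subgroup.mem_subgroupOf] at h3
    exact h3.2 ⟨fun h => absurd h h1, fun h => absurd h h2⟩
  have hfix : ∀ f ∈ CF F s, s * f * s⁻¹ = f := by
    intro f hf
    rw [← (mem_CF.1 hf).2, mul_inv_cancel_right]
  obtain ⟨f₀, hf₀, hf₀B⟩ : ∃ f ∈ F, f ∉ CF F s := by
    by_contra hno
    push Not at hno
    have h1 := Nat.card_le_card_of_injective _ (Subgroup.inclusion_injective hno)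
    rw [C.h16, h8] at h1
    omega
  -- the centre of `s`
  set z := s * f₀ * s⁻¹ * f₀ with hz
  have hzF : z ∈ F := mul_mem (MM_norm hs hf₀) hf₀
  have hmove : ∀ f ∈ F, f ∉ CF F s → s * f * s⁻¹ = f * z := by
    intro f hf hfB
    have h1 := hfix _ (htwo f hf f₀ hf₀ hfB hf₀B)
    have h2 : s * f * s⁻¹ = (s * (f * f₀) * s⁻¹) * (s * f₀ * s⁻¹)⁻¹ := by group
    have h3 : (s * f₀ * s⁻¹)⁻¹ = s * f₀ * s⁻¹ := F_inv C (MM_norm hs hf₀)
    rw [h2, h1, h3, hz, mul_assoc, C.hE.comm hf₀ (MM_norm hs hf₀)]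
  have hz1 : z ≠ 1 := by
    intro h1
    apply hf₀B
    rw [mem_CF]
    refine ⟨hf₀, ?_⟩
    have h2 := hmove f₀ hf₀ hf₀B
    rw [h1, mul_one] at h2
    exact (mul_inv_eq_iff_eq_mul.1 h2).symm
  have hss : s * s ∈ F := by
    rw [← C.p_ker _ (mul_mem hs hs), p_mul' C hs hs]
    rcases hps with h | h <;> rw [h] <;> decide
  have hzB : z ∈ CF F s := by
    by_contra h1
    have h2 := hmove z hzF h1
    have h3 := hmove f₀ hf₀ hf₀B
    have h4 : (s * s) * f₀ * (s * s)⁻¹ = f₀ := by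
      rw [C.hE.comm hss hf₀, mul_inv_cancel_right]
    have h5 : (s * s) * f₀ * (s * s)⁻¹ = s * (s * f₀ * s⁻¹) * s⁻¹ := by group
    have h6 : s * (f₀ * z) * s⁻¹ = (s * f₀ * s⁻¹) * (s * z * s⁻¹) := by group
    rw [h5, h3, h6, h3, h2, C.hE z hzF, mul_one] at h4
    exact hz1 (mul_left_cancel (a := f₀) (by rw [h4, mul_one]))
  -- the conjugates under `h`
  set z1 := h * z * h⁻¹ with hz1def
  have hz1F : z1 ∈ F := C.D.hF z hzF
  have hz2 : h⁻¹ * z * h = z * z1 := prod_three C.L C.D.toPData C.hE hzF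
  have hback : h⁻¹ * z1 * h = z := by
    rw [hz1def]
    group
  by_cases hcase : z1 ∈ CF F s
  · -- Case 2
    have hpy : p (y * s * y⁻¹) = p s := by
      rw [p_conj C (y_mem C) hs, C.p_y]
      rcases hps with h | h <;> rw [h] <;> decide
    have hpy' : p (y⁻¹ * s * y) = p s := by
      have h1 := p_conj C (inv_mem (y_mem C)) hs
      rw [inv_inv] at h1
      rw [h1, p_inv C (y_mem C), C.p_y]
      rcases hps with h | h <;> rw [h] <;> decide
    have hysM : y⁻¹ * s * y ∈ MM T F := by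
      have := mul_mem (mul_mem (inv_mem (y_mem C)) hs) (y_mem C)
      exact this
    have hyz : y * z * y⁻¹ = z := by
      have h1 : y * f₀ * y⁻¹ ∉ CF F s := by
        intro h1
        apply hf₀B
        rw [CF_p C hs (mul_mem (mul_mem (y_mem C) hs) (inv_mem (y_mem C))) hpy.symm, mem_CF] at h1
        rw [mem_CF]
        refine ⟨hf₀, ?_⟩
        calc f₀ * s = y⁻¹ * (y * f₀ * y⁻¹ * (y * s * y⁻¹)) * y := by group
          _ = s * f₀ := by rw [h1.2]; group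
      have h2 := hmove _ (MM_norm (y_mem C) hf₀) h1
      have h3 : s * (y * f₀ * y⁻¹) * s⁻¹ = y * ((y⁻¹ * s * y) * f₀ * (y⁻¹ * s * y)⁻¹) * y⁻¹ := by group
      rw [h3, act_p C hysM hs hpy' hf₀, hmove f₀ hf₀ hf₀B] at h2
      have h4 : y * (f₀ * z) * y⁻¹ = y * f₀ * y⁻¹ * (y * z * y⁻¹) := by group
      rw [h4] at h2
      exact mul_left_cancel h2
    have hyz1 : y * z1 * y⁻¹ = z * z1 := by
      rw [← hz2]
      have h1 : y * h⁻¹ * y⁻¹ = h := by
        have : y * h⁻¹ * y⁻¹ = (y * h * y⁻¹)⁻¹ := by group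
        rw [this, C.Y.yh, inv_inv]
      calc y * z1 * y⁻¹ = (y * h * y⁻¹) * (y * z * y⁻¹) * (y * h⁻¹ * y⁻¹) := by
            rw [hz1def]
            group
        _ = _ := by rw [C.Y.yh, hyz, h1]
    have hpt : p (t * s * t⁻¹) = p (y * s) := by
      rw [p_conj C (t_mem C) hs, p_mul' C (y_mem C) hs, C.p_y, C.p_t]
      rcases hps with h | h <;> rw [h] <;> decide
    have hact := act_p C (mul_mem (mul_mem (t_mem C) hs) (inv_mem (t_mem C))) (mul_mem (y_mem C) hs) hpt hz1F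
    have hr : (y * s) * z1 * (y * s)⁻¹ = z * z1 := by
      calc (y * s) * z1 * (y * s)⁻¹ = y * (s * z1 * s⁻¹) * y⁻¹ := by group
        _ = _ := by rw [hfix z1 hcase, hyz1]
    rw [hr] at hact
    have hl : t * s * t⁻¹ * z1 * (t * s * t⁻¹)⁻¹ = t * (s * (t⁻¹ * z1 * t) * s⁻¹) * t⁻¹ := by group
    rw [hl] at hact
    have hne : z1 ≠ z * z1 := by
      intro h1
      exact hz1 (mul_right_cancel (b := z1) (by rw [← h1, one_mul]))
    have hwF : t⁻¹ * z1 * t ∈ F := by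
      have := MM_norm (inv_mem (t_mem C)) hz1F
      rwa [inv_inv] at this
    by_cases hw : t⁻¹ * z1 * t ∈ CF F s
    · rw [hfix _ hw] at hact
      apply hne
      rw [← hact]
      group
    · rw [hmove _ hwF hw] at hact
      have h1 : t * (t⁻¹ * z1 * t * z) * t⁻¹ = z1 * (t * z * t⁻¹) := by group
      rw [h1, C.hE.comm hzF hz1F] at hact
      have htz : t * z * t⁻¹ = z := mul_left_cancel hact
      have htz' : t⁻¹ * z * t = z := by
        calc t⁻¹ * z * t = t⁻¹ * (t * z * t⁻¹) * t := by rw [htz]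
          _ = z := by group
      apply hw
      have h2 : t⁻¹ * z1 * t = z1 := by
        have h3 : t⁻¹ * h = h * t⁻¹ := by
          have := C.L.ht
          calc t⁻¹ * h = t⁻¹ * (h * t) * t⁻¹ := by group
            _ = h * t⁻¹ := by rw [this]; group
        calc t⁻¹ * z1 * t = (t⁻¹ * h) * z * (t⁻¹ * h)⁻¹ := by rw [hz1def]; group
          _ = (h * t⁻¹) * z * (h * t⁻¹)⁻¹ := by rw [h3]
          _ = h * (t⁻¹ * z * t) * h⁻¹ := by group
          _ = z1 := by rw [htz']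
      rw [h2]
      exact hcase
  · -- Case 1
    have hz2B : z * z1 ∉ CF F s := by
      intro h1
      apply hcase
      have := mul_mem (inv_mem hzB) h1
      rwa [inv_mul_cancel_left] at this
    set s1 := h * s * h⁻¹ with hs1
    -- the action of `s1`
    have hs1fix : ∀ f, h⁻¹ * f * h ∈ CF F s → s1 * f * s1⁻¹ = f := by
      intro f hf
      have h1 := hfix _ hf
      calc s1 * f * s1⁻¹ = h * (s * (h⁻¹ * f * h) * s⁻¹) * h⁻¹ := by rw [hs1]; group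
        _ = f := by rw [h1]; group
    have hs1move : ∀ f ∈ F, h⁻¹ * f * h ∉ CF F s → s1 * f * s1⁻¹ = f * z1 := by
      intro f hf hfB
      have h1 := hmove _ (conj_inv_mem C.D.hF hf) hfB
      calc s1 * f * s1⁻¹ = h * (s * (h⁻¹ * f * h) * s⁻¹) * h⁻¹ := by rw [hs1]; group
        _ = f * z1 := by rw [h1, hz1def]; group
    have hs1z : s1 * z * s1⁻¹ = z * z1 := hs1move z hzF (by rw [hz2]; exact hz2B)
    have hs1z1 : s1 * z1 * s1⁻¹ = z1 := hs1fix z1 (by rw [hback]; exact hzB)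
    have hsz1 : s * z1 * s⁻¹ = z1 * z := hmove z1 hz1F hcase
    have hsz : s * z * s⁻¹ = z := hfix z hzB
    set ρ := s * s1 with hρ
    have e1 : ρ * z * ρ⁻¹ = z1 := by
      calc ρ * z * ρ⁻¹ = s * (s1 * z * s1⁻¹) * s⁻¹ := by rw [hρ]; group
        _ = (s * z * s⁻¹) * (s * z1 * s⁻¹) := by rw [hs1z]; group
        _ = z1 * (z * z) := by rw [hsz, hsz1, ← mul_assoc, C.hE.comm hzF hz1F, mul_assoc]
        _ = z1 := by rw [C.hE z hzF, mul_one]
    have e2 : ρ * z1 * ρ⁻¹ = z1 * z := by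
      calc ρ * z1 * ρ⁻¹ = s * (s1 * z1 * s1⁻¹) * s⁻¹ := by rw [hρ]; group
        _ = _ := by rw [hs1z1, hsz1]
    have e3 : ρ * (z1 * z) * ρ⁻¹ = z := by
      calc ρ * (z1 * z) * ρ⁻¹ = (ρ * z1 * ρ⁻¹) * (ρ * z * ρ⁻¹) := by group
        _ = z * (z1 * z1) := by rw [e1, e2, C.hE.comm hz1F hzF, mul_assoc]
        _ = z := by rw [C.hE z1 hz1F, mul_one]
    have hcube_z : (ρ * ρ * ρ) * z * (ρ * ρ * ρ)⁻¹ = z := by
      calc (ρ * ρ * ρ) * z * (ρ * ρ * ρ)⁻¹ = ρ * (ρ * (ρ * z * ρ⁻¹) * ρ⁻¹) * ρ⁻¹ := by group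
        _ = z := by rw [e1, e2, e3]
    have hcube_z1 : (ρ * ρ * ρ) * z1 * (ρ * ρ * ρ)⁻¹ = z1 := by
      calc (ρ * ρ * ρ) * z1 * (ρ * ρ * ρ)⁻¹ = ρ * (ρ * (ρ * z1 * ρ⁻¹) * ρ⁻¹) * ρ⁻¹ := by group
        _ = z1 := by rw [e2, e3, e1]
    -- decomposition
    have hρfix : ∀ f, f ∈ CF F s → h⁻¹ * f * h ∈ CF F s → ρ * f * ρ⁻¹ = f := by
      intro f h1 h2
      calc ρ * f * ρ⁻¹ = s * (s1 * f * s1⁻¹) * s⁻¹ := by rw [hρ]; group
        _ = f := by rw [hs1fix f h2, hfix f h1]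
    have hdec : ∀ f ∈ F, ∃ w, (w = 1 ∨ w = z ∨ w = z1 ∨ w = z * z1) ∧ f * w ∈ CF F s ∧
        h⁻¹ * (f * w) * h ∈ CF F s := by
      intro f hf
      have hsplit : ∀ w, h⁻¹ * (f * w) * h = (h⁻¹ * f * h) * (h⁻¹ * w * h) := by
        intro w
        group
      have hhf := conj_inv_mem C.D.hF hf
      by_cases h1 : f ∈ CF F s <;> by_cases h2 : h⁻¹ * f * h ∈ CF F s
      · exact ⟨1, Or.inl rfl, by rwa [mul_one], by rwa [mul_one]⟩
      · refine ⟨z, Or.inr (Or.inl rfl), mul_mem h1 hzB, ?_⟩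
        rw [hsplit, hz2]
        exact htwo _ hhf _ (mul_mem hzF hz1F) h2 hz2B
      · refine ⟨z1, Or.inr (Or.inr (Or.inl rfl)), htwo _ hf _ hz1F h1 hcase, ?_⟩
        rw [hsplit, hback]
        exact mul_mem h2 hzB
      · refine ⟨z * z1, Or.inr (Or.inr (Or.inr rfl)), htwo _ hf _ (mul_mem hzF hz1F) h1 hz2B, ?_⟩
        have h3 : h⁻¹ * (z * z1) * h = (h⁻¹ * z * h) * (h⁻¹ * z1 * h) := by group
        rw [hsplit, h3, hz2, hback]
        have h4 : z * z1 * z = z1 := by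
          rw [C.hE.comm hzF hz1F, mul_assoc, C.hE z hzF, mul_one]
        rw [h4]
        exact htwo _ hhf _ hz1F h2 hcase
    have hρF : ∀ f ∈ F, ρ * f * ρ⁻¹ ∈ F := by
      intro f hf
      have h1 : ρ * f * ρ⁻¹ = s * (h * (s * (h⁻¹ * f * h) * s⁻¹) * h⁻¹) * s⁻¹ := by
        rw [hρ, hs1]
        group
      rw [h1]
      exact MM_norm hs (C.D.hF _ (MM_norm hs (conj_inv_mem C.D.hF hf)))
    have hw3 : ∀ w, (w = 1 ∨ w = z ∨ w = z1 ∨ w = z * z1) → (ρ * ρ * ρ) * w * (ρ * ρ * ρ)⁻¹ = w := by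
      rintro w (rfl | rfl | rfl | rfl)
      · group
      · exact hcube_z
      · exact hcube_z1
      · have h1 : (ρ * ρ * ρ) * (z * z1) * (ρ * ρ * ρ)⁻¹ =
            ((ρ * ρ * ρ) * z * (ρ * ρ * ρ)⁻¹) * ((ρ * ρ * ρ) * z1 * (ρ * ρ * ρ)⁻¹) := by group
        rw [h1, hcube_z, hcube_z1]
    have hρ3 : ∀ f ∈ F, (ρ * ρ * ρ) * f = f * (ρ * ρ * ρ) := by
      intro f hf
      obtain ⟨w, hw, h1, h2⟩ := hdec f hf
      have h3 := hρfix _ h1 h2
      have h4 : (ρ * ρ * ρ) * (f * w) * (ρ * ρ * ρ)⁻¹ = f * w := by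
        calc (ρ * ρ * ρ) * (f * w) * (ρ * ρ * ρ)⁻¹ = ρ * (ρ * (ρ * (f * w) * ρ⁻¹) * ρ⁻¹) * ρ⁻¹ := by group
          _ = f * w := by rw [h3, h3, h3]
      have h5 : (ρ * ρ * ρ) * (f * w) * (ρ * ρ * ρ)⁻¹ =
          ((ρ * ρ * ρ) * f * (ρ * ρ * ρ)⁻¹) * ((ρ * ρ * ρ) * w * (ρ * ρ * ρ)⁻¹) := by group
      rw [h5, hw3 w hw] at h4
      exact mul_inv_eq_iff_eq_mul.1 (mul_right_cancel h4)
    -- a fixed point
    obtain ⟨f₁, hf₁, hf₁w⟩ : ∃ f ∈ F, ¬ (f = 1 ∨ f = z ∨ f = z1 ∨ f = z * z1) := by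
      by_contra hno
      push Not at hno
      classical
      have hsub : (F : Set G) ⊆ (({1, z, z1, z * z1} : Finset G) : Set G) := by
        intro f hf
        have := hno f hf
        simp only [Finset.coe_insert, Finset.coe_singleton, Set.mem_insert_iff, Set.mem_singleton_iff]
        exact this
      have h1 := Set.ncard_le_ncard hsub (Finset.finite_toSet _)
      rw [Set.ncard_coe_finset] at h1
      have h2 : (F : Set G).ncard = 16 := by
        rw [← C.h16]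
        exact (Nat.card_coe_set_eq _).symm
      rw [h2] at h1
      have h3 : ({1, z, z1, z * z1} : Finset G).card ≤ 4 := Finset.card_le_four
      omega
    obtain ⟨w, hw, h1, h2⟩ := hdec f₁ hf₁
    have hwF : w ∈ F := by
      rcases hw with rfl | rfl | rfl | rfl
      · exact one_mem _
      · exact hzF
      · exact hz1F
      · exact mul_mem hzF hz1F
    have hne : f₁ * w ≠ 1 := by
      intro h3
      apply hf₁w
      have h4 : f₁ = w := by
        rw [← F_inv C hwF]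
        exact eq_inv_of_mul_eq_one_left h3
      rw [h4]
      exact hw
    have h3 := order_three C hρF hρ3 (CF_le h1) hne (mul_inv_eq_iff_eq_mul.1 (hρfix _ h1 h2)) z hzF
    have h4 : ρ * z * ρ⁻¹ = z := by rw [h3, mul_inv_cancel_right]
    rw [e1] at h4
    exact hcase (h4 ▸ hzB)

end Cfsg.Agent.OddCyclic.B2Tv
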