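import Mathlib
import Cfsg.Agent.OddCyclic.B2Tv

/-!
# Case B2, (1.6): the elementary abelian subgroups of order 16 of `N_T(F)`
-/

set_option autoImplicit false

namespace Cfsg.Agent.OddCyclic.B2ESub

open Cfsg.Agent.LieExceptional Cfsg.Agent.LieExceptional.CITDefs Cfsg.Agent.OddCyclic.B2Defs
  Cfsg.Agent.OddCyclic.B2Tools Cfsg.Agent.OddCyclic.B2Act Cfsg.Agent.OddCyclic.B2Conf Cfsg.Agent.OddCyclic.B2Tv

open DihedralGroup

variable {G : Type*} [Group G] [Finite G] {t h y : G} {V P F T₄ T : Subgroup G} {p : G → DihedralGroup 4}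

/-- `U = {g ∈ N_T(F) | p g ∈ {1, r 2, sr 1, sr 3}}` -/
def UU (C : Conf t h y V P F T₄ T p) : Subgroup G where
  carrier := {g | g ∈ MM T F ∧ p g * sr 1 = sr 1 * p g}
  one_mem' := ⟨one_mem _, by rw [p_one C, one_mul, mul_one]⟩
  mul_mem' := by
    rintro a b ⟨ha, ha'⟩ ⟨hb, hb'⟩
    refine ⟨mul_mem ha hb, ?_⟩
    rw [p_mul' C ha hb, mul_assoc, hb', ← mul_assoc, ha', mul_assoc]
  inv_mem' := by
    rintro a ⟨ha, ha'⟩
    refine ⟨inv_mem ha, ?_⟩
    rw [p_inv C ha]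
    exact (show Commute (p a) (sr 1) from ha').inv_left

theorem mem_UU {C : Conf t h y V P F T₄ T p} {g : G} : g ∈ UU C ↔ g ∈ MM T F ∧ p g * sr 1 = sr 1 * p g := Iff.rfl

theorem F_le_UU (C : Conf t h y V P F T₄ T p) : F ≤ UU C := fun f hf =>
  mem_UU.2 ⟨F_le_MM C hf, by rw [p_F C hf, one_mul, mul_one]⟩

theorem four_cases : ∀ x : DihedralGroup 4, x * sr 1 = sr 1 * x → x = 1 ∨ x = r 2 ∨ x = sr 1 ∨ x = sr 3 := by
  decide

theorem four_cases' : ∀ x : DihedralGroup 4, x * sr 0 = sr 0 * x → x = 1 ∨ x = r 2 ∨ x = sr 0 ∨ x = sr 2 := by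
  decide

theorem inv_cases : ∀ x : DihedralGroup 4, x * x = 1 → x = 1 ∨ x = r 2 ∨ x = sr 0 ∨ x = sr 2 ∨ x = sr 1 ∨ x = sr 3 := by
  decide

/-- elements of `M ∖ U` -/
theorem t_mul_mem (C : Conf t h y V P F T₄ T p) {a : G} (ha : a ∈ MM T F) (haU : a ∉ UU C) : t⁻¹ * a ∈ UU C := by
  rw [mem_UU] at haU ⊢
  refine ⟨mul_mem (inv_mem (t_mem C)) ha, ?_⟩
  have h1 : ¬ (p a * sr 1 = sr 1 * p a) := fun h => haU ⟨ha, h⟩
  rw [p_mul' C (inv_mem (t_mem C)) ha, p_inv C (t_mem C), C.p_t]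
  revert h1
  generalize p a = x
  revert x
  decide

theorem mem_T₄_iff (C : Conf t h y V P F T₄ T p) {a : G} (ha : a ∈ MM T F) (h1 : p a * sr 0 = sr 0 * p a) : a ∈ T₄ := by
  have key : ∀ b ∈ T₄, p a = p b → a ∈ T₄ := by
    intro b hb h2
    have h3 := (p_eq_iff C (T₄_le_MM C hb) ha).1 h2.symm
    have := mul_mem hb (F_le_T₄ C.D h3)
    rwa [mul_inv_cancel_left] at this
  rcases four_cases' _ h1 with h | h | h | h
  · exact F_le_T₄ C.D ((C.p_ker a ha).1 h)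
  · exact key y (y_mem_T₄ C.D) (by rw [h, C.p_y])
  · exact key t (t_mem_T₄ C.D) (by rw [h, C.p_t])
  · refine key (t * y) (mul_mem (t_mem_T₄ C.D) (y_mem_T₄ C.D)) ?_
    rw [h, p_mul' C (t_mem C) (y_mem C), C.p_t, C.p_y]
    decide

/-- fixed points of the involutions of `M/F` -/
theorem card_CF (C : Conf t h y V P F T₄ T p) {b : G} (hb : b ∈ MM T F) (hbF : b ∉ F) (hb2 : p b * p b = 1) :
    Nat.card (CF F b) = 4 := by
  have h0 : p b ≠ 1 := fun h => hbF ((C.p_ker b hb).1 h)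
  have key : (p b = sr 1 ∨ p b = sr 3) → Nat.card (CF F b) = 4 := by
    intro h1
    have h2 := card_CF_le C hb h1
    have h3 := card_le_sq C.hE (u := b) (fun f hf => MM_norm hb hf) (fun f hf => by
      have h4 : b * b ∈ F := by rw [← C.p_ker _ (mul_mem hb hb), p_mul' C hb hb, hb2]
      exact C.hE.comm h4 hf)
    rw [C.h16] at h3
    nlinarith
  rcases inv_cases _ hb2 with h | h | h | h | h | h
  · exact absurd h h0
  · rw [CF_p C hb (y_mem C) (by rw [h, C.p_y]), card_CF_y C.L C.Y C.D C.hE C.h16]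
  · rw [CF_p C hb (t_mem C) (by rw [h, C.p_t]), CF_t C.L C.D.toPData, C.L.card_V]
  · rw [CF_p C hb (mul_mem (t_mem C) (y_mem C)) (by
      rw [h, p_mul' C (t_mem C) (y_mem C), C.p_t, C.p_y]
      decide), card_CF_ty C.L C.Y C.D C.hE C.h16]
  · exact key (Or.inl h)
  · exact key (Or.inr h)

/-- the structure of an elementary abelian subgroup of order 16 of `M` other than `F` -/
structure ESub (C : Conf t h y V P F T₄ T p) (A : Subgroup G) : Prop where
  le : A ≤ UU C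
  hE : Elem A
  h16 : Nat.card A = 16
  inf : A ⊓ F = CF F y
  surj : ∀ x : DihedralGroup 4, x * sr 1 = sr 1 * x → ∃ a ∈ A, p a = x

theorem esub_of (C : Conf t h y V P F T₄ T p) {B : Subgroup G} (hB : B ≤ MM T F) (hBE : Elem B)
    (hB16 : Nat.card B = 16) (hne : B ≠ F) : ESub C B := by
  obtain ⟨b₁, hb₁, hb₁F⟩ : ∃ b ∈ B, b ∉ F := by
    by_contra hcon
    push Not at hcon
    exact hne (Subgroup.eq_of_le_of_card_ge hcon (by rw [C.h16, hB16]))
  have hsq : ∀ b ∈ B, p b * p b = 1 := by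
    intro b hb
    rw [← p_mul' C (hB hb) (hB hb), hBE b hb, p_one C]
  have hcomm : ∀ b ∈ B, ∀ b' ∈ B, p b * p b' = p b' * p b := by
    intro b hb b' hb'
    rw [← p_mul' C (hB hb) (hB hb'), ← p_mul' C (hB hb') (hB hb), hBE.comm hb hb']
  have hle : ∀ b ∈ B, B ⊓ F ≤ CF F b := fun b hb f hf => mem_CF.2 ⟨hf.2, hBE.comm hf.1 hb⟩
  have hcard : Nat.card (B ⊓ F : Subgroup G) ≤ 4 := by
    have h1 := Nat.card_le_card_of_injective _ (Subgroup.inclusion_injective (hle b₁ hb₁))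
    rwa [card_CF C (hB hb₁) hb₁F (hsq b₁ hb₁)] at h1
  -- an element outside `F⟨y⟩`
  obtain ⟨b₀, hb₀, hb₀1, hb₀2⟩ : ∃ b ∈ B, p b ≠ 1 ∧ p b ≠ r 2 := by
    by_contra hcon
    push Not at hcon
    have h1 := card_le_cover (A := B) (F := F) ![1, y] (by
      intro b hb
      by_cases h2 : p b = 1
      · refine ⟨0, ?_⟩
        show (1 : G)⁻¹ * b ∈ F
        rw [inv_one, one_mul]
        exact (C.p_ker b (hB hb)).1 h2
      · refine ⟨1, ?_⟩
        show y⁻¹ * b ∈ F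
        rw [← p_eq_iff C (y_mem C) (hB hb), C.p_y, hcon b hb h2])
    rw [hB16, Nat.card_fin] at h1
    omega
  have hb₀F : b₀ ∉ F := fun h => hb₀1 (p_F C h)
  have hb₀' : p b₀ = sr 1 ∨ p b₀ = sr 3 := by
    by_contra hcon
    have h1 : p b₀ = sr 0 ∨ p b₀ = sr 2 := by
      rcases inv_cases _ (hsq b₀ hb₀) with h | h | h | h | h | h
      · exact absurd h hb₀1
      · exact absurd h hb₀2
      · exact Or.inl h
      · exact Or.inr h
      · exact absurd (Or.inl h) hcon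
      · exact absurd (Or.inr h) hcon
    apply hne
    refine uniq_four C.L C.Y C.D C.hE C.h16 ?_ hBE hB16
    intro b hb
    apply mem_T₄_iff C (hB hb)
    have h2 := hcomm b hb b₀ hb₀
    have h3 := hsq b hb
    revert h2 h3
    generalize p b = x
    rcases h1 with h1 | h1 <;> rw [h1] <;> revert x <;> decide
  have hU : ∀ b ∈ B, p b * sr 1 = sr 1 * p b := by
    intro b hb
    have h2 := hcomm b hb b₀ hb₀
    have h3 := hsq b hb
    revert h2 h3
    generalize p b = x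
    rcases hb₀' with h1 | h1 <;> rw [h1] <;> revert x <;> decide
  -- the intersection
  obtain ⟨c1, hc1, hpc1⟩ := C.p_surj (sr 1)
  obtain ⟨c3, hc3, hpc3⟩ := C.p_surj (sr 3)
  have h4 : 4 ≤ Nat.card (B ⊓ F : Subgroup G) := by
    have h1 := card_le_cover (A := B) (F := F) ![1, y, c1, c3] (by
      intro b hb
      rcases four_cases _ (hU b hb) with h | h | h | h
      · refine ⟨0, ?_⟩
        show (1 : G)⁻¹ * b ∈ F
        rw [inv_one, one_mul]
        exact (C.p_ker b (hB hb)).1 h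
      · refine ⟨1, ?_⟩
        show y⁻¹ * b ∈ F
        rw [← p_eq_iff C (y_mem C) (hB hb), C.p_y, h]
      · refine ⟨2, ?_⟩
        show c1⁻¹ * b ∈ F
        rw [← p_eq_iff C hc1 (hB hb), hpc1, h]
      · refine ⟨3, ?_⟩
        show c3⁻¹ * b ∈ F
        rw [← p_eq_iff C hc3 (hB hb), hpc3, h])
    rw [hB16, Nat.card_fin] at h1
    omega
  obtain ⟨b₂, hb₂, hpb₂⟩ : ∃ b ∈ B, p b = r 2 := by
    by_contra hcon
    push Not at hcon
    have h1 := card_le_cover (A := B) (F := F) ![1, b₀] (by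
      intro b hb
      by_cases h2 : p b = 1
      · refine ⟨0, ?_⟩
        show (1 : G)⁻¹ * b ∈ F
        rw [inv_one, one_mul]
        exact (C.p_ker b (hB hb)).1 h2
      · refine ⟨1, ?_⟩
        show b₀⁻¹ * b ∈ F
        rw [← p_eq_iff C (hB hb₀) (hB hb)]
        have h3 := hcon b hb
        have h5 := hcon (b₀ * b) (mul_mem hb₀ hb)
        rw [p_mul' C (hB hb₀) (hB hb)] at h5
        have h6 := hU b hb
        revert h2 h3 h5 h6
        generalize p b = x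
        rcases hb₀' with h1 | h1 <;> rw [h1] <;> revert x <;> decide)
    rw [hB16, Nat.card_fin] at h1
    omega
  have hb₂F : b₂ ∉ F := by
    intro h
    have h2 := p_F C h
    rw [hpb₂] at h2
    revert h2
    decide
  refine ⟨fun b hb => mem_UU.2 ⟨hB hb, hU b hb⟩, hBE, hB16, ?_, ?_⟩
  · rw [← CF_p C (hB hb₂) (y_mem C) (by rw [hpb₂, C.p_y])]
    refine Subgroup.eq_of_le_of_card_ge (hle b₂ hb₂) ?_
    rw [card_CF C (hB hb₂) hb₂F (hsq b₂ hb₂)]
    exact h4
  · intro x hx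
    rcases four_cases x hx with rfl | rfl | rfl | rfl
    · exact ⟨1, one_mem _, p_one C⟩
    · exact ⟨b₂, hb₂, hpb₂⟩
    · rcases hb₀' with h | h
      · exact ⟨b₀, hb₀, h⟩
      · refine ⟨b₂ * b₀, mul_mem hb₂ hb₀, ?_⟩
        rw [p_mul' C (hB hb₂) (hB hb₀), hpb₂, h]
        decide
    · rcases hb₀' with h | h
      · refine ⟨b₂ * b₀, mul_mem hb₂ hb₀, ?_⟩
        rw [p_mul' C (hB hb₂) (hB hb₀), hpb₂, h]
        decide
      · exact ⟨b₀, hb₀, h⟩

variable {A : Subgroup G}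

theorem A_le (C : Conf t h y V P F T₄ T p) (hA : ESub C A) : A ≤ MM T F := fun _ ha => (mem_UU.1 (hA.le ha)).1

/-- `Z ≤ A` -/
theorem mem_A (C : Conf t h y V P F T₄ T p) (hA : ESub C A) {z : G} (hz : z ∈ CF F y) : z ∈ A := by
  rw [← hA.inf] at hz
  exact hz.1

/-- `U = AF` -/
theorem exists_A (C : Conf t h y V P F T₄ T p) (hA : ESub C A) {u : G} (hu : u ∈ UU C) : ∃ a ∈ A, p a = p u ∧ a⁻¹ * u ∈ F := by
  obtain ⟨hu1, hu2⟩ := mem_UU.1 hu
  obtain ⟨a, ha, hpa⟩ := hA.surj _ hu2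
  exact ⟨a, ha, hpa, (p_eq_iff C (A_le C hA ha) hu1).1 hpa⟩

/-- `U` centralises `Z` -/
theorem U_comm (C : Conf t h y V P F T₄ T p) (hA : ESub C A) {u z : G} (hu : u ∈ UU C) (hz : z ∈ CF F y) :
    u * z = z * u := by
  obtain ⟨a, ha, -, hf⟩ := exists_A C hA hu
  have h1 := hA.hE.comm ha (mem_A C hA hz)
  have h2 := C.hE.comm hf (CF_le hz)
  calc u * z = a * ((a⁻¹ * u) * z) := by group
    _ = (a * z) * (a⁻¹ * u) := by rw [h2]; group
    _ = z * u := by rw [h1]; group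

theorem U_sq : ∀ x : DihedralGroup 4, x * sr 1 = sr 1 * x → x * x = 1 := by decide

theorem CF_U (C : Conf t h y V P F T₄ T p) (hA : ESub C A) {u : G} (hu : u ∈ UU C) (huF : u ∉ F) :
    CF F u = CF F y := by
  symm
  refine Subgroup.eq_of_le_of_card_ge (fun z hz => mem_CF.2 ⟨CF_le hz, (U_comm C hA hu hz).symm⟩) ?_
  obtain ⟨hu1, hu2⟩ := mem_UU.1 hu
  rw [card_CF C hu1 huF (U_sq _ hu2), card_CF_y C.L C.Y C.D C.hE C.h16]

/-- the involutions of `U` are in `F ∪ A` -/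
theorem inv_U (C : Conf t h y V P F T₄ T p) (hA : ESub C A) {u : G} (hu : u ∈ UU C) (hu2 : u * u = 1) :
    u ∈ F ∨ u ∈ A := by
  by_cases huF : u ∈ F
  · exact Or.inl huF
  right
  obtain ⟨a, ha, hpa, hf⟩ := exists_A C hA hu
  have h1 : a⁻¹ * u ∈ CF F u := by
    rw [← CF_p C (A_le C hA ha) (mem_UU.1 hu).1 hpa, mem_CF]
    refine ⟨hf, ?_⟩
    have h2 := C.hE _ hf
    have h3 : a⁻¹ = a := inv_eq_of_mul_eq_one_left (hA.hE a ha)
    have h4 : u⁻¹ = u := inv_eq_of_mul_eq_one_left hu2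
    rw [mul_inv_cancel_left]
    have h5 : a⁻¹ * u = (a⁻¹ * u)⁻¹ := eq_inv_of_mul_eq_one_left h2
    rw [mul_inv_rev, inv_inv, h4] at h5
    rw [h5, mul_assoc, hA.hE a ha, mul_one]
  rw [CF_U C hA hu huF] at h1
  have := mul_mem ha (mem_A C hA h1)
  rwa [mul_inv_cancel_left] at this

/-- the elementary abelian subgroups of order 16 of `M` are `F` and `A` -/
theorem eq_or_eq (C : Conf t h y V P F T₄ T p) (hA : ESub C A) {B : Subgroup G} (hB : B ≤ MM T F) (hBE : Elem B)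
    (hB16 : Nat.card B = 16) : B = F ∨ B = A := by
  by_cases hne : B = F
  · exact Or.inl hne
  right
  have hB' := esub_of C hB hBE hB16 hne
  refine Subgroup.eq_of_le_of_card_ge ?_ (by rw [hB16, hA.h16])
  intro b hb
  rcases inv_U C hA (hB'.le hb) (hBE b hb) with h | h
  · apply mem_A C hA
    rw [← hB'.inf]
    exact ⟨hb, h⟩
  · exact h

/-! ### conjugates of `t` -/

/-- the conjugate of a subgroup -/
def cj (g : G) (A : Subgroup G) : Subgroup G := A.map (MulAut.conj g).toMonoidHom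

omit [Finite G] in
theorem mem_cj {g x : G} {A : Subgroup G} : x ∈ cj g A ↔ g⁻¹ * x * g ∈ A := by
  constructor
  · rintro ⟨a, ha, rfl⟩
    have : g⁻¹ * (MulAut.conj g).toMonoidHom a * g = a := by
      show g⁻¹ * (g * a * g⁻¹) * g = a
      group
    rw [this]
    exact ha
  · intro h1
    refine ⟨_, h1, ?_⟩
    show g * (g⁻¹ * x * g) * g⁻¹ = x
    group

omit [Finite G] in
theorem conj_mem_cj {g a : G} {A : Subgroup G} (ha : a ∈ A) : g * a * g⁻¹ ∈ cj g A := ⟨a, ha, rfl⟩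

omit [Finite G] in
theorem elem_cj {g : G} {A : Subgroup G} (hA : Elem A) : Elem (cj g A) := by
  rintro _ ⟨f, hf, rfl⟩
  rw [← map_mul, hA f hf, map_one]

omit [Finite G] in
theorem card_cj {g : G} {A : Subgroup G} : Nat.card (cj g A) = Nat.card A :=
  Nat.card_congr (Subgroup.equivMapOfInjective A _ (MulAut.conj g).injective).symm.toEquiv

theorem not_mem_E16 (L : Loc t h V) {A : Subgroup G} (hA : Elem A) (h16 : Nat.card A = 16) (g : G) :
    g * t * g⁻¹ ∉ A := by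
  intro h1
  have h2 := L.e16 (cj g⁻¹ A) (elem_cj hA) (by
    intro a ha
    rw [mem_cj, inv_inv] at ha
    have h3 := hA.comm ha h1
    calc a * t = g⁻¹ * (g * a * g⁻¹ * (g * t * g⁻¹)) * g := by group
      _ = t * a := by rw [h3]; group)
  rw [card_cj, h16] at h2
  omega

theorem not_mem_U (C : Conf t h y V P F T₄ T p) (hA : ESub C A) (g : G) : g * t * g⁻¹ ∉ UU C := by
  intro h1
  have h2 : (g * t * g⁻¹) * (g * t * g⁻¹) = 1 := by
    have : (g * t * g⁻¹) * (g * t * g⁻¹) = g * (t * t) * g⁻¹ := by group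
    rw [this, C.L.t_sq]
    group
  rcases inv_U C hA h1 h2 with h3 | h3
  · exact not_mem_E16 C.L C.hE C.h16 g h3
  · exact not_mem_E16 C.L hA.hE hA.h16 g h3

end Cfsg.Agent.OddCyclic.B2ESub
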