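import Mathlib
import Cfsg.Agent.OddCyclic.B2ESub

/-!
# Case B2, (1.6): `T = N_T(N_T(F))`
-/

set_option autoImplicit false

namespace Cfsg.Agent.OddCyclic.B2ETop

open Cfsg.Agent.LieExceptional Cfsg.Agent.LieExceptional.CITDefs Cfsg.Agent.OddCyclic.B2Defs
  Cfsg.Agent.OddCyclic.B2Tools Cfsg.Agent.OddCyclic.B2Act Cfsg.Agent.OddCyclic.B2Conf Cfsg.Agent.OddCyclic.B2Tv
  Cfsg.Agent.OddCyclic.B2ESub

open DihedralGroup

variable {G : Type*} [Group G] [Finite G] {t h y : G} {V P F T₄ T : Subgroup G} {p : G → DihedralGroup 4}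

/-- `C = F⟨c⟩` -/
def CC (C : Conf t h y V P F T₄ T p) : Subgroup G where
  carrier := {g | g ∈ MM T F ∧ p g * r 1 = r 1 * p g}
  one_mem' := ⟨one_mem _, by rw [p_one C, one_mul, mul_one]⟩
  mul_mem' := by
    rintro a b ⟨ha, ha'⟩ ⟨hb, hb'⟩
    refine ⟨mul_mem ha hb, ?_⟩
    rw [p_mul' C ha hb, mul_assoc, hb', ← mul_assoc, ha', mul_assoc]
  inv_mem' := by
    rintro a ⟨ha, ha'⟩
    refine ⟨inv_mem ha, ?_⟩
    rw [p_inv C ha]
    exact (show Commute (p a) (r 1) from ha').inv_left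

theorem mem_CC {C : Conf t h y V P F T₄ T p} {g : G} : g ∈ CC C ↔ g ∈ MM T F ∧ p g * r 1 = r 1 * p g := Iff.rfl

/-- Thompson transfer: `N_T(F)` is not Sylow -/
theorem ne_T (C : Conf t h y V P F T₄ T p) (hTT : TT t) : MM T F ≠ T := by
  intro hMT
  have htC : t ∉ CC C := by
    rw [mem_CC]
    rintro ⟨-, h1⟩
    rw [C.p_t] at h1
    revert h1
    decide
  have hle : CC C ≤ T := fun g hg => (mem_CC.1 hg).1.1
  obtain ⟨g, hg⟩ := hTT T (CC C) C.syl hle (relIndex_two hle (t_mem C).1 htC (by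
    intro x hx
    rw [← hMT] at hx
    by_cases h1 : p x * r 1 = r 1 * p x
    · exact Or.inl (mem_CC.2 ⟨hx, h1⟩)
    · right
      refine mem_CC.2 ⟨mul_mem (inv_mem (t_mem C)) hx, ?_⟩
      rw [p_mul' C (inv_mem (t_mem C)) hx, p_inv C (t_mem C), C.p_t]
      revert h1
      generalize p x = z
      revert z
      decide)) (t_mem C).1 htC
  obtain ⟨hgM, hpg⟩ := mem_CC.1 hg
  have h2 : (g * t * g⁻¹) * (g * t * g⁻¹) = 1 := by
    have : (g * t * g⁻¹) * (g * t * g⁻¹) = g * (t * t) * g⁻¹ := by group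
    rw [this, C.L.t_sq]
    group
  have h3 : p (g * t * g⁻¹) * p (g * t * g⁻¹) = 1 := by
    rw [← p_mul' C hgM hgM, h2, p_one C]
  have h4 : p (g * t * g⁻¹) = 1 ∨ p (g * t * g⁻¹) = r 2 := by
    revert h3 hpg
    generalize p (g * t * g⁻¹) = z
    revert z
    decide
  rcases h4 with h4 | h4
  · exact not_mem_E16 C.L C.hE C.h16 g ((C.p_ker _ hgM).1 h4)
  · have h5 := (p_eq_iff C (y_mem C) hgM).1 (by rw [C.p_y, h4])
    refine C.hyF _ h5 g ?_
    rw [mul_inv_cancel_left]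

/-- `N_T(M)` -/
def T6 (T F : Subgroup G) : Subgroup G := T ⊓ Subgroup.normalizer (MM T F : Set G)

omit [Finite G] in
theorem T6_norm {g m : G} (hg : g ∈ T6 T F) (hm : m ∈ MM T F) : g * m * g⁻¹ ∈ MM T F :=
  (Subgroup.mem_normalizer_iff.1 hg.2 m).1 hm

omit [Finite G] in
theorem MM_le_T6 : MM T F ≤ T6 T F := le_inf inf_le_left Subgroup.le_normalizer

/-- the configuration with `k` -/
structure KConf (C : Conf t h y V P F T₄ T p) (k : G) (A : Subgroup G) : Prop where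
  k_mem : k ∈ T6 T F
  k_notin : k ∉ MM T F
  hA : ESub C A
  A_eq : A = cj k F

theorem exists_k (C : Conf t h y V P F T₄ T p) (hTT : TT t) : ∃ k A, KConf C k A := by
  obtain ⟨k, hkT, hkM, hk⟩ := grow (MM_le : MM T F ≤ T) C.syl.two (ne_T C hTT)
  refine ⟨k, cj k F, ⟨hkT, mem_norm hk⟩, hkM, ?_, rfl⟩
  refine esub_of C ?_ (elem_cj C.hE) (by rw [card_cj, C.h16]) ?_
  · rintro _ ⟨f, hf, rfl⟩
    exact hk f (F_le_MM C hf)
  · intro h1
    apply hkM
    apply mem_MM C hkT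
    intro f hf
    rw [← h1]
    exact conj_mem_cj hf

variable {k : G} {A : Subgroup G}

theorem A_ne (C : Conf t h y V P F T₄ T p) (hA : ESub C A) : A ≠ F := by
  rintro rfl
  have h1 := hA.inf
  rw [inf_idem] at h1
  have h2 := card_CF_y C.L C.Y C.D C.hE C.h16
  rw [← h1, C.h16] at h2
  omega

theorem A_norm (C : Conf t h y V P F T₄ T p) (hA : ESub C A) {m a : G} (hm : m ∈ MM T F) (ha : a ∈ A) :
    m * a * m⁻¹ ∈ A := by
  have h1 : cj m A ≤ MM T F := by
    rintro _ ⟨b, hb, rfl⟩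
    exact mul_mem (mul_mem hm (A_le C hA hb)) (inv_mem hm)
  rcases eq_or_eq C hA h1 (elem_cj hA.hE) (by rw [card_cj, hA.h16]) with h2 | h2
  · exfalso
    apply A_ne C hA
    ext x
    constructor
    · intro hx
      have h3 : m * x * m⁻¹ ∈ F := by
        rw [← h2]
        exact conj_mem_cj hx
      have h4 := MM_norm (inv_mem hm) h3
      have h5 : m⁻¹ * (m * x * m⁻¹) * m⁻¹⁻¹ = x := by group
      rwa [h5] at h4
    · intro hx
      have h3 := MM_norm hm hx
      rw [← h2, mem_cj] at h3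
      have h5 : m⁻¹ * (m * x * m⁻¹) * m = x := by group
      rwa [h5] at h3
  · rw [← h2]
    exact conj_mem_cj ha

/-- elements of `T` conjugating `F` to `A` are in `kM` -/
theorem mem_kM (C : Conf t h y V P F T₄ T p) (K : KConf C k A) {g : G} (hg : g ∈ T) (h1 : cj g F = A) :
    k⁻¹ * g ∈ MM T F := by
  apply mem_MM C (mul_mem (inv_mem K.k_mem.1) hg)
  intro f hf
  have h2 : g * f * g⁻¹ ∈ A := by
    rw [← h1]
    exact conj_mem_cj hf
  rw [K.A_eq, mem_cj] at h2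
  have h3 : k⁻¹ * g * f * (k⁻¹ * g)⁻¹ = k⁻¹ * (g * f * g⁻¹) * k := by group
  rw [h3]
  exact h2

/-- elements of `T₆ ∖ M` swap `F` and `A` -/
theorem swap_F (C : Conf t h y V P F T₄ T p) (K : KConf C k A) {g : G} (hg : g ∈ T6 T F) (hgM : g ∉ MM T F) :
    cj g F = A := by
  have h1 : cj g F ≤ MM T F := by
    rintro _ ⟨b, hb, rfl⟩
    exact T6_norm hg (F_le_MM C hb)
  rcases eq_or_eq C K.hA h1 (elem_cj C.hE) (by rw [card_cj, C.h16]) with h2 | h2
  · exfalso
    apply hgM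
    apply mem_MM C hg.1
    intro f hf
    rw [← h2]
    exact conj_mem_cj hf
  · exact h2

theorem swap_A (C : Conf t h y V P F T₄ T p) (K : KConf C k A) {g : G} (hg : g ∈ T6 T F) (hgM : g ∉ MM T F) :
    cj g A = F := by
  have h1 : cj g A ≤ MM T F := by
    rintro _ ⟨b, hb, rfl⟩
    exact T6_norm hg (A_le C K.hA hb)
  rcases eq_or_eq C K.hA h1 (elem_cj K.hA.hE) (by rw [card_cj, K.hA.h16]) with h2 | h2
  · exact h2
  · exfalso
    apply A_ne C K.hA
    have h3 := swap_F C K hg hgM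
    ext x
    constructor
    · intro hx
      have h4 : g * x * g⁻¹ ∈ cj g F := by
        rw [h3, ← h2]
        exact conj_mem_cj hx
      rw [mem_cj] at h4
      have h5 : g⁻¹ * (g * x * g⁻¹) * g = x := by group
      rwa [h5] at h4
    · intro hx
      have h4 : g * x * g⁻¹ ∈ cj g A := by
        rw [h2, ← h3]
        exact conj_mem_cj hx
      rw [mem_cj] at h4
      have h5 : g⁻¹ * (g * x * g⁻¹) * g = x := by group
      rwa [h5] at h4

theorem mul_mem_M (C : Conf t h y V P F T₄ T p) (K : KConf C k A) {g g' : G} (hg : g ∈ T6 T F) (hgM : g ∉ MM T F)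
    (hg' : g' ∈ T6 T F) (hgM' : g' ∉ MM T F) : g * g' ∈ MM T F := by
  apply mem_MM C (mul_mem hg.1 hg'.1)
  intro f hf
  have h1 : g' * f * g'⁻¹ ∈ A := by
    rw [← swap_F C K hg' hgM']
    exact conj_mem_cj hf
  have h2 : g * g' * f * (g * g')⁻¹ = g * (g' * f * g'⁻¹) * g⁻¹ := by group
  rw [h2, ← swap_A C K hg hgM]
  exact conj_mem_cj h1

/-- `t` does not centralise `Z` -/
theorem t_not_cent (C : Conf t h y V P F T₄ T p) (h1 : ∀ z ∈ CF F y, t * z = z * t) : False := by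
  apply CF_t_ne_y C.L C.Y C.D
  symm
  refine Subgroup.eq_of_le_of_card_ge (fun z hz => mem_CF.2 ⟨CF_le hz, (h1 z hz).symm⟩) ?_
  rw [CF_t C.L C.D.toPData, C.L.card_V, card_CF_y C.L C.Y C.D C.hE C.h16]

/-- the elementary abelian subgroups of order 16 of `T₆` -/
theorem eq_or_eq_T6 (C : Conf t h y V P F T₄ T p) (K : KConf C k A) {B : Subgroup G} (hB : B ≤ T6 T F) (hBE : Elem B)
    (hB16 : Nat.card B = 16) : B = F ∨ B = A := by
  by_cases hBM : B ≤ MM T F
  · exact eq_or_eq C K.hA hBM hBE hB16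
  exfalso
  obtain ⟨b, hb, hbM⟩ := SetLike.not_le_iff_exists.1 hBM
  have hZ : B ⊓ UU C ≤ CF F y := by
    rintro x ⟨hx, hxU⟩
    have hxb : b * x * b⁻¹ = x := by rw [hBE.comm hb hx, mul_inv_cancel_right]
    rw [← K.hA.inf]
    rcases inv_U C K.hA hxU (hBE x hx) with h1 | h1
    · refine ⟨?_, h1⟩
      rw [← swap_F C K (hB hb) hbM, ← hxb]
      exact conj_mem_cj h1
    · refine ⟨h1, ?_⟩
      rw [← swap_A C K (hB hb) hbM, ← hxb]
      exact conj_mem_cj h1
  have hcard : Nat.card (B ⊓ UU C : Subgroup G) ≤ 4 := by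
    have h1 := Nat.card_le_card_of_injective _ (Subgroup.inclusion_injective hZ)
    rwa [card_CF_y C.L C.Y C.D C.hE C.h16] at h1
  have hk : ∀ x ∈ B, x ∉ MM T F → k⁻¹ * x ∈ UU C ∨ (k * t)⁻¹ * x ∈ UU C := by
    intro x hx hxM
    have h1 := mem_kM C K (hB hx).1 (swap_F C K (hB hx) hxM)
    by_cases h2 : k⁻¹ * x ∈ UU C
    · exact Or.inl h2
    · right
      have h3 := t_mul_mem C h1 h2
      have h4 : (k * t)⁻¹ * x = t⁻¹ * (k⁻¹ * x) := by group
      rwa [h4]
  obtain ⟨b', hb', hb'M, hb'U⟩ : ∃ b' ∈ B, b' ∈ MM T F ∧ b' ∉ UU C := by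
    by_contra hcon
    push Not at hcon
    have h1 := card_le_cover (A := B) (F := UU C) ![1, k, k * t] (by
      intro x hx
      by_cases hxM : x ∈ MM T F
      · refine ⟨0, ?_⟩
        show (1 : G)⁻¹ * x ∈ UU C
        rw [inv_one, one_mul]
        exact hcon x hx hxM
      · rcases hk x hx hxM with h1 | h1
        · exact ⟨1, h1⟩
        · exact ⟨2, h1⟩)
    rw [hB16, Nat.card_fin] at h1
    omega
  have h4 : 4 ≤ Nat.card (B ⊓ UU C : Subgroup G) := by
    have h1 := card_le_cover (A := B) (F := UU C) ![1, t, k, k * t] (by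
      intro x hx
      by_cases hxM : x ∈ MM T F
      · by_cases hxU : x ∈ UU C
        · refine ⟨0, ?_⟩
          show (1 : G)⁻¹ * x ∈ UU C
          rw [inv_one, one_mul]
          exact hxU
        · exact ⟨1, t_mul_mem C hxM hxU⟩
      · rcases hk x hx hxM with h1 | h1
        · exact ⟨2, h1⟩
        · exact ⟨3, h1⟩)
    rw [hB16, Nat.card_fin] at h1
    omega
  have hZe : B ⊓ UU C = CF F y :=
    Subgroup.eq_of_le_of_card_ge hZ (by rw [card_CF_y C.L C.Y C.D C.hE C.h16]; exact h4)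
  apply t_not_cent C
  intro z hz
  have hzB : z ∈ B := by
    rw [← hZe] at hz
    exact hz.1
  have h5 := hBE.comm hb' hzB
  have h6 := U_comm C K.hA (t_mul_mem C hb'M hb'U) hz
  calc t * z = b' * ((t⁻¹ * b')⁻¹ * z) := by group
    _ = b' * (z * (t⁻¹ * b')⁻¹) := by rw [(show Commute (t⁻¹ * b') z from h6).inv_left.eq]
    _ = (b' * z) * (t⁻¹ * b')⁻¹ := by group
    _ = z * t := by rw [h5]; group

/-- `T = N_T(M)` -/
theorem eq_T6 (C : Conf t h y V P F T₄ T p) (K : KConf C k A) : T6 T F = T := by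
  by_contra hne
  obtain ⟨g, hgT, hg6, hgN⟩ := grow (inf_le_left : T6 T F ≤ T) C.syl.two hne
  have h1 : cj g F ≤ T6 T F := by
    rintro _ ⟨b, hb, rfl⟩
    exact hgN b (MM_le_T6 (F_le_MM C hb))
  rcases eq_or_eq_T6 C K h1 (elem_cj C.hE) (by rw [card_cj, C.h16]) with h2 | h2
  · apply hg6
    apply MM_le_T6
    apply mem_MM C hgT
    intro f hf
    rw [← h2]
    exact conj_mem_cj hf
  · apply hg6
    have h3 := mul_mem K.k_mem (MM_le_T6 (mem_kM C K hgT h2))
    rwa [mul_inv_cancel_left] at h3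

end Cfsg.Agent.OddCyclic.B2ETop
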