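import Mathlib
import Cfsg.Agent.OddCyclic.B2ETop

/-!
# Case B2, (1.7)
-/

set_option autoImplicit false

namespace Cfsg.Agent.OddCyclic.B2EFin

open Cfsg.Agent.LieExceptional Cfsg.Agent.LieExceptional.CITDefs Cfsg.Agent.OddCyclic.B2Defs
  Cfsg.Agent.OddCyclic.B2Tools Cfsg.Agent.OddCyclic.B2Act Cfsg.Agent.OddCyclic.B2Conf Cfsg.Agent.OddCyclic.B2Tv
  Cfsg.Agent.OddCyclic.B2ESub Cfsg.Agent.OddCyclic.B2ETop

open DihedralGroup

section Quat

variable {G : Type*} [Group G]

/-- the quaternion group of (1.7) -/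
theorem quaternion {w i z f fs g gs c d : G} (hi : i * i = 1) (hz : z * z = 1) (hf : f * f = 1) (hfs : fs * fs = 1)
    (hg : g * g = 1) (hgs : gs * gs = 1) (hfg : f * g = g * f) (hfgs : fs * gs = gs * fs)
    (hif : Commute i f) (hifs : Commute i fs) (hig : Commute i g) (higs : Commute i gs)
    (hzf : Commute z f) (hzfs : Commute z fs) (hzg : Commute z g) (hzgs : Commute z gs) (hzi : Commute z i)
    (hcf : Commute c f) (hcfs : Commute c fs) (hcg : Commute c g) (hcgs : Commute c gs) (hcd : Commute c d)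
    (hdf : Commute d f) (hdfs : Commute d fs) (hdg : Commute d g) (hdgs : Commute d gs)
    (hci : Commute c i) (hdi : Commute d i) (hcc : c * c = 1) (hdd : d * d = 1)
    (r1 : f * fs = i * (fs * f)) (r2 : g * gs = i * (gs * g)) (r3 : (f * g) * (fs * gs) = i * ((fs * gs) * (f * g)))
    (rc : g * fs = c * (fs * g)) (rd : f * gs = d * (gs * f))
    (hwf : w * f * w⁻¹ = fs) (hwfs : w * fs * w⁻¹ = f) (hwz : w * z * w⁻¹ = i * z)
    (hwg : w * g * w⁻¹ = gs) (hwgs : w * gs * w⁻¹ = g) :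
    ∃ a b : G, a * w = w * a ∧ b * w = w * b ∧ a * a = i ∧ b * b = i ∧ a * b * a⁻¹ * b⁻¹ = i := by
  have r1' : fs * f = i * (f * fs) := by rw [r1, ← mul_assoc, hi, one_mul]
  have r2' : gs * g = i * (g * gs) := by rw [r2, ← mul_assoc, hi, one_mul]
  have key : ∀ {f fs : G}, Commute z f → Commute z fs → Commute i f → Commute i fs → f * f = 1 → fs * fs = 1 →
      f * fs = i * (fs * f) → w * f * w⁻¹ = fs → w * fs * w⁻¹ = f →
      (f * fs * z) * w = w * (f * fs * z) ∧ (f * fs * z) * (f * fs * z) = i := by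
    intro f fs hzf hzfs hif hifs hf hfs r1 hwf hwfs
    have r1' : fs * f = i * (f * fs) := by rw [r1, ← mul_assoc, hi, one_mul]
    constructor
    · have h1 : w * (f * fs * z) * w⁻¹ = f * fs * z := by
        calc w * (f * fs * z) * w⁻¹ = (w * f * w⁻¹) * (w * fs * w⁻¹) * (w * z * w⁻¹) := by group
          _ = (fs * f) * (i * z) := by rw [hwf, hwfs, hwz]
          _ = i * (f * fs) * (i * z) := by rw [r1']
          _ = (i * i) * (f * fs * z) := by
            have h2 : (f * fs) * i = i * (f * fs) := (hif.mul_right hifs).eq.symm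
            calc i * (f * fs) * (i * z) = i * ((f * fs) * i) * z := by group
              _ = (i * i) * (f * fs * z) := by rw [h2]; group
          _ = f * fs * z := by rw [hi, one_mul]
      exact (mul_inv_eq_iff_eq_mul.1 h1).symm
    · have h2 : z * (f * fs) = (f * fs) * z := (hzf.mul_right hzfs).eq
      calc (f * fs * z) * (f * fs * z) = (f * fs) * (z * (f * fs)) * z := by group
        _ = (f * fs) * (f * fs) * (z * z) := by rw [h2]; group
        _ = f * (fs * f) * fs := by rw [hz]; group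
        _ = f * (i * (f * fs)) * fs := by rw [r1']
        _ = (f * i) * f * (fs * fs) := by group
        _ = i * (f * f) := by rw [hfs, ← hif.eq]; group
        _ = i := by rw [hf, mul_one]
  obtain ⟨ka1, ka2⟩ := key hzf hzfs hif hifs hf hfs r1 hwf hwfs
  obtain ⟨kb1, kb2⟩ := key hzg hzgs hig higs hg hgs r2 hwg hwgs
  refine ⟨f * fs * z, g * gs * z, ka1, kb1, ka2, kb2, ?_⟩
  -- `c d = i`
  have rc' : fs * g = c * (g * fs) := by rw [rc, ← mul_assoc, hcc, one_mul]
  have rd' : gs * f = d * (f * gs) := by rw [rd, ← mul_assoc, hdd, one_mul]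
  have hcdi : c * d = i := by
    -- `fs gs f g = c d (i f fs)(i g gs)`-type computation
    have h1 : fs * gs * (f * g) = d * c * (f * g * (fs * gs)) := by
      calc fs * gs * (f * g) = fs * (gs * f) * g := by group
        _ = fs * (d * (f * gs)) * g := by rw [rd']
        _ = (fs * d) * f * (gs * g) := by group
        _ = (d * fs) * f * (i * (g * gs)) := by rw [← hdfs.eq, r2']
        _ = d * (fs * f) * i * (g * gs) := by group
        _ = d * (i * (f * fs)) * i * (g * gs) := by rw [r1']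
        _ = d * (i * ((f * fs) * i)) * (g * gs) := by group
        _ = d * (i * (i * (f * fs))) * (g * gs) := by rw [← (hif.mul_right hifs).eq]
        _ = d * ((i * i) * (f * fs)) * (g * gs) := by group
        _ = d * f * (fs * g) * gs := by rw [hi]; group
        _ = d * f * (c * (g * fs)) * gs := by rw [rc']
        _ = d * (f * c) * (g * fs * gs) := by group
        _ = d * (c * f) * (g * fs * gs) := by rw [← hcf.eq]
        _ = _ := by group
    have h2 : i * (d * c) = 1 := mul_right_cancel (b := f * g * (fs * gs)) (by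
      rw [one_mul, mul_assoc, ← h1]
      exact r3.symm)
    have h3 : d * c = i := by
      calc d * c = i * (i * (d * c)) := by rw [← mul_assoc, hi, one_mul]
        _ = i := by rw [h2, mul_one]
    rw [hcd.eq, h3]
  -- the commutator
  have h1 : (f * fs * z) * (g * gs * z) = i * ((g * gs * z) * (f * fs * z)) := by
    have e1 : (f * fs * z) * (g * gs * z) = f * (fs * g) * gs := by
      have h2 : z * (g * gs) = (g * gs) * z := (hzg.mul_right hzgs).eq
      calc (f * fs * z) * (g * gs * z) = (f * fs) * (z * (g * gs)) * z := by group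
        _ = (f * fs) * (g * gs) * (z * z) := by rw [h2]; group
        _ = f * (fs * g) * gs := by rw [hz]; group
    have e2 : (g * gs * z) * (f * fs * z) = g * (gs * f) * fs := by
      have h2 : z * (f * fs) = (f * fs) * z := (hzf.mul_right hzfs).eq
      calc (g * gs * z) * (f * fs * z) = (g * gs) * (z * (f * fs)) * z := by group
        _ = (g * gs) * (f * fs) * (z * z) := by rw [h2]; group
        _ = g * (gs * f) * fs := by rw [hz]; group
    have e3 : f * (fs * g) * gs = c * (f * g * (fs * gs)) := by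
      calc f * (fs * g) * gs = (f * c) * (g * fs * gs) := by rw [rc']; group
        _ = c * (f * g * (fs * gs)) := by rw [← hcf.eq]; group
    have e4 : g * (gs * f) * fs = d * (f * g * (fs * gs)) := by
      calc g * (gs * f) * fs = (g * d) * (f * gs * fs) := by rw [rd']; group
        _ = d * ((g * f) * (gs * fs)) := by rw [← hdg.eq]; group
        _ = d * (f * g * (fs * gs)) := by rw [← hfg, ← hfgs]
    rw [e1, e2, e3, e4, ← mul_assoc i, ← hcdi, mul_assoc c d d, hdd, mul_one]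
  calc f * fs * z * (g * gs * z) * (f * fs * z)⁻¹ * (g * gs * z)⁻¹
      = i * ((g * gs * z) * (f * fs * z)) * (f * fs * z)⁻¹ * (g * gs * z)⁻¹ := by rw [h1]
    _ = i := by group

end Quat

variable {G : Type*} [Group G] [Finite G] {t h y : G} {V P F T₄ T : Subgroup G} {p : G → DihedralGroup 4}
  {k : G} {A : Subgroup G}

theorem Z_norm (C : Conf t h y V P F T₄ T p) (K : KConf C k A) : ∀ g ∈ T, ∀ z ∈ CF F y, g * z * g⁻¹ ∈ CF F y := by
  intro g hg z hz
  rw [← K.hA.inf] at hz ⊢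
  by_cases hgM : g ∈ MM T F
  · exact ⟨A_norm C K.hA hgM hz.1, MM_norm hgM hz.2⟩
  · have hg6 : g ∈ T6 T F := by rw [eq_T6 C K]; exact hg
    constructor
    · rw [← swap_F C K hg6 hgM]
      exact conj_mem_cj hz.2
    · have h1 := conj_mem_cj (g := g) hz.1
      rwa [swap_A C K hg6 hgM] at h1

/-- the commutator of `f ∈ F` and `a ∈ A` is in `Z` -/
theorem comm_mem (C : Conf t h y V P F T₄ T p) (K : KConf C k A) {f a : G} (hf : f ∈ F) (ha : a ∈ A) :
    f * a * f⁻¹ * a⁻¹ ∈ CF F y := by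
  rw [← K.hA.inf]
  refine Subgroup.mem_inf.2 ⟨?_, ?_⟩
  · exact mul_mem (A_norm C K.hA (F_le_MM C hf) ha) (inv_mem ha)
  · have h1 : f * a * f⁻¹ * a⁻¹ = f * (a * f⁻¹ * a⁻¹) := by group
    rw [h1]
    exact mul_mem hf (MM_norm (A_le C K.hA ha) (inv_mem hf))

/-- an element of `F ∖ Z` does not commute with its image under a swap -/
theorem not_comm (C : Conf t h y V P F T₄ T p) (K : KConf C k A) {f a : G} (hf : f ∈ F) (hfZ : f ∉ CF F y)
    (ha : a ∈ A) (haZ : a ∉ CF F y) : f * a ≠ a * f := by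
  intro h1
  apply hfZ
  have haF : a ∉ F := by
    intro h2
    apply haZ
    rw [← K.hA.inf]
    exact ⟨ha, h2⟩
  rw [← CF_U C K.hA (K.hA.le ha) haF, mem_CF]
  exact ⟨hf, h1⟩

/-- **(1.7)** -/
theorem conf_false (C : Conf t h y V P F T₄ T p) (K : KConf C k A) (hTT : TT t) : False := by
  have hT6 := eq_T6 C K
  have hZE : Elem (CF F y) := fun z hz => C.hE z (CF_le hz)
  have hZ4 : Nat.card (CF F y) = 4 := card_CF_y C.L C.Y C.D C.hE C.h16
  obtain ⟨i, hi, hi1, hifix⟩ := B2Four.exists_fixed C.syl.two hZ4 (Z_norm C K)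
  obtain ⟨z, hz, htz⟩ : ∃ z ∈ CF F y, t * z ≠ z * t := by
    by_contra hcon
    push Not at hcon
    exact t_not_cent C hcon
  have hz1 : z ≠ 1 := by
    rintro rfl
    apply htz
    rw [mul_one, one_mul]
  have htT : t ∈ T := (t_mem C).1
  have hzi : z ≠ i := by
    rintro rfl
    exact htz (hifix t htT)
  have hcases : ∀ g ∈ T, (∀ x ∈ CF F y, g * x = x * g) ∨ g * z * g⁻¹ = i * z := by
    intro g hg
    rcases B2Four.act_cases hZE hZ4 hi hz hi1 hz1 hzi (Z_norm C K g hg) (hifix g hg) with h1 | h1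
    · left
      intro x hx
      exact ((Subgroup.mem_centralizer_iff.1 h1) x hx).symm
    · exact Or.inr h1
  have hcases' : ∀ g ∈ T, g * z * g⁻¹ = z ∨ g * z * g⁻¹ = i * z := by
    intro g hg
    rcases hcases g hg with h1 | h1
    · left
      rw [h1 z hz, mul_inv_cancel_right]
    · exact Or.inr h1
  have hiz : i * z ≠ z := fun h => hi1 (mul_right_cancel (b := z) (by rw [h, one_mul]))
  have hii : i * i = 1 := hZE i hi
  have hzz : z * z = 1 := hZE z hz
  -- the two index-two conditions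
  have hQ : ∀ a ∈ T, ∀ b ∈ T, (a * b * z * (a * b)⁻¹ = z ↔ (a * z * a⁻¹ = z ↔ b * z * b⁻¹ = z)) := by
    intro a ha b hb
    have h1 : a * b * z * (a * b)⁻¹ = a * (b * z * b⁻¹) * a⁻¹ := by group
    have h2 : a * (i * z) * a⁻¹ = i * (a * z * a⁻¹) := by
      calc a * (i * z) * a⁻¹ = (a * i) * z * a⁻¹ := by group
        _ = i * (a * z * a⁻¹) := by rw [hifix a ha]; group
    have h3 : i * (i * z) = z := by rw [← mul_assoc, hii, one_mul]
    rcases hcases' a ha with ha' | ha' <;> rcases hcases' b hb with hb' | hb'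
    · rw [h1, hb', ha']; simp
    · rw [h1, hb', h2, ha']; simp [hiz]
    · rw [h1, hb', ha']; simp [hiz]
    · rw [h1, hb', h2, ha', h3]; simp [hiz]
  have hM : ∀ a ∈ T, ∀ b ∈ T, (a * b ∈ MM T F ↔ (a ∈ MM T F ↔ b ∈ MM T F)) := by
    intro a ha b hb
    by_cases ha' : a ∈ MM T F
    · rw [Subgroup.mul_mem_cancel_left _ ha']
      simp [ha']
    · by_cases hb' : b ∈ MM T F
      · rw [Subgroup.mul_mem_cancel_right _ hb']
        simp [ha', hb']
      · simp only [ha', hb', iff_self, iff_true]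
        exact mul_mem_M C K (hT6.symm ▸ ha) ha' (hT6.symm ▸ hb) hb'
  let T₀ : Subgroup G :=
    { carrier := {g | g ∈ T ∧ (g ∈ MM T F ↔ g * z * g⁻¹ = z)}
      one_mem' := ⟨one_mem _, by simp [one_mem]⟩
      mul_mem' := by
        rintro a b ⟨ha, ha'⟩ ⟨hb, hb'⟩
        refine ⟨mul_mem ha hb, ?_⟩
        rw [hM a ha b hb, hQ a ha b hb, ha', hb']
      inv_mem' := by
        rintro a ⟨ha, ha'⟩
        refine ⟨inv_mem ha, ?_⟩
        have h1 := hQ a ha _ (inv_mem ha)
        have h2 : a * a⁻¹ * z * (a * a⁻¹)⁻¹ = z := by group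
        have h3 := h1.1 h2
        rw [← h3, ← ha', Subgroup.inv_mem_iff] }
  have hT₀ : ∀ g, g ∈ T₀ ↔ g ∈ T ∧ (g ∈ MM T F ↔ g * z * g⁻¹ = z) := fun g => Iff.rfl
  have htz' : t * z * t⁻¹ = i * z := by
    rcases hcases' t htT with h1 | h1
    · exact absurd (mul_inv_eq_iff_eq_mul.1 h1) htz
    · exact h1
  have htT₀ : t ∉ T₀ := by
    rw [hT₀]
    rintro ⟨-, h1⟩
    have h2 := h1.1 (t_mem C)
    rw [htz'] at h2
    exact hiz h2
  have hle : T₀ ≤ T := fun g hg => hg.1
  obtain ⟨g, hg⟩ := hTT T T₀ C.syl hle (relIndex_two hle htT htT₀ (by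
    intro x hx
    by_cases h1 : x ∈ T₀
    · exact Or.inl h1
    right
    rw [hT₀] at h1 ⊢
    refine ⟨mul_mem (inv_mem htT) hx, ?_⟩
    rw [hM _ (inv_mem htT) x hx, hQ _ (inv_mem htT) x hx]
    have h2 : ¬ (x ∈ MM T F ↔ x * z * x⁻¹ = z) := fun h => h1 ⟨hx, h⟩
    have h3 : t⁻¹ ∈ MM T F := inv_mem (t_mem C)
    have h4 : ¬ (t⁻¹ * z * t⁻¹⁻¹ = z) := by
      rw [t_inv C.L, htz']
      exact hiz
    tauto)) htT htT₀
  -- the involution `w`
  have hw2 : (g * t * g⁻¹) * (g * t * g⁻¹) = 1 := by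
    have : (g * t * g⁻¹) * (g * t * g⁻¹) = g * (t * t) * g⁻¹ := by group
    rw [this, C.L.t_sq]
    group
  have hnU := not_mem_U C K.hA g
  have hback : ∀ x : G, x * (g * t * g⁻¹) = g * t * g⁻¹ * x → (g⁻¹ * x * g) * t = t * (g⁻¹ * x * g) := by
    intro x hx
    calc (g⁻¹ * x * g) * t = g⁻¹ * (x * (g * t * g⁻¹)) * g := by group
      _ = t * (g⁻¹ * x * g) := by rw [hx]; group
  set w := g * t * g⁻¹ with hw
  obtain ⟨hwT, hwM⟩ := (hT₀ w).1 hg
  have hwnM : w ∉ MM T F := by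
    intro h1
    have h2 := hwM.1 h1
    apply hnU
    by_contra h3
    have h4 := U_comm C K.hA (t_mul_mem C h1 h3) hz
    apply htz
    have h5 := mul_inv_eq_iff_eq_mul.1 h2
    calc t * z = w * ((t⁻¹ * w)⁻¹ * z) := by group
      _ = w * (z * (t⁻¹ * w)⁻¹) := by rw [(show Commute (t⁻¹ * w) z from h4).inv_left.eq]
      _ = (w * z) * (t⁻¹ * w)⁻¹ := by group
      _ = z * t := by rw [h5]; group
  have hwz : w * z * w⁻¹ = i * z := by
    rcases hcases' w hwT with h1 | h1
    · exact absurd (hwM.2 h1) hwnM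
    · exact h1
  have hw6 : w ∈ T6 T F := by rw [hT6]; exact hwT
  have hwinv : w⁻¹ = w := inv_eq_of_mul_eq_one_left hw2
  have hFA : ∀ f ∈ F, w * f * w⁻¹ ∈ A := by
    intro f hf
    rw [← swap_F C K hw6 hwnM]
    exact conj_mem_cj hf
  have hww : ∀ f : G, w * (w * f * w⁻¹) * w⁻¹ = f := by
    intro f
    have h1 : w * (w * f * w⁻¹) * w⁻¹ = (w * w) * f * (w * w)⁻¹ := by group
    rw [h1, hw2]
    group
  have hnZ : ∀ f, f ∉ CF F y → w * f * w⁻¹ ∉ CF F y := by
    intro f hf h1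
    apply hf
    rw [← hww f]
    exact Z_norm C K w hwT _ h1
  have hr1 : ∀ f ∈ F, f ∉ CF F y → f * (w * f * w⁻¹) = i * ((w * f * w⁻¹) * f) := by
    intro f hf hfZ
    set fs := w * f * w⁻¹ with hfs
    have hfsA : fs ∈ A := hFA f hf
    have hb := comm_mem C K hf hfsA
    have hbw : w * (f * fs * f⁻¹ * fs⁻¹) * w⁻¹ = f * fs * f⁻¹ * fs⁻¹ := by
      have h1 : w * (f * fs * f⁻¹ * fs⁻¹) * w⁻¹ = (w * f * w⁻¹) * (w * fs * w⁻¹) * (w * f * w⁻¹)⁻¹ * (w * fs * w⁻¹)⁻¹ := by
        group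
      have h2 : w * fs * w⁻¹ = f := hww f
      have h3 : (f * fs * f⁻¹ * fs⁻¹)⁻¹ = f * fs * f⁻¹ * fs⁻¹ := inv_eq_of_mul_eq_one_left (hZE _ hb)
      rw [h1, h2, ← hfs]
      calc fs * f * fs⁻¹ * f⁻¹ = (f * fs * f⁻¹ * fs⁻¹)⁻¹ := by group
        _ = _ := h3
    have hmul : f * fs = (f * fs * f⁻¹ * fs⁻¹) * (fs * f) := by group
    rcases B2Four.mem_four' hZE hZ4 hi hz hi1 hz1 hzi hb with h1 | h1 | h1 | h1
    · exfalso
      apply not_comm C K hf hfZ hfsA (hnZ f hfZ)
      rw [hmul, h1, one_mul]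
    · rw [hmul, h1]
    · exfalso
      rw [h1, hwz] at hbw
      exact hiz hbw
    · exfalso
      rw [h1] at hbw
      have h2 : w * (i * z) * w⁻¹ = i * (w * z * w⁻¹) := by
        calc w * (i * z) * w⁻¹ = (w * i) * z * w⁻¹ := by group
          _ = i * (w * z * w⁻¹) := by rw [hifix w hwT]; group
      rw [h2, hwz] at hbw
      exact hiz (mul_left_cancel hbw)
  -- the two elements
  obtain ⟨f, hf, hfZ⟩ : ∃ f ∈ F, f ∉ CF F y := by
    by_contra hcon
    push Not at hcon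
    have h1 := Nat.card_le_card_of_injective _ (Subgroup.inclusion_injective hcon)
    rw [C.h16, hZ4] at h1
    omega
  obtain ⟨f', hf', hf'Z, hff'⟩ : ∃ f' ∈ F, f' ∉ CF F y ∧ f⁻¹ * f' ∉ CF F y := by
    by_contra hcon
    push Not at hcon
    have h1 := card_le_cover (A := F) (F := CF F y) ![1, f] (by
      intro x hx
      by_cases h2 : x ∈ CF F y
      · refine ⟨0, ?_⟩
        show (1 : G)⁻¹ * x ∈ CF F y
        rwa [inv_one, one_mul]
      · exact ⟨1, hcon x hx h2⟩)
    have h2 : F ⊓ CF F y = CF F y := inf_eq_right.2 CF_le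
    rw [h2, C.h16, hZ4, Nat.card_fin] at h1
    omega
  rw [F_inv C hf] at hff'
  have hcF : ∀ a ∈ CF F y, ∀ b ∈ F, Commute a b := fun a ha b hb => C.hE.comm (CF_le ha) hb
  have hcA : ∀ a ∈ CF F y, ∀ b ∈ A, Commute a b := fun a ha b hb => K.hA.hE.comm (mem_A C K.hA ha) hb
  have hc := comm_mem C K hf' (hFA f hf)
  have hd := comm_mem C K hf (hFA f' hf')
  obtain ⟨a, b, ha, hb, ha2, hb2, hab⟩ := quaternion (w := w) (i := i) (z := z) (f := f) (fs := w * f * w⁻¹)
    (g := f') (gs := w * f' * w⁻¹) (c := f' * (w * f * w⁻¹) * f'⁻¹ * (w * f * w⁻¹)⁻¹)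
    (d := f * (w * f' * w⁻¹) * f⁻¹ * (w * f' * w⁻¹)⁻¹) hii hzz (C.hE f hf) (K.hA.hE _ (hFA f hf)) (C.hE f' hf')
    (K.hA.hE _ (hFA f' hf')) (C.hE.comm hf hf') (K.hA.hE.comm (hFA f hf) (hFA f' hf'))
    (hcF i hi f hf) (hcA i hi _ (hFA f hf)) (hcF i hi f' hf') (hcA i hi _ (hFA f' hf'))
    (hcF z hz f hf) (hcA z hz _ (hFA f hf)) (hcF z hz f' hf') (hcA z hz _ (hFA f' hf')) (hcF z hz i (CF_le hi))
    (hcF _ hc f hf) (hcA _ hc _ (hFA f hf)) (hcF _ hc f' hf') (hcA _ hc _ (hFA f' hf')) (hcF _ hc _ (CF_le hd))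
    (hcF _ hd f hf) (hcA _ hd _ (hFA f hf)) (hcF _ hd f' hf') (hcA _ hd _ (hFA f' hf')) (hcF _ hc i (CF_le hi))
    (hcF _ hd i (CF_le hi)) (hZE _ hc) (hZE _ hd) (hr1 f hf hfZ) (hr1 f' hf' hf'Z) (by
      have h1 := hr1 (f * f') (mul_mem hf hf') hff'
      have h2 : w * (f * f') * w⁻¹ = w * f * w⁻¹ * (w * f' * w⁻¹) := by group
      rwa [h2] at h1) (by group) (by group) rfl (hww f) hwz rfl (hww f')
  -- back to `t`
  have hfin := C.L.q8 (g⁻¹ * a * g) (g⁻¹ * b * g) (g⁻¹ * i * g) (hback a ha) (hback b hb)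
    (by
      calc g⁻¹ * a * g * (g⁻¹ * a * g) = g⁻¹ * (a * a) * g := by group
        _ = _ := by rw [ha2])
    (by
      calc g⁻¹ * b * g * (g⁻¹ * b * g) = g⁻¹ * (b * b) * g := by group
        _ = _ := by rw [hb2])
    (by
      calc g⁻¹ * a * g * (g⁻¹ * b * g) * (g⁻¹ * a * g)⁻¹ * (g⁻¹ * b * g)⁻¹ = g⁻¹ * (a * b * a⁻¹ * b⁻¹) * g := by group
        _ = _ := by rw [hab])
    (by
      calc g⁻¹ * i * g * (g⁻¹ * i * g) = g⁻¹ * (i * i) * g := by group
        _ = 1 := by rw [hii]; group)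
  apply hi1
  calc i = g * (g⁻¹ * i * g) * g⁻¹ := by group
    _ = 1 := by rw [hfin]; group

end Cfsg.Agent.OddCyclic.B2EFin
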