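import Cfsg.Agent.OddCyclic.T1Class2
import Cfsg.Agent.OddCyclic.B2Defs
import Cfsg.Agent.GTwoFour.Tools

/-!
# S0342, case B2, (1.3): LEMMA B (helper51)

`T₄ = F⟨t, y⟩` Sylow in `N_G(V)`, not Sylow in `G`: `F` is elementary abelian of order 16.
-/

set_option autoImplicit false

namespace Cfsg.Agent.OddCyclic.B2LemB

open Cfsg.Agent.LieExceptional.CITDefs Cfsg.Agent.OddCyclic Cfsg.Agent.OddCyclic.B2Defs
open scoped commutatorElement

variable {G : Type*} [Group G]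

/-! ### basic facts -/

section basic

variable {t h : G} {V P F : Subgroup G}

theorem h_ne (L : Loc t h V) : h ≠ 1 := by
  intro h0
  have h1 : V = ⊥ := by
    rw [Subgroup.eq_bot_iff_forall]
    intro v hv
    exact L.fpfV v hv (by rw [h0, one_mul, mul_one])
  have h2 := L.card_V
  rw [h1, Subgroup.card_bot] at h2
  omega

theorem order_h (L : Loc t h V) : orderOf h = 3 := by
  have : Fact (Nat.Prime 3) := ⟨Nat.prime_three⟩
  exact orderOf_eq_prime (by rw [pow_succ, pow_two]; exact L.h_cube) (h_ne L)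

theorem inv_h (L : Loc t h V) : h⁻¹ = h * h := (eq_inv_of_mul_eq_one_left L.h_cube).symm

/-- a subgroup normalised by `h` is normalised by `h⁻¹` -/
theorem inv_conj (L : Loc t h V) {A : Subgroup G} (hA : ∀ a ∈ A, h * a * h⁻¹ ∈ A) {a : G} (ha : a ∈ A) :
    h⁻¹ * a * h ∈ A := by
  have h1 := hA _ (hA a ha)
  have h2 : h⁻¹ * a * h = h * (h * a * h⁻¹) * h⁻¹ := by
    calc h⁻¹ * a * h = h⁻¹ * a * (h⁻¹)⁻¹ := by rw [inv_inv]
      _ = (h * h) * a * (h * h)⁻¹ := by rw [inv_h L]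
      _ = _ := by group
  rw [h2]; exact h1

theorem two (D : PData t h V P F) : IsPGroup 2 F := by
  have hle : F ≤ P := fun f hf => (D.mem f).2 ⟨f, hf, Or.inl rfl⟩
  exact D.syl.two.to_le hle

theorem F_le_P (D : PData t h V P F) : F ≤ P := fun f hf => (D.mem f).2 ⟨f, hf, Or.inl rfl⟩

theorem t_mem_P (D : PData t h V P F) : t ∈ P := (D.mem t).2 ⟨1, F.one_mem, Or.inr (by rw [mul_one])⟩

theorem V_cent (D : PData t h V P F) {v f : G} (hv : v ∈ V) (hf : f ∈ F) : v * f = f * v :=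
  (Subgroup.mem_centralizer_iff.1 (D.syl.le (F_le_P D hf)) v hv)

theorem tF (D : PData t h V P F) {f : G} (hf : f ∈ F) : t * f * t⁻¹ ∈ F := D.norm t (t_mem_P D) f hf

theorem t_inv (L : Loc t h V) : t⁻¹ = t := inv_eq_of_mul_eq_one_left L.t_sq

/-- the elements of `V` -/
theorem cases_V [Finite G] (L : Loc t h V) {c v : G} (hc : c ∈ V) (hc1 : c ≠ 1) (hv : v ∈ V) :
    v = 1 ∨ v = c ∨ v = h * c * h⁻¹ ∨ v = h⁻¹ * c * h := by
  classical
  by_contra hno
  push Not at hno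
  obtain ⟨n1, n2, n3, n4⟩ := hno
  have hc2 : h * c * h⁻¹ ≠ c := fun e => hc1 (L.fpfV c hc (mul_inv_eq_iff_eq_mul.1 e))
  have hc3 : h⁻¹ * c * h ≠ c := by
    intro e
    apply hc2
    have : h * (h⁻¹ * c * h) * h⁻¹ = h * c * h⁻¹ := by rw [e]
    rw [← this]; group
  have hc4 : h * c * h⁻¹ ≠ h⁻¹ * c * h := by
    intro e
    apply hc3
    have h2 : h⁻¹ * c * h = h * (h * c * h⁻¹) * h⁻¹ := by
      calc h⁻¹ * c * h = h⁻¹ * c * (h⁻¹)⁻¹ := by rw [inv_inv]
        _ = (h * h) * c * (h * h)⁻¹ := by rw [inv_h L]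
        _ = _ := by group
    rw [h2, e]; group
  have hn1 : h * c * h⁻¹ ≠ 1 := fun e => hc1 (by
    have : h⁻¹ * (h * c * h⁻¹) * h = c := by group
    rw [← this, e]; group)
  have hn2 : h⁻¹ * c * h ≠ 1 := fun e => hc1 (by
    have : h * (h⁻¹ * c * h) * h⁻¹ = c := by group
    rw [← this, e]; group)
  have hsub : (({v, 1, c, h * c * h⁻¹, h⁻¹ * c * h} : Finset G) : Set G) ⊆ (V : Set G) := by
    intro x hx
    simp only [Finset.coe_insert, Finset.coe_singleton, Set.mem_insert_iff, Set.mem_singleton_iff] at hx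
    rcases hx with rfl | rfl | rfl | rfl | rfl
    · exact hv
    · exact V.one_mem
    · exact hc
    · exact L.hV _ hc
    · exact inv_conj L L.hV hc
  have h5 : ({v, 1, c, h * c * h⁻¹, h⁻¹ * c * h} : Finset G).card = 5 := by
    rw [Finset.card_insert_of_notMem, Finset.card_insert_of_notMem, Finset.card_insert_of_notMem,
      Finset.card_insert_of_notMem, Finset.card_singleton]
    · simpa using hc4
    · simp only [Finset.mem_insert, Finset.mem_singleton, not_or]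
      exact ⟨hc2.symm, hc3.symm⟩
    · simp only [Finset.mem_insert, Finset.mem_singleton, not_or]
      exact ⟨hc1.symm, hn1.symm, hn2.symm⟩
    · simp only [Finset.mem_insert, Finset.mem_singleton, not_or]
      exact ⟨n1, n2, n3, n4⟩
  have h6 := Set.ncard_le_ncard hsub (Set.toFinite _)
  rw [Set.ncard_coe_finset, h5] at h6
  have h7 : (V : Set G).ncard = Nat.card V := (Nat.card_coe_set_eq _).symm
  rw [h7, L.card_V] at h6
  omega

/-- if `u⁻¹ u^h` is in the `h`-invariant subgroup `Z` of `F`, then `u ∈ Z` -/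
theorem mem_of_fix [Finite G] (D : PData t h V P F) {Z : Subgroup G} (hZF : Z ≤ F) (hZ : ∀ z ∈ Z, h * z * h⁻¹ ∈ Z)
    {u : G} (hu : u ∈ F) (h1 : u⁻¹ * (h * u * h⁻¹) ∈ Z) : u ∈ Z := by
  obtain ⟨z, hz⟩ := T1Class2.exists_inv_mul (T1Class2.act hZ)
    (T1Class2.act_fix hZ (fun w hw => D.fpf w (hZF hw))) ⟨_, h1⟩
  have hz' : (z : G)⁻¹ * (h * z * h⁻¹) = u⁻¹ * (h * u * h⁻¹) := congrArg Subtype.val hz
  have h2 : h * (u * (z : G)⁻¹) = (u * (z : G)⁻¹) * h := by
    have e1 : u * (z : G)⁻¹ * (h * z * h⁻¹) = h * u * h⁻¹ := by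
      rw [mul_assoc, hz']; group
    calc h * (u * (z : G)⁻¹) = (h * u * h⁻¹) * (h * z * h⁻¹)⁻¹ * h := by group
      _ = (u * (z : G)⁻¹ * (h * z * h⁻¹)) * (h * z * h⁻¹)⁻¹ * h := by rw [e1]
      _ = _ := by group
  have h3 := D.fpf _ (F.mul_mem hu (F.inv_mem (hZF z.2))) h2
  have h4 : u = z := by
    calc u = (u * (z : G)⁻¹) * z := by group
      _ = z := by rw [h3, one_mul]
  rw [h4]; exact z.2

/-- fixed points of `h` on `F/V` -/
theorem mem_V_of_fix [Finite G] (L : Loc t h V) (D : PData t h V P F) {u : G} (hu : u ∈ F)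
    (h1 : h * u * h⁻¹ * u⁻¹ ∈ V) : u ∈ V := by
  refine mem_of_fix D D.V_le L.hV hu ?_
  have h2 := V_cent D h1 (F.inv_mem hu)
  have h3 : u⁻¹ * (h * u * h⁻¹) = h * u * h⁻¹ * u⁻¹ := by
    calc u⁻¹ * (h * u * h⁻¹) = u⁻¹ * (h * u * h⁻¹ * u⁻¹) * u := by group
      _ = (h * u * h⁻¹ * u⁻¹) * u⁻¹ * u := by rw [h2]
      _ = _ := by group
  rw [h3]; exact h1

end basic

/-! ### elements acting trivially on `F/V` -/

/-- the subgroup of the elements of `N(F)` acting trivially on `F/V` -/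
def KK (F V : Subgroup G) : Subgroup G where
  carrier := {x | x ∈ Subgroup.normalizer (F : Set G) ∧ ∀ f ∈ F, x * f * x⁻¹ * f⁻¹ ∈ V}
  one_mem' := ⟨Subgroup.one_mem _, fun f _ => by
    have : (1 : G) * f * 1⁻¹ * f⁻¹ = 1 := by group
    rw [this]; exact V.one_mem⟩
  mul_mem' := by
    rintro a b ⟨ha, ha'⟩ ⟨hb, hb'⟩
    refine ⟨Subgroup.mul_mem _ ha hb, fun f hf => ?_⟩
    have h1 : b * f * b⁻¹ ∈ F := (Subgroup.mem_normalizer_iff.1 hb f).1 hf
    have h2 := V.mul_mem (ha' _ h1) (hb' f hf)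
    have h3 : a * b * f * (a * b)⁻¹ * f⁻¹ =
        a * (b * f * b⁻¹) * a⁻¹ * (b * f * b⁻¹)⁻¹ * (b * f * b⁻¹ * f⁻¹) := by group
    rw [h3]; exact h2
  inv_mem' := by
    rintro a ⟨ha, ha'⟩
    refine ⟨Subgroup.inv_mem _ ha, fun f hf => ?_⟩
    have h1 : a⁻¹ * f * a ∈ F := by
      have := (Subgroup.mem_normalizer_iff.1 (Subgroup.inv_mem _ ha) f).1 hf
      rwa [inv_inv] at this
    have h2 := V.inv_mem (ha' _ h1)
    have h3 : a⁻¹ * f * a⁻¹⁻¹ * f⁻¹ = (a * (a⁻¹ * f * a) * a⁻¹ * (a⁻¹ * f * a)⁻¹)⁻¹ := by group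
    rw [h3]; exact h2

theorem mem_KK {F V : Subgroup G} {x : G} :
    x ∈ KK F V ↔ x ∈ Subgroup.normalizer (F : Set G) ∧ ∀ f ∈ F, x * f * x⁻¹ * f⁻¹ ∈ V := Iff.rfl

theorem KK_conj {F V : Subgroup G} {n x : G} (hn : n ∈ Subgroup.normalizer (F : Set G))
    (hV : ∀ v ∈ V, n * v * n⁻¹ ∈ V) (hx : x ∈ KK F V) : n * x * n⁻¹ ∈ KK F V := by
  obtain ⟨h1, h2⟩ := hx
  refine ⟨Subgroup.mul_mem _ (Subgroup.mul_mem _ hn h1) (Subgroup.inv_mem _ hn), fun f hf => ?_⟩
  have h3 : n⁻¹ * f * n ∈ F := by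
    have := (Subgroup.mem_normalizer_iff.1 (Subgroup.inv_mem _ hn) f).1 hf
    rwa [inv_inv] at this
  have h4 : n * x * n⁻¹ * f * (n * x * n⁻¹)⁻¹ * f⁻¹ =
      n * (x * (n⁻¹ * f * n) * x⁻¹ * (n⁻¹ * f * n)⁻¹) * n⁻¹ := by group
  rw [h4]
  exact hV _ (h2 _ h3)

section main

variable [Finite G] {t h y : G} {V P F T₄ : Subgroup G}

theorem h_norm (D : PData t h V P F) : h ∈ Subgroup.normalizer (F : Set G) := T1Class2.mem_normalizer D.hF

theorem t_norm (D : PData t h V P F) : t ∈ Subgroup.normalizer (F : Set G) :=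
  T1Class2.mem_normalizer (fun _ hf => tF D hf)

omit [Finite G] in
theorem F_norm {F : Subgroup G} {f : G} (hf : f ∈ F) : f ∈ Subgroup.normalizer (F : Set G) :=
  Subgroup.le_normalizer hf

/-- `D₀ = {f ∈ F | [f, t] ∈ V}` has order at most 16 -/
theorem card_le_sixteen (L : Loc t h V) (D : PData t h V P F) {A : Subgroup G} (hA : A ≤ F)
    (hAt : ∀ a ∈ A, a * t * a⁻¹ * t⁻¹ ∈ V) : Nat.card A ≤ 16 := by
  let φ : A →* V :=
    { toFun := fun a => ⟨a * t * (a : G)⁻¹ * t⁻¹, hAt a a.2⟩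
      map_one' := Subtype.ext (by
        show (1 : G) * t * 1⁻¹ * t⁻¹ = 1
        group)
      map_mul' := by
        intro a b
        apply Subtype.ext
        show (a * b : G) * t * (a * b : G)⁻¹ * t⁻¹ = (a * t * (a : G)⁻¹ * t⁻¹) * (b * t * (b : G)⁻¹ * t⁻¹)
        have h1 := V_cent D (hAt b b.2) (hA a.2)
        have h2 : (b * t * (b : G)⁻¹ * t⁻¹) * t = t * (b * t * (b : G)⁻¹ * t⁻¹) := (L.tV _ (hAt b b.2)).symm
        calc (a * b : G) * t * (a * b : G)⁻¹ * t⁻¹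
            = a * (b * t * (b : G)⁻¹ * t⁻¹) * t * (a : G)⁻¹ * t⁻¹ := by group
          _ = (b * t * (b : G)⁻¹ * t⁻¹) * (a * t * (a : G)⁻¹ * t⁻¹) := by rw [← h1]; group
          _ = (a * t * (a : G)⁻¹ * t⁻¹) * (b * t * (b : G)⁻¹ * t⁻¹) :=
            L.elem.comm (hAt b b.2) (hAt a a.2) }
  have hker : Nat.card φ.ker ≤ 4 := by
    have h1 : Function.Injective (fun x : φ.ker => (⟨(x : A), by
        have hx : φ x = 1 := x.2
        have h2 : (x : A) * t * ((x : A) : G)⁻¹ * t⁻¹ = 1 := congrArg Subtype.val hx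
        apply D.cF _ (hA (x : A).2)
        have h3 : ((x : A) : G) * t = t * (x : A) := by
          have := mul_inv_eq_one.1 h2
          exact mul_inv_eq_iff_eq_mul.1 this
        exact h3.symm⟩ : V)) := by
      intro x x' hxx
      have h9 : ((x : A) : G) = ((x' : A) : G) := congrArg (fun z : V => (z : G)) hxx
      exact Subtype.ext (Subtype.ext h9)
    have := Nat.card_le_card_of_injective _ h1
    rwa [L.card_V] at this
  have hrange : Nat.card φ.range ≤ 4 := by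
    have := Subgroup.card_le_card_group φ.range
    rwa [L.card_V] at this
  have h1 := φ.ker.card_mul_index
  rw [Subgroup.index_ker] at h1
  calc Nat.card A = Nat.card φ.ker * Nat.card φ.range := h1.symm
    _ ≤ 4 * 4 := Nat.mul_le_mul hker hrange
    _ = 16 := by norm_num

/-- an `h`-invariant subgroup of `F` strictly bigger than `V` has order at least 16 -/
theorem sixteen_le (L : Loc t h V) (D : PData t h V P F) {A : Subgroup G} (hA : A ≤ F) (hVA : V ≤ A)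
    (hAh : ∀ a ∈ A, h * a * h⁻¹ ∈ A) {a : G} (ha : a ∈ A) (haV : a ∉ V) : 16 ≤ Nat.card A := by
  -- the four cosets `V, aV, a^h V, a^(h⁻¹) V`
  have hfpf : ∀ b ∈ A, b ∉ V → b⁻¹ * (h * b * h⁻¹) ∉ V := by
    intro b hb hbV h1
    exact hbV (mem_of_fix D D.V_le L.hV (hA hb) h1)
  have key : ∀ v : V × Fin 4, (![1, a, h * a * h⁻¹, h⁻¹ * a * h] v.2) * (v.1 : G) ∈ A := by
    rintro ⟨v, i⟩
    refine A.mul_mem ?_ (hVA v.2)
    fin_cases i
    · exact A.one_mem
    · exact ha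
    · exact hAh a ha
    · exact inv_conj L hAh ha
  have hh3 : h⁻¹ * a * h = h * (h * a * h⁻¹) * h⁻¹ := by
    calc h⁻¹ * a * h = h⁻¹ * a * (h⁻¹)⁻¹ := by rw [inv_inv]
      _ = (h * h) * a * (h * h)⁻¹ := by rw [inv_h L]
      _ = _ := by group
  have haV' : h * a * h⁻¹ ∉ V := by
    intro h1
    apply haV
    have := inv_conj L L.hV h1
    have e : h⁻¹ * (h * a * h⁻¹) * h = a := by group
    rwa [e] at this
  have haV'' : h⁻¹ * a * h ∉ V := by
    intro h1
    apply haV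
    have := L.hV _ h1
    have e : h * (h⁻¹ * a * h) * h⁻¹ = a := by group
    rwa [e] at this
  have d12 : a⁻¹ * (h * a * h⁻¹) ∉ V := hfpf a ha haV
  have d23 : (h * a * h⁻¹)⁻¹ * (h⁻¹ * a * h) ∉ V := by
    rw [hh3]; exact hfpf _ (hAh a ha) haV'
  have d31 : (h⁻¹ * a * h)⁻¹ * a ∉ V := by
    have := hfpf _ (inv_conj L hAh ha) haV''
    have e : h * (h⁻¹ * a * h) * h⁻¹ = a := by group
    rwa [e] at this
  have hinj : Function.Injective (fun v : V × Fin 4 => (⟨_, key v⟩ : A)) := by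
    rintro ⟨v, i⟩ ⟨w, j⟩ hvw
    have h1 : (![1, a, h * a * h⁻¹, h⁻¹ * a * h] i) * (v : G) = (![1, a, h * a * h⁻¹, h⁻¹ * a * h] j) * (w : G) :=
      congrArg Subtype.val hvw
    have h2 : (![1, a, h * a * h⁻¹, h⁻¹ * a * h] j)⁻¹ * (![1, a, h * a * h⁻¹, h⁻¹ * a * h] i) ∈ V := by
      have : (![1, a, h * a * h⁻¹, h⁻¹ * a * h] j)⁻¹ * (![1, a, h * a * h⁻¹, h⁻¹ * a * h] i) = w * (v : G)⁻¹ := by
        calc (![1, a, h * a * h⁻¹, h⁻¹ * a * h] j)⁻¹ * (![1, a, h * a * h⁻¹, h⁻¹ * a * h] i)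
            = (![1, a, h * a * h⁻¹, h⁻¹ * a * h] j)⁻¹ * ((![1, a, h * a * h⁻¹, h⁻¹ * a * h] i) * (v : G)) * (v : G)⁻¹ := by group
          _ = w * (v : G)⁻¹ := by rw [h1]; group
      rw [this]; exact V.mul_mem w.2 (V.inv_mem v.2)
    have h3 := V.inv_mem h2
    rw [mul_inv_rev, inv_inv] at h3
    have hij : i = j := by
      fin_cases i <;> fin_cases j <;> first
        | rfl
        | (exfalso
           simp only [Fin.zero_eta, Fin.isValue, Fin.mk_one, Matrix.cons_val_zero, Matrix.cons_val_one,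
             Matrix.cons_val, inv_one, one_mul, mul_one, Fin.reduceFinMk] at h2 h3
           first
             | exact haV h2
             | exact haV h3
             | exact haV' h2
             | exact haV' h3
             | exact haV'' h2
             | exact haV'' h3
             | exact d12 h2
             | exact d12 h3
             | exact d23 h2
             | exact d23 h3
             | exact d31 h2
             | exact d31 h3)
    subst hij
    have h4 : v = w := Subtype.ext (mul_left_cancel h1)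
    rw [h4]
  have := Nat.card_le_card_of_injective _ hinj
  rw [Nat.card_prod, L.card_V, Nat.card_fin] at this
  omega

/-! ### the centre of `T₄` -/

omit [Finite G] in
theorem ne4 (L : Loc t h V) {c : G} (hc : c ∈ V) (hc1 : c ≠ 1) : h * c * h⁻¹ ≠ h⁻¹ * c * h := by
  intro e
  have h2 : h⁻¹ * c * h = h * (h * c * h⁻¹) * h⁻¹ := by
    calc h⁻¹ * c * h = h⁻¹ * c * (h⁻¹)⁻¹ := by rw [inv_inv]
      _ = (h * h) * c * (h * h)⁻¹ := by rw [inv_h L]
      _ = _ := by group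
  have h3 : h⁻¹ * c * h = c := by
    rw [h2, e]; group
  have h4 : h * c = c * h := by
    calc h * c = h * (h⁻¹ * c * h) := by rw [h3]
      _ = c * h := by group
  exact hc1 (L.fpfV c hc h4)

/-- the common part of `TypeY` and `TypeZ`, for `s = y` and `s = t y` -/
structure Inv (t h s : G) (V : Subgroup G) : Prop where
  ts : t * s = s * t
  sV : ∀ v ∈ V, s * v * s⁻¹ ∈ V
  sh : s * h * s⁻¹ = h⁻¹
  ss : ∀ v ∈ V, s * s * v = v * (s * s)

omit [Finite G] in
theorem inv_of (L : Loc t h V) (hy : TypeY t h y V ∨ TypeZ t h y V) : Inv t h y V := by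
  rcases hy with hy | hy
  · exact ⟨hy.ty, hy.yV, hy.yh, fun v _ => by rw [hy.y_sq, one_mul, mul_one]⟩
  · refine ⟨?_, hy.yV, hy.yh, fun v hv => by rw [hy.y_sq]; exact L.tV v hv⟩
    rw [← hy.y_sq]; group

omit [Finite G] in
theorem Inv.mul_t (L : Loc t h V) (H : Inv t h y V) : Inv t h (t * y) V := by
  refine ⟨?_, ?_, ?_, ?_⟩
  · calc t * (t * y) = t * (y * t) := by rw [H.ts]
      _ = _ := by group
  · intro v hv
    have h1 := H.sV v hv
    have h2 : t * y * v * (t * y)⁻¹ = t * (y * v * y⁻¹) * t⁻¹ := by group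
    rw [h2, L.tV _ h1]
    have : y * v * y⁻¹ * t * t⁻¹ = y * v * y⁻¹ := by group
    rw [this]; exact h1
  · have h1 : t * y * h * (t * y)⁻¹ = t * (y * h * y⁻¹) * t⁻¹ := by group
    rw [h1, H.sh]
    have h2 : t * h⁻¹ = h⁻¹ * t := by
      calc t * h⁻¹ = h⁻¹ * (h * t) * h⁻¹ := by group
        _ = h⁻¹ * (t * h) * h⁻¹ := by rw [L.ht]
        _ = _ := by group
    rw [h2]; group
  · intro v hv
    have h1 : t * y * (t * y) = y * y := by
      calc t * y * (t * y) = (t * y) * (y * t) := by rw [H.ts]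
        _ = (y * t) * (y * t) := by rw [H.ts]
        _ = y * (t * y) * t := by group
        _ = y * (y * t) * t := by rw [H.ts]
        _ = (y * y) * (t * t) := by group
        _ = _ := by rw [L.t_sq, mul_one]
    rw [h1]; exact H.ss v hv

omit [Finite G] in
/-- `s` inverts `h`, so it does not centralise `V` -/
theorem Inv.not_cent (L : Loc t h V) {s : G} (H : Inv t h s V) (hc : ∀ v ∈ V, s * v = v * s) : False := by
  have h1 : ∃ v ∈ V, v ≠ 1 := by
    by_contra hno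
    push Not at hno
    have : V = ⊥ := by rw [Subgroup.eq_bot_iff_forall]; exact hno
    have h2 := L.card_V
    rw [this, Subgroup.card_bot] at h2
    omega
  obtain ⟨v, hv, hv1⟩ := h1
  apply ne4 L hv hv1
  have h2 : s * (h * v * h⁻¹) * s⁻¹ = h * v * h⁻¹ := by
    rw [hc _ (L.hV v hv)]; group
  have h3 : s * v * s⁻¹ = v := by rw [hc v hv]; group
  have h4 : s * h⁻¹ * s⁻¹ = h := by
    have := congrArg (·⁻¹) H.sh
    simpa [mul_inv_rev, mul_assoc] using this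
  calc h * v * h⁻¹ = s * (h * v * h⁻¹) * s⁻¹ := h2.symm
    _ = (s * h * s⁻¹) * (s * v * s⁻¹) * (s * h⁻¹ * s⁻¹) := by group
    _ = h⁻¹ * v * h := by rw [H.sh, h3, h4]

/-- `C_V(y)` has order at most two -/
theorem uniq (L : Loc t h V) (H : Inv t h y V) {a b : G} (ha : a ∈ V) (ha1 : a ≠ 1) (hb : b ∈ V) (hb1 : b ≠ 1)
    (hya : y * a = a * y) (hyb : y * b = b * y) : a = b := by
  have h4 : y * h⁻¹ * y⁻¹ = h := by
    have := congrArg (·⁻¹) H.sh
    simpa [mul_inv_rev, mul_assoc] using this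
  have hya' : y * a * y⁻¹ = a := by rw [hya]; group
  have hyb' : y * b * y⁻¹ = b := by rw [hyb]; group
  rcases cases_V L ha ha1 hb with h1 | h1 | h1 | h1
  · exact absurd h1 hb1
  · exact h1.symm
  · exfalso
    apply ne4 L ha ha1
    calc h * a * h⁻¹ = y * b * y⁻¹ := by rw [hyb', h1]
      _ = (y * h * y⁻¹) * (y * a * y⁻¹) * (y * h⁻¹ * y⁻¹) := by rw [h1]; group
      _ = _ := by rw [H.sh, h4, hya']
  · exfalso
    apply ne4 L ha ha1
    calc h * a * h⁻¹ = (y * h⁻¹ * y⁻¹) * (y * a * y⁻¹) * (y * h * y⁻¹) := by rw [H.sh, h4, hya']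
      _ = y * b * y⁻¹ := by rw [h1]; group
      _ = _ := by rw [hyb', h1]

variable (D : FourData t h y V P F T₄) (L : Loc t h V) (H : Inv t h y V)

omit [Finite G] in
include D in
theorem F_le_T : F ≤ T₄ := fun f hf => (D.mem₄ f).2 ⟨f, hf, Or.inl rfl⟩

omit [Finite G] in
include D in
theorem t_mem_T : t ∈ T₄ := (D.mem₄ t).2 ⟨1, F.one_mem, Or.inr (Or.inl (by rw [mul_one]))⟩

omit [Finite G] in
include D in
theorem y_mem_T : y ∈ T₄ := (D.mem₄ y).2 ⟨1, F.one_mem, Or.inr (Or.inr (Or.inl (by rw [mul_one])))⟩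

omit [Finite G] in
include D in
theorem exists_F : ∃ f ∈ F, f ∉ V := by
  by_contra hno
  push Not at hno
  exact D.ne (le_antisymm D.V_le hno)

omit [Finite G] in
include D in
theorem comm_t_of_mul {s f : G} (hs : t * s = s * t) (hf : f ∈ F) (hz : t * (s * f) = s * f * t) : f ∈ V := by
  apply D.cF f hf
  have h1 : s * (t * f) = s * (f * t) := by
    calc s * (t * f) = (s * t) * f := by group
      _ = t * s * f := by rw [hs]
      _ = t * (s * f) := by group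
      _ = s * f * t := hz
      _ = _ := by group
  exact mul_left_cancel h1

omit [Finite G] in
include D L H in
/-- `Z(T₄) ≤ V` -/
theorem center_le {z : G} (hz : z ∈ T₄) (hc : ∀ x ∈ T₄, z * x = x * z) : z ∈ V := by
  have case_s : ∀ s f : G, Inv t h s V → f ∈ F → z = s * f → False := by
    intro s f hs hf hzf
    have h1 : f ∈ V := by
      apply comm_t_of_mul D hs.ts hf
      rw [← hzf]; exact (hc t (t_mem_T D)).symm
    apply hs.not_cent L
    intro v hv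
    have h2 := hc v (F_le_T D (D.V_le hv))
    rw [hzf] at h2
    have h3 : f * v = v * f := L.elem.comm h1 hv
    have h4 : s * v * f = v * s * f := by
      calc s * v * f = s * (v * f) := by group
        _ = s * f * v := by rw [← h3]; group
        _ = v * (s * f) := h2
        _ = _ := by group
    exact mul_right_cancel h4
  obtain ⟨f, hf, h1 | h1 | h1 | h1⟩ := (D.mem₄ z).1 hz
  · rw [h1]
    apply D.cF f hf
    rw [← h1]; exact (hc t (t_mem_T D)).symm
  · exfalso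
    have hfV : f ∈ V := by
      apply comm_t_of_mul D rfl hf
      rw [← h1]; exact (hc t (t_mem_T D)).symm
    obtain ⟨u, hu, huV⟩ := exists_F D
    apply huV
    apply D.cF u hu
    have h2 := hc u (F_le_T D hu)
    rw [h1] at h2
    have h3 : f * u = u * f := V_cent D.toPData hfV hu
    have h4 : t * u * f = u * t * f := by
      calc t * u * f = t * (u * f) := by group
        _ = t * f * u := by rw [← h3]; group
        _ = u * (t * f) := h2
        _ = _ := by group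
    exact mul_right_cancel h4
  · exact (case_s y f H hf h1).elim
  · exact (case_s (t * y) f (H.mul_t L) hf h1).elim

/-- the condition `z ∈ V ∩ C(y) = Z(T₄)` -/
def Zc (y : G) (V : Subgroup G) (z : G) : Prop := z ∈ V ∧ y * z = z * y

omit [Finite G] in
include D L H in
theorem zc_iff {z : G} : Zc y V z ↔ z ∈ T₄ ∧ ∀ x ∈ T₄, z * x = x * z := by
  constructor
  · rintro ⟨hz, hyz⟩
    refine ⟨F_le_T D (D.V_le hz), fun x hx => ?_⟩
    obtain ⟨f, hf, h1 | h1 | h1 | h1⟩ := (D.mem₄ x).1 hx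
    · rw [h1]; exact V_cent D.toPData hz hf
    · rw [h1]
      have h2 := V_cent D.toPData hz hf
      have h3 := L.tV z hz
      calc z * (t * f) = (z * t) * f := by group
        _ = t * (z * f) := by rw [← h3]; group
        _ = _ := by rw [h2]; group
    · rw [h1]
      have h2 := V_cent D.toPData hz hf
      calc z * (y * f) = (z * y) * f := by group
        _ = y * (z * f) := by rw [← hyz]; group
        _ = _ := by rw [h2]; group
    · rw [h1]
      have h2 := V_cent D.toPData hz hf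
      have h3 := L.tV z hz
      calc z * (t * y * f) = (z * t) * y * f := by group
        _ = t * (z * y) * f := by rw [← h3]; group
        _ = t * y * (z * f) := by rw [← hyz]; group
        _ = _ := by rw [h2]; group
  · rintro ⟨hz, hc⟩
    exact ⟨center_le D L H hz hc, (hc y (y_mem_T D)).symm⟩

omit [Finite G] in
include D L H in
/-- `[V, T₄] ≤ Z(T₄)` -/
theorem comm_V {v x : G} (hv : v ∈ V) (hx : x ∈ T₄) : Zc y V (v * x * v⁻¹ * x⁻¹) := by
  have hvi := L.elem v hv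
  have hv' : v⁻¹ = v := inv_eq_of_mul_eq_one_left hvi
  have hone : Zc y V 1 := ⟨V.one_mem, by rw [one_mul, mul_one]⟩
  have case_s : ∀ s f : G, Inv t h s V → f ∈ F → (∀ u ∈ V, s * u * s⁻¹ = y * u * y⁻¹) → x = s * f →
      Zc y V (v * x * v⁻¹ * x⁻¹) := by
    intro s f hs hf hsy hxf
    have h1 := V_cent D.toPData (V.inv_mem hv) hf
    have h2 : v * x * v⁻¹ * x⁻¹ = v * (s * v⁻¹ * s⁻¹) := by
      rw [hxf]
      calc v * (s * f) * v⁻¹ * (s * f)⁻¹ = v * s * (f * v⁻¹) * f⁻¹ * s⁻¹ := by group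
        _ = _ := by rw [← h1]; group
    rw [h2, hsy _ (V.inv_mem hv), hv']
    have h3 := H.sV v hv
    refine ⟨V.mul_mem hv h3, ?_⟩
    have h4 : y * (y * v * y⁻¹) * y⁻¹ = v := by
      calc y * (y * v * y⁻¹) * y⁻¹ = (y * y * v) * (y * y)⁻¹ := by group
        _ = v * (y * y) * (y * y)⁻¹ := by rw [H.ss v hv]
        _ = v := by group
    calc y * (v * (y * v * y⁻¹)) = (y * v * y⁻¹) * (y * (y * v * y⁻¹) * y⁻¹) * y := by group
      _ = (y * v * y⁻¹) * v * y := by rw [h4]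
      _ = _ := by rw [L.elem.comm h3 hv]
  obtain ⟨f, hf, h1 | h1 | h1 | h1⟩ := (D.mem₄ x).1 hx
  · have h2 : v * x = x * v := by rw [h1]; exact V_cent D.toPData hv hf
    have h3 : v * x * v⁻¹ * x⁻¹ = 1 := by rw [h2]; group
    rw [h3]; exact hone
  · have h2 : v * x = x * v := by
      rw [h1]
      have h3 := L.tV v hv
      calc v * (t * f) = (v * t) * f := by group
        _ = t * (v * f) := by rw [← h3]; group
        _ = _ := by rw [V_cent D.toPData hv hf]; group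
    have h3 : v * x * v⁻¹ * x⁻¹ = 1 := by rw [h2]; group
    rw [h3]; exact hone
  · exact case_s y f H hf (fun _ _ => rfl) h1
  · refine case_s (t * y) f (H.mul_t L) hf (fun u hu => ?_) h1
    have h2 : t * y * u * (t * y)⁻¹ = t * (y * u * y⁻¹) * t⁻¹ := by group
    rw [h2, L.tV _ (H.sV u hu)]; group

/-! ### an element `v ∉ V` of `T₄` with `[v, T₄] ≤ Z(T₄)` -/

include D in
theorem T_norm {x : G} (hx : x ∈ T₄) : x ∈ Subgroup.normalizer (F : Set G) := by
  have hy := T1Class2.mem_normalizer (fun f hf => D.yF f hf)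
  have ht := t_norm D.toPData
  obtain ⟨f, hf, h1 | h1 | h1 | h1⟩ := (D.mem₄ x).1 hx
  · rw [h1]; exact F_norm hf
  · rw [h1]; exact Subgroup.mul_mem _ ht (F_norm hf)
  · rw [h1]; exact Subgroup.mul_mem _ hy (F_norm hf)
  · rw [h1]; exact Subgroup.mul_mem _ (Subgroup.mul_mem _ ht hy) (F_norm hf)

include D L H in
/-- such an element is not in `tF` -/
theorem not_tF {v f₀ : G} (hc : ∀ f ∈ F, Zc y V (v * f * v⁻¹ * f⁻¹)) (hf₀ : f₀ ∈ F) (hv : v = t * f₀) : False := by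
  have hti := t_inv L
  -- the common argument
  have key : ∀ a ∈ F, a ∉ V → f₀ * a = a * f₀ → f₀ * (h * a * h⁻¹) = (h * a * h⁻¹) * f₀ → False := by
    intro a ha haV hca hcah
    have h1 := hc a ha
    have h2 := hc _ (D.hF a ha)
    have e1 : v * a * v⁻¹ * a⁻¹ = t * a * t⁻¹ * a⁻¹ := by
      rw [hv]
      calc t * f₀ * a * (t * f₀)⁻¹ * a⁻¹ = t * (f₀ * a) * f₀⁻¹ * t⁻¹ * a⁻¹ := by group
        _ = _ := by rw [hca]; group
    have e2 : v * (h * a * h⁻¹) * v⁻¹ * (h * a * h⁻¹)⁻¹ = h * (t * a * t⁻¹ * a⁻¹) * h⁻¹ := by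
      rw [hv]
      calc t * f₀ * (h * a * h⁻¹) * (t * f₀)⁻¹ * (h * a * h⁻¹)⁻¹
          = t * (f₀ * (h * a * h⁻¹)) * f₀⁻¹ * t⁻¹ * (h * a * h⁻¹)⁻¹ := by group
        _ = (t * h) * a * (h⁻¹ * t⁻¹) * (h * a⁻¹ * h⁻¹) := by rw [hcah]; group
        _ = (h * t) * a * (t * h)⁻¹ * (h * a⁻¹ * h⁻¹) := by rw [L.ht, mul_inv_rev t h]
        _ = (h * t) * a * (h * t)⁻¹ * (h * a⁻¹ * h⁻¹) := by rw [L.ht]
        _ = _ := by group
    rw [e1] at h1
    rw [e2] at h2
    have hne : t * a * t⁻¹ * a⁻¹ ≠ 1 := by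
      intro e
      apply haV
      apply D.cF a ha
      exact mul_inv_eq_iff_eq_mul.1 (mul_inv_eq_one.1 e)
    have hne2 : h * (t * a * t⁻¹ * a⁻¹) * h⁻¹ ≠ 1 := by
      intro e
      apply hne
      have : h⁻¹ * (h * (t * a * t⁻¹ * a⁻¹) * h⁻¹) * h = t * a * t⁻¹ * a⁻¹ := by group
      rw [← this, e]; group
    have h3 := uniq L H h1.1 hne h2.1 hne2 h1.2 h2.2
    apply hne
    apply L.fpfV _ h1.1
    exact mul_inv_eq_iff_eq_mul.1 h3.symm
  have hcs : f₀ * (h * f₀ * h⁻¹) = (h * f₀ * h⁻¹) * f₀ := by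
    exact (T1Class2.comm_conj (two D.toPData) (order_h L) D.hF D.fpf hf₀ hf₀ rfl)
  by_cases hfV : f₀ ∈ V
  · obtain ⟨a, ha, haV⟩ := exists_F D
    exact key a ha haV (V_cent D.toPData hfV ha) (V_cent D.toPData hfV (D.hF a ha))
  · exact key f₀ hf₀ hfV rfl hcs

include D L in
/-- such an element is not in `yF` or `tyF` -/
theorem not_sF {s v f₀ : G} (hs : Inv t h s V) (hsF : s ∈ Subgroup.normalizer (F : Set G))
    (hc : ∀ f ∈ F, v * f * v⁻¹ * f⁻¹ ∈ V) (hf₀ : f₀ ∈ F) (hv : v = s * f₀) : False := by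
  have hvN : v ∈ Subgroup.normalizer (F : Set G) := by
    rw [hv]; exact Subgroup.mul_mem _ hsF (F_norm hf₀)
  have hvK : v ∈ KK F V := ⟨hvN, hc⟩
  have hk : h * v * h⁻¹ * v⁻¹ ∈ KK F V :=
    (KK F V).mul_mem (KK_conj (h_norm D.toPData) L.hV hvK) ((KK F V).inv_mem hvK)
  have h4 : s * h⁻¹ * s⁻¹ = h := by
    have := congrArg (·⁻¹) hs.sh
    simpa [mul_inv_rev, mul_assoc] using this
  set f₁ := s * (h * f₀ * h⁻¹ * f₀⁻¹) * s⁻¹ with hf₁
  have hf₁F : f₁ ∈ F := (Subgroup.mem_normalizer_iff.1 hsF _).1 (F.mul_mem (D.hF f₀ hf₀) (F.inv_mem hf₀))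
  have hke : h * v * h⁻¹ * v⁻¹ = h * h * f₁ := by
    rw [hv, hf₁]
    calc h * (s * f₀) * h⁻¹ * (s * f₀)⁻¹ = h * (s * h⁻¹ * s⁻¹) * (s * (h * f₀ * h⁻¹ * f₀⁻¹) * s⁻¹) := by group
      _ = _ := by rw [h4]
  rw [hke] at hk
  have : Fact (Nat.Prime 2) := ⟨Nat.prime_two⟩
  obtain ⟨z, hzF, hzV, hz⟩ := GTwoFour.Tools.exists_fixed_mod (two D.toPData) (le_refl F)
    (fun a ha b hb => F.mul_mem (F.mul_mem ha hb) (F.inv_mem ha))
    (fun a ha b hb => by
      have := V_cent D.toPData hb ha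
      have e : a * b * a⁻¹ = b := by rw [← this]; group
      rw [e]; exact hb) (exists_F D)
  apply hzV
  have h5 := hk.2 z hzF
  have h6 := hz f₁ hf₁F
  rw [commutatorElement_def] at h6
  -- `h h z h⁻¹ h⁻¹ z⁻¹ ∈ V`
  have h7 : h * (h * z * h⁻¹) * h⁻¹ * z⁻¹ ∈ V := by
    have e : h * h * f₁ * z * (h * h * f₁)⁻¹ * z⁻¹ =
        (h * (h * (f₁ * z * f₁⁻¹ * z⁻¹) * h⁻¹) * h⁻¹) * (h * (h * z * h⁻¹) * h⁻¹ * z⁻¹) := by group
    rw [e] at h5
    exact (V.mul_mem_cancel_left (L.hV _ (L.hV _ h6))).1 h5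
  have h8 : h * (h * z * h⁻¹) * h⁻¹ = h⁻¹ * z * h := by
    calc h * (h * z * h⁻¹) * h⁻¹ = (h * h) * z * (h * h)⁻¹ := by group
      _ = h⁻¹ * z * (h⁻¹)⁻¹ := by rw [inv_h L]
      _ = _ := by rw [inv_inv]
  rw [h8] at h7
  have h9 : h⁻¹ * z * h ∈ V := by
    apply mem_V_of_fix L D.toPData (inv_conj L D.hF hzF)
    have e : h * (h⁻¹ * z * h) * h⁻¹ * (h⁻¹ * z * h)⁻¹ = (h⁻¹ * z * h * z⁻¹)⁻¹ := by group
    rw [e]; exact V.inv_mem h7
  have h10 := L.hV _ h9
  have e : h * (h⁻¹ * z * h) * h⁻¹ = z := by group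
  rwa [e] at h10

include D L H in
/-- such an element in `F` is central in `F` -/
theorem cent_F {v : G} (hvF : v ∈ F) (hc : ∀ f ∈ F, Zc y V (v * f * v⁻¹ * f⁻¹)) : ∀ f ∈ F, v * f = f * v := by
  intro f hf
  by_contra hno
  have hC := fun {c : G} (hc : c ∈ F) (h1 : v * c = c * v) =>
    T1Class2.comm_conj (two D.toPData) (order_h L) D.hF D.fpf hvF hc h1
  have hf' := D.hF f hf
  have hf'' := D.hF _ hf'
  have e3 : h * (h * (h * f * h⁻¹) * h⁻¹) * h⁻¹ = f := by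
    calc h * (h * (h * f * h⁻¹) * h⁻¹) * h⁻¹ = (h * h * h) * f * (h * h * h)⁻¹ := by group
      _ = f := by rw [L.h_cube]; group
  have n2 : ¬ v * (h * (h * f * h⁻¹) * h⁻¹) = (h * (h * f * h⁻¹) * h⁻¹) * v := by
    intro h1
    have := hC hf'' h1
    rw [e3] at this
    exact hno this
  have n1 : ¬ v * (h * f * h⁻¹) = (h * f * h⁻¹) * v := fun h1 => n2 (hC hf' h1)
  have hne : ∀ x : G, ¬ v * x = x * v → v * x * v⁻¹ * x⁻¹ ≠ 1 := fun x hx e =>
    hx (mul_inv_eq_iff_eq_mul.1 (mul_inv_eq_one.1 e))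
  have c0 := hc f hf
  have c1 := hc _ hf'
  have c2 := hc _ hf''
  have u1 := uniq L H c0.1 (hne _ hno) c1.1 (hne _ n1) c0.2 c1.2
  have u2 := uniq L H c0.1 (hne _ hno) c2.1 (hne _ n2) c0.2 c2.2
  have ht := T1Class2.triple (two D.toPData) (order_h L) D.hF D.fpf hf
  set i := v * f * v⁻¹ * f⁻¹ with hi
  set f' := h * f * h⁻¹ with hf'def
  set f'' := h * f' * h⁻¹ with hf''def
  have hii : i * i = 1 := L.elem i c0.1
  have e0 : v * f * v⁻¹ = i * f := by rw [hi]; group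
  have e1 : v * f' * v⁻¹ = i * f' := by rw [u1]; group
  have e2 : v * f'' * v⁻¹ = i * f'' := by rw [u2]; group
  have k1 : f * i = i * f := (V_cent D.toPData c0.1 hf).symm
  have k2 : f' * i = i * f' := (V_cent D.toPData c0.1 hf').symm
  have h1 : v * (f * f' * f'') * v⁻¹ = i * (f * f' * f'') := by
    calc v * (f * f' * f'') * v⁻¹ = (v * f * v⁻¹) * (v * f' * v⁻¹) * (v * f'' * v⁻¹) := by group
      _ = (i * f) * (i * f') * (i * f'') := by rw [e0, e1, e2]
      _ = i * (f * i) * (f' * i) * f'' := by group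
      _ = i * (i * f) * (i * f') * f'' := by rw [k1, k2]
      _ = (i * i) * (f * i) * f' * f'' := by group
      _ = i * (f * f' * f'') := by rw [hii, k1]; group
  rw [ht] at h1
  have h2 : i = 1 := by
    have : v * 1 * v⁻¹ = 1 := by group
    rw [this, mul_one] at h1
    exact h1.symm
  exact hne _ hno h2

/-! ### `W = Ω₁(Z(F))` -/

/-- the central elements of `F` of order at most two -/
def WW (F : Subgroup G) : Subgroup G where
  carrier := {w | w ∈ F ∧ w * w = 1 ∧ ∀ f ∈ F, w * f = f * w}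
  one_mem' := ⟨F.one_mem, by rw [mul_one], fun f _ => by rw [one_mul, mul_one]⟩
  mul_mem' := by
    rintro a b ⟨ha, ha2, ha'⟩ ⟨hb, hb2, hb'⟩
    refine ⟨F.mul_mem ha hb, ?_, fun f hf => ?_⟩
    · calc a * b * (a * b) = a * (b * a) * b := by group
        _ = a * (a * b) * b := by rw [ha' b hb]
        _ = (a * a) * (b * b) := by group
        _ = 1 := by rw [ha2, hb2, one_mul]
    · calc a * b * f = a * (b * f) := by group
        _ = (a * f) * b := by rw [hb' f hf]; group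
        _ = f * (a * b) := by rw [ha' f hf]; group
  inv_mem' := by
    rintro a ⟨ha, ha2, ha'⟩
    have : a⁻¹ = a := inv_eq_of_mul_eq_one_left ha2
    show a⁻¹ ∈ F ∧ a⁻¹ * a⁻¹ = 1 ∧ ∀ f ∈ F, a⁻¹ * f = f * a⁻¹
    rw [this]; exact ⟨ha, ha2, ha'⟩

omit [Finite G] in
theorem WW_conj {F : Subgroup G} {n w : G} (hn : n ∈ Subgroup.normalizer (F : Set G)) (hw : w ∈ WW F) :
    n * w * n⁻¹ ∈ WW F := by
  obtain ⟨h1, h2, h3⟩ := hw
  refine ⟨(Subgroup.mem_normalizer_iff.1 hn _).1 h1, ?_, fun f hf => ?_⟩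
  · calc n * w * n⁻¹ * (n * w * n⁻¹) = n * (w * w) * n⁻¹ := by group
      _ = 1 := by rw [h2]; group
  · have h4 : n⁻¹ * f * n ∈ F := by
      have := (Subgroup.mem_normalizer_iff.1 (Subgroup.inv_mem _ hn) f).1 hf
      rwa [inv_inv] at this
    have h5 := h3 _ h4
    calc n * w * n⁻¹ * f = n * (w * (n⁻¹ * f * n)) * n⁻¹ := by group
      _ = n * (n⁻¹ * f * n * w) * n⁻¹ := by rw [h5]
      _ = _ := by group

/-- `D₀ = {f ∈ F | [f, t] ∈ V}` -/
def DD (L : Loc t h V) (D : PData t h V P F) : Subgroup G where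
  carrier := {f | f ∈ F ∧ f * t * f⁻¹ * t⁻¹ ∈ V}
  one_mem' := ⟨F.one_mem, by
    have : (1 : G) * t * 1⁻¹ * t⁻¹ = 1 := by group
    rw [this]; exact V.one_mem⟩
  mul_mem' := by
    rintro a b ⟨ha, ha'⟩ ⟨hb, hb'⟩
    refine ⟨F.mul_mem ha hb, ?_⟩
    have h1 := V_cent D hb' ha
    have h2 : (b * t * b⁻¹ * t⁻¹) * t = t * (b * t * b⁻¹ * t⁻¹) := (L.tV _ hb').symm
    have h3 : a * b * t * (a * b)⁻¹ * t⁻¹ = (b * t * b⁻¹ * t⁻¹) * (a * t * a⁻¹ * t⁻¹) := by
      calc a * b * t * (a * b)⁻¹ * t⁻¹ = a * (b * t * b⁻¹ * t⁻¹) * t * a⁻¹ * t⁻¹ := by group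
        _ = _ := by rw [← h1]; group
    rw [h3]; exact V.mul_mem hb' ha'
  inv_mem' := by
    rintro a ⟨ha, ha'⟩
    refine ⟨F.inv_mem ha, ?_⟩
    have h1 := V_cent D ha' (F.inv_mem ha)
    have h2 := L.tV _ ha'
    have h3 : a⁻¹ * t * a⁻¹⁻¹ * t⁻¹ = (a * t * a⁻¹ * t⁻¹)⁻¹ := by
      have h4 : a * t * a⁻¹ = (a * t * a⁻¹ * t⁻¹) * t := by group
      set c := a * t * a⁻¹ * t⁻¹ with hc
      have h5 : a⁻¹ * t * a = c⁻¹ * t := by
        have h6 : t = a⁻¹ * (c * t) * a := by rw [← h4]; group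
        have h7 : a⁻¹ * t * a = c⁻¹ * (a⁻¹ * (c * t) * a) := by
          calc a⁻¹ * t * a = c⁻¹ * (c * a⁻¹) * t * a := by group
            _ = c⁻¹ * (a⁻¹ * c) * t * a := by rw [h1]
            _ = _ := by group
        rw [h7, ← h6]
      rw [inv_inv, h5]; group
    show a⁻¹ * t * a⁻¹⁻¹ * t⁻¹ ∈ V
    rw [h3]; exact V.inv_mem ha'

omit [Finite G] in
theorem mem_DD {L : Loc t h V} {D : PData t h V P F} {f : G} :
    f ∈ DD L D ↔ f ∈ F ∧ f * t * f⁻¹ * t⁻¹ ∈ V := Iff.rfl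

omit [Finite G] in
theorem WW_comm_t (L : Loc t h V) (D : PData t h V P F) {w : G} (hw : w ∈ WW F) : w * t * w⁻¹ * t⁻¹ ∈ V := by
  obtain ⟨h1, h2, h3⟩ := hw
  have hti := t_inv L
  have hwi : w⁻¹ = w := inv_eq_of_mul_eq_one_left h2
  have h4 := tF D h1
  have h5 : w * t * w⁻¹ * t⁻¹ = w * (t * w * t⁻¹) := by rw [hwi]; group
  rw [h5]
  apply D.cF _ (F.mul_mem h1 h4)
  calc t * (w * (t * w * t⁻¹)) = (t * w * t⁻¹) * (t * t) * w * t⁻¹ := by group
    _ = (t * w * t⁻¹) * w * t⁻¹ := by rw [L.t_sq, mul_one]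
    _ = w * (t * w * t⁻¹) * t := by rw [← h3 _ h4, hti]

/-- from an element of `W` outside `V`: `F` is elementary abelian of order 16 -/
theorem sixteen_of_WW (L : Loc t h V) (D : PData t h V P F) {v : G} (hv : v ∈ WW F) (hvV : v ∉ V) :
    Elem F ∧ Nat.card F = 16 := by
  have hVW : V ≤ WW F := fun u hu => ⟨D.V_le hu, L.elem u hu, fun f hf => V_cent D hu hf⟩
  have hWF : WW F ≤ F := fun u hu => hu.1
  have h16 := sixteen_le L D hWF hVW (fun a ha => WW_conj (h_norm D) ha) hv hvV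
  have hDF : DD L D ≤ F := fun u hu => hu.1
  have hWD : WW F ≤ DD L D := fun u hu => ⟨hu.1, WW_comm_t L D hu⟩
  have hD16 := card_le_sixteen L D hDF (fun a ha => ha.2)
  have hWDe : WW F = DD L D := Subgroup.eq_of_le_of_card_ge hWD (hD16.trans h16)
  have hFW : F ≤ WW F := by
    by_contra hno
    have : Fact (Nat.Prime 2) := ⟨Nat.prime_two⟩
    obtain ⟨n, hn, hnW, hfix⟩ := GTwoFour.Tools.exists_fixed_mod (Y := P) (N := F) (M := WW F) D.syl.two
      (F_le_P D) D.norm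
      (fun y hy m hm => WW_conj (T1Class2.mem_normalizer (D.norm y hy)) hm)
      (by
        by_contra h1
        push Not at h1
        exact hno h1)
    have h1 := hfix t (t_mem_P D)
    rw [commutatorElement_def] at h1
    apply hnW
    rw [hWDe]
    refine ⟨hn, ?_⟩
    have hti := t_inv L
    obtain ⟨h2, h3, h4⟩ := h1
    have h5 : t * n * t⁻¹ * n⁻¹ ∈ V := by
      apply D.cF _ h2
      have h6 : (t * n * t⁻¹ * n⁻¹)⁻¹ = t * n * t⁻¹ * n⁻¹ := inv_eq_of_mul_eq_one_left h3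
      calc t * (t * n * t⁻¹ * n⁻¹) = (t * t) * n * t⁻¹ * n⁻¹ := by group
        _ = n * t⁻¹ * n⁻¹ := by rw [L.t_sq, one_mul]
        _ = (t * n * t⁻¹ * n⁻¹)⁻¹ * t := by
          have e : (t * n * t⁻¹ * n⁻¹)⁻¹ * t = n * t * n⁻¹ * (t⁻¹ * t) := by group
          rw [e, inv_mul_cancel, mul_one, hti]
        _ = (t * n * t⁻¹ * n⁻¹) * t := by rw [h6]
    have h7 : n * t * n⁻¹ * t⁻¹ = (t * n * t⁻¹ * n⁻¹)⁻¹ := by group
    rw [h7]; exact V.inv_mem h5
  have hFe : F = WW F := le_antisymm hFW hWF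
  refine ⟨fun x hx => (hFW hx).2.1, ?_⟩
  have h1 : Nat.card F = Nat.card (WW F) := by rw [← hFe]
  rw [h1]
  have h2 : Nat.card (WW F) ≤ 16 := by rw [hWDe]; exact hD16
  omega

/-! ### LEMMA B -/

include D in
/-- an element of `T - T₄` normalising `T₄` -/
theorem exists_norm {T : Subgroup G} (hT : IsPGroup 2 T) (hle : T₄ ≤ T) (hne : T₄ ≠ T) :
    ∃ g ∈ T, g ∉ T₄ ∧ g ∈ Subgroup.normalizer (T₄ : Set G) ∧ ∃ v ∈ V, g * v * g⁻¹ ∉ V := by
  have : Fact (Nat.Prime 2) := ⟨Nat.prime_two⟩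
  have hnil : Group.IsNilpotent T := hT.isNilpotent
  have hcond := Group.normalizerCondition_of_isNilpotent (G := T)
  have hlt : T₄.subgroupOf T < ⊤ := by
    refine lt_top_iff_ne_top.2 fun h => hne (le_antisymm hle ?_)
    exact Subgroup.subgroupOf_eq_top.1 h
  obtain ⟨n, hn1, hn2⟩ := SetLike.exists_of_lt (hcond _ hlt)
  have hnT : (n : G) ∉ T₄ := fun h => hn2 (Subgroup.mem_subgroupOf.2 h)
  have hnN : (n : G) ∈ Subgroup.normalizer (T₄ : Set G) := by
    apply T1Class2.mem_normalizer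
    intro c hc
    have := (Subgroup.mem_normalizer_iff.1 hn1 ⟨c, hle hc⟩).1 (by rw [Subgroup.mem_subgroupOf]; exact hc)
    rw [Subgroup.mem_subgroupOf] at this
    exact this
  refine ⟨n, n.2, hnT, hnN, ?_⟩
  by_contra hno
  push Not at hno
  apply hnT
  have hnV : (n : G) ∈ Subgroup.normalizer (V : Set G) := T1Class2.mem_normalizer hno
  have h1 := D.syl₄.max (T ⊓ Subgroup.normalizer (V : Set G)) inf_le_right (hT.to_le inf_le_left)
    (le_inf hle D.syl₄.le)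
  rw [← h1]
  exact ⟨n.2, hnV⟩

end main

/-- piece D (blueprints/B2Stub.lean.txt): LEMMA B, (1.3) -/
theorem elem_sixteen [Finite G] {t h y : G} {V P F T₄ T : Subgroup G} (L : Loc t h V) (D : FourData t h y V P F T₄)
    (hy : TypeY t h y V ∨ TypeZ t h y V) (hT : IsSyl2 ⊤ T) (hle : T₄ ≤ T) (hne : T₄ ≠ T) :
    Elem F ∧ Nat.card F = 16 := by
  have H := inv_of L hy
  obtain ⟨g, -, -, hgN, v₀, hv₀, hgv⟩ := exists_norm D hT.two hle hne
  set v := g * v₀ * g⁻¹ with hv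
  have hvT : v ∈ T₄ := (Subgroup.mem_normalizer_iff.1 hgN _).1 (F_le_T D (D.V_le hv₀))
  have hc : ∀ x ∈ T₄, Zc y V (v * x * v⁻¹ * x⁻¹) := by
    intro x hx
    have hx' : g⁻¹ * x * g ∈ T₄ := by
      have := (Subgroup.mem_normalizer_iff.1 (Subgroup.inv_mem _ hgN) x).1 hx
      rwa [inv_inv] at this
    have h1 := (zc_iff D L H).1 (comm_V D L H hv₀ hx')
    have h2 : v * x * v⁻¹ * x⁻¹ = g * (v₀ * (g⁻¹ * x * g) * v₀⁻¹ * (g⁻¹ * x * g)⁻¹) * g⁻¹ := by
      rw [hv]; group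
    rw [h2]
    apply (zc_iff D L H).2
    refine ⟨(Subgroup.mem_normalizer_iff.1 hgN _).1 h1.1, fun z hz => ?_⟩
    have hz' : g⁻¹ * z * g ∈ T₄ := by
      have := (Subgroup.mem_normalizer_iff.1 (Subgroup.inv_mem _ hgN) z).1 hz
      rwa [inv_inv] at this
    have h3 := h1.2 _ hz'
    set c := v₀ * (g⁻¹ * x * g) * v₀⁻¹ * (g⁻¹ * x * g)⁻¹
    calc g * c * g⁻¹ * z = g * (c * (g⁻¹ * z * g)) * g⁻¹ := by group
      _ = g * ((g⁻¹ * z * g) * c) * g⁻¹ := by rw [h3]
      _ = _ := by group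
  have hcF : ∀ f ∈ F, Zc y V (v * f * v⁻¹ * f⁻¹) := fun f hf => hc f (F_le_T D hf)
  obtain ⟨f, hf, h1 | h1 | h1 | h1⟩ := (D.mem₄ v).1 hvT
  · have hvF : v ∈ F := by rw [h1]; exact hf
    have hv2 : v * v = 1 := by
      rw [hv]
      calc g * v₀ * g⁻¹ * (g * v₀ * g⁻¹) = g * (v₀ * v₀) * g⁻¹ := by group
        _ = 1 := by rw [L.elem v₀ hv₀]; group
    exact sixteen_of_WW L D.toPData ⟨hvF, hv2, cent_F D L H hvF hcF⟩ hgv
  · exact (not_tF D L H hcF hf h1).elim
  · exact (not_sF D L H (T_norm D (y_mem_T D)) (fun f hf => (hcF f hf).1) hf h1).elim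
  · exact (not_sF D L (H.mul_t L) (Subgroup.mul_mem _ (t_norm D.toPData) (T_norm D (y_mem_T D)))
      (fun f hf => (hcF f hf).1) hf h1).elim

end Cfsg.Agent.OddCyclic.B2LemB
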