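import Cfsg.Agent.OddCyclic.T1Defs

/-!
# Fixed point free elements of order three (blueprints/S0342-T0eq1.md, 0.1) (helper867)

`Q` a finite group, `x` of order three acting fixed point freely: `u u^x u^(x²) = 1`, `[xax⁻¹, b] = [a, xbx⁻¹]`,
class at most two, and `[n, c] = 1 ⇒ [n, xcx⁻¹] = 1`.
-/

set_option autoImplicit false

namespace Cfsg.Agent.OddCyclic.T1Class2

open Cfsg.Agent.LieExceptional.CITDefs Cfsg.Agent.OddCyclic.T1Defs

universe u

/-! ### abstract form -/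

section abs

variable {Q : Type*} [Group Q] [Finite Q] (f : Q →* Q)

/-- `g ↦ g⁻¹ f(g)` is surjective if `f` has no fixed points -/
theorem exists_inv_mul (hf : ∀ u, f u = u → u = 1) (w : Q) : ∃ g, g⁻¹ * f g = w := by
  have hinj : Function.Injective (fun g => g⁻¹ * f g) := by
    intro g h hgh
    have hgh' : g⁻¹ * f g = h⁻¹ * f h := hgh
    have h1 : f (h * g⁻¹) = h * g⁻¹ := by
      rw [map_mul, map_inv]
      calc f h * (f g)⁻¹ = h * (h⁻¹ * f h) * (f g)⁻¹ := by group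
        _ = h * (g⁻¹ * f g) * (f g)⁻¹ := by rw [hgh']
        _ = h * g⁻¹ := by group
    exact (mul_inv_eq_one.1 (hf _ h1)).symm
  exact (Finite.surjective_of_injective hinj) w

variable (hf : ∀ u, f u = u → u = 1) (h3 : ∀ u, f (f (f u)) = u)

include hf h3

theorem triple_abs (u : Q) : u * f u * f (f u) = 1 := by
  obtain ⟨g, rfl⟩ := exists_inv_mul f hf u
  have e1 : f (g⁻¹ * f g) = (f g)⁻¹ * f (f g) := by rw [map_mul, map_inv]
  have e2 : f (f (g⁻¹ * f g)) = (f (f g))⁻¹ * g := by rw [e1, map_mul, map_inv, h3]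
  rw [e2, e1]
  group

theorem comm_self (u : Q) : u * f u = f u * u := by
  have h1 := triple_abs f hf h3 u
  have h2 := triple_abs f hf h3 u⁻¹
  rw [map_inv, map_inv] at h2
  have h4 : f (f u) * f u * u = 1 := by
    have := congrArg (·⁻¹) h2
    simpa [mul_inv_rev, mul_assoc] using this
  have h5 : u * f u = (f (f u))⁻¹ := eq_inv_of_mul_eq_one_left h1
  have h6 : f u * u = (f (f u))⁻¹ := by
    rw [mul_assoc] at h4
    exact (eq_inv_of_mul_eq_one_right h4)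
  rw [h5, h6]

theorem comm_conj_self (u h : Q) : u * (h * f u * h⁻¹) = (h * f u * h⁻¹) * u := by
  obtain ⟨g, rfl⟩ := exists_inv_mul f hf h
  have h1 := comm_self f hf h3 (g * u * g⁻¹)
  rw [map_mul, map_mul, map_inv] at h1
  calc u * (g⁻¹ * f g * f u * (g⁻¹ * f g)⁻¹) = g⁻¹ * (g * u * g⁻¹ * (f g * f u * (f g)⁻¹)) * g := by group
    _ = g⁻¹ * (f g * f u * (f g)⁻¹ * (g * u * g⁻¹)) * g := by rw [h1]
    _ = _ := by group

/-- `[f(a)^h, b] = [a, f(b)^h]` -/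
theorem shift (a b h : Q) : (h * f a * h⁻¹) * b * (h * f a * h⁻¹)⁻¹ * b⁻¹ =
    a * (h * f b * h⁻¹) * a⁻¹ * (h * f b * h⁻¹)⁻¹ := by
  have key : ∀ a b A B : Q, a * A = A * a → b * B = B * b → a * b * (A * B) = A * B * (a * b) →
      A⁻¹ * b * A * b⁻¹ = a⁻¹ * B * a * B⁻¹ := by
    intro a b A B h1 h2 h4
    have h1' : A⁻¹ * a⁻¹ = a⁻¹ * A⁻¹ := by rw [← mul_inv_rev, ← mul_inv_rev, h1]
    have h2' : B⁻¹ * b⁻¹ = b⁻¹ * B⁻¹ := by rw [← mul_inv_rev, ← mul_inv_rev, h2]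
    calc A⁻¹ * b * A * b⁻¹ = A⁻¹ * a⁻¹ * (a * b * (A * B)) * (B⁻¹ * b⁻¹) := by group
      _ = a⁻¹ * A⁻¹ * (A * B * (a * b)) * (b⁻¹ * B⁻¹) := by rw [h1', h2', h4]
      _ = _ := by group
  have hc := comm_conj_self f hf h3
  have h4 : (a⁻¹ * b) * ((h * f a⁻¹ * h⁻¹) * (h * f b * h⁻¹)) =
      ((h * f a⁻¹ * h⁻¹) * (h * f b * h⁻¹)) * (a⁻¹ * b) := by
    have := hc (a⁻¹ * b) h
    rw [map_mul] at this
    have e : (h * f a⁻¹ * h⁻¹) * (h * f b * h⁻¹) = h * (f a⁻¹ * f b) * h⁻¹ := by group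
    rw [e]; exact this
  have h5 := key a⁻¹ b (h * f a⁻¹ * h⁻¹) (h * f b * h⁻¹) (hc a⁻¹ h) (hc b h) h4
  rw [map_inv] at h5
  have e : (h * (f a)⁻¹ * h⁻¹)⁻¹ = h * f a * h⁻¹ := by group
  have e' : h * (f a)⁻¹ * h⁻¹ = (h * f a * h⁻¹)⁻¹ := by group
  rw [e, e', inv_inv] at h5
  exact h5

theorem shift_one (a b : Q) : f a * b * (f a)⁻¹ * b⁻¹ = a * f b * a⁻¹ * (f b)⁻¹ := by
  have := shift f hf h3 a b 1
  simpa using this

theorem shift_conj (a b c : Q) : (c * a * c⁻¹) * b * (c * a * c⁻¹)⁻¹ * b⁻¹ =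
    a * (f c * b * (f c)⁻¹) * a⁻¹ * (f c * b * (f c)⁻¹)⁻¹ := by
  have hb : f (f (f b)) = b := h3 b
  set b' := f (f b) with hb'
  have h1 := shift f hf h3 a b' (f c)
  have h2 := shift_one f hf h3 (c * a * c⁻¹) b'
  rw [hb] at h1 h2
  rw [map_mul, map_mul, map_inv] at h2
  rw [← h2, h1]

theorem central_of (a b c : Q) : (c * a * c⁻¹) * b * (c * a * c⁻¹)⁻¹ * b⁻¹ =
    (f (f c) * a * (f (f c))⁻¹) * b * (f (f c) * a * (f (f c))⁻¹)⁻¹ * b⁻¹ := by
  rw [shift_conj f hf h3 a b c]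
  have h1 := shift_conj f hf h3 b a (f c)
  have h2 := congrArg (·⁻¹) h1
  simp only [mul_inv_rev, inv_inv] at h2
  simp only [mul_inv_rev, inv_inv, ← mul_assoc] at h2 ⊢
  exact h2

/-- class at most two -/
theorem class_two_abs (a b c : Q) : (a * b * a⁻¹ * b⁻¹) * c = c * (a * b * a⁻¹ * b⁻¹) := by
  have hf2 : ∀ u, (f.comp f) u = u → u = 1 := by
    intro u hu
    apply hf
    have := h3 u
    have hu' : f (f u) = u := hu
    rwa [hu'] at this
  -- `w = (f²g)⁻¹ g`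
  obtain ⟨g, hg⟩ := exists_inv_mul (f.comp f) hf2 a⁻¹
  have hg' : (f (f g))⁻¹ * g = a := by
    have : g⁻¹ * f (f g) = a⁻¹ := hg
    have h := congrArg (·⁻¹) this
    simpa using h
  -- `g b g⁻¹` and `f²(g) b f²(g)⁻¹` act in the same way
  have key : ∀ y : Q, (g * b * g⁻¹) * y * (g * b * g⁻¹)⁻¹ =
      (f (f g) * b * (f (f g))⁻¹) * y * (f (f g) * b * (f (f g))⁻¹)⁻¹ := fun y =>
    mul_right_cancel (central_of f hf h3 b y g)
  have hz : ∀ y : Q, ((f (f g) * b * (f (f g))⁻¹)⁻¹ * (g * b * g⁻¹)) * y =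
      y * ((f (f g) * b * (f (f g))⁻¹)⁻¹ * (g * b * g⁻¹)) := by
    intro y
    have := key y
    set X := g * b * g⁻¹ with hX
    set Y := f (f g) * b * (f (f g))⁻¹ with hY
    calc Y⁻¹ * X * y = Y⁻¹ * (X * y * X⁻¹) * X := by group
      _ = Y⁻¹ * (Y * y * Y⁻¹) * X := by rw [this]
      _ = y * (Y⁻¹ * X) := by group
  -- `a b a⁻¹ b⁻¹` is conjugate to this central element
  have h5 : b⁻¹ * (a * b * a⁻¹) = (f (f g))⁻¹ * ((f (f g) * b * (f (f g))⁻¹)⁻¹ * (g * b * g⁻¹)) * f (f g) := by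
    rw [← hg']; group
  have h6 : b⁻¹ * (a * b * a⁻¹) = (f (f g) * b * (f (f g))⁻¹)⁻¹ * (g * b * g⁻¹) := by
    rw [h5, mul_assoc, hz, ← mul_assoc, inv_mul_cancel, one_mul]
  have h7 : a * b * a⁻¹ * b⁻¹ = (f (f g) * b * (f (f g))⁻¹)⁻¹ * (g * b * g⁻¹) := by
    calc a * b * a⁻¹ * b⁻¹ = b * (b⁻¹ * (a * b * a⁻¹)) * b⁻¹ := by group
      _ = b * ((f (f g) * b * (f (f g))⁻¹)⁻¹ * (g * b * g⁻¹)) * b⁻¹ := by rw [h6]
      _ = _ := by rw [← hz, mul_inv_cancel_right]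
  rw [h7, hz]

/-- LEMMA C -/
theorem comm_abs {n c : Q} (hc : n * c = c * n) : n * f c = f c * n := by
  have h1 := shift_one f hf h3 n (f (f c))
  rw [h3, hc, mul_inv_cancel_right, mul_inv_cancel] at h1
  have h2 : f (n * f c * n⁻¹ * (f c)⁻¹) = 1 := by
    rw [map_mul, map_mul, map_mul, map_inv, map_inv]
    exact h1
  have h4 : n * f c * n⁻¹ * (f c)⁻¹ = 1 := by
    have := h3 (n * f c * n⁻¹ * (f c)⁻¹)
    rw [h2, map_one, map_one] at this
    exact this.symm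
  have h5 := mul_inv_eq_one.1 h4
  exact mul_inv_eq_iff_eq_mul.1 h5

end abs

/-! ### ambient form -/

variable {G : Type u} [Group G] [Finite G]

/-- the action of `x` on `Q` -/
def act {Q : Subgroup G} {x : G} (hn : ∀ u ∈ Q, x * u * x⁻¹ ∈ Q) : Q →* Q where
  toFun u := ⟨x * u * x⁻¹, hn u u.2⟩
  map_one' := Subtype.ext (by simp)
  map_mul' u v := Subtype.ext (by
    show x * ((u : G) * v) * x⁻¹ = (x * (u : G) * x⁻¹) * (x * (v : G) * x⁻¹)
    group)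

omit [Finite G] in
theorem act_fix {Q : Subgroup G} {x : G} (hn : ∀ u ∈ Q, x * u * x⁻¹ ∈ Q)
    (hf : ∀ u ∈ Q, x * u = u * x → u = 1) (u : Q) (h : act hn u = u) : u = 1 := by
  apply Subtype.ext
  apply hf u u.2
  exact mul_inv_eq_iff_eq_mul.1 (congrArg Subtype.val h)

omit [Finite G] in
theorem act_three {Q : Subgroup G} {x : G} (hx : orderOf x = 3) (hn : ∀ u ∈ Q, x * u * x⁻¹ ∈ Q) (u : Q) :
    act hn (act hn (act hn u)) = u := by
  apply Subtype.ext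
  show x * (x * (x * (u : G) * x⁻¹) * x⁻¹) * x⁻¹ = u
  have h3 : x * x * x = 1 := by
    have := pow_orderOf_eq_one x
    rw [hx] at this
    simpa [pow_succ] using this
  calc x * (x * (x * (u : G) * x⁻¹) * x⁻¹) * x⁻¹ = (x * x * x) * u * (x * x * x)⁻¹ := by group
    _ = u := by rw [h3]; group

set_option linter.unusedVariables false in
theorem triple {Q : Subgroup G} (hQ : IsPGroup 2 Q) {x : G} (hx : orderOf x = 3) (hn : ∀ u ∈ Q, x * u * x⁻¹ ∈ Q)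
    (hf : ∀ u ∈ Q, x * u = u * x → u = 1) {u : G} (hu : u ∈ Q) :
    u * (x * u * x⁻¹) * (x * (x * u * x⁻¹) * x⁻¹) = 1 :=
  congrArg Subtype.val (triple_abs (act hn) (act_fix hn hf) (act_three hx hn) ⟨u, hu⟩)

set_option linter.unusedVariables false in
theorem class_two {Q : Subgroup G} (hQ : IsPGroup 2 Q) {x : G} (hx : orderOf x = 3) (hn : ∀ u ∈ Q, x * u * x⁻¹ ∈ Q)
    (hf : ∀ u ∈ Q, x * u = u * x → u = 1) {a b c : G} (ha : a ∈ Q) (hb : b ∈ Q) (hc : c ∈ Q) :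
    (a * b * a⁻¹ * b⁻¹) * c = c * (a * b * a⁻¹ * b⁻¹) :=
  congrArg Subtype.val (class_two_abs (act hn) (act_fix hn hf) (act_three hx hn) ⟨a, ha⟩ ⟨b, hb⟩ ⟨c, hc⟩)

set_option linter.unusedVariables false in
/-- LEMMA C -/
theorem comm_conj {Q : Subgroup G} (hQ : IsPGroup 2 Q) {x : G} (hx : orderOf x = 3) (hn : ∀ u ∈ Q, x * u * x⁻¹ ∈ Q)
    (hf : ∀ u ∈ Q, x * u = u * x → u = 1) {n c : G} (hnQ : n ∈ Q) (hcQ : c ∈ Q) (hc : n * c = c * n) :
    n * (x * c * x⁻¹) = (x * c * x⁻¹) * n :=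
  congrArg Subtype.val (comm_abs (act hn) (act_fix hn hf) (act_three hx hn) (n := ⟨n, hnQ⟩) (c := ⟨c, hcQ⟩)
    (Subtype.ext hc))

theorem mem_normalizer {H : Subgroup G} {x : G} (h : ∀ y ∈ H, x * y * x⁻¹ ∈ H) :
    x ∈ Subgroup.normalizer (H : Set G) := by
  rw [Subgroup.mem_normalizer_iff]
  have h1 : H.map (MulAut.conj x).toMonoidHom = H := by
    apply Subgroup.eq_of_le_of_card_ge
    · rintro _ ⟨y, hy, rfl⟩
      exact h y hy
    · rw [Subgroup.card_map_of_injective (MulAut.conj x).injective]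
  intro y
  refine ⟨h y, fun hy => ?_⟩
  have hy' : x * y * x⁻¹ ∈ H.map (MulAut.conj x).toMonoidHom := by rw [h1]; exact hy
  obtain ⟨z, hz, hzy⟩ := hy'
  have : z = y := (MulAut.conj x).injective hzy
  exact this ▸ hz

/-- corollary: `C_Q(A)` is normalised by `P` if the subgroup `A ⊆ Q` is `T`-invariant and `M` is of type 3t -/
theorem centralizer_invariant {M P Q T : Subgroup G} {q : ℕ} (h : ThreeType M P Q T q) {A : Subgroup G} (hA : A ≤ Q)
    (hAT : ∀ t ∈ T, ∀ a ∈ A, t * a * t⁻¹ ∈ A) :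
    ∀ p ∈ P, ∀ c ∈ Q ⊓ Subgroup.centralizer (A : Set G), p * c * p⁻¹ ∈ Q ⊓ Subgroup.centralizer (A : Set G) := by
  have hP : P ≤ Subgroup.normalizer ((Q ⊓ Subgroup.centralizer (A : Set G) : Subgroup G) : Set G) := by
    rw [h.gen, sup_le_iff, Subgroup.closure_le]
    constructor
    · intro t ht
      apply mem_normalizer
      intro c hc
      obtain ⟨hcQ, hcA⟩ := Subgroup.mem_inf.1 hc
      refine Subgroup.mem_inf.2 ⟨h.o2.normal t (h.syl.le ht) c hcQ, ?_⟩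
      rw [Subgroup.mem_centralizer_iff] at hcA ⊢
      intro a ha
      have h1 : t⁻¹ * a * t ∈ A := by
        have := hAT t⁻¹ (T.inv_mem ht) a ha
        rwa [inv_inv] at this
      have h2 := hcA _ h1
      calc a * (t * c * t⁻¹) = t * ((t⁻¹ * a * t) * c) * t⁻¹ := by group
        _ = t * (c * (t⁻¹ * a * t)) * t⁻¹ := by rw [h2]
        _ = _ := by group
    · rintro x ⟨hxM, hx3⟩
      apply mem_normalizer
      intro c hc
      obtain ⟨hcQ, hcA⟩ := Subgroup.mem_inf.1 hc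
      refine Subgroup.mem_inf.2 ⟨h.o2.normal x hxM c hcQ, ?_⟩
      rw [Subgroup.mem_centralizer_iff] at hcA ⊢
      intro a ha
      exact comm_conj h.o2.two hx3 (h.o2.normal x hxM) (h.fpf x hxM hx3) (hA ha) hcQ (hcA a ha)
  intro p hp c hc
  exact (Subgroup.mem_normalizer_iff.1 (hP hp) c).1 hc

end Cfsg.Agent.OddCyclic.T1Class2
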