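import Mathlib
import Cfsg.Agent.OddCyclic.B2Defs
import Cfsg.Agent.OddCyclic.B2Four
import Cfsg.Agent.OddCyclic.B2LemB
import Cfsg.Agent.OddCyclic.T1Class2
import Cfsg.Agent.OddCyclic.CompBasic
import Cfsg.Agent.Lib.PGroupCoprimeAction

/-!
# S0342, case B2, piece B: the Sylow 2-subgroup `P = F⟨t⟩` of `C_G(V)`

(0.4), (0.5), (0.7) of blueprints/S0342-B2.md.
-/

set_option autoImplicit false
universe u

namespace Cfsg.Agent.OddCyclic.B2LemA

open Cfsg.Agent.LieExceptional.CITDefs Cfsg.Agent.OddCyclic.B2Defs Subgroup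

section Abstract

/-- the situation of Lemma A -/
structure Sit {P : Type u} [Group P] (f : P →* P) (t : P) : Prop where
  two : IsPGroup 2 P
  cube : ∀ x, f (f (f x)) = x
  sq : t * t = 1
  ne : t ≠ 1
  ft : f t = t
  fix : ∀ x, f x = x → x = 1 ∨ x = t
  exp : ∀ x, x * t = t * x → x * x = 1
  card : Nat.card (centralizer ({t} : Set P)) = 8

variable {P : Type u} [Group P] {f : P →* P} {t : P}

theorem Sit.inj (S : Sit f t) : Function.Injective f := by
  intro a b h
  rw [← S.cube a, ← S.cube b, h]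

theorem Sit.surj (S : Sit f t) : Function.Surjective f := fun a => ⟨f (f a), S.cube a⟩

theorem mem_cent {x t : P} : x ∈ centralizer ({t} : Set P) ↔ x * t = t * x := by
  rw [mem_centralizer_singleton_iff]

/-- `x⁻¹ f(x) = t` is impossible. -/
theorem Sit.ne_t (S : Sit f t) {x : P} : x⁻¹ * f x ≠ t := by
  intro h
  have h1 : f x = x * t := by rw [← h]; group
  have h2 : f (f (f x)) = x * t := by
    rw [h1, map_mul, map_mul, h1, S.ft, map_mul, h1, S.ft, mul_assoc x, S.sq, mul_one]
  rw [S.cube] at h2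
  exact S.ne (mul_eq_left.mp h2.symm)

/-- A finite group with an automorphism `f`, `f³ = 1`, without non-trivial fixed points has order `≡ 1 mod 3`. -/
theorem card_mod [Finite P] (N : Subgroup P) (hN : ∀ x ∈ N, f x ∈ N) (h3 : ∀ x, f (f (f x)) = x)
    (hf : ∀ x ∈ N, f x = x → x = 1) : Nat.card N % 3 = 1 := by
  classical
  have := Fintype.ofFinite N
  have hpf : Fact (Nat.Prime 3) := ⟨Nat.prime_three⟩
  let σ : Function.End N := fun x => ⟨f x, hN x x.2⟩
  have hσ : σ ^ 3 ^ 1 = 1 := by
    rw [pow_one]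
    funext x
    apply Subtype.ext
    exact h3 x
  have h1 := Equiv.Perm.card_fixedPoints_modEq (f := σ) (p := 3) (n := 1) hσ
  have h2 : Fintype.card (Function.fixedPoints σ) = 1 := by
    rw [Fintype.card_eq_one_iff]
    refine ⟨⟨1, Subtype.ext (map_one f)⟩, ?_⟩
    rintro ⟨x, hx⟩
    apply Subtype.ext
    apply Subtype.ext
    exact hf x x.2 (congrArg Subtype.val hx)
  rw [h2, ← Nat.card_eq_fintype_card] at h1
  exact h1

/-- the case `P` abelian -/
theorem Sit.exists_of_comm [Finite P] (S : Sit f t) (h : ∀ x, x * t = t * x) :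
    ∃ N : Subgroup P, N.index = 2 ∧ t ∉ N ∧ ∀ x ∈ N, f x ∈ N := by
  have hexp : ∀ x : P, x * x = 1 := fun x => S.exp x (h x)
  have hinv : ∀ x : P, x⁻¹ = x := fun x => inv_eq_of_mul_eq_one_left (hexp x)
  have hcomm : ∀ x y : P, x * y = y * x := by
    intro x y
    have h1 := hexp (x * y)
    have h2 : x * y = (x * y)⁻¹ := eq_inv_of_mul_eq_one_left h1
    rw [mul_inv_rev, hinv, hinv] at h2
    exact h2
  let g : P →* P :=
    { toFun := fun x => x⁻¹ * f x
      map_one' := by rw [map_one]; group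
      map_mul' := by
        intro x y
        rw [map_mul, mul_inv_rev, hcomm y⁻¹ x⁻¹]
        calc x⁻¹ * y⁻¹ * (f x * f y) = x⁻¹ * (y⁻¹ * f x) * f y := by group
          _ = x⁻¹ * (f x * y⁻¹) * f y := by rw [hcomm y⁻¹]
          _ = _ := by group }
  have hker : Nat.card g.ker = 2 := by
    have h1 : (g.ker : Set P) = {1, t} := by
      ext x
      rw [SetLike.mem_coe, MonoidHom.mem_ker]
      constructor
      · intro hx
        have h2 : f x = x := (inv_mul_eq_one.mp hx).symm
        rcases S.fix x h2 with h3 | h3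
        · left; exact h3
        · right; exact h3
      · rintro (hx | hx)
        · rw [hx]; exact map_one g
        · rw [Set.mem_singleton_iff.mp hx]
          show t⁻¹ * f t = 1
          rw [S.ft]; group
    have h2 : Nat.card g.ker = (g.ker : Set P).ncard := rfl
    rw [h2, h1, Set.ncard_pair S.ne.symm]
  have h8 : Nat.card P = 8 := by
    rw [← S.card]
    have : centralizer ({t} : Set P) = ⊤ := by
      rw [eq_top_iff]
      intro x _
      exact mem_cent.mpr (h x)
    rw [this, Subgroup.card_top]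
  have hrange : Nat.card g.range = 4 := by
    have h1 := Subgroup.card_mul_index g.ker
    rw [Subgroup.index_ker, hker, h8] at h1
    omega
  refine ⟨g.range, ?_, ?_, ?_⟩
  · have h1 := Subgroup.card_mul_index g.range
    rw [hrange, h8] at h1
    omega
  · rintro ⟨x, hx⟩
    exact S.ne_t hx
  · rintro _ ⟨x, rfl⟩
    refine ⟨f x, ?_⟩
    show (f x)⁻¹ * f (f x) = f (x⁻¹ * f x)
    rw [map_mul, map_inv]

section step

variable [Finite P] (S : Sit f t) (hx : ∃ x, x * t ≠ t * x)

include S hx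

omit [Finite P] S in
theorem Sit.t_notMem : t ∉ center P := by
  obtain ⟨x, hx⟩ := hx
  intro h
  exact hx (mem_center_iff.mp h x)

omit hx [Finite P] in
theorem Sit.f_center : ∀ z ∈ center P, f z ∈ center P := by
  intro z hz
  rw [mem_center_iff] at hz ⊢
  intro y
  obtain ⟨x, rfl⟩ := S.surj y
  rw [← map_mul, ← map_mul, hz]

theorem Sit.fix_center : ∀ z ∈ center P, f z = z → z = 1 := by
  intro z hz hf
  rcases S.fix z hf with h | h
  · exact h
  · rw [h] at hz
    exact absurd hz (Sit.t_notMem hx)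

theorem Sit.card_center : Nat.card (center P) = 4 := by
  have hpf : Fact (Nat.Prime 2) := ⟨Nat.prime_two⟩
  have h1 := card_mod (center P) (S.f_center) S.cube (S.fix_center hx)
  have hnt : Nontrivial P := ⟨⟨t, 1, S.ne⟩⟩
  have h2 : Nontrivial (center P) := S.two.center_nontrivial
  have h3 : Nat.card (center P) ∣ 8 := by
    rw [← S.card]
    apply Subgroup.card_dvd_of_le
    intro z hz
    exact mem_cent.mpr ((mem_center_iff.mp hz t).symm)
  have h4 : Nat.card (center P) ≠ 1 := by
    intro h5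
    rw [Finite.one_lt_card_iff_nontrivial.symm] at h2
    omega
  have h5 : Nat.card (center P) ≤ 8 := Nat.le_of_dvd (by norm_num) h3
  interval_cases hc : Nat.card (center P) <;> omega

theorem Sit.mem_or {c : P} (hc : c * t = t * c) : c ∈ center P ∨ t⁻¹ * c ∈ center P := by
  set C := centralizer ({t} : Set P) with hC
  have hZC : center P ≤ C := by
    intro z hz
    exact mem_cent.mpr ((mem_center_iff.mp hz t).symm)
  have h1 : ((center P).subgroupOf C).index = 2 := by
    have h2 := Subgroup.card_mul_index ((center P).subgroupOf C)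
    have h3 : Nat.card ((center P).subgroupOf C) = 4 := by
      rw [Nat.card_congr (Subgroup.subgroupOfEquivOfLe hZC).toEquiv]
      exact S.card_center hx
    rw [h3, S.card] at h2
    omega
  by_cases h : c ∈ center P
  · exact Or.inl h
  right
  have htC : t ∈ C := mem_cent.mpr rfl
  have hcC : c ∈ C := mem_cent.mpr hc
  have h4 := Subgroup.mul_mem_iff_of_index_two h1 (a := (⟨t, htC⟩ : C)⁻¹) (b := ⟨c, hcC⟩)
  have h5 : (⟨t, htC⟩ : C)⁻¹ ∉ (center P).subgroupOf C := by
    intro h6
    exact Sit.t_notMem hx ((inv_mem_iff (S := Subgroup P)).mp h6)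
  have h6 : (⟨c, hcC⟩ : C) ∉ (center P).subgroupOf C := h
  exact h4.mpr ⟨fun h7 => absurd h7 h5, fun h7 => absurd h7 h6⟩

/-- `B = {x | [x, t] ∈ Z(P)}` -/
def BB (P : Type u) [Group P] (t : P) : Subgroup P where
  carrier := {x | x * t * x⁻¹ * t⁻¹ ∈ center P}
  one_mem' := by
    show (1 : P) * t * 1⁻¹ * t⁻¹ ∈ center P
    have : (1 : P) * t * 1⁻¹ * t⁻¹ = 1 := by group
    rw [this]; exact one_mem _
  mul_mem' := by
    intro x y hx hy
    show x * y * t * (x * y)⁻¹ * t⁻¹ ∈ center P
    have hy' := mem_center_iff.mp hy x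
    have e : x * y * t * (x * y)⁻¹ * t⁻¹ = (x * (y * t * y⁻¹ * t⁻¹)) * t * x⁻¹ * t⁻¹ := by group
    rw [e, hy']
    have e2 : y * t * y⁻¹ * t⁻¹ * x * t * x⁻¹ * t⁻¹ = (y * t * y⁻¹ * t⁻¹) * (x * t * x⁻¹ * t⁻¹) := by
      group
    rw [e2]
    exact mul_mem hy hx
  inv_mem' := by
    intro x hx
    show x⁻¹ * t * x⁻¹⁻¹ * t⁻¹ ∈ center P
    have hx' := mem_center_iff.mp hx x⁻¹
    have e : x⁻¹ * t * x⁻¹⁻¹ * t⁻¹ = (x⁻¹ * (x * t * x⁻¹ * t⁻¹) * x)⁻¹ := by group
    rw [e, hx']
    have e2 : x * t * x⁻¹ * t⁻¹ * x⁻¹ * x = x * t * x⁻¹ * t⁻¹ := by group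
    rw [e2]
    exact inv_mem hx

omit S hx [Finite P] in
theorem mem_BB {x : P} : x ∈ BB P t ↔ x * t * x⁻¹ * t⁻¹ ∈ center P := Iff.rfl

/-- `x ↦ [x, t]` -/
def psi (P : Type u) [Group P] (t : P) : BB P t →* P where
  toFun x := (x : P) * t * (x : P)⁻¹ * t⁻¹
  map_one' := by
    show (1 : P) * t * 1⁻¹ * t⁻¹ = 1
    group
  map_mul' := by
    intro x y
    have hy' := mem_center_iff.mp y.2 (x : P)
    show (x : P) * y * t * ((x : P) * y)⁻¹ * t⁻¹ =
      ((x : P) * t * (x : P)⁻¹ * t⁻¹) * ((y : P) * t * (y : P)⁻¹ * t⁻¹)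
    have e : (x : P) * y * t * ((x : P) * y)⁻¹ * t⁻¹ =
        (x * ((y : P) * t * (y : P)⁻¹ * t⁻¹)) * t * (x : P)⁻¹ * t⁻¹ := by group
    rw [e, hy', mem_center_iff.mp y.2 ((x : P) * t * (x : P)⁻¹ * t⁻¹)]
    group

omit hx in
theorem Sit.f_BB {x : P} (h : x ∈ BB P t) : f x ∈ BB P t := by
  rw [mem_BB] at h ⊢
  have e : f x * t * (f x)⁻¹ * t⁻¹ = f (x * t * x⁻¹ * t⁻¹) := by
    simp only [map_mul, map_inv, S.ft]
  rw [e]
  exact S.f_center _ h

theorem Sit.card_BB : Nat.card (BB P t) = 32 := by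
  have h1 := Subgroup.card_mul_index (psi P t).ker
  rw [Subgroup.index_ker] at h1
  have hker : Nat.card (psi P t).ker = 8 := by
    rw [← S.card]
    have hle : centralizer ({t} : Set P) ≤ BB P t := by
      intro x hx
      rw [mem_BB, mem_cent.mp hx]
      have : t * x * x⁻¹ * t⁻¹ = 1 := by group
      rw [this]; exact one_mem _
    have : (psi P t).ker = (centralizer ({t} : Set P)).subgroupOf (BB P t) := by
      ext x
      rw [MonoidHom.mem_ker, mem_subgroupOf, mem_cent]
      show (x : P) * t * (x : P)⁻¹ * t⁻¹ = 1 ↔ _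
      rw [mul_inv_eq_one, mul_inv_eq_iff_eq_mul]
    rw [this]
    exact Nat.card_congr (Subgroup.subgroupOfEquivOfLe hle).toEquiv
  have hrange : Nat.card (psi P t).range = 4 := by
    have hle : (psi P t).range ≤ center P := by
      rintro _ ⟨x, rfl⟩
      exact x.2
    have h2 := card_mod (psi P t).range (f := f) (by
      rintro _ ⟨x, rfl⟩
      refine ⟨⟨f x, S.f_BB x.2⟩, ?_⟩
      show f x * t * (f x)⁻¹ * t⁻¹ = f (x * t * (x : P)⁻¹ * t⁻¹)
      simp only [map_mul, map_inv, S.ft]) S.cube (fun z hz => S.fix_center hx z (hle hz))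
    have h3 : Nat.card (psi P t).range ∣ 4 := by
      rw [← S.card_center hx]
      exact Subgroup.card_dvd_of_le hle
    have h4 : Nat.card (psi P t).range ≠ 1 := by
      intro h5
      have hpf : Fact (Nat.Prime 2) := ⟨Nat.prime_two⟩
      -- the normaliser of the centraliser of `t` is larger
      have hnil : Group.IsNilpotent P := S.two.isNilpotent
      have hlt : centralizer ({t} : Set P) < ⊤ := by
        rw [lt_top_iff_ne_top]
        intro h6
        obtain ⟨x, hx⟩ := hx
        apply hx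
        have : x ∈ centralizer ({t} : Set P) := by rw [h6]; exact mem_top x
        exact mem_cent.mp this
      obtain ⟨x, hxn, hxc⟩ := SetLike.exists_of_lt
        (Group.normalizerCondition_of_isNilpotent (G := P) _ hlt)
      have h7 : x * t * x⁻¹ ∈ centralizer ({t} : Set P) :=
        (mem_normalizer_iff.mp hxn t).mp (mem_cent.mpr rfl)
      have h8 : x ∈ BB P t := by
        rw [mem_BB]
        rcases S.mem_or hx (mem_cent.mp h7) with h8 | h8
        · exfalso
          apply Sit.t_notMem hx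
          have h9 := mem_center_iff.mp h8 x⁻¹
          have e : t = x * t * x⁻¹ := by
            calc t = x⁻¹ * (x * t * x⁻¹) * x := by group
              _ = x * t * x⁻¹ * x⁻¹ * x := by rw [h9]
              _ = _ := by group
          rw [e]; exact h8
        · have h9 := mem_center_iff.mp h8 t⁻¹
          have e : x * t * x⁻¹ * t⁻¹ = t⁻¹ * (x * t * x⁻¹) := by
            calc x * t * x⁻¹ * t⁻¹ = t * (t⁻¹ * (x * t * x⁻¹) * t⁻¹) := by group
              _ = t * (t⁻¹ * (t⁻¹ * (x * t * x⁻¹))) := by rw [h9]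
              _ = _ := by group
          rw [e]; exact h8
      have h9 : psi P t ⟨x, h8⟩ ∈ (psi P t).range := ⟨_, rfl⟩
      rw [Subgroup.card_eq_one.mp h5, Subgroup.mem_bot] at h9
      apply hxc
      rw [mem_cent]
      have h10 : x * t * x⁻¹ * t⁻¹ = 1 := h9
      rwa [mul_inv_eq_one, mul_inv_eq_iff_eq_mul] at h10
    have h5 : Nat.card (psi P t).range ≤ 4 := Nat.le_of_dvd (by norm_num) h3
    interval_cases hc : Nat.card (psi P t).range <;> omega
  rw [hker, hrange] at h1
  omega

theorem Sit.sq_mem {x : P} (h : x ∈ BB P t) : x * x ∈ center P := by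
  by_cases hxt : x * t = t * x
  · rw [S.exp x hxt]; exact one_mem _
  have h1 : (psi P t ⟨x, h⟩) * (psi P t ⟨x, h⟩) = 1 := by
    apply S.exp
    exact (mem_center_iff.mp h t).symm
  have h2 : x * x * t = t * (x * x) := by
    rw [← map_mul] at h1
    have h10 : x * x * t * (x * x)⁻¹ * t⁻¹ = 1 := h1
    rwa [mul_inv_eq_one, mul_inv_eq_iff_eq_mul] at h10
  rcases S.mem_or hx h2 with h3 | h3
  · exact h3
  · exfalso
    apply hxt
    have h4 := mem_center_iff.mp h3 x
    have h5 : x * t⁻¹ * (x * x) = t⁻¹ * x * (x * x) := by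
      calc x * t⁻¹ * (x * x) = x * (t⁻¹ * (x * x)) := by group
        _ = t⁻¹ * (x * x) * x := h4
        _ = _ := by group
    have h6 : x * t⁻¹ = t⁻¹ * x := mul_right_cancel h5
    calc x * t = t * (t⁻¹ * x) * t := by group
      _ = t * (x * t⁻¹) * t := by rw [h6]
      _ = _ := by group

/-- the induced map on `P / Z(P)` -/
def fq (f : P →* P) (h : ∀ z ∈ center P, f z ∈ center P) : P ⧸ center P →* P ⧸ center P :=
  QuotientGroup.map (center P) (center P) f h

omit [Finite P] S hx in
theorem fq_mk {h : ∀ z ∈ center P, f z ∈ center P} (x : P) :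
    fq f h (x : P ⧸ center P) = (f x : P ⧸ center P) := rfl

omit S hx [Finite P] in
theorem mk_comm (x : P) : ((x : P ⧸ center P) * (t : P ⧸ center P) = (t : P ⧸ center P) * (x : P ⧸ center P)) ↔
    x ∈ BB P t := by
  rw [← QuotientGroup.mk_mul, ← QuotientGroup.mk_mul, eq_comm, QuotientGroup.eq, mem_BB]
  have e : (t * x)⁻¹ * (x * t) = (t * x)⁻¹ * (x * t * x⁻¹ * t⁻¹) * (t * x) := by group
  rw [e]
  constructor
  · intro h
    have h1 := mem_center_iff.mp h (t * x)
    have e2 : x * t * x⁻¹ * t⁻¹ = t * x * ((t * x)⁻¹ * (x * t * x⁻¹ * t⁻¹) * (t * x)) * (t * x)⁻¹ := by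
      group
    rw [e2, h1, mul_inv_cancel_right]
    exact h
  · intro h
    have h1 := mem_center_iff.mp h (t * x)⁻¹
    rw [h1, inv_mul_cancel_right]
    exact h

theorem Sit.quot : Sit (fq f S.f_center) (t : P ⧸ center P) := by
  refine ⟨S.two.to_quotient _, ?_, ?_, ?_, ?_, ?_, ?_, ?_⟩
  · intro x
    induction x using QuotientGroup.induction_on with
    | H x => rw [fq_mk, fq_mk, fq_mk, S.cube]
  · rw [← QuotientGroup.mk_mul, S.sq, QuotientGroup.mk_one]
  · intro h
    exact Sit.t_notMem hx ((QuotientGroup.eq_one_iff t).mp h)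
  · rw [fq_mk, S.ft]
  · intro x
    induction x using QuotientGroup.induction_on with
    | H x =>
      intro h
      rw [fq_mk] at h
      have h1 : x⁻¹ * f x ∈ center P := by
        rw [← QuotientGroup.eq]; exact h.symm
      -- solve `z⁻¹ f z = x⁻¹ f x`
      have hinj : Function.Injective (fun z : center P => (⟨(z : P)⁻¹ * f z,
          mul_mem (inv_mem z.2) (S.f_center z z.2)⟩ : center P)) := by
        intro a b hab
        have h2 : (a : P)⁻¹ * f a = (b : P)⁻¹ * f b := congrArg Subtype.val hab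
        have h3 : f ((b : P) * (a : P)⁻¹) = (b : P) * (a : P)⁻¹ := by
          rw [map_mul, map_inv, mul_inv_eq_iff_eq_mul, mul_assoc, h2, mul_inv_cancel_left]
        have h4 := S.fix_center hx _ (mul_mem b.2 (inv_mem a.2)) h3
        exact Subtype.ext (mul_inv_eq_one.mp h4).symm
      obtain ⟨⟨z, hz⟩, hz'⟩ := (Finite.injective_iff_surjective.mp hinj) ⟨_, h1⟩
      have h2 : z⁻¹ * f z = x⁻¹ * f x := congrArg Subtype.val hz'
      have h3 : f (x * z⁻¹) = x * z⁻¹ := by
        have h4 : f x = x * z⁻¹ * f z := by rw [mul_assoc, h2]; group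
        rw [map_mul, map_inv, h4, mul_inv_cancel_right]
      rcases S.fix _ h3 with h4 | h4
      · left
        rw [mul_inv_eq_one] at h4
        rw [h4]
        exact (QuotientGroup.eq_one_iff z).mpr hz
      · right
        rw [mul_inv_eq_iff_eq_mul] at h4
        rw [h4, QuotientGroup.mk_mul, (QuotientGroup.eq_one_iff z).mpr hz, mul_one]
  · intro x
    induction x using QuotientGroup.induction_on with
    | H x =>
      intro h
      rw [← QuotientGroup.mk_mul, ← QuotientGroup.mk_mul] at h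
      rw [← QuotientGroup.mk_mul, QuotientGroup.eq_one_iff]
      apply S.sq_mem hx
      exact (mk_comm x).mp h
  · have h1 : (centralizer ({(t : P ⧸ center P)} : Set (P ⧸ center P))).comap
        (QuotientGroup.mk' (center P)) = BB P t := by
      ext x
      rw [mem_comap, mem_cent]
      exact mk_comm x
    have h2 := Subgroup.card_mul_index (centralizer ({(t : P ⧸ center P)} : Set (P ⧸ center P)))
    have h3 := Subgroup.card_mul_index (BB P t)
    rw [← h1, Subgroup.index_comap_of_surjective _ (QuotientGroup.mk'_surjective _), h1,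
      S.card_BB hx] at h3
    have h4 := Subgroup.card_eq_card_quotient_mul_card_subgroup (center P)
    rw [S.card_center hx] at h4
    rw [h4, ← h2] at h3
    have h5 : 0 < (centralizer ({(t : P ⧸ center P)} : Set (P ⧸ center P))).index := by
      have h6 : 0 < Nat.card (P ⧸ center P) := Nat.card_pos
      rw [← h2] at h6
      exact Nat.pos_of_mul_pos_left h6
    have h6 : 32 * (centralizer ({(t : P ⧸ center P)} : Set (P ⧸ center P))).index =
        (Nat.card (centralizer ({(t : P ⧸ center P)} : Set (P ⧸ center P))) * 4) *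
          (centralizer ({(t : P ⧸ center P)} : Set (P ⧸ center P))).index := by
      rw [h3]; ring
    have h7 := Nat.eq_of_mul_eq_mul_right h5 h6
    omega

end step

/-- Lemma A, abstract form -/
theorem exists_index_two : ∀ (n : ℕ) (P : Type u) [Group P] [Finite P] (f : P →* P) (t : P), Sit f t →
    Nat.card P = n → ∃ N : Subgroup P, N.index = 2 ∧ t ∉ N ∧ ∀ x ∈ N, f x ∈ N := by
  intro n
  induction n using Nat.strong_induction_on with
  | _ n ih =>
    intro P _ _ f t S hn
    by_cases hx : ∀ x, x * t = t * x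
    · exact S.exists_of_comm hx
    push Not at hx
    have hlt : Nat.card (P ⧸ center P) < n := by
      rw [← hn]
      have h1 := Subgroup.card_eq_card_quotient_mul_card_subgroup (center P)
      rw [S.card_center hx] at h1
      have h2 : 0 < Nat.card (P ⧸ center P) := Nat.card_pos
      omega
    obtain ⟨N, h2, h3, h4⟩ := ih _ hlt (P ⧸ center P) (fq f S.f_center) t (S.quot hx) rfl
    refine ⟨N.comap (QuotientGroup.mk' (center P)), ?_, ?_, ?_⟩
    · rw [Subgroup.index_comap_of_surjective _ (QuotientGroup.mk'_surjective _), h2]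
    · exact h3
    · intro x hx
      exact h4 _ hx

end Abstract

variable {G : Type u} [Group G] {t h : G} {V P F : Subgroup G}

/-! ### (0.4) -/

/-- A normal subgroup of order divisible by 3 contains all elements of order 3. -/
theorem mem_of_orderOf {H : Type*} [Group H] [Finite H] (hc : ∀ P : Sylow 3 H, IsCyclic P)
    {N : Subgroup H} (hN : N.Normal) (hpN : 3 ∣ Nat.card N) {x : H} (hx : orderOf x = 3) : x ∈ N := by
  have hpf : Fact (Nat.Prime 3) := ⟨Nat.prime_three⟩
  obtain ⟨⟨y, hyN⟩, hy⟩ := exists_prime_orderOf_dvd_card' (G := N) 3 hpN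
  rw [Subgroup.orderOf_mk] at hy
  have hxp : IsPGroup 3 (zpowers x) := IsPGroup.of_card (n := 1) (by
    rw [Nat.card_zpowers, hx, pow_one])
  have hyp : IsPGroup 3 (zpowers y) := IsPGroup.of_card (n := 1) (by
    rw [Nat.card_zpowers, hy, pow_one])
  obtain ⟨P, hP⟩ := hxp.exists_le_sylow
  obtain ⟨Q, hQ⟩ := hyp.exists_le_sylow
  obtain ⟨g, hg⟩ := MulAction.exists_smul_eq H Q P
  have hxP : x ∈ (P : Subgroup H) := hP (mem_zpowers x)
  have hyP : g * y * g⁻¹ ∈ (P : Subgroup H) := by
    rw [← hg]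
    exact ⟨y, hQ (mem_zpowers y), rfl⟩
  have := hc P
  have h1 : zpowers (⟨x, hxP⟩ : P) = zpowers (⟨g * y * g⁻¹, hyP⟩ : P) := by
    apply CompBasic.zpowers_eq_of_cyclic
    rw [Subgroup.orderOf_mk, Subgroup.orderOf_mk, hx]
    have : orderOf (g * y * g⁻¹) = orderOf y := by
      rw [← MulAut.conj_apply]
      exact orderOf_injective (MulAut.conj g).toMonoidHom (MulAut.conj g).injective y
    rw [this, hy]
  have h2 : (⟨x, hxP⟩ : P) ∈ zpowers (⟨g * y * g⁻¹, hyP⟩ : P) := by
    rw [← h1]; exact mem_zpowers _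
  obtain ⟨n, hn⟩ := h2
  have h3 : (g * y * g⁻¹) ^ n = x := congrArg Subtype.val hn
  rw [← h3]
  exact N.zpow_mem (hN.conj_mem y hyN g) n

theorem cyc_subgroup [Finite G] (hc : ∀ P : Sylow 3 G, IsCyclic P) (H : Subgroup G) (P : Sylow 3 H) :
    IsCyclic P := by
  have h1 : IsPGroup 3 ((P : Subgroup H).map H.subtype) := P.isPGroup'.map _
  obtain ⟨Q, hQ⟩ := h1.exists_le_sylow
  have := hc Q
  have h2 : IsCyclic ((P : Subgroup H).map H.subtype) :=
    isCyclic_of_injective (Subgroup.inclusion hQ) (Subgroup.inclusion_injective hQ)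
  exact isCyclic_of_injective
    ((P : Subgroup H).equivMapOfInjective H.subtype H.subtype_injective).toMonoidHom
    ((P : Subgroup H).equivMapOfInjective H.subtype H.subtype_injective).injective

/-- (0.4) -/
theorem three [Finite G] (L : Loc t h V) : ¬ 3 ∣ Nat.card (centralizer (V : Set G)) := by
  intro h3
  set C := centralizer (V : Set G) with hC
  have hhN : h ∈ normalizer (C : Set G) := B2Four.mem_norm fun x hx => B2Four.cent_conj L.hV hx
  have hN : (C.subgroupOf (normalizer (C : Set G))).Normal := Subgroup.normal_subgroupOf_of_le_normalizer le_rfl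
  have h1 : 3 ∣ Nat.card (C.subgroupOf (normalizer (C : Set G))) := by
    rw [Nat.card_congr (Subgroup.subgroupOfEquivOfLe Subgroup.le_normalizer).toEquiv]
    exact h3
  have h2 := mem_of_orderOf (cyc_subgroup L.cyc (normalizer (C : Set G))) hN h1
    (x := ⟨h, hhN⟩) (by rw [Subgroup.orderOf_mk]; exact B2LemB.order_h L)
  have h4 : h ∈ C := h2
  obtain ⟨v, hv, hv1⟩ := B2Four.exists_ne_one L.card_V
  exact hv1 (L.fpfV v hv (mem_centralizer_iff.mp h4 v hv).symm)

/-! ### (0.5) -/

/-- `E = ⟨t⟩V` -/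
def EE (L : Loc t h V) : Subgroup G where
  carrier := {x | x ∈ V ∨ t * x ∈ V}
  one_mem' := Or.inl V.one_mem
  mul_mem' := by
    have key : ∀ x, t * x ∈ V → x * t = t * x := by
      intro x hx
      have h1 := L.tV _ hx
      have h2 : t * (t * x) = x := by rw [← mul_assoc, L.t_sq, one_mul]
      rw [h2] at h1
      calc x * t = (t * x * t) * t := by rw [← h1]
        _ = t * x * (t * t) := by group
        _ = t * x := by rw [L.t_sq, mul_one]
    rintro a b (ha | ha) (hb | hb)
    · exact Or.inl (V.mul_mem ha hb)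
    · right
      have e : t * (a * b) = a * (t * b) := by rw [← mul_assoc, L.tV a ha, mul_assoc]
      rw [e]; exact V.mul_mem ha hb
    · right
      have e : t * (a * b) = (t * a) * b := by group
      rw [e]; exact V.mul_mem ha hb
    · left
      have e : a * b = (t * a) * (t * b) := by
        rw [← key a ha]
        calc a * b = a * (t * t) * b := by rw [L.t_sq, mul_one]
          _ = _ := by group
      rw [e]; exact V.mul_mem ha hb
  inv_mem' := by
    rintro a (ha | ha)
    · exact Or.inl (V.inv_mem ha)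
    · right
      have e : t * a⁻¹ = (t * a)⁻¹ := by
        have h1 := L.tV _ ha
        have h2 : t * (t * a) = a := by rw [← mul_assoc, L.t_sq, one_mul]
        rw [h2] at h1
        -- `a = t a t`
        rw [mul_inv_rev, B2LemB.t_inv L]
        calc t * a⁻¹ = t * (t * a * t)⁻¹ := by rw [← h1]
          _ = (t * t⁻¹) * a⁻¹ * t⁻¹ := by group
          _ = a⁻¹ * t := by rw [mul_inv_cancel, one_mul, B2LemB.t_inv L]
      rw [e]; exact V.inv_mem ha

theorem mem_EE (L : Loc t h V) {x : G} : x ∈ EE L ↔ x ∈ V ∨ t * x ∈ V := Iff.rfl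

theorem t_mem_EE (L : Loc t h V) : t ∈ EE L := Or.inr (by rw [L.t_sq]; exact V.one_mem)

theorem V_le_EE (L : Loc t h V) : V ≤ EE L := fun _ hx => Or.inl hx

theorem EE_comm (L : Loc t h V) {x : G} (hx : x ∈ EE L) : x * t = t * x := by
  rcases hx with hx | hx
  · exact (L.tV x hx).symm
  · have h1 := L.tV _ hx
    have h2 : t * (t * x) = x := by rw [← mul_assoc, L.t_sq, one_mul]
    rw [h2] at h1
    calc x * t = (t * x * t) * t := by rw [← h1]
      _ = t * x * (t * t) := by group
      _ = t * x := by rw [L.t_sq, mul_one]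

theorem EE_sq (L : Loc t h V) {x : G} (hx : x ∈ EE L) : x * x = 1 := by
  have hc := EE_comm L hx
  rcases hx with hx | hx
  · exact L.elem x hx
  · have h1 := L.elem _ hx
    calc x * x = x * (t * t) * x := by rw [L.t_sq, mul_one]
      _ = (x * t) * (t * x) := by group
      _ = (t * x) * (t * x) := by rw [hc]
      _ = 1 := h1

theorem isPGroup_EE (L : Loc t h V) : IsPGroup 2 (EE L) := by
  rintro ⟨x, hx⟩
  refine ⟨1, Subtype.ext ?_⟩
  show x ^ 2 ^ 1 = 1
  rw [pow_one, pow_two, EE_sq L hx]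

theorem mem_EE_iff (L : Loc t h V) {x : G} : x ∈ EE L ↔ x ∈ centralizer (V : Set G) ∧ x * t = t * x := by
  constructor
  · intro hx
    refine ⟨?_, EE_comm L hx⟩
    rw [mem_centralizer_iff]
    intro v hv
    exact (show Elem (EE L) from fun y hy => EE_sq L hy).comm (V_le_EE L hv) hx
  · rintro ⟨h1, h2⟩
    obtain ⟨v, hv, h3 | h3⟩ := L.cent x h2 fun v hv => (mem_centralizer_iff.mp h1 v hv).symm
    · rw [h3]; exact V_le_EE L hv
    · right
      rw [h3, ← mul_assoc, L.t_sq, one_mul]; exact hv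

theorem EE_conj (L : Loc t h V) : ∀ x ∈ EE L, h * x * h⁻¹ ∈ EE L := by
  rintro x (hx | hx)
  · exact Or.inl (L.hV x hx)
  · right
    have e : t * (h * x * h⁻¹) = h * (t * x) * h⁻¹ := by
      calc t * (h * x * h⁻¹) = (t * h) * x * h⁻¹ := by group
        _ = (h * t) * x * h⁻¹ := by rw [L.ht]
        _ = _ := by group
    rw [e]; exact L.hV _ hx

theorem t_notMem_V (L : Loc t h V) : t ∉ V := by
  intro h1
  apply L.not_conj 1
  simpa using h1

theorem card_EE [Finite G] (L : Loc t h V) : Nat.card (EE L) = 8 := by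
  have h1 : ((V.subgroupOf (EE L)).index) = 2 := by
    rw [Subgroup.index_eq_two_iff]
    refine ⟨⟨t, t_mem_EE L⟩, fun b => ?_⟩
    rw [mem_subgroupOf, mem_subgroupOf]
    show Xor (((b : G) * t) ∈ V) ((b : G) ∈ V)
    rw [EE_comm L b.2]
    rcases b.2 with hb | hb
    · refine Or.inr ⟨hb, fun h2 => t_notMem_V L ?_⟩
      have e : t = (t * b) * (b : G)⁻¹ := by group
      rw [e]; exact V.mul_mem h2 (V.inv_mem hb)
    · refine Or.inl ⟨hb, fun h2 => t_notMem_V L ?_⟩
      have e : t = (t * b) * (b : G)⁻¹ := by group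
      rw [e]; exact V.mul_mem hb (V.inv_mem h2)
  have h2 := Subgroup.card_mul_index (V.subgroupOf (EE L))
  rw [h1, Nat.card_congr (Subgroup.subgroupOfEquivOfLe (V_le_EE L)).toEquiv, L.card_V] at h2
  exact h2.symm

/-- elements of the 2-group `P` commuting with `h` -/
theorem fix_P [Finite G] (L : Loc t h V) {P : Subgroup G} (hP : IsPGroup 2 P)
    (hPC : P ≤ centralizer (V : Set G)) (ht : t ∈ P) {x : G} (hx : x ∈ P) (hc : h * x = x * h) :
    x = 1 ∨ x = t := by
  have hpf : Fact (Nat.Prime 2) := ⟨Nat.prime_two⟩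
  set X : Subgroup G := P ⊓ centralizer ({h} : Set G) with hX
  have hXp : IsPGroup 2 X := hP.to_le inf_le_left
  have htX : t ∈ X := ⟨ht, mem_centralizer_singleton_iff.mpr L.ht.symm⟩
  have hself : ∀ y ∈ X, y * t = t * y → y = 1 ∨ y = t := by
    intro y hy hyt
    exact B2Four.eq_of_comm L (hPC hy.1) hyt (mem_centralizer_singleton_iff.mp hy.2)
  have hnt : Nontrivial X := ⟨⟨⟨t, htX⟩, 1, fun h1 => L.t_ne (congrArg Subtype.val h1)⟩⟩
  obtain ⟨⟨⟨z, hzX⟩, hz⟩, hz1⟩ := @exists_ne _ hXp.center_nontrivial (1 : center X)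
  have hzc : ∀ y ∈ X, y * z = z * y := fun y hy => congrArg Subtype.val (mem_center_iff.mp hz ⟨y, hy⟩)
  have hzt : z = t := by
    rcases hself z hzX (hzc t htX).symm with h1 | h1
    · exact absurd (Subtype.ext (Subtype.ext h1)) hz1
    · exact h1
  rw [hzt] at hzc
  have hxX : x ∈ X := ⟨hx, mem_centralizer_singleton_iff.mpr hc.symm⟩
  exact hself x hxX (hzc x hxX)

theorem conj_comm_t (L : Loc t h V) : h * t * h⁻¹ = t := by
  rw [L.ht, mul_inv_cancel_right]

/-- (0.5): the `h`-invariant maximal subgroup `F` of the `h`-invariant 2-subgroup `P` containing `E` -/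
theorem exists_F [Finite G] (L : Loc t h V) {P : Subgroup G} (hP : IsPGroup 2 P)
    (hPC : P ≤ centralizer (V : Set G)) (hE : EE L ≤ P) (hPh : ∀ x ∈ P, h * x * h⁻¹ ∈ P) :
    ∃ F : Subgroup G, F ≤ P ∧ t ∉ F ∧ (∀ x ∈ F, h * x * h⁻¹ ∈ F) ∧
      ∀ a ∈ P, ∀ b ∈ P, (a * b ∈ F ↔ (a ∈ F ↔ b ∈ F)) := by
  have ht : t ∈ P := hE (t_mem_EE L)
  let f : P →* P := T1Class2.act hPh
  have hf : ∀ x : P, ((f x : P) : G) = h * x * h⁻¹ := fun x => rfl
  have S : Sit f (⟨t, ht⟩ : P) := by
    refine ⟨hP, ?_, ?_, ?_, ?_, ?_, ?_, ?_⟩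
    · intro x
      exact T1Class2.act_three (B2LemB.order_h L) hPh x
    · exact Subtype.ext L.t_sq
    · intro h1; exact L.t_ne (congrArg Subtype.val h1)
    · exact Subtype.ext (conj_comm_t L)
    · intro x hx
      have h1 : h * (x : G) = x * h := by
        have := congrArg Subtype.val hx
        rw [hf] at this
        rwa [mul_inv_eq_iff_eq_mul] at this
      rcases fix_P L hP hPC ht x.2 h1 with h2 | h2
      · left; exact Subtype.ext h2
      · right; exact Subtype.ext h2
    · intro x hx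
      apply Subtype.ext
      have h1 : (x : G) * t = t * x := congrArg Subtype.val hx
      exact EE_sq L ((mem_EE_iff L).mpr ⟨hPC x.2, h1⟩)
    · rw [← card_EE L]
      have h1 : centralizer ({(⟨t, ht⟩ : P)} : Set P) = (EE L).subgroupOf P := by
        ext x
        rw [mem_cent, mem_subgroupOf, mem_EE_iff]
        constructor
        · intro h1
          exact ⟨hPC x.2, congrArg Subtype.val h1⟩
        · rintro ⟨-, h1⟩
          exact Subtype.ext h1
      rw [h1]
      exact Nat.card_congr (Subgroup.subgroupOfEquivOfLe hE).toEquiv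
  obtain ⟨N, h2, h3, h4⟩ := exists_index_two _ P f _ S rfl
  refine ⟨N.map P.subtype, Subgroup.map_subtype_le N, ?_, ?_, ?_⟩
  · rintro ⟨x, hx, hxt⟩
    apply h3
    have : x = ⟨t, ht⟩ := Subtype.ext hxt
    rw [← this]; exact hx
  · rintro _ ⟨x, hx, rfl⟩
    exact ⟨f x, h4 x hx, rfl⟩
  · have key : ∀ x : P, (x : G) ∈ N.map P.subtype ↔ x ∈ N := by
      intro x
      constructor
      · rintro ⟨y, hy, hyx⟩
        have : y = x := Subtype.ext hyx
        rwa [← this]
      · intro hx; exact ⟨x, hx, rfl⟩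
    intro a ha b hb
    have h5 := Subgroup.mul_mem_iff_of_index_two h2 (a := ⟨a, ha⟩) (b := ⟨b, hb⟩)
    rw [← key, ← key, ← key] at h5
    exact h5

/-- if `E` is a Sylow 2-subgroup of `C_G(V)` then (nsw) fails -/
theorem ne_EE [Finite G] (L : Loc t h V) (hn : NswAt t V) (hE : IsSyl2 (centralizer (V : Set G)) (EE L)) :
    False := by
  have hpf : Fact (Nat.Prime 2) := ⟨Nat.prime_two⟩
  obtain ⟨b, hbV, hbt, hbn⟩ := hn
  obtain ⟨k, m, hm, hkm⟩ := Nat.exists_eq_two_pow_mul_odd (n := orderOf b) (orderOf_pos b).ne'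
  -- `b ^ n t b ^ (-n) = v ^ n t`
  set v := b * t * b⁻¹ * t with hv
  have hti := B2LemB.t_inv L
  have h1 : b * t * b⁻¹ = v * t := by
    rw [hv]
    calc b * t * b⁻¹ = b * t * b⁻¹ * (t * t) := by rw [L.t_sq, mul_one]
      _ = _ := by group
  have h2 : ∀ n : ℕ, b ^ n * t * (b ^ n)⁻¹ = v ^ n * t := by
    intro n
    induction n with
    | zero => simp
    | succ n ih =>
      have hbvn : Commute b (v ^ n) := (show Commute b v from hbV v hbt).pow_right n
      calc b ^ (n + 1) * t * (b ^ (n + 1))⁻¹ = b * (b ^ n * t * (b ^ n)⁻¹) * b⁻¹ := by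
            rw [pow_succ']; group
        _ = (b * v ^ n) * t * b⁻¹ := by rw [ih]; group
        _ = v ^ n * (b * t * b⁻¹) := by rw [hbvn.eq]; group
        _ = v ^ (n + 1) * t := by rw [h1, pow_succ]; group
  have hvv : v * v = 1 := L.elem v hbt
  have hv1 : v ≠ 1 := by
    intro h3
    apply hbn
    rw [h3, one_mul, mul_inv_eq_iff_eq_mul] at h1
    exact h1
  have hvm : v ^ m = v := by
    obtain ⟨r, hr⟩ := hm
    rw [hr, pow_succ, pow_mul, pow_two, hvv, one_pow, one_mul]
  set c := b ^ m with hc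
  have hct : c * t * c⁻¹ = v * t := by rw [hc, h2, hvm]
  have hcp : IsPGroup 2 (zpowers c) := by
    rw [IsPGroup.iff_card]
    refine ⟨k, ?_⟩
    rw [Nat.card_zpowers, hc, orderOf_pow, hkm, Nat.gcd_eq_right (Dvd.intro_left _ rfl)]
    exact Nat.mul_div_cancel _ hm.pos
  have hcC : c ∈ centralizer (V : Set G) := by
    apply Subgroup.pow_mem
    rw [mem_centralizer_iff]
    intro x hx
    exact (hbV x hx).symm
  -- `c` normalises `E`
  have hcE : c ∈ normalizer (EE L : Set G) := by
    apply B2Four.mem_norm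
    have hcV : ∀ x ∈ V, c * x * c⁻¹ = x := by
      intro x hx
      rw [← mem_centralizer_iff.mp hcC x hx, mul_inv_cancel_right]
    rintro x (hx | hx)
    · left; rw [hcV x hx]; exact hx
    · right
      have e : t * (c * x * c⁻¹) = t * ((c * t * c⁻¹) * (c * (t * x) * c⁻¹)) := by
        have : (c * t * c⁻¹) * (c * (t * x) * c⁻¹) = c * ((t * t) * x) * c⁻¹ := by group
        rw [this, L.t_sq, one_mul]
      rw [e, hct, hcV _ hx]
      have e2 : t * (v * t * (t * x)) = v * (t * x) := by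
        calc t * (v * t * (t * x)) = (t * v) * (t * t) * x := by group
          _ = (t * v) * x := by rw [L.t_sq, mul_one]
          _ = v * t * x := by rw [L.tV v hbt]
          _ = _ := by group
      rw [e2]
      exact V.mul_mem hbt hx
  have hsup : IsPGroup 2 (zpowers c ⊔ EE L : Subgroup G) :=
    hcp.to_sup_of_normal_right' (isPGroup_EE L) (zpowers_le.mpr hcE)
  have h5 := hE.max _ (sup_le (zpowers_le.mpr hcC) hE.le) hsup le_sup_right
  have h6 : c ∈ EE L := by
    rw [← h5]
    exact (le_sup_left : zpowers c ≤ _) (mem_zpowers c)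
  have h7 := EE_comm L h6
  rw [h7, mul_inv_cancel_right] at hct
  exact hv1 (mul_eq_right.mp hct.symm)

/-- (0.4), (0.5) -/
theorem exists_pData [Finite G] (L : Loc t h V) (hn : NswAt t V) : ∃ P F, PData t h V P F := by
  have hpf2 : Fact (Nat.Prime 2) := ⟨Nat.prime_two⟩
  have hpf3 : Fact (Nat.Prime 3) := ⟨Nat.prime_three⟩
  have hA : IsPGroup 3 (zpowers h) := IsPGroup.of_card (n := 1) (by
    rw [Nat.card_zpowers, B2LemB.order_h L, pow_one])
  have hzp : ∀ {B : Subgroup G}, (∀ x ∈ B, h * x * h⁻¹ ∈ B) → ∀ b ∈ zpowers h, ∀ x ∈ B, b * x * b⁻¹ ∈ B := by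
    intro B hB b hb
    have h1 : h ∈ normalizer (B : Set G) := B2Four.mem_norm hB
    exact B2Four.of_mem_norm ((zpowers_le.mpr h1) hb)
  obtain ⟨P, hT, hPinv, hEP⟩ := Lib.PGroupCoprimeAction.exists_invariant_sylow_ge hA (three L)
    (hzp fun x hx => B2Four.cent_conj L.hV hx) (q := 2) (R := EE L)
    (fun x hx => ((mem_EE_iff L).mp hx).1) (isPGroup_EE L) (hzp (EE_conj L))
  rw [Blocks.SylowIn.exists_sylow_map_eq_iff] at hT
  obtain ⟨hPC, hP2, hPmax⟩ := hT
  have hPs : IsSyl2 (centralizer (V : Set G)) P := ⟨hPC, hP2, fun Y h1 h2 h3 => hPmax Y h1 h2 h3⟩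
  have hPh : ∀ x ∈ P, h * x * h⁻¹ ∈ P := hPinv h (mem_zpowers h)
  obtain ⟨F, hFP, htF, hFh, hF2⟩ := exists_F L hP2 hPC hEP hPh
  have htP : t ∈ P := hEP (t_mem_EE L)
  have hFh' : ∀ x ∈ F, h⁻¹ * x * h ∈ F := fun x hx => B2LemB.inv_conj L hFh hx
  have hVF : V ≤ F := by
    intro v hv
    obtain ⟨w, hw⟩ := T1Class2.exists_inv_mul (T1Class2.act L.hV)
      (T1Class2.act_fix L.hV L.fpfV) ⟨v, hv⟩
    have hw' : (w : G)⁻¹ * (h * w * h⁻¹) = v := congrArg Subtype.val hw
    rw [← hw']
    have hwP : (w : G) ∈ P := hEP (V_le_EE L w.2)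
    rw [hF2 _ (P.inv_mem hwP) _ (hPh _ hwP), inv_mem_iff]
    constructor
    · intro h1; exact hFh _ h1
    · intro h1
      have h2 := hFh' _ h1
      have e : h⁻¹ * (h * (w : G) * h⁻¹) * h = w := by group
      rwa [e] at h2
  refine ⟨P, F, hPs, hPh, hFh, ?_, ?_, htF, ?_, hVF, ?_, ?_⟩
  · intro x hx f hf
    rw [hF2 _ (P.mul_mem hx (hFP hf)) _ (P.inv_mem hx), hF2 _ hx _ (hFP hf), inv_mem_iff]
    constructor
    · intro h1; exact h1.mpr hf
    · intro h1; exact ⟨fun _ => hf, fun _ => h1⟩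
  · intro x
    constructor
    · intro hx
      by_cases h1 : x ∈ F
      · exact ⟨x, h1, Or.inl rfl⟩
      · refine ⟨t * x, ?_, Or.inr ?_⟩
        · rw [hF2 _ htP _ hx]
          exact ⟨fun h2 => absurd h2 htF, fun h2 => absurd h2 h1⟩
        · rw [← mul_assoc, L.t_sq, one_mul]
    · rintro ⟨f, hf, h1 | h1⟩
      · rw [h1]; exact hFP hf
      · rw [h1]; exact P.mul_mem htP (hFP hf)
  · intro f hf hc
    rcases fix_P L hP2 hPC htP (hFP hf) hc with h1 | h1
    · exact h1
    · rw [h1] at hf; exact absurd hf htF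
  · intro f hf hc
    have h1 : f ∈ EE L := (mem_EE_iff L).mpr ⟨hPC (hFP hf), hc.symm⟩
    rcases h1 with h1 | h1
    · exact h1
    · exfalso
      apply htF
      have e : t = (t * f) * f⁻¹ := by group
      rw [e]
      exact F.mul_mem (hVF h1) (F.inv_mem hf)
  · intro hVF'
    apply ne_EE L hn
    have : EE L = P := by
      apply le_antisymm hEP
      intro x hx
      by_cases h1 : x ∈ F
      · rw [← hVF'] at h1
        exact V_le_EE L h1
      · right
        rw [hVF', hF2 _ htP _ hx]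
        exact ⟨fun h2 => absurd h2 htF, fun h2 => absurd h2 h1⟩
    rw [this]; exact hPs

/-- (0.7) -/
theorem not_conj_F [Finite G] (L : Loc t h V) (D : PData t h V P F) (g : G) : g * t * g⁻¹ ∉ F := by
  intro hu
  set u := g * t * g⁻¹ with hu'
  have huu : u * u = 1 := by
    rw [hu']
    calc g * t * g⁻¹ * (g * t * g⁻¹) = g * (t * t) * g⁻¹ := by group
      _ = 1 := by rw [L.t_sq]; group
  set u₁ := h * u * h⁻¹ with hu₁
  have hu₁F : u₁ ∈ F := D.hF u hu
  have huu₁ : u₁ * u₁ = 1 := by
    rw [hu₁]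
    calc h * u * h⁻¹ * (h * u * h⁻¹) = h * (u * u) * h⁻¹ := by group
      _ = 1 := by rw [huu]; group
  have htr := T1Class2.triple (B2LemB.two D) (B2LemB.order_h L) D.hF D.fpf hu
  have hcomm : u * u₁ = u₁ * u :=
    T1Class2.comm_conj (B2LemB.two D) (B2LemB.order_h L) D.hF D.fpf hu hu rfl
  set gens : Set G := (V : Set G) ∪ {u, u₁} with hg
  have hgc : ∀ a ∈ gens, ∀ b ∈ gens, a * b = b * a := by
    rintro a (ha | ha | ha) b (hb | hb | hb)
    · exact L.elem.comm ha hb
    · rw [hb]; exact B2LemB.V_cent D ha hu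
    · rw [Set.mem_singleton_iff.mp hb]; exact B2LemB.V_cent D ha hu₁F
    · rw [ha]; exact (B2LemB.V_cent D hb hu).symm
    · rw [ha, hb]
    · rw [ha, Set.mem_singleton_iff.mp hb]; exact hcomm
    · rw [Set.mem_singleton_iff.mp ha]; exact (B2LemB.V_cent D hb hu₁F).symm
    · rw [Set.mem_singleton_iff.mp ha, hb]; exact hcomm.symm
    · rw [Set.mem_singleton_iff.mp ha, Set.mem_singleton_iff.mp hb]
  set A := closure gens with hA
  have hAc := Subgroup.isMulCommutative_closure hgc
  have hAcomm : ∀ a ∈ A, ∀ b ∈ A, a * b = b * a := fun a ha b hb =>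
    congrArg Subtype.val (hAc.is_comm.comm (⟨a, ha⟩ : A) ⟨b, hb⟩)
  have hAE : Elem A := by
    intro x hx
    induction hx using Subgroup.closure_induction with
    | mem z hz =>
      rcases hz with hz | hz | hz
      · exact L.elem z hz
      · rw [hz]; exact huu
      · rw [Set.mem_singleton_iff.mp hz]; exact huu₁
    | one => exact one_mul 1
    | mul a b ha hb iha ihb =>
      calc a * b * (a * b) = a * (b * a) * b := by group
        _ = a * (a * b) * b := by rw [hAcomm b hb a ha]
        _ = (a * a) * (b * b) := by group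
        _ = 1 := by rw [iha, ihb, one_mul]
    | inv a ha iha =>
      rw [← mul_inv_rev, iha, inv_one]
  have huA : u ∈ A := subset_closure (Or.inr (Or.inl rfl))
  have hu₁A : u₁ ∈ A := subset_closure (Or.inr (Or.inr rfl))
  have hVA : V ≤ A := fun v hv => subset_closure (Or.inl hv)
  have hAF : A ≤ F := by
    rw [hA, closure_le]
    rintro x (hx | hx | hx)
    · exact D.V_le hx
    · rw [hx]; exact hu
    · rw [Set.mem_singleton_iff.mp hx]; exact hu₁F
  have hAh : ∀ a ∈ A, h * a * h⁻¹ ∈ A := by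
    intro a ha
    have hle : A ≤ A.comap (MulAut.conj h).toMonoidHom := by
      rw [hA, closure_le]
      rintro x (hx | hx | hx)
      · exact hVA (L.hV x hx)
      · rw [hx]; exact hu₁A
      · rw [Set.mem_singleton_iff.mp hx]
        show h * u₁ * h⁻¹ ∈ A
        have e : h * u₁ * h⁻¹ = (u * u₁)⁻¹ := by
          rw [eq_comm, inv_eq_iff_mul_eq_one]
          exact htr
        rw [e]
        exact A.inv_mem (A.mul_mem huA hu₁A)
    exact hle ha
  have huV : u ∉ V := L.not_conj g
  have h16 := B2LemB.sixteen_le L D hAF hVA hAh huA huV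
  -- conjugate `A` into `C_G(t)`
  have h8 := L.e16 (A.map (MulAut.conj g⁻¹).toMonoidHom) (by
      rintro _ ⟨a, ha, rfl⟩
      rw [← map_mul, hAE a ha, map_one]) (by
      rintro _ ⟨a, ha, rfl⟩
      have h1 := hAcomm a ha u huA
      show g⁻¹ * a * g⁻¹⁻¹ * t = t * (g⁻¹ * a * g⁻¹⁻¹)
      have e1 : g⁻¹ * a * g⁻¹⁻¹ * t = g⁻¹ * (a * u) * g := by rw [hu']; group
      have e2 : t * (g⁻¹ * a * g⁻¹⁻¹) = g⁻¹ * (u * a) * g := by rw [hu']; group
      rw [e1, e2, h1])
  rw [Subgroup.card_map_of_injective (MulAut.conj g⁻¹).injective] at h8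
  omega

end Cfsg.Agent.OddCyclic.B2LemA
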