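import Mathlib
import Cfsg.Agent.OddCyclic.B2EFin
import Cfsg.Agent.OddCyclic.B2LemA

/-!
# Case B2, (1.4)-(1.7): piece E (`sixteen_false`, `sixteen_false_Z`)
-/

set_option autoImplicit false

namespace Cfsg.Agent.OddCyclic.B2E16

open Cfsg.Agent.LieExceptional Cfsg.Agent.LieExceptional.CITDefs Cfsg.Agent.OddCyclic.B2Defs
  Cfsg.Agent.OddCyclic.B2Tools Cfsg.Agent.OddCyclic.B2Act Cfsg.Agent.OddCyclic.B2Conf Cfsg.Agent.OddCyclic.B2Tv
  Cfsg.Agent.OddCyclic.B2ESub Cfsg.Agent.OddCyclic.B2ETop Cfsg.Agent.OddCyclic.B2EFin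

variable {G : Type*} [Group G] [Finite G] {t h y : G} {V P F T₄ T : Subgroup G}

/-- piece E, with the hypothesis `¬ 3 ∣ |C_G(V)|` (B2LemA.three) -/
theorem sixteen_false' (L : Loc t h V) (h3 : ¬ 3 ∣ Nat.card (Subgroup.centralizer (V : Set G))) (Y : TypeY t h y V)
    (D : FourData t h y V P F T₄) (hT : IsSyl2 ⊤ T) (hle : T₄ ≤ T) (hne : T₄ ≠ T) (hE : Elem F)
    (h16 : Nat.card F = 16) (hyF : ∀ f ∈ F, ∀ g : G, g * t * g⁻¹ ≠ y * f) (hTT : TT t) : False := by
  obtain ⟨p, h1, h2, h4, h5, h6⟩ := exists_p L Y D hT.two hle hne hE h16 hyF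
  have C : Conf t h y V P F T₄ T p := ⟨L, Y, D, hT, hle, hE, h16, hyF, h3, h1, h2, h4, h5, h6⟩
  obtain ⟨k, A, K⟩ := exists_k C hTT
  exact conf_false C K hTT

/-- **piece E**, exact stub -/
theorem sixteen_false (L : Loc t h V) (Y : TypeY t h y V)
    (D : FourData t h y V P F T₄) (hT : IsSyl2 ⊤ T) (hle : T₄ ≤ T) (hne : T₄ ≠ T) (hE : Elem F)
    (h16 : Nat.card F = 16) (hyF : ∀ f ∈ F, ∀ g : G, g * t * g⁻¹ ≠ y * f) (hTT : TT t) : False :=
  sixteen_false' L (B2LemA.three L) Y D hT hle hne hE h16 hyF hTT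

theorem sixteen_false_Z (L : Loc t h V) (Y : TypeZ t h y V)
    (D : FourData t h y V P F T₄) (hT : IsSyl2 ⊤ T) (hle : T₄ ≤ T) (hne : T₄ ≠ T) (hE : Elem F)
    (h16 : Nat.card F = 16) : False := by
  have hty : t * y = y * t := by
    rw [← Y.y_sq]
    group
  -- involutions of `T₄`
  have hinv : ∀ a ∈ T₄, a * a = 1 → a ∈ F ∨ t⁻¹ * a ∈ F := by
    intro a ha ha2
    obtain ⟨f, hf, rfl | rfl | rfl | rfl⟩ := (D.mem₄ a).1 ha
    · exact Or.inl hf
    · exact Or.inr (by rwa [inv_mul_cancel_left])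
    · exfalso
      apply D.t_notin
      have h1 : y * f * (y * f) = (y * f * y⁻¹) * (y * y) * f := by group
      rw [h1, Y.y_sq] at ha2
      have h2 : t = (y * f * y⁻¹)⁻¹ * f⁻¹ := by
        calc t = (y * f * y⁻¹)⁻¹ * ((y * f * y⁻¹) * t * f) * f⁻¹ := by group
          _ = _ := by rw [ha2]; group
      rw [h2]
      exact mul_mem (inv_mem (D.yF f hf)) (inv_mem hf)
    · exfalso
      apply D.t_notin
      have h1 : t * y * f * (t * y * f) = (t * (y * f * y⁻¹) * t⁻¹) * (t * (y * t) * y) * f := by group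
      have h2 : t * (y * t) * y = t := by
        rw [← hty]
        calc t * (t * y) * y = (t * t) * (y * y) := by group
          _ = t := by rw [L.t_sq, one_mul, Y.y_sq]
      rw [h1, h2] at ha2
      have h3 : t = (t * (y * f * y⁻¹) * t⁻¹)⁻¹ * f⁻¹ := by
        calc t = (t * (y * f * y⁻¹) * t⁻¹)⁻¹ * ((t * (y * f * y⁻¹) * t⁻¹) * t * f) * f⁻¹ := by group
          _ = _ := by rw [ha2]; group
      rw [h3]
      exact mul_mem (inv_mem (t_norm D.toPData _ (D.yF f hf))) (inv_mem hf)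
  obtain ⟨g, hgT, hg4, hgN⟩ := grow hle hT.two hne
  -- `F` is the only elementary abelian subgroup of order 16 of `T₄`
  have hFg : cj g F = F := by
    by_contra hcon
    obtain ⟨a, ha, haF⟩ : ∃ a ∈ cj g F, a ∉ F := by
      by_contra hno
      push Not at hno
      exact hcon (Subgroup.eq_of_le_of_card_ge hno (by rw [card_cj]))
    have hle4 : cj g F ≤ T₄ := by
      rintro _ ⟨f, hf, rfl⟩
      exact hgN f (F_le_T₄ D hf)
    have haE := elem_cj (g := g) hE
    have hta := (hinv a (hle4 ha) (haE a ha)).resolve_left haF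
    have h1 := card_le_cover (A := cj g F) (F := F) ![1, t] (by
      intro x hx
      rcases hinv x (hle4 hx) (haE x hx) with h2 | h2
      · refine ⟨0, ?_⟩
        show (1 : G)⁻¹ * x ∈ F
        rwa [inv_one, one_mul]
      · exact ⟨1, h2⟩)
    have h2 : cj g F ⊓ F ≤ CF F t := by
      intro x hx
      rw [CF_congr hE hta]
      exact mem_CF.2 ⟨hx.2, haE.comm hx.1 ha⟩
    have h3 := Nat.card_le_card_of_injective _ (Subgroup.inclusion_injective h2)
    rw [CF_t L D.toPData, L.card_V] at h3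
    rw [card_cj, h16, Nat.card_fin] at h1
    omega
  have hgF : ∀ f ∈ F, g * f * g⁻¹ ∈ F := by
    intro f hf
    rw [← hFg]
    exact conj_mem_cj hf
  have ht2 : (g * t * g⁻¹) * (g * t * g⁻¹) = 1 := by
    have : (g * t * g⁻¹) * (g * t * g⁻¹) = g * (t * t) * g⁻¹ := by group
    rw [this, L.t_sq]
    group
  rcases hinv _ (hgN t (t_mem_T₄ D)) ht2 with h1 | h1
  · exact not_mem_E16 L hE h16 g h1
  · exact hg4 (mem_T₄_of_t L D hE hT.two hle hgT hgF h1)

end Cfsg.Agent.OddCyclic.B2E16
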