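import Cfsg.Agent.OddCyclic.B2SpecFus

/-!
# S0342, case B2, section 2: an element of order 3 in `C_G(i) ∩ N_G(E')`
-/

set_option autoImplicit false

namespace Cfsg.Agent.OddCyclic.B2SpecThree

open Cfsg.Agent.LieExceptional.CITDefs Cfsg.Agent.OddCyclic.B2Defs Cfsg.Agent.OddCyclic.B2SpecFus

variable {G : Type*} [Group G]

/-- equal modulo `⟨i⟩` -/
def R (i a b : G) : Prop := b = a ∨ b = a * i

theorem R.conj {i k x x' b : G} (hi : k * i = i * k) (hii : i * i = 1) (h : R i x' (k * x * k⁻¹))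
    (hb : R i x b) : R i x' (k * b * k⁻¹) := by
  rcases hb with rfl | rfl
  · exact h
  · have h1 : k * (x * i) * k⁻¹ = (k * x * k⁻¹) * i := by
      have h2 : i * k⁻¹ = k⁻¹ * i := by
        calc i * k⁻¹ = k⁻¹ * (k * i) * k⁻¹ := by group
          _ = k⁻¹ * (i * k) * k⁻¹ := by rw [hi]
          _ = _ := by group
      calc k * (x * i) * k⁻¹ = k * x * (i * k⁻¹) := by group
        _ = _ := by rw [h2]; group
    rw [h1]
    rcases h with h | h
    · right; rw [h]
    · left; rw [h, mul_assoc, hii, mul_one]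

/-- an element permuting three classes cyclically has order divisible by three -/
theorem three_dvd {i k a b c : G} (hi : k * i = i * k) (hii : i * i = 1) (h1 : R i b (k * a * k⁻¹))
    (h2 : R i c (k * b * k⁻¹)) (h3 : R i a (k * c * k⁻¹)) (hab : ¬ R i b a) (hac : ¬ R i c a) :
    3 ∣ orderOf k := by
  have hcomm : ∀ n : ℕ, k ^ n * i = i * k ^ n := fun n => ((show Commute k i from hi).pow_left n).eq
  have h4 : R i c (k ^ 2 * a * (k ^ 2)⁻¹) := by
    have := R.conj hi hii h2 h1
    have e : k ^ 2 * a * (k ^ 2)⁻¹ = k * (k * a * k⁻¹) * k⁻¹ := by rw [pow_two]; group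
    rw [e]; exact this
  have h5 : R i a (k ^ 3 * a * (k ^ 3)⁻¹) := by
    have := R.conj hi hii h3 h4
    have e : k ^ 3 * a * (k ^ 3)⁻¹ = k * (k ^ 2 * a * (k ^ 2)⁻¹) * k⁻¹ := by
      rw [show (3 : ℕ) = 2 + 1 by norm_num, pow_succ']
      group
    rw [e]; exact this
  have h6 : ∀ n : ℕ, R i a (k ^ (3 * n) * a * (k ^ (3 * n))⁻¹) := by
    intro n
    induction n with
    | zero => left; simp
    | succ n ih =>
      have := R.conj (hcomm 3) hii h5 ih
      have e : k ^ (3 * (n + 1)) * a * (k ^ (3 * (n + 1)))⁻¹ =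
          k ^ 3 * (k ^ (3 * n) * a * (k ^ (3 * n))⁻¹) * (k ^ 3)⁻¹ := by
        rw [show 3 * (n + 1) = 3 + 3 * n by ring, pow_add]
        group
      rw [e]; exact this
  have h7 : ∀ n : ℕ, R i b (k ^ (3 * n + 1) * a * (k ^ (3 * n + 1))⁻¹) := by
    intro n
    have := R.conj hi hii h1 (h6 n)
    have e : k ^ (3 * n + 1) * a * (k ^ (3 * n + 1))⁻¹ = k * (k ^ (3 * n) * a * (k ^ (3 * n))⁻¹) * k⁻¹ := by
      rw [pow_succ']
      group
    rw [e]; exact this
  have h8 : ∀ n : ℕ, R i c (k ^ (3 * n + 2) * a * (k ^ (3 * n + 2))⁻¹) := by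
    intro n
    have := R.conj hi hii h2 (h7 n)
    have e : k ^ (3 * n + 2) * a * (k ^ (3 * n + 2))⁻¹ =
        k * (k ^ (3 * n + 1) * a * (k ^ (3 * n + 1))⁻¹) * k⁻¹ := by
      rw [show 3 * n + 2 = (3 * n + 1) + 1 by ring, pow_succ' k (3 * n + 1)]
      group
    rw [e]; exact this
  have h9 := pow_orderOf_eq_one k
  rcases (by omega : orderOf k % 3 = 0 ∨ orderOf k % 3 = 1 ∨ orderOf k % 3 = 2) with h | h | h
  · exact Nat.dvd_of_mod_eq_zero h
  · exfalso
    have h10 := h7 (orderOf k / 3)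
    rw [show 3 * (orderOf k / 3) + 1 = orderOf k by omega, h9] at h10
    apply hab
    simpa using h10
  · exfalso
    have h10 := h8 (orderOf k / 3)
    rw [show 3 * (orderOf k / 3) + 2 = orderOf k by omega, h9] at h10
    apply hac
    simpa using h10

variable {t h y i : G} {V Z : Subgroup G}

/-- elements normalising `E'` and centralising `i` -/
def Nm (t y i k : G) : Prop := k * i = i * k ∧ ∀ e ∈ EE t y i, k * e * k⁻¹ ∈ EE t y i

theorem Nm.mul {k k' : G} (h : Nm t y i k) (h' : Nm t y i k') : Nm t y i (k * k') := by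
  refine ⟨by rw [mul_assoc, h'.1, ← mul_assoc, h.1, mul_assoc], fun e he => ?_⟩
  have := h.2 _ (h'.2 e he)
  have e1 : k * k' * e * (k * k')⁻¹ = k * (k' * e * k'⁻¹) * k⁻¹ := by group
  rwa [e1]

theorem Nm.pow {k : G} (h : Nm t y i k) (n : ℕ) : Nm t y i (k ^ n) := by
  induction n with
  | zero => exact ⟨by simp, fun e he => by simpa using he⟩
  | succ n ih => rw [pow_succ]; exact ih.mul h

variable [Finite G]

theorem exists_g (s : Spec t h y i V Z) (hn : NswAt t V) :
    (∃ g, g * y * g⁻¹ = t ∧ Nm t y i g) ∧ ∃ g, g * (t * y) * g⁻¹ = t ∧ Nm t y i g := by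
  have hne := t_ne_y s
  have hyV : y ∉ V := by
    intro hy
    obtain ⟨v, hv, h⟩ := s.y_not
    exact h (vcomm s hy hv)
  have hyt : y * t = t * y := s.ty.symm
  have hti := t_i s
  constructor
  · obtain ⟨g, h1, h2, h3⟩ := exists_conj s hn (e₀ := y) (Or.inr (Or.inr (Or.inl (Or.inl rfl))))
      (fun h => hyV (h ▸ V.one_mem)) (fun h => hyV (h ▸ s.i_mem))
      (by
        intro h
        apply hne.1
        have := eq_inv_of_mul_eq_one_left h
        rw [tinv s] at this
        exact this.symm)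
      (by
        intro h
        apply hne.2
        calc t = y * (y * t) := by rw [← mul_assoc, s.y_sq, one_mul]
          _ = y * i := by rw [h])
    exact ⟨g, h1, h2, h3⟩
  · obtain ⟨g, h1, h2, h3⟩ := exists_conj s hn (e₀ := t * y) (Or.inr (Or.inr (Or.inr (Or.inl rfl))))
      (by
        intro h
        apply hne.1
        have := eq_inv_of_mul_eq_one_left h
        rw [yinv s] at this
        exact this)
      (by
        intro h
        apply hne.2
        calc t = (t * y) * y := by rw [mul_assoc, s.y_sq, mul_one]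
          _ = y * i := by rw [h, s.iy])
      (by
        intro h
        apply hyV
        rw [mul_assoc, hyt, ← mul_assoc, s.t_sq, one_mul] at h
        rw [h]; exact V.one_mem)
      (by
        intro h
        apply hyV
        rw [mul_assoc, hyt, ← mul_assoc, s.t_sq, one_mul] at h
        rw [h]; exact s.i_mem)
    exact ⟨g, h1, h2, h3⟩

theorem exists_three_dvd (s : Spec t h y i V Z) (hn : NswAt t V) : ∃ k, Nm t y i k ∧ 3 ∣ orderOf k := by
  obtain ⟨⟨g₁, h1, N1⟩, ⟨g₂, h2, N2⟩⟩ := exists_g s hn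
  have htm : t ∈ EE t y i := Or.inr (Or.inl (Or.inl rfl))
  have hne := t_ne_y s
  have hti := t_i s
  have hii := ii s
  have htV := t_notin s
  have hyV : y ∉ V := by
    intro hy
    obtain ⟨v, hv, h⟩ := s.y_not
    exact h (vcomm s hy hv)
  -- classes
  have n1 : ¬ R i y t := by
    rintro (h | h)
    · exact hne.1 h
    · exact hne.2 h
  have n2 : ¬ R i (t * y) t := by
    rintro (h | h)
    · apply hyV
      have : y = 1 := by
        have h' : t * y = t * 1 := by rw [← h, mul_one]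
        exact mul_left_cancel h'
      rw [this]; exact V.one_mem
    · apply hyV
      have h' : t * (y * i) = t * 1 := by rw [← mul_assoc, ← h, mul_one]
      have h'' := eq_inv_of_mul_eq_one_left (mul_left_cancel h')
      rw [vinv s s.i_mem] at h''
      rw [h'']; exact s.i_mem
  -- the image of `t` under an element of `Nm` mapping `e₀` to `t`
  have key : ∀ g e₀ : G, Nm t y i g → g * e₀ * g⁻¹ = t → e₀ ≠ t → e₀ * i ≠ t →
      R i y (g * t * g⁻¹) ∨ R i (t * y) (g * t * g⁻¹) := by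
    intro g e₀ hN hg h3 h4
    have hgi : g * i * g⁻¹ = i := by rw [hN.1]; group
    rcases hN.2 t htm with (h | h) | (h | h) | (h | h) | (h | h)
    · exfalso; apply s.t_ne
      have : t = g⁻¹ * (g * t * g⁻¹) * g := by group
      rw [this, h]; group
    · exfalso; apply htV
      have : t = i := by
        calc t = g⁻¹ * (g * t * g⁻¹) * g := by group
          _ = g⁻¹ * (g * i * g⁻¹) * g := by rw [h, hgi]
          _ = i := by group
      rw [this]; exact s.i_mem
    · exfalso; apply h3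
      calc e₀ = g⁻¹ * (g * e₀ * g⁻¹) * g := by group
        _ = g⁻¹ * (g * t * g⁻¹) * g := by rw [h, hg]
        _ = t := by group
    · exfalso; apply h4
      calc e₀ * i = g⁻¹ * ((g * e₀ * g⁻¹) * (g * i * g⁻¹)) * g := by group
        _ = g⁻¹ * (g * t * g⁻¹) * g := by rw [h, hg, hgi]
        _ = t := by group
    · exact Or.inl (Or.inl h)
    · exact Or.inl (Or.inr h)
    · exact Or.inr (Or.inl h)
    · exact Or.inr (Or.inr h)
  have hyt : y * t = t * y := s.ty.symm
  have Rt : ∀ {a x : G}, R i a x → R i (a * t) (x * t) := by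
    rintro a x (rfl | rfl)
    · exact Or.inl rfl
    · right; rw [mul_assoc, ← hti, mul_assoc]
  have Rt' : ∀ {a x : G}, R i a x → R i (t * a) (t * x) := by
    rintro a x (rfl | rfl)
    · exact Or.inl rfl
    · right; rw [mul_assoc]
  have etty : t * (t * y) = y := by rw [← mul_assoc, s.t_sq, one_mul]
  have eyt : t * y * t = y := by rw [mul_assoc, hyt, etty]
  have k1 := key g₁ y N1 h1 hne.1.symm (fun h => hne.2 h.symm)
  have k2 := key g₂ (t * y) N2 h2 (fun h => n2 (Or.inl h.symm)) (fun h => n2 (Or.inr h.symm))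
  rcases k1 with k1 | k1
  · rcases k2 with k2 | k2
    · -- `g₁ : y → t → y`, `g₂ : t y → t → y`
      refine ⟨g₂, N2, three_dvd (a := t) (b := y) (c := t * y) N2.1 hii k2 ?_ (Or.inl h2) n1 n2⟩
      have e : g₂ * y * g₂⁻¹ = (g₂ * (t * y) * g₂⁻¹) * (g₂ * t * g₂⁻¹) := by
        calc g₂ * y * g₂⁻¹ = g₂ * (t * y * t) * g₂⁻¹ := by rw [eyt]
          _ = _ := by group
      rw [e, h2]
      exact Rt' k2
    · -- `g₂ : t y → t → t y`, `y → y`
      have k3 : R i y (g₂ * y * g₂⁻¹) := by
        have e : g₂ * y * g₂⁻¹ = (g₂ * (t * y) * g₂⁻¹) * (g₂ * t * g₂⁻¹) := by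
          calc g₂ * y * g₂⁻¹ = g₂ * (t * y * t) * g₂⁻¹ := by rw [eyt]
            _ = _ := by group
        rw [e, h2]
        have := Rt' k2
        rwa [etty] at this
      have k4 : R i (t * y) (g₁ * (t * y) * g₁⁻¹) := by
        have e : g₁ * (t * y) * g₁⁻¹ = (g₁ * t * g₁⁻¹) * (g₁ * y * g₁⁻¹) := by group
        rw [e, h1]
        have := Rt k1
        rwa [hyt] at this
      have N3 := N1.mul N2
      refine ⟨g₁ * g₂, N3, three_dvd (a := t) (b := t * y) (c := y) N3.1 hii ?_ ?_ ?_ n2 n1⟩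
      · have := R.conj N1.1 hii k4 k2
        have e : g₁ * g₂ * t * (g₁ * g₂)⁻¹ = g₁ * (g₂ * t * g₂⁻¹) * g₁⁻¹ := by group
        rw [e]; exact this
      · have := R.conj N1.1 hii k1 (Or.inl h2)
        have e : g₁ * g₂ * (t * y) * (g₁ * g₂)⁻¹ = g₁ * (g₂ * (t * y) * g₂⁻¹) * g₁⁻¹ := by group
        rw [e]; exact this
      · have := R.conj N1.1 hii (Or.inl h1) k3
        have e : g₁ * g₂ * y * (g₁ * g₂)⁻¹ = g₁ * (g₂ * y * g₂⁻¹) * g₁⁻¹ := by group
        rw [e]; exact this
  · -- `g₁ : y → t → t y`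
    refine ⟨g₁, N1, three_dvd (a := t) (b := t * y) (c := y) N1.1 hii k1 ?_ (Or.inl h1) n2 n1⟩
    have e : g₁ * (t * y) * g₁⁻¹ = (g₁ * t * g₁⁻¹) * (g₁ * y * g₁⁻¹) := by group
    rw [e, h1]
    have := Rt k1
    rwa [eyt] at this

/-- an element of order three in `C(i) ∩ N(E')` -/
theorem exists_order_three (s : Spec t h y i V Z) (hn : NswAt t V) : ∃ k, Nm t y i k ∧ orderOf k = 3 := by
  obtain ⟨k, hk, h3⟩ := exists_three_dvd s hn
  exact ⟨k ^ (orderOf k / 3), hk.pow _, orderOf_pow_orderOf_div (orderOf_pos k).ne' h3⟩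

end Cfsg.Agent.OddCyclic.B2SpecThree
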