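import Cfsg.Agent.OddCyclic.CompSL2Inner3
import Cfsg.Agent.AschCrit.Dichotomy
import Cfsg.Agent.Lib.PGroupCoprimeAction

/-!
# S0342, case C: outer pairs

(X), (O1), (O2) of blueprints/S0342-caseC.md.
-/

set_option autoImplicit false

namespace Cfsg.Agent.OddCyclic.CompSL2Amb

open Subgroup Cfsg
open Cfsg.Agent.OddCyclic.T1Defs Cfsg.Agent.OddCyclic.CompBasic
open Cfsg.Agent.OddCyclic.CompStandard Cfsg.Agent.OddCyclic.CompSL2Facts
open Cfsg.Agent.LieExceptional Cfsg.Agent.LieExceptional.CITDefs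
open Cfsg.Agent.LieExceptional.CITBasic

variable {G : Type*} [Group G] [Finite G]

/-! ### general lemmas -/

/-- Subgroups of the same odd prime order of `D` are conjugate in `D`. -/
theorem exists_conj_zpowers (hG : OddCyc G) {r : ℕ} (hr : r.Prime) (hr2 : r ≠ 2) (D : Subgroup G)
    {a b : G} (ha : a ∈ D) (hb : b ∈ D) (har : orderOf a = r) (hbr : orderOf b = r) :
    ∃ c ∈ D, zpowers (c * b * c⁻¹) = zpowers a := by
  have hpf : Fact r.Prime := ⟨hr⟩
  have h1 : IsPGroup r (zpowers (⟨a, ha⟩ : D)) := IsPGroup.of_card (n := 1) (by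
    rw [Nat.card_zpowers, Subgroup.orderOf_mk, har, pow_one])
  have h2 : IsPGroup r (zpowers (⟨b, hb⟩ : D)) := IsPGroup.of_card (n := 1) (by
    rw [Nat.card_zpowers, Subgroup.orderOf_mk, hbr, pow_one])
  obtain ⟨P, hP⟩ := h1.exists_le_sylow
  obtain ⟨Q, hQ⟩ := h2.exists_le_sylow
  obtain ⟨c, hc⟩ := MulAction.exists_smul_eq D Q P
  have haP : (⟨a, ha⟩ : D) ∈ (P : Subgroup D) := hP (mem_zpowers _)
  have hbP : c * ⟨b, hb⟩ * c⁻¹ ∈ (P : Subgroup D) := by
    rw [← hc]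
    exact ⟨⟨b, hb⟩, hQ (mem_zpowers _), rfl⟩
  have hcyc : IsCyclic P := oddCyc_subgroup hG D r P hr hr2
  have h3 : Commute (c * ⟨b, hb⟩ * c⁻¹ : D) ⟨a, ha⟩ := by
    let _ : CommGroup (P : Subgroup D) := IsCyclic.commGroup
    exact congrArg Subtype.val (mul_comm (⟨_, hbP⟩ : (P : Subgroup D)) ⟨_, haP⟩)
  have h4 : Commute ((c : G) * b * (c : G)⁻¹) a := congrArg Subtype.val h3.eq
  refine ⟨c, c.2, zpowers_eq_of_commute hG hr hr2 ?_ har h4⟩
  rw [orderOf_conj, hbr]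

omit [Finite G] in
/-- An element commuting with `a` commutes with the generators of `⟨a⟩`. -/
theorem comm_of_zpowers {a b g : G} (h : zpowers b = zpowers a) (hg : g * a = a * g) :
    g * b = b * g := by
  have h1 : b ∈ zpowers a := by rw [← h]; exact mem_zpowers b
  obtain ⟨i, rfl⟩ := h1
  exact (Commute.zpow_right (show Commute g a from hg) i).eq

/-- In a group with cyclic Sylow 3-subgroups and a central element of order 3 the product of two
2-elements has order prime to 3. -/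
theorem no_three {J : Type*} [Group J] [Finite J] (hJ : OddCyc J) {a : J} (ha : a ∈ center J)
    (h3 : orderOf a = 3) {b c : J} {i j : ℕ} (hb : b ^ 2 ^ i = 1) (hc : c ^ 2 ^ j = 1)
    (h : 3 ∣ orderOf (b * c)) : False := by
  have hpf : Fact (Nat.Prime 3) := ⟨Nat.prime_three⟩
  obtain ⟨P⟩ : Nonempty (Sylow 3 J) := inferInstance
  have hcyc := hJ 3 P Nat.prime_three (by decide)
  have hPc : IsMulCommutative (P : Subgroup J) := ⟨⟨fun a b => by
    obtain ⟨g, hg⟩ := hcyc.exists_generator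
    obtain ⟨m, rfl⟩ := Subgroup.mem_zpowers_iff.mp (hg a)
    obtain ⟨n, rfl⟩ := Subgroup.mem_zpowers_iff.mp (hg b)
    rw [← zpow_add, ← zpow_add, add_comm]⟩⟩
  let _ : CommGroup (P : Subgroup J) := { (inferInstance : Group (P : Subgroup J)) with
    mul_comm := hPc.is_comm.comm }
  have key : ∀ (k : ℕ) (g₀ : J), g₀⁻¹ * a ^ k * g₀ ∈ (P : Subgroup J) →
      g₀⁻¹ * a ^ k * g₀ = a ^ k := by
    intro k g₀ _
    have h1 : g₀ * a ^ k = a ^ k * g₀ :=
      (mem_center_iff.mp ((center J).pow_mem ha k) g₀)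
    rw [mul_assoc, ← h1, inv_mul_cancel_left]
  have h2 := MonoidHom.transfer_eq_pow (MonoidHom.id (P : Subgroup J)) a key
  set τ := MonoidHom.transfer (MonoidHom.id (P : Subgroup J)) with hτ
  have hτa : τ a ≠ 1 := by
    intro h4
    rw [h2] at h4
    have h5 : a ^ (P : Subgroup J).index = 1 := congrArg Subtype.val h4
    have h6 : 3 ∣ (P : Subgroup J).index := by
      have h7 : orderOf a ∣ (P : Subgroup J).index := orderOf_dvd_of_pow_eq_one h5
      rwa [h3] at h7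
    exact P.not_dvd_index h6
  have hτ2 : ∀ (b : J) (i : ℕ), b ^ 2 ^ i = 1 → τ b = 1 := by
    intro b i hb
    obtain ⟨s, hs⟩ := P.isPGroup' (τ b)
    have h4 : (τ b) ^ 2 ^ i = 1 := by rw [← map_pow, hb, map_one]
    have h5 : orderOf (τ b) ∣ 1 := by
      have h6 := Nat.dvd_gcd (orderOf_dvd_of_pow_eq_one hs) (orderOf_dvd_of_pow_eq_one h4)
      have h7 : Nat.gcd (3 ^ s) (2 ^ i) = 1 :=
        Nat.Coprime.pow _ _ (by decide)
      rwa [h7] at h6
    exact orderOf_eq_one_iff.mp (Nat.dvd_one.mp h5)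
  have hτbc : τ (b * c) = 1 := by rw [map_mul, hτ2 b i hb, hτ2 c j hc, one_mul]
  obtain ⟨t, ht⟩ : ∃ t, t = (b * c) ^ (orderOf (b * c) / 3) := ⟨_, rfl⟩
  have ht3 : orderOf t = 3 := by
    rw [ht, orderOf_pow_orderOf_div (orderOf_pos _).ne' h]
  have h4 : zpowers a = zpowers t := zpowers_eq_of_commute hJ Nat.prime_three (by decide) h3 ht3
    ((mem_center_iff.mp ha t).symm)
  have h5 : a ∈ zpowers t := by rw [← h4]; exact mem_zpowers a
  obtain ⟨l, hl⟩ := h5
  apply hτa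
  rw [← hl]
  change τ (t ^ l) = 1
  rw [map_zpow, ht, map_pow, hτbc, one_pow, one_zpow]

/-- ambient form of `no_three` -/
theorem no_three' (hG : OddCyc G) {a : G} (h3 : orderOf a = 3) {b c : G}
    (hab : b * a = a * b) (hac : c * a = a * c) {i j : ℕ} (hb : b ^ 2 ^ i = 1)
    (hc : c ^ 2 ^ j = 1) (h : 3 ∣ orderOf (b * c)) : False := by
  have ha : a ∈ centralizer ({a} : Set G) := mem_centralizer_singleton_iff.mpr rfl
  refine no_three (oddCyc_subgroup hG (centralizer ({a} : Set G))) (a := ⟨a, ha⟩)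
    (b := ⟨b, mem_centralizer_singleton_iff.mpr hab⟩)
    (c := ⟨c, mem_centralizer_singleton_iff.mpr hac⟩) (i := i) (j := j) ?_ ?_ (Subtype.ext hb)
    (Subtype.ext hc) ?_
  · rw [mem_center_iff]
    intro g
    exact Subtype.ext (mem_centralizer_singleton_iff.mp g.2)
  · rw [Subgroup.orderOf_mk, h3]
  · rw [← Subgroup.orderOf_coe]
    exact h

/-- commutators of elements normalizing a cyclic subgroup centralize it -/
theorem commutator_comm {Q : Subgroup G} (hQ : IsCyclic Q) {b c : G}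
    (hb : ∀ u ∈ Q, b * u * b⁻¹ ∈ Q) (hc : ∀ u ∈ Q, c * u * c⁻¹ ∈ Q) :
    ∀ u ∈ Q, (b * c * b⁻¹ * c⁻¹) * u = u * (b * c * b⁻¹ * c⁻¹) := by
  have hbn : b ∈ normalizer (Q : Set G) := mem_normalizer_of_forall hb
  have hcn : c ∈ normalizer (Q : Set G) := mem_normalizer_of_forall hc
  have h1 : ∀ α β : MulAut Q, α * β = β * α := by
    intro α β
    apply (IsCyclic.mulAutMulEquiv Q).injective
    rw [map_mul, map_mul, mul_comm]
  set φ := Q.normalizerMonoidHom with hφ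
  have h2 : φ (⟨b, hbn⟩ * ⟨c, hcn⟩ * ⟨b, hbn⟩⁻¹ * ⟨c, hcn⟩⁻¹) = 1 := by
    rw [map_mul, map_mul, map_mul, map_inv, map_inv, h1 (φ ⟨b, hbn⟩) (φ ⟨c, hcn⟩)]
    group
  intro u hu
  have h3 := congrArg (fun α : MulAut Q => ((α ⟨u, hu⟩ : Q) : G)) h2
  have h4 : (b * c * b⁻¹ * c⁻¹) * u * (b * c * b⁻¹ * c⁻¹)⁻¹ = u := h3
  exact mul_inv_eq_iff_eq_mul.mp h4

/-- A 2-group `S` acting on a group `N` of odd order with cyclic Sylow subgroups: commutators of
elements of `S` centralize `N`. -/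
theorem commutator_comm_odd (hG : OddCyc G) {S N : Subgroup G} (hS : IsPGroup 2 S)
    (hN : Odd (Nat.card N)) (hSN : ∀ b ∈ S, ∀ u ∈ N, b * u * b⁻¹ ∈ N) {b c : G} (hb : b ∈ S)
    (hc : c ∈ S) : ∀ u ∈ N, (b * c * b⁻¹ * c⁻¹) * u = u * (b * c * b⁻¹ * c⁻¹) := by
  have hpf : Fact (Nat.Prime 2) := ⟨Nat.prime_two⟩
  obtain ⟨e, he⟩ : ∃ e, e = b * c * b⁻¹ * c⁻¹ := ⟨_, rfl⟩
  have h2N : ¬ 2 ∣ Nat.card N := by
    rw [← even_iff_two_dvd, Nat.not_even_iff_odd]; exact hN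
  set C : Subgroup N := (centralizer ({e} : Set G)).subgroupOf N with hC
  have hidx : C.index = 1 := by
    by_contra hne
    obtain ⟨q, hq, hqd⟩ := Nat.exists_prime_and_dvd hne
    have hqf : Fact q.Prime := ⟨hq⟩
    have hq2 : q ≠ 2 := by
      rintro rfl
      exact h2N (hqd.trans C.index_dvd_card)
    obtain ⟨Q, ⟨T, hT⟩, hQ⟩ :=
      Cfsg.Agent.Lib.PGroupCoprimeAction.exists_invariant_sylow hS h2N hSN q
    have hTc : IsCyclic T := oddCyc_subgroup hG N q T hq hq2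
    have hQc : IsCyclic Q := by
      rw [← hT]
      exact isCyclic_of_surjective (N.subtype.subgroupMap (T : Subgroup N))
        (N.subtype.subgroupMap_surjective _)
    have h1 := commutator_comm hQc (hQ b hb) (hQ c hc)
    have h2 : (T : Subgroup N) ≤ C := by
      intro t ht
      rw [hC, mem_subgroupOf, mem_centralizer_singleton_iff]
      have h3 : (t : G) ∈ Q := by rw [← hT]; exact ⟨t, ht, rfl⟩
      rw [he]
      exact (h1 t h3).symm
    exact T.not_dvd_index (hqd.trans (Subgroup.index_dvd_of_le h2))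
  intro u hu
  have h1 : (⟨u, hu⟩ : N) ∈ C := by
    rw [Subgroup.index_eq_one.mp hidx]; exact mem_top _
  rw [hC, mem_subgroupOf, mem_centralizer_singleton_iff] at h1
  rw [← he]
  exact h1.symm

/-! ### outer pairs -/

section outer

variable {K : Subgroup G} {z : G} {p m n : ℕ} {u x : G} {P T : Subgroup G}

omit [Finite G] in
theorem Pair.card_out (H : Pair K z u x P T p m n) (hout : ¬ Inn K u) :
    Nat.card (K ⊓ centralizer ({u} : Set G) : Subgroup G) = n :=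
  H.hyp.outer H.uM (by rw [H.uu]; exact one_mem _) hout

/-- (O1) -/
theorem Pair.O1 (H : Pair K z u x P T p m n) (hout : ¬ Inn K u) {b : G} (hb : b ∈ P)
    (hbY : x⁻¹ * b * x ∈ centralizer (K : Set G)) : b = 1 ∨ b = u := by
  by_contra hcon
  push Not at hcon
  have huu := H.uu
  have hN : ∀ g, g ∈ zpowers u ↔ g = 1 ∨ g = u := by
    intro g
    constructor
    · rintro ⟨i, rfl⟩
      have h1 : u ^ (2 : ℕ) = 1 := by rw [sq, huu]
      change u ^ i = 1 ∨ u ^ i = u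
      rcases Int.even_or_odd' i with ⟨l, hl | hl⟩
      · left
        rw [hl, zpow_mul, zpow_ofNat, h1, one_zpow]
      · right
        rw [hl, zpow_add, zpow_mul, zpow_ofNat, h1, one_zpow, one_mul, zpow_one]
    · rintro (rfl | rfl)
      · exact one_mem _
      · exact mem_zpowers _
  have hbN : b ∉ zpowers u := by
    rw [hN]; push Not; exact hcon
  obtain ⟨j, hj⟩ := exists_pow_eq_one H.syl.two hb
  obtain ⟨i, hi1, hi2⟩ := exists_pow_sq hbN hj
  obtain ⟨v, hv⟩ : ∃ v, v = b ^ i := ⟨_, rfl⟩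
  rw [← hv] at hi1 hi2
  have hvP : v ∈ P := by rw [hv]; exact P.pow_mem hb i
  have hvY : x⁻¹ * v * x ∈ centralizer (K : Set G) := by
    have h3 : x⁻¹ * v * x = (x⁻¹ * b * x) ^ i := by
      have := conj_pow (i := i) (a := x⁻¹) (b := b)
      rw [inv_inv] at this
      rw [this, hv]
    rw [h3]; exact Subgroup.pow_mem _ hbY i
  rw [hN] at hi1 hi2
  push Not at hi1
  have hvv : v * v = 1 := by
    rcases hi2 with h1 | h1
    · exact h1
    · exfalso
      apply hout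
      rw [← h1]
      exact inn_sq H.hyp (H.PM hvP)
  have huP : u ∈ P := by
    have hzP : z ∈ P := by
      refine mem_of_central H.syl (mem_D.mpr ⟨rfl, H.com.symm⟩) (fun g hg => ?_)
        (isPGroup_zpowers H.hyp.z2)
      exact (mem_D.mp hg).1.symm
    have := H.hP z hzP
    rwa [H.hz] at this
  have hvu := H.Pu hvP
  have hxux : x⁻¹ * u * x = z := by rw [← H.hz]; group
  -- an inner involution of `Y_u`
  obtain ⟨w, hwP, hwY, hww, hw1, hwI⟩ : ∃ w ∈ P, x⁻¹ * w * x ∈ centralizer (K : Set G) ∧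
      w * w = 1 ∧ w ≠ 1 ∧ Inn K w := by
    by_cases hI : Inn K v
    · exact ⟨v, hvP, hvY, hvv, hi1.1, hI⟩
    · refine ⟨v * u, P.mul_mem hvP huP, ?_, ?_, ?_, ?_⟩
      · have e : x⁻¹ * (v * u) * x = (x⁻¹ * v * x) * (x⁻¹ * u * x) := by group
        rw [e, hxux]
        exact Subgroup.mul_mem _ hvY H.hyp.zY
      · calc v * u * (v * u) = v * (u * v) * u := by group
          _ = (v * v) * (u * u) := by rw [← hvu]; group
          _ = 1 := by rw [hvv, huu, one_mul]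
      · intro h1
        apply hi1.2
        rw [eq_inv_of_mul_eq_one_left h1]
        exact inv_eq_of_mul_eq_one_right huu
      · rw [inn_mul_iff H.hyp (H.PM hvP) H.uM]
        tauto
  have hwKY : w ∉ centralizer (K : Set G) := fun h1 => hw1 (H.inter_Y hwP h1 hwY)
  obtain ⟨k, hk, y, hy, hky, hkk, hyy⟩ := H.hyp.inn_inv hww hwKY hwI
  have hwc : w ∈ centralizer (cj x K : Set G) := by
    rw [← cj_centralizer, mem_cj]; exact hwY
  have hle := H.hyp_u.cent w hwc (orderOf_eq_two hw1 hww)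
  have hyw : y ∈ centralizer ({w} : Set G) := by
    rw [mem_centralizer_singleton_iff, hky, ← mul_assoc, ← comm hk hy]
  have hyu : y * u = u * y := H.hyp_u.mem_iff.mp (hle hyw)
  have hku : k * u = u * k := by
    have h1 : k = w * y⁻¹ := by rw [hky]; group
    have h2 : Commute y u := hyu
    have h3 : Commute w u := H.Pu hwP
    rw [h1]
    exact (h3.mul_left h2.inv_left).eq
  rcases H.hyp.two_elt (H.card_out hout) hk hku (InnPair.sq_pow H.hyp hkk) with h1 | h1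
  · rw [h1, one_mul] at hkk
    exact H.hyp.z_ne hkk.symm
  · rw [h1, H.hyp.zz] at hkk
    exact H.hyp.z_ne hkk.symm

theorem Pair.O1' (H : Pair K z u x P T p m n) (hout : ¬ Inn K u) {r : G} (hr : r ∈ T)
    (hrY : r ∈ centralizer (K : Set G)) (hru : r * u = u * r) : r = 1 ∨ r = z := by
  have h1 := H.mem_P hr hru
  have e : x⁻¹ * (x * r * x⁻¹) * x = r := by group
  rcases H.O1 hout (H.hP r h1) (by rw [e]; exact hrY) with h2 | h2
  · left
    rw [← e, h2]; group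
  · right
    rw [← e, h2, ← H.hz]; group

/-- (O2) -/
theorem Pair.exists_x0 (H : Pair K z u x P T p m n) (hout : ¬ Inn K u)
    (hV : ∃ V : Subgroup G, V ≤ T ∧ Elem V ∧ Nat.card V = 8) :
    ∃ r ∈ T, r ∈ centralizer (K : Set G) ∧ r * u * r⁻¹ = u * z := by
  have hpf : Fact (Nat.Prime 2) := ⟨Nat.prime_two⟩
  obtain ⟨d, m', n', hd, hm', hn', hm, hn, -, hp⟩ := H.hyp.nums
  have hzT := H.hyp.z_mem H.sylT
  have hR2 : IsPGroup 2 (T ⊓ centralizer (K : Set G) : Subgroup G) :=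
    H.sylT.two.to_le inf_le_left
  have hQ := H.hyp.card_Q H.sylT hm hn hm' hn' hp
  have hne : Nat.card (T ⊓ centralizer (K : Set G) : Subgroup G) ≠ 2 := by
    intro h2
    have h1 := H.hyp.card_dvd H.sylT.le
    rw [H.hyp.card_K hm hn, h2] at h1
    have hT : Nat.card T ≤ 2 * Nat.card (T ⊓ K : Subgroup G) := by
      obtain ⟨a, ha⟩ := IsPGroup.iff_card.mp H.sylT.two
      rw [hQ]
      refine Nat.le_of_dvd (by positivity) ?_
      rw [ha] at h1 ⊢
      have hodd : Odd (p * m' * n') := (hp.mul hm').mul hn'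
      refine (Nat.Coprime.pow_left a hodd.coprime_two_left).dvd_of_dvd_mul_right ?_
      have e : 2 * 2 ^ (d + 1) * (p * m' * n') = 2 ^ (d + 1) * (p * m' * n') * 2 := by ring
      rw [e]; exact h1
    obtain ⟨V, hVT, hVe, hVc⟩ := hV
    have h3 := T1Tools.card_le_inf (inf_le_left : T ⊓ K ≤ T) hVT hT
    rw [hVc] at h3
    have h4 : Nat.card (T ⊓ K ⊓ V : Subgroup G) ≤ 2 := by
      have h5 : T ⊓ K ⊓ V ≤ zpowers z := by
        intro v hv
        rcases H.hyp.eq_z hv.1.2 (hVe v hv.2) with h6 | h6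
        · rw [h6]; exact one_mem _
        · rw [h6]; exact mem_zpowers z
      have h6 := Subgroup.card_le_of_le h5
      rwa [Nat.card_zpowers, H.hyp.z2] at h6
    omega
  have huT : u ∈ T := by
    have hzP : z ∈ P := by
      refine mem_of_central H.syl (mem_D.mpr ⟨rfl, H.com.symm⟩) (fun g hg => ?_)
        (isPGroup_zpowers H.hyp.z2)
      exact (mem_D.mp hg).1.symm
    have := H.hP z hzP
    rw [H.hz] at this
    exact H.le this
  obtain ⟨r, hr, hr1, hrz, hru⟩ := exists_twist hR2 (z := z) (u := u) ⟨hzT, H.hyp.zY⟩ H.hyp.zz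
    H.hyp.z_ne (fun a ha => comm H.hyp.zK ha.2) hne (fun a ha =>
      ⟨T.mul_mem (T.mul_mem huT ha.1) (T.inv_mem huT), mem_cent H.uM ha.2⟩) H.com (j := 1)
    (by rw [pow_one, sq, H.uu])
  refine ⟨r, hr.1, hr.2, ?_⟩
  rcases hru with h1 | h1
  · exfalso
    rcases H.O1' hout hr.1 hr.2 (mul_inv_eq_iff_eq_mul.mp h1).symm with h2 | h2
    · exact hr1 h2
    · exact hrz h2
  · have h2 : u * r = r * z * u := mul_inv_eq_iff_eq_mul.mp h1
    rw [mul_inv_eq_iff_eq_mul]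
    calc r * u = r * (z * z) * u := by rw [H.hyp.zz, mul_one]
      _ = r * z * (z * u) := by group
      _ = (r * z * u) * z := by rw [← H.com]; group
      _ = u * (r * z) := by rw [← h2]; group
      _ = u * z * r := by rw [← comm H.hyp.zK hr.2]; group

omit [Finite G] in
theorem three_dvd_orderOf {z u j : G} (hz : j * z * j⁻¹ = u) (hu : j * u * j⁻¹ = u * z)
    (huz : u ≠ z) (hu1 : u ≠ 1) (huu : u * u = 1) (hc : u * z = z * u) : 3 ∣ orderOf j := by
  have h3 : Commute (j ^ 3) z := by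
    have e : j ^ 3 * z * (j ^ 3)⁻¹ = z := by
      calc j ^ 3 * z * (j ^ 3)⁻¹ = j * (j * (j * z * j⁻¹) * j⁻¹) * j⁻¹ := by
            rw [pow_succ, pow_succ, pow_succ, pow_zero]; group
        _ = j * (u * z) * j⁻¹ := by rw [hz, hu]
        _ = (j * u * j⁻¹) * (j * z * j⁻¹) := by group
        _ = (z * u) * u := by rw [hz, hu, hc]
        _ = z := by rw [mul_assoc, huu, mul_one]
    exact mul_inv_eq_iff_eq_mul.mp e
  by_contra hnd
  have h1 : j ^ orderOf j = 1 := pow_orderOf_eq_one j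
  obtain ⟨q, s, hs, hqs⟩ : ∃ q s, (s = 1 ∨ s = 2) ∧ orderOf j = 3 * q + s := by
    refine ⟨orderOf j / 3, orderOf j % 3, ?_, by omega⟩
    omega
  rw [hqs, pow_add, pow_mul] at h1
  have h2 : j ^ s = ((j ^ 3) ^ q)⁻¹ := eq_inv_of_mul_eq_one_right h1
  have h4 : Commute (j ^ s) z := by rw [h2]; exact (h3.pow_left q).inv_left
  rcases hs with rfl | rfl
  · rw [pow_one] at h4
    rw [h4.eq, mul_inv_cancel_right] at hz
    exact huz hz.symm
  · have h5 : j ^ 2 * z * (j ^ 2)⁻¹ = u * z := by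
      calc j ^ 2 * z * (j ^ 2)⁻¹ = j * (j * z * j⁻¹) * j⁻¹ := by
            rw [pow_succ, pow_succ, pow_zero]; group
        _ = u * z := by rw [hz, hu]
    rw [h4.eq, mul_inv_cancel_right] at h5
    exact hu1 (mul_eq_right.mp h5.symm)

/-- (X) -/
theorem Pair.X (H : Pair K z u x P T p m n) (hout : ¬ Inn K u)
    (hV : ∃ V : Subgroup G, V ≤ T ∧ Elem V ∧ Nat.card V = 8) {r : ℕ} (hr : r.Prime)
    (hr2 : r ≠ 2) (hrn : r ∣ n) :
    r ≠ 3 ∧ ∃ a ∈ K, orderOf a = r ∧ a * u = u * a ∧ ∃ t, orderOf t = 3 ∧ t * a = a * t := by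
  have hrf : Fact r.Prime := ⟨hr⟩
  obtain ⟨x₀, hx₀T, hx₀Y, hx₀u⟩ := H.exists_x0 hout hV
  obtain ⟨a, haK, ha, hau⟩ : ∃ a ∈ K, orderOf a = r ∧ a * u = u * a := by
    obtain ⟨⟨a, ha'⟩, ha⟩ := exists_prime_orderOf_dvd_card'
      (G := (K ⊓ centralizer ({u} : Set G) : Subgroup G)) r (by rw [H.card_out hout]; exact hrn)
    rw [Subgroup.orderOf_mk] at ha
    exact ⟨a, ha'.1, ha, mem_centralizer_singleton_iff.mp ha'.2⟩
  have haz : a * z = z * a := comm haK H.hyp.zY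
  have hauz : a * (u * z) = (u * z) * a := by rw [← mul_assoc, hau, mul_assoc, haz, mul_assoc]
  have hbz : (x * a * x⁻¹) * z = z * (x * a * x⁻¹) := by
    calc (x * a * x⁻¹) * z = (x * a * x⁻¹) * (x * (u * z) * x⁻¹) := by rw [H.huz]
      _ = x * (a * (u * z)) * x⁻¹ := by group
      _ = x * ((u * z) * a) * x⁻¹ := by rw [hauz]
      _ = (x * (u * z) * x⁻¹) * (x * a * x⁻¹) := by group
      _ = z * (x * a * x⁻¹) := by rw [H.huz]
  have hbu : (x * a * x⁻¹) * u = u * (x * a * x⁻¹) := by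
    calc (x * a * x⁻¹) * u = (x * a * x⁻¹) * (x * z * x⁻¹) := by rw [H.hz]
      _ = x * (a * z) * x⁻¹ := by group
      _ = x * (z * a) * x⁻¹ := by rw [haz]
      _ = (x * z * x⁻¹) * (x * a * x⁻¹) := by group
      _ = u * (x * a * x⁻¹) := by rw [H.hz]
  obtain ⟨c, hcD, hc⟩ := exists_conj_zpowers H.hyp.cyc hr hr2
    (centralizer ({z} : Set G) ⊓ centralizer ({u} : Set G)) (a := a) (b := x * a * x⁻¹)
    (mem_D.mpr ⟨haz, hau⟩) (mem_D.mpr ⟨hbz, hbu⟩) ha (by rw [orderOf_conj, ha])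
  obtain ⟨hcz, hcu⟩ := mem_D.mp hcD
  obtain ⟨y, hy⟩ : ∃ y, y = c * x := ⟨_, rfl⟩
  have hyz : y * z * y⁻¹ = u := by
    calc y * z * y⁻¹ = c * (x * z * x⁻¹) * c⁻¹ := by rw [hy]; group
      _ = u := by rw [H.hz, hcu, mul_inv_cancel_right]
  have hyu : y * u * y⁻¹ = u * z := by
    calc y * u * y⁻¹ = c * (x * u * x⁻¹) * c⁻¹ := by rw [hy]; group
      _ = (c * u) * z * c⁻¹ := by rw [H.hu]; group
      _ = u * (c * z) * c⁻¹ := by rw [hcu]; group
      _ = u * z := by rw [hcz]; group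
  have hya : zpowers (y * a * y⁻¹) = zpowers a := by
    rw [← hc, hy]
    congr 1
    group
  have hx₀z : x₀ * z * x₀⁻¹ = z := H.hyp.conj_z (centralizer_le_normalizer _ hx₀Y)
  have hx₀uz : x₀ * (u * z) * x₀⁻¹ = u := by
    calc x₀ * (u * z) * x₀⁻¹ = (x₀ * u * x₀⁻¹) * (x₀ * z * x₀⁻¹) := by group
      _ = u * (z * z) := by rw [hx₀u, hx₀z]; group
      _ = u := by rw [H.hyp.zz, mul_one]
  have hyuz : y⁻¹ * z * y = u * z := by
    have h1 : y * (u * z) * y⁻¹ = z := by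
      calc y * (u * z) * y⁻¹ = (y * u * y⁻¹) * (y * z * y⁻¹) := by group
        _ = (z * u) * u := by rw [hyu, hyz, H.com]
        _ = z := by rw [mul_assoc, H.uu, mul_one]
    calc y⁻¹ * z * y = y⁻¹ * (y * (u * z) * y⁻¹) * y := by rw [h1]
      _ = u * z := by group
  obtain ⟨x₁, hx₁⟩ : ∃ x₁, x₁ = y * x₀ * y⁻¹ := ⟨_, rfl⟩
  have hx₁u : x₁ * u * x₁⁻¹ = u := by
    have h1 : y⁻¹ * u * y = z := by rw [← hyz]; group
    calc x₁ * u * x₁⁻¹ = y * (x₀ * (y⁻¹ * u * y) * x₀⁻¹) * y⁻¹ := by rw [hx₁]; group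
      _ = u := by rw [h1, hx₀z, hyz]
  have hx₁z : x₁ * z * x₁⁻¹ = u * z := by
    calc x₁ * z * x₁⁻¹ = y * (x₀ * (y⁻¹ * z * y) * x₀⁻¹) * y⁻¹ := by rw [hx₁]; group
      _ = u * z := by rw [hyuz, hx₀uz, hyu]
  have hax₀ : x₀ * a = a * x₀ := (comm haK hx₀Y).symm
  have hax₁ : x₁ * a = a * x₁ := by
    refine comm_of_zpowers (a := y * a * y⁻¹) (b := a) hya.symm ?_
    calc x₁ * (y * a * y⁻¹) = y * (x₀ * a) * y⁻¹ := by rw [hx₁]; group
      _ = y * (a * x₀) * y⁻¹ := by rw [hax₀]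
      _ = (y * a * y⁻¹) * x₁ := by rw [hx₁]; group
  have hj3 : 3 ∣ orderOf (x₀ * x₁) := by
    refine three_dvd_orderOf (z := z) (u := u) ?_ ?_ H.ne H.u_ne H.uu H.com
    · calc x₀ * x₁ * z * (x₀ * x₁)⁻¹ = x₀ * (x₁ * z * x₁⁻¹) * x₀⁻¹ := by group
        _ = u := by rw [hx₁z, hx₀uz]
    · calc x₀ * x₁ * u * (x₀ * x₁)⁻¹ = x₀ * (x₁ * u * x₁⁻¹) * x₀⁻¹ := by group
        _ = u * z := by rw [hx₁u, hx₀u]
  obtain ⟨i, hi⟩ := exists_pow_eq_one H.sylT.two hx₀T
  have hi1 : x₁ ^ 2 ^ i = 1 := by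
    rw [hx₁, conj_pow, hi]; group
  refine ⟨?_, a, haK, ha, hau, (x₀ * x₁) ^ (orderOf (x₀ * x₁) / 3), ?_, ?_⟩
  · rintro rfl
    exact no_three' H.hyp.cyc ha hax₀ hax₁ hi hi1 hj3
  · rw [orderOf_pow_orderOf_div (orderOf_pos _).ne' hj3]
  · have h1 : Commute (x₀ * x₁) a := (show Commute x₀ a from hax₀).mul_left hax₁
    exact (h1.pow_left _).eq

end outer

end Cfsg.Agent.OddCyclic.CompSL2Amb
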