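import Cfsg.Agent.OddCyclic.B2Syl
import Cfsg.Agent.OddCyclic.B2SpecThree
import Cfsg.Agent.OddCyclic.PGLTorus
import Cfsg.Agent.OddCyclic.CompSL2Outer
import Cfsg.Agent.GH.L2AutD

/-!
# S0342, case B2: `S = ⟨t⟩ × D` with all outer involutions conjugate to `t` (helper362)

`exists_three`: `3` divides `|C_G(z)|`.
-/

set_option autoImplicit false

namespace Cfsg.Agent.OddCyclic.B2Five

open Subgroup
open Cfsg.Agent.LieExceptional.CITDefs Cfsg.Agent.LieExceptional.CITBasic
open Cfsg.Agent.OddCyclic.CompStandard Cfsg.Agent.OddCyclic.B2Defs Cfsg.Agent.OddCyclic.B2Start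
open Cfsg.Agent.OddCyclic.B2SpecThree (R three_dvd)

variable {G : Type*} [Group G]

/-- `x` is conjugate to `t` -/
def Cj (t x : G) : Prop := ∃ g : G, g * t * g⁻¹ = x

theorem Cj.conj {t x : G} (h : Cj t x) (g : G) : Cj t (g * x * g⁻¹) := by
  obtain ⟨k, rfl⟩ := h
  exact ⟨g * k, by group⟩

theorem Cj.of_conj {t x g : G} (h : Cj t (g * x * g⁻¹)) : Cj t x := by
  have := h.conj g⁻¹
  have e : g⁻¹ * (g * x * g⁻¹) * g⁻¹⁻¹ = x := by group
  rwa [e] at this

open DData

variable {t c b : G} {n : ℕ} {S D : Subgroup G}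

theorem card_ge [Finite G] (h : DData t c b n S D) : 8 ≤ Nat.card (S ⊓ centralizer ({b} : Set G) : Subgroup G) := by
  have hcen := h.cen
  set E' : Subgroup G := S ⊓ centralizer ({b} : Set G) with hE'
  have mE : ∀ q : G, q ∈ E' ↔ q ∈ S ∧ q * b = b * q := fun q => by
    rw [hE', mem_inf, mem_centralizer_singleton_iff]
  set Z₁ : Subgroup G := zpowers (z c n) with hZ₁
  set Z₂ : Subgroup G := S ⊓ centralizer (S : Set G) with hZ₂
  have hbS := h.D_le h.b_mem
  have c1 : Nat.card Z₁ = 2 := by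
    rw [hZ₁, Nat.card_zpowers]
    exact orderOf_eq_prime (by rw [pow_two]; exact h.z_sq) h.z_ne
  have m1 : z c n ∈ Z₂ := ⟨h.D_le h.z_mem, mem_centralizer_iff.mpr fun s hs' => hcen.zS s hs'⟩
  have m2 : t ∈ Z₂ := ⟨h.t_mem, mem_centralizer_iff.mpr fun s hs' => hcen.tS s hs'⟩
  have m3 : t ∉ Z₁ := fun hc => h.t_notin ((zpowers_le.mpr h.z_mem) hc)
  have l1 : Z₁ ≤ Z₂ := zpowers_le.mpr m1
  have l2 : Z₂ ≤ E' := by
    intro x hx
    exact (mE x).mpr ⟨hx.1, (mem_centralizer_iff.mp hx.2 b hbS).symm⟩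
  have m4 : b ∉ Z₂ := by
    intro hc
    have h3 : c * b = b * c := mem_centralizer_iff.mp hc.2 c (h.D_le h.c_mem)
    have h4 := h.b_pow 1
    rw [pow_one] at h4
    rw [h4, mul_left_inj] at h3
    apply h.c_sq_ne
    nth_rewrite 1 [h3]
    exact inv_mul_cancel c
  have h1 := two_mul_card_le l1 m2 m3
  have h2 := two_mul_card_le l2 ((mE b).mpr ⟨hbS, rfl⟩) m4
  omega

/-- `S ∩ C(b)` is elementary abelian -/
theorem elem_cent (h : DData t c b n S D) : Elem (S ⊓ centralizer ({b} : Set G) : Subgroup G) := by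
  intro q hq
  rw [mem_inf, mem_centralizer_singleton_iff] at hq
  have hz := h.z_sq
  have hb := h.b_sq
  have hzb : z c n * b = b * z c n := (h.z_comm b h.b_mem).symm
  have htz : t * z c n = z c n * t := h.tD _ h.z_mem
  have htb : t * b = b * t := h.tD _ h.b_mem
  have cz : Commute (z c n) b := hzb
  have ct : Commute t (z c n) := htz
  have ct' : Commute t b := htb
  have key : ∀ x y : G, Commute x y → x * x = 1 → y * y = 1 → x * y * (x * y) = 1 := by
    intro x y hxy hx hy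
    calc x * y * (x * y) = x * (y * x) * y := by group
      _ = (x * x) * (y * y) := by rw [← hxy.eq]; group
      _ = 1 := by rw [hx, hy, one_mul]
  rcases h.cent_b hq.1 hq.2 with rfl | rfl | rfl | rfl | rfl | rfl | rfl | rfl
  · exact one_mul 1
  · exact hz
  · exact hb
  · exact key _ _ cz hz hb
  · exact h.t_sq
  · exact key _ _ ct h.t_sq hz
  · exact key _ _ ct' h.t_sq hb
  · exact key _ _ (ct.mul_right ct') h.t_sq (key _ _ cz hz hb)

theorem exists_g [Finite G] (h : DData t c b n S D) (h1 : Cj t (c * b)) (h2 : Cj t (t * (c * b)))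
    (h3 : Cj t (t * z c n)) (hb : ¬ Cj t b) {e : G} (he : e = c * b ∨ e = t * (c * b)) :
    ∃ g : G, g * e * g⁻¹ = t ∧ g * z c n = z c n * g ∧
      ∀ x ∈ S ⊓ centralizer ({c * b} : Set G), g * x * g⁻¹ ∈ S ⊓ centralizer ({c * b} : Set G) := by
  classical
  have hn := h.n_ge
  have h' := h.swapb
  have hcen := h.cen
  set o := c * b with ho
  set E' : Subgroup G := S ⊓ centralizer ({o} : Set G) with hE'
  have mE : ∀ q : G, q ∈ E' ↔ q ∈ S ∧ q * o = o * q := fun q => by
    rw [hE', mem_inf, mem_centralizer_singleton_iff]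
  have hEl : Elem E' := elem_cent h'
  have hcE : 8 ≤ Nat.card E' := card_ge h'
  have hoS : o ∈ S := h'.D_le h'.b_mem
  have toE : ∀ x ∈ E', x * t = t * x := fun x hx => hcen.tS x ((mE x).mp hx).1
  have hnz : ¬ Cj t (z c n) := fun ⟨g, hg⟩ => hcen.not_conj g hg
  -- the elements of `E'` not conjugate to `t`
  have hzo : Cj t (z c n * o) := by
    have : c ^ 2 ^ (n - 3) * o * (c ^ 2 ^ (n - 3))⁻¹ = z c n * o := by
      rw [← h'.conj_even, ← pow_succ', show n - 3 + 1 = n - 2 by omega]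
    rw [← this]; exact h1.conj _
  have htzo : Cj t (t * (z c n * o)) := by
    have e1 : c ^ 2 ^ (n - 3) * o * (c ^ 2 ^ (n - 3))⁻¹ = z c n * o := by
      rw [← h'.conj_even, ← pow_succ', show n - 3 + 1 = n - 2 by omega]
    have e2 : c ^ 2 ^ (n - 3) * (t * o) * (c ^ 2 ^ (n - 3))⁻¹ = t * (z c n * o) := by
      have h4 : c ^ 2 ^ (n - 3) * t = t * c ^ 2 ^ (n - 3) := (h.tD _ (D.pow_mem h.c_mem _)).symm
      calc c ^ 2 ^ (n - 3) * (t * o) * (c ^ 2 ^ (n - 3))⁻¹
          = (c ^ 2 ^ (n - 3) * t) * o * (c ^ 2 ^ (n - 3))⁻¹ := by group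
        _ = _ := by rw [h4, ← e1]; group
    rw [← e2]; exact h2.conj _
  have hE : ∀ q ∈ E', ¬ Cj t q → q = 1 ∨ q = z c n := by
    intro q hq hqn
    obtain ⟨hqS, hqo⟩ := (mE q).mp hq
    rcases h'.cent_b hqS hqo with h4 | h4 | h4 | h4 | h4 | h4 | h4 | h4
    · exact Or.inl h4
    · exact Or.inr h4
    · exact absurd (h4 ▸ h1) hqn
    · exact absurd (h4 ▸ hzo) hqn
    · exact absurd ⟨1, by rw [h4]; group⟩ hqn
    · exact absurd (h4 ▸ h3) hqn
    · exact absurd (h4 ▸ h2) hqn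
    · exact absurd (h4 ▸ htzo) hqn
  -- conjugate `e` to `t`
  have hCe : Cj t e := by rcases he with rfl | rfl <;> assumption
  obtain ⟨g₀, hg₀⟩ := hCe
  have hEe : ∀ x ∈ E', x * e = e * x := by
    intro x hx
    have h4 := ((mE x).mp hx).2
    have h5 := toE x hx
    rcases he with rfl | rfl
    · exact h4
    · calc x * (t * o) = (x * t) * o := by group
        _ = t * (x * o) := by rw [h5]; group
        _ = t * o * x := by rw [h4]; group
  have hB : cj g₀⁻¹ E' ≤ centralizer ({t} : Set G) := by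
    intro x hx
    rw [mem_cj, inv_inv] at hx
    rw [mem_centralizer_singleton_iff]
    have h4 := hEe _ hx
    have e1 : t = g₀⁻¹ * e * g₀ := by rw [← hg₀]; group
    calc x * t = g₀⁻¹ * ((g₀ * x * g₀⁻¹) * e) * g₀ := by rw [e1]; group
      _ = g₀⁻¹ * (e * (g₀ * x * g₀⁻¹)) * g₀ := by rw [h4]
      _ = t * x := by rw [e1]; group
  obtain ⟨S₃, hS₃, hle₃⟩ := exists_isSyl2 _ _ hB ((h.syl.two.to_le inf_le_left).map _)
  obtain ⟨m, hm, hSm⟩ := IsSyl2.conj h.syl hS₃
  have hmt : m * t = t * m := mem_centralizer_singleton_iff.mp hm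
  set g₁ := m⁻¹ * g₀⁻¹ with hg₁
  set A : Subgroup G := cj g₁ E' with hA
  have hAS : A ≤ S := by
    intro x hx
    rw [hA, mem_cj] at hx
    have h4 : m * x * m⁻¹ ∈ cj g₀⁻¹ E' := by
      rw [mem_cj]
      have e1 : g₀⁻¹⁻¹ * (m * x * m⁻¹) * g₀⁻¹ = g₁⁻¹ * x * g₁ := by rw [hg₁]; group
      rw [e1]; exact hx
    have h5 : m * x * m⁻¹ ∈ cj m S := by
      have := hle₃ h4
      rw [hSm] at this
      exact this
    rw [mem_cj] at h5
    have e1 : m⁻¹ * (m * x * m⁻¹) * m = x := by group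
    rwa [e1] at h5
  have hg₁e : g₁ * e * g₁⁻¹ = t := by
    calc g₁ * e * g₁⁻¹ = m⁻¹ * (g₀⁻¹ * e * g₀) * m := by rw [hg₁]; group
      _ = m⁻¹ * (t * m) := by rw [← hg₀]; group
      _ = t := by rw [← hmt]; group
  have hcA : 8 ≤ Nat.card A := by rw [hA, card_cj]; exact hcE
  have hAel : Elem A := by
    intro x hx
    rw [hA, mem_cj] at hx
    have h4 := hEl _ hx
    calc x * x = g₁ * ((g₁⁻¹ * x * g₁) * (g₁⁻¹ * x * g₁)) * g₁⁻¹ := by group
      _ = 1 := by rw [h4]; group
  have hnA : ∀ q ∈ A, ¬ Cj t q → q ≠ 1 → q = g₁ * z c n * g₁⁻¹ := by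
    intro q hq hqn hq1
    rw [hA, mem_cj] at hq
    rcases hE _ hq (fun hc => hqn (by
      have := hc.conj g₁
      have e1 : g₁ * (g₁⁻¹ * q * g₁) * g₁⁻¹ = q := by group
      rwa [e1] at this)) with h4 | h4
    · exfalso; apply hq1
      calc q = g₁ * (g₁⁻¹ * q * g₁) * g₁⁻¹ := by group
        _ = 1 := by rw [h4]; group
    · rw [← h4]; group
  -- a noncentral involution of `A`
  obtain ⟨x, hxA, hx1, hxt, hxz, hxtz⟩ : ∃ x ∈ A, x ≠ 1 ∧ x ≠ t ∧ x ≠ z c n ∧ x ≠ t * z c n := by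
    by_contra hcon
    push Not at hcon
    have hsub : (A : Set G) ⊆ (({1, t, z c n, t * z c n} : Finset G) : Set G) := by
      intro q hq
      by_cases q1 : q = 1
      · simp [q1]
      by_cases q2 : q = t
      · simp [q2]
      by_cases q3 : q = z c n
      · simp [q3]
      · simp [hcon q hq q1 q2 q3]
    have h4 := Set.ncard_le_ncard hsub (Finset.finite_toSet _)
    rw [Set.ncard_coe_finset] at h4
    have h5 : (A : Set G).ncard = Nat.card A := rfl
    have h6 : ({1, t, z c n, t * z c n} : Finset G).card ≤ 4 := Finset.card_le_four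
    omega
  have hxS := hAS hxA
  set C : Subgroup G := S ⊓ centralizer ({x} : Set G) with hC
  have mC : ∀ q : G, q ∈ C ↔ q ∈ S ∧ q * x = x * q := fun q => by
    rw [hC, mem_inf, mem_centralizer_singleton_iff]
  have hAC : A = C := by
    refine Subgroup.eq_of_le_of_card_ge ?_ ?_
    · intro q hq
      exact (mC q).mpr ⟨hAS hq, hAel.comm hq hxA⟩
    · exact (h.card_cent_le hxS (hAel x hxA) hx1 hxt hxz hxtz (Q := C) inf_le_left
        (fun q hq => ((mC q).mp hq).2)).trans hcA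
  have hzA : z c n ∈ A := by
    rw [hAC]
    exact (mC _).mpr ⟨h.D_le h.z_mem, (hcen.zS x hxS).symm⟩
  have hz1 : z c n = g₁ * z c n * g₁⁻¹ := hnA _ hzA hnz h.z_ne
  -- `x = d` or `td`
  obtain ⟨d, hd, hxd⟩ := (h.S_eq x).mp hxS
  have hdx : d * x = x * d := by
    rcases hxd with hxd | hxd
    · rw [hxd]
    · rw [hxd]
      have h4 := h.tD d hd
      calc d * (t * d) = (d * t) * d := by group
        _ = t * d * d := by rw [← h4]
  have hdA : d ∈ A := by
    rw [hAC]; exact (mC d).mpr ⟨h.D_le hd, hdx⟩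
  have hdd : d * d = 1 := hAel d hdA
  have hd1 : d ≠ 1 := by
    rintro rfl
    rcases hxd with hxd | hxd
    · exact hx1 hxd
    · rw [mul_one] at hxd; exact hxt hxd
  have hdz : d ≠ z c n := by
    rintro rfl
    rcases hxd with hxd | hxd
    · exact hxz hxd
    · exact hxtz hxd
  rcases h.invol hd hdd hd1 with h4 | ⟨j, hj⟩ | ⟨j, hj⟩
  · exact absurd h4 hdz
  · -- `d` conjugate to `b`
    exfalso
    have h5 : ¬ Cj t d := fun hc => hb (by rw [hj] at hc; exact hc.of_conj)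
    exact hdz ((hnA d hdA h5 hd1).trans hz1.symm)
  · -- `d` conjugate to `o`
    refine ⟨(c ^ j)⁻¹ * g₁, ?_, ?_, ?_⟩
    · have hct : c ^ j * t = t * c ^ j := (h.tD _ (D.pow_mem h.c_mem _)).symm
      calc (c ^ j)⁻¹ * g₁ * e * ((c ^ j)⁻¹ * g₁)⁻¹ = (c ^ j)⁻¹ * (g₁ * e * g₁⁻¹) * c ^ j := by group
        _ = (c ^ j)⁻¹ * (t * c ^ j) := by rw [hg₁e]; group
        _ = t := by rw [← hct]; group
    · have hcz : c ^ j * z c n = z c n * c ^ j := h.z_comm _ (D.pow_mem h.c_mem _)
      have h5 : g₁ * z c n = z c n * g₁ := by rw [eq_comm, mul_inv_eq_iff_eq_mul] at hz1; exact hz1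
      have h6 : (c ^ j)⁻¹ * z c n = z c n * (c ^ j)⁻¹ := by
        calc (c ^ j)⁻¹ * z c n = (c ^ j)⁻¹ * (z c n * c ^ j) * (c ^ j)⁻¹ := by group
          _ = _ := by rw [← hcz]; group
      calc (c ^ j)⁻¹ * g₁ * z c n = (c ^ j)⁻¹ * (g₁ * z c n) := by group
        _ = ((c ^ j)⁻¹ * z c n) * g₁ := by rw [h5]; group
        _ = _ := by rw [h6]; group
    · intro y hy
      have h5 : g₁ * y * g₁⁻¹ ∈ C := by rw [← hAC]; exact conj_mem_cj hy
      obtain ⟨h6, h7⟩ := (mC _).mp h5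
      -- commutes with `d`
      have h8 : (g₁ * y * g₁⁻¹) * d = d * (g₁ * y * g₁⁻¹) := by
        rcases hxd with hxd | hxd
        · rw [← hxd]; exact h7
        · have h9 := hcen.tS _ h6
          have h10 : t * ((g₁ * y * g₁⁻¹) * d) = t * (d * (g₁ * y * g₁⁻¹)) := by
            calc t * ((g₁ * y * g₁⁻¹) * d) = (t * (g₁ * y * g₁⁻¹)) * d := by group
              _ = (g₁ * y * g₁⁻¹) * (t * d) := by rw [← h9]; group
              _ = (t * d) * (g₁ * y * g₁⁻¹) := by rw [← hxd, h7]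
              _ = _ := by group
          exact mul_left_cancel h10
      refine (mE _).mpr ⟨?_, ?_⟩
      · have e1 : (c ^ j)⁻¹ * g₁ * y * ((c ^ j)⁻¹ * g₁)⁻¹ = (c ^ j)⁻¹ * (g₁ * y * g₁⁻¹) * c ^ j := by group
        rw [e1]
        have h9 := h.D_le (D.pow_mem h.c_mem j)
        exact S.mul_mem (S.mul_mem (S.inv_mem h9) h6) h9
      · have e1 : o = (c ^ j)⁻¹ * d * c ^ j := by rw [hj, ← ho]; group
        calc (c ^ j)⁻¹ * g₁ * y * ((c ^ j)⁻¹ * g₁)⁻¹ * o
            = (c ^ j)⁻¹ * ((g₁ * y * g₁⁻¹) * d) * c ^ j := by rw [e1]; group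
          _ = (c ^ j)⁻¹ * (d * (g₁ * y * g₁⁻¹)) * c ^ j := by rw [h8]
          _ = _ := by rw [e1]; group

/-- `3` divides `|C_G(z)|` -/
theorem exists_three [Finite G] (h : DData t c b n S D) (h1 : Cj t (c * b)) (h2 : Cj t (t * (c * b)))
    (h3 : Cj t (t * z c n)) (hb : ¬ Cj t b) : ∃ k : G, k * z c n = z c n * k ∧ orderOf k = 3 := by
  have h' := h.swapb
  have hcen := h.cen
  obtain ⟨g₁, e1, z1, N1⟩ := exists_g h h1 h2 h3 hb (Or.inl rfl)
  obtain ⟨g₂, e2, z2, N2⟩ := exists_g h h1 h2 h3 hb (Or.inr rfl)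
  set o := c * b with ho
  set i := z c n with hi
  have hii : i * i = 1 := h.z_sq
  have hoD : o ∈ D := h'.b_mem
  have hto : t * o = o * t := h.tD o hoD
  have hti : t * i = i * t := h.tD _ h.z_mem
  have hoi : o * i = i * o := h.z_comm o hoD
  have htt := h.t_sq
  have hoo := h'.b_sq
  have etty : t * (t * o) = o := by rw [← mul_assoc, htt, one_mul]
  have eyt : t * o * t = o := by rw [mul_assoc, ← hto, etty]
  have htE : t ∈ S ⊓ centralizer ({o} : Set G) :=
    ⟨h.t_mem, mem_centralizer_singleton_iff.mpr hto⟩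
  -- classes
  have n1 : ¬ R i o t := by
    rintro (h4 | h4)
    · exact h.t_notin (h4 ▸ hoD)
    · exact h.t_notin (h4 ▸ D.mul_mem hoD h.z_mem)
  have o_ne_1 : o ≠ 1 := h'.b_ne
  have o_ne_i : o ≠ i := by
    intro hc
    exact h'.b_notin _ hc
  have n2 : ¬ R i (t * o) t := by
    rintro (h4 | h4)
    · exact o_ne_1 (mul_eq_left.mp h4.symm)
    · rw [mul_assoc] at h4
      have h5 : o * i = 1 := mul_eq_left.mp h4.symm
      have h6 : o = i⁻¹ := eq_inv_of_mul_eq_one_left h5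
      rw [inv_eq_of_mul_eq_one_left hii] at h6
      exact o_ne_i h6
  -- the image of `t` under an element mapping `e₀` to `t`
  have key : ∀ g e₀ : G, g * i = i * g →
      (∀ x ∈ S ⊓ centralizer ({o} : Set G), g * x * g⁻¹ ∈ S ⊓ centralizer ({o} : Set G)) →
      g * e₀ * g⁻¹ = t → e₀ ≠ t → e₀ * i ≠ t →
      R i o (g * t * g⁻¹) ∨ R i (t * o) (g * t * g⁻¹) := by
    intro g e₀ hg hN hge h3' h4'
    have hgi : g * i * g⁻¹ = i := by rw [hg]; group
    have h5 := hN t htE
    rw [mem_inf, mem_centralizer_singleton_iff] at h5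
    rcases h'.cent_b h5.1 h5.2 with h6 | h6 | h6 | h6 | h6 | h6 | h6 | h6
    · exact absurd h6 (Cen.conj_ne h.t_ne)
    · exact absurd h6 (hcen.not_conj g)
    · exact Or.inl (Or.inl h6)
    · exact Or.inl (Or.inr (by rw [h6]; exact (h.z_comm o hoD).symm))
    · exfalso; apply h3'
      calc e₀ = g⁻¹ * (g * e₀ * g⁻¹) * g := by group
        _ = g⁻¹ * (g * t * g⁻¹) * g := by rw [h6, hge]
        _ = t := by group
    · exfalso; apply h4'
      calc e₀ * i = g⁻¹ * ((g * e₀ * g⁻¹) * (g * i * g⁻¹)) * g := by group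
        _ = g⁻¹ * (g * t * g⁻¹) * g := by rw [h6, hge, hgi]
        _ = t := by group
    · exact Or.inr (Or.inl h6)
    · refine Or.inr (Or.inr ?_)
      rw [h6, mul_assoc]
      congr 1
      exact (h.z_comm o hoD).symm
  have Rt : ∀ {a x : G}, R i a x → R i (a * t) (x * t) := by
    rintro a x (rfl | rfl)
    · exact Or.inl rfl
    · right; rw [mul_assoc, ← hti, mul_assoc]
  have Rt' : ∀ {a x : G}, R i a x → R i (t * a) (t * x) := by
    rintro a x (rfl | rfl)
    · exact Or.inl rfl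
    · right; rw [mul_assoc]
  have ney : o ≠ t ∧ o * i ≠ t := ⟨fun hc => n1 (Or.inl hc.symm), fun hc => n1 (Or.inr hc.symm)⟩
  have nety : t * o ≠ t ∧ t * o * i ≠ t := ⟨fun hc => n2 (Or.inl hc.symm), fun hc => n2 (Or.inr hc.symm)⟩
  have k1 := key g₁ o z1 N1 e1 ney.1 ney.2
  have k2 := key g₂ (t * o) z2 N2 e2 nety.1 nety.2
  obtain ⟨k, hk, hk3⟩ : ∃ k : G, k * i = i * k ∧ 3 ∣ orderOf k := by
    rcases k1 with k1 | k1
    · rcases k2 with k2 | k2
      · refine ⟨g₂, z2, three_dvd (a := t) (b := o) (c := t * o) z2 hii k2 ?_ (Or.inl e2) n1 n2⟩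
        have e : g₂ * o * g₂⁻¹ = (g₂ * (t * o) * g₂⁻¹) * (g₂ * t * g₂⁻¹) := by
          calc g₂ * o * g₂⁻¹ = g₂ * (t * o * t) * g₂⁻¹ := by rw [eyt]
            _ = _ := by group
        rw [e, e2]
        exact Rt' k2
      · have k3 : R i o (g₂ * o * g₂⁻¹) := by
          have e : g₂ * o * g₂⁻¹ = (g₂ * (t * o) * g₂⁻¹) * (g₂ * t * g₂⁻¹) := by
            calc g₂ * o * g₂⁻¹ = g₂ * (t * o * t) * g₂⁻¹ := by rw [eyt]
              _ = _ := by group
          rw [e, e2]
          have := Rt' k2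
          rwa [etty] at this
        have k4 : R i (t * o) (g₁ * (t * o) * g₁⁻¹) := by
          have e : g₁ * (t * o) * g₁⁻¹ = (g₁ * t * g₁⁻¹) * (g₁ * o * g₁⁻¹) := by group
          rw [e, e1]
          have := Rt k1
          rwa [← hto] at this
        have z3 : g₁ * g₂ * i = i * (g₁ * g₂) := by
          rw [mul_assoc, z2, ← mul_assoc, z1, mul_assoc]
        refine ⟨g₁ * g₂, z3, three_dvd (a := t) (b := t * o) (c := o) z3 hii ?_ ?_ ?_ n2 n1⟩
        · have := R.conj z1 hii k4 k2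
          have e : g₁ * g₂ * t * (g₁ * g₂)⁻¹ = g₁ * (g₂ * t * g₂⁻¹) * g₁⁻¹ := by group
          rw [e]; exact this
        · have := R.conj z1 hii k1 (Or.inl e2)
          have e : g₁ * g₂ * (t * o) * (g₁ * g₂)⁻¹ = g₁ * (g₂ * (t * o) * g₂⁻¹) * g₁⁻¹ := by group
          rw [e]; exact this
        · have := R.conj z1 hii (Or.inl e1) k3
          have e : g₁ * g₂ * o * (g₁ * g₂)⁻¹ = g₁ * (g₂ * o * g₂⁻¹) * g₁⁻¹ := by group
          rw [e]; exact this
    · refine ⟨g₁, z1, three_dvd (a := t) (b := t * o) (c := o) z1 hii k1 ?_ (Or.inl e1) n2 n1⟩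
      have e : g₁ * (t * o) * g₁⁻¹ = (g₁ * t * g₁⁻¹) * (g₁ * o * g₁⁻¹) := by group
      rw [e, e1]
      have := Rt k1
      rwa [eyt] at this
  refine ⟨k ^ (orderOf k / 3), ?_, orderOf_pow_orderOf_div (orderOf_pos k).ne' hk3⟩
  exact ((show Commute k i from hk).pow_left _).eq

/-! ### `p = 5` -/

open Cfsg.Agent.GH.L2Aut Cfsg.Agent.OddCyclic.B2Syl Cfsg.Agent.OddCyclic.T1Defs
open Cfsg.Agent.OddCyclic.PGLTorus

/-- in `PSL(2,5)` no element of order three commutes with an involution -/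
theorem no_six {F : Type*} [Field F] [Fintype F] {L : Type*} [Group L] (R : GH.L2Aut.Rep F L)
    (hp : ∀ α : MulAut L, α ∈ R.PGL) (hc : Fintype.card F = 5) {i w : L} (hii : i * i = 1) (hi1 : i ≠ 1)
    (hw : orderOf w = 3) (hwi : w * i = i * w) : False := by
  have := R.finite_aut
  obtain ⟨g, hg⟩ := R.mem_PGL.1 (hp (MulAut.conj i))
  have h1 : R.gl g ≠ 1 := by
    rw [← hg]
    intro e
    exact hi1 (R.conj_injective (by rw [e, map_one]))
  have h2 : R.gl g * R.gl g = 1 := by rw [← hg, ← map_mul, hii, map_one]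
  have htr := trace_of_sq R h1 h2
  have h3 : Nat.card (Tor R g) = 4 := by
    rw [card_Tor_inn R htr (by rw [← hg]; exact ⟨i, rfl⟩), Nat.card_eq_fintype_card, hc]
    rfl
  have ho : orderOf (MulAut.conj w) = 3 := by
    rw [← hw]; exact orderOf_injective (MulAut.conj : L →* MulAut L) R.conj_injective w
  have h4 : MulAut.conj w * R.gl g = R.gl g * MulAut.conj w := by
    rw [← hg, ← map_mul, ← map_mul, hwi]
  rcases mem_Tor_or_sq R (hp _) h4 with h5 | h5
  · have h6 := Subgroup.orderOf_dvd_natCard _ h5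
    rw [h3, ho] at h6
    omega
  · have h6 : orderOf (MulAut.conj w) ∣ 2 := orderOf_dvd_of_pow_eq_one (by rw [pow_two]; exact h5)
    rw [ho] at h6
    omega

/-- outer involutions of `S` are conjugate to each other or to `t` times each other -/
theorem outer_conj {F : Type*} [Field F] [Fintype F] {t : G} {K S : Subgroup G} (h : SRel F t K S)
    {x y : G} (hx : x ∈ S) (hy : y ∈ S) (hxx : x * x = 1) (hyy : y * y = 1) (hxK : x ∉ K) (hxK' : t * x ∉ K)
    (hyK : y ∉ K) (hyK' : t * y ∉ K) : ∃ k ∈ K, k * x * k⁻¹ = y ∨ k * x * k⁻¹ = t * y := by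
  have h1 : ∀ {s : G} (hs : s ∈ S), s * s = 1 → h.act ⟨s, hs⟩ * h.act ⟨s, hs⟩ = 1 := by
    intro s hs hss
    rw [← map_mul]
    have : (⟨s, hs⟩ : S) * ⟨s, hs⟩ = 1 := Subtype.ext hss
    rw [this, map_one]
  have h2 : ∀ {s : G} (hs : s ∈ S), s ∉ K → t * s ∉ K → h.act ⟨s, hs⟩ ∉ Inn K := by
    intro s hs hsK hsK' hc
    rcases h.inner hc with h3 | h3
    · exact hsK h3
    · exact hsK' h3
  obtain ⟨k, hk⟩ := h.rep.dtype_conj (h.mem_PGL _) (h2 hx hxK hxK') (h1 hx hxx) (h.mem_PGL _)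
    (h2 hy hyK hyK') (h1 hy hyy)
  refine ⟨k, k.2, ?_⟩
  have hmem : (k : G) * x * (k : G)⁻¹ * y⁻¹ ∈ K ⊔ S :=
    Subgroup.mul_mem _ (Subgroup.mul_mem _ (Subgroup.mul_mem _ (mem_sup_left k.2) (mem_sup_right hx))
      (mem_sup_left (K.inv_mem k.2))) (mem_sup_right (S.inv_mem hy))
  have hc : ∀ l ∈ K, (k : G) * x * (k : G)⁻¹ * y⁻¹ * l = l * ((k : G) * x * (k : G)⁻¹ * y⁻¹) := by
    intro l hl
    have hl' : y⁻¹ * l * y ∈ K := by
      have := h.normS (S.inv_mem hy) hl
      rwa [inv_inv] at this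
    have h3 := congrArg (fun f : MulAut K => ((f ⟨y⁻¹ * l * y, hl'⟩ : K) : G)) hk
    have h4 : (k : G) * (x * ((k : G)⁻¹ * (y⁻¹ * l * y) * (k : G)) * x⁻¹) * (k : G)⁻¹ =
        y * (y⁻¹ * l * y) * y⁻¹ := h3
    have h5 : (k : G) * x * (k : G)⁻¹ * y⁻¹ * l * ((k : G) * x * (k : G)⁻¹ * y⁻¹)⁻¹ = l := by
      calc (k : G) * x * (k : G)⁻¹ * y⁻¹ * l * ((k : G) * x * (k : G)⁻¹ * y⁻¹)⁻¹
          = (k : G) * (x * ((k : G)⁻¹ * (y⁻¹ * l * y) * (k : G)) * x⁻¹) * (k : G)⁻¹ := by group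
        _ = y * (y⁻¹ * l * y) * y⁻¹ := h4
        _ = l := by group
    rwa [mul_inv_eq_iff_eq_mul] at h5
  rcases h.cent _ hmem hc with h3 | h3
  · left
    rwa [mul_inv_eq_one] at h3
  · right
    rwa [mul_inv_eq_iff_eq_mul] at h3

/-- `C(t)`-conjugation into `S` -/
theorem exists_into [Finite G] {S : Subgroup G} (hS : IsSyl2 (centralizer ({t} : Set G)) S) {x : G}
    (hx : x * t = t * x) (hxx : x * x = 1) : ∃ m : G, m * t = t * m ∧ m * x * m⁻¹ ∈ S := by
  have h1 : IsPGroup 2 (zpowers x) := by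
    refine IsPGroup.of_card (n := (orderOf x).factorization 2) ?_
    rw [Nat.card_zpowers]
    have h2 : x ^ 2 ^ 1 = 1 := by rw [pow_one, pow_two]; exact hxx
    obtain ⟨j, -, hj⟩ := (Nat.dvd_prime_pow Nat.prime_two).mp (orderOf_dvd_of_pow_eq_one h2)
    rw [hj, Nat.Prime.factorization_pow Nat.prime_two, Finsupp.single_eq_same]
  obtain ⟨S₃, hS₃, hle⟩ := exists_isSyl2 (centralizer ({t} : Set G)) (zpowers x)
    (zpowers_le.mpr (mem_centralizer_singleton_iff.mpr hx)) h1
  obtain ⟨m, hm, hSm⟩ := IsSyl2.conj hS hS₃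
  have hmt : m * t = t * m := mem_centralizer_singleton_iff.mp hm
  refine ⟨m⁻¹, ?_, ?_⟩
  · calc m⁻¹ * t = m⁻¹ * (t * m) * m⁻¹ := by group
      _ = t * m⁻¹ := by rw [← hmt]; group
  · have h3 : x ∈ cj m S := by
      have := hle (mem_zpowers x)
      rw [hSm] at this
      exact this
    rw [inv_inv]
    exact mem_cj.mp h3

/-- Type (II), `p = 5`, all outer involutions conjugate to `t`: contradiction. -/
theorem five_false [Finite G] {F : Type*} [Field F] [Fintype F] {t y : G} {K S : Subgroup G}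
    (h : SRel F t K S) (hc : Fintype.card F = 5) (hG : OddCyc G) (hns : ¬ IsSyl2 ⊤ S)
    (hyt : y * t = t * y) (hyy : y * y = 1) (hyK : y ∉ K) (hyK' : t * y ∉ K) (h1 : Cj t y)
    (h2 : Cj t (t * y)) : False := by
  classical
  -- outer involutions of `C(t)` are conjugate to `t`
  have hnK : ∀ {m : G}, m * t = t * m → ∀ {x : G}, m * x * m⁻¹ ∈ K → x ∈ K := by
    intro m hm x hx
    have hm' : m⁻¹ * t = t * m⁻¹ := by
      calc m⁻¹ * t = m⁻¹ * (t * m) * m⁻¹ := by group
        _ = t * m⁻¹ := by rw [← hm]; group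
    have := h.norm m⁻¹ hm' _ hx
    have e : m⁻¹ * (m * x * m⁻¹) * m⁻¹⁻¹ = x := by group
    rwa [e] at this
  have htm : ∀ {m : G}, m * t = t * m → ∀ x : G, t * (m * x * m⁻¹) = m * (t * x) * m⁻¹ := by
    intro m hm x
    calc t * (m * x * m⁻¹) = (t * m) * x * m⁻¹ := by group
      _ = m * (t * x) * m⁻¹ := by rw [← hm]; group
  -- `y'` in `S`
  obtain ⟨m, hm, hy'S⟩ := exists_into h.syl hyt hyy
  set y' := m * y * m⁻¹ with hy'
  have hy'y' : y' * y' = 1 := Cen.sq_conj hyy
  have hy'K : y' ∉ K := fun hc' => hyK (hnK hm hc')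
  have hy'K' : t * y' ∉ K := fun hc' => hyK' (hnK hm (by rw [← htm hm]; exact hc'))
  have h1' : Cj t y' := h1.conj m
  have h2' : Cj t (t * y') := by rw [hy', htm hm]; exact h2.conj m
  have out : ∀ x : G, x * t = t * x → x * x = 1 → x ∉ K → t * x ∉ K → Cj t x := by
    intro x hxt hxx hxK hxK'
    obtain ⟨l, hl, hxS⟩ := exists_into h.syl hxt hxx
    obtain ⟨k, hk, hkx⟩ := outer_conj h hxS hy'S (Cen.sq_conj hxx) hy'y' (fun hc' => hxK (hnK hl hc'))
      (fun hc' => hxK' (hnK hl (by rw [← htm hl]; exact hc'))) hy'K hy'K'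
    have h3 : Cj t (k * (l * x * l⁻¹) * k⁻¹) := by
      rcases hkx with e | e <;> rw [e]
      · exact h1'
      · exact h2'
    exact h3.of_conj.of_conj
  -- an involution of `K` not conjugate to `t`, centralised by an element of order three
  obtain ⟨z, hzK, hzz, hz1, hzn, k, hkz, hk3⟩ : ∃ z ∈ K, z * z = 1 ∧ z ≠ 1 ∧ ¬ Cj t z ∧
      ∃ k : G, k * z = z * k ∧ orderOf k = 3 := by
    rcases h.tri with ⟨c, b, n, D, hD, hb, hz⟩ | ⟨z, hC, y₀, hy₀, hty, hcov⟩ | ⟨w, hw, hE⟩
    · have hnz : ¬ Cj t (z c n) := fun ⟨g, hg⟩ => hD.cen.not_conj g hg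
      have hnb : ¬ Cj t b := by
        intro hc'
        obtain ⟨g, -, hg⟩ := h.inv_conj hb hz hD.b_sq hD.b_ne hD.z_sq hD.z_ne
        exact hnz (hg ▸ hc'.conj g)
      -- `cb` is outer
      obtain ⟨d, hd, hyd⟩ := (hD.S_eq y').mp hy'S
      have hdK : d ∉ K ∧ t * d ∉ K := by
        rcases hyd with e | e
        · exact ⟨e ▸ hy'K, e ▸ hy'K'⟩
        · refine ⟨?_, e ▸ hy'K⟩
          have e2 : d = t * y' := by rw [e, ← mul_assoc, h.t_sq, one_mul]
          rw [e2]; exact hy'K'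
      have hdd : d * d = 1 := by
        rcases hyd with e | e
        · rw [← e]; exact hy'y'
        · have h3 := hD.tD d hd
          calc d * d = (t * t) * (d * d) := by rw [h.t_sq, one_mul]
            _ = t * (t * d) * d := by group
            _ = t * (d * t) * d := by rw [h3]
            _ = t * d * (t * d) := by group
            _ = 1 := by rw [← e]; exact hy'y'
      have hcK : ∀ j : ℕ, c ^ j * t = t * c ^ j := fun j => (hD.tD _ (D.pow_mem hD.c_mem j)).symm
      obtain ⟨j, hj⟩ : ∃ j : ℕ, d = c ^ j * (c * b) * (c ^ j)⁻¹ := by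
        rcases hD.invol hd hdd (fun e => hdK.1 (e ▸ K.one_mem)) with e | ⟨j, e⟩ | ⟨j, e⟩
        · exact absurd (e ▸ hz) hdK.1
        · exact absurd (e ▸ h.norm _ (hcK j) b hb) hdK.1
        · exact ⟨j, e⟩
      have hoK : c * b ∉ K := fun hc' => hdK.1 (by rw [hj]; exact h.norm _ (hcK j) _ hc')
      have hoK' : t * (c * b) ∉ K := fun hc' => hdK.2 (by
        rw [hj, htm (hcK j)]; exact h.norm _ (hcK j) _ hc')
      have hoD : c * b ∈ D := hD.swapb.b_mem
      have hot : c * b * t = t * (c * b) := (hD.tD _ hoD).symm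
      have ho := out (c * b) hot hD.swapb.b_sq hoK hoK'
      have hto := out (t * (c * b)) (by
        calc t * (c * b) * t = t * (c * b * t) := by group
          _ = _ := by rw [hot]) (by
        calc t * (c * b) * (t * (c * b)) = t * (c * b * t) * (c * b) := by group
          _ = (t * t) * ((c * b) * (c * b)) := by rw [hot]; group
          _ = 1 := by rw [h.t_sq, hD.swapb.b_sq, one_mul]) hoK' (by
        rw [← mul_assoc, h.t_sq, one_mul]; exact hoK)
      obtain ⟨x, -, -, hx⟩ := hD.cen.exists_conj hns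
      exact ⟨z c n, hz, hD.z_sq, hD.z_ne, hnz, exists_three hD ho hto ⟨x, hx⟩ hnb⟩
    · -- type (III) has no outer involutions
      exfalso
      obtain ⟨l, hl⟩ := hcov y' hy'S
      have hy2 : ∀ j : ℕ, (y₀ * y₀) ^ j ∈ K ∨ t * (y₀ * y₀) ^ j ∈ K := by
        intro j
        induction j with
        | zero => left; rw [pow_zero]; exact K.one_mem
        | succ j ih =>
          have e1 : t * (y₀ * y₀) = (y₀ * y₀) * t := by
            have h3 := h.St hy₀
            exact (show Commute t (y₀ * y₀) from (show Commute t y₀ from h3.symm).mul_right h3.symm).eq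
          rcases ih with h3 | h3
          · right
            rw [pow_succ]
            have e2 : t * ((y₀ * y₀) ^ j * (y₀ * y₀)) = (y₀ * y₀) ^ j * (t * (y₀ * y₀)) := by
              have c1 : Commute t ((y₀ * y₀) ^ j) := (show Commute t (y₀ * y₀) from e1).pow_right j
              rw [← mul_assoc, c1.eq, mul_assoc]
            rw [e2]; exact K.mul_mem h3 hty
          · left
            have e2 : (y₀ * y₀) ^ (j + 1) = (t * (y₀ * y₀) ^ j) * (t * (y₀ * y₀)) := by
              have c1 : Commute t ((y₀ * y₀) ^ j) := (show Commute t (y₀ * y₀) from e1).pow_right j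
              calc (y₀ * y₀) ^ (j + 1) = (t * t) * ((y₀ * y₀) ^ j * (y₀ * y₀)) := by
                    rw [h.t_sq, one_mul, pow_succ]
                _ = t * (t * (y₀ * y₀) ^ j) * (y₀ * y₀) := by group
                _ = t * ((y₀ * y₀) ^ j * t) * (y₀ * y₀) := by rw [c1.eq]
                _ = _ := by group
            rw [e2]; exact K.mul_mem h3 hty
      rcases Nat.even_or_odd' l with ⟨j, rfl | rfl⟩
      · have h3 : y' * (y₀ * y₀) ^ j ∈ K := by
          have := hl.2
          rwa [pow_mul, pow_two] at this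
        rcases hy2 j with h4 | h4
        · exact hy'K (by
            have := K.mul_mem h3 (K.inv_mem h4)
            rwa [mul_inv_cancel_right] at this)
        · apply hy'K'
          have h5 := K.mul_mem h3 (K.inv_mem h4)
          have h6 : t * y' = y' * (y₀ * y₀) ^ j * (t * (y₀ * y₀) ^ j)⁻¹ := by
            have ht' : t⁻¹ = t := inv_eq_of_mul_eq_one_left h.t_sq
            rw [mul_inv_rev, ht', mul_assoc, mul_inv_cancel_left]
            exact (h.St hy'S).symm
          rw [h6]; exact h5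
      · -- `y'² = 1` but `y'² ∈ t K`
        set κ := y' * y₀ ^ (2 * j + 1) with hκ
        have hκK : κ ∈ K := hl.2
        set u := y₀ ^ (2 * j + 1) with hu
        have huS : u ∈ S := S.pow_mem hy₀ _
        have h3 : u⁻¹ * κ * u ∈ K := by
          have := h.normS (S.inv_mem huS) hκK
          rwa [inv_inv] at this
        have h4 : u * u ∈ K := by
          have e1 : y' = κ * u⁻¹ := by rw [hκ, mul_inv_cancel_right]
          have e2 : u * u = u * (κ * (u⁻¹ * κ * u)) * u⁻¹ := by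
            have e3 : κ * u⁻¹ * (κ * u⁻¹) = 1 := by rw [← e1]; exact hy'y'
            calc u * u = u * (κ * u⁻¹ * (κ * u⁻¹)) * u := by rw [e3]; group
              _ = u * κ * u⁻¹ * κ := by group
              _ = u * (κ * (u⁻¹ * κ * u)) * u⁻¹ := by group
          rw [e2]
          exact h.normS huS (K.mul_mem hκK h3)
        have h5 : u * u = (y₀ * y₀) ^ (2 * j + 1) := by
          rw [hu, ← (Commute.refl y₀).mul_pow]
        rw [h5] at h4
        -- but the odd power lies in `tK`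
        have e1 : t * (y₀ * y₀) = (y₀ * y₀) * t := by
          have h3 := h.St hy₀
          exact (show Commute t (y₀ * y₀) from (show Commute t y₀ from h3.symm).mul_right h3.symm).eq
        have c1 : Commute t (y₀ * y₀) := e1
        have h6 : t * (y₀ * y₀) ^ (2 * j + 1) ∈ K := by
          have h7 := K.pow_mem hty (2 * j + 1)
          rw [c1.mul_pow, pow_succ t, pow_mul, pow_two t, h.t_sq, one_pow, one_mul] at h7
          exact h7
        apply h.t_notin
        have := K.mul_mem h6 (K.inv_mem h4)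
        rwa [mul_inv_cancel_right] at this
    · -- `S = ⟨t⟩ × (S ∩ K)`
      exfalso
      obtain ⟨v, hv, hyv⟩ := (hE.S_eq y').mp hy'S
      rcases hyv with e | e
      · exact hy'K (e ▸ hv.2)
      · apply hy'K'
        rw [e, ← mul_assoc, h.t_sq, one_mul]; exact hv.2
  -- an element of order three of `K`
  obtain ⟨w₀, hw₀⟩ : ∃ w : K, orderOf w = 3 := by
    obtain ⟨a, b, hab⟩ := h.rep.exists_four
    obtain ⟨w, -, hw3, hw1, -⟩ := B2Pgl.exists_frame h.rep (B2Pgl.ringEquiv_eq_one h.prime) hab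
    have h3 : orderOf w ∣ 3 := orderOf_dvd_of_pow_eq_one (by
      rw [show (3 : ℕ) = 2 + 1 by norm_num, pow_succ, pow_two]; exact hw3)
    rcases (Nat.dvd_prime Nat.prime_three).mp h3 with h4 | h4
    · exact absurd (orderOf_eq_one_iff.mp h4) hw1
    · exact ⟨w, h4⟩
  have h3K : 3 ∣ Nat.card K := by rw [← hw₀]; exact orderOf_dvd_natCard w₀
  -- involutions of `C(t)` centralising an element of order three are conjugate to `t`
  have inv3 : ∀ w : G, w * t = t * w → orderOf w = 3 → ∀ x : G, x * t = t * x → x * x = 1 → x ≠ 1 →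
      w * x = x * w → Cj t x := by
    intro w hwt hw3 x hxt hxx hx1 hwx
    have hwK : w ∈ K := by
      refine Cfsg.Agent.OddCyclic.CompBasic.mem_of_le_normalizer hG
        (H := centralizer ({t} : Set G)) ?_ ?_ Nat.prime_three (by norm_num) h3K
        (mem_centralizer_singleton_iff.mpr hwt) hw3
      · intro k hk
        exact mem_centralizer_singleton_iff.mpr (h.Kt k hk)
      · intro g hg
        exact mem_normalizer_of_forall (h.norm g (mem_centralizer_singleton_iff.mp hg))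
    have nosix : ∀ a ∈ K, a * a = 1 → a ≠ 1 → w * a ≠ a * w := by
      intro a ha haa ha1 hwa
      exact no_six h.rep h.mem_PGL hc (i := ⟨a, ha⟩) (w := ⟨w, hwK⟩) (Subtype.ext haa)
        (fun e => ha1 (congrArg Subtype.val e)) (by rw [Subgroup.orderOf_mk]; exact hw3)
        (Subtype.ext hwa)
    by_cases hxK : x ∈ K
    · exact absurd hwx (nosix x hxK hxx hx1)
    by_cases hxK' : t * x ∈ K
    · by_cases htx : t * x = 1
      · refine ⟨1, ?_⟩
        rw [inv_one, mul_one, one_mul]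
        have : t = x⁻¹ := eq_inv_of_mul_eq_one_left htx
        rw [this]; exact inv_eq_of_mul_eq_one_left hxx
      · exfalso
        refine nosix _ hxK' ?_ htx ?_
        · calc t * x * (t * x) = t * (x * t) * x := by group
            _ = (t * t) * (x * x) := by rw [hxt]; group
            _ = 1 := by rw [h.t_sq, hxx, one_mul]
        · calc w * (t * x) = (w * t) * x := by group
            _ = t * (w * x) := by rw [hwt]; group
            _ = t * x * w := by rw [hwx]; group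
    · exact out x hxt hxx hxK hxK'
  -- all involutions of `C(w)` are conjugate to `t`
  obtain ⟨w, hw⟩ : ∃ w : G, w = (w₀ : G) := ⟨_, rfl⟩
  have hw3 : orderOf w = 3 := by rw [hw, Subgroup.orderOf_coe]; exact hw₀
  have hwt : w * t = t * w := by rw [hw]; exact h.Kt w₀ w₀.2
  obtain ⟨Q, hQ, htQ⟩ := exists_isSyl2 (centralizer ({w} : Set G)) (zpowers t)
    (zpowers_le.mpr (mem_centralizer_singleton_iff.mpr hwt.symm)) (isPGroup_zpowers h.t_ord)
  have htQ' : t ∈ Q := htQ (mem_zpowers t)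
  obtain ⟨u, huQ, hu1, huc⟩ := exists_central hQ.two le_rfl (fun x hx s hs =>
    Q.mul_mem (Q.mul_mem hx hs) (Q.inv_mem hx)) (by
    intro e
    rw [e, mem_bot] at htQ'
    exact h.t_ne htQ')
  obtain ⟨a, ha⟩ := hQ.two ⟨u, huQ⟩
  have ha' : u ^ 2 ^ a = 1 := congrArg Subtype.val ha
  obtain ⟨j, hj⟩ := Cfsg.Agent.LieExceptional.CITCommute.exists_involution ha' hu1
  set v := u ^ j with hv
  have hvQ : v ∈ Q := Q.pow_mem huQ _
  have hvc : ∀ x ∈ Q, x * v = v * x := fun x hx => ((show Commute x u from huc x hx).pow_right j).eq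
  have hvv : v * v = 1 := by rw [← pow_two, ← hj, pow_orderOf_eq_one]
  have hv1 : v ≠ 1 := by
    intro e
    rw [e, orderOf_one] at hj
    omega
  have hQw : ∀ x ∈ Q, w * x = x * w := fun x hx => (mem_centralizer_singleton_iff.mp (hQ.le hx)).symm
  obtain ⟨g, hg⟩ := inv3 w hwt hw3 v (hvc t htQ').symm hvv hv1 (hQw v hvQ)
  have conjc : ∀ x y : G, x * y = y * x → (g⁻¹ * x * g) * (g⁻¹ * y * g) = (g⁻¹ * y * g) * (g⁻¹ * x * g) := by
    intro x y hxy
    calc (g⁻¹ * x * g) * (g⁻¹ * y * g) = g⁻¹ * (x * y) * g := by group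
      _ = g⁻¹ * (y * x) * g := by rw [hxy]
      _ = _ := by group
  have hgv : g⁻¹ * v * g = t := by rw [← hg]; group
  have invQ : ∀ x ∈ Q, x * x = 1 → x ≠ 1 → Cj t x := by
    intro x hx hxx hx1
    have h4 : Cj t (g⁻¹ * x * g) := by
      refine inv3 (g⁻¹ * w * g) ?_ ?_ _ ?_ ?_ ?_ ?_
      · rw [← hgv]; exact conjc _ _ (hQw v hvQ)
      · have := orderOf_conj g⁻¹ w
        rw [inv_inv] at this
        rw [this, hw3]
      · rw [← hgv]; exact conjc _ _ (hvc x hx)
      · calc g⁻¹ * x * g * (g⁻¹ * x * g) = g⁻¹ * (x * x) * g := by group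
          _ = 1 := by rw [hxx]; group
      · intro e
        apply hx1
        calc x = g * (g⁻¹ * x * g) * g⁻¹ := by group
          _ = 1 := by rw [e]; group
      · exact conjc _ _ (hQw x hx)
    have h5 : Cj t (g⁻¹ * x * g⁻¹⁻¹) := by rw [inv_inv]; exact h4
    exact h5.of_conj
  have invC : ∀ x : G, w * x = x * w → x * x = 1 → x ≠ 1 → Cj t x := by
    intro x hwx hxx hx1
    obtain ⟨l, -, hl⟩ := exists_into hQ hwx.symm hxx
    exact (invQ _ hl (Cen.sq_conj hxx) (Cen.conj_ne hx1)).of_conj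
  -- `⟨k⟩` is conjugate to `⟨w⟩`
  obtain ⟨l, -, hl⟩ := Cfsg.Agent.OddCyclic.CompSL2Amb.exists_conj_zpowers hG Nat.prime_three (by norm_num) (⊤ : Subgroup G)
    (a := w) (b := k) (mem_top _) (mem_top _) hw3 hk3
  apply hzn
  have h4 : w ∈ zpowers (l * k * l⁻¹) := by rw [hl]; exact mem_zpowers w
  obtain ⟨e, he⟩ := mem_zpowers_iff.mp h4
  refine (invC (l * z * l⁻¹) ?_ (Cen.sq_conj hzz) (Cen.conj_ne hz1)).of_conj
  have h5 : Commute (l * k * l⁻¹) (l * z * l⁻¹) := by
    show (l * k * l⁻¹) * (l * z * l⁻¹) = (l * z * l⁻¹) * (l * k * l⁻¹)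
    calc (l * k * l⁻¹) * (l * z * l⁻¹) = l * (k * z) * l⁻¹ := by group
      _ = l * (z * k) * l⁻¹ := by rw [hkz]
      _ = _ := by group
  rw [← he]
  exact (h5.zpow_left e).eq

end Cfsg.Agent.OddCyclic.B2Five
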