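import Cfsg.Agent.OddCyclic.B2Pgl

/-!
# S0342, case B2, piece [F]: the local data `Loc`, `TypeY`, `TypeZ`, `TypeN`

`Hyp F t K`: `K ≅ PSL(2,p)`, `p ≥ 5` prime, is normal in `C_G(t)`, `C_{C(t)}(K) = ⟨t⟩`, no conjugate of `t` in `K`.
`Hyp.exists_loc`: every four-group `V ≤ K` has an element `h` of order three in `K` with `Loc t h V`, and one of
`TypeN t h V`, `∃ y, TypeY t h y V`, `∃ y, TypeZ t h y V` or the situation of section 2 holds.
-/

set_option autoImplicit false

namespace Cfsg.Agent.OddCyclic.B2Pgl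

open Cfsg.Agent.LieExceptional.CITDefs (Elem IsSyl2)
open Cfsg.Agent.GH.L2Aut
open Cfsg.Agent.OddCyclic.B2Defs

variable {G : Type*} [Group G]

/-- The hypotheses of case B2: `K ≅ PSL(2,p)` normal in `C_G(t)`. -/
structure Hyp (F : Type*) [Field F] [Fintype F] (t : G) (K : Subgroup G) : Prop where
  prime : (Fintype.card F).Prime
  five : 5 ≤ Fintype.card F
  iso : Nonempty (K ≃* Matrix.ProjectiveSpecialLinearGroup (Fin 2) F)
  cyc : ∀ P : Sylow 3 G, IsCyclic P
  t_sq : t * t = 1
  t_ne : t ≠ 1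
  Kt : ∀ k ∈ K, k * t = t * k
  norm : ∀ g : G, g * t = t * g → ∀ k ∈ K, g * k * g⁻¹ ∈ K
  cent : ∀ g : G, g * t = t * g → (∀ k ∈ K, g * k = k * g) → g = 1 ∨ g = t
  not_conj : ∀ g : G, g * t * g⁻¹ ∉ K
  not_syl : ∀ S : Subgroup G, IsSyl2 (Subgroup.centralizer ({t} : Set G)) S → ¬ IsSyl2 ⊤ S

theorem mem_cent {t g : G} : g ∈ Subgroup.centralizer ({t} : Set G) ↔ g * t = t * g := by
  rw [Subgroup.mem_centralizer_singleton_iff]

namespace Hyp

variable {F : Type*} [Field F] [Fintype F] {t : G} {K : Subgroup G} (h : Hyp F t K)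

include h in
theorem two_ne : (2 : F) ≠ 0 := by
  apply two_ne_zero_of_odd
  have := h.prime.eq_two_or_odd'
  have := h.five
  rcases h.prime.eq_two_or_odd' with h1 | h1
  · omega
  · exact h1

/-- the representation of `K` -/
noncomputable def rep : GH.L2Aut.Rep F K := GH.L2Aut.Rep.ofEquiv h.two_ne h.iso.some

include h in
theorem fld_one (σ : F ≃+* F) : σ = 1 := ringEquiv_eq_one h.prime σ

theorem mem_PGL (α : MulAut K) : α ∈ h.rep.PGL := by
  rw [Rep.mem_PGL_iff_fld]
  exact h.fld_one _

/-- conjugation of `C_G(t)` on `K` -/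
noncomputable def act : ↥(Subgroup.centralizer ({t} : Set G)) →* MulAut K where
  toFun g :=
    { toFun := fun k => ⟨g * k * (g : G)⁻¹, h.norm g (mem_cent.1 g.2) k k.2⟩
      invFun := fun k => ⟨(g : G)⁻¹ * k * g, by
        have := h.norm (g⁻¹ : ↥(Subgroup.centralizer ({t} : Set G))) (mem_cent.1 (g⁻¹).2) k k.2
        rwa [Subgroup.coe_inv, inv_inv] at this⟩
      left_inv := fun k => Subtype.ext (by simp only []; group)
      right_inv := fun k => Subtype.ext (by simp only []; group)
      map_mul' := fun k l => Subtype.ext (by simp only [Subgroup.coe_mul]; group) }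
  map_one' := by
    ext k
    change (1 : G) * k * (1 : G)⁻¹ = k
    group
  map_mul' g g' := by
    ext k
    change ((g * g' : G)) * k * (g * g' : G)⁻¹ = g * (g' * k * (g' : G)⁻¹) * (g : G)⁻¹
    group

theorem act_apply (g : ↥(Subgroup.centralizer ({t} : Set G))) (k : K) :
    (h.act g k : G) = g * k * (g : G)⁻¹ := rfl

theorem act_eq_one_iff {g : ↥(Subgroup.centralizer ({t} : Set G))} :
    h.act g = 1 ↔ (g : G) = 1 ∨ (g : G) = t := by
  constructor
  · intro h1
    apply h.cent g (mem_cent.1 g.2)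
    intro k hk
    have h2 := congrArg (fun f : MulAut K => ((f ⟨k, hk⟩ : K) : G)) h1
    have h3 : (g : G) * k * (g : G)⁻¹ = k := h2
    exact mul_inv_eq_iff_eq_mul.1 h3
  · intro h1
    ext k
    rw [h.act_apply, MulAut.one_apply]
    rcases h1 with h1 | h1
    · rw [h1]; group
    · rw [h1, ← h.Kt k k.2, mul_inv_cancel_right]

theorem act_eq_iff {g g' : ↥(Subgroup.centralizer ({t} : Set G))} :
    h.act g = h.act g' ↔ (g : G) = g' ∨ (g : G) = t * g' := by
  have h1 : h.act g = h.act g' ↔ h.act (g * g'⁻¹) = 1 := by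
    rw [map_mul, map_inv, mul_inv_eq_one]
  rw [h1, h.act_eq_one_iff, Subgroup.coe_mul, Subgroup.coe_inv, mul_inv_eq_one, mul_inv_eq_iff_eq_mul]

include h in
theorem K_le {k : G} (hk : k ∈ K) : k ∈ Subgroup.centralizer ({t} : Set G) := mem_cent.2 (h.Kt k hk)

theorem act_K {k : G} (hk : k ∈ K) : h.act ⟨k, h.K_le hk⟩ = MulAut.conj ⟨k, hk⟩ := by
  ext l
  rw [h.act_apply, MulAut.conj_apply]
  rfl

include h in
theorem t_not_mem : t ∉ K := by
  have := h.not_conj 1
  rwa [one_mul, inv_one, mul_one] at this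

/-- an element acting as an inner automorphism -/
theorem inner {g : ↥(Subgroup.centralizer ({t} : Set G))} (hg : h.act g ∈ (MulAut.conj : K →* MulAut K).range) :
    (g : G) ∈ K ∨ t * (g : G) ∈ K := by
  obtain ⟨k, hk⟩ := hg
  have h1 : h.act g = h.act ⟨k, h.K_le k.2⟩ := by rw [← hk]; exact (h.act_K k.2).symm
  rcases h.act_eq_iff.1 h1 with h2 | h2
  · left; rw [h2]; exact k.2
  · right
    rw [h2, ← mul_assoc, h.t_sq, one_mul]; exact k.2

theorem not_inner {g : ↥(Subgroup.centralizer ({t} : Set G))} (hg : (g : G) * g = t) :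
    h.act g ∉ (MulAut.conj : K →* MulAut K).range := by
  intro h1
  apply h.t_not_mem
  rcases h.inner h1 with h2 | h2
  · rw [← hg]; exact mul_mem h2 h2
  · have e : t * (g : G) * (t * g) = t := by
      have := mem_cent.1 g.2
      rw [mul_assoc, ← mul_assoc (g : G), this, mul_assoc t (g : G), ← mul_assoc t t, h.t_sq, one_mul, hg]
    rw [← e]; exact mul_mem h2 h2

include h in
theorem e16 (A : Subgroup G) (hA : Elem A) (hc : ∀ a ∈ A, a * t = t * a) [Finite G] : Nat.card A ≤ 8 := by
  let f : A →* MulAut K := h.act.comp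
    { toFun := fun a => ⟨a, mem_cent.2 (hc a a.2)⟩, map_one' := rfl, map_mul' := fun _ _ => rfl }
  have h1 : Nat.card f.range ≤ 4 := by
    apply card_elem h.rep
    · intro x _; exact h.mem_PGL x
    · rintro _ ⟨a, rfl⟩
      rw [← map_mul]
      have : a * a = 1 := Subtype.ext (hA a a.2)
      rw [this, map_one]
  have h2 : Nat.card f.ker ≤ 2 := by
    have h3 : f.ker.map A.subtype ≤ Subgroup.zpowers t := by
      rintro _ ⟨a, ha, rfl⟩
      have ha' : h.act ⟨a, mem_cent.2 (hc a a.2)⟩ = 1 := ha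
      rcases h.act_eq_one_iff.1 ha' with h4 | h4
      · change (a : G) ∈ _
        have h4' : (a : G) = 1 := h4
        rw [h4']; exact one_mem _
      · change (a : G) ∈ _
        have h4' : (a : G) = t := h4
        rw [h4']; exact Subgroup.mem_zpowers t
    have h4 := Subgroup.card_le_of_le h3
    rw [Nat.card_zpowers, Subgroup.card_map_of_injective A.subtype_injective] at h4
    have h5 : orderOf t ∣ 2 := by rw [orderOf_dvd_iff_pow_eq_one, sq]; exact h.t_sq
    have := Nat.le_of_dvd (by norm_num) h5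
    omega
  have h3 : Nat.card A = Nat.card f.ker * Nat.card f.range := by
    rw [← Subgroup.index_ker, Subgroup.card_mul_index]
  rw [h3]
  calc _ ≤ 2 * 4 := Nat.mul_le_mul h2 h1
    _ = 8 := by norm_num

include h in
theorem q8 (a b z : G) (hat : a * t = t * a) (hbt : b * t = t * b) (haa : a * a = z) (hbb : b * b = z)
    (hab : a * b * a⁻¹ * b⁻¹ = z) (hzz : z * z = 1) : z = 1 := by
  let a' : ↥(Subgroup.centralizer ({t} : Set G)) := ⟨a, mem_cent.2 hat⟩
  let b' : ↥(Subgroup.centralizer ({t} : Set G)) := ⟨b, mem_cent.2 hbt⟩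
  have hzt : z * t = t * z := by rw [← haa, mul_assoc, hat, ← mul_assoc, hat, mul_assoc]
  let z' : ↥(Subgroup.centralizer ({t} : Set G)) := ⟨z, mem_cent.2 hzt⟩
  have e1 : a' * a' = z' := Subtype.ext haa
  have e2 : b' * b' = z' := Subtype.ext hbb
  have e3 : a' * b' * a'⁻¹ * b'⁻¹ = z' := Subtype.ext hab
  have h1 : h.act z' = 1 := by
    apply no_q8 h.rep (x := h.act a') (y := h.act b') (h.mem_PGL _) (h.mem_PGL _)
    · rw [← map_mul, e1]
    · rw [← map_mul, e2]
    · rw [← map_inv, ← map_inv, ← map_mul, ← map_mul, ← map_mul, e3]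
  rcases h.act_eq_one_iff.1 h1 with h2 | h2
  · exact h2
  exfalso
  have hz : z = t := h2
  have ha : h.act a' ∉ (MulAut.conj : K →* MulAut K).range := h.not_inner (haa.trans hz)
  have hb : h.act b' ∉ (MulAut.conj : K →* MulAut K).range := h.not_inner (hbb.trans hz)
  have hc : h.act (a' * b') ∉ (MulAut.conj : K →* MulAut K).range := by
    apply h.not_inner
    change a * b * (a * b) = t
    have e4 : a * b = z * (b * a) := by rw [← hab]; group
    have e5 : a * b * (a * b) = z * (b * a) * (a * b) := by rw [← e4]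
    have e6 : z * (b * a) * (a * b) = z * (b * (a * a) * b) := by group
    have e7 : b * z * b = z * z := by
      rw [← hbb]; group
    rw [e5, e6, haa, e7, hzz, mul_one, hz]
  apply hc
  rw [map_mul]
  exact h.rep.mul_mem_inn (h.mem_PGL _) ha (h.mem_PGL _) hb

end Hyp

/-- two distinct involutions of a subgroup `V` of order four -/
theorem exists_four_of_card [Finite G] {V : Subgroup G} (hE : Elem V) (h4 : Nat.card V = 4) :
    ∃ a b : G, a ∈ V ∧ b ∈ V ∧ Four a b ∧ ∀ v ∈ V, v = 1 ∨ v = a ∨ v = b ∨ v = a * b := by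
  classical
  obtain ⟨a, haV, ha⟩ : ∃ a ∈ V, a ≠ 1 := by
    by_contra hcon
    push Not at hcon
    have : V = ⊥ := by rw [eq_bot_iff]; intro v hv; rw [hcon v hv]; exact one_mem _
    rw [this, Subgroup.card_bot] at h4
    omega
  obtain ⟨b, hbV, hb1, hba⟩ : ∃ b ∈ V, b ≠ 1 ∧ b ≠ a := by
    by_contra hcon
    push Not at hcon
    have h1 : (V : Set G) ⊆ (({1, a} : Finset G) : Set G) := by
      intro v hv
      rw [Finset.mem_coe, Finset.mem_insert, Finset.mem_singleton]
      by_cases hv1 : v = 1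
      · exact Or.inl hv1
      · exact Or.inr (hcon v hv hv1)
    have h2 := Set.ncard_le_ncard h1 (Finset.finite_toSet _)
    rw [Set.ncard_coe_finset] at h2
    have h3 : (V : Set G).ncard = 4 := h4
    have := Finset.card_le_two (a := (1 : G)) (b := a)
    omega
  have hF : Four a b := ⟨hE a haV, hE b hbV, ha, hb1, hba.symm, hE.comm haV hbV⟩
  refine ⟨a, b, haV, hbV, hF, ?_⟩
  intro v hv
  by_contra hcon
  push Not at hcon
  obtain ⟨n1, n2, n3, n4⟩ := hcon
  have h1 : ((({v, 1, a, b, a * b} : Finset G)) : Set G) ⊆ V := by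
    intro x hx
    rw [Finset.mem_coe] at hx
    simp only [Finset.mem_insert, Finset.mem_singleton] at hx
    rcases hx with rfl | rfl | rfl | rfl | rfl
    · exact hv
    · exact one_mem _
    · exact haV
    · exact hbV
    · exact mul_mem haV hbV
  have h2 := Set.ncard_le_ncard h1 (Set.toFinite _)
  rw [Set.ncard_coe_finset] at h2
  have h3 : (V : Set G).ncard = 4 := h4
  have h5 : ({v, 1, a, b, a * b} : Finset G).card = 5 := by
    have k1 : a ≠ a * b := fun e => hb1 (left_eq_mul.1 e)
    have k2 : b ≠ a * b := fun e => ha (right_eq_mul.1 e)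
    have k3 : (1 : G) ≠ a * b := fun e => hF.right.b1 e.symm
    rw [Finset.card_insert_of_notMem, Finset.card_insert_of_notMem, Finset.card_insert_of_notMem,
      Finset.card_insert_of_notMem, Finset.card_singleton]
    · simp only [Finset.mem_singleton]; exact k2
    · simp only [Finset.mem_insert, Finset.mem_singleton, not_or]; exact ⟨hba.symm, k1⟩
    · simp only [Finset.mem_insert, Finset.mem_singleton, not_or]; exact ⟨ha.symm, hb1.symm, k3⟩
    · simp only [Finset.mem_insert, Finset.mem_singleton, not_or]; exact ⟨n1, n2, n3, n4⟩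
  omega

/-- the situation of section 2: `y` an outer involution (type II, `d = 2`) with `t ∼ y ∼ t y` -/
structure TypeS (F : Type*) [Field F] (t w y : G) (V K : Subgroup G) : Prop where
  y_sq : y * y = 1
  ty : t * y = y * t
  yV : ∀ v ∈ V, y * v * y⁻¹ ∈ V
  yh : y * w * y⁻¹ = w⁻¹
  conj_y : ∃ g : G, g * t * g⁻¹ = y
  conj_ty : ∃ g : G, g * t * g⁻¹ = t * y
  y_notin : y ∉ K
  ty_notin : t * y ∉ K
  two : ¬ IsSquare (2 : F)

namespace Hyp

variable {F : Type*} [Field F] [Fintype F] {t : G} {K : Subgroup G} (h : Hyp F t K)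

include h in
/-- **(0.3)** the local data at a four-group of `K` -/
theorem exists_loc [Finite G] {V : Subgroup G} (hV : V ≤ K) (hE : Elem V) (h4 : Nat.card V = 4) :
    ∃ w ∈ K, Loc t w V ∧ (TypeN t w V ∨ (∃ y, TypeY t w y V) ∨ (∃ y, TypeZ t w y V) ∨
      ∃ y, TypeS F t w y V K) := by
  obtain ⟨a, b, haV, hbV, hF, hall⟩ := exists_four_of_card hE h4
  have haK := hV haV
  have hbK := hV hbV
  have hF' : Four (⟨a, haK⟩ : K) ⟨b, hbK⟩ :=
    ⟨Subtype.ext hF.aa, Subtype.ext hF.bb, fun e => hF.a1 (congrArg Subtype.val e),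
      fun e => hF.b1 (congrArg Subtype.val e), fun e => hF.ne (congrArg Subtype.val e), Subtype.ext hF.comm⟩
  obtain ⟨w, δ, hw3, hw1, hwa, hwb, hδa, hδb, hδw, hδδ, hδi, hst⟩ := exists_frame h.rep h.fld_one hF'
  have hwa' : (w : G) * a * (w : G)⁻¹ = b := congrArg Subtype.val hwa
  have hwb' : (w : G) * b * (w : G)⁻¹ = a * b := congrArg Subtype.val hwb
  have hw3' : (w : G) * w * w = 1 := congrArg Subtype.val hw3
  have hwab' : (w : G) * (a * b) * (w : G)⁻¹ = a := by
    have e : (w : G) * (a * b) * (w : G)⁻¹ = (w * a * (w : G)⁻¹) * (w * b * (w : G)⁻¹) := by group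
    rw [e, hwa', hwb', hF.comm, ← mul_assoc, hF.bb, one_mul]
  have habV : a * b ∈ V := mul_mem haV hbV
  -- stabiliser of `V` pointwise, in `G`
  have hstG : ∀ g : G, g * t = t * g → g * a = a * g → g * b = b * g → ∃ v ∈ V, g = v ∨ g = t * v := by
    intro g hg h1 h2
    obtain ⟨u, hu, e⟩ := hst (h.act ⟨g, mem_cent.2 hg⟩)
      (Subtype.ext (by rw [h.act_apply]; change g * a * g⁻¹ = a; rw [h1, mul_inv_cancel_right]))
      (Subtype.ext (by rw [h.act_apply]; change g * b * g⁻¹ = b; rw [h2, mul_inv_cancel_right]))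
    have huV : (u : G) ∈ V := by
      rcases hu with rfl | rfl | rfl | rfl
      · exact one_mem _
      · exact haV
      · exact hbV
      · exact habV
    have e' : h.act ⟨g, mem_cent.2 hg⟩ = h.act ⟨u, h.K_le u.2⟩ := by rw [e]; exact (h.act_K u.2).symm
    exact ⟨u, huV, h.act_eq_iff.1 e'⟩
  have hwV : ∀ v ∈ V, (w : G) * v * (w : G)⁻¹ ∈ V := by
    intro v hv
    rcases hall v hv with rfl | rfl | rfl | rfl
    · rw [mul_one, mul_inv_cancel]; exact one_mem _
    · rw [hwa']; exact hbV
    · rw [hwb']; exact habV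
    · rw [hwab']; exact haV
  have hfpf : ∀ v ∈ V, (w : G) * v = v * w → v = 1 := by
    intro v hv hc
    have hc' : (w : G) * v * (w : G)⁻¹ = v := by rw [hc, mul_inv_cancel_right]
    rcases hall v hv with rfl | rfl | rfl | rfl
    · rfl
    · exact absurd (hc'.symm.trans hwa') hF.ne
    · exact absurd (right_eq_mul.1 (hc'.symm.trans hwb')) hF.a1
    · exact absurd (mul_eq_left.1 (hc'.symm.trans hwab')) hF.b1
  have hloc : Loc t (w : G) V :=
    { cyc := h.cyc
      t_sq := h.t_sq
      t_ne := h.t_ne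
      elem := hE
      card_V := h4
      h_cube := hw3'
      ht := h.Kt w w.2
      hV := hwV
      fpfV := hfpf
      tV := fun v hv => (h.Kt v (hV hv)).symm
      cent := fun g hg hgv => hstG g hg (hgv a haV) (hgv b hbV)
      not_conj := fun g hg => h.not_conj g (hV hg)
      e16 := fun A hA hc => h.e16 A hA hc
      q8 := fun a b z h1 h2 h3 h4 h5 _ => h.q8 a b z h1 h2 h3 h4 h5 (by assumption) }
  refine ⟨w, w.2, hloc, ?_⟩
  -- an element acting as `δ`
  have hact : ∀ g : ↥(Subgroup.centralizer ({t} : Set G)), h.act g = δ →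
      (∀ v ∈ V, (g : G) * v * (g : G)⁻¹ ∈ V) ∧ (g : G) * w * (g : G)⁻¹ = (w : G)⁻¹ := by
    intro g hg
    have ha : (g : G) * a * (g : G)⁻¹ = b := by
      have := congrArg Subtype.val hδa
      rw [← hg, h.act_apply] at this
      exact this
    have hb : (g : G) * b * (g : G)⁻¹ = a := by
      have := congrArg Subtype.val hδb
      rw [← hg, h.act_apply] at this
      exact this
    refine ⟨?_, ?_⟩
    · intro v hv
      rcases hall v hv with rfl | rfl | rfl | rfl
      · rw [mul_one, mul_inv_cancel]; exact one_mem _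
      · rw [ha]; exact hbV
      · rw [hb]; exact haV
      · have e : (g : G) * (a * b) * (g : G)⁻¹ = (g * a * (g : G)⁻¹) * (g * b * (g : G)⁻¹) := by group
        rw [e, ha, hb]; exact mul_mem hbV haV
    · have := congrArg Subtype.val hδw
      rw [← hg, h.act_apply] at this
      exact this
  by_cases hin : δ ∈ (MulAut.conj : K →* MulAut K).range
  · right; left
    obtain ⟨y, hy⟩ := hin
    have hy2 : y * y = 1 := h.rep.conj_injective (by rw [map_mul, hy, hδδ, map_one])
    obtain ⟨h1, h2⟩ := hact ⟨y, h.K_le y.2⟩ (by rw [h.act_K]; exact hy)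
    exact ⟨y, congrArg Subtype.val hy2, (h.Kt y y.2).symm, h1, h2, fun g hg => h.not_conj g (by rw [hg]; exact y.2)⟩
  by_cases hex : ∃ g : ↥(Subgroup.centralizer ({t} : Set G)), h.act g = δ
  · obtain ⟨g, hg⟩ := hex
    obtain ⟨h1, h2⟩ := hact g hg
    have hgt := mem_cent.1 g.2
    have h3 : (g * g : ↥(Subgroup.centralizer ({t} : Set G))) = 1 ∨
        ((g * g : ↥(Subgroup.centralizer ({t} : Set G))) : G) = t := by
      rcases h.act_eq_one_iff.1 (show h.act (g * g) = 1 by rw [map_mul, hg, hδδ]) with h3 | h3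
      · exact Or.inl (Subtype.ext h3)
      · exact Or.inr h3
    rcases h3 with h3 | h3
    · have h3' : (g : G) * g = 1 := congrArg Subtype.val h3
      have htg : t * (g : G) * (t * g) = 1 := by
        rw [mul_assoc, ← mul_assoc (g : G), hgt, mul_assoc t (g : G), ← mul_assoc t t, h.t_sq, one_mul, h3']
      by_cases hc1 : ∃ x : G, x * t * x⁻¹ = g
      · by_cases hc2 : ∃ x : G, x * t * x⁻¹ = t * g
        · right; right; right
          have hn : ∀ z : ↥(Subgroup.centralizer ({t} : Set G)), h.act z = δ → (z : G) ∉ K := by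
            intro z hz hzK
            apply hin
            rw [← hz]
            exact ⟨⟨z, hzK⟩, (h.act_K hzK).symm⟩
          refine ⟨g, h3', hgt.symm, h1, h2, hc1, hc2, hn g hg, ?_, fun hsq => hin (hδi.2 hsq)⟩
          refine hn (⟨t, mem_cent.2 rfl⟩ * g) ?_
          rw [← hg, h.act_eq_iff]
          exact Or.inr rfl
        · right; left
          refine ⟨t * g, htg, ?_, ?_, ?_, fun x hx => hc2 ⟨x, hx⟩⟩
          · rw [mul_assoc t (g : G), hgt]
          · intro v hv
            have e : t * (g : G) * v * (t * (g : G))⁻¹ = t * (g * v * (g : G)⁻¹) * t⁻¹ := by group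
            have h5 := h.Kt _ (hV (h1 v hv))
            rw [e, ← h5, mul_inv_cancel_right]
            exact h1 v hv
          · have e : t * (g : G) * w * (t * (g : G))⁻¹ = t * (g * w * (g : G)⁻¹) * t⁻¹ := by group
            have h5 := h.Kt _ (inv_mem w.2)
            rw [e, h2, ← h5, mul_inv_cancel_right]
      · right; left
        exact ⟨g, h3', hgt.symm, h1, h2, fun x hx => hc1 ⟨x, hx⟩⟩
    · right; right; left
      exact ⟨g, h3, h1, h2⟩
  · left
    intro g hg hgV hgw
    apply hex
    let γ := h.act ⟨g, mem_cent.2 hg⟩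
    have hγ : ∀ k : K, ((γ k : K) : G) = g * k * g⁻¹ := fun k => rfl
    -- it is enough to find an element of `⟨w⟩ γ` mapping `a` to `b`
    have key : ∀ x : K, x * w = w * x → (MulAut.conj x * γ) ⟨a, haK⟩ = ⟨b, hbK⟩ →
        ∃ g : ↥(Subgroup.centralizer ({t} : Set G)), h.act g = δ := by
      intro x hx hxa
      set β := MulAut.conj x * γ with hβ
      have hβw : β w = w⁻¹ := by
        rw [hβ, MulAut.mul_apply]
        have e1 : γ w = w⁻¹ := Subtype.ext (by rw [hγ, hgw]; rfl)
        rw [e1, MulAut.conj_apply]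
        have e2 : x * w⁻¹ = w⁻¹ * x := by
          rw [mul_inv_eq_iff_eq_mul, mul_assoc, hx, inv_mul_cancel_left]
        rw [e2, mul_inv_cancel_right]
      have hβb : β ⟨b, hbK⟩ = ⟨a, haK⟩ := by
        rw [← hwa, map_mul, map_mul, map_inv, hβw, hxa, inv_inv]
        have : w⁻¹ * ⟨b, hbK⟩ * w = ⟨a, haK⟩ := by rw [← hwa]; group
        exact this
      obtain ⟨u, hu, hue⟩ := hst (δ * β) (by rw [MulAut.mul_apply, hxa, hδb])
        (by rw [MulAut.mul_apply, hβb, hδa])
      have hu1 : u = 1 := by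
        apply fpf_of hF' hwa hwb hu
        have e1 : (δ * β) w = w := by rw [MulAut.mul_apply, hβw, map_inv, hδw, inv_inv]
        rw [hue, MulAut.conj_apply] at e1
        exact (mul_inv_eq_iff_eq_mul.1 e1).symm
      have hβδ : β = δ := by
        have e1 : δ * β = 1 := by rw [hue, hu1, map_one]
        rw [← mul_right_inj δ, e1, hδδ]
      refine ⟨⟨x, h.K_le x.2⟩ * ⟨g, mem_cent.2 hg⟩, ?_⟩
      rw [map_mul, h.act_K x.2]
      exact hβδ
    rcases hall _ (hgV a haV) with h1 | h1 | h1 | h1
    · exfalso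
      apply hF.a1
      have e : a = g⁻¹ * (g * a * g⁻¹) * g := by group
      rw [e, h1]; group
    · refine key w rfl ?_
      apply Subtype.ext
      rw [MulAut.mul_apply, MulAut.conj_apply]
      change (w : G) * (g * a * g⁻¹) * (w : G)⁻¹ = b
      rw [h1, hwa']
    · refine key 1 (by rw [one_mul, mul_one]) ?_
      apply Subtype.ext
      rw [map_one, one_mul]
      exact h1
    · refine key w⁻¹ (by group) ?_
      apply Subtype.ext
      rw [MulAut.mul_apply, MulAut.conj_apply]
      change (w : G)⁻¹ * (g * a * g⁻¹) * ((w : G)⁻¹)⁻¹ = b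
      rw [h1, inv_inv, ← hwb']; group

end Hyp

end Cfsg.Agent.OddCyclic.B2Pgl
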