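import Cfsg.Agent.GH.L2AutSyl
import Cfsg.Agent.OddCyclic.B2Defs

/-!
# S0342, case B2, piece [F]: facts on `PSL(2,p)` and `PGL(2,p)`

* `no_q8` : no quaternion group of order 8 in `PGL(2,F)`;
* `card_elem` : elementary abelian 2-subgroups of `PGL(2,F)` have order at most 4;
* `exists_frame` : a four-group of `L = PSL(2,p)`, its element of order three and the involution of `Aut(L)`
  inverting it.
-/

set_option autoImplicit false

namespace Cfsg.Agent.OddCyclic.B2Pgl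

open Cfsg.Agent.LieExceptional.CITDefs (Elem IsSyl2)
open Cfsg.Agent.GH.L2Aut
open Cfsg.Agent.Lib.SL2Mat Cfsg.Agent.Lib.AutSL2 Cfsg.Agent.Lib.AutSL2Out

/-- a prime field has no automorphism -/
theorem ringEquiv_eq_one {F : Type*} [Field F] [Fintype F] (hp : (Fintype.card F).Prime) (σ : F ≃+* F) :
    σ = 1 := by
  have : NeZero (Fintype.card F) := ⟨hp.ne_zero⟩
  let e := ZMod.ringEquivOfPrime F hp rfl
  ext x
  obtain ⟨y, rfl⟩ := e.surjective x
  have h : e y = ((ZMod.val y : ℕ) : F) := by rw [← map_natCast e, ZMod.natCast_zmod_val]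
  rw [h, map_natCast]
  rfl

section rep

variable {F : Type*} [Field F] [Finite F] {L : Type*} [Group L] (R : GH.L2Aut.Rep F L)

/-- no quaternion group of order 8 in `PGL(2,F)` -/
theorem no_q8 {x y z : MulAut L} (hx : x ∈ R.PGL) (hy : y ∈ R.PGL) (hxx : x * x = z) (hyy : y * y = z)
    (hc : x * y * x⁻¹ * y⁻¹ = z) : z = 1 := by
  by_contra hne
  have hzP : z ∈ R.PGL := by rw [← hxx]; exact mul_mem hx hx
  obtain ⟨g, rfl⟩ := R.mem_PGL.1 hzP
  obtain ⟨h1, rfl⟩ := R.mem_PGL.1 hx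
  obtain ⟨h2, rfl⟩ := R.mem_PGL.1 hy
  have ns := R.not_scalar_of_ne hne
  have comm : ∀ h : GL (Fin 2) F, R.gl h * R.gl h = R.gl g → g.1 * h.1 = h.1 * g.1 := by
    intro h hh
    have hc : R.gl h * R.gl g = R.gl g * R.gl h := by rw [← hh, mul_assoc]
    rcases R.comm_cases hc with h3 | h3
    · exact h3.symm
    · exfalso
      apply hne
      rw [← hh]
      exact R.anticomm_inv h3
  obtain ⟨a, b, hab⟩ := exists_ab ns (comm h1 hxx)
  obtain ⟨c, d, hcd⟩ := exists_ab ns (comm h2 hyy)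
  have h12 : h1 * h2 = h2 * h1 := by
    apply Units.ext
    rw [Units.val_mul, Units.val_mul, hab, hcd]
    simp only [Matrix.add_mul, Matrix.mul_add, Matrix.smul_mul, Matrix.mul_smul, Matrix.one_mul, Matrix.mul_one,
      smul_add, smul_smul]
    rw [mul_comm a c, mul_comm a d, mul_comm b c, mul_comm b d]
    abel
  apply hne
  rw [← hc, ← map_mul, h12, map_mul]
  group

/-- elementary abelian 2-subgroups of `PGL(2,F)` have order at most 4 -/
theorem card_elem {P : Subgroup (MulAut L)} (hP : P ≤ R.PGL) (he : ∀ x ∈ P, x * x = 1) : Nat.card P ≤ 4 := by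
  have := R.finite
  have := R.finite_aut
  have h2 : IsPGroup 2 P := by
    rintro ⟨x, hx⟩
    exact ⟨1, Subtype.ext (by
      change x ^ 2 ^ 1 = 1
      rw [pow_one, sq]; exact he x hx)⟩
  rcases R.pgl_two_group P h2 hP with ⟨c, hc, h⟩ | ⟨c, r, h⟩
  · have h3 : P ≤ Subgroup.zpowers c := h
    have h4 : orderOf c ∣ 2 := by
      rw [orderOf_dvd_iff_pow_eq_one, sq]; exact he c hc
    have h5 := Subgroup.card_le_of_le h3
    rw [Nat.card_zpowers] at h5
    have := Nat.le_of_dvd (by norm_num) h4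
    omega
  · rw [h.card]
    have h4 : orderOf c ∣ 2 := by
      rw [orderOf_dvd_iff_pow_eq_one, sq]; exact he c h.d_mem
    have := Nat.le_of_dvd (by norm_num) h4
    omega

omit [Finite F] in
/-- an element of order three permuting the involutions of a four-group centralises none of them -/
theorem fpf_of {a b w : L} (h : Four a b) (hwa : w * a * w⁻¹ = b) (hwb : w * b * w⁻¹ = a * b) {u : L}
    (hu : u = 1 ∨ u = a ∨ u = b ∨ u = a * b) (hc : w * u = u * w) : u = 1 := by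
  have hc' : w * u * w⁻¹ = u := by rw [hc, mul_inv_cancel_right]
  rcases hu with rfl | rfl | rfl | rfl
  · rfl
  · exact absurd (hc'.symm.trans hwa) h.ne
  · exfalso
    have h1 : u = a * u := hc'.symm.trans hwb
    exact h.a1 (right_eq_mul.1 h1)
  · exfalso
    have h2 : w * (a * b) * w⁻¹ = a := by
      have h3 : w * (a * b) * w⁻¹ = (w * a * w⁻¹) * (w * b * w⁻¹) := by group
      rw [h3, hwa, hwb, h.comm, ← mul_assoc, h.bb, one_mul]
    have h4 : a * b = a := hc'.symm.trans h2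
    exact h.b1 (mul_eq_left.1 h4)

include R in
/-- **The frame of a four-group** of `PSL(2,p)`, with the involution inverting the element of order three. -/
theorem exists_frame (hF : ∀ σ : F ≃+* F, σ = 1) {a b : L} (h : Four a b) :
    ∃ (w : L) (δ : MulAut L), w * w * w = 1 ∧ w ≠ 1 ∧ w * a * w⁻¹ = b ∧ w * b * w⁻¹ = a * b ∧
      δ a = b ∧ δ b = a ∧ δ w = w⁻¹ ∧ δ * δ = 1 ∧ (δ ∈ (MulAut.conj : L →* MulAut L).range ↔ IsSquare (2 : F)) ∧
      (∀ α : MulAut L, α a = a → α b = b → ∃ u : L, (u = 1 ∨ u = a ∨ u = b ∨ u = a * b) ∧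
        α = MulAut.conj u) := by
  obtain ⟨Φ, w, δ, -, -, -, -, hw3, hw1, hwa, hwb, -, hδa, hδb, -, hδi, hall, -⟩ := R.exists_frame h
  have hall' : ∀ α : MulAut L, α a = a → α b = b → ∃ u : L, (u = 1 ∨ u = a ∨ u = b ∨ u = a * b) ∧
      α = MulAut.conj u := by
    intro α ha hb
    obtain ⟨u, hu, e⟩ := hall α ha hb
    refine ⟨u, hu, ?_⟩
    rw [e, hF (R.fld α), map_one, mul_one]
  -- `w⁻¹` on `V`
  have hwb' : w⁻¹ * b * w = a := by rw [← hwa]; group
  have hwab : w⁻¹ * (a * b) * w = b := by rw [← hwb]; group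
  have hwa' : w⁻¹ * a * w = a * b := by
    have e : w⁻¹ * a * w = (w⁻¹ * (a * b) * w) * (w⁻¹ * b * w) := by
      have : w⁻¹ * (a * b) * w * (w⁻¹ * b * w) = w⁻¹ * (a * (b * b)) * w := by group
      rw [this, h.bb, mul_one]
    rw [e, hwab, hwb', h.comm]
  have hδw : ∀ v, δ w * v * (δ w)⁻¹ = δ (w * δ⁻¹ v * w⁻¹) := by
    intro v
    rw [map_mul, map_mul, map_inv, MulAut.apply_inv_self]
  have hδa' : δ⁻¹ a = b := by rw [← hδb, MulAut.inv_apply_self]
  have hδb' : δ⁻¹ b = a := by rw [← hδa, MulAut.inv_apply_self]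
  have k1 : δ w * a * (δ w)⁻¹ = a * b := by
    rw [hδw, hδa', hwb, map_mul, hδa, hδb, h.comm]
  have k2 : δ w * b * (δ w)⁻¹ = a := by
    rw [hδw, hδb', hwa, hδb]
  -- `δ w * w` centralises `V`
  obtain ⟨u, hu, hue⟩ := hall' (MulAut.conj (δ w * w))
    (by
      rw [MulAut.conj_apply, mul_inv_rev]
      have : δ w * w * a * (w⁻¹ * (δ w)⁻¹) = δ w * (w * a * w⁻¹) * (δ w)⁻¹ := by group
      rw [this, hwa, k2])
    (by
      rw [MulAut.conj_apply, mul_inv_rev]
      have : δ w * w * b * (w⁻¹ * (δ w)⁻¹) = δ w * (w * b * w⁻¹) * (δ w)⁻¹ := by group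
      rw [this, hwb]
      have : δ w * (a * b) * (δ w)⁻¹ = (δ w * a * (δ w)⁻¹) * (δ w * b * (δ w)⁻¹) := by group
      rw [this, k1, k2, mul_assoc, ← h.comm, ← mul_assoc, h.aa, one_mul])
  have hu' : δ w * w = u := R.conj_injective hue
  obtain ⟨v, hv, hve⟩ : ∃ v : L, (v = 1 ∨ v = a ∨ v = b ∨ v = a * b) ∧ v * u * (w⁻¹ * v⁻¹ * w) = 1 := by
    have ainv : a⁻¹ = a := inv_eq_of_mul_eq_one_left h.aa
    have binv : b⁻¹ = b := inv_eq_of_mul_eq_one_left h.bb
    have abinv : (a * b)⁻¹ = a * b := inv_eq_of_mul_eq_one_left h.right.bb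
    rcases hu with rfl | rfl | rfl | rfl
    · exact ⟨1, Or.inl rfl, by group⟩
    · refine ⟨u * b, Or.inr (Or.inr (Or.inr rfl)), ?_⟩
      rw [abinv, hwab, mul_assoc, mul_assoc, ← mul_assoc b, ← h.comm, mul_assoc, h.bb, mul_one, h.aa]
    · refine ⟨a, Or.inr (Or.inl rfl), ?_⟩
      rw [ainv, hwa', h.right.bb]
    · refine ⟨b, Or.inr (Or.inr (Or.inl rfl)), ?_⟩
      rw [binv, hwb', ← mul_assoc b, ← h.comm, mul_assoc a, h.bb, mul_one, h.aa]
  have hδ' : (MulAut.conj v * δ) w = w⁻¹ := by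
    rw [MulAut.mul_apply, MulAut.conj_apply, ← mul_inv_eq_iff_eq_mul.2 hu'.symm]
    have e : v * (u * w⁻¹) * v⁻¹ = v * u * (w⁻¹ * v⁻¹ * w) * w⁻¹ := by group
    rw [e, hve, one_mul]
  have hv1 : MulAut.conj v a = a ∧ MulAut.conj v b = b := by
    rcases hv with rfl | rfl | rfl | rfl
    · simp
    · refine ⟨?_, ?_⟩
      · rw [MulAut.conj_apply, mul_inv_cancel_right]
      · rw [MulAut.conj_apply, h.comm, mul_inv_cancel_right]
    · refine ⟨?_, ?_⟩
      · rw [MulAut.conj_apply, ← h.comm, mul_inv_cancel_right]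
      · rw [MulAut.conj_apply, mul_inv_cancel_right]
    · refine ⟨?_, ?_⟩
      · rw [MulAut.conj_apply, ← h.right.comm, mul_inv_cancel_right]
      · rw [MulAut.conj_apply]
        have e : a * b * b = b * (a * b) := by rw [h.comm, mul_assoc, ← h.comm, ← mul_assoc]
        rw [e, mul_inv_cancel_right]
  have ha2 : (MulAut.conj v * δ) a = b := by rw [MulAut.mul_apply, hδa, hv1.2]
  have hb2 : (MulAut.conj v * δ) b = a := by rw [MulAut.mul_apply, hδb, hv1.1]
  refine ⟨w, MulAut.conj v * δ, hw3, hw1, hwa, hwb, ha2, hb2, hδ', ?_, ?_, hall'⟩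
  · obtain ⟨u₂, hu₂, e₂⟩ := hall' (MulAut.conj v * δ * (MulAut.conj v * δ))
      (by rw [MulAut.mul_apply, ha2, hb2]) (by rw [MulAut.mul_apply, hb2, ha2])
    have e₃ : (MulAut.conj v * δ * (MulAut.conj v * δ)) w = w := by
      rw [MulAut.mul_apply, hδ', map_inv, hδ', inv_inv]
    have e₄ : u₂ = 1 := by
      apply fpf_of h hwa hwb hu₂
      rw [e₂, MulAut.conj_apply] at e₃
      exact (mul_inv_eq_iff_eq_mul.1 e₃).symm
    rw [e₂, e₄, map_one]
  · rw [← hδi]
    exact Subgroup.mul_mem_cancel_left _ ⟨v, rfl⟩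

end rep

end Cfsg.Agent.OddCyclic.B2Pgl
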