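import Cfsg.Agent.OddCyclic.B2Start
import Cfsg.Agent.OddCyclic.B2Pgl

/-!
# S0342, case B2: the Sylow 2-subgroup of `C_G(t)` (helper362)

`K ≅ PSL(2,p)` normal in `C_G(t)`, `S` a Sylow 2-subgroup of `C_G(t)` with `C_{KS}(K) = ⟨t⟩` (`SRel`). Trichotomy
`SRel.tri`: `S = ⟨t⟩ × D`, `D` dihedral of order at least eight (`DData`); `S/(S ∩ K)` cyclic of order four (`Cen`);
`S = ⟨t⟩ × (S ∩ K)` elementary abelian of order eight (`EData`).
-/

set_option autoImplicit false

namespace Cfsg.Agent.OddCyclic.B2Syl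

open Subgroup
open Cfsg.Agent.LieExceptional.CITDefs (Elem IsSyl2)
open Cfsg.Agent.LieExceptional.CITBasic
open Cfsg.Agent.GH.L2Aut
open Cfsg.Agent.OddCyclic.B2Defs Cfsg.Agent.OddCyclic.B2Start Cfsg.Agent.OddCyclic.CompStandard

variable {G : Type*} [Group G]

/-- The situation relative to `S`. -/
structure SRel (F : Type*) [Field F] [Fintype F] (t : G) (K S : Subgroup G) : Prop where
  prime : (Fintype.card F).Prime
  odd : Odd (Fintype.card F)
  iso : Nonempty (K ≃* Matrix.ProjectiveSpecialLinearGroup (Fin 2) F)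
  t_sq : t * t = 1
  t_ne : t ≠ 1
  Kt : ∀ k ∈ K, k * t = t * k
  norm : ∀ g : G, g * t = t * g → ∀ k ∈ K, g * k * g⁻¹ ∈ K
  cent : ∀ g ∈ K ⊔ S, (∀ k ∈ K, g * k = k * g) → g = 1 ∨ g = t
  syl : IsSyl2 (Subgroup.centralizer ({t} : Set G)) S

namespace SRel

variable {F : Type*} [Field F] [Fintype F] {t : G} {K S : Subgroup G} (h : SRel F t K S)

/-- the representation of `K` -/
noncomputable def rep : GH.L2Aut.Rep F K := GH.L2Aut.Rep.ofEquiv (two_ne_zero_of_odd h.odd) h.iso.some

theorem mem_PGL (α : MulAut K) : α ∈ h.rep.PGL := by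
  rw [Rep.mem_PGL_iff_fld]
  exact B2Pgl.ringEquiv_eq_one h.prime _

include h in
theorem center {k : G} (hk : k ∈ K) (hc : ∀ l ∈ K, k * l = l * k) : k = 1 := by
  have h1 : (⟨k, hk⟩ : K) ∈ Subgroup.center K := by
    rw [Subgroup.mem_center_iff]
    intro l
    exact Subtype.ext (hc l l.2).symm
  rw [h.rep.center_eq_bot, Subgroup.mem_bot] at h1
  exact congrArg Subtype.val h1

include h in
theorem t_notin : t ∉ K := fun hc => h.t_ne (h.center hc fun l hl => (h.Kt l hl).symm)

include h in
theorem St {s : G} (hs : s ∈ S) : s * t = t * s := mem_centralizer_singleton_iff.mp (h.syl.le hs)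

include h in
theorem t_ord : orderOf t = 2 := orderOf_eq_prime (by rw [pow_two]; exact h.t_sq) h.t_ne

include h in
theorem t_mem : t ∈ S := by
  have h1 : IsPGroup 2 (S ⊔ zpowers t : Subgroup G) := by
    refine h.syl.two.to_sup_of_normal_right' (isPGroup_zpowers h.t_ord) ?_
    intro q hq
    refine centralizer_le_normalizer _ ?_
    rw [mem_centralizer_iff]
    rintro _ ⟨k, rfl⟩
    exact ((show Commute q t from h.St hq).zpow_right k).symm.eq
  have h2 := h.syl.max (S ⊔ zpowers t) (sup_le h.syl.le (zpowers_le.mpr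
    (mem_centralizer_singleton_iff.mpr rfl))) h1 le_sup_left
  rw [← h2]
  exact mem_sup_right (mem_zpowers t)

include h in
theorem normS {s : G} (hs : s ∈ S) {k : G} (hk : k ∈ K) : s * k * s⁻¹ ∈ K := h.norm s (h.St hs) k hk

/-- conjugation of `S` on `K` -/
noncomputable def act : S →* MulAut K where
  toFun g :=
    { toFun := fun k => ⟨g * k * (g : G)⁻¹, h.normS g.2 k.2⟩
      invFun := fun k => ⟨(g : G)⁻¹ * k * g, by
        have := h.normS (S.inv_mem g.2) k.2
        rwa [inv_inv] at this⟩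
      left_inv := fun k => Subtype.ext (by simp only []; group)
      right_inv := fun k => Subtype.ext (by simp only []; group)
      map_mul' := fun k l => Subtype.ext (by simp only [Subgroup.coe_mul]; group) }
  map_one' := by
    ext k
    change (1 : G) * k * (1 : G)⁻¹ = k
    group
  map_mul' g g' := by
    ext k
    change ((g * g' : G)) * k * (g * g' : G)⁻¹ = g * (g' * k * (g' : G)⁻¹) * (g : G)⁻¹
    group

theorem act_apply (g : S) (k : K) : (h.act g k : G) = g * k * (g : G)⁻¹ := rfl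

theorem act_eq_one {g : S} (hg : h.act g = 1) : (g : G) = 1 ∨ (g : G) = t := by
  refine h.cent g (mem_sup_right g.2) ?_
  intro k hk
  have h2 := congrArg (fun f : MulAut K => ((f ⟨k, hk⟩ : K) : G)) hg
  have h3 : (g : G) * k * (g : G)⁻¹ = k := h2
  exact mul_inv_eq_iff_eq_mul.1 h3

theorem act_eq {g g' : S} (hg : h.act g = h.act g') : (g : G) = g' ∨ (g : G) = t * g' := by
  have h1 : h.act (g * g'⁻¹) = 1 := by rw [map_mul, map_inv, mul_inv_eq_one, hg]
  rcases h.act_eq_one h1 with h2 | h2
  · left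
    rwa [Subgroup.coe_mul, Subgroup.coe_inv, mul_inv_eq_one] at h2
  · right
    rwa [Subgroup.coe_mul, Subgroup.coe_inv, mul_inv_eq_iff_eq_mul] at h2

theorem act_K {k : G} (hk : k ∈ K) (hkS : k ∈ S) : h.act ⟨k, hkS⟩ = MulAut.conj ⟨k, hk⟩ := by
  ext l
  rw [h.act_apply, MulAut.conj_apply]
  rfl

theorem act_t : h.act ⟨t, h.t_mem⟩ = 1 := by
  ext l
  rw [h.act_apply, MulAut.one_apply]
  show t * (l : G) * t⁻¹ = l
  rw [← h.Kt l l.2, mul_inv_cancel_right]

/-- an element acting as an inner automorphism -/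
theorem inner {g : S} (hg : h.act g ∈ (MulAut.conj : K →* MulAut K).range) :
    (g : G) ∈ K ∨ t * (g : G) ∈ K := by
  obtain ⟨k, hk⟩ := hg
  have h1 : (g : G) * (k : G)⁻¹ ∈ K ⊔ S := Subgroup.mul_mem _ (mem_sup_right g.2)
    (mem_sup_left (K.inv_mem k.2))
  have h2 : ∀ l ∈ K, (g : G) * (k : G)⁻¹ * l = l * ((g : G) * (k : G)⁻¹) := by
    intro l hl
    have h3 := congrArg (fun f : MulAut K => ((f (k⁻¹ * ⟨l, hl⟩ * k) : K) : G)) hk
    have h4 : (k : G) * ((k : G)⁻¹ * l * k) * (k : G)⁻¹ = g * ((k : G)⁻¹ * l * k) * (g : G)⁻¹ := h3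
    have h5 : l = g * ((k : G)⁻¹ * l * k) * (g : G)⁻¹ := by rw [← h4]; group
    calc (g : G) * (k : G)⁻¹ * l = (g * ((k : G)⁻¹ * l * k) * (g : G)⁻¹) * (g * (k : G)⁻¹) := by group
      _ = _ := by rw [← h5]
  rcases h.cent _ h1 h2 with h3 | h3
  · left
    rw [mul_inv_eq_one] at h3
    rw [h3]; exact k.2
  · right
    rw [mul_inv_eq_iff_eq_mul] at h3
    rw [h3, ← mul_assoc, h.t_sq, one_mul]; exact k.2

/-- the Sylow 2-subgroup of `K` -/
noncomputable def sylK [Finite G] : Sylow 2 K :=
  IsSyl2.toSylow (isSyl2_inf h.syl (fun k hk => mem_centralizer_singleton_iff.mpr (h.Kt k hk))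
    (fun g hg k hk => h.norm g (mem_centralizer_singleton_iff.mp hg) k hk))

theorem mem_sylK [Finite G] {k : K} : k ∈ h.sylK ↔ (k : G) ∈ S := by
  change k ∈ (S ⊓ K).subgroupOf K ↔ _
  rw [Subgroup.mem_subgroupOf, Subgroup.mem_inf]
  exact ⟨fun h => h.1, fun h => ⟨h, k.2⟩⟩

include h in
/-- construction of `DData` -/
theorem dData_of {c b : G} {n : ℕ} (hn : 3 ≤ n) (hc : orderOf c = 2 ^ (n - 1)) (hb : b * b = 1)
    (hb1 : b ≠ 1) (hbc : b * c * b⁻¹ = c⁻¹) (hbn : ∀ k : ℕ, b ≠ c ^ k) (hcS : c ∈ S) (hbS : b ∈ S)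
    (ht : ∀ k : ℕ, t ≠ c ^ k ∧ t ≠ c ^ k * b)
    (hcov : ∀ s ∈ S, ∃ k : ℕ, s = c ^ k ∨ s = c ^ k * b ∨ s = t * c ^ k ∨ s = t * (c ^ k * b)) :
    ∃ D, DData t c b n S D := by
  have hcm : c ^ 2 ^ (n - 1) = 1 := by rw [← hc, pow_orderOf_eq_one]
  refine ⟨dih c b (2 ^ (n - 1)) hcm (by positivity) hb hbc, ?_⟩
  exact
    { t_sq := h.t_sq
      t_ne := h.t_ne
      n_ge := hn
      c_ord := hc
      b_sq := hb
      b_ne := hb1
      bc := hbc
      D_eq := fun g => Iff.rfl
      b_notin := hbn
      tD := by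
        rintro _ ⟨k, rfl | rfl⟩
        · exact (h.St (S.pow_mem hcS k)).symm
        · exact (h.St (S.mul_mem (S.pow_mem hcS k) hbS)).symm
      t_notin := by
        rintro ⟨k, hk | hk⟩
        · exact (ht k).1 hk
        · exact (ht k).2 hk
      S_eq := by
        intro g
        constructor
        · intro hg
          obtain ⟨k, hk | hk | hk | hk⟩ := hcov g hg
          · exact ⟨_, ⟨k, Or.inl rfl⟩, Or.inl hk⟩
          · exact ⟨_, ⟨k, Or.inr rfl⟩, Or.inl hk⟩
          · exact ⟨_, ⟨k, Or.inl rfl⟩, Or.inr hk⟩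
          · exact ⟨_, ⟨k, Or.inr rfl⟩, Or.inr hk⟩
        · rintro ⟨d, ⟨k, rfl | rfl⟩, rfl | rfl⟩
          · exact S.pow_mem hcS k
          · exact S.mul_mem h.t_mem (S.pow_mem hcS k)
          · exact S.mul_mem (S.pow_mem hcS k) hbS
          · exact S.mul_mem h.t_mem (S.mul_mem (S.pow_mem hcS k) hbS)
      syl := h.syl }

theorem exists_nat_pow {L : Type*} [Group L] [Finite L] {x d : L} (hx : x ∈ Subgroup.zpowers d) :
    ∃ k : ℕ, x = d ^ k := by
  rw [← mem_powers_iff_mem_zpowers] at hx
  obtain ⟨k, hk⟩ := hx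
  exact ⟨k, hk.symm⟩

/-- the image of `S` in `Aut(K)` -/
noncomputable def img : Subgroup (MulAut K) := h.act.range

theorem img_two : IsPGroup 2 h.img := by
  have h1 : IsPGroup 2 (⊤ : Subgroup S) := h.syl.two.to_subgroup ⊤
  have h2 := h1.map h.act
  rwa [← MonoidHom.range_eq_map] at h2

theorem img_le : h.img ≤ h.rep.PGL := fun α _ => h.mem_PGL α

theorem conj_le [Finite G] : (h.sylK : Subgroup K).map MulAut.conj ≤ h.img := by
  rintro _ ⟨k, hk, rfl⟩
  have hkS : (k : G) ∈ S := h.mem_sylK.mp hk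
  exact ⟨⟨k, hkS⟩, h.act_K k.2 hkS⟩

include h in
/-- all involutions of `K` are conjugate in `K` -/
theorem inv_conj {x y : G} (hx : x ∈ K) (hy : y ∈ K) (hxx : x * x = 1) (hx1 : x ≠ 1) (hyy : y * y = 1)
    (hy1 : y ≠ 1) : ∃ g ∈ K, g * x * g⁻¹ = y := by
  obtain ⟨g, hg⟩ := h.rep.inv_conj (s := ⟨x, hx⟩) (t := ⟨y, hy⟩) (Subtype.ext hxx)
    (fun hc => hx1 (congrArg Subtype.val hc)) (Subtype.ext hyy)
    (fun hc => hy1 (congrArg Subtype.val hc))
  exact ⟨g, g.2, congrArg Subtype.val hg⟩

/-- types (I) and (II) -/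
def AltD (t : G) (K S : Subgroup G) : Prop :=
  ∃ (c b : G) (n : ℕ) (D : Subgroup G), DData t c b n S D ∧ b ∈ K ∧ DData.z c n ∈ K

/-- type (III) -/
def AltZ (t : G) (K S : Subgroup G) : Prop :=
  ∃ z : G, Cen t z S (S ⊓ K) ∧ ∃ y ∈ S, t * (y * y) ∈ K ∧ ∀ x ∈ S, ∃ k : ℕ, x * y ^ k ∈ S ⊓ K

/-- type (I, d = 2) -/
def AltE (t : G) (K S : Subgroup G) : Prop :=
  ∃ w ∈ K, EData t w (S ⊓ K) S

theorem inner_case [Finite G] (hin : h.img ≤ (MulAut.conj : K →* MulAut K).range) :
    AltD t K S ∨ AltE t K S := by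
  have hin' : ∀ s ∈ S, s ∈ K ∨ t * s ∈ K := fun s hs => h.inner (g := ⟨s, hs⟩) (hin ⟨⟨s, hs⟩, rfl⟩)
  obtain ⟨d, r, hd⟩ := h.rep.exists_dih h.sylK
  obtain ⟨m, hm, -, -⟩ := hd.exists_z h.sylK.2
  have hdS : (d : G) ∈ S := h.mem_sylK.mp hd.d_mem
  have hrS : (r : G) ∈ S := h.mem_sylK.mp hd.r_mem
  rcases Nat.eq_zero_or_pos m with rfl | hpos
  · -- four-group
    right
    have hcard : Nat.card (S ⊓ K : Subgroup G) = 4 := by
      have h1 := hd.card
      rw [hm] at h1
      have h2 : Nat.card (h.sylK : Subgroup K) = Nat.card (S ⊓ K : Subgroup G) := by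
        change Nat.card ((S ⊓ K).subgroupOf K) = _
        exact Nat.card_congr (Subgroup.subgroupOfEquivOfLe inf_le_right).toEquiv
      rw [← h2, h1]; norm_num
    obtain ⟨a, b, ha, hb, hab⟩ := h.rep.exists_four_mem h.sylK
    obtain ⟨w, -, hw3, hw1, hwa, hwb, -⟩ := B2Pgl.exists_frame h.rep
      (B2Pgl.ringEquiv_eq_one h.prime) hab
    have haS : (a : G) ∈ S := h.mem_sylK.mp ha
    have hbS : (b : G) ∈ S := h.mem_sylK.mp hb
    have hV : ∀ v : G, v ∈ S ⊓ K → v = 1 ∨ v = a ∨ v = b ∨ v = a * b := by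
      intro v hv
      by_contra hcon
      push Not at hcon
      obtain ⟨c1, c2, c3, c4⟩ := hcon
      have hle : hab.sub.map K.subtype ≤ S ⊓ K := by
        rintro _ ⟨x, hx, rfl⟩
        refine ⟨?_, x.2⟩
        rcases hx with rfl | rfl | rfl | rfl
        · exact S.one_mem
        · exact haS
        · exact hbS
        · exact S.mul_mem haS hbS
      have h3 := DData.two_mul_card_le hle hv (by
        rintro ⟨x, hx, hxv⟩
        have hxv' : (x : G) = v := hxv
        rcases hx with rfl | rfl | rfl | rfl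
        · exact c1 hxv'.symm
        · exact c2 hxv'.symm
        · exact c3 hxv'.symm
        · exact c4 hxv'.symm)
      rw [hcard, Subgroup.card_map_of_injective K.subtype_injective] at h3
      -- `hab.sub` has order at least three
      have h4 : Nat.card (hab.sub) ≤ 2 := by omega
      have h5 : Nat.card (Subgroup.zpowers a) = 2 := by
        rw [Nat.card_zpowers]
        exact orderOf_eq_prime (by rw [pow_two]; exact hab.aa) hab.a1
      have h6 := DData.two_mul_card_le (H := Subgroup.zpowers a) (K := hab.sub) (by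
        rw [zpowers_le]; exact Or.inr (Or.inl rfl)) (x := b) (Or.inr (Or.inr (Or.inl rfl))) (by
        intro hc
        obtain ⟨k, hk⟩ := mem_zpowers_iff.mp hc
        have ha2 : a ^ (2 : ℤ) = 1 := by rw [zpow_ofNat, pow_two, hab.aa]
        rcases Int.even_or_odd' k with ⟨j, rfl | rfl⟩
        · rw [zpow_mul, ha2, one_zpow] at hk
          exact hab.b1 hk.symm
        · rw [zpow_add, zpow_mul, ha2, one_zpow, one_mul, zpow_one] at hk
          exact hab.ne hk)
      omega
    have hVt : ∀ v ∈ S ⊓ K, t * v = v * t := fun v hv => (h.Kt v hv.2).symm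
    refine ⟨w, w.2, ?_⟩
    exact
      { t_sq := h.t_sq
        t_notin := fun hc => h.t_notin hc.2
        elem := by
          intro v hv
          rcases hV v hv with rfl | rfl | rfl | rfl
          · exact one_mul 1
          · exact congrArg Subtype.val hab.aa
          · exact congrArg Subtype.val hab.bb
          · exact congrArg Subtype.val hab.right.bb
        card_V := hcard
        h_cube := congrArg Subtype.val hw3
        ht := h.Kt w w.2
        hV := by
          intro v hv
          refine ⟨?_, K.mul_mem (K.mul_mem w.2 hv.2) (K.inv_mem w.2)⟩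
          rcases hV v hv with rfl | rfl | rfl | rfl
          · simp only [mul_one, mul_inv_cancel]; exact S.one_mem
          · rw [show (w : G) * a * (w : G)⁻¹ = b from congrArg Subtype.val hwa]; exact hbS
          · rw [show (w : G) * b * (w : G)⁻¹ = a * b from congrArg Subtype.val hwb]
            exact S.mul_mem haS hbS
          · have e : (w : G) * (a * b) * (w : G)⁻¹ = (w * a * (w : G)⁻¹) * (w * b * (w : G)⁻¹) := by
              group
            rw [e, show (w : G) * a * (w : G)⁻¹ = b from congrArg Subtype.val hwa,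
              show (w : G) * b * (w : G)⁻¹ = a * b from congrArg Subtype.val hwb]
            exact S.mul_mem hbS (S.mul_mem haS hbS)
        fpfV := by
          intro v hv hc
          have h1 := B2Pgl.fpf_of hab hwa hwb (u := ⟨v, hv.2⟩) (by
            rcases hV v hv with h2 | h2 | h2 | h2
            · exact Or.inl (Subtype.ext h2)
            · exact Or.inr (Or.inl (Subtype.ext h2))
            · exact Or.inr (Or.inr (Or.inl (Subtype.ext h2)))
            · exact Or.inr (Or.inr (Or.inr (Subtype.ext h2)))) (Subtype.ext hc)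
          exact congrArg Subtype.val h1
        tV := hVt
        S_eq := by
          intro g
          constructor
          · intro hg
            rcases hin' g hg with h1 | h1
            · exact ⟨g, ⟨hg, h1⟩, Or.inl rfl⟩
            · exact ⟨t * g, ⟨S.mul_mem h.t_mem hg, h1⟩, Or.inr (by rw [← mul_assoc, h.t_sq, one_mul])⟩
          · rintro ⟨v, hv, rfl | rfl⟩
            · exact hv.1
            · exact S.mul_mem h.t_mem hv.1
        syl := h.syl }
  · -- dihedral of order at least eight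
    left
    have hd' : orderOf (d : G) = 2 ^ (m + 1) := by rw [Subgroup.orderOf_coe, hm]
    obtain ⟨D, hD⟩ := h.dData_of (c := d) (b := r) (n := m + 2) (by omega) (by simpa using hd')
      (congrArg Subtype.val hd.rr) (fun hc => hd.r1 (Subtype.ext hc)) (congrArg Subtype.val hd.rd)
      (fun k hk => hd.r_not (by
        rw [show r = d ^ k from Subtype.ext hk]
        exact pow_mem (mem_zpowers d) k)) hdS hrS
      (fun k => ⟨fun hc => h.t_notin (hc ▸ K.pow_mem d.2 k),
        fun hc => h.t_notin (hc ▸ K.mul_mem (K.pow_mem d.2 k) r.2)⟩) (by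
        have key : ∀ x : G, x ∈ S → x ∈ K → ∃ k : ℕ, x = d ^ k ∨ x = d ^ k * r := by
          intro x hxS hxK
          rcases hd.cov ⟨x, hxK⟩ (h.mem_sylK.mpr hxS) with h1 | ⟨k, h1⟩
          · obtain ⟨k, hk⟩ := exists_nat_pow h1
            exact ⟨k, Or.inl (congrArg Subtype.val hk)⟩
          · obtain ⟨j, hj⟩ := exists_nat_pow (zpow_mem (mem_zpowers d) k)
            rw [hj] at h1
            exact ⟨j, Or.inr (congrArg Subtype.val h1)⟩
        intro s hs
        rcases hin' s hs with h1 | h1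
        · obtain ⟨k, hk | hk⟩ := key s hs h1
          · exact ⟨k, Or.inl hk⟩
          · exact ⟨k, Or.inr (Or.inl hk)⟩
        · have h2 : s = t * (t * s) := by rw [← mul_assoc, h.t_sq, one_mul]
          obtain ⟨k, hk | hk⟩ := key _ (S.mul_mem h.t_mem hs) h1
          · exact ⟨k, Or.inr (Or.inr (Or.inl (by rw [← hk]; exact h2)))⟩
          · exact ⟨k, Or.inr (Or.inr (Or.inr (by rw [← hk]; exact h2)))⟩)
    exact ⟨d, r, m + 2, D, hD, r.2, K.pow_mem d.2 _⟩

theorem comm_mem {N : Subgroup G} {y x x' : G} (hy : ∀ i : ℤ, ∀ k ∈ N, y ^ i * k * (y ^ i)⁻¹ ∈ N)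
    (hx : x ∈ N) (hx' : x' ∈ N) (i j : ℤ) :
    (x * y ^ i) * (x' * y ^ j) * (x * y ^ i)⁻¹ * (x' * y ^ j)⁻¹ ∈ N := by
  have e : (x * y ^ i) * (x' * y ^ j) * (x * y ^ i)⁻¹ * (x' * y ^ j)⁻¹ =
      x * (y ^ i * x' * (y ^ i)⁻¹) * (y ^ j * x⁻¹ * (y ^ j)⁻¹) * x'⁻¹ := by
    have e1 : y ^ i * y ^ j * (y ^ i)⁻¹ = y ^ j := by
      rw [← zpow_add, add_comm, zpow_add, mul_inv_cancel_right]
    calc (x * y ^ i) * (x' * y ^ j) * (x * y ^ i)⁻¹ * (x' * y ^ j)⁻¹
        = x * (y ^ i * x' * (y ^ i)⁻¹) * (y ^ i * y ^ j * (y ^ i)⁻¹) * x⁻¹ * (y ^ j)⁻¹ * x'⁻¹ := by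
          simp only [mul_inv_rev, mul_assoc, inv_mul_cancel_left]
      _ = _ := by rw [e1]; simp only [mul_assoc]
  rw [e]
  exact N.mul_mem (N.mul_mem (N.mul_mem hx (hy i x' hx')) (hy j _ (N.inv_mem hx))) (N.inv_mem hx')

theorem outer_case [Finite G] (hout : ¬ h.img ≤ (MulAut.conj : K →* MulAut K).range) :
    AltD t K S ∨ AltZ t K S := by
  have hfin := h.rep.finite_aut
  obtain ⟨c, d, r, hcc, hcI, hd, hP⟩ := h.rep.dih_plus h.sylK h.img_two h.img_le h.conj_le hout
  obtain ⟨m, hm, hm1, hm2⟩ := hd.exists_z h.sylK.2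
  have hdS : (d : G) ∈ S := h.mem_sylK.mp hd.d_mem
  have hrS : (r : G) ∈ S := h.mem_sylK.mp hd.r_mem
  obtain ⟨y, hyc⟩ := hP.d_mem
  have hact_r : h.act ⟨r, hrS⟩ = MulAut.conj r := h.act_K r.2 hrS
  have hact_d : h.act ⟨d, hdS⟩ = MulAut.conj d := h.act_K d.2 hdS
  have hyt : (y : G) * t = t * y := h.St y.2
  have hyI : ∀ j : ℕ, (y : G) ^ (2 * j + 1) ∉ K := by
    intro j hj
    have h1 : h.act (y ^ (2 * j + 1)) ∈ (MulAut.conj : K →* MulAut K).range :=
      ⟨⟨_, hj⟩, (h.act_K hj (y ^ (2 * j + 1)).2).symm⟩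
    apply hcI
    rw [map_pow, hyc, pow_succ, pow_mul, pow_two, hcc, ← map_pow] at h1
    have h2 := (Subgroup.mul_mem_cancel_left (MulAut.conj : K →* MulAut K).range
      (x := MulAut.conj (d ^ j)) ⟨_, rfl⟩ (y := c)).mp h1
    exact h2
  have htK : ∀ k : G, t * k ∈ K → k ∉ K := fun k h1 h2 => h.t_notin (by
    have := K.mul_mem h1 (K.inv_mem h2)
    rwa [mul_inv_cancel_right] at this)
  -- odd powers of `y` times `t` are not in `K` either
  have hyI' : ∀ j : ℕ, t * (y : G) ^ (2 * j + 1) ∉ K := by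
    intro j hj
    have h1 : h.act (⟨t, h.t_mem⟩ * y ^ (2 * j + 1)) ∈ (MulAut.conj : K →* MulAut K).range :=
      ⟨⟨_, hj⟩, (h.act_K hj (⟨t, h.t_mem⟩ * y ^ (2 * j + 1) : S).2).symm⟩
    apply hcI
    rw [map_mul, h.act_t, one_mul, map_pow, hyc, pow_succ, pow_mul, pow_two, hcc, ← map_pow] at h1
    exact (Subgroup.mul_mem_cancel_left (MulAut.conj : K →* MulAut K).range
      (x := MulAut.conj (d ^ j)) ⟨_, rfl⟩ (y := c)).mp h1
  -- `y² = d` or `y² = td`
  have hyy : (y : G) * y = d ∨ (y : G) * y = t * d := by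
    have h1 : h.act (y * y) = h.act ⟨d, hdS⟩ := by rw [map_mul, hyc, hcc, hact_d]
    exact h.act_eq h1
  -- `r y r⁻¹ = y⁻¹` or `t y⁻¹`
  have hry : (r : G) * y * (r : G)⁻¹ = (y : G)⁻¹ ∨ (r : G) * y * (r : G)⁻¹ = t * (y : G)⁻¹ := by
    have h1 : h.act (⟨r, hrS⟩ * y * (⟨r, hrS⟩ : S)⁻¹) = h.act y⁻¹ := by
      rw [map_mul, map_mul, map_inv, map_inv, hyc, hact_r, hP.rd]
    exact h.act_eq h1
  have hcomK : (r : G) * y * (r : G)⁻¹ * (y : G)⁻¹ ∈ K := by
    have h1 : (r : G) * y * (r : G)⁻¹ * (y : G)⁻¹ = r * (y * (r : G)⁻¹ * (y : G)⁻¹) := by group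
    rw [h1]
    exact K.mul_mem r.2 (h.normS y.2 (K.inv_mem r.2))
  -- coverage
  have hcov : ∀ s ∈ S, ∃ k : ℕ, s = (y : G) ^ k ∨ s = (y : G) ^ k * r ∨ s = t * (y : G) ^ k ∨
      s = t * ((y : G) ^ k * r) := by
    intro s hs
    rcases hP.cov (h.act ⟨s, hs⟩) ⟨_, rfl⟩ with h1 | ⟨k, h1⟩
    · obtain ⟨k, hk⟩ := exists_nat_pow h1
      have h2 : h.act ⟨s, hs⟩ = h.act (y ^ k) := by rw [hk, map_pow, hyc]
      rcases h.act_eq h2 with h3 | h3
      · exact ⟨k, Or.inl h3⟩
      · exact ⟨k, Or.inr (Or.inr (Or.inl h3))⟩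
    · obtain ⟨j, hj⟩ := exists_nat_pow (zpow_mem (mem_zpowers c) k)
      have h2 : h.act ⟨s, hs⟩ = h.act (y ^ j * ⟨r, hrS⟩) := by
        rw [h1, hj, map_mul, map_pow, hyc, hact_r]
      rcases h.act_eq h2 with h3 | h3
      · exact ⟨j, Or.inr (Or.inl h3)⟩
      · exact ⟨j, Or.inr (Or.inr (Or.inr h3))⟩
  have hdd : orderOf (d : G) = 2 ^ (m + 1) := by rw [Subgroup.orderOf_coe, hm]
  rcases hyy with hyd | hyd
  · -- type (II)
    left
    have hry' : (r : G) * y * (r : G)⁻¹ = (y : G)⁻¹ := by
      rcases hry with h1 | h1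
      · exact h1
      · exfalso
        rw [h1] at hcomK
        have h2 : t * (y : G)⁻¹ * (y : G)⁻¹ = t * (d : G)⁻¹ := by rw [← hyd]; group
        rw [h2] at hcomK
        exact htK _ hcomK (K.inv_mem d.2)
    have hy2 : ∀ j : ℕ, (y : G) ^ (2 * j) = (d : G) ^ j := by
      intro j; rw [pow_mul, pow_two, hyd]
    have hord : orderOf (y : G) = 2 ^ (m + 3 - 1) := by
      apply Nat.dvd_antisymm
      · apply orderOf_dvd_of_pow_eq_one
        rw [show m + 3 - 1 = m + 1 + 1 by omega, pow_succ', hy2, ← hdd, pow_orderOf_eq_one]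
      · rw [show m + 3 - 1 = m + 1 + 1 by omega, pow_succ']
        rcases Nat.even_or_odd' (orderOf (y : G)) with ⟨j, hj | hj⟩
        · rw [hj]
          refine Nat.mul_dvd_mul_left 2 ?_
          rw [← hdd]
          apply orderOf_dvd_of_pow_eq_one
          rw [← hy2, ← hj, pow_orderOf_eq_one]
        · exfalso
          apply hyI j
          rw [← hj, pow_orderOf_eq_one]
          exact K.one_mem
    obtain ⟨D, hD⟩ := h.dData_of (c := y) (b := r) (n := m + 3) (by omega) hord
      (congrArg Subtype.val hd.rr) (fun hc => hd.r1 (Subtype.ext hc)) hry'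
      (fun k hk => by
        rcases Nat.even_or_odd' k with ⟨j, rfl | rfl⟩
        · rw [hy2] at hk
          exact hd.r_not (by
            rw [show r = d ^ j from Subtype.ext hk]
            exact pow_mem (mem_zpowers d) j)
        · exact hyI j (hk ▸ r.2)) y.2 hrS
      (fun k => by
        rcases Nat.even_or_odd' k with ⟨j, rfl | rfl⟩
        · rw [hy2]
          exact ⟨fun hc => h.t_notin (hc ▸ K.pow_mem d.2 j),
            fun hc => h.t_notin (hc ▸ K.mul_mem (K.pow_mem d.2 j) r.2)⟩
        · refine ⟨fun hc => ?_, fun hc => ?_⟩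
          · apply hyI' j
            rw [← hc, h.t_sq]; exact K.one_mem
          · apply hyI' j
            have h1 : t * (y : G) ^ (2 * j + 1) = (r : G)⁻¹ := by
              have h2 : (y : G) ^ (2 * j + 1) = t * (r : G)⁻¹ := by rw [hc, mul_inv_cancel_right]
              rw [h2, ← mul_assoc, h.t_sq, one_mul]
            rw [h1]; exact K.inv_mem r.2) hcov
    refine ⟨y, r, m + 3, D, hD, r.2, ?_⟩
    show (y : G) ^ 2 ^ (m + 3 - 2) ∈ K
    rw [show m + 3 - 2 = m + 1 by omega, pow_succ', hy2]
    exact K.pow_mem d.2 _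
  · -- type (III)
    right
    have hry' : (r : G) * y * (r : G)⁻¹ = t * (y : G)⁻¹ := by
      rcases hry with h1 | h1
      · exfalso
        rw [h1] at hcomK
        have h2 : (y : G)⁻¹ * (y : G)⁻¹ = (t * d : G)⁻¹ := by rw [← hyd]; group
        rw [h2] at hcomK
        have h3 := K.inv_mem hcomK
        rw [inv_inv] at h3
        exact htK _ h3 d.2
      · exact h1
    have tinv : t⁻¹ = t := inv_eq_of_mul_eq_one_left h.t_sq
    have tcd : Commute t (d : G) := (h.Kt d d.2).symm
    have tcy : Commute t (y : G) := hyt.symm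
    have t2 : ∀ j : ℕ, t ^ (2 * j) = 1 := fun j => by rw [pow_mul, pow_two, h.t_sq, one_pow]
    -- commutators of powers of `y` with `r`
    have hcom : ∀ j : ℕ, (y : G) ^ j * r * ((y : G) ^ j)⁻¹ * (r : G)⁻¹ = (d : G) ^ j := by
      intro j
      have h1 : (r : G) * (y : G)⁻¹ * (r : G)⁻¹ = t * y := by
        have := congrArg (·⁻¹) hry'
        simp only [mul_inv_rev, inv_inv] at this
        rw [tinv] at this
        rw [← tcy.eq] at this
        rw [← this]; group
      have h2 : (r : G) * ((y : G) ^ j)⁻¹ * (r : G)⁻¹ = (t * y) ^ j := by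
        rw [← inv_pow, ← conj_pow, h1]
      calc (y : G) ^ j * r * ((y : G) ^ j)⁻¹ * (r : G)⁻¹
          = (y : G) ^ j * (r * ((y : G) ^ j)⁻¹ * (r : G)⁻¹) := by group
        _ = ((y : G) * (t * y)) ^ j := by
          rw [h2, (show Commute (y : G) (t * y) from (tcy.symm).mul_right (Commute.refl _)).mul_pow]
        _ = (d : G) ^ j := by
          have h3 : (y : G) * (t * y) = d := by
            calc (y : G) * (t * y) = (y * t) * y := by group
              _ = t * (y * y) := by rw [hyt]; group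
              _ = d := by rw [hyd, ← mul_assoc, h.t_sq, one_mul]
          rw [h3]
    set z : G := (d : G) ^ 2 ^ m with hz
    have hzK : z ∈ K := K.pow_mem d.2 _
    have hzS : z ∈ S := S.pow_mem hdS _
    -- `x y^k ∈ K` covers `S`
    have hyo : ∃ N : ℕ, 0 < N ∧ (y : G) ^ N = 1 := ⟨orderOf (y : G), orderOf_pos _, pow_orderOf_eq_one _⟩
    have ht_y : (t : G) = (y : G) ^ 2 * (d : G)⁻¹ := by
      rw [pow_two, hyd, mul_inv_cancel_right]
    have hquot : ∀ x ∈ S, ∃ i : ℤ, ∃ k ∈ K, x = k * (y : G) ^ i := by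
      intro x hx
      have hn : ∀ (k : ℕ) (l : G), l ∈ K → (y : G) ^ k * l * ((y : G) ^ k)⁻¹ ∈ K := fun k l hl =>
        h.normS (S.pow_mem y.2 k) hl
      have htt : ∀ k : ℕ, ∀ l ∈ K, t * (l * (y : G) ^ k) = (l * (y : G)^2 * (d : G)⁻¹ * ((y : G)^2)⁻¹) *
          (y : G) ^ (k + 2) := by
        intro k l hl
        have h1 : t * l = l * t := (h.Kt l hl).symm
        rw [← mul_assoc, h1, ht_y, pow_add]
        have h2 : (y : G) ^ 2 * (d : G)⁻¹ = (d : G)⁻¹ * (y : G) ^ 2 := by
          rw [pow_two, hyd]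
          exact (tcd.inv_right.mul_left (Commute.refl (d : G)).inv_right).eq
        have h3 : (y : G) ^ k * (y : G) ^ 2 = (y : G) ^ 2 * (y : G) ^ k := by
          rw [← pow_add, add_comm, pow_add]
        rw [h3, h2]
        simp only [mul_assoc, inv_mul_cancel_left]
        rw [← mul_assoc ((y : G) ^ 2) ((d : G)⁻¹), h2]
        simp only [mul_assoc]
      have hd2 : ∀ l ∈ K, l * (y : G)^2 * (d : G)⁻¹ * ((y : G)^2)⁻¹ ∈ K := by
        intro l hl
        have e : l * (y : G)^2 * (d : G)⁻¹ * ((y : G)^2)⁻¹ = l * ((y : G)^2 * (d : G)⁻¹ * ((y : G)^2)⁻¹) := by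
          simp only [mul_assoc]
        rw [e]
        exact K.mul_mem hl (hn 2 _ (K.inv_mem d.2))
      have er : ∀ k : ℕ, (y : G) ^ k * (r : G) = ((y : G) ^ k * r * ((y : G) ^ k)⁻¹) * (y : G) ^ k := by
        intro k; rw [inv_mul_cancel_right]
      obtain ⟨k, rfl | rfl | rfl | rfl⟩ := hcov x hx
      · exact ⟨k, 1, K.one_mem, by rw [one_mul, zpow_natCast]⟩
      · exact ⟨k, _, hn k r r.2, by rw [zpow_natCast]; exact er k⟩
      · refine ⟨(k + 2 : ℕ), _, hd2 1 K.one_mem, ?_⟩
        rw [zpow_natCast, ← htt k 1 K.one_mem, one_mul]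
      · refine ⟨(k + 2 : ℕ), _, hd2 _ (hn k r r.2), ?_⟩
        rw [zpow_natCast, ← htt k _ (hn k r r.2), ← er k]
    refine ⟨z, ?_, y, y.2, by rw [hyd, ← mul_assoc, h.t_sq, one_mul]; exact d.2, ?_⟩
    · exact
        { syl := h.syl
          t_mem := h.t_mem
          t_sq := h.t_sq
          t_notin := fun hc => h.t_notin hc.2
          z_mem := ⟨hzS, hzK⟩
          z_ne := fun hc => hm2 (Subtype.ext hc)
          z_sq := congrArg Subtype.val hm1
          D_le := inf_le_left
          zS := by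
            have hzy : (y : G) * z = z * y := by
              have h1 : Commute (y : G) (d : G) := by
                have h2 : (d : G) = t * (y * y) := by rw [hyd, ← mul_assoc, h.t_sq, one_mul]
                rw [h2]
                exact tcy.symm.mul_right ((Commute.refl _).mul_right (Commute.refl _))
              exact (h1.pow_right _).eq
            have hzr : (r : G) * z = z * r := by
              have h1 : r * (d ^ 2 ^ m) * r⁻¹ = d ^ 2 ^ m := by
                rw [← conj_pow, hd.rd, inv_pow]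
                exact inv_eq_of_mul_eq_one_left hm1
              have h2 : (r : G) * z * (r : G)⁻¹ = z := congrArg Subtype.val h1
              rwa [mul_inv_eq_iff_eq_mul] at h2
            have c1 : Commute (y : G) z := hzy
            have c2 : Commute (r : G) z := hzr
            have c3 : Commute t z := (h.Kt z hzK).symm
            intro s hs
            obtain ⟨k, rfl | rfl | rfl | rfl⟩ := hcov s hs
            · exact (c1.pow_left k).eq
            · exact ((c1.pow_left k).mul_left c2).eq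
            · exact (c3.mul_left (c1.pow_left k)).eq
            · exact (c3.mul_left ((c1.pow_left k).mul_left c2)).eq
          comm := by
            intro a ha b hb
            refine ⟨?_, ?_⟩
            · exact S.mul_mem (S.mul_mem (S.mul_mem ha hb) (S.inv_mem ha)) (S.inv_mem hb)
            · obtain ⟨i, k, hk, rfl⟩ := hquot a ha
              obtain ⟨j, l, hl, rfl⟩ := hquot b hb
              exact comm_mem (fun i k hk => h.normS (S.zpow_mem y.2 i) hk) hk hl i j
          z_comm := ⟨(y : G) ^ 2 ^ m, S.pow_mem y.2 _, r, hrS, hcom _⟩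
          omega := by
            intro u hu huu huc
            -- the image of `u` is `1` or `conj z`
            have a1 : h.act ⟨u, hu⟩ * c = c * h.act ⟨u, hu⟩ := by
              rw [← hyc, ← map_mul, ← map_mul]
              exact congrArg h.act (Subtype.ext (huc y y.2).symm)
            have a2 : h.act ⟨u, hu⟩ * MulAut.conj r = MulAut.conj r * h.act ⟨u, hu⟩ := by
              rw [← hact_r, ← map_mul, ← map_mul]
              exact congrArg h.act (Subtype.ext (huc r hrS).symm)
            have key : h.act ⟨u, hu⟩ = 1 ∨ h.act ⟨u, hu⟩ = MulAut.conj (d ^ 2 ^ m) := by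
              rcases hP.cov (h.act ⟨u, hu⟩) ⟨_, rfl⟩ with h1 | ⟨k, h1⟩
              · obtain ⟨k, hk⟩ := exists_nat_pow h1
                rw [hk] at a2 ⊢
                have h2 : c ^ k * c ^ k = 1 := by
                  have h3 := hP.r_pow k
                  rw [zpow_natCast, zpow_neg, zpow_natCast] at h3
                  have h4 : MulAut.conj r * c ^ k * (MulAut.conj r)⁻¹ = c ^ k := by
                    rw [← a2, mul_inv_cancel_right]
                  rw [h4] at h3
                  nth_rewrite 1 [h3]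
                  exact inv_mul_cancel _
                rcases Nat.even_or_odd' k with ⟨j, rfl | rfl⟩
                · rw [pow_mul, pow_two, hcc, ← map_pow, ← map_mul] at h2
                  have h5 : d ^ j * d ^ j = 1 := h.rep.conj_injective (by rw [h2, map_one])
                  rw [← pow_add, ← two_mul] at h5
                  have h6 := orderOf_dvd_of_pow_eq_one h5
                  rw [hm, pow_succ'] at h6
                  obtain ⟨l, rfl⟩ := Nat.dvd_of_mul_dvd_mul_left (by norm_num) h6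
                  rw [pow_mul, pow_two, hcc, ← map_pow, pow_mul]
                  have h7 : (d ^ 2 ^ m) ^ 2 = 1 := by rw [pow_two]; exact hm1
                  rcases Nat.even_or_odd' l with ⟨e, rfl | rfl⟩
                  · left; rw [pow_mul, h7, one_pow, map_one]
                  · right; rw [pow_succ, pow_mul, h7, one_pow, one_mul]
                · exfalso
                  have h5 : d ^ (2 * j + 1) = 1 := by
                    apply h.rep.conj_injective
                    rw [map_one, map_pow, ← hcc, (Commute.refl c).mul_pow, h2]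
                  have h6 := orderOf_dvd_of_pow_eq_one h5
                  rw [hm, pow_succ'] at h6
                  have h7 : 2 ∣ 2 * j + 1 := (dvd_mul_right _ _).trans h6
                  omega
              · exfalso
                rw [h1] at a1
                have h2 : MulAut.conj r * c = c⁻¹ * MulAut.conj r := by
                  rw [← hP.rd, inv_mul_cancel_right]
                rw [mul_assoc, h2, ← mul_assoc, ← mul_assoc, mul_left_inj] at a1
                have h3 : c * c ^ k = c ^ k * c := (Commute.refl c).zpow_right k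
                rw [h3, mul_right_inj] at a1
                have h4 : c * c = 1 := by
                  nth_rewrite 1 [← a1]
                  exact inv_mul_cancel c
                rw [hcc] at h4
                exact hd.d1 (h.rep.conj_injective (by rw [h4, map_one]))
            rcases key with h1 | h1
            · rcases h.act_eq_one h1 with h2 | h2
              · exact Or.inl h2
              · exact Or.inr (Or.inl h2)
            · have h2 : h.act ⟨u, hu⟩ = h.act ⟨z, hzS⟩ := by
                rw [h1, h.act_K hzK hzS]; rfl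
              rcases h.act_eq h2 with h3 | h3
              · exact Or.inr (Or.inr (Or.inl h3))
              · exact Or.inr (Or.inr (Or.inr h3)) }
    · intro x hx
      obtain ⟨i, k, hk, rfl⟩ := hquot x hx
      -- a natural number `j` with `y^j = y^{-i}`
      obtain ⟨j, hj⟩ := exists_nat_pow (L := S) (x := y ^ (-i)) (d := y) (zpow_mem (mem_zpowers y) _)
      have hj' : (y : G) ^ (-i) = (y : G) ^ j := by
        have := congrArg Subtype.val hj
        simpa using this
      refine ⟨j, ?_⟩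
      rw [← hj', mul_assoc, ← zpow_add, add_neg_cancel, zpow_zero, mul_one]
      refine ⟨?_, hk⟩
      have := S.mul_mem hx (S.zpow_mem y.2 (-i))
      rwa [mul_assoc, ← zpow_add, add_neg_cancel, zpow_zero, mul_one] at this

include h in
/-- the trichotomy -/
theorem tri [Finite G] : AltD t K S ∨ AltZ t K S ∨ AltE t K S := by
  by_cases hin : h.img ≤ (MulAut.conj : K →* MulAut K).range
  · rcases h.inner_case hin with h1 | h1
    · exact Or.inl h1
    · exact Or.inr (Or.inr h1)
  · rcases h.outer_case hin with h1 | h1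
    · exact Or.inl h1
    · exact Or.inr (Or.inl h1)

end SRel

end Cfsg.Agent.OddCyclic.B2Syl
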