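import Cfsg.Agent.OddCyclic.B2Init
import Cfsg.Agent.OddCyclic.B2Syl
import Cfsg.Agent.OddCyclic.B2Trans
import Cfsg.Agent.OddCyclic.B2Loc

/-!
# S0342, case B2: (0.1), (0.2) (helper362)

`start`: in the frame of case B2, if the Sylow 2-subgroups of `G` are not abelian, then `C_{C(t)}(K) = ⟨t⟩`, no
conjugate of `t` lies in `K` and a Sylow 2-subgroup of `C(t)` is not a Sylow 2-subgroup of `G`.
`hyp`: the structure `B2Pgl.Hyp`.
-/

set_option autoImplicit false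

namespace Cfsg.Agent.OddCyclic.B2Hyp

open Subgroup
open Cfsg.Agent.LieExceptional.CITDefs Cfsg.Agent.LieExceptional.CITBasic
open Cfsg.Agent.OddCyclic.CompStandard Cfsg.Agent.OddCyclic.B2Defs Cfsg.Agent.OddCyclic.B2Start
open Cfsg.Agent.OddCyclic.B2Init Cfsg.Agent.OddCyclic.B2Syl Cfsg.Agent.OddCyclic.T1Defs

universe u

variable {G : Type u} [Group G] [Finite G] {F : Type*} [Field F] [Fintype F]

/-- the frame of case B2 from the standard component -/
theorem frame {p : ℕ} {K : Subgroup G} {t : G} (hodd : Odd (Fintype.card F))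
    (hiso : Nonempty (K ≃* Matrix.ProjectiveSpecialLinearGroup (Fin 2) F)) (hS : Std p K)
    (ht : t ∈ centralizer (K : Set G)) (ho : orderOf t = 2)
    (h2 : ∀ Q : Subgroup G, Q ≤ centralizer (K : Set G) → IsPGroup 2 Q → Nat.card Q ≤ 2) : Frame p K t where
  std := hS
  t_mem := ht
  t_ord := ho
  two := h2
  center := by
    intro k hk hc
    have h1 : (⟨k, hk⟩ : K) ∈ Subgroup.center K := by
      rw [Subgroup.mem_center_iff]
      intro l
      exact Subtype.ext (hc l l.2).symm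
    rw [(GH.L2Aut.Rep.ofEquiv (GH.L2Aut.two_ne_zero_of_odd hodd) hiso.some).center_eq_bot,
      Subgroup.mem_bot] at h1
    exact congrArg Subtype.val h1

theorem sRel {p : ℕ} {K S : Subgroup G} {t : G} (h : Frame p K t) (hp : (Fintype.card F).Prime)
    (hodd : Odd (Fintype.card F)) (hiso : Nonempty (K ≃* Matrix.ProjectiveSpecialLinearGroup (Fin 2) F))
    (hS : IsSyl2 (centralizer ({t} : Set G)) S) : SRel F t K S where
  prime := hp
  odd := hodd
  iso := hiso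
  t_sq := h.t_sq
  t_ne := h.t_ne
  Kt := h.Kt
  norm := h.norm
  cent := h.cent_sup hS.le hS.two
  syl := hS

/-- what B2 needs from the pump: `C_{C(t)}(K) = ⟨t⟩` (may be proved from a conjugation `t → tz`, `1 ≠ z ∈ K`) -/
def Cent (K : Subgroup G) (t : G) : Prop :=
  ∀ x z : G, z ∈ K → z * z = 1 → z ≠ 1 → x * t * x⁻¹ = t * z → (∀ g : G, g * t * g⁻¹ ∉ K) →
    ∀ g : G, g * t = t * g → (∀ k ∈ K, g * k = k * g) → g = 1 ∨ g = t

theorem cent_of_pump [IsSimpleGroup G] {p : ℕ} {K : Subgroup G} {t : G} (h : Frame p K t) (hP : Pump K) :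
    Cent K t := fun _ _ hz _ hz1 hx _ => h.cent hP hz hz1 hx

/-- `Cent` from the triviality of the elements of odd order of `C(K) ∩ C(t)` -/
theorem cent_of_odd {p : ℕ} {K : Subgroup G} {t : G} (h : Frame p K t)
    (hodd : ∀ x z : G, z ∈ K → z ≠ 1 → x * t * x⁻¹ = t * z →
      ∀ y ∈ centralizer (K : Set G), y * t = t * y → Odd (orderOf y) → y = 1) :
    Cent K t := fun x z hz _ hz1 hx _ => h.cent_of_odd (hodd x z hz hz1 hx)

/-- (0.1), (0.2) -/
theorem start_of [IsSimpleGroup G] {p : ℕ} {K : Subgroup G} {t : G} (h : Frame p K t) (hcent : Cent K t)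
    (hp : (Fintype.card F).Prime) (hodd : Odd (Fintype.card F))
    (hiso : Nonempty (K ≃* Matrix.ProjectiveSpecialLinearGroup (Fin 2) F))
    (hab : ∀ S : Subgroup G, IsSyl2 ⊤ S → ∃ a ∈ S, ∃ b ∈ S, a * b ≠ b * a) :
    (∀ g : G, g * t = t * g → (∀ k ∈ K, g * k = k * g) → g = 1 ∨ g = t) ∧ (∀ g : G, g * t * g⁻¹ ∉ K) ∧
      ∀ S : Subgroup G, IsSyl2 (centralizer ({t} : Set G)) S → ¬ IsSyl2 ⊤ S := by
  have hnab : ∃ a b : G, a * b ≠ b * a := by
    obtain ⟨S, hS, -⟩ := exists_isSyl2 (⊤ : Subgroup G) ⊥ bot_le IsPGroup.of_bot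
    obtain ⟨a, -, b, -, hne⟩ := hab S hS
    exact ⟨a, b, hne⟩
  have key : ∀ S : Subgroup G, IsSyl2 (centralizer ({t} : Set G)) S →
      (∀ g : G, g * t = t * g → (∀ k ∈ K, g * k = k * g) → g = 1 ∨ g = t) ∧ (∀ g : G, g * t * g⁻¹ ∉ K) ∧
        ¬ IsSyl2 ⊤ S := by
    intro S hS
    have hR := sRel h hp hodd hiso hS
    -- from an involution `z` of `K` not conjugate to `t`
    have hcK : ∀ z ∈ K, z * z = 1 → z ≠ 1 → (∀ g : G, g * t * g⁻¹ ≠ z) → ∀ g : G, g * t * g⁻¹ ∉ K := by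
      intro z hz hzz hz1 hn g hg
      obtain ⟨x, -, hx⟩ := hR.inv_conj hg hz (Cen.sq_conj h.t_sq) (Cen.conj_ne h.t_ne) hzz hz1
      refine hn (x * g) ?_
      rw [← hx]; group
    rcases hR.tri with ⟨c, b, n, D, hD, hb, hz⟩ | ⟨z, hC, y, hy, -, hy'⟩ | ⟨w, hw, hE⟩
    · have hns : ¬ IsSyl2 ⊤ S := by
        refine hD.not_syl (B2Trans.tt hnab h.t_sq) ?_
        obtain ⟨g, -, hg⟩ := hR.inv_conj hb hz hD.b_sq hD.b_ne hD.z_sq hD.z_ne
        exact ⟨g, hg⟩
      obtain ⟨x, -, -, hx⟩ := hD.cen.exists_conj hns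
      have hcz := hcK _ hz hD.z_sq hD.z_ne hD.cen.not_conj
      exact ⟨hcent _ _ hz hD.z_sq hD.z_ne hx hcz, hcz, hns⟩
    · have hzK : z ∈ K := hC.z_mem.2
      have hcz := hcK z hzK hC.z_sq hC.z_ne hC.not_conj
      have hns : ¬ IsSyl2 ⊤ S := by
        intro hs
        obtain ⟨g, hg⟩ := B2Trans.tc' hnab h.t_sq hs (fun x hx u hu => by
          have := (S ⊓ K).mul_mem (hC.comm x hx u (hC.D_le hu)) hu
          rwa [inv_mul_cancel_right] at this) ⟨y, hy, hy'⟩ hC.t_mem hC.t_notin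
        exact hcz g hg.2
      obtain ⟨x, -, -, hx⟩ := hC.exists_conj hns
      exact ⟨hcent _ _ hzK hC.z_sq hC.z_ne hx hcz, hcz, hns⟩
    · have hns : ¬ IsSyl2 ⊤ S := by
        intro hs
        obtain ⟨a, ha, b, hb, hne⟩ := hab S hs
        exact hne (hE.comm ha hb)
      obtain ⟨x, -, -, v, hv, hv1, hx⟩ := hE.exists_conj hns
      have hcz := hcK v hv.2 (hE.elem v hv) hv1 fun g hg => hE.not_conj hns g (hg ▸ hv)
      exact ⟨hcent _ _ hv.2 (hE.elem v hv) hv1 hx hcz, hcz, hns⟩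
  obtain ⟨S, hS, -⟩ := exists_isSyl2 (centralizer ({t} : Set G)) ⊥ bot_le IsPGroup.of_bot
  obtain ⟨k1, k2, -⟩ := key S hS
  exact ⟨k1, k2, fun S' hS' => (key S' hS').2.2⟩

/-- The hypotheses of `B2Pgl`, the centraliser `C_{C(t)}(K) = ⟨t⟩` being supplied -/
theorem hyp_of [IsSimpleGroup G] {p : ℕ} {K : Subgroup G} {t : G} (hp : (Fintype.card F).Prime)
    (h5 : 5 ≤ Fintype.card F) (hiso : Nonempty (K ≃* Matrix.ProjectiveSpecialLinearGroup (Fin 2) F))
    (hS : Std p K) (hcent : Cent K t) (ht : t ∈ centralizer (K : Set G)) (ho : orderOf t = 2)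
    (h2 : ∀ Q : Subgroup G, Q ≤ centralizer (K : Set G) → IsPGroup 2 Q → Nat.card Q ≤ 2)
    (hab : ∀ S : Subgroup G, IsSyl2 ⊤ S → ∃ a ∈ S, ∃ b ∈ S, a * b ≠ b * a) : B2Pgl.Hyp F t K := by
  have hodd : Odd (Fintype.card F) := by
    rcases hp.eq_two_or_odd' with h1 | h1
    · omega
    · exact h1
  have hf := frame hodd hiso hS ht ho h2
  obtain ⟨k1, k2, k3⟩ := start_of hf hcent hp hodd hiso hab
  exact
    { prime := hp
      five := h5
      iso := hiso
      cyc := fun P => hS.cyc 3 P Nat.prime_three (by norm_num)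
      t_sq := hf.t_sq
      t_ne := hf.t_ne
      Kt := hf.Kt
      norm := hf.norm
      cent := k1
      not_conj := k2
      not_syl := k3 }

/-- The hypotheses of `B2Pgl`. -/
theorem hyp [IsSimpleGroup G] {p : ℕ} {K : Subgroup G} {t : G} (hp : (Fintype.card F).Prime)
    (h5 : 5 ≤ Fintype.card F) (hiso : Nonempty (K ≃* Matrix.ProjectiveSpecialLinearGroup (Fin 2) F))
    (hS : Std p K) (hP : Pump K) (ht : t ∈ centralizer (K : Set G)) (ho : orderOf t = 2)
    (h2 : ∀ Q : Subgroup G, Q ≤ centralizer (K : Set G) → IsPGroup 2 Q → Nat.card Q ≤ 2)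
    (hab : ∀ S : Subgroup G, IsSyl2 ⊤ S → ∃ a ∈ S, ∃ b ∈ S, a * b ≠ b * a) : B2Pgl.Hyp F t K := by
  have hodd : Odd (Fintype.card F) := by
    rcases hp.eq_two_or_odd' with h1 | h1
    · omega
    · exact h1
  exact hyp_of hp h5 hiso hS (cent_of_pump (frame hodd hiso hS ht ho h2) hP) ht ho h2 hab

end Cfsg.Agent.OddCyclic.B2Hyp
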