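import Cfsg.Agent.OddCyclic.B2Main
import Cfsg.Agent.OddCyclic.B2E16
import Cfsg.Agent.OddCyclic.B2Five
import Cfsg.Agent.OddCyclic.B2Hyp

/-!
# S0342, case B2: final theorems

* `false_of_hyp`: contradiction from `B2Pgl.Hyp F t K`, `|F| = p ≥ 5`.
* `false_of_std`: contradiction from a standard component `K ≅ PSL(2,p)`, `p ≥ 5`, with `|C(K)|₂ = 2`.
-/

set_option autoImplicit false

namespace Cfsg.Agent.OddCyclic.B2Final

open Cfsg Subgroup
open Cfsg.Agent.LieExceptional.CITDefs (Elem IsSyl2)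
open Cfsg.Agent.LieExceptional.CITBasic
open Cfsg.Agent.OddCyclic.B2Defs Cfsg.Agent.OddCyclic.B2Pgl Cfsg.Agent.OddCyclic.CompStandard

universe u

variable {G : Type u} [Group G] [Finite G]

theorem sRel_of_hyp {F : Type*} [Field F] [Fintype F] {t : G} {K S : Subgroup G} (h : Hyp F t K)
    (hS : IsSyl2 (centralizer ({t} : Set G)) S) : B2Syl.SRel F t K S where
  prime := h.prime
  odd := by
    have := h.five
    rcases h.prime.eq_two_or_odd' with h1 | h1
    · omega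
    · exact h1
  iso := h.iso
  t_sq := h.t_sq
  t_ne := h.t_ne
  Kt := h.Kt
  norm := h.norm
  cent := by
    have h1 : K ⊔ S ≤ centralizer ({t} : Set G) :=
      sup_le (fun k hk => mem_centralizer_singleton_iff.mpr (h.Kt k hk)) hS.le
    exact fun g hg => h.cent g (mem_centralizer_singleton_iff.mp (h1 hg))
  syl := hS

/-- `p = 5` -/
theorem five {F : Type*} [Field F] [Fintype F] {t : G} {K : Subgroup G} (h : Hyp F t K)
    (hG : T1Defs.OddCyc G) (hlt : Fintype.card F < 7) {V : Subgroup G} {w y : G}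
    (hS : TypeS F t w y V K) : False := by
  have hc : Fintype.card F = 5 := by
    have h1 := h.five
    have h2 := h.prime
    have h3 : Fintype.card F ≠ 6 := by
      intro e
      rw [e] at h2
      exact absurd h2 (by norm_num)
    omega
  obtain ⟨S, hSyl, -⟩ := exists_isSyl2 (centralizer ({t} : Set G)) ⊥ bot_le IsPGroup.of_bot
  exact B2Five.five_false (sRel_of_hyp h hSyl) hc hG (h.not_syl S hSyl) hS.ty.symm hS.y_sq hS.y_notin
    hS.ty_notin hS.conj_y hS.conj_ty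

/-- **case B2**: contradiction -/
theorem false_of_hyp [IsSimpleGroup G] (hnab : ∃ a b : G, a * b ≠ b * a) (hG : T1Defs.OddCyc G)
    (hk : ∀ J : Subgroup G, J ≠ ⊤ → IsQuasisimple J →
      Cfsg.Lie.IsoSuzuki (J ⧸ center J) ∨ (3 ∣ Nat.card J ∧ B2Special.OneClass (J ⧸ center J)))
    {F : Type*} [Field F] [Fintype F] {t : G} {K : Subgroup G} (h : Hyp F t K) : False :=
  B2Main.false_of_hyp_of hnab hG hk
    (fun L Y D hT hle hne hE h16 hyF hTT =>
      B2E16.sixteen_false' L (B2LemA.three L) Y D hT hle hne hE h16 hyF hTT)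
    (fun L Y D hT hle hne hE h16 => B2E16.sixteen_false_Z L Y D hT hle hne hE h16) h
    (fun hlt _ _ _ _ _ _ hS => five h hG hlt hS)

/-- **case B2** for a standard component `K ≅ PSL(2,p)`, `p ≥ 5`, whose centraliser has Sylow 2-subgroups of
order two; `C_{C(t)}(K) = ⟨t⟩` supplied (`B2Hyp.Cent`) -/
theorem false_of_cent [IsSimpleGroup G] {F : Type*} [Field F] [Fintype F] {p : ℕ} {K : Subgroup G} {t : G}
    (hp : (Fintype.card F).Prime) (h5 : 5 ≤ Fintype.card F)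
    (hiso : Nonempty (K ≃* Matrix.ProjectiveSpecialLinearGroup (Fin 2) F))
    (hS : Std p K) (hcent : B2Hyp.Cent K t) (ht : t ∈ centralizer (K : Set G)) (ho : orderOf t = 2)
    (h2 : ∀ Q : Subgroup G, Q ≤ centralizer (K : Set G) → IsPGroup 2 Q → Nat.card Q ≤ 2)
    (hab : ∀ S : Subgroup G, IsSyl2 ⊤ S → ∃ a ∈ S, ∃ b ∈ S, a * b ≠ b * a)
    (hk : ∀ J : Subgroup G, J ≠ ⊤ → IsQuasisimple J →
      Cfsg.Lie.IsoSuzuki (J ⧸ center J) ∨ (3 ∣ Nat.card J ∧ B2Special.OneClass (J ⧸ center J))) : False := by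
  have hnab : ∃ a b : G, a * b ≠ b * a := by
    obtain ⟨S, hS', -⟩ := exists_isSyl2 (⊤ : Subgroup G) ⊥ bot_le IsPGroup.of_bot
    obtain ⟨a, -, b, -, hne⟩ := hab S hS'
    exact ⟨a, b, hne⟩
  exact false_of_hyp hnab hS.cyc hk (B2Hyp.hyp_of hp h5 hiso hS hcent ht ho h2 hab)

/-- the same; the elements of odd order of `C(K) ∩ C(t)` are trivial as soon as `t` is conjugate to some `t z`,
`1 ≠ z ∈ K` -/
theorem false_of_odd [IsSimpleGroup G] {F : Type*} [Field F] [Fintype F] {p : ℕ} {K : Subgroup G} {t : G}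
    (hp : (Fintype.card F).Prime) (h5 : 5 ≤ Fintype.card F)
    (hiso : Nonempty (K ≃* Matrix.ProjectiveSpecialLinearGroup (Fin 2) F))
    (hS : Std p K) (ht : t ∈ centralizer (K : Set G)) (ho : orderOf t = 2)
    (h2 : ∀ Q : Subgroup G, Q ≤ centralizer (K : Set G) → IsPGroup 2 Q → Nat.card Q ≤ 2)
    (hodd : ∀ x z : G, z ∈ K → z ≠ 1 → x * t * x⁻¹ = t * z →
      ∀ y ∈ centralizer (K : Set G), y * t = t * y → Odd (orderOf y) → y = 1)
    (hab : ∀ S : Subgroup G, IsSyl2 ⊤ S → ∃ a ∈ S, ∃ b ∈ S, a * b ≠ b * a)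
    (hk : ∀ J : Subgroup G, J ≠ ⊤ → IsQuasisimple J →
      Cfsg.Lie.IsoSuzuki (J ⧸ center J) ∨ (3 ∣ Nat.card J ∧ B2Special.OneClass (J ⧸ center J))) : False := by
  have hF : Odd (Fintype.card F) := by
    rcases hp.eq_two_or_odd' with h1 | h1
    · omega
    · exact h1
  exact false_of_cent hp h5 hiso hS (B2Hyp.cent_of_odd (B2Hyp.frame hF hiso hS ht ho h2) hodd) ht ho h2 hab hk

/-- **case B2** for a standard component `K ≅ PSL(2,p)`, `p ≥ 5`, whose centraliser has Sylow 2-subgroups of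
order two -/
theorem false_of_std [IsSimpleGroup G] {F : Type*} [Field F] [Fintype F] {p : ℕ} {K : Subgroup G} {t : G}
    (hp : (Fintype.card F).Prime) (h5 : 5 ≤ Fintype.card F)
    (hiso : Nonempty (K ≃* Matrix.ProjectiveSpecialLinearGroup (Fin 2) F))
    (hS : Std p K) (hP : Pump K) (ht : t ∈ centralizer (K : Set G)) (ho : orderOf t = 2)
    (h2 : ∀ Q : Subgroup G, Q ≤ centralizer (K : Set G) → IsPGroup 2 Q → Nat.card Q ≤ 2)
    (hab : ∀ S : Subgroup G, IsSyl2 ⊤ S → ∃ a ∈ S, ∃ b ∈ S, a * b ≠ b * a)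
    (hk : ∀ J : Subgroup G, J ≠ ⊤ → IsQuasisimple J →
      Cfsg.Lie.IsoSuzuki (J ⧸ center J) ∨ (3 ∣ Nat.card J ∧ B2Special.OneClass (J ⧸ center J))) : False := by
  have hnab : ∃ a b : G, a * b ≠ b * a := by
    obtain ⟨S, hS', -⟩ := exists_isSyl2 (⊤ : Subgroup G) ⊥ bot_le IsPGroup.of_bot
    obtain ⟨a, -, b, -, hne⟩ := hab S hS'
    exact ⟨a, b, hne⟩
  exact false_of_hyp hnab hS.cyc hk (B2Hyp.hyp hp h5 hiso hS hP ht ho h2 hab)

end Cfsg.Agent.OddCyclic.B2Final
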