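import Mathlib
import Cfsg.Agent.OddCyclic.B2Defs
import Cfsg.Agent.OddCyclic.CompStandard

/-!
# S0342, case B2: the start (0.1), abstract part (helper362)

`S` a Sylow 2-subgroup of `C_G(t)`.

* `Cen`: `Ω₁(Z(S)) = {1, t, z, tz}`, `z` a commutator of `S`, `t` not in `D ≥ S'`. Then `t` is not conjugate to `z`,
  and either `S` is Sylow in `G` and `t` is not conjugate to `tz`, or `t` is conjugate to `tz`.
* `DData`: `S = ⟨t⟩ × D` with `D` dihedral of order at least eight.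
-/

set_option autoImplicit false

namespace Cfsg.Agent.OddCyclic.B2Start

open Subgroup
open Cfsg.Agent.LieExceptional.CITDefs Cfsg.Agent.LieExceptional.CITBasic
open Cfsg.Agent.OddCyclic.CompStandard Cfsg.Agent.OddCyclic.B2Defs

variable {G : Type*} [Group G]

/-- Normaliser condition in a 2-group. -/
theorem exists_normalizing [Finite G] {T Y : Subgroup G} (hY : IsPGroup 2 Y) (hTY : T ≤ Y)
    (hne : Y ≠ T) : ∃ s ∈ Y, s ∉ T ∧ ∀ t ∈ T, s * t * s⁻¹ ∈ T := by
  have : Fact (Nat.Prime 2) := ⟨Nat.prime_two⟩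
  have hnil : Group.IsNilpotent Y := hY.isNilpotent
  have hlt : T.subgroupOf Y < ⊤ := by
    rw [lt_top_iff_ne_top, Ne, Subgroup.subgroupOf_eq_top]
    exact fun h => hne (le_antisymm h hTY)
  have h2 := Group.normalizerCondition_of_isNilpotent (T.subgroupOf Y) hlt
  obtain ⟨s, hs, hsT⟩ := SetLike.exists_of_lt h2
  refine ⟨s, s.2, fun h => hsT (Subgroup.mem_subgroupOf.2 h), fun t ht => ?_⟩
  have h3 := (Subgroup.mem_normalizer_iff.1 hs ⟨t, hTY ht⟩).1 (Subgroup.mem_subgroupOf.2 ht)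
  exact Subgroup.mem_subgroupOf.1 h3

/-- a nontrivial normal subgroup of a 2-group contains nontrivial central elements -/
theorem exists_central [Finite G] {S T : Subgroup G} (hT : IsPGroup 2 T) (hST : S ≤ T)
    (hn : ∀ x ∈ T, ∀ s ∈ S, x * s * x⁻¹ ∈ S) (hS : S ≠ ⊥) :
    ∃ u ∈ S, u ≠ 1 ∧ ∀ x ∈ T, x * u = u * x := by
  have : Fact (Nat.Prime 2) := ⟨Nat.prime_two⟩
  have hN : (S.subgroupOf T).Normal := ⟨fun s hs x => by
    rw [mem_subgroupOf] at hs ⊢
    exact hn _ x.2 _ hs⟩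
  have h1 : IsPGroup 2 (ConjAct T) := hT.of_equiv ConjAct.toConjAct
  have h2 : 2 ∣ Nat.card (S.subgroupOf T) := by
    rw [Nat.card_congr (Subgroup.subgroupOfEquivOfLe hST).toEquiv]
    obtain ⟨n, hn⟩ := (IsPGroup.iff_card.mp (hT.to_le hST))
    rcases Nat.eq_zero_or_pos n with rfl | hpos
    · rw [pow_zero, Subgroup.card_eq_one] at hn; exact absurd hn hS
    · rw [hn]; exact dvd_pow_self 2 hpos.ne'
  obtain ⟨u, hu, hu1⟩ := h1.exists_fixed_point_of_prime_dvd_card_of_fixed_point (S.subgroupOf T) h2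
    (a := 1) (fun g => smul_one g)
  refine ⟨u.1.1, mem_subgroupOf.mp u.2, ?_, ?_⟩
  · intro hc
    exact hu1 (Subtype.ext (Subtype.ext hc.symm))
  · intro x hx
    have h3 := hu (ConjAct.toConjAct ⟨x, hx⟩)
    have h4 : x * u.1.1 * x⁻¹ = u.1.1 := congrArg (fun y : S.subgroupOf T => (y.1.1 : G)) h3
    rwa [mul_inv_eq_iff_eq_mul] at h4

/-- Burnside: `S` Sylow in `C(t)` and `S ≤ C(z)`, `z` conjugate to `t`: conjugate in `N(S)`. -/
theorem burnside [Finite G] {t z g : G} {S : Subgroup G} (hS : IsSyl2 (centralizer ({t} : Set G)) S)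
    (hz : ∀ s ∈ S, s * z = z * s) (hg : g * z * g⁻¹ = t) :
    ∃ n : G, (∀ s ∈ S, n * s * n⁻¹ ∈ S) ∧ n * z * n⁻¹ = t := by
  have h1 : cj g S ≤ centralizer ({t} : Set G) := by
    intro x hx
    rw [mem_cj] at hx
    rw [mem_centralizer_singleton_iff]
    have h2 := hz _ hx
    calc x * t = g * ((g⁻¹ * x * g) * z) * g⁻¹ := by rw [← hg]; group
      _ = g * (z * (g⁻¹ * x * g)) * g⁻¹ := by rw [h2]
      _ = t * x := by rw [← hg]; group
  have h2 : IsPGroup 2 (cj g S) := hS.two.map _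
  obtain ⟨T, hT, hle⟩ := exists_isSyl2 _ _ h1 h2
  obtain ⟨m, hm, hTm⟩ := IsSyl2.conj hS hT
  have h3 : cj g S = T := by
    refine Subgroup.eq_of_le_of_card_ge hle ?_
    rw [hTm, card_cj]
    exact (card_cj m S).le
  have h4 : cj m S = cj g S := by rw [h3, hTm]; rfl
  refine ⟨m⁻¹ * g, ?_, ?_⟩
  · intro s hs
    have h5 : g * s * g⁻¹ ∈ cj m S := by rw [h4]; exact conj_mem_cj hs
    rw [mem_cj] at h5
    have e : m⁻¹ * g * s * (m⁻¹ * g)⁻¹ = m⁻¹ * (g * s * g⁻¹) * m := by group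
    rw [e]; exact h5
  · have h5 : m * t = t * m := mem_centralizer_singleton_iff.mp hm
    calc m⁻¹ * g * z * (m⁻¹ * g)⁻¹ = m⁻¹ * (g * z * g⁻¹) * m := by group
      _ = m⁻¹ * (t * m) := by rw [hg]; group
      _ = t := by rw [← h5]; group

/-- 2-elements normalising a Sylow 2-subgroup of `G` lie in it. -/
theorem mem_of_two_pow {S : Subgroup G} (hS : IsSyl2 ⊤ S) {y : G} {a : ℕ} (hy : y ^ 2 ^ a = 1)
    (hn : ∀ s ∈ S, y * s * y⁻¹ ∈ S) [Finite G] : y ∈ S := by
  have h5 : IsPGroup 2 (zpowers y) := by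
    refine IsPGroup.of_card (n := (orderOf y).factorization 2) ?_
    rw [Nat.card_zpowers]
    obtain ⟨j, -, hj⟩ := (Nat.dvd_prime_pow Nat.prime_two).mp (orderOf_dvd_of_pow_eq_one hy)
    rw [hj, Nat.Prime.factorization_pow Nat.prime_two, Finsupp.single_eq_same]
  have h6 := hS.max (zpowers y ⊔ S) le_top (h5.to_sup_of_normal_right' hS.two
    (zpowers_le.mpr (mem_normalizer_of_forall hn))) le_sup_right
  rw [← h6]
  exact mem_sup_left (mem_zpowers y)

/-- the centre of the Sylow 2-subgroup `S` of `C_G(t)` -/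
structure Cen (t z : G) (S D : Subgroup G) : Prop where
  syl : IsSyl2 (centralizer ({t} : Set G)) S
  t_mem : t ∈ S
  t_sq : t * t = 1
  t_notin : t ∉ D
  z_mem : z ∈ D
  z_ne : z ≠ 1
  z_sq : z * z = 1
  D_le : D ≤ S
  zS : ∀ s ∈ S, s * z = z * s
  comm : ∀ a ∈ S, ∀ b ∈ S, a * b * a⁻¹ * b⁻¹ ∈ D
  z_comm : ∃ a ∈ S, ∃ b ∈ S, a * b * a⁻¹ * b⁻¹ = z
  omega : ∀ u ∈ S, u * u = 1 → (∀ s ∈ S, s * u = u * s) → u = 1 ∨ u = t ∨ u = z ∨ u = t * z

namespace Cen

variable {t z : G} {S D : Subgroup G}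

theorem tS (h : Cen t z S D) : ∀ s ∈ S, s * t = t * s := fun _ hs =>
  mem_centralizer_singleton_iff.mp (h.syl.le hs)

theorem tz_notin (h : Cen t z S D) : t * z ∉ D := fun hc => h.t_notin (by
  have := D.mul_mem hc (D.inv_mem h.z_mem)
  rwa [mul_inv_cancel_right] at this)

theorem conj_back [Finite G] {S : Subgroup G} {n : G} (hn : ∀ s ∈ S, n * s * n⁻¹ ∈ S) :
    ∀ s ∈ S, n⁻¹ * s * n ∈ S := by
  have h1 := mem_normalizer_of_forall hn
  have h2 := (normalizer (S : Set G)).inv_mem h1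
  intro s hs
  have := forall_of_mem_normalizer h2 s hs
  rwa [inv_inv] at this

/-- central involutions of `S` are mapped to such by `N(S)` -/
theorem central [Finite G] {S : Subgroup G} {n u : G} (hn : ∀ s ∈ S, n * s * n⁻¹ ∈ S)
    (hc : ∀ s ∈ S, s * u = u * s) : ∀ s ∈ S, s * (n * u * n⁻¹) = (n * u * n⁻¹) * s := by
  intro s hs
  have h1 := hc _ (conj_back hn s hs)
  calc s * (n * u * n⁻¹) = n * ((n⁻¹ * s * n) * u) * n⁻¹ := by group
    _ = n * (u * (n⁻¹ * s * n)) * n⁻¹ := by rw [h1]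
    _ = (n * u * n⁻¹) * s := by group

theorem sq_conj {n u : G} (hu : u * u = 1) : (n * u * n⁻¹) * (n * u * n⁻¹) = 1 := by
  calc (n * u * n⁻¹) * (n * u * n⁻¹) = n * (u * u) * n⁻¹ := by group
    _ = 1 := by rw [hu]; group

theorem conj_ne {n u : G} (hu : u ≠ 1) : n * u * n⁻¹ ≠ 1 := fun hc => hu (by
  have : n * u = n := by rw [mul_inv_eq_one] at hc; exact hc
  exact mul_eq_left.mp this)

/-- `N(S)` fixes `z` -/
theorem fix [Finite G] (h : Cen t z S D) {n : G} (hn : ∀ s ∈ S, n * s * n⁻¹ ∈ S) :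
    n * z * n⁻¹ = z := by
  have hzS := h.D_le h.z_mem
  have h1 : n * z * n⁻¹ ∈ D := by
    obtain ⟨a, ha, b, hb, hab⟩ := h.z_comm
    rw [← hab]
    have e : n * (a * b * a⁻¹ * b⁻¹) * n⁻¹ =
      (n * a * n⁻¹) * (n * b * n⁻¹) * (n * a * n⁻¹)⁻¹ * (n * b * n⁻¹)⁻¹ := by group
    rw [e]
    exact h.comm _ (hn a ha) _ (hn b hb)
  rcases h.omega _ (hn z hzS) (sq_conj h.z_sq) (central hn h.zS) with h2 | h2 | h2 | h2
  · exact absurd h2 (conj_ne h.z_ne)
  · rw [h2] at h1; exact absurd h1 h.t_notin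
  · exact h2
  · rw [h2] at h1; exact absurd h1 h.tz_notin

/-- `t` is not conjugate to `z` -/
theorem not_conj [Finite G] (h : Cen t z S D) (g : G) : g * t * g⁻¹ ≠ z := by
  intro hg
  have hg' : g⁻¹ * z * g⁻¹⁻¹ = t := by rw [← hg]; group
  obtain ⟨n, hn, hnz⟩ := burnside h.syl h.zS hg'
  rw [h.fix hn] at hnz
  exact h.t_notin (hnz ▸ h.z_mem)

theorem t_ne (h : Cen t z S D) : t ≠ 1 := fun hc => h.t_notin (hc ▸ D.one_mem)

/-- if `S` is not a Sylow 2-subgroup of `G`, then `t` is conjugate to `tz` -/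
theorem exists_conj [Finite G] (h : Cen t z S D) (hs : ¬ IsSyl2 ⊤ S) :
    ∃ x : G, (∀ s ∈ S, x * s * x⁻¹ ∈ S) ∧ (∃ k : ℕ, x ^ 2 ^ k = 1) ∧ x * t * x⁻¹ = t * z := by
  obtain ⟨T, hT, hle⟩ := exists_isSyl2 ⊤ S le_top h.syl.two
  have hne : T ≠ S := fun hc => hs (hc ▸ hT)
  obtain ⟨x, hxT, hxS, hn⟩ := exists_normalizing hT.two hle hne
  refine ⟨x, hn, ?_, ?_⟩
  · obtain ⟨k, hk⟩ := hT.two ⟨x, hxT⟩
    exact ⟨k, congrArg Subtype.val hk⟩
  · have hxt : x * t * x⁻¹ ≠ t := by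
      intro hc
      have h1 : x ∈ centralizer ({t} : Set G) := by
        rw [mem_centralizer_singleton_iff]
        rw [mul_inv_eq_iff_eq_mul] at hc
        exact hc
      have h2 : T ⊓ centralizer ({t} : Set G) = S := h.syl.max _ inf_le_right
        (hT.two.to_le inf_le_left) (le_inf hle h.syl.le)
      exact hxS (h2 ▸ ⟨hxT, h1⟩)
    rcases h.omega _ (hn t h.t_mem) (sq_conj h.t_sq) (central hn h.tS) with h2 | h2 | h2 | h2
    · exact absurd h2 (conj_ne h.t_ne)
    · exact absurd h2 hxt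
    · exact absurd h2 (h.not_conj x)
    · exact h2

theorem tz_comm (h : Cen t z S D) : ∀ s ∈ S, s * (t * z) = (t * z) * s := by
  intro s hs
  calc s * (t * z) = (s * t) * z := by group
    _ = (t * s) * z := by rw [h.tS s hs]
    _ = t * (s * z) := by group
    _ = t * z * s := by rw [h.zS s hs]; group

/-- if `S` is a Sylow 2-subgroup of `G`, then `z` is not conjugate to `tz` -/
theorem not_conj_z [Finite G] (h : Cen t z S D) (hs : IsSyl2 ⊤ S) (g : G) : g * z * g⁻¹ ≠ t * z := by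
  intro hg
  have hg' : g⁻¹ * (t * z) * g⁻¹⁻¹ = z := by rw [← hg]; group
  have hsz : IsSyl2 (centralizer ({z} : Set G)) S :=
    ⟨fun s hs' => mem_centralizer_singleton_iff.mpr (h.zS s hs'), hs.two,
      fun Y _ h2 h3 => hs.max Y le_top h2 h3⟩
  obtain ⟨n, hn, hnz⟩ := burnside hsz h.tz_comm hg'
  have h1 := h.fix hn
  have h2 : t * z = z := by
    have e : t * z = n⁻¹ * (n * (t * z) * n⁻¹) * n := by group
    rw [hnz] at e
    rw [e]
    calc n⁻¹ * z * n = n⁻¹ * (n * z * n⁻¹) * n := by rw [h1]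
      _ = z := by group
  exact h.t_ne (mul_eq_right.mp h2)

/-- if `S` is a Sylow 2-subgroup of `G`, then `t` is not conjugate to `tz` -/
theorem not_conj_mul [Finite G] (h : Cen t z S D) (hs : IsSyl2 ⊤ S) (g : G) : g * t * g⁻¹ ≠ t * z := by
  intro hg
  have hg' : g⁻¹ * (t * z) * g⁻¹⁻¹ = t := by rw [← hg]; group
  obtain ⟨n, hn, hnz⟩ := burnside h.syl h.tz_comm hg'
  -- `n` swaps `t` and `tz`
  have h1 : n * t * n⁻¹ = t * z := by
    have h2 : n * (t * z) * n⁻¹ = (n * t * n⁻¹) * (n * z * n⁻¹) := by group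
    rw [hnz, h.fix hn] at h2
    calc n * t * n⁻¹ = (n * t * n⁻¹) * z * z := by rw [mul_assoc _ z z, h.z_sq, mul_one]
      _ = t * z := by rw [← h2]
  have h3 : n * n * t * (n * n)⁻¹ = t := by
    calc n * n * t * (n * n)⁻¹ = n * (n * t * n⁻¹) * n⁻¹ := by group
      _ = t := by rw [h1, hnz]
  -- an odd power of `n` is a 2-element of `N(S)`, so in `S`
  obtain ⟨a, m, hm, hnm⟩ := Nat.exists_eq_two_pow_mul_odd (n := orderOf n) (orderOf_pos n).ne'
  obtain ⟨l, rfl⟩ := hm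
  have h4 : n ^ (2 * l + 1) ∈ S := by
    have hx : (n ^ (2 * l + 1)) ^ 2 ^ a = 1 := by
      rw [← pow_mul, mul_comm, ← hnm, pow_orderOf_eq_one]
    exact mem_of_two_pow hs hx
      (forall_of_mem_normalizer (pow_mem (mem_normalizer_of_forall hn) _))
  have h5 : ∀ j : ℕ, (n * n) ^ j * t * ((n * n) ^ j)⁻¹ = t := by
    generalize n * n = m at h3
    intro j
    induction j with
    | zero => group
    | succ j ih =>
      have e : m ^ (j + 1) * t * (m ^ (j + 1))⁻¹ = m * (m ^ j * t * (m ^ j)⁻¹) * m⁻¹ := by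
        rw [pow_succ', mul_inv_rev]
        simp only [mul_assoc]
      rw [e, ih, h3]
  have h6 : n ^ (2 * l + 1) * t * (n ^ (2 * l + 1))⁻¹ = t * z := by
    rw [pow_succ', pow_mul, pow_two]
    calc n * (n * n) ^ l * t * (n * (n * n) ^ l)⁻¹
        = n * ((n * n) ^ l * t * ((n * n) ^ l)⁻¹) * n⁻¹ := by group
      _ = t * z := by rw [h5, h1]
  have h7 := h.tS _ h4
  rw [h7] at h6
  have h8 : t * z = t := by rw [← h6]; group
  exact h.z_ne (mul_eq_left.mp h8)

end Cen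

/-! ### `S = ⟨t⟩ × D`, `D` dihedral -/

/-- `S = ⟨t⟩ × D`, `D = ⟨c, b⟩` dihedral of order `2ⁿ ≥ 8`, Sylow in `C_G(t)` -/
structure DData (t c b : G) (n : ℕ) (S D : Subgroup G) : Prop where
  t_sq : t * t = 1
  t_ne : t ≠ 1
  n_ge : 3 ≤ n
  c_ord : orderOf c = 2 ^ (n - 1)
  b_sq : b * b = 1
  b_ne : b ≠ 1
  bc : b * c * b⁻¹ = c⁻¹
  D_eq : ∀ g : G, g ∈ D ↔ ∃ k : ℕ, g = c ^ k ∨ g = c ^ k * b
  b_notin : ∀ k : ℕ, b ≠ c ^ k
  tD : ∀ d ∈ D, t * d = d * t
  t_notin : t ∉ D
  S_eq : ∀ g : G, g ∈ S ↔ ∃ d ∈ D, g = d ∨ g = t * d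
  syl : IsSyl2 (centralizer ({t} : Set G)) S

namespace DData

variable {t c b : G} {n : ℕ} {S D : Subgroup G}

theorem c_mem (h : DData t c b n S D) : c ∈ D := (h.D_eq c).mpr ⟨1, Or.inl (pow_one c).symm⟩

theorem b_mem (h : DData t c b n S D) : b ∈ D := (h.D_eq b).mpr ⟨0, Or.inr (by rw [pow_zero, one_mul])⟩

theorem D_le (h : DData t c b n S D) : D ≤ S := fun d hd => (h.S_eq d).mpr ⟨d, hd, Or.inl rfl⟩

theorem t_mem (h : DData t c b n S D) : t ∈ S := (h.S_eq t).mpr ⟨1, D.one_mem, Or.inr (mul_one t).symm⟩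

/-- the central involution of `D` -/
abbrev z (c : G) (n : ℕ) : G := c ^ 2 ^ (n - 2)

theorem z_sq (h : DData t c b n S D) : z c n * z c n = 1 := by
  have hn := h.n_ge
  rw [← pow_two, ← pow_mul, ← pow_succ, show n - 2 + 1 = n - 1 by omega, ← h.c_ord,
    pow_orderOf_eq_one]

theorem z_ne (h : DData t c b n S D) : z c n ≠ 1 := by
  intro hc
  have hn := h.n_ge
  have h1 := orderOf_dvd_of_pow_eq_one hc
  rw [h.c_ord] at h1
  have := (Nat.pow_dvd_pow_iff_le_right (show 1 < 2 by norm_num)).mp h1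
  omega

theorem z_mem (h : DData t c b n S D) : z c n ∈ D := D.pow_mem h.c_mem _

theorem b_inv (h : DData t c b n S D) : b⁻¹ = b := inv_eq_of_mul_eq_one_left h.b_sq

/-- `b` inverts the powers of `c` -/
theorem b_pow (h : DData t c b n S D) (k : ℕ) : b * c ^ k = (c ^ k)⁻¹ * b := by
  have h1 : b * c ^ k * b⁻¹ = (c ^ k)⁻¹ := by
    rw [← conj_pow, h.bc, inv_pow]
  rw [← h1]; group

/-- powers of `c` with square `1` -/
theorem pow_sq (h : DData t c b n S D) {k : ℕ} (hk : c ^ k * c ^ k = 1) :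
    c ^ k = 1 ∨ c ^ k = z c n := by
  have hn := h.n_ge
  rw [← pow_add] at hk
  have h1 := orderOf_dvd_of_pow_eq_one hk
  rw [h.c_ord, show n - 1 = n - 2 + 1 by omega, pow_succ', ← two_mul] at h1
  obtain ⟨m, rfl⟩ := Nat.dvd_of_mul_dvd_mul_left (by norm_num) h1
  rw [pow_mul]
  have h2 : z c n ^ 2 = 1 := by rw [pow_two]; exact h.z_sq
  rcases Nat.even_or_odd' m with ⟨l, rfl | rfl⟩
  · left; rw [pow_mul, h2, one_pow]
  · right; rw [pow_succ, pow_mul, h2, one_pow, one_mul]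

theorem c_sq_ne (h : DData t c b n S D) : c * c ≠ 1 := by
  intro hc
  have hn := h.n_ge
  rw [← pow_two] at hc
  have h1 := orderOf_dvd_of_pow_eq_one hc
  rw [h.c_ord] at h1
  have h2 : 2 ^ 2 ∣ 2 ^ (n - 1) := Nat.pow_dvd_pow 2 (by omega)
  have := Nat.le_of_dvd (by norm_num) (h2.trans h1)
  omega

/-- `z` is central in `D` -/
theorem z_comm (h : DData t c b n S D) : ∀ d ∈ D, d * z c n = z c n * d := by
  intro d hd
  have hb : b * z c n = z c n * b := by
    rw [h.b_pow]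
    congr 1
    exact inv_eq_of_mul_eq_one_left h.z_sq
  obtain ⟨k, rfl | rfl⟩ := (h.D_eq d).mp hd
  · exact ((Commute.refl c).pow_pow _ _).eq
  · have h1 : c ^ k * z c n = z c n * c ^ k := ((Commute.refl c).pow_pow _ _).eq
    rw [mul_assoc, hb, ← mul_assoc, h1, mul_assoc]

/-- elements of `D` commuting with `b` -/
theorem of_comm_b (h : DData t c b n S D) {d : G} (hd : d ∈ D) (hb : d * b = b * d) :
    d = 1 ∨ d = z c n ∨ d = b ∨ d = z c n * b := by
  have key : ∀ k : ℕ, c ^ k * b = b * c ^ k → c ^ k = 1 ∨ c ^ k = z c n := by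
    intro k hk
    refine h.pow_sq ?_
    rw [h.b_pow, mul_left_inj] at hk
    nth_rewrite 1 [hk]
    exact inv_mul_cancel _
  obtain ⟨k, rfl | rfl⟩ := (h.D_eq d).mp hd
  · rcases key k hb with h1 | h1
    · exact Or.inl h1
    · exact Or.inr (Or.inl h1)
  · have h1 : c ^ k * b = b * c ^ k := by
      have : c ^ k * b * b = b * c ^ k * b := by rw [hb, mul_assoc]
      exact mul_right_cancel this
    rcases key k h1 with h2 | h2
    · right; right; left; rw [h2, one_mul]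
    · right; right; right; rw [h2]

/-- the centre of `D` -/
theorem center (h : DData t c b n S D) {d : G} (hd : d ∈ D) (hc : d * c = c * d)
    (hb : d * b = b * d) : d = 1 ∨ d = z c n := by
  have key : ∀ k : ℕ, (c ^ k * b) * c ≠ c * (c ^ k * b) := by
    intro k hk
    have h1 : c ^ k * b * c = c ^ k * c⁻¹ * b := by
      have := h.b_pow 1
      rw [pow_one] at this
      rw [mul_assoc, this]; group
    rw [h1] at hk
    have h2 : c * (c ^ k * b) = c ^ k * c * b := by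
      rw [← mul_assoc, (Commute.self_pow c k).eq]
    rw [h2, mul_left_inj, mul_right_inj] at hk
    apply h.c_sq_ne
    nth_rewrite 1 [← hk]
    exact inv_mul_cancel c
  rcases h.of_comm_b hd hb with h1 | h1 | h1 | h1
  · exact Or.inl h1
  · exact Or.inr h1
  · exfalso
    apply key 0
    rw [pow_zero, one_mul, ← h1, hc]
  · exfalso
    exact key _ (by rw [← h1, hc])

theorem cen (h : DData t c b n S D) : Cen t (z c n) S D where
  syl := h.syl
  t_mem := h.t_mem
  t_sq := h.t_sq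
  t_notin := h.t_notin
  z_mem := h.z_mem
  z_ne := h.z_ne
  z_sq := h.z_sq
  D_le := h.D_le
  zS := by
    intro s hs
    obtain ⟨d, hd, rfl | rfl⟩ := (h.S_eq s).mp hs
    · exact h.z_comm _ hd
    · rw [mul_assoc, h.z_comm _ hd, ← mul_assoc, h.tD _ h.z_mem, mul_assoc]
  comm := by
    have h1 : ∀ a ∈ S, ∃ d ∈ D, (∀ e ∈ D, a * e * a⁻¹ = d * e * d⁻¹) ∧
        (∀ e : G, e * t = t * e → e * a * e⁻¹ * a⁻¹ = e * d * e⁻¹ * d⁻¹) := by
      intro a ha
      obtain ⟨d, hd, rfl | rfl⟩ := (h.S_eq a).mp ha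
      · exact ⟨_, hd, fun e _ => rfl, fun e _ => rfl⟩
      · refine ⟨d, hd, fun e he => ?_, fun e he => ?_⟩
        · have h2 := h.tD _ (D.mul_mem (D.mul_mem hd he) (D.inv_mem hd))
          calc t * d * e * (t * d)⁻¹ = (t * (d * e * d⁻¹)) * t⁻¹ := by group
            _ = d * e * d⁻¹ := by rw [h2]; group
        · calc e * (t * d) * e⁻¹ * (t * d)⁻¹ = (e * t) * d * e⁻¹ * d⁻¹ * t⁻¹ := by group
            _ = t * (e * d * e⁻¹ * d⁻¹) * t⁻¹ := by rw [he]; group
            _ = e * d * e⁻¹ * d⁻¹ := by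
              have h2 := h.tD _ hd
              have h3 : t * (e * d * e⁻¹ * d⁻¹) = (e * d * e⁻¹ * d⁻¹) * t := by
                have c1 : Commute t e := he.symm
                have c2 : Commute t d := h2
                exact (((c1.mul_right c2).mul_right c1.inv_right).mul_right c2.inv_right).eq
              rw [h3]; group
    intro a ha a' ha'
    obtain ⟨d, hd, h2, -⟩ := h1 a ha
    obtain ⟨d', hd', -, h3⟩ := h1 a' ha'
    have hat : a * t = t * a := mem_centralizer_singleton_iff.mp (h.syl.le ha)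
    rw [h3 a hat, h2 d' hd']
    exact D.mul_mem (D.mul_mem (D.mul_mem hd hd') (D.inv_mem hd)) (D.inv_mem hd')
  z_comm := by
    have hn := h.n_ge
    refine ⟨c ^ 2 ^ (n - 3), h.D_le (D.pow_mem h.c_mem _), b, h.D_le h.b_mem, ?_⟩
    have h1 : b * (c ^ 2 ^ (n - 3))⁻¹ = c ^ 2 ^ (n - 3) * b := by
      have h2 := h.b_pow (2 ^ (n - 3))
      calc b * (c ^ 2 ^ (n - 3))⁻¹ = b * (((c ^ 2 ^ (n - 3))⁻¹ * b) * b⁻¹) := by group
        _ = b * (b * c ^ 2 ^ (n - 3) * b) := by rw [← h2, h.b_inv]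
        _ = (b * b) * c ^ 2 ^ (n - 3) * b := by group
        _ = _ := by rw [h.b_sq, one_mul]
    calc c ^ 2 ^ (n - 3) * b * (c ^ 2 ^ (n - 3))⁻¹ * b⁻¹
        = c ^ 2 ^ (n - 3) * (b * (c ^ 2 ^ (n - 3))⁻¹) * b⁻¹ := by group
      _ = c ^ 2 ^ (n - 3) * c ^ 2 ^ (n - 3) := by rw [h1]; group
      _ = z c n := by
        rw [← pow_add]
        congr 1
        rw [show n - 2 = n - 3 + 1 by omega, pow_succ]
        ring
  omega := by
    intro u hu huu hc
    have huc := hc c (h.D_le h.c_mem)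
    have hub := hc b (h.D_le h.b_mem)
    obtain ⟨d, hd, rfl | rfl⟩ := (h.S_eq u).mp hu
    · rcases h.center hd huc.symm hub.symm with h1 | h1
      · exact Or.inl h1
      · exact Or.inr (Or.inr (Or.inl h1))
    · have e1 : ∀ x : G, x ∈ D → x * (t * d) = (t * d) * x → d * x = x * d := by
        intro x hx he
        have h2 := h.tD _ hx
        have h3 : t * (x * d) = t * (d * x) := by
          calc t * (x * d) = (t * x) * d := by group
            _ = x * (t * d) := by rw [h2]; group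
            _ = t * (d * x) := by rw [he]; group
        exact (mul_left_cancel h3).symm
      rcases h.center hd (e1 c h.c_mem huc) (e1 b h.b_mem hub) with h1 | h1
      · right; left; rw [h1, mul_one]
      · right; right; right; rw [h1]

/-- the other class: `cb` in place of `b` -/
theorem swapb (h : DData t c b n S D) : DData t c (c * b) n S D where
  t_sq := h.t_sq
  t_ne := h.t_ne
  n_ge := h.n_ge
  c_ord := h.c_ord
  b_sq := by
    have h1 := h.b_pow 1
    rw [pow_one] at h1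
    calc c * b * (c * b) = c * (b * c) * b := by group
      _ = (c * c⁻¹) * (b * b) := by rw [h1]; group
      _ = 1 := by rw [h.b_sq, mul_one, mul_inv_cancel]
  b_ne := by
    intro hc
    have h1 : b = c ^ (orderOf c - 1) := by
      have h2 : b = c⁻¹ := (inv_eq_of_mul_eq_one_right hc).symm
      rw [h2]
      refine inv_eq_of_mul_eq_one_left ?_
      rw [← pow_succ, Nat.sub_add_cancel, pow_orderOf_eq_one]
      rw [h.c_ord]; exact Nat.one_le_two_pow
    exact h.b_notin _ h1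
  bc := by
    calc c * b * c * (c * b)⁻¹ = c * (b * c * b⁻¹) * c⁻¹ := by group
      _ = c⁻¹ := by rw [h.bc]; group
  D_eq := by
    intro g
    rw [h.D_eq]
    have hone : 1 ≤ orderOf c := by rw [h.c_ord]; exact Nat.one_le_two_pow
    constructor
    · rintro ⟨k, rfl | rfl⟩
      · exact ⟨k, Or.inl rfl⟩
      · refine ⟨k + (orderOf c - 1), Or.inr ?_⟩
        rw [pow_add, mul_assoc, ← mul_assoc (c ^ (orderOf c - 1)), ← pow_succ,
          Nat.sub_add_cancel hone, pow_orderOf_eq_one, one_mul]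
    · rintro ⟨k, rfl | rfl⟩
      · exact ⟨k, Or.inl rfl⟩
      · exact ⟨k + 1, Or.inr (by rw [pow_succ]; group)⟩
  b_notin := by
    intro k hc
    have hone : 1 ≤ orderOf c := by rw [h.c_ord]; exact Nat.one_le_two_pow
    apply h.b_notin (orderOf c - 1 + k)
    rw [pow_add, ← hc, ← mul_assoc, ← pow_succ, Nat.sub_add_cancel hone, pow_orderOf_eq_one,
      one_mul]
  tD := h.tD
  t_notin := h.t_notin
  S_eq := h.S_eq
  syl := h.syl

/-- `c^(2j) b` is conjugate to `b` -/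
theorem conj_even (h : DData t c b n S D) (j : ℕ) : c ^ (2 * j) * b = c ^ j * b * (c ^ j)⁻¹ := by
  have h1 : b * (c ^ j)⁻¹ = c ^ j * b := by
    have h2 := h.b_pow j
    calc b * (c ^ j)⁻¹ = b * (((c ^ j)⁻¹ * b) * b⁻¹) := by group
      _ = b * (b * c ^ j * b) := by rw [← h2, h.b_inv]
      _ = (b * b) * c ^ j * b := by group
      _ = _ := by rw [h.b_sq, one_mul]
  rw [mul_assoc, h1, ← mul_assoc, ← pow_add, ← two_mul]

/-- involutions of `D` -/
theorem invol (h : DData t c b n S D) {d : G} (hd : d ∈ D) (hdd : d * d = 1) (hd1 : d ≠ 1) :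
    d = z c n ∨ (∃ j, d = c ^ j * b * (c ^ j)⁻¹) ∨ ∃ j, d = c ^ j * (c * b) * (c ^ j)⁻¹ := by
  obtain ⟨k, rfl | rfl⟩ := (h.D_eq d).mp hd
  · rcases h.pow_sq hdd with h1 | h1
    · exact absurd h1 hd1
    · exact Or.inl h1
  · rcases Nat.even_or_odd' k with ⟨j, rfl | rfl⟩
    · exact Or.inr (Or.inl ⟨j, h.conj_even j⟩)
    · refine Or.inr (Or.inr ⟨j, ?_⟩)
      rw [← h.swapb.conj_even j, pow_succ]; group

theorem relIndex (h : DData t c b n S D) [Finite G] : D.relIndex S = 2 := by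
  have h1 : S = D ⊔ zpowers t := by
    apply le_antisymm
    · intro s hs
      obtain ⟨d, hd, rfl | rfl⟩ := (h.S_eq s).mp hs
      · exact mem_sup_left hd
      · exact Subgroup.mul_mem _ (mem_sup_right (mem_zpowers t)) (mem_sup_left hd)
    · exact sup_le h.D_le (zpowers_le.mpr h.t_mem)
  rw [Subgroup.relIndex, Subgroup.index_eq_two_iff]
  refine ⟨⟨t, h.t_mem⟩, ?_⟩
  rintro ⟨s, hs⟩
  rw [Subgroup.mem_subgroupOf, Subgroup.mem_subgroupOf]
  show Xor (s * t ∈ D) (s ∈ D)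
  obtain ⟨d, hd, rfl | rfl⟩ := (h.S_eq s).mp hs
  · refine Or.inr ⟨hd, fun hc => h.t_notin ?_⟩
    have := D.mul_mem (D.inv_mem hd) hc
    rwa [inv_mul_cancel_left] at this
  · refine Or.inl ⟨?_, fun hc => h.t_notin ?_⟩
    · rw [h.tD d hd, mul_assoc, h.t_sq, mul_one]; exact hd
    · have := D.mul_mem hc (D.inv_mem hd)
      rwa [mul_inv_cancel_right] at this

/-- `t` is conjugate to `cb`, if `b` is conjugate to `z`, `S` Sylow in `G` -/
theorem conj_cb [Finite G] (h : DData t c b n S D) (hs : IsSyl2 ⊤ S) (hTT : TT t)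
    (hb : ∃ g : G, g * b * g⁻¹ = z c n) : ∃ g : G, g * t * g⁻¹ = c * b := by
  obtain ⟨g, hg⟩ := hTT S D hs h.D_le h.relIndex h.t_mem h.t_notin
  rcases h.invol hg (Cen.sq_conj h.t_sq) (Cen.conj_ne h.t_ne) with h1 | ⟨j, h1⟩ | ⟨j, h1⟩
  · exact absurd h1 (h.cen.not_conj g)
  · obtain ⟨x, hx⟩ := hb
    refine absurd ?_ (h.cen.not_conj (x * (c ^ j)⁻¹ * g))
    calc x * (c ^ j)⁻¹ * g * t * (x * (c ^ j)⁻¹ * g)⁻¹
        = x * (c ^ j)⁻¹ * (g * t * g⁻¹) * c ^ j * x⁻¹ := by group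
      _ = x * b * x⁻¹ := by rw [h1]; group
      _ = _ := hx
  · refine ⟨(c ^ j)⁻¹ * g, ?_⟩
    calc (c ^ j)⁻¹ * g * t * ((c ^ j)⁻¹ * g)⁻¹ = (c ^ j)⁻¹ * (g * t * g⁻¹) * c ^ j := by group
      _ = _ := by rw [h1]; group

end DData

/-- the dihedral subgroup generated by `c` and `b` -/
def dih (c b : G) (m : ℕ) (hm : c ^ m = 1) (hm0 : 0 < m) (hb : b * b = 1) (hbc : b * c * b⁻¹ = c⁻¹) :
    Subgroup G where
  carrier := {g | ∃ k : ℕ, g = c ^ k ∨ g = c ^ k * b}
  one_mem' := ⟨0, Or.inl (pow_zero c).symm⟩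
  mul_mem' := by
    have key : ∀ k : ℕ, b * c ^ k = c ^ (k * (m - 1)) * b := by
      intro k
      have h1 : b * c ^ k * b⁻¹ = (c⁻¹) ^ k := by rw [← conj_pow, hbc]
      have h2 : c⁻¹ = c ^ (m - 1) := by
        refine inv_eq_of_mul_eq_one_left ?_
        rw [← pow_succ, Nat.sub_add_cancel hm0, hm]
      rw [h2, ← pow_mul, mul_comm] at h1
      rw [← h1]; group
    rintro _ _ ⟨k, rfl | rfl⟩ ⟨l, rfl | rfl⟩
    · exact ⟨k + l, Or.inl (pow_add c k l).symm⟩
    · exact ⟨k + l, Or.inr (by rw [pow_add, mul_assoc])⟩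
    · exact ⟨k + l * (m - 1), Or.inr (by rw [pow_add, mul_assoc, key, mul_assoc])⟩
    · refine ⟨k + l * (m - 1), Or.inl ?_⟩
      calc c ^ k * b * (c ^ l * b) = c ^ k * (b * c ^ l) * b := by group
        _ = c ^ k * c ^ (l * (m - 1)) * (b * b) := by rw [key]; group
        _ = _ := by rw [hb, mul_one, pow_add]
  inv_mem' := by
    rintro _ ⟨k, rfl | rfl⟩
    · refine ⟨k * (m - 1), Or.inl ?_⟩
      refine inv_eq_of_mul_eq_one_left ?_
      rw [← pow_add, ← Nat.mul_succ, Nat.succ_eq_add_one, Nat.sub_add_cancel hm0, mul_comm, pow_mul, hm,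
        one_pow]
    · refine ⟨k, Or.inr ?_⟩
      have h1 : b * c ^ k * b⁻¹ = (c⁻¹) ^ k := by rw [← conj_pow, hbc]
      refine inv_eq_of_mul_eq_one_left ?_
      have hb' : b⁻¹ = b := inv_eq_of_mul_eq_one_left hb
      calc c ^ k * b * (c ^ k * b) = c ^ k * (b * c ^ k * b⁻¹) * (b * b) := by group
        _ = 1 := by rw [h1, hb, mul_one, inv_pow, mul_inv_cancel]

namespace DData

variable {t c b : G} {n : ℕ} {S D : Subgroup G}

theorem tc (h : DData t c b n S D) : Commute c t := (h.tD c h.c_mem).symm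

theorem t_pow_even (h : DData t c b n S D) (j : ℕ) : t ^ (2 * j) = 1 := by
  rw [pow_mul, pow_two, h.t_sq, one_pow]

theorem ct_even (h : DData t c b n S D) (j : ℕ) : (c * t) ^ (2 * j) = c ^ (2 * j) := by
  rw [h.tc.mul_pow, h.t_pow_even, mul_one]

theorem ct_odd (h : DData t c b n S D) (j : ℕ) : (c * t) ^ (2 * j + 1) = t * c ^ (2 * j + 1) := by
  rw [h.tc.mul_pow, pow_succ t, h.t_pow_even, one_mul, h.tD _ (D.pow_mem h.c_mem _)]

theorem ct_pow_one (h : DData t c b n S D) : (c * t) ^ 2 ^ (n - 1) = 1 := by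
  have hn := h.n_ge
  rw [show n - 1 = n - 2 + 1 by omega, pow_succ', h.ct_even, ← pow_succ',
    show n - 2 + 1 = n - 1 by omega, ← h.c_ord, pow_orderOf_eq_one]

theorem b_ct (h : DData t c b n S D) : b * (c * t) * b⁻¹ = (c * t)⁻¹ := by
  have h1 := h.tD b h.b_mem
  have ht : t⁻¹ = t := inv_eq_of_mul_eq_one_left h.t_sq
  have h3 : t * b⁻¹ = b⁻¹ * t := by rw [h.b_inv, h1]
  calc b * (c * t) * b⁻¹ = b * c * (t * b⁻¹) := by group
    _ = (b * c * b⁻¹) * t := by rw [h3]; group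
    _ = c⁻¹ * t⁻¹ := by rw [h.bc, ht]
    _ = (c * t)⁻¹ := by rw [h.tc.eq, mul_inv_rev]

/-- the twisted dihedral group `⟨ct, b⟩` -/
def tw (h : DData t c b n S D) : Subgroup G :=
  dih (c * t) b (2 ^ (n - 1)) h.ct_pow_one (by positivity) h.b_sq h.b_ct

theorem mem_tw (h : DData t c b n S D) {g : G} :
    g ∈ h.tw ↔ ∃ k : ℕ, g = (c * t) ^ k ∨ g = (c * t) ^ k * b := Iff.rfl

theorem twist (h : DData t c b n S D) : DData t (c * t) b n S h.tw where
  t_sq := h.t_sq
  t_ne := h.t_ne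
  n_ge := h.n_ge
  c_ord := by
    have hn := h.n_ge
    apply Nat.dvd_antisymm
    · exact orderOf_dvd_of_pow_eq_one h.ct_pow_one
    · rw [← h.c_ord]
      apply orderOf_dvd_of_pow_eq_one
      have h1 := pow_orderOf_eq_one (c * t)
      rcases Nat.even_or_odd' (orderOf (c * t)) with ⟨j, hj | hj⟩
      · rw [hj, h.ct_even] at h1
        rw [hj, h1]
      · rw [hj, h.ct_odd] at h1
        exfalso
        apply h.t_notin
        rw [eq_inv_of_mul_eq_one_left h1]
        exact D.inv_mem (D.pow_mem h.c_mem _)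
  b_sq := h.b_sq
  b_ne := h.b_ne
  bc := h.b_ct
  D_eq := fun g => h.mem_tw
  b_notin := by
    intro k hk
    rcases Nat.even_or_odd' k with ⟨j, rfl | rfl⟩
    · rw [h.ct_even] at hk
      exact h.b_notin _ hk
    · rw [h.ct_odd] at hk
      apply h.t_notin
      rw [eq_mul_inv_of_mul_eq hk.symm]
      exact D.mul_mem h.b_mem (D.inv_mem (D.pow_mem h.c_mem _))
  tD := by
    rintro _ ⟨k, rfl | rfl⟩
    · exact (h.tc.symm.mul_right (Commute.refl t)).pow_right k
    · exact ((h.tc.symm.mul_right (Commute.refl t)).pow_right k).mul_right (h.tD b h.b_mem)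
  t_notin := by
    rintro ⟨k, hk | hk⟩
    · rcases Nat.even_or_odd' k with ⟨j, rfl | rfl⟩
      · rw [h.ct_even] at hk
        exact h.t_notin (hk ▸ D.pow_mem h.c_mem _)
      · rw [h.ct_odd] at hk
        have h1 := orderOf_dvd_of_pow_eq_one (mul_eq_left.mp hk.symm)
        rw [h.c_ord] at h1
        have hn := h.n_ge
        have h2 : 2 ∣ 2 * j + 1 := (dvd_pow_self 2 (by omega)).trans h1
        omega
    · rcases Nat.even_or_odd' k with ⟨j, rfl | rfl⟩
      · rw [h.ct_even] at hk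
        exact h.t_notin (hk ▸ D.mul_mem (D.pow_mem h.c_mem _) h.b_mem)
      · rw [h.ct_odd, mul_assoc] at hk
        exact h.swapb.b_notin _ (by
          have h1 : c ^ (2 * j + 1) * b = 1 := mul_eq_left.mp hk.symm
          have h2 : c * b = (c ^ (2 * j))⁻¹ := by
            refine eq_inv_of_mul_eq_one_right ?_
            rw [← mul_assoc, ← pow_succ]; exact h1
          have h3 : (c ^ (2 * j))⁻¹ = c ^ ((2 * j) * (2 ^ (n - 1) - 1)) := by
            refine inv_eq_of_mul_eq_one_left ?_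
            rw [← pow_add, ← Nat.mul_succ, Nat.succ_eq_add_one, Nat.sub_add_cancel Nat.one_le_two_pow,
              mul_comm, pow_mul, ← h.c_ord, pow_orderOf_eq_one, one_pow]
          rw [h2, h3])
  S_eq := by
    have key : ∀ k : ℕ, (c * t) ^ k = c ^ k ∨ (c * t) ^ k = t * c ^ k := by
      intro k
      rcases Nat.even_or_odd' k with ⟨j, rfl | rfl⟩
      · exact Or.inl (h.ct_even j)
      · exact Or.inr (h.ct_odd j)
    have tt : ∀ x : G, t * (t * x) = x := fun x => by rw [← mul_assoc, h.t_sq, one_mul]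
    intro g
    rw [h.S_eq]
    constructor
    · rintro ⟨d, hd, hg⟩
      obtain ⟨k, rfl | rfl⟩ := (h.D_eq d).mp hd
      · refine ⟨(c * t) ^ k, ⟨k, Or.inl rfl⟩, ?_⟩
        rcases key k with h1 | h1 <;> rw [h1]
        · exact hg
        · rw [tt]; exact hg.symm
      · refine ⟨(c * t) ^ k * b, ⟨k, Or.inr rfl⟩, ?_⟩
        rcases key k with h1 | h1 <;> rw [h1]
        · exact hg
        · rw [mul_assoc, tt]; exact hg.symm
    · rintro ⟨d, ⟨k, hk⟩, hg⟩
      rcases hk with rfl | rfl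
      · refine ⟨c ^ k, D.pow_mem h.c_mem _, ?_⟩
        rcases key k with h1 | h1 <;> rw [h1] at hg
        · exact hg
        · rw [tt] at hg; exact hg.symm
      · refine ⟨c ^ k * b, D.mul_mem (D.pow_mem h.c_mem _) h.b_mem, ?_⟩
        rcases key k with h1 | h1 <;> rw [h1] at hg
        · exact hg
        · rw [mul_assoc, tt] at hg; exact hg.symm
  syl := h.syl

theorem z_twist (h : DData t c b n S D) : z (c * t) n = z c n := by
  have hn := h.n_ge
  show (c * t) ^ 2 ^ (n - 2) = c ^ 2 ^ (n - 2)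
  rw [show n - 2 = n - 3 + 1 by omega, pow_succ', h.ct_even]

theorem two_mul_card_le [Finite G] {H K : Subgroup G} (h : H ≤ K) {x : G} (hx : x ∈ K) (hxH : x ∉ H) :
    2 * Nat.card H ≤ Nat.card K := by
  obtain ⟨k, hk⟩ := Subgroup.card_dvd_of_le h
  have h0 : 0 < Nat.card K := Nat.card_pos
  have h1 : k ≠ 0 := by rintro rfl; rw [mul_zero] at hk; omega
  have h2 : k ≠ 1 := by
    rintro rfl
    rw [mul_one] at hk
    have := Subgroup.eq_of_le_of_card_ge h (by rw [hk])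
    exact hxH (this ▸ hx)
  rw [hk, mul_comm 2]
  exact Nat.mul_le_mul_left _ (by omega)

theorem shiftb (h : DData t c b n S D) (j : ℕ) : DData t c (c ^ j * b) n S D := by
  induction j with
  | zero => rw [pow_zero, one_mul]; exact h
  | succ j ih =>
    have := ih.swapb
    rwa [← mul_assoc, ← pow_succ'] at this

/-- the centraliser in `S` of `b` -/
theorem cent_b (h : DData t c b n S D) {q : G} (hq : q ∈ S) (hb : q * b = b * q) :
    q = 1 ∨ q = z c n ∨ q = b ∨ q = z c n * b ∨ q = t ∨ q = t * z c n ∨ q = t * b ∨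
      q = t * (z c n * b) := by
  obtain ⟨d, hd, rfl | rfl⟩ := (h.S_eq q).mp hq
  · rcases h.of_comm_b hd hb with h1 | h1 | h1 | h1 <;> simp [h1]
  · have h2 : d * b = b * d := by
      have h3 := h.tD b h.b_mem
      have h4 : t * (d * b) = t * (b * d) := by
        calc t * (d * b) = t * d * b := by group
          _ = (b * t) * d := by rw [hb]; group
          _ = t * (b * d) := by rw [← h3]; group
      exact mul_left_cancel h4
    rcases h.of_comm_b hd h2 with h1 | h1 | h1 | h1 <;> simp [h1]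

theorem card_cent_b (h : DData t c b n S D) [Finite G] {Q : Subgroup G} (hQ : Q ≤ S)
    (hc : ∀ q ∈ Q, q * b = b * q) : Nat.card Q ≤ 8 := by
  classical
  have h1 : (Q : Set G) ⊆ (({1, z c n, b, z c n * b, t, t * z c n, t * b, t * (z c n * b)} : Finset G) :
      Set G) := by
    intro q hq
    simpa using h.cent_b (hQ hq) (hc q hq)
  calc Nat.card Q = (Q : Set G).ncard := rfl
    _ ≤ _ := Set.ncard_le_ncard h1 (Finset.finite_toSet _)
    _ ≤ 8 := by
      rw [Set.ncard_coe_finset]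
      exact (Finset.card_insert_le _ _).trans (Nat.succ_le_succ
        ((Finset.card_insert_le _ _).trans (Nat.succ_le_succ Finset.card_le_six)))

/-- the centraliser in `S` of a noncentral involution of `S` has order at most eight -/
theorem card_cent_le [Finite G] (h : DData t c b n S D) {x : G} (hx : x ∈ S) (hxx : x * x = 1)
    (h1 : x ≠ 1) (ht : x ≠ t) (hz : x ≠ z c n) (htz : x ≠ t * z c n) {Q : Subgroup G} (hQ : Q ≤ S)
    (hc : ∀ q ∈ Q, q * x = x * q) : Nat.card Q ≤ 8 := by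
  obtain ⟨d, hd, hxd⟩ := (h.S_eq x).mp hx
  have hdd : d * d = 1 := by
    rcases hxd with rfl | rfl
    · exact hxx
    · have h2 := h.tD d hd
      calc d * d = (t * t) * (d * d) := by rw [h.t_sq, one_mul]
        _ = t * (t * d) * d := by group
        _ = t * (d * t) * d := by rw [h2]
        _ = t * d * (t * d) := by group
        _ = 1 := hxx
  have hd1 : d ≠ 1 := by
    rintro rfl
    rcases hxd with hxd | hxd
    · exact h1 hxd
    · rw [mul_one] at hxd; exact ht hxd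
  have hdz : d ≠ z c n := by
    rintro rfl
    rcases hxd with hxd | hxd
    · exact hz hxd
    · exact htz hxd
  obtain ⟨k, hk⟩ := (h.D_eq d).mp hd
  have hk' : d = c ^ k * b := by
    rcases hk with rfl | hk
    · rcases h.pow_sq hdd with h2 | h2
      · exact absurd h2 hd1
      · exact absurd h2 hdz
    · exact hk
  refine (h.shiftb k).card_cent_b hQ ?_
  intro q hq
  rw [← hk']
  have hqx := hc q hq
  rcases hxd with rfl | rfl
  · exact hqx
  · have h2 : q * t = t * q := mem_centralizer_singleton_iff.mp (h.syl.le (hQ hq))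
    have h3 : t * (q * d) = t * (d * q) := by
      calc t * (q * d) = (t * q) * d := by group
        _ = q * (t * d) := by rw [← h2]; group
        _ = t * (d * q) := by rw [hqx]; group
    exact mul_left_cancel h3

/-- (0.1), `T = S`: no simple group has the Sylow 2-subgroup `⟨t⟩ × D`. -/
theorem not_syl [Finite G] (h : DData t c b n S D) (hTT : TT t)
    (hb : ∃ g : G, g * b * g⁻¹ = z c n) : ¬ IsSyl2 ⊤ S := by
  intro hs
  have hn := h.n_ge
  -- `t ~ cb` and `t ~ tcb`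
  obtain ⟨g₀, hg₀⟩ := h.conj_cb hs hTT hb
  obtain ⟨g₁, hg₁⟩ := h.twist.conj_cb hs hTT (by rw [h.z_twist]; exact hb)
  have hcen := h.cen
  set o := c * b with ho
  have hcb : c * t * b = t * o := by rw [h.tc.eq, mul_assoc]
  rw [hcb] at hg₁
  have h' := h.swapb
  rw [← ho] at h'
  have hoD : o ∈ D := h'.b_mem
  have hoS : o ∈ S := h.D_le hoD
  -- `t ~ zo` and `t ~ tzo`
  have hzo : c ^ 2 ^ (n - 3) * o * (c ^ 2 ^ (n - 3))⁻¹ = z c n * o := by
    rw [← h'.conj_even, ← pow_succ', show n - 3 + 1 = n - 2 by omega]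
  have ct_zo : ∃ g : G, g * t * g⁻¹ = z c n * o := by
    refine ⟨c ^ 2 ^ (n - 3) * g₀, ?_⟩
    rw [← hzo, ← hg₀]; group
  have ct_tzo : ∃ g : G, g * t * g⁻¹ = t * (z c n * o) := by
    refine ⟨c ^ 2 ^ (n - 3) * g₁, ?_⟩
    have h1 : c ^ 2 ^ (n - 3) * t = t * c ^ 2 ^ (n - 3) := (h.tD _ (D.pow_mem h.c_mem _)).symm
    calc c ^ 2 ^ (n - 3) * g₁ * t * (c ^ 2 ^ (n - 3) * g₁)⁻¹
        = c ^ 2 ^ (n - 3) * (g₁ * t * g₁⁻¹) * (c ^ 2 ^ (n - 3))⁻¹ := by group
      _ = (c ^ 2 ^ (n - 3) * t) * o * (c ^ 2 ^ (n - 3))⁻¹ := by rw [hg₁]; group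
      _ = t * (z c n * o) := by rw [h1, ← hzo]; group
  -- elements of `S ∩ C(o)` are `1, z, tz` or conjugate to `t`
  have hE : ∀ q ∈ S, q * o = o * q → q = 1 ∨ q = z c n ∨ q = t * z c n ∨ ∃ g : G, g * t * g⁻¹ = q := by
    intro q hq hqo
    rcases h'.cent_b hq hqo with h1 | h1 | h1 | h1 | h1 | h1 | h1 | h1
    · exact Or.inl h1
    · exact Or.inr (Or.inl h1)
    · exact Or.inr (Or.inr (Or.inr ⟨g₀, by rw [hg₀, h1]⟩))
    · obtain ⟨g, hg⟩ := ct_zo
      exact Or.inr (Or.inr (Or.inr ⟨g, by rw [hg, h1]⟩))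
    · exact Or.inr (Or.inr (Or.inr ⟨1, by rw [h1]; group⟩))
    · exact Or.inr (Or.inr (Or.inl h1))
    · exact Or.inr (Or.inr (Or.inr ⟨g₁, by rw [hg₁, h1]⟩))
    · obtain ⟨g, hg⟩ := ct_tzo
      exact Or.inr (Or.inr (Or.inr ⟨g, by rw [hg, h1]⟩))
  -- a Sylow 2-subgroup of `C(o)` containing `E'`
  set E' : Subgroup G := S ⊓ centralizer ({o} : Set G) with hE'
  obtain ⟨S₂, hS₂, hle⟩ := exists_isSyl2 (centralizer ({o} : Set G)) E' inf_le_right
    (h.syl.two.to_le inf_le_left)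
  have hcard : Nat.card S₂ = Nat.card S := by
    have h1 : IsSyl2 (centralizer ({o} : Set G)) (cj g₀ S) := by
      have h2 : cj g₀ (centralizer ({t} : Set G)) = centralizer ({o} : Set G) := by
        rw [cj_centralizer_singleton, hg₀]
      refine ⟨h2 ▸ cj_mono h.syl.le, h.syl.two.map _, ?_⟩
      intro Y hY hY2 hle'
      have h3 := h.syl.max (cj g₀⁻¹ Y) (by
        have := cj_mono (g := g₀⁻¹) hY
        rw [← h2, cj_inv_cj] at this
        exact this) (hY2.map _) (by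
        have := cj_mono (g := g₀⁻¹) hle'
        rwa [cj_inv_cj] at this)
      rw [← h3, cj_cj_inv]
    obtain ⟨m, -, hm⟩ := IsSyl2.conj h1 hS₂
    rw [hm]
    exact (card_cj m _).trans (card_cj g₀ S)
  have hne : S₂ ≠ E' := by
    intro hc
    have h1 : E' = S := Subgroup.eq_of_le_of_card_ge inf_le_left (by rw [← hc, hcard])
    have h2 : c ∈ E' := h1 ▸ h.D_le h.c_mem
    have h3 : c * o = o * c := mem_centralizer_singleton_iff.mp h2.2
    have h4 := h'.b_pow 1
    rw [pow_one] at h4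
    rw [h4, mul_left_inj] at h3
    apply h.c_sq_ne
    nth_rewrite 1 [h3]
    exact inv_mul_cancel c
  obtain ⟨w, hwS, hwE, hwn⟩ := exists_normalizing hS₂.two hle hne
  have hwo : w * o = o * w := mem_centralizer_singleton_iff.mp (hS₂.le hwS)
  have mE : ∀ q : G, q ∈ E' ↔ q ∈ S ∧ q * o = o * q := fun q => by
    rw [hE', mem_inf, mem_centralizer_singleton_iff]
  have htE : t ∈ E' := (mE t).mpr ⟨h.t_mem, h.tD o hoD⟩
  have hzE : z c n ∈ E' := (mE _).mpr ⟨h.D_le h.z_mem, (h.z_comm o hoD).symm⟩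
  have hoE : o ∈ E' := (mE o).mpr ⟨hoS, rfl⟩
  -- `w` fixes `z`
  have hwz : w * z c n * w⁻¹ = z c n := by
    have h1 := (mE _).mp (hwn _ hzE)
    rcases hE _ h1.1 h1.2 with h2 | h2 | h2 | ⟨g, h2⟩
    · exact absurd h2 (Cen.conj_ne h.z_ne)
    · exact h2
    · exact absurd h2 (hcen.not_conj_z hs w)
    · refine absurd ?_ (hcen.not_conj (w⁻¹ * g))
      calc w⁻¹ * g * t * (w⁻¹ * g)⁻¹ = w⁻¹ * (g * t * g⁻¹) * w := by group
        _ = z c n := by rw [h2]; group
  -- `w` fixes `t z`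
  have hwtz : w * (t * z c n) * w⁻¹ = t * z c n := by
    have h1 := (mE _).mp (hwn _ (E'.mul_mem htE hzE))
    rcases hE _ h1.1 h1.2 with h2 | h2 | h2 | ⟨g, h2⟩
    · exact absurd h2 (Cen.conj_ne (fun hc => hcen.tz_notin (hc ▸ D.one_mem)))
    · exfalso
      have h3 : w * (t * z c n) * w⁻¹ = w * z c n * w⁻¹ := by rw [h2, hwz]
      have h4 := mul_left_cancel (mul_right_cancel h3)
      exact h.t_ne (mul_eq_right.mp h4)
    · exact h2
    · refine absurd ?_ (hcen.not_conj_mul hs (w⁻¹ * g))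
      calc w⁻¹ * g * t * (w⁻¹ * g)⁻¹ = w⁻¹ * (g * t * g⁻¹) * w := by group
        _ = t * z c n := by rw [h2]; group
  have hwt : w * t = t * w := by
    have h1 : w * t * w⁻¹ = t := by
      have h2 : w * (t * z c n) * w⁻¹ = (w * t * w⁻¹) * (w * z c n * w⁻¹) := by group
      rw [hwtz, hwz] at h2
      exact (mul_right_cancel h2).symm
    rwa [mul_inv_eq_iff_eq_mul] at h1
  have hwz' : w * z c n = z c n * w := by rwa [mul_inv_eq_iff_eq_mul] at hwz
  -- the 2-group `Q = S₂ ∩ C(t) ∩ C(z)`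
  set Q : Subgroup G := S₂ ⊓ centralizer ({t} : Set G) with hQ
  obtain ⟨S₃, hS₃, hle₃⟩ := exists_isSyl2 (centralizer ({t} : Set G)) Q inf_le_right
    (hS₂.two.to_le inf_le_left)
  obtain ⟨m, hm, hSm⟩ := IsSyl2.conj h.syl hS₃
  have hmt : m * t = t * m := mem_centralizer_singleton_iff.mp hm
  have hEQ : E' ≤ Q := by
    intro q hq
    exact ⟨hle hq, h.syl.le ((mE q).mp hq).1⟩
  have hwQ : w ∈ Q := ⟨hwS, mem_centralizer_singleton_iff.mpr hwt⟩
  have hQS : ∀ q ∈ Q, m⁻¹ * q * m ∈ S := by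
    intro q hq
    have h1 : q ∈ cj m S := by
      have := hle₃ hq
      rw [hSm] at this
      exact this
    exact mem_cj.mp h1
  -- order of `E'` and of `Q`
  have hcE : 8 ≤ Nat.card E' := by
    set Z₁ : Subgroup G := zpowers (z c n) with hZ₁
    set Z₂ : Subgroup G := S ⊓ centralizer (S : Set G) with hZ₂
    have c1 : Nat.card Z₁ = 2 := by
      rw [hZ₁, Nat.card_zpowers]
      exact orderOf_eq_prime (by rw [pow_two]; exact h.z_sq) h.z_ne
    have m1 : z c n ∈ Z₂ := ⟨h.D_le h.z_mem, mem_centralizer_iff.mpr fun s hs' => hcen.zS s hs'⟩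
    have m2 : t ∈ Z₂ := ⟨h.t_mem, mem_centralizer_iff.mpr fun s hs' => hcen.tS s hs'⟩
    have m3 : t ∉ Z₁ := fun hc => h.t_notin ((zpowers_le.mpr h.z_mem) hc)
    have l1 : Z₁ ≤ Z₂ := zpowers_le.mpr m1
    have l2 : Z₂ ≤ E' := by
      intro x hx
      exact (mE x).mpr ⟨hx.1, (mem_centralizer_iff.mp hx.2 o hoS).symm⟩
    have m4 : o ∉ Z₂ := by
      intro hc
      have h3 : c * o = o * c := mem_centralizer_iff.mp hc.2 c (h.D_le h.c_mem)
      have h4 := h'.b_pow 1
      rw [pow_one] at h4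
      rw [h4, mul_left_inj] at h3
      apply h.c_sq_ne
      nth_rewrite 1 [h3]
      exact inv_mul_cancel c
    have h1 := two_mul_card_le l1 m2 m3
    have h2 := two_mul_card_le l2 hoE m4
    omega
  have hcQ : 16 ≤ Nat.card Q := by
    have := two_mul_card_le hEQ hwQ hwE
    omega
  -- the image of `o` in `S`
  set x := m⁻¹ * o * m with hx
  have hxt : ∃ g : G, g * t * g⁻¹ = x := ⟨m⁻¹ * g₀, by rw [hx, ← hg₀]; group⟩
  have hle8 : Nat.card (cj m⁻¹ Q) ≤ 8 := by
    refine h.card_cent_le (x := x) (hQS o (hEQ hoE)) ?_ ?_ ?_ ?_ ?_ ?_ ?_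
    · rw [hx]
      calc m⁻¹ * o * m * (m⁻¹ * o * m) = m⁻¹ * (o * o) * m := by group
        _ = 1 := by rw [h'.b_sq]; group
    · obtain ⟨g, hg⟩ := hxt
      rw [← hg]; exact Cen.conj_ne h.t_ne
    · intro hc
      have h1 : o = t := by
        have h2 : o = m * x * m⁻¹ := by rw [hx]; group
        rw [h2, hc, hmt]; group
      exact h.t_notin (h1 ▸ hoD)
    · obtain ⟨g, hg⟩ := hxt
      rw [← hg]; exact hcen.not_conj g
    · obtain ⟨g, hg⟩ := hxt
      rw [← hg]; exact hcen.not_conj_mul hs g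
    · rintro _ ⟨q, hq, rfl⟩
      have := hQS q hq
      simpa using this
    · intro q hq
      rw [mem_cj, inv_inv] at hq
      have h1 : (m * q * m⁻¹) * o = o * (m * q * m⁻¹) :=
        mem_centralizer_singleton_iff.mp (hS₂.le hq.1)
      rw [hx]
      calc q * (m⁻¹ * o * m) = m⁻¹ * ((m * q * m⁻¹) * o) * m := by group
        _ = m⁻¹ * (o * (m * q * m⁻¹)) * m := by rw [h1]
        _ = m⁻¹ * o * m * q := by group
  rw [card_cj] at hle8
  omega

end DData

/-! ### type (III): `S/D` cyclic of order four -/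

/-- (0.1), `T = S`, type (III). -/
theorem Cen.not_syl_of_cyclic {t z : G} {S D : Subgroup G} (h : Cen t z S D) (h4 : D.relIndex S = 4)
    (hc : ∃ y ∈ S, ∀ x ∈ S, ∃ k : ℕ, x * y ^ k ∈ D)
    (hi : ∀ d ∈ D, d * d = 1 → d ≠ 1 → ∃ g : G, g * d * g⁻¹ = z) (hTC : TC t) [Finite G] :
    ¬ IsSyl2 ⊤ S := by
  intro hs
  obtain ⟨g, hg⟩ := hTC S D hs h.D_le (fun x hx u hu => by
    have := D.mul_mem (h.comm x hx u (h.D_le hu)) hu
    rwa [inv_mul_cancel_right] at this) h4 hc h.t_mem h.t_notin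
  obtain ⟨x, hx⟩ := hi _ hg (Cen.sq_conj h.t_sq) (Cen.conj_ne h.t_ne)
  refine h.not_conj (x * g) ?_
  rw [← hx]; group

/-! ### `S` elementary abelian of order eight -/

/-- type (I, d = 2): `S = ⟨t⟩ × V` -/
structure EData (t h : G) (V S : Subgroup G) : Prop where
  t_sq : t * t = 1
  t_notin : t ∉ V
  elem : Elem V
  card_V : Nat.card V = 4
  h_cube : h * h * h = 1
  ht : h * t = t * h
  hV : ∀ v ∈ V, h * v * h⁻¹ ∈ V
  fpfV : ∀ v ∈ V, h * v = v * h → v = 1
  tV : ∀ v ∈ V, t * v = v * t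
  S_eq : ∀ g : G, g ∈ S ↔ ∃ v ∈ V, g = v ∨ g = t * v
  syl : IsSyl2 (centralizer ({t} : Set G)) S

namespace EData

variable {t h : G} {V S : Subgroup G}

theorem V_le (D : EData t h V S) : V ≤ S := fun v hv => (D.S_eq v).mpr ⟨v, hv, Or.inl rfl⟩

theorem t_mem (D : EData t h V S) : t ∈ S := (D.S_eq t).mpr ⟨1, V.one_mem, Or.inr (mul_one t).symm⟩

theorem comm (D : EData t h V S) {a b : G} (ha : a ∈ S) (hb : b ∈ S) : a * b = b * a := by
  have key : Elem S := by
    intro x hx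
    obtain ⟨v, hv, rfl | rfl⟩ := (D.S_eq x).mp hx
    · exact D.elem _ hv
    · calc t * v * (t * v) = (t * v) * t * v := by group
        _ = (v * t) * t * v := by rw [D.tV v hv]
        _ = v * (t * t) * v := by group
        _ = 1 := by rw [D.t_sq, mul_one, D.elem v hv]
  exact key.comm ha hb

theorem hS (D : EData t h V S) : ∀ s ∈ S, h * s * h⁻¹ ∈ S := by
  intro s hs
  obtain ⟨v, hv, rfl | rfl⟩ := (D.S_eq s).mp hs
  · exact D.V_le (D.hV _ hv)
  · have e : h * (t * v) * h⁻¹ = t * (h * v * h⁻¹) := by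
      calc h * (t * v) * h⁻¹ = (h * t) * v * h⁻¹ := by group
        _ = t * (h * v * h⁻¹) := by rw [D.ht]; group
    rw [e]
    exact (D.S_eq _).mpr ⟨_, D.hV _ hv, Or.inr rfl⟩

/-- `h` is transitive on `V#` -/
theorem trans [Finite G] (D : EData t h V S) {v w : G} (hv : v ∈ V) (hv1 : v ≠ 1) (hw : w ∈ V) (hw1 : w ≠ 1) :
    w = v ∨ w = h * v * h⁻¹ ∨ w = h * (h * v * h⁻¹) * h⁻¹ := by
  classical
  set v1 := h * v * h⁻¹ with e1
  set v2 := h * v1 * h⁻¹ with e2
  have m1 : v1 ∈ V := D.hV _ hv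
  have m2 : v2 ∈ V := D.hV _ m1
  have n1 : v1 ≠ 1 := Cen.conj_ne hv1
  have n2 : v2 ≠ 1 := Cen.conj_ne n1
  have f : ∀ u ∈ V, u ≠ 1 → h * u * h⁻¹ ≠ u := fun u hu hu1 hc =>
    hu1 (D.fpfV u hu (mul_inv_eq_iff_eq_mul.mp hc))
  have n3 : v1 ≠ v := f v hv hv1
  have n4 : v2 ≠ v1 := f v1 m1 n1
  have n5 : v2 ≠ v := by
    intro hc
    have h3 : h * v2 * h⁻¹ = v := by
      calc h * v2 * h⁻¹ = (h * h * h) * v * (h * h * h)⁻¹ := by rw [e2, e1]; group
        _ = v := by rw [D.h_cube]; group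
    rw [hc] at h3
    exact f v hv hv1 h3
  by_contra hcon
  push Not at hcon
  obtain ⟨k1, k2, k3⟩ := hcon
  have hsub : (({1, v, v1, v2, w} : Finset G) : Set G) ⊆ (V : Set G) := by
    intro x hx
    simp only [Finset.coe_insert, Finset.coe_singleton, Set.mem_insert_iff, Set.mem_singleton_iff] at hx
    rcases hx with rfl | rfl | rfl | rfl | rfl
    · exact V.one_mem
    · exact hv
    · exact m1
    · exact m2
    · exact hw
  have hc5 : ({1, v, v1, v2, w} : Finset G).card = 5 := by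
    rw [Finset.card_insert_of_notMem, Finset.card_insert_of_notMem, Finset.card_insert_of_notMem,
      Finset.card_insert_of_notMem, Finset.card_singleton]
    · simp only [Finset.mem_singleton]; exact k3.symm
    · simp only [Finset.mem_insert, Finset.mem_singleton, not_or]; exact ⟨n4.symm, k2.symm⟩
    · simp only [Finset.mem_insert, Finset.mem_singleton, not_or]; exact ⟨n3.symm, n5.symm, k1.symm⟩
    · simp only [Finset.mem_insert, Finset.mem_singleton, not_or]
      exact ⟨hv1.symm, n1.symm, n2.symm, hw1.symm⟩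
  have h5 := Set.ncard_le_ncard hsub (Set.toFinite _)
  rw [Set.ncard_coe_finset, hc5] at h5
  have h6 : (V : Set G).ncard = 4 := D.card_V
  omega

/-- conjugates of `t` under `N(S)` -/
def P (t : G) (S : Subgroup G) (x : G) : Prop := ∃ n : G, (∀ s ∈ S, n * s * n⁻¹ ∈ S) ∧ n * t * n⁻¹ = x

theorem P.conj {x m : G} (hx : P t S x) (hm : ∀ s ∈ S, m * s * m⁻¹ ∈ S) : P t S (m * x * m⁻¹) := by
  obtain ⟨n, hn, rfl⟩ := hx
  refine ⟨m * n, fun s hs => ?_, by group⟩
  have e : m * n * s * (m * n)⁻¹ = m * (n * s * n⁻¹) * m⁻¹ := by group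
  rw [e]
  exact hm _ (hn _ hs)

theorem P_V [Finite G] (D : EData t h V S) {v : G} (hv : v ∈ V) (hv1 : v ≠ 1) (hP : P t S v) {w : G}
    (hw : w ∈ V) (hw1 : w ≠ 1) : P t S w := by
  rcases D.trans hv hv1 hw hw1 with rfl | rfl | rfl
  · exact hP
  · exact hP.conj D.hS
  · exact (hP.conj D.hS).conj D.hS

theorem P_tV [Finite G] (D : EData t h V S) {v : G} (hv : v ∈ V) (hv1 : v ≠ 1) (hP : P t S (t * v)) {w : G}
    (hw : w ∈ V) (hw1 : w ≠ 1) : P t S (t * w) := by
  have e : ∀ u : G, h * (t * u) * h⁻¹ = t * (h * u * h⁻¹) := by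
    intro u
    calc h * (t * u) * h⁻¹ = (h * t) * u * h⁻¹ := by group
      _ = t * (h * u * h⁻¹) := by rw [D.ht]; group
  rcases D.trans hv hv1 hw hw1 with rfl | rfl | rfl
  · exact hP
  · rw [← e]; exact hP.conj D.hS
  · rw [← e, ← e]; exact (hP.conj D.hS).conj D.hS

/-- (0.1) in type (I, d = 2): `t` is not conjugate into `V` -/
theorem not_conj [Finite G] (D : EData t h V S) (hs : ¬ IsSyl2 ⊤ S) (g : G) : g * t * g⁻¹ ∉ V := by
  intro hg
  have ht1 : t ≠ 1 := fun hc => D.t_notin (hc ▸ V.one_mem)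
  set v := g * t * g⁻¹ with hv
  have hv1 : v ≠ 1 := Cen.conj_ne ht1
  -- `v` is `N(S)`-conjugate to `t`
  have hPv : P t S v := by
    have h1 : g⁻¹ * v * g⁻¹⁻¹ = t := by rw [hv]; group
    obtain ⟨n, hn, hnv⟩ := burnside D.syl (fun s hs' => D.comm hs' (D.V_le hg)) h1
    refine ⟨n⁻¹, fun s hs' => ?_, by rw [← hnv]; group⟩
    have := Cen.conj_back hn s hs'
    rwa [inv_inv]
  obtain ⟨T, hT, hle⟩ := exists_isSyl2 ⊤ S le_top D.syl.two
  have hne : T ≠ S := fun hc => hs (hc ▸ hT)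
  obtain ⟨x, hxT, hxS, hxn⟩ := exists_normalizing hT.two hle hne
  have hxt : x * t * x⁻¹ ≠ t := by
    intro hc
    have h1 : x ∈ centralizer ({t} : Set G) := by
      rw [mem_centralizer_singleton_iff]
      rw [mul_inv_eq_iff_eq_mul] at hc
      exact hc
    have h2 : T ⊓ centralizer ({t} : Set G) = S := D.syl.max _ inf_le_right
      (hT.two.to_le inf_le_left) (le_inf hle D.syl.le)
    exact hxS (h2 ▸ ⟨hxT, h1⟩)
  have hPt : P t S t := ⟨1, fun s hs' => by simpa using hs', by group⟩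
  have hPxt : P t S (x * t * x⁻¹) := hPt.conj hxn
  by_cases hA : ∃ w ∈ V, w ≠ 1 ∧ P t S (t * w)
  · -- all involutions of `S` are conjugate to `t`
    obtain ⟨w, hw, hw1, hPw⟩ := hA
    have hall : ∀ u ∈ S, u ≠ 1 → P t S u := by
      intro u hu hu1
      obtain ⟨a, ha, rfl | rfl⟩ := (D.S_eq u).mp hu
      · exact D.P_V hg hv1 hPv ha hu1
      · by_cases ha1 : a = 1
        · rw [ha1, mul_one]; exact hPt
        · exact D.P_tV hw hw1 hPw ha ha1
    set T₂ : Subgroup G := T ⊓ normalizer (S : Set G) with hT₂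
    have hT₂2 : IsPGroup 2 T₂ := hT.two.to_le inf_le_left
    have hST₂ : S ≤ T₂ := le_inf hle le_normalizer
    obtain ⟨u, huS, hu1, huc⟩ := exists_central hT₂2 hST₂
      (fun y hy s hs' => forall_of_mem_normalizer hy.2 s hs') (by
        intro hc
        have := D.t_mem
        rw [hc, mem_bot] at this
        exact ht1 this)
    obtain ⟨n, hn, hnu⟩ := hall u huS hu1
    have h1 : cj n⁻¹ T₂ ≤ centralizer ({t} : Set G) := by
      intro y hy
      rw [mem_cj, inv_inv] at hy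
      rw [mem_centralizer_singleton_iff]
      have h2 := huc _ hy
      have e : t = n⁻¹ * u * n := by rw [← hnu]; group
      calc y * t = n⁻¹ * ((n * y * n⁻¹) * u) * n := by rw [e]; group
        _ = n⁻¹ * (u * (n * y * n⁻¹)) * n := by rw [h2]
        _ = t * y := by rw [e]; group
    obtain ⟨S₃, hS₃, hle₃⟩ := exists_isSyl2 _ _ h1 (hT₂2.map _)
    obtain ⟨m, -, hm⟩ := IsSyl2.conj D.syl hS₃
    have hc1 : Nat.card S₃ = Nat.card S := by rw [hm]; exact card_cj m S
    have hc2 : Nat.card T₂ ≤ Nat.card S₃ := by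
      rw [← card_cj n⁻¹ T₂]; exact Subgroup.card_le_of_le hle₃
    have hc3 := DData.two_mul_card_le hST₂ (x := x) ⟨hxT, mem_normalizer_of_forall hxn⟩ hxS
    have : 0 < Nat.card S := Nat.card_pos
    omega
  · -- `x` normalises `V`
    push Not at hA
    have key : ∀ u ∈ V, u ≠ 1 → x * u * x⁻¹ = t ∨ x * u * x⁻¹ ∈ V := by
      intro u hu hu1
      have h1 := (D.P_V hg hv1 hPv hu hu1).conj hxn
      obtain ⟨a, ha, h2 | h2⟩ := (D.S_eq _).mp (hxn u (D.V_le hu))
      · right; rw [h2]; exact ha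
      · left
        by_cases ha1 : a = 1
        · rw [h2, ha1, mul_one]
        · rw [h2] at h1
          exact absurd h1 (hA a ha ha1)
    have hxV : ∀ u ∈ V, x * u * x⁻¹ ∈ V := by
      intro u hu
      by_cases hu1 : u = 1
      · rw [hu1, mul_one, mul_inv_cancel]; exact V.one_mem
      · rcases key u hu hu1 with h1 | h1
        · exfalso
          set u' := h * u * h⁻¹ with hu'
          have m1 : u' ∈ V := D.hV _ hu
          have n1 : u' ≠ 1 := Cen.conj_ne hu1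
          have n2 : u' ≠ u := fun hc => hu1 (D.fpfV u hu (mul_inv_eq_iff_eq_mul.mp hc))
          have inj : ∀ a : G, x * a * x⁻¹ = x * u * x⁻¹ → a = u := fun a ha =>
            mul_left_cancel (mul_right_cancel ha)
          have h2 : x * u' * x⁻¹ ∈ V := by
            rcases key u' m1 n1 with h3 | h3
            · exact absurd (inj u' (h3.trans h1.symm)) n2
            · exact h3
          have h3 : x * (u * u') * x⁻¹ ∈ V := by
            have hne' : u * u' ≠ 1 := by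
              intro hc
              apply n2
              have h4 : u * u' = u * u := by rw [hc, D.elem u hu]
              exact mul_left_cancel h4
            rcases key _ (V.mul_mem hu m1) hne' with h4 | h4
            · have := inj _ (h4.trans h1.symm)
              exact absurd (mul_eq_left.mp this) n1
            · exact h4
          have h4 : x * u * x⁻¹ = (x * (u * u') * x⁻¹) * (x * u' * x⁻¹)⁻¹ := by group
          apply D.t_notin
          rw [← h1, h4]
          exact V.mul_mem h3 (V.inv_mem h2)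
        · exact h1
    obtain ⟨a, ha, h2 | h2⟩ := (D.S_eq _).mp (hxn t D.t_mem)
    · apply D.t_notin
      have h3 := Cen.conj_back hxV a ha
      rw [← h2] at h3
      have e : x⁻¹ * (x * t * x⁻¹) * x = t := by group
      rwa [e] at h3
    · by_cases ha1 : a = 1
      · exact hxt (by rw [h2, ha1, mul_one])
      · rw [h2] at hPxt
        exact hA a ha ha1 hPxt

/-- in type (I, d = 2): `t` is conjugate to some `tw`, `w ∈ V#` -/
theorem exists_conj [Finite G] (D : EData t h V S) (hs : ¬ IsSyl2 ⊤ S) :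
    ∃ x : G, (∀ s ∈ S, x * s * x⁻¹ ∈ S) ∧ (∃ k : ℕ, x ^ 2 ^ k = 1) ∧ ∃ w ∈ V, w ≠ 1 ∧ x * t * x⁻¹ = t * w := by
  obtain ⟨T, hT, hle⟩ := exists_isSyl2 ⊤ S le_top D.syl.two
  have hne : T ≠ S := fun hc => hs (hc ▸ hT)
  obtain ⟨x, hxT, hxS, hxn⟩ := exists_normalizing hT.two hle hne
  refine ⟨x, hxn, ?_, ?_⟩
  · obtain ⟨k, hk⟩ := hT.two ⟨x, hxT⟩
    exact ⟨k, congrArg Subtype.val hk⟩
  · obtain ⟨a, ha, h2 | h2⟩ := (D.S_eq _).mp (hxn t D.t_mem)
    · exact absurd (h2 ▸ ha) (D.not_conj hs x)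
    · refine ⟨a, ha, ?_, h2⟩
      rintro rfl
      rw [mul_one] at h2
      have h1 : x ∈ centralizer ({t} : Set G) := by
        rw [mem_centralizer_singleton_iff]
        rw [mul_inv_eq_iff_eq_mul] at h2
        exact h2
      have h3 : T ⊓ centralizer ({t} : Set G) = S := D.syl.max _ inf_le_right
        (hT.two.to_le inf_le_left) (le_inf hle D.syl.le)
      exact hxS (h3 ▸ ⟨hxT, h1⟩)

end EData

end Cfsg.Agent.OddCyclic.B2Start
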