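import Cfsg.Agent.OddCyclic.CompStandard

/-!
# S0342, component type: uniqueness

Section 2 of blueprints/S0342-component.md, from the abstract hypothesis `Pump p K`: `K` is not
properly contained in a quasisimple subgroup `J` such that `K` is a component of `C_J(t)` for some
involution `t` normalizing `J`.

* `Std.le_of_pump` (2.1): proper subgroups containing `K` and an involution of `C(K)` lie in
  `N(K)`.
* `Std.normalizer_zpowers_le`, `Std.inf_cj_eq_bot` (2.2), `Std.inverts` (2.3) for odd order subgroups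
  `O ≤ C(K)` normal in `N(K)`, for example `OY K = O(C(K))`.
-/

set_option autoImplicit false

namespace Cfsg.Agent.OddCyclic.CompStandard

open Subgroup Cfsg
open Cfsg.Agent.OddCyclic.T1Defs Cfsg.Agent.OddCyclic.CompBasic
open Cfsg.Agent.LieExceptional Cfsg.Agent.LieExceptional.CITDefs
open Cfsg.Agent.LieExceptional.CITBasic

variable {G : Type*} [Group G]

/-- `K` cannot be pumped up: if `J ≠ G` is quasisimple and normalized by the involution `t`,
and `K` is a component of `C_J(t)`, then `J = K`. -/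
def Pump (K : Subgroup G) : Prop :=
  ∀ (t : G) (J : Subgroup G), orderOf t = 2 → J ≠ ⊤ → IsQuasisimple J →
    t ∈ normalizer (J : Set G) → K ≤ J → Cmp (J ⊓ centralizer {t}) K →
    t ∉ centralizer (J : Set G) → False

variable [Finite G] {p : ℕ} {K : Subgroup G}

omit [Finite G] in
theorem cmp_self {J : Subgroup G} (hJ : IsQuasisimple J) : Cmp J J := by
  refine ⟨le_rfl, ?_, ?_⟩
  · rw [Subgroup.subgroupOf_self]
    exact Subgroup.IsSubnormal.top
  · exact Cfsg.Agent.SignalizersComponents.Components.isQuasisimple_of_mulEquiv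
      (Subgroup.subgroupOfEquivOfLe le_rfl).symm hJ

/-- A component of a quasisimple group is the whole group. -/
theorem eq_of_cmp_quasi (hG : OddCyc G) {J : Subgroup G} (hJ : IsQuasisimple J) (hK : Cmp J K)
    (hp : p.Prime) (hp2 : p ≠ 2) (hpK : p ∣ Nat.card K) : K = J :=
  hK.eq_of_dvd hG (cmp_self hJ) hp hp2 hpK (hpK.trans (Subgroup.card_dvd_of_le hK.le))

/-- (2.1) -/
theorem Std.le_of_pump (h : Std p K) (hP : Pump K) {J : Subgroup G} (hJ : J ≠ ⊤) (hKJ : K ≤ J)
    {t : G} (ht : orderOf t = 2) (htK : t ∈ centralizer (K : Set G)) (htJ : t ∈ J) :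
    J ≤ normalizer (K : Set G) := by
  have hKt := h.cmp ht htK
  have hz : centralizer (zpowers t : Set G) = centralizer ({t} : Set G) := by
    rw [Subgroup.zpowers_eq_closure, Subgroup.centralizer_closure]
  have h1 : Cmp (J ⊓ centralizer (zpowers t : Set G)) K := by
    rw [hz]
    exact hKt.mono (le_inf hKJ hKt.le) inf_le_right
  have h2 := h1.lbal h.cyc (isPGroup_zpowers ht) (zpowers_le.mpr htJ)
  obtain ⟨L, hL, hpL, hKL⟩ := exists_cmp h.cyc h.quasi h2 h.prime h.ne_two h.dvd
  have hJL : J ≤ normalizer (L : Set G) := hL.le_normalizer h.cyc h.prime h.ne_two hpL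
  have h3 : Cmp (L ⊓ centralizer ({t} : Set G)) K := hKt.mono (le_inf hKL hKt.le) inf_le_right
  have hKeq : K = L := by
    by_cases htL : t ∈ centralizer (L : Set G)
    · have h4 : L ⊓ centralizer ({t} : Set G) = L := by
        rw [inf_eq_left]
        intro x hx
        rw [mem_centralizer_singleton_iff]
        exact mem_centralizer_iff.mp htL x hx
      rw [h4] at h3
      exact eq_of_cmp_quasi h.cyc hL.quasi h3 h.prime h.ne_two h.dvd
    · refine (hP t L ht ?_ hL.quasi (hJL htJ) hKL h3 htL).elim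
      rintro rfl
      exact hJ (top_le_iff.mp hL.le)
  rw [hKeq]; exact hJL

/-- The conjugates of `K` have the same property. -/
theorem Pump.conj (hP : Pump K) (g : G) : Pump (cj g K) := by
  intro t J ht hJ hJq htJ hKJ hK htc
  have e : g⁻¹ * t * g⁻¹⁻¹ = g⁻¹ * t * g := by rw [inv_inv]
  refine hP (g⁻¹ * t * g) (cj g⁻¹ J) ?_ ?_ ?_ ?_ ?_ ?_ ?_
  · rw [← e, orderOf_conj, ht]
  · intro htop
    apply hJ
    rw [← cj_cj_inv g J, htop]
    exact Subgroup.map_top_of_surjective _ (MulAut.conj g).surjective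
  · exact Cfsg.Agent.SignalizersComponents.Components.isQuasisimple_of_mulEquiv
      (J.equivMapOfInjective _ (MulAut.conj g⁻¹).injective) hJq
  · rw [← cj_normalizer, ← e]
    exact conj_mem_cj htJ
  · rw [← cj_inv_cj g K]
    exact cj_mono hKJ
  · have h1 := hK.conj g⁻¹
    have h2 : (J ⊓ centralizer ({t} : Set G)).map (MulAut.conj g⁻¹).toMonoidHom =
        cj g⁻¹ J ⊓ centralizer ({g⁻¹ * t * g} : Set G) := by
      have h3 := cj_inf g⁻¹ J (centralizer ({t} : Set G))
      rw [cj_centralizer_singleton, e] at h3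
      exact h3
    rw [h2] at h1
    have h4 : (cj g K).map (MulAut.conj g⁻¹).toMonoidHom = K := cj_inv_cj g K
    rwa [h4] at h1
  · intro h1
    apply htc
    rw [← cj_centralizer] at h1
    have h2 := mem_cj.mp h1
    have e2 : g⁻¹⁻¹ * (g⁻¹ * t * g) * g⁻¹ = t := by group
    rwa [e2] at h2

omit [Finite G] in
theorem mem_normalizer_zpowers [Finite G] {P : Subgroup G} [IsCyclic P] {x n : G} (hx : x ∈ P)
    (hn : n ∈ normalizer (P : Set G)) : n ∈ normalizer (zpowers x : Set G) := by
  have h1 : n * x * n⁻¹ ∈ P := forall_of_mem_normalizer hn x hx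
  have h2 : zpowers (⟨n * x * n⁻¹, h1⟩ : P) = zpowers (⟨x, hx⟩ : P) :=
    zpowers_eq_of_cyclic (by rw [Subgroup.orderOf_mk, Subgroup.orderOf_mk, orderOf_conj])
  have h3 := congrArg (Subgroup.map P.subtype) h2
  rw [MonoidHom.map_zpowers, MonoidHom.map_zpowers] at h3
  have h4 : zpowers (n * x * n⁻¹) = zpowers x := h3
  refine mem_normalizer_of_forall ?_
  rintro _ ⟨k, rfl⟩
  have h5 : n * x ^ k * n⁻¹ = (n * x * n⁻¹) ^ k := by rw [conj_zpow]
  show n * x ^ k * n⁻¹ ∈ zpowers x
  rw [h5, ← h4]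
  exact zpow_mem (mem_zpowers _) k

omit [Finite G] in
/-- If `A` supplements the normal subgroup `N` of odd order and `|G|` is even, so is `|A|`. -/
theorem even_of_sup [Finite G] {A N : Subgroup G} [N.Normal] (h : A ⊔ N = ⊤) (hN : Odd (Nat.card N))
    (hG : Even (Nat.card G)) : Even (Nat.card A) := by
  have h1 : Nat.card G = Nat.card N * N.index := (Subgroup.card_mul_index N).symm
  have h2 : N.index = N.relIndex A := by
    rw [← relIndex_sup_right, h, relIndex_top_right]
  have h3 : N.relIndex A ∣ Nat.card A := by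
    rw [relIndex]
    exact Subgroup.index_dvd_card _
  rw [h1, Nat.even_mul] at hG
  rcases hG with h4 | h4
  · exact absurd h4 (Nat.not_even_iff_odd.mpr hN)
  · rw [even_iff_two_dvd] at h4 ⊢
    rw [h2] at h4
    exact h4.trans h3

/-- An involution of `Y` normalizes `⟨x⟩`, for an element `x` of prime order of the normal odd order
subgroup `O` of `Y`. -/
theorem exists_involution_normalizer (hG : OddCyc G) {Y O : Subgroup G}
    (hY : Even (Nat.card Y)) (hOY : O ≤ Y) (hn : Y ≤ normalizer (O : Set G))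
    (hO : Odd (Nat.card O)) {l : ℕ} (hl : l.Prime) {x : G} (hx : x ∈ O) (hxl : orderOf x = l) :
    ∃ t ∈ Y, orderOf t = 2 ∧ t ∈ normalizer (zpowers x : Set G) := by
  have hlf : Fact l.Prime := ⟨hl⟩
  have hl2 : l ≠ 2 := by
    rintro rfl
    apply Nat.not_even_iff_odd.mpr hO
    exact even_of_mem hx hxl
  have hN : (O.subgroupOf Y).Normal := Subgroup.normal_subgroupOf_of_le_normalizer hn
  have hOc : Nat.card (O.subgroupOf Y) = Nat.card O :=
    Nat.card_congr (Subgroup.subgroupOfEquivOfLe hOY).toEquiv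
  have hxY : x ∈ Y := hOY hx
  have hxO' : (⟨x, hxY⟩ : Y) ∈ O.subgroupOf Y := hx
  have hxp : IsPGroup l (zpowers (⟨⟨x, hxY⟩, hxO'⟩ : O.subgroupOf Y)) :=
    IsPGroup.of_card (n := 1) (by
      rw [Nat.card_zpowers, Subgroup.orderOf_mk, Subgroup.orderOf_mk, hxl, pow_one])
  obtain ⟨P, hP⟩ := hxp.exists_le_sylow
  have h1 := Sylow.normalizer_sup_eq_top P
  have h2 : Even (Nat.card (normalizer ((P : Subgroup (O.subgroupOf Y)).map
      (O.subgroupOf Y).subtype : Set Y))) :=
    even_of_sup h1 (by rw [hOc]; exact hO) hY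
  obtain ⟨⟨t, htY⟩, ht, ht2⟩ := exists_involution h2
  rw [Subgroup.orderOf_mk] at ht2
  refine ⟨t, htY, ht2, ?_⟩
  have hcyc : IsCyclic ((P : Subgroup (O.subgroupOf Y)).map (O.subgroupOf Y).subtype) :=
    isCyclic_of_isPGroup (oddCyc_subgroup hG Y) hl hl2 (P.isPGroup'.map _)
  have h3 : (⟨t, htY⟩ : Y) ∈ normalizer (zpowers (⟨x, hxY⟩ : Y) : Set Y) :=
    mem_normalizer_zpowers (P := (P : Subgroup (O.subgroupOf Y)).map (O.subgroupOf Y).subtype)
      ⟨⟨⟨x, hxY⟩, hxO'⟩, hP (mem_zpowers _), rfl⟩ ht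
  refine mem_normalizer_of_forall ?_
  rintro _ ⟨k, rfl⟩
  have h4 := forall_of_mem_normalizer h3 ((⟨x, hxY⟩ : Y) ^ k) (zpow_mem (mem_zpowers _) k)
  obtain ⟨m, hm⟩ := h4
  exact ⟨m, congrArg Subtype.val hm⟩

/-- (2.2) -/
theorem Std.normalizer_zpowers_le [IsSimpleGroup G] (h : Std p K) (hP : Pump K) {O : Subgroup G}
    (hOK : O ≤ centralizer (K : Set G)) (hOn : normalizer (K : Set G) ≤ normalizer (O : Set G))
    (hO : Odd (Nat.card O)) {l : ℕ} (hl : l.Prime) {x : G} (hx : x ∈ O) (hxl : orderOf x = l) :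
    normalizer (zpowers x : Set G) ≤ normalizer (K : Set G) := by
  have hYe : Even (Nat.card (centralizer (K : Set G))) := by
    obtain ⟨t, ht, hK⟩ := h.ex
    exact even_of_mem (mem_centralizer_of_cmp hK) ht
  obtain ⟨t, htY, ht2, htx⟩ := exists_involution_normalizer h.cyc hYe hOK
    ((centralizer_le_normalizer _).trans hOn) hO hl hx hxl
  have hKx : K ≤ normalizer (zpowers x : Set G) := by
    intro k hk
    refine centralizer_le_normalizer _ ?_
    rw [mem_centralizer_iff]
    rintro _ ⟨n, rfl⟩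
    have h1 : Commute k x := mem_centralizer_iff.mp (hOK hx) k hk
    exact (h1.zpow_right n).symm
  refine Std.le_of_pump h hP ?_ hKx ht2 htY htx
  intro htop
  have hn : (zpowers x).Normal := Subgroup.normalizer_eq_top_iff.mp htop
  rcases hn.eq_bot_or_eq_top with h1 | h1
  · rw [zpowers_eq_bot] at h1
    rw [h1, orderOf_one] at hxl
    exact hl.one_lt.ne hxl
  · have h2 : t ∈ zpowers x := by rw [h1]; exact mem_top t
    have h3 := Subgroup.orderOf_dvd_natCard (zpowers x) h2
    have h4 : t ∈ O := (zpowers_le.mpr hx) h2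
    exact Nat.not_even_iff_odd.mpr hO (even_of_mem h4 ht2)

/-- Elements of prime order of `N(K)` for a divisor of `|O|` lie in `O`. -/
theorem Std.mem_of_dvd_card (h : Std p K) {O : Subgroup G}
    (hOK : O ≤ centralizer (K : Set G)) (hOn : normalizer (K : Set G) ≤ normalizer (O : Set G))
    (hO : Odd (Nat.card O)) {l : ℕ} (hl : l.Prime) (hlO : l ∣ Nat.card O) {x : G}
    (hx : x ∈ normalizer (K : Set G)) (hxl : orderOf x = l) : x ∈ O := by
  have hl2 : l ≠ 2 := by
    rintro rfl
    exact Nat.not_even_iff_odd.mpr hO (even_iff_two_dvd.mpr hlO)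
  exact mem_of_le_normalizer h.cyc (hOK.trans (centralizer_le_normalizer _)) hOn hl hl2 hlO hx hxl

/-- (2.2) -/
theorem Std.inf_cj_eq_bot [IsSimpleGroup G] (h : Std p K) (hP : Pump K) {O : Subgroup G}
    (hOK : O ≤ centralizer (K : Set G)) (hOn : normalizer (K : Set G) ≤ normalizer (O : Set G))
    (hO : Odd (Nat.card O)) {g : G} (hg : g ∉ normalizer (K : Set G)) :
    O ⊓ cj g (normalizer (K : Set G)) = ⊥ := by
  by_contra hne
  have h1 : Nat.card (O ⊓ cj g (normalizer (K : Set G)) : Subgroup G) ≠ 1 :=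
    fun hc => hne (Subgroup.card_eq_one.mp hc)
  obtain ⟨l, hl, hld⟩ := Nat.exists_prime_and_dvd h1
  have hlf : Fact l.Prime := ⟨hl⟩
  obtain ⟨⟨x, hx⟩, hxl⟩ := exists_prime_orderOf_dvd_card'
    (G := (O ⊓ cj g (normalizer (K : Set G)) : Subgroup G)) l hld
  rw [Subgroup.orderOf_mk] at hxl
  obtain ⟨hxO, hxM⟩ := Subgroup.mem_inf.mp hx
  have hlO : l ∣ Nat.card O := hld.trans (Subgroup.card_dvd_of_le inf_le_left)
  -- `x ∈ O^g`
  have hx' : g⁻¹ * x * g ∈ O := by
    refine h.mem_of_dvd_card hOK hOn hO hl hlO (mem_cj.mp hxM) ?_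
    have := orderOf_conj g⁻¹ x
    rw [inv_inv] at this
    rw [this, hxl]
  have h2 := h.normalizer_zpowers_le hP hOK hOn hO hl hx' (by
    have := orderOf_conj g⁻¹ x
    rw [inv_inv] at this
    rw [this, hxl])
  have h3 : normalizer (zpowers x : Set G) ≤ normalizer (K : Set G) :=
    h.normalizer_zpowers_le hP hOK hOn hO hl hxO hxl
  -- `K^g ≤ C(x) ≤ N(K)`
  have h4 : cj g K ≤ normalizer (K : Set G) := by
    refine le_trans ?_ h3
    intro k hk
    refine centralizer_le_normalizer _ ?_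
    rw [mem_centralizer_iff]
    rintro _ ⟨n, rfl⟩
    have h5 : Commute k x := by
      have h6 := mem_centralizer_iff.mp (hOK hx') _ (mem_cj.mp hk)
      show k * x = x * k
      calc k * x = g * ((g⁻¹ * k * g) * (g⁻¹ * x * g)) * g⁻¹ := by group
        _ = g * ((g⁻¹ * x * g) * (g⁻¹ * k * g)) * g⁻¹ := by rw [h6]
        _ = x * k := by group
    exact (h5.zpow_right n).symm
  have h5 : cj g K ≤ K := by
    refine le_of_orderOf h.cyc (h.conj g).quasi h.prime h.ne_two (h.conj g).dvd ?_
    intro y hy hyp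
    exact h.mem_of_dvd h.prime h.ne_two h.dvd (h4 hy) hyp
  apply hg
  rw [← cj_eq_iff]
  exact Subgroup.eq_of_le_of_card_ge h5 (by rw [card_cj])

/-- (2.3) Involutions of `C(K)^g ∩ N(K)` invert `O(C(K))`. -/
theorem Std.inverts [IsSimpleGroup G] (h : Std p K) (hP : Pump K) {O : Subgroup G}
    (hOK : O ≤ centralizer (K : Set G)) (hOn : normalizer (K : Set G) ≤ normalizer (O : Set G))
    (hO : Odd (Nat.card O)) {g : G} (hg : g ∉ normalizer (K : Set G)) {a : G}
    (ha : a ∈ cj g (centralizer (K : Set G))) (haM : a ∈ normalizer (K : Set G))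
    (ha2 : orderOf a = 2) : ∀ x ∈ O, a * x * a⁻¹ = x⁻¹ := by
  have haO := hOn haM
  have haa : a * a = 1 := by rw [← pow_two, ← ha2, pow_orderOf_eq_one]
  have hai : a⁻¹ = a := inv_eq_of_mul_eq_one_right haa
  let φ : O →* O :=
    { toFun := fun x => ⟨a * x * a⁻¹, forall_of_mem_normalizer haO x x.2⟩
      map_one' := Subtype.ext (by simp)
      map_mul' := fun x y => Subtype.ext (by
        show a * (x * y : G) * a⁻¹ = (a * x * a⁻¹) * (a * y * a⁻¹)
        group) }
  have hfpf : MonoidHom.FixedPointFree φ := by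
    intro x hx
    have h1 : a * (x : G) * a⁻¹ = x := congrArg Subtype.val hx
    have h2 : (x : G) ∈ O ⊓ cj g (normalizer (K : Set G)) := by
      refine ⟨x.2, h.centralizer_le_cj ha2 ha ?_⟩
      rw [mem_centralizer_singleton_iff]
      exact (mul_inv_eq_iff_eq_mul.mp h1).symm
    rw [h.inf_cj_eq_bot hP hOK hOn hO hg, mem_bot] at h2
    exact Subtype.ext h2
  have hinv : Function.Involutive φ := by
    intro x
    apply Subtype.ext
    show a * (a * (x : G) * a⁻¹) * a⁻¹ = x
    calc a * (a * (x : G) * a⁻¹) * a⁻¹ = (a * a) * x * (a * a)⁻¹ := by group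
      _ = x := by rw [haa]; group
  have h1 := hfpf.coe_eq_inv_of_involutive hinv
  intro x hx
  have h2 := congrFun h1 ⟨x, hx⟩
  exact congrArg Subtype.val h2

omit [Finite G] in
/-- (2.3) `O(C(K))` is abelian. -/
theorem comm_of_inverts {O : Subgroup G} {a : G} (ha : ∀ x ∈ O, a * x * a⁻¹ = x⁻¹) {x y : G}
    (hx : x ∈ O) (hy : y ∈ O) : x * y = y * x := by
  have h1 := ha _ (O.mul_mem hx hy)
  have h2 : a * (x * y) * a⁻¹ = (a * x * a⁻¹) * (a * y * a⁻¹) := by group
  rw [h2, ha x hx, ha y hy] at h1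
  have h3 : (y * x)⁻¹ = (x * y)⁻¹ := by rw [mul_inv_rev, h1]
  exact (inv_injective h3).symm

omit [Finite G] in
/-- `O(C(K))` -/
def OY (K : Subgroup G) : Subgroup G :=
  (oddCore (centralizer (K : Set G))).map (centralizer (K : Set G)).subtype

omit [Finite G] in
theorem OY_le (K : Subgroup G) : OY K ≤ centralizer (K : Set G) := Subgroup.map_subtype_le _

theorem OY_odd (K : Subgroup G) : Odd (Nat.card (OY K)) := by
  rw [OY, Subgroup.card_map_of_injective (Subgroup.subtype_injective _)]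
  exact Nat.coprime_two_right.mp (Cfsg.Agent.Lib.Cores.pPrimeCore_coprime 2)

omit [Finite G] in
theorem le_OY {K N : Subgroup G} (hN : N ≤ centralizer (K : Set G))
    (hn : centralizer (K : Set G) ≤ normalizer (N : Set G)) (ho : Odd (Nat.card N)) :
    N ≤ OY K := by
  have h1 : (N.subgroupOf (centralizer (K : Set G))).Normal :=
    Subgroup.normal_subgroupOf_of_le_normalizer hn
  have h2 : N.subgroupOf (centralizer (K : Set G)) ≤ oddCore (centralizer (K : Set G)) := by
    refine Cfsg.Agent.Lib.Cores.le_pPrimeCore h1 ?_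
    rw [Nat.card_congr (Subgroup.subgroupOfEquivOfLe hN).toEquiv]
    exact Nat.coprime_two_right.mpr ho
  intro x hx
  exact ⟨⟨x, hN hx⟩, h2 hx, rfl⟩

/-- `O(C(K))` is normal in `N(K)`. -/
theorem normalizer_le_OY (K : Subgroup G) :
    normalizer (K : Set G) ≤ normalizer (OY K : Set G) := by
  intro g hg
  rw [← cj_eq_iff]
  have hY : cj g (centralizer (K : Set G)) = centralizer (K : Set G) :=
    cj_eq_iff.mpr (normalizer_le_centralizer K hg)
  refine Subgroup.eq_of_le_of_card_ge (le_OY ?_ ?_ ?_) (by rw [card_cj])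
  · calc cj g (OY K) ≤ cj g (centralizer (K : Set G)) := cj_mono (OY_le K)
      _ = _ := hY
  · have h1 : centralizer (K : Set G) ≤ normalizer (OY K : Set G) := by
      intro y hy
      refine mem_normalizer_of_forall ?_
      rintro _ ⟨x, hx, rfl⟩
      exact ⟨⟨y, hy⟩ * x * ⟨y, hy⟩⁻¹, (inferInstance :
        (oddCore (centralizer (K : Set G))).Normal).conj_mem x hx ⟨y, hy⟩, rfl⟩
    calc centralizer (K : Set G) = cj g (centralizer (K : Set G)) := hY.symm
      _ ≤ cj g (normalizer (OY K : Set G)) := cj_mono h1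
      _ = _ := cj_normalizer g (OY K)
  · rw [card_cj]; exact OY_odd K

/-- (2.3) `O(C(K))` is cyclic, if it is inverted by an element. -/
theorem isCyclic_of_inverts (hG : OddCyc G) {O : Subgroup G} (hO : Odd (Nat.card O)) {a : G}
    (ha : ∀ x ∈ O, a * x * a⁻¹ = x⁻¹) : IsCyclic O := by
  have hZ : IsZGroup O := by
    rw [isZGroup_iff]
    intro q hq Q
    by_cases hq2 : q = 2
    · subst hq2
      have h1 : (Q : Subgroup O) = ⊥ :=
        eq_bot_of_odd Q.isPGroup' le_top (by rw [Subgroup.card_top]; exact hO)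
      rw [h1]
      infer_instance
    · exact oddCyc_subgroup hG O q Q hq hq2
  have : Group.IsNilpotent O := by
    refine ⟨1, ?_⟩
    rw [Subgroup.upperCentralSeries_one, eq_top_iff]
    intro x _
    rw [mem_center_iff]
    exact fun y => Subtype.ext (comm_of_inverts ha y.2 x.2)
  infer_instance

end Cfsg.Agent.OddCyclic.CompStandard
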