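import Mathlib
import Cfsg.Agent.OddCyclic.B2Start
import Cfsg.Agent.OddCyclic.CompUnique

/-!
# S0342, case B2: from the standard component to the hypotheses of B2 (helper362)

`Frame p K t`: `K` a standard component with trivial centre, `t` an involution of `C(K)`, Sylow 2-subgroups of
`C(K)` have order two.

* `Frame.cent_sup`: for a 2-subgroup `S` of `C(t)`, `C_{KS}(K) = ⟨t⟩`.
* `Frame.cent` (0.2): `C_{C(t)}(K) = ⟨t⟩`, if `t` is conjugate to `tz`, `1 ≠ z ∈ K`.
-/

set_option autoImplicit false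

namespace Cfsg.Agent.OddCyclic.B2Init

open Subgroup Cfsg
open Cfsg.Agent.LieExceptional.CITDefs Cfsg.Agent.LieExceptional.CITBasic
open Cfsg.Agent.OddCyclic.CompStandard Cfsg.Agent.OddCyclic.B2Defs Cfsg.Agent.OddCyclic.B2Start
open Cfsg.Agent.OddCyclic.T1Defs

variable {G : Type*} [Group G]

/-- the frame of case B2 -/
structure Frame (p : ℕ) (K : Subgroup G) (t : G) : Prop where
  std : Std p K
  t_mem : t ∈ centralizer (K : Set G)
  t_ord : orderOf t = 2
  two : ∀ Q : Subgroup G, Q ≤ centralizer (K : Set G) → IsPGroup 2 Q → Nat.card Q ≤ 2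
  center : ∀ k ∈ K, (∀ l ∈ K, k * l = l * k) → k = 1

namespace Frame

variable {p : ℕ} {K : Subgroup G} {t : G}

theorem t_sq (h : Frame p K t) : t * t = 1 := by
  rw [← pow_two, ← h.t_ord, pow_orderOf_eq_one]

theorem t_ne (h : Frame p K t) : t ≠ 1 := by
  rintro rfl
  have := h.t_ord
  rw [orderOf_one] at this
  omega

theorem Kt (h : Frame p K t) : ∀ k ∈ K, k * t = t * k := fun k hk =>
  centralizer_comm h.t_mem hk

/-- `K` is normal in `C(t)` -/
theorem norm [Finite G] (h : Frame p K t) : ∀ g : G, g * t = t * g → ∀ k ∈ K, g * k * g⁻¹ ∈ K := fun g hg =>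
  forall_of_mem_normalizer (h.std.le_normalizer h.t_ord h.t_mem (mem_centralizer_singleton_iff.mpr hg))

/-- 2-elements of `C(K) ∩ C(t)` -/
theorem of_two [Finite G] (h : Frame p K t) {Q : Subgroup G} (hQ : Q ≤ centralizer (K : Set G))
    (hQ2 : IsPGroup 2 Q) (hQt : ∀ q ∈ Q, q * t = t * q) : ∀ q ∈ Q, q = 1 ∨ q = t := by
  have h1 : IsPGroup 2 (Q ⊔ zpowers t : Subgroup G) := by
    refine hQ2.to_sup_of_normal_right' (isPGroup_zpowers h.t_ord) ?_
    intro q hq
    refine centralizer_le_normalizer _ ?_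
    rw [mem_centralizer_iff]
    rintro _ ⟨k, rfl⟩
    exact ((show Commute q t from hQt q hq).zpow_right k).symm.eq
  have h2 := h.two _ (sup_le hQ (zpowers_le.mpr h.t_mem)) h1
  have h3 : Nat.card (zpowers t) = 2 := by rw [Nat.card_zpowers, h.t_ord]
  have h4 : zpowers t = Q ⊔ zpowers t :=
    Subgroup.eq_of_le_of_card_ge le_sup_right (by rw [h3]; exact h2)
  intro q hq
  have h5 : q ∈ zpowers t := h4 ▸ mem_sup_left hq
  obtain ⟨k, hk⟩ := mem_zpowers_iff.mp h5
  rw [← hk]
  have ht2 : t ^ (2 : ℤ) = 1 := by rw [zpow_ofNat, pow_two, h.t_sq]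
  rcases Int.even_or_odd' k with ⟨j, rfl | rfl⟩
  · left; rw [zpow_mul, ht2, one_zpow]
  · right; rw [zpow_add, zpow_mul, ht2, one_zpow, one_mul, zpow_one]

/-- `C_{KS}(K) = ⟨t⟩` -/
theorem cent_sup [Finite G] (h : Frame p K t) {S : Subgroup G} (hS : S ≤ centralizer ({t} : Set G))
    (hS2 : IsPGroup 2 S) : ∀ g ∈ K ⊔ S, (∀ k ∈ K, g * k = k * g) → g = 1 ∨ g = t := by
  have hSn : S ≤ normalizer (K : Set G) := hS.trans (h.std.le_normalizer h.t_ord h.t_mem)
  have hmem : ∀ g ∈ K ⊔ S, ∃ s ∈ S, ∃ k ∈ K, g = s * k := by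
    intro g hg
    rw [sup_comm] at hg
    have h1 : g ∈ ((S ⊔ K : Subgroup G) : Set G) := hg
    rw [Subgroup.coe_mul_of_left_le_normalizer_right S K hSn] at h1
    obtain ⟨s, hs, k, hk, rfl⟩ := h1
    exact ⟨s, hs, k, hk, rfl⟩
  have hpow : ∀ s ∈ S, ∀ k ∈ K, ∀ n : ℕ, ∃ l ∈ K, (s * k) ^ n = s ^ n * l := by
    intro s hs k hk n
    induction n with
    | zero => exact ⟨1, K.one_mem, by simp⟩
    | succ n ih =>
      obtain ⟨l, hl, he⟩ := ih
      have h1 : s⁻¹ * l * s ∈ K := by
        have := forall_of_mem_normalizer ((normalizer (K : Set G)).inv_mem (hSn hs)) l hl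
        rwa [inv_inv] at this
      refine ⟨(s⁻¹ * l * s) * k, K.mul_mem h1 hk, ?_⟩
      rw [pow_succ, he, pow_succ]
      group
  set C : Subgroup G := (K ⊔ S) ⊓ centralizer (K : Set G) with hC
  have hC2 : IsPGroup 2 C := by
    rintro ⟨g, hg, hgC⟩
    obtain ⟨s, hs, k, hk, rfl⟩ := hmem g hg
    obtain ⟨a, ha⟩ := hS2 ⟨s, hs⟩
    have ha' : s ^ 2 ^ a = 1 := congrArg Subtype.val ha
    obtain ⟨l, hl, he⟩ := hpow s hs k hk (2 ^ a)
    rw [ha', one_mul] at he
    refine ⟨a, Subtype.ext ?_⟩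
    show (s * k) ^ 2 ^ a = 1
    rw [he]
    apply h.center l hl
    intro m hm
    rw [← he]
    exact (mem_centralizer_iff.mp (pow_mem hgC (2 ^ a)) m hm).symm
  intro g hg hgK
  refine h.of_two (inf_le_right : C ≤ _) hC2 ?_ g ⟨hg, mem_centralizer_iff.mpr fun k hk => (hgK k hk).symm⟩
  intro q hq
  have : K ⊔ S ≤ centralizer ({t} : Set G) := sup_le (fun k hk => by
    rw [mem_centralizer_singleton_iff]; exact h.Kt k hk) hS
  exact mem_centralizer_singleton_iff.mp (this hq.1)

/-- elements of odd order of `C(K)` lie in `O(C(K))` -/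
theorem mem_OY [Finite G] (h : Frame p K t) {y : G} (hy : y ∈ centralizer (K : Set G))
    (ho : Odd (orderOf y)) : y ∈ OY K := by
  have hf : Fact (Nat.Prime 2) := ⟨Nat.prime_two⟩
  set Y : Subgroup G := centralizer (K : Set G) with hY
  obtain ⟨P⟩ : Nonempty (Sylow 2 Y) := inferInstance
  have hcP : Nat.card P ≤ 2 := by
    have h1 := h.two ((P : Subgroup Y).map Y.subtype) (map_subtype_le _) (P.isPGroup'.map _)
    rwa [Subgroup.card_map_of_injective (Subgroup.subtype_injective _)] at h1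
  have hcyc : IsCyclic P := by
    rcases Nat.lt_or_ge (Nat.card P) 2 with h1 | h1
    · have h2 : Nat.card P = 1 := by
        have : 0 < Nat.card P := Nat.card_pos
        omega
      have := (Nat.card_eq_one_iff_unique.mp h2).1
      infer_instance
    · exact isCyclic_of_prime_card (p := 2) (le_antisymm hcP h1)
  have hmin : (Nat.card Y).minFac = 2 := by
    rw [Nat.minFac_eq_two_iff]
    have h1 : orderOf (⟨t, h.t_mem⟩ : Y) = 2 := by rw [Subgroup.orderOf_mk]; exact h.t_ord
    rw [← h1]; exact orderOf_dvd_natCard _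
  have hcomp := IsCyclic.isComplement' hmin hcyc
  set N : Subgroup Y := (MonoidHom.transferSylow P (hcyc.normalizer_le_centralizer hmin)).ker with hN
  have hNn : N.Normal := MonoidHom.normal_ker _
  have hNo : Odd (Nat.card N) := by
    have h1 : N.index = Nat.card P := hcomp.symm.index_eq_card
    have h2 : (P : Subgroup Y).index = Nat.card N := hcomp.index_eq_card
    rw [← h2, ← Nat.not_even_iff_odd, even_iff_two_dvd]
    exact P.not_dvd_index
  have hyN : (⟨y, hy⟩ : Y) ∈ N := by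
    have h1 : N.index = Nat.card P := hcomp.symm.index_eq_card
    have h2 : orderOf (QuotientGroup.mk' N ⟨y, hy⟩) ∣ Nat.card P := by
      rw [← h1]; exact orderOf_dvd_natCard _
    have h3 : orderOf (QuotientGroup.mk' N ⟨y, hy⟩) ∣ orderOf y := by
      rw [← Subgroup.orderOf_mk y hy]; exact orderOf_map_dvd _ _
    have h4 : orderOf (QuotientGroup.mk' N ⟨y, hy⟩) = 1 := by
      obtain ⟨k, hk⟩ := P.2.exists_card_eq
      rw [hk] at h2
      exact Nat.Coprime.eq_one_of_dvd (Nat.Coprime.pow_right k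
        (Nat.Coprime.coprime_dvd_left h3 ho.coprime_two_right)) h2
    rw [orderOf_eq_one_iff, QuotientGroup.mk'_apply, QuotientGroup.eq_one_iff] at h4
    exact h4
  have h5 : N ≤ oddCore Y := by
    refine Cfsg.Agent.Lib.Cores.le_pPrimeCore hNn ?_
    exact Nat.coprime_two_right.mpr hNo
  exact ⟨⟨y, hy⟩, h5 hyN, rfl⟩

/-- `C_{C(t)}(K) = ⟨t⟩`, if the elements of odd order of `C(K) ∩ C(t)` are trivial -/
theorem cent_of_odd [Finite G] (h : Frame p K t)
    (hodd : ∀ y ∈ centralizer (K : Set G), y * t = t * y → Odd (orderOf y) → y = 1) :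
    ∀ g : G, g * t = t * g → (∀ k ∈ K, g * k = k * g) → g = 1 ∨ g = t := by
  intro g hgt hgK
  have hg : g ∈ centralizer (K : Set G) := mem_centralizer_iff.mpr fun k hk => (hgK k hk).symm
  -- `g` has order a power of two
  obtain ⟨a, m, hm, hgm⟩ := Nat.exists_eq_two_pow_mul_odd (n := orderOf g) (orderOf_pos g).ne'
  have h1 : g ^ 2 ^ a = 1 := by
    refine hodd _ (pow_mem hg _) ((show Commute g t from hgt).pow_left _) ?_
    rw [orderOf_pow, hgm, Nat.gcd_eq_right (dvd_mul_right _ _), Nat.mul_div_cancel_left _ (by positivity)]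
    exact hm
  have h2 : IsPGroup 2 (zpowers g) := by
    refine IsPGroup.of_card (n := (orderOf g).factorization 2) ?_
    rw [Nat.card_zpowers]
    obtain ⟨j, -, hj⟩ := (Nat.dvd_prime_pow Nat.prime_two).mp (orderOf_dvd_of_pow_eq_one h1)
    rw [hj, Nat.Prime.factorization_pow Nat.prime_two, Finsupp.single_eq_same]
  refine h.of_two (zpowers_le.mpr hg) h2 ?_ g (mem_zpowers g)
  rintro _ ⟨k, rfl⟩
  exact (show Commute g t from hgt).zpow_left k

/-- (0.2): `C_{C(t)}(K) = ⟨t⟩` -/
theorem cent [Finite G] [IsSimpleGroup G] (h : Frame p K t) (hP : Pump K) {x z : G} (hz : z ∈ K) (hz1 : z ≠ 1)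
    (hx : x * t * x⁻¹ = t * z) :
    ∀ g : G, g * t = t * g → (∀ k ∈ K, g * k = k * g) → g = 1 ∨ g = t := by
  -- `x` does not normalise `K`
  have hxM : x ∉ normalizer (K : Set G) := by
    intro hxM
    have h1 : x * t * x⁻¹ ∈ centralizer (K : Set G) :=
      forall_of_mem_normalizer (normalizer_le_centralizer K hxM) t h.t_mem
    rw [hx] at h1
    have h2 : z ∈ centralizer (K : Set G) := by
      have := (centralizer (K : Set G)).mul_mem ((centralizer (K : Set G)).inv_mem h.t_mem) h1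
      rwa [inv_mul_cancel_left] at this
    exact hz1 (h.center z hz fun l hl => (mem_centralizer_iff.mp h2 l hl).symm)
  -- `tz` inverts `O(C(K))`
  have hinv : ∀ y ∈ OY K, (t * z) * y * (t * z)⁻¹ = y⁻¹ := by
    refine h.std.inverts hP (OY_le K) (normalizer_le_OY K) (OY_odd K) hxM (a := t * z) ?_ ?_ ?_
    · rw [← hx]; exact conj_mem_cj h.t_mem
    · exact (normalizer (K : Set G)).mul_mem (centralizer_le_normalizer _ h.t_mem)
        (le_normalizer hz)
    · rw [← hx, orderOf_conj]; exact h.t_ord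
  -- elements of odd order of `C(K) ∩ C(t)` are trivial
  have hodd : ∀ y : G, y ∈ centralizer (K : Set G) → y * t = t * y → Odd (orderOf y) → y = 1 := by
    intro y hy hyt ho
    have hyO : y ∈ OY K := h.mem_OY hy ho
    have h1 := hinv y hyO
    have hzy : z * y = y * z := centralizer_comm hy hz
    have h2 : (t * z) * y * (t * z)⁻¹ = y := by
      calc (t * z) * y * (t * z)⁻¹ = t * (z * y) * z⁻¹ * t⁻¹ := by group
        _ = (t * y) * t⁻¹ := by rw [hzy]; group
        _ = y := by rw [← hyt]; group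
    rw [h2] at h1
    have h3 : y ^ 2 = 1 := by
      rw [pow_two]; nth_rewrite 1 [h1]; exact inv_mul_cancel y
    have h4 : orderOf y ∣ 2 := orderOf_dvd_of_pow_eq_one h3
    rw [← orderOf_eq_one_iff]
    rcases (Nat.dvd_prime Nat.prime_two).mp h4 with h5 | h5
    · exact h5
    · rw [h5] at ho; exact absurd ho (by decide)
  exact h.cent_of_odd hodd

end Frame

end Cfsg.Agent.OddCyclic.B2Init
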