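import Cfsg.Agent.OddCyclic.T1Class2

/-!
# S0342, case B2, (1.1): involutions of `yF` (helper51)

`F` a finite 2-group, `h` of order three acting fixed point freely on `F`, `y` an involution inverting `h`:
every involution of `yF` is `F`-conjugate to `y` (explicitly by `h f h⁻¹`).
-/

set_option autoImplicit false

namespace Cfsg.Agent.OddCyclic.B2Inv

open Cfsg.Agent.OddCyclic

variable {G : Type*} [Group G] [Finite G]

/-- (1.1): if `y` inverts `h` and `y f` is an involution, then `y f = (h f h⁻¹) y (h f h⁻¹)⁻¹` -/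
theorem eq_conj {F : Subgroup G} {h y : G} (hF : IsPGroup 2 F) (hh : orderOf h = 3)
    (hn : ∀ u ∈ F, h * u * h⁻¹ ∈ F) (hf : ∀ u ∈ F, h * u = u * h → u = 1)
    (hy : y * y = 1) (hyh : y * h * y⁻¹ = h⁻¹) {f : G} (hfF : f ∈ F) (h2 : (y * f) * (y * f) = 1) :
    y * f = (h * f * h⁻¹) * y * (h * f * h⁻¹)⁻¹ := by
  have h3 : h * h * h = 1 := by
    have := pow_orderOf_eq_one h
    rw [hh] at this
    simpa [pow_succ] using this
  have hyi : y⁻¹ = y := inv_eq_of_mul_eq_one_left hy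
  have hyf : y * f * y⁻¹ = f⁻¹ := by
    rw [hyi]
    have : (y * f * y) * f = 1 := by rw [← h2]; group
    exact eq_inv_of_mul_eq_one_left this
  have ht := T1Class2.triple hF hh hn hf hfF
  -- `y (h f h⁻¹) y⁻¹ = h⁻¹ f⁻¹ h`
  have hyh' : y * h⁻¹ * y⁻¹ = h := by
    have := congrArg (·⁻¹) hyh
    simpa [mul_inv_rev, mul_assoc] using this
  have e1 : y * (h * f * h⁻¹) * y⁻¹ = h⁻¹ * f⁻¹ * h := by
    calc y * (h * f * h⁻¹) * y⁻¹ = (y * h * y⁻¹) * (y * f * y⁻¹) * (y * h⁻¹ * y⁻¹) := by group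
      _ = _ := by rw [hyh, hyf, hyh']
  have e2 : h * (h * f * h⁻¹) * h⁻¹ = h⁻¹ * f * h := by
    have hi : h⁻¹ = h * h := (eq_inv_of_mul_eq_one_left h3).symm
    have : h * h * f * (h * h)⁻¹ = h⁻¹ * f * h := by rw [← hi, inv_inv]
    rw [← this]; group
  rw [e2] at ht
  -- `f = (y g y⁻¹) g⁻¹` where `g = h f h⁻¹`
  have e3 : f = (y * (h * f * h⁻¹) * y⁻¹) * (h * f * h⁻¹)⁻¹ := by
    rw [e1]
    have h4 : f * ((h * f * h⁻¹) * (h⁻¹ * f * h)) = 1 := by rw [← mul_assoc]; exact ht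
    have h5 : f = ((h * f * h⁻¹) * (h⁻¹ * f * h))⁻¹ := eq_inv_of_mul_eq_one_left h4
    refine h5.trans ?_
    simp only [mul_inv_rev, inv_inv, mul_assoc]
  calc y * f = y * ((y * (h * f * h⁻¹) * y⁻¹) * (h * f * h⁻¹)⁻¹) := by rw [← e3]
    _ = (y * y) * (h * f * h⁻¹) * y⁻¹ * (h * f * h⁻¹)⁻¹ := by group
    _ = _ := by rw [hy, one_mul, hyi]

theorem exists_conj {F : Subgroup G} {h y : G} (hF : IsPGroup 2 F) (hh : orderOf h = 3)
    (hn : ∀ u ∈ F, h * u * h⁻¹ ∈ F) (hf : ∀ u ∈ F, h * u = u * h → u = 1)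
    (hy : y * y = 1) (hyh : y * h * y⁻¹ = h⁻¹) {f : G} (hfF : f ∈ F) (h2 : (y * f) * (y * f) = 1) :
    ∃ g ∈ F, y * f = g * y * g⁻¹ :=
  ⟨_, hn f hfF, eq_conj hF hh hn hf hy hyh hfF h2⟩

/-- hence `y F` contains no conjugate of `t` if `y` is not conjugate to the involution `t` -/
theorem not_isConj {F : Subgroup G} {h y t : G} (hF : IsPGroup 2 F) (hh : orderOf h = 3)
    (hn : ∀ u ∈ F, h * u * h⁻¹ ∈ F) (hf : ∀ u ∈ F, h * u = u * h → u = 1)
    (hy : y * y = 1) (hyh : y * h * y⁻¹ = h⁻¹) (ht : t * t = 1) (hyt : ¬ IsConj t y)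
    {f : G} (hfF : f ∈ F) : ¬ IsConj t (y * f) := by
  intro hc
  obtain ⟨c, hc'⟩ := isConj_iff.1 hc
  have h2 : (y * f) * (y * f) = 1 := by
    rw [← hc']
    calc c * t * c⁻¹ * (c * t * c⁻¹) = c * (t * t) * c⁻¹ := by group
      _ = 1 := by rw [ht]; group
  obtain ⟨g, -, hg⟩ := exists_conj hF hh hn hf hy hyh hfF h2
  apply hyt
  refine hc.trans ?_
  rw [hg]
  exact (isConj_iff.2 ⟨g, rfl⟩ : IsConj y (g * y * g⁻¹)).symm

/-- piece C (blueprints/B2Stub.lean.txt) -/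
theorem conj_of_invol {y h : G} {F : Subgroup G} (hF : IsPGroup 2 F) (hy : y * y = 1) (hh : h * h * h = 1)
    (hyh : y * h * y⁻¹ = h⁻¹) (_hyF : ∀ f ∈ F, y * f * y⁻¹ ∈ F) (hhF : ∀ f ∈ F, h * f * h⁻¹ ∈ F)
    (fpf : ∀ f ∈ F, h * f = f * h → f = 1) {f : G} (hf : f ∈ F) (h1 : y * f * (y * f) = 1) :
    ∃ g ∈ F, y * f = g * y * g⁻¹ := by
  by_cases h0 : h = 1
  · have : f = 1 := fpf f hf (by rw [h0, one_mul, mul_one])
    exact ⟨1, F.one_mem, by rw [this]; group⟩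
  · have hh3 : orderOf h = 3 := by
      have : Fact (Nat.Prime 3) := ⟨Nat.prime_three⟩
      exact orderOf_eq_prime (by rw [pow_succ, pow_two]; exact hh) h0
    exact exists_conj hF hh3 hhF fpf hy hyh hf h1

end Cfsg.Agent.OddCyclic.B2Inv
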