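import Cfsg.Agent.OddCyclic.B2Trans
import Cfsg.Agent.OddCyclic.B2LemA
import Cfsg.Agent.OddCyclic.B2Inv

/-!
# S0342, case B2, piece N: section 1 assembled

blueprints/S0342-B2.md, section 1.
-/

set_option autoImplicit false
universe u

namespace Cfsg.Agent.OddCyclic.B2Nsw

open Cfsg.Agent.LieExceptional.CITDefs Cfsg.Agent.OddCyclic.B2Defs Subgroup

variable {G : Type u} [Group G]

section

variable [Finite G] {t h y : G} {V P F T₄ T : Subgroup G}

/-! ### piece G, stub form -/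

theorem exists_fourData (L : Loc t h V) (hn : NswAt t V)
    (hy : TypeY t h y V ∨ TypeZ t h y V) : ∃ P F T₄, FourData t h y V P F T₄ := by
  obtain ⟨P, F, D⟩ := B2LemA.exists_pData L hn
  rcases hy with hy | hy
  · obtain ⟨T₄, h4⟩ := B2Four.fourData_of L (B2LemA.three L) D hy.yV hy.ty hy.yh (Or.inl hy.y_sq)
    exact ⟨P, F, T₄, h4⟩
  · have hty : t * y = y * t := by rw [← hy.y_sq, mul_assoc]
    obtain ⟨T₄, h4⟩ := B2Four.fourData_of L (B2LemA.three L) D hy.yV hty hy.yh (Or.inr hy.y_sq)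
    exact ⟨P, F, T₄, h4⟩

theorem syl_of_typeN (L : Loc t h V) (hN : TypeN t h V) (D : PData t h V P F) :
    IsSyl2 (Subgroup.normalizer (V : Set G)) P :=
  B2Four.syl_of_typeN' L (B2LemA.three L) hN D

/-! ### the centre of `P` -/

theorem exists_ne (D : PData t h V P F) : ∃ f ∈ F, f ∉ V := by
  by_contra hno
  push Not at hno
  exact D.ne (le_antisymm D.V_le hno)

theorem center_P (L : Loc t h V) (D : PData t h V P F) {z : G} (hz : z ∈ P)
    (hc : ∀ x ∈ P, z * x = x * z) : z ∈ V := by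
  have ht : t ∈ P := B2Four.t_mem D
  obtain ⟨v, hv, h1 | h1⟩ := L.cent z (hc t ht) fun v hv => hc v (B2Four.F_le D (D.V_le hv))
  · rw [h1]; exact hv
  · exfalso
    obtain ⟨f, hf, hfV⟩ := exists_ne D
    apply hfV
    apply D.cF f hf
    have h2 := hc f (B2Four.F_le D hf)
    have h3 : v * f = f * v := B2LemB.V_cent D hv hf
    rw [h1] at h2
    have h4 : t * (f * v) = f * t * v := by
      calc t * (f * v) = t * v * f := by rw [← h3]; group
        _ = f * (t * v) := h2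
        _ = _ := by group
    calc t * f = t * (f * v) * v⁻¹ := by group
      _ = f * t * v * v⁻¹ := by rw [h4]
      _ = f * t := by group

/-- If the 2-group `T ≥ P` is bigger than the Sylow 2-subgroup `P` of `N_G(V)`, contradiction. -/
theorem eq_of_typeN (L : Loc t h V) (D : PData t h V P F)
    (hP : IsSyl2 (Subgroup.normalizer (V : Set G)) P) {T : Subgroup G} (hT : IsPGroup 2 T) (hle : P ≤ T) :
    P = T := by
  by_contra hne
  have hpf : Fact (Nat.Prime 2) := ⟨Nat.prime_two⟩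
  have hnil : Group.IsNilpotent T := hT.isNilpotent
  have hlt : P.subgroupOf T < ⊤ := by
    rw [lt_top_iff_ne_top]
    intro h1
    apply hne
    apply le_antisymm hle
    rwa [subgroupOf_eq_top] at h1
  obtain ⟨⟨x, hxT⟩, hxn, hxP⟩ := SetLike.exists_of_lt
    (Group.normalizerCondition_of_isNilpotent (G := T) _ hlt)
  have hxP' : x ∉ P := hxP
  have hxn' : ∀ p ∈ P, x * p * x⁻¹ ∈ P := by
    intro p hp
    exact (mem_normalizer_iff.mp hxn ⟨p, hle hp⟩).mp hp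
  have hxi : ∀ p ∈ P, x⁻¹ * p * x ∈ P := B2Four.conj_inv_mem hxn'
  have hxV : ∀ v ∈ V, x * v * x⁻¹ ∈ V := by
    intro v hv
    apply center_P L D (hxn' v (B2Four.F_le D (D.V_le hv)))
    intro p hp
    have h1 : v * (x⁻¹ * p * x) = x⁻¹ * p * x * v :=
      mem_centralizer_iff.mp (D.syl.le (hxi p hp)) v hv
    calc x * v * x⁻¹ * p = x * (v * (x⁻¹ * p * x)) * x⁻¹ := by group
      _ = x * (x⁻¹ * p * x * v) * x⁻¹ := by rw [h1]
      _ = _ := by group
  have hxN : x ∈ normalizer (V : Set G) := B2Four.mem_norm hxV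
  have hsup : IsPGroup 2 (zpowers x ⊔ P : Subgroup G) := by
    apply IsPGroup.to_sup_of_normal_right' _ D.syl.two
    · exact zpowers_le.mpr (B2Four.mem_norm hxn')
    · exact hT.to_le (zpowers_le.mpr hxT)
  have h2 := hP.max _ (sup_le (zpowers_le.mpr hxN) hP.le) hsup le_sup_right
  apply hxP'
  rw [← h2]
  exact (le_sup_left : zpowers x ≤ _) (mem_zpowers x)

theorem relIndex_two {A B : Subgroup G} (hAB : A ≤ B) {s : G} (hs : s ∈ B)
    (h : ∀ b ∈ B, Xor (b * s ∈ A) (b ∈ A)) : A.relIndex B = 2 := by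
  rw [relIndex, Subgroup.index_eq_two_iff]
  exact ⟨⟨s, hs⟩, fun b => h b b.2⟩

theorem relIndex_F (L : Loc t h V) (D : PData t h V P F) : F.relIndex P = 2 := by
  have ht := B2Four.t_mem D
  apply relIndex_two (B2Four.F_le D) ht
  intro b hb
  have hb' := P.mul_mem hb ht
  -- `b t ∈ P`
  have key : ∀ f ∈ F, t * f * t ∈ F := by
    intro f hf
    have := D.norm t ht f hf
    rwa [B2LemB.t_inv L] at this
  obtain ⟨f, hf, h1 | h1⟩ := (D.mem b).mp hb
  · refine Or.inr ⟨by rw [h1]; exact hf, fun h2 => D.t_notin ?_⟩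
    rw [h1] at h2
    have := F.mul_mem (F.inv_mem hf) h2
    rwa [inv_mul_cancel_left] at this
  · refine Or.inl ⟨?_, fun h2 => D.t_notin ?_⟩
    · rw [h1]; exact key f hf
    · rw [h1] at h2
      have := F.mul_mem h2 (F.inv_mem hf)
      rwa [mul_inv_cancel_right] at this

theorem typeN_false (L : Loc t h V) (hN : TypeN t h V) (D : PData t h V P F) (hTT : TT t) : False := by
  obtain ⟨T, hT, hle⟩ := LieExceptional.CITBasic.exists_isSyl2 (⊤ : Subgroup G) P le_top D.syl.two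
  have h1 := eq_of_typeN L D (syl_of_typeN L hN D) hT.two hle
  rw [← h1] at hT
  obtain ⟨g, hg⟩ := hTT P F hT (B2Four.F_le D) (relIndex_F L D) (B2Four.t_mem D) D.t_notin
  exact B2LemA.not_conj_F L D g hg

/-! ### `y` an involution, `T₄` Sylow in `G` -/

theorem y_notMem (L : Loc t h V) (D : PData t h V P F) (hyh : y * h * y⁻¹ = h⁻¹) : y ∉ P :=
  B2Four.notMem_of_inv L (B2Four.not_three_dvd D.syl.two) D.hP hyh

/-- `F⟨y⟩` -/
def FY (D : FourData t h y V P F T₄) (hy : y * y = 1) : Subgroup G :=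
  B2Four.ext F y D.yF (B2Four.conj_inv_mem D.yF) (by rw [hy]; exact F.one_mem)

theorem mem_FY (D : FourData t h y V P F T₄) (hy : y * y = 1) {x : G} :
    x ∈ FY D hy ↔ ∃ f ∈ F, x = f ∨ x = y * f := by
  show (x ∈ F ∨ y⁻¹ * x ∈ F) ↔ _
  constructor
  · rintro (h1 | h1)
    · exact ⟨x, h1, Or.inl rfl⟩
    · exact ⟨_, h1, Or.inr (by group)⟩
  · rintro ⟨f, hf, h1 | h1⟩
    · left; rw [h1]; exact hf
    · right; rw [h1, inv_mul_cancel_left]; exact hf

theorem yt (hy : TypeY t h y V) : y * t = t * y := hy.ty.symm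

theorem t_notMem_FY (L : Loc t h V) (Y : TypeY t h y V) (D : FourData t h y V P F T₄) :
    t ∉ FY D Y.y_sq := by
  rw [mem_FY]
  rintro ⟨f, hf, h1 | h1⟩
  · exact D.t_notin (by rw [h1]; exact hf)
  · apply y_notMem L D.toPData Y.yh
    have e : y = t * f⁻¹ := by rw [h1]; group
    rw [e]
    exact P.mul_mem (B2Four.t_mem D.toPData) (P.inv_mem (B2Four.F_le D.toPData hf))

theorem FY_le (D : FourData t h y V P F T₄) (hy : y * y = 1) : FY D hy ≤ T₄ := by
  intro x hx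
  obtain ⟨f, hf, h1 | h1⟩ := (mem_FY D hy).mp hx
  · exact (D.mem₄ x).mpr ⟨f, hf, Or.inl h1⟩
  · exact (D.mem₄ x).mpr ⟨f, hf, Or.inr (Or.inr (Or.inl h1))⟩

theorem relIndex_FY (L : Loc t h V) (Y : TypeY t h y V) (D : FourData t h y V P F T₄) :
    (FY D Y.y_sq).relIndex T₄ = 2 := by
  have htT : t ∈ T₄ := (D.mem₄ t).mpr ⟨1, F.one_mem, Or.inr (Or.inl (mul_one t).symm)⟩
  apply relIndex_two (FY_le D Y.y_sq) htT
  -- `t` normalises `F⟨y⟩`
  have hnorm : ∀ x ∈ FY D Y.y_sq, t * x * t ∈ FY D Y.y_sq := by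
    intro x hx
    have key : ∀ f ∈ F, t * f * t ∈ F := by
      intro f hf
      have := D.norm t (B2Four.t_mem D.toPData) f hf
      rwa [B2LemB.t_inv L] at this
    obtain ⟨f, hf, h1 | h1⟩ := (mem_FY D Y.y_sq).mp hx
    · exact (mem_FY D Y.y_sq).mpr ⟨_, key f hf, Or.inl (by rw [h1])⟩
    · refine (mem_FY D Y.y_sq).mpr ⟨_, key f hf, Or.inr ?_⟩
      rw [h1]
      calc t * (y * f) * t = (t * y) * f * t := by group
        _ = y * (t * f * t) := by rw [Y.ty]; group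
  intro b hb
  by_cases hbF : b ∈ FY D Y.y_sq
  · refine Or.inr ⟨hbF, fun h2 => t_notMem_FY L Y D ?_⟩
    have := (FY D Y.y_sq).mul_mem ((FY D Y.y_sq).inv_mem hbF) h2
    rwa [inv_mul_cancel_left] at this
  · refine Or.inl ⟨?_, hbF⟩
    -- `b = t b'`
    obtain ⟨b', hb', hbb⟩ : ∃ b' ∈ FY D Y.y_sq, b = t * b' := by
      obtain ⟨f, hf, h1 | h1 | h1 | h1⟩ := (D.mem₄ b).mp hb
      · exact absurd ((mem_FY D Y.y_sq).mpr ⟨f, hf, Or.inl h1⟩) hbF
      · exact ⟨f, (mem_FY D Y.y_sq).mpr ⟨f, hf, Or.inl rfl⟩, h1⟩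
      · exact absurd ((mem_FY D Y.y_sq).mpr ⟨f, hf, Or.inr h1⟩) hbF
      · exact ⟨y * f, (mem_FY D Y.y_sq).mpr ⟨f, hf, Or.inr rfl⟩, by rw [h1]; group⟩
    rw [hbb]
    exact hnorm b' hb'

/-- no conjugate of `t` in `yF` -/
theorem not_conj_yF (L : Loc t h V) (Y : TypeY t h y V) (D : FourData t h y V P F T₄) :
    ∀ f ∈ F, ∀ g : G, g * t * g⁻¹ ≠ y * f := by
  intro f hf g hg
  have h2 : (y * f) * (y * f) = 1 := by
    rw [← hg]
    calc g * t * g⁻¹ * (g * t * g⁻¹) = g * (t * t) * g⁻¹ := by group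
      _ = 1 := by rw [L.t_sq]; group
  obtain ⟨c, hc, hcy⟩ := B2Inv.conj_of_invol (B2LemB.two D.toPData) Y.y_sq L.h_cube Y.yh D.yF D.hF D.fpf hf h2
  apply Y.not_conj (c⁻¹ * g)
  calc c⁻¹ * g * t * (c⁻¹ * g)⁻¹ = c⁻¹ * (g * t * g⁻¹) * c := by group
    _ = c⁻¹ * (c * y * c⁻¹) * c := by rw [hg, hcy]
    _ = y := by group

theorem typeY_ne (L : Loc t h V) (Y : TypeY t h y V) (D : FourData t h y V P F T₄) (hT : IsSyl2 ⊤ T₄)
    (hTT : TT t) : False := by
  have htT : t ∈ T₄ := (D.mem₄ t).mpr ⟨1, F.one_mem, Or.inr (Or.inl (mul_one t).symm)⟩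
  obtain ⟨g, hg⟩ := hTT T₄ (FY D Y.y_sq) hT (FY_le D Y.y_sq) (relIndex_FY L Y D) htT (t_notMem_FY L Y D)
  obtain ⟨f, hf, h1 | h1⟩ := (mem_FY D Y.y_sq).mp hg
  · exact B2LemA.not_conj_F L D.toPData g (by rw [h1]; exact hf)
  · exact not_conj_yF L Y D f hf g h1

/-! ### `y² = t` -/

theorem typeZ_ne (L : Loc t h V) (Z : TypeZ t h y V) (D : FourData t h y V P F T₄) (hT : IsSyl2 ⊤ T₄)
    (hTC : TC t) : False := by
  have htT : t ∈ T₄ := (D.mem₄ t).mpr ⟨1, F.one_mem, Or.inr (Or.inl (mul_one t).symm)⟩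
  have hyT : y ∈ T₄ := (D.mem₄ y).mpr ⟨1, F.one_mem, Or.inr (Or.inr (Or.inl (mul_one y).symm))⟩
  have hFT : F ≤ T₄ := fun f hf => (D.mem₄ f).mpr ⟨f, hf, Or.inl rfl⟩
  have htF : ∀ f ∈ F, t * f * t⁻¹ ∈ F := fun f hf => D.norm t (B2Four.t_mem D.toPData) f hf
  have hnorm : ∀ x ∈ T₄, ∀ u ∈ F, x * u * x⁻¹ ∈ F := by
    intro x hx u hu
    have hfF : ∀ f ∈ F, f * u * f⁻¹ ∈ F := fun f hf => F.mul_mem (F.mul_mem hf hu) (F.inv_mem hf)
    obtain ⟨f, hf, h1 | h1 | h1 | h1⟩ := (D.mem₄ x).mp hx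
    · rw [h1]; exact hfF f hf
    · rw [h1]
      have e : t * f * u * (t * f)⁻¹ = t * (f * u * f⁻¹) * t⁻¹ := by group
      rw [e]; exact htF _ (hfF f hf)
    · rw [h1]
      have e : y * f * u * (y * f)⁻¹ = y * (f * u * f⁻¹) * y⁻¹ := by group
      rw [e]; exact D.yF _ (hfF f hf)
    · rw [h1]
      have e : t * y * f * u * (t * y * f)⁻¹ = t * (y * (f * u * f⁻¹) * y⁻¹) * t⁻¹ := by group
      rw [e]; exact htF _ (D.yF _ (hfF f hf))
  have hty : t * y = y * t := by rw [← Z.y_sq, mul_assoc]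
  have hcyc : ∃ y ∈ T₄, ∀ x ∈ T₄, ∃ k : ℕ, x * y ^ k ∈ F := by
    have hyF' : ∀ f ∈ F, y⁻¹ * f * y ∈ F := B2Four.conj_inv_mem D.yF
    have htF' : ∀ f ∈ F, t * f * t ∈ F := by
      intro f hf
      have := htF f hf
      rwa [B2LemB.t_inv L] at this
    have ht1 : t * t = 1 := L.t_sq
    refine ⟨y, hyT, fun x hx => ?_⟩
    obtain ⟨f, hf, h1 | h1 | h1 | h1⟩ := (D.mem₄ x).mp hx
    · exact ⟨0, by rw [pow_zero, mul_one, h1]; exact hf⟩
    · refine ⟨2, ?_⟩
      rw [h1, pow_two, Z.y_sq]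
      exact htF' f hf
    · refine ⟨3, ?_⟩
      have e : y * f * y ^ 3 = y * (f * y⁻¹) * (y * y * (y * y)) := by
        rw [pow_succ, pow_two]; group
      rw [h1, e, Z.y_sq, ht1, mul_one, ← mul_assoc]
      exact D.yF f hf
    · refine ⟨1, ?_⟩
      rw [h1, pow_one, hty]
      have e : y * t * f * y = y * (t * f * t) * y⁻¹ * (y * t * y) := by
        calc y * t * f * y = y * t * f * (t * t) * y := by rw [ht1, mul_one]
          _ = y * (t * f * t) * (t * y) := by group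
          _ = y * (t * f * t) * (y * t) := by rw [hty]
          _ = y * (t * f * t) * (y⁻¹ * (y * y) * t) := by group
          _ = y * (t * f * t) * y⁻¹ * (t * t) := by rw [Z.y_sq]; group
          _ = y * (t * f * t) * y⁻¹ * (y * t * y) := by
            rw [ht1]
            have : y * t * y = 1 := by rw [← hty, mul_assoc, Z.y_sq, ht1]
            rw [this]
      have e2 : y * t * y = 1 := by rw [← hty, mul_assoc, Z.y_sq, ht1]
      rw [e, e2, mul_one]
      exact D.yF _ (htF' f hf)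
  -- index 4
  have hidx : F.relIndex T₄ = 4 := by
    have h1 : F.relIndex P * P.relIndex T₄ = F.relIndex T₄ :=
      Subgroup.relIndex_mul_relIndex F P T₄ (B2Four.F_le D.toPData) (by
        intro x hx
        obtain ⟨f, hf, h1 | h1⟩ := (D.mem x).mp hx
        · exact (D.mem₄ x).mpr ⟨f, hf, Or.inl h1⟩
        · exact (D.mem₄ x).mpr ⟨f, hf, Or.inr (Or.inl h1)⟩)
    have hPT : P ≤ T₄ := by
      intro x hx
      obtain ⟨f, hf, h1 | h1⟩ := (D.mem x).mp hx
      · exact (D.mem₄ x).mpr ⟨f, hf, Or.inl h1⟩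
      · exact (D.mem₄ x).mpr ⟨f, hf, Or.inr (Or.inl h1)⟩
    have hyP : y ∉ P := y_notMem L D.toPData Z.yh
    have hyP' : ∀ x ∈ P, y⁻¹ * x * y ∈ P := B2Four.conj_inv_mem D.yP
    have h2 : P.relIndex T₄ = 2 := by
      apply relIndex_two hPT hyT
      intro b hb
      by_cases hbP : b ∈ P
      · refine Or.inr ⟨hbP, fun h2 => hyP ?_⟩
        have := P.mul_mem (P.inv_mem hbP) h2
        rwa [inv_mul_cancel_left] at this
      · refine Or.inl ⟨?_, hbP⟩
        obtain ⟨b', hb', hbb⟩ : ∃ b' ∈ P, b = y * b' := by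
          obtain ⟨f, hf, h1 | h1 | h1 | h1⟩ := (D.mem₄ b).mp hb
          · exact absurd ((D.mem b).mpr ⟨f, hf, Or.inl h1⟩) hbP
          · exact absurd ((D.mem b).mpr ⟨f, hf, Or.inr h1⟩) hbP
          · exact ⟨f, B2Four.F_le D.toPData hf, h1⟩
          · exact ⟨t * f, (D.mem _).mpr ⟨f, hf, Or.inr rfl⟩, by rw [h1, hty]; group⟩
        rw [hbb]
        have e : y * b' * y = (y * b' * y⁻¹) * (y * y) := by group
        rw [e, Z.y_sq]
        exact P.mul_mem (D.yP b' hb') (B2Four.t_mem D.toPData)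
    rw [← h1, h2, relIndex_F L D.toPData]
  obtain ⟨g, hg⟩ := hTC T₄ F hT hFT hnorm hidx hcyc htT D.t_notin
  exact B2LemA.not_conj_F L D.toPData g hg

/-- section 1, with (1.4)–(1.7) as hypotheses -/
theorem nsw_false_of (L : Loc t h V) (hn : NswAt t V) (hTT : TT t) (hTC : TC t)
    (hE16 : ∀ {y : G} {P F T₄ T : Subgroup G}, TypeY t h y V → FourData t h y V P F T₄ → IsSyl2 ⊤ T →
      T₄ ≤ T → T₄ ≠ T → Elem F → Nat.card F = 16 → (∀ f ∈ F, ∀ g : G, g * t * g⁻¹ ≠ y * f) → TT t → False)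
    (hE16Z : ∀ {y : G} {P F T₄ T : Subgroup G}, TypeZ t h y V → FourData t h y V P F T₄ → IsSyl2 ⊤ T →
      T₄ ≤ T → T₄ ≠ T → Elem F → Nat.card F = 16 → False)
    (hty : TypeN t h V ∨ (∃ y, TypeY t h y V) ∨ ∃ y, TypeZ t h y V) : False := by
  rcases hty with hN | ⟨y, Y⟩ | ⟨y, Z⟩
  · obtain ⟨P, F, D⟩ := B2LemA.exists_pData L hn
    exact typeN_false L hN D hTT
  · obtain ⟨P, F, T₄, D⟩ := exists_fourData L hn (Or.inl Y)
    obtain ⟨T, hT, hle⟩ := LieExceptional.CITBasic.exists_isSyl2 (⊤ : Subgroup G) T₄ le_top D.syl₄.two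
    by_cases hne : T₄ = T
    · rw [← hne] at hT
      exact typeY_ne L Y D hT hTT
    · obtain ⟨hE, h16⟩ := B2LemB.elem_sixteen L D (Or.inl Y) hT hle hne
      exact hE16 Y D hT hle hne hE h16 (not_conj_yF L Y D) hTT
  · obtain ⟨P, F, T₄, D⟩ := exists_fourData L hn (Or.inr Z)
    obtain ⟨T, hT, hle⟩ := LieExceptional.CITBasic.exists_isSyl2 (⊤ : Subgroup G) T₄ le_top D.syl₄.two
    by_cases hne : T₄ = T
    · rw [← hne] at hT
      exact typeZ_ne L Z D hT hTC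
    · obtain ⟨hE, h16⟩ := B2LemB.elem_sixteen L D (Or.inr Z) hT hle hne
      exact hE16Z Z D hT hle hne hE h16

end

end Cfsg.Agent.OddCyclic.B2Nsw
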