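import Mathlib
import Cfsg.Prelude.Def_CaseTheorems
import Cfsg.Prelude.Def_Involutions
import Cfsg.Agent.OddCyclic.T1Defs
import Cfsg.Agent.Lib.MinNormal
import Cfsg.Agent.S1163
import Cfsg.Agent.S0804
import Cfsg.Agent.ClassicalGeometry.PSL2Basic
import Cfsg.Agent.WeakTI.PslTwo

/-!
# S0342, T0 = 1, piece F2 (1.3): the socle of a group with `O_{3'} = 1`
-/

set_option autoImplicit false
universe u

namespace Cfsg.Agent.OddCyclic.T1Socle

open Subgroup
open Cfsg.Agent.LieExceptional.CITDefs Cfsg.Agent.OddCyclic.T1Defs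

/-- `3 ∤ |Sz(q)|` -/
theorem not_three_dvd {K : Type*} [Group K] [Finite K] (h : Cfsg.Lie.IsoSuzuki K) :
    ¬ 3 ∣ Nat.card K := by
  obtain ⟨F, _, _, m, hm, hF, ⟨e⟩⟩ := h
  rw [Nat.card_congr e.toEquiv, (S1163.result hm hF).1]
  have h1 : 2 ^ (2 * m + 1) % 3 = 2 := by
    rw [pow_succ, pow_mul, Nat.mul_mod, Nat.pow_mod]
    norm_num
  obtain ⟨k, hk⟩ : ∃ k, 2 ^ (2 * m + 1) = 3 * k + 2 := ⟨2 ^ (2 * m + 1) / 3, by omega⟩
  rw [hk]
  have h2 : 3 * k + 2 - 1 = 3 * k + 1 := by omega
  rw [h2]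
  have h3 : ¬ 3 ∣ (3 * k + 2) ^ 2 := fun h => by
    have := Nat.prime_three.dvd_of_dvd_pow h
    omega
  have h4 : ¬ 3 ∣ 3 * k + 1 := by omega
  have h5 : ¬ 3 ∣ (3 * k + 2) ^ 2 + 1 := by
    have : (3 * k + 2) ^ 2 = 3 * (3 * k ^ 2 + 4 * k + 1) + 1 := by ring
    omega
  rw [Nat.prime_three.dvd_mul, Nat.prime_three.dvd_mul]
  tauto

/-- elements of the same order in a cyclic group -/
theorem mem_zpowers_of_cyclic {P : Type*} [Group P] [Finite P] [IsCyclic P] {x y : P}
    (h : orderOf y = orderOf x) : y ∈ zpowers x := by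
  classical
  have := Fintype.ofFinite P
  have h1 := IsCyclic.card_pow_eq_one_le (α := P) (orderOf_pos x)
  have h2 : (Finset.univ.filter fun a : P => a ∈ zpowers x) ⊆
      Finset.univ.filter fun a : P => a ^ orderOf x = 1 := by
    intro a ha
    rw [Finset.mem_filter] at ha ⊢
    obtain ⟨k, rfl⟩ := mem_zpowers_iff.1 ha.2
    refine ⟨Finset.mem_univ _, ?_⟩
    rw [← zpow_natCast, ← zpow_mul, mul_comm, zpow_mul, zpow_natCast, pow_orderOf_eq_one, one_zpow]
  have h3 : (Finset.univ.filter fun a : P => a ∈ zpowers x).card = orderOf x := by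
    rw [← Fintype.card_subtype, ← Nat.card_eq_fintype_card]
    exact Nat.card_zpowers x
  have h4 := Finset.eq_of_subset_of_card_le h2 (by rw [h3]; exact h1)
  have h5 : y ∈ Finset.univ.filter fun a : P => a ^ orderOf x = 1 := by
    rw [Finset.mem_filter, ← h]
    exact ⟨Finset.mem_univ _, pow_orderOf_eq_one y⟩
  rw [← h4, Finset.mem_filter] at h5
  exact h5.2

variable {H : Type u} [Group H] [Finite H]

omit [Finite H] in
theorem isCyclic_of_pGroup (hc : OddCyc H) {p : ℕ} (hp : p.Prime) (hp2 : p ≠ 2) {Q : Subgroup H}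
    (hQ : IsPGroup p Q) : IsCyclic Q := by
  haveI : Fact p.Prime := ⟨hp⟩
  obtain ⟨P, hP⟩ := hQ.exists_le_sylow
  haveI := hc p P hp hp2
  exact isCyclic_of_injective (Subgroup.inclusion hP) (Subgroup.inclusion_injective hP)

theorem mem_zpowers_of_mem (hc : OddCyc H) {Q : Subgroup H} (hQ : IsPGroup 3 Q) {x y : H}
    (hx : x ∈ Q) (hy : y ∈ Q) (h : orderOf y = orderOf x) : y ∈ zpowers x := by
  haveI := isCyclic_of_pGroup hc Nat.prime_three (by norm_num) hQ
  have h1 : (⟨y, hy⟩ : Q) ∈ zpowers (⟨x, hx⟩ : Q) :=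
    mem_zpowers_of_cyclic (by rw [orderOf_mk, orderOf_mk, h])
  obtain ⟨k, hk⟩ := mem_zpowers_iff.1 h1
  exact mem_zpowers_iff.2 ⟨k, congrArg Subtype.val hk⟩

/-- commuting elements of order 3 generate the same subgroup -/
theorem mem_zpowers_of_commute (hc : OddCyc H) {x y : H} (hx : orderOf x = 3) (hy : orderOf y = 3)
    (h : Commute x y) : y ∈ zpowers x := by
  have hn : zpowers x ≤ normalizer (zpowers y : Set H) := by
    rw [zpowers_le, Subgroup.mem_normalizer_iff_map_conj_eq]
    rw [MonoidHom.map_zpowers]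
    congr 1
    change x * y * x⁻¹ = y
    rw [h.eq, mul_inv_cancel_right]
  have h1 : IsPGroup 3 (zpowers x ⊔ zpowers y : Subgroup H) := by
    refine IsPGroup.to_sup_of_normal_right' ?_ ?_ hn
    · exact IsPGroup.of_card (n := 1) (by rw [Nat.card_zpowers, hx, pow_one])
    · exact IsPGroup.of_card (n := 1) (by rw [Nat.card_zpowers, hy, pow_one])
  exact mem_zpowers_of_mem hc h1 (mem_sup_left (mem_zpowers x)) (mem_sup_right (mem_zpowers y))
    (by rw [hx, hy])

/-- a group with `OddCyc`: a nontrivial normal subgroup of order divisible by 3 contains all elements of order 3 -/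
theorem mem_of_orderOf_three (hc : OddCyc H) {N : Subgroup H} (hN : N.Normal) (h3 : 3 ∣ Nat.card N)
    {y : H} (hy : orderOf y = 3) : y ∈ N := by
  haveI : Fact (Nat.Prime 3) := ⟨Nat.prime_three⟩
  have hy' : IsPGroup 3 (zpowers y) := IsPGroup.of_card (n := 1) (by rw [Nat.card_zpowers, hy, pow_one])
  obtain ⟨P, hP⟩ := hy'.exists_le_sylow
  obtain ⟨x, hx⟩ := exists_prime_orderOf_dvd_card' 3 h3
  have hx0 : orderOf (x : H) = 3 := by rw [orderOf_coe, hx]
  have hx' : IsPGroup 3 (zpowers (x : H)) :=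
    IsPGroup.of_card (n := 1) (by rw [Nat.card_zpowers, hx0, pow_one])
  obtain ⟨P', hP'⟩ := hx'.exists_le_sylow
  obtain ⟨g, hg⟩ := MulAction.exists_smul_eq H P' P
  have hxg : g * x * g⁻¹ ∈ P := by
    rw [← hg]
    have := Subgroup.smul_mem_pointwise_smul (x : H) (MulAut.conj g) (P' : Subgroup H)
      (hP' (mem_zpowers _))
    exact this
  have hxN : g * x * g⁻¹ ∈ N := hN.conj_mem _ x.2 g
  have ho : orderOf (g * (x : H) * g⁻¹) = 3 := by
    rw [← MulAut.conj_apply, MulEquiv.orderOf_eq]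
    exact hx0
  have h5 := mem_zpowers_of_mem hc P.isPGroup' (x := g * x * g⁻¹) (y := y) hxg
    (hP (mem_zpowers y)) (by rw [ho, hy])
  exact (zpowers_le.2 hxN) h5

/-- existence of a minimal normal subgroup -/
theorem exists_min (H : Type u) [Group H] [Finite H] [Nontrivial H] : ∃ N : Subgroup H, N.Normal ∧ N ≠ ⊥ ∧
    ∀ M : Subgroup H, M.Normal → M ≤ N → M = ⊥ ∨ M = N := by
  have hfin : {T : Subgroup H | T.Normal ∧ T ≠ ⊥}.Finite := Set.toFinite _
  have hne : {T : Subgroup H | T.Normal ∧ T ≠ ⊥}.Nonempty := ⟨⊤, inferInstance, top_ne_bot⟩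
  obtain ⟨T, ⟨hT, hT0⟩, hTmin⟩ := hfin.exists_minimal hne
  refine ⟨T, hT, hT0, fun M hM hMT => ?_⟩
  by_cases h : M = ⊥
  · exact Or.inl h
  · exact Or.inr (le_antisymm hMT (hTmin ⟨hM, h⟩ hMT))

/-- a minimal normal subgroup of order divisible by 3 is simple -/
theorem isSimple_of_min (hc : OddCyc H) {N : Subgroup H} (hN : N.Normal) (hN0 : N ≠ ⊥)
    (hmin : ∀ M : Subgroup H, M.Normal → M ≤ N → M = ⊥ ∨ M = N) (h3 : 3 ∣ Nat.card N) :
    IsSimpleGroup N := by
  haveI : Fact (Nat.Prime 3) := ⟨Nat.prime_three⟩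
  obtain ⟨m, T, hm, hle, hs, hnz, hconj, hcomm, hinj, hind, hsup⟩ :=
    Lib.MinNormal.exists_internal_decomposition N hN0 hmin
  have hcomm' : Pairwise fun i j : Fin m => ∀ x y : H, x ∈ T i → y ∈ T j → Commute x y :=
    fun i j hij x y hx hy => hcomm i j hij x hx y hy
  obtain ⟨e⟩ := Lib.MinNormal.mulEquiv_pi_of_iSupIndep T hcomm' hind hsup
  have h1 : 3 ∣ ∏ i, Nat.card (T i) := by
    rw [← Nat.card_pi, ← Nat.card_congr e.toEquiv]
    exact h3
  obtain ⟨i, -, hi⟩ := (Nat.prime_three.prime.dvd_finsetProd_iff _).1 h1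
  have hall : ∀ j, 3 ∣ Nat.card (T j) := by
    intro j
    obtain ⟨g, hg⟩ := hconj i j
    rw [hg, Nat.card_congr ((T i).equivMapOfInjective _ (MulAut.conj g).injective).symm.toEquiv]
    exact hi
  have hone : ∀ j k : Fin m, j = k := by
    intro j k
    by_contra hjk
    obtain ⟨x, hx⟩ := exists_prime_orderOf_dvd_card' 3 (hall j)
    obtain ⟨y, hy⟩ := exists_prime_orderOf_dvd_card' 3 (hall k)
    have hx0 : orderOf (x : H) = 3 := by rw [orderOf_coe, hx]
    have hy0 : orderOf (y : H) = 3 := by rw [orderOf_coe, hy]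
    have h5 := mem_zpowers_of_commute hc hx0 hy0 (hcomm' hjk _ _ x.2 y.2)
    have h6 : (y : H) ∈ T j := (zpowers_le.2 x.2) h5
    have h7 : (y : H) = 1 := (Subgroup.disjoint_def.1 (hind.pairwiseDisjoint hjk)) h6 y.2
    rw [h7, orderOf_one] at hy0
    omega
  have h8 : T i = N := by
    rw [← hsup]
    apply le_antisymm (le_iSup T i)
    exact iSup_le fun j => by rw [hone j i]
  rw [← h8]
  exact hs i

/-- the soluble case -/
theorem normal_three (hc : OddCyc H) (hsix : NoSix H)
    (hO : ∀ N : Subgroup H, N.Normal → ¬ 3 ∣ Nat.card N → N = ⊥) {N : Subgroup H} (hN : N.Normal)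
    (hN3 : Nat.card N = 3) :
    ∃ P : Sylow 3 H, (P : Subgroup H).Normal ∧ (P : Subgroup H).index ∣ 2 ∧
      Subgroup.centralizer ((P : Subgroup H) : Set H) = P := by
  haveI : Fact (Nat.Prime 3) := ⟨Nat.prime_three⟩
  have hcycN : IsCyclic N := isCyclic_of_prime_card hN3
  set C : Subgroup H := centralizer (N : Set H) with hC
  have hCn : C.Normal := by rw [hC]; infer_instance
  -- index
  have hidx : C.index ∣ 2 := by
    have h1 : (MulAut.conjNormal (H := N)).ker = C := by
      ext g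
      rw [MonoidHom.mem_ker, hC, mem_centralizer_iff]
      constructor
      · intro h n hn
        have h2 : g * n * g⁻¹ = n := by
          have := congrArg (fun f : MulAut N => ((f ⟨n, hn⟩ : N) : H)) h
          simpa using this
        exact (mul_inv_eq_iff_eq_mul.1 h2).symm
      · intro h
        ext n
        rw [MulAut.conjNormal_apply, MulAut.one_apply, ← h n n.2, mul_inv_cancel_right]
    rw [← h1, index_ker]
    have h2 : Nat.card (MulAut N) = 2 := by
      rw [IsCyclic.card_mulAut, hN3]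
      decide
    rw [← h2]
    exact card_subgroup_dvd_card _
  -- `N ≤ C`
  have hNC : N ≤ C := by
    haveI : IsMulCommutative N := hcycN.isMulCommutative
    exact le_centralizer N
  have h3C : 3 ∣ Nat.card C := by
    rw [← hN3]
    exact card_dvd_of_le hNC
  -- `C` has odd order
  obtain ⟨n, hn⟩ := exists_prime_orderOf_dvd_card' (G := N) 3 (by rw [hN3])
  have hn0 : orderOf (n : H) = 3 := by rw [orderOf_coe, hn]
  have hodd : ¬ 2 ∣ Nat.card C := by
    intro h2
    haveI : Fact (Nat.Prime 2) := ⟨Nat.prime_two⟩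
    obtain ⟨t, ht⟩ := exists_prime_orderOf_dvd_card' 2 h2
    have ht0 : orderOf (t : H) = 2 := by rw [orderOf_coe, ht]
    have hcom : Commute (n : H) (t : H) := mem_centralizer_iff.1 t.2 n n.2
    refine hsix (n * t) ?_
    rw [hcom.orderOf_mul_eq_mul_orderOf_of_coprime (by rw [hn0, ht0]; decide), hn0, ht0]
  have hmf : (Nat.card C).minFac = 3 := by
    have h1 : (Nat.card C).minFac ≤ 3 := Nat.minFac_le_of_dvd (by norm_num) h3C
    have h2 : (Nat.card C).minFac.Prime := Nat.minFac_prime (fun h => by rw [h] at h3C; omega)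
    have h3 := h2.two_le
    have h4 : (Nat.card C).minFac ≠ 2 := fun h => hodd (h ▸ Nat.minFac_dvd _)
    omega
  -- the complement
  let P : Sylow 3 C := default
  have hPc : IsCyclic P := by
    have h1 : IsPGroup 3 ((P : Subgroup C).map C.subtype) := P.isPGroup'.map _
    haveI := isCyclic_of_pGroup hc Nat.prime_three (by norm_num) h1
    exact isCyclic_of_injective (((P : Subgroup C).equivMapOfInjective C.subtype
      C.subtype_injective).toMonoidHom) (MulEquiv.injective _)
  set K := (MonoidHom.transferSylow P (hPc.normalizer_le_centralizer hmf)).ker with hK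
  have hcomp : K.IsComplement' P := IsCyclic.isComplement' hmf hPc
  have hKn : K.Normal := by rw [hK]; infer_instance
  have hKcard : ¬ 3 ∣ Nat.card K := by
    rw [← hcomp.index_eq_card]
    exact P.not_dvd_index
  have hKmem : ∀ c : C, c ∈ K ↔ ¬ 3 ∣ orderOf c := by
    intro c
    constructor
    · intro h h3
      exact hKcard (h3.trans (by
        have := Subgroup.orderOf_dvd_natCard K h
        exact this))
    · intro h
      have h1 : K.index = Nat.card P := hcomp.symm.index_eq_card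
      have h2 : orderOf (QuotientGroup.mk c : C ⧸ K) ∣ orderOf c := orderOf_map_dvd (QuotientGroup.mk' K) c
      have h3 : orderOf (QuotientGroup.mk c : C ⧸ K) ∣ Nat.card P := by
        rw [← h1]
        exact orderOf_dvd_natCard _
      obtain ⟨k, hk⟩ := IsPGroup.iff_card.1 P.isPGroup'
      rw [hk] at h3
      have h4 : (orderOf c).Coprime (3 ^ k) :=
        (Nat.Coprime.pow_left k ((Nat.Prime.coprime_iff_not_dvd Nat.prime_three).2 h)).symm
      have h5 : orderOf (QuotientGroup.mk c : C ⧸ K) = 1 := Nat.eq_one_of_dvd_coprimes h4 h2 h3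
      rw [orderOf_eq_one_iff] at h5
      exact (QuotientGroup.eq_one_iff c).1 h5
  have hKH : (K.map C.subtype).Normal := by
    refine ⟨?_⟩
    rintro _ ⟨c, hc', rfl⟩ g
    refine ⟨⟨g * c * g⁻¹, hCn.conj_mem _ c.2 g⟩, ?_, rfl⟩
    have h1 := (hKmem c).1 hc'
    refine (hKmem _).2 ?_
    rw [← orderOf_coe]
    have h2 : orderOf (g * (c : H) * g⁻¹) = orderOf (c : H) := by
      rw [← MulAut.conj_apply, MulEquiv.orderOf_eq]
    change ¬ 3 ∣ orderOf (g * (c : H) * g⁻¹)
    rw [h2, orderOf_coe]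
    exact h1
  have hKbot : K = ⊥ := by
    have h1 := hO _ hKH (by
      rw [Nat.card_congr (K.equivMapOfInjective C.subtype C.subtype_injective).symm.toEquiv]
      exact hKcard)
    exact (Subgroup.map_eq_bot_iff_of_injective K C.subtype_injective).1 h1
  have hPtop : (P : Subgroup C) = ⊤ := by
    rw [hKbot] at hcomp
    exact isComplement'_bot_left.1 hcomp
  have hC3 : IsPGroup 3 C := by
    have h1 := P.isPGroup'
    rw [hPtop] at h1
    exact h1.of_equiv Subgroup.topEquiv
  have hni : ¬ 3 ∣ C.index := by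
    intro h
    have := Nat.le_of_dvd (by norm_num) (h.trans hidx)
    omega
  refine ⟨hC3.toSylow hni, hCn, hidx, ?_⟩
  change centralizer (C : Set H) = C
  apply le_antisymm
  · rw [hC]
    exact centralizer_le (by exact_mod_cast hNC)
  · haveI := isCyclic_of_pGroup hc Nat.prime_three (by norm_num) hC3
    haveI : IsMulCommutative C := IsCyclic.isMulCommutative
    exact le_centralizer C

theorem equiv_alternating {F' : Type*} [Field F'] [Fintype F']
    (h5 : 5 ∣ Fintype.card F' * (Fintype.card F' ^ 2 - 1))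
    (hcard : Nat.card (Matrix.ProjectiveSpecialLinearGroup (Fin 2) F') = 60) :
    Nonempty (Matrix.ProjectiveSpecialLinearGroup (Fin 2) F' ≃* alternatingGroup (Fin 5)) := by
  obtain ⟨H, ⟨e⟩⟩ := (S0804.result (F := F') rfl).2 h5
  have h1 : Nat.card H = 60 := by
    rw [Nat.card_congr e.toEquiv, nat_card_alternatingGroup]
    norm_num [Nat.factorial]
  have h2 : H = ⊤ := Subgroup.eq_top_of_card_eq H (by rw [h1, hcard])
  exact ⟨Subgroup.topEquiv.symm.trans ((MulEquiv.subgroupCongr h2).symm.trans e)⟩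

/-- `PSL(2,5) ≅ SL(2,4)` -/
theorem exists_four {F : Type*} [Field F] [Fintype F] (hF : Fintype.card F = 5) :
    ∃ (K : Type) (_ : Field K) (_ : Fintype K) (_ : CharP K 2), Fintype.card K = 4 ∧
      Nonempty (Matrix.ProjectiveSpecialLinearGroup (Fin 2) F ≃* Matrix.SpecialLinearGroup (Fin 2) K) := by
  haveI : Fact (Nat.Prime 2) := ⟨Nat.prime_two⟩
  letI := Fintype.ofFinite (GaloisField 2 2)
  have hK : Fintype.card (GaloisField 2 2) = 4 := by
    rw [← Nat.card_eq_fintype_card, GaloisField.card 2 2 (by norm_num)]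
    norm_num
  have c1 : Nat.card (Matrix.ProjectiveSpecialLinearGroup (Fin 2) (GaloisField 2 2)) = 60 := by
    rw [ClassicalGeometry.PSL2Basic.card_PSL2_even (GaloisField 2 2) (by rw [hK]; decide), hK]
    norm_num
  have c2 : Nat.card (Matrix.ProjectiveSpecialLinearGroup (Fin 2) F) = 60 := by
    have h := ClassicalGeometry.PSL2Basic.card_PSL2_odd F (by rw [hF]; decide)
    rw [hF] at h
    omega
  obtain ⟨f⟩ := equiv_alternating (F' := F) (by rw [hF]; norm_num) c2
  obtain ⟨g⟩ := equiv_alternating (F' := GaloisField 2 2) (by rw [hK]; norm_num) c1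
  obtain ⟨k⟩ := WeakTI.PslTwo.nonempty_equiv (F := GaloisField 2 2)
  exact ⟨GaloisField 2 2, inferInstance, inferInstance, inferInstance, hK,
    ⟨(f.trans g.symm).trans k.symm⟩⟩

/-- F2 (1.3): a group with O_{3'} = 1, cyclic odd Sylows, no elements of order 6, sections in K1 -/
theorem socle {H : Type u} [Group H] [Finite H] (hc : OddCyc H) (hK : KSec H) (hsix : NoSix H) (h3 : 3 ∣ Nat.card H)
    (hO : ∀ N : Subgroup H, N.Normal → ¬ 3 ∣ Nat.card N → N = ⊥) :
    (∃ P : Sylow 3 H, (P : Subgroup H).Normal ∧ (P : Subgroup H).index ∣ 2 ∧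
      Subgroup.centralizer ((P : Subgroup H) : Set H) = P) ∨
    ∃ L : Subgroup H, L.Normal ∧ IsSimpleGroup L ∧ Subgroup.centralizer (L : Set H) = ⊥ ∧
      (∀ x : H, orderOf x = 3 → x ∈ L) ∧
      ((∃ (F : Type) (_ : Field F) (_ : Fintype F), (Fintype.card F).Prime ∧ 7 ≤ Fintype.card F ∧
          Nonempty (L ≃* Matrix.ProjectiveSpecialLinearGroup (Fin 2) F)) ∨
        ∃ (F : Type) (_ : Field F) (_ : Fintype F) (_ : CharP F 2), 4 ≤ Fintype.card F ∧
          Nonempty (L ≃* Matrix.SpecialLinearGroup (Fin 2) F)) := by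
  haveI : Fact (Nat.Prime 3) := ⟨Nat.prime_three⟩
  haveI : Nontrivial H := by
    rw [← Finite.one_lt_card_iff_nontrivial]
    have := Nat.le_of_dvd Nat.card_pos h3
    omega
  obtain ⟨N, hN, hN0, hmin⟩ := exists_min H
  have h3N : 3 ∣ Nat.card N := by
    by_contra h
    exact hN0 (hO N hN h)
  haveI hs := isSimple_of_min hc hN hN0 hmin h3N
  by_cases hab : ∀ a b : N, a * b = b * a
  · left
    letI : CommGroup N := { (inferInstance : Group N) with mul_comm := hab }
    have hp : (Nat.card N).Prime := IsSimpleGroup.prime_card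
    exact normal_three hc hsix hO hN ((Nat.prime_dvd_prime_iff_eq Nat.prime_three hp).1 h3N).symm
  · right
    push Not at hab
    have hcent : centralizer (N : Set H) = ⊥ := by
      refine hO _ inferInstance fun h => ?_
      obtain ⟨y, hy⟩ := exists_prime_orderOf_dvd_card' 3 h
      have hy0 : orderOf (y : H) = 3 := by rw [orderOf_coe, hy]
      have hyN := mem_of_orderOf_three hc hN h3N hy0
      have h1 : (⟨y, hyN⟩ : N) ∈ center N := by
        rw [mem_center_iff]
        intro g
        exact Subtype.ext (mem_centralizer_iff.1 y.2 g g.2)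
      rcases (inferInstance : (center N).Normal).eq_bot_or_eq_top with h2 | h2
      · rw [h2, mem_bot] at h1
        have h4 : (y : H) = 1 := congrArg Subtype.val h1
        rw [h4, orderOf_one] at hy0
        omega
      · obtain ⟨a, b, hne⟩ := hab
        have h5 : b ∈ center N := by rw [h2]; exact mem_top b
        exact hne (mem_center_iff.1 h5 a)
    refine ⟨N, hN, hs, hcent, fun x hx => mem_of_orderOf_three hc hN h3N hx, ?_⟩
    let e : N ≃* (N ⧸ (⊥ : Subgroup N)) := QuotientGroup.quotientBot.symm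
    haveI : IsSimpleGroup (N ⧸ (⊥ : Subgroup N)) := e.symm.isSimpleGroup
    obtain ⟨a, b, hne⟩ := hab
    have hk := hK N ⊥ inferInstance ⟨e a, e b, fun h => hne (e.injective (by rw [map_mul, map_mul, h]))⟩
    rcases hk with ⟨F, i1, i2, hp, h5, ⟨f⟩⟩ | ⟨F, i1, i2, k, hk2, hF, ⟨f⟩⟩ | h | ⟨g, hg⟩
    · by_cases h7 : 7 ≤ Fintype.card F
      · exact Or.inl ⟨F, i1, i2, hp, h7, ⟨e.trans f⟩⟩
      · right
        have hF5 : Fintype.card F = 5 := by
          have h6 : Fintype.card F ≠ 6 := by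
            intro h
            rw [h] at hp
            exact absurd hp (by decide)
          omega
        obtain ⟨K, j1, j2, j3, hK4, ⟨g⟩⟩ := exists_four hF5
        exact ⟨K, j1, j2, j3, hK4.ge, ⟨(e.trans f).trans g⟩⟩
    · right
      haveI : Fact (Nat.Prime 2) := ⟨Nat.prime_two⟩
      haveI : CharP F 2 := charP_of_card_eq_prime_pow hF
      obtain ⟨g⟩ := WeakTI.PslTwo.nonempty_equiv (F := F)
      refine ⟨F, i1, i2, inferInstance, ?_, ⟨(e.trans f).trans g.symm⟩⟩
      rw [hF]
      calc 4 = 2 ^ 2 := by norm_num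
        _ ≤ 2 ^ k := Nat.pow_le_pow_right (by norm_num) hk2
    · exfalso
      refine not_three_dvd h ?_
      rw [Nat.card_congr e.symm.toEquiv]
      exact h3N
    · exfalso
      refine hsix (e.symm g : N) ?_
      rw [orderOf_coe, MulEquiv.orderOf_eq]
      exact hg

end Cfsg.Agent.OddCyclic.T1Socle
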