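import Mathlib
import Cfsg.Agent.OddCyclic.CompBasic
import Cfsg.Agent.OddCyclic.T1Socle
import Cfsg.Agent.OddCyclic.ZTPsl
import Cfsg.Agent.OddCyclic.ZTSz
import Cfsg.Agent.Lib.MinNormal
import Cfsg.Agent.Lib.FieldAutCard

/-!
# S0342, component type, case A: the Singer lemma

Blueprint `blueprints/S0342-caseA.md`, [A-e]. A group `X` with cyclic odd Sylow subgroups acts faithfully on the
elementary abelian 2-group `E`, and contains a cyclic subgroup `H` regular on `E \ {1}`. If the normalisers of the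
subgroups of prime order of `H` normalise `H`, then `H` is normal in `X` (for `|E| = 8` we assume `N(H) = H`).
-/

set_option autoImplicit false

namespace Cfsg.Agent.OddCyclic.CaseASinger

open Subgroup Cfsg.Agent.OddCyclic.T1Defs Cfsg.Agent.OddCyclic.Zass

/-- the situation -/
structure Sg (X E : Type*) [Group X] [Group E] [MulDistribMulAction X E] (H : Subgroup X) : Prop where
  exp : ∀ v : E, v * v = 1
  four : 4 ≤ Nat.card E
  cyc : OddCyc X
  cycH : IsCyclic H
  reg : ∀ v w : E, v ≠ 1 → w ≠ 1 → ∃! h : H, (h : X) • v = w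
  faith : ∀ x : X, (∀ v : E, x • v = v) → x = 1

variable {X E : Type*} [Group X] [Group E] [MulDistribMulAction X E] {H : Subgroup X}

theorem smul_ne_one {x : X} {v : E} (hv : v ≠ 1) : x • v ≠ 1 := fun h =>
  hv (by rw [← inv_smul_smul x v, h, smul_one])

namespace Sg

section basic

variable (h : Sg X E H)
include h

theorem trans {v w : E} (hv : v ≠ 1) (hw : w ≠ 1) : ∃ y ∈ H, y • v = w := by
  obtain ⟨y, hy, -⟩ := h.reg v w hv hw
  exact ⟨y, y.2, hy⟩

theorem fix_one {v : E} (hv : v ≠ 1) {x : X} (hx : x ∈ H) (hxv : x • v = v) : x = 1 := by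
  obtain ⟨y, -, hy⟩ := h.reg v v hv hv
  have h1 := hy ⟨x, hx⟩ hxv
  have h2 := hy 1 (one_smul _ _)
  exact congrArg Subtype.val (h1.trans h2.symm)

theorem finE : Finite E := Nat.finite_of_card_ne_zero (by have := h.four; omega)

theorem exists_ne : ∃ v : E, v ≠ 1 := by
  have := h.finE
  by_contra hc
  push Not at hc
  have : Subsingleton E := ⟨fun a b => (hc a).trans (hc b).symm⟩
  have h1 := Finite.card_le_one_iff_subsingleton.2 this
  have := h.four
  omega

theorem mul_comm' (v w : E) : v * w = w * v := by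
  have h1 := h.exp (v * w)
  have h2 : v⁻¹ = v := inv_eq_of_mul_eq_one_left (h.exp v)
  have h3 : w⁻¹ = w := inv_eq_of_mul_eq_one_left (h.exp w)
  have h4 : (v * w)⁻¹ = v * w := inv_eq_of_mul_eq_one_left h1
  rw [mul_inv_rev, h2, h3] at h4
  exact h4.symm

theorem isPGroup : IsPGroup 2 E := fun v => ⟨1, by rw [pow_one, pow_two, h.exp]⟩

theorem card_pow : ∃ f, 2 ≤ f ∧ Nat.card E = 2 ^ f := by
  have := h.finE
  have : Fact (Nat.Prime 2) := ⟨Nat.prime_two⟩
  obtain ⟨f, hf⟩ := IsPGroup.iff_card.1 h.isPGroup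
  refine ⟨f, ?_, hf⟩
  by_contra hc
  have h1 : f ≤ 1 := by omega
  have h2 := h.four
  have h3 := Nat.pow_le_pow_right (n := 2) (by norm_num) h1
  omega

theorem card_H : Nat.card H = Nat.card E - 1 := by
  classical
  have := h.finE
  have := Fintype.ofFinite E
  obtain ⟨v, hv⟩ := h.exists_ne
  let f : H → {w : E // w ≠ 1} := fun y => ⟨(y : X) • v, smul_ne_one hv⟩
  have hf : Function.Bijective f := by
    constructor
    · intro y z hyz
      have h1 : (y : X) • v = (z : X) • v := congrArg Subtype.val hyz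
      obtain ⟨c, -, hc⟩ := h.reg v ((z : X) • v) hv (smul_ne_one hv)
      exact (hc y h1).trans (hc z rfl).symm
    · rintro ⟨w, hw⟩
      obtain ⟨c, hc, -⟩ := h.reg v w hv hw
      exact ⟨c, Subtype.ext hc⟩
  rw [Nat.card_congr (Equiv.ofBijective f hf), Nat.card_eq_fintype_card, Nat.card_eq_fintype_card,
    Fintype.card_subtype_compl, Fintype.card_subtype_eq]

theorem odd_H : ¬ 2 ∣ Nat.card H := by
  obtain ⟨f, hf, hE⟩ := h.card_pow
  rw [h.card_H, hE]
  have h1 : 2 ∣ 2 ^ f := dvd_pow_self 2 (by omega)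
  have h2 : 1 ≤ 2 ^ f := Nat.one_le_two_pow
  omega

theorem fixed_bot {B : Subgroup X} (hB : B.Normal) {v : E} (hv : v ≠ 1) (hb : ∀ b ∈ B, b • v = v) : B = ⊥ := by
  rw [eq_bot_iff]
  intro b hbB
  rw [mem_bot]
  apply h.faith
  intro w
  by_cases hw : w = 1
  · rw [hw, smul_one]
  · obtain ⟨y, -, hy⟩ := h.trans hv hw
    have h1 : (y⁻¹ * b * y) • v = v := hb _ (by
      have := hB.conj_mem b hbB y⁻¹
      rwa [inv_inv] at this)
    rw [← hy, ← mul_smul]
    have h2 : b * y = y * (y⁻¹ * b * y) := by group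
    rw [h2, mul_smul, h1]

theorem comm_mem (x : X) (hx : ∀ y ∈ H, x * y = y * x) : x ∈ H := by
  obtain ⟨v, hv⟩ := h.exists_ne
  obtain ⟨y, hy, hyv⟩ := h.trans hv (smul_ne_one (x := x) hv)
  have h1 : y⁻¹ * x = 1 := by
    apply h.faith
    intro w
    by_cases hw : w = 1
    · rw [hw, smul_one]
    · obtain ⟨z, hz, hzw⟩ := h.trans hv hw
      have hyz : y * z = z * y := by
        have := h.cycH
        have := (IsCyclic.commGroup (α := H)).mul_comm ⟨y, hy⟩ ⟨z, hz⟩
        exact congrArg Subtype.val this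
      have h3 : y⁻¹ * x * z = z * (y⁻¹ * x) := by
        calc y⁻¹ * x * z = y⁻¹ * (x * z) := by group
          _ = y⁻¹ * (z * x) := by rw [hx z hz]
          _ = y⁻¹ * (z * y) * y⁻¹ * x := by group
          _ = y⁻¹ * (y * z) * y⁻¹ * x := by rw [hyz]
          _ = z * (y⁻¹ * x) := by group
      rw [← hzw, ← mul_smul, h3, mul_smul, mul_smul, ← hyv, inv_smul_smul]
  have h2 : x = y := (inv_mul_eq_one.1 h1).symm
  rw [h2]; exact hy

theorem commH {x y : X} (hx : x ∈ H) (hy : y ∈ H) : x * y = y * x := by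
  have := h.cycH
  have := (IsCyclic.commGroup (α := H)).mul_comm ⟨x, hx⟩ ⟨y, hy⟩
  exact congrArg Subtype.val this

/-- commutators of elements of the normaliser lie in `H` -/
theorem commutator_mem {x y : X} (hx : x ∈ normalizer (H : Set X)) (hy : y ∈ normalizer (H : Set X)) :
    x * y * x⁻¹ * y⁻¹ ∈ H := by
  have := h.cycH
  obtain ⟨g, hg⟩ := IsCyclic.exists_generator (α := H)
  have hpow : ∀ z ∈ normalizer (H : Set X), ∃ k : ℤ, ∀ w ∈ H, z * w * z⁻¹ = w ^ k := by
    intro z hz
    have h1 : z * g * z⁻¹ ∈ H := (mem_normalizer_iff.1 hz _).1 g.2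
    obtain ⟨k, hk⟩ := mem_zpowers_iff.1 (hg ⟨_, h1⟩)
    have hk' : (g : X) ^ k = z * g * z⁻¹ := congrArg Subtype.val hk
    refine ⟨k, fun w hw => ?_⟩
    obtain ⟨j, hj⟩ := mem_zpowers_iff.1 (hg ⟨w, hw⟩)
    have hj' : (g : X) ^ j = w := congrArg Subtype.val hj
    rw [← hj', ← conj_zpow, ← hk', ← zpow_mul, ← zpow_mul, mul_comm]
  obtain ⟨a, ha⟩ := hpow x hx
  obtain ⟨b, hb⟩ := hpow y hy
  apply h.comm_mem
  intro w hw
  have hmul : ∀ z ∈ normalizer (H : Set X), ∀ w ∈ H, z * w * z⁻¹ ∈ H := fun z hz w hw =>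
    (mem_normalizer_iff.1 hz _).1 hw
  -- apply with `w := (y x)⁻¹ w (y x)`
  have hyx : (y * x)⁻¹ ∈ normalizer (H : Set X) := inv_mem (mul_mem hy hx)
  have hw' : (y * x)⁻¹ * w * (y * x) ∈ H := by
    have := hmul _ hyx w hw
    rwa [inv_inv] at this
  have h2 : x * y * ((y * x)⁻¹ * w * (y * x)) * (x * y)⁻¹ = w := by
    have key : ∀ w ∈ H, x * y * w * (x * y)⁻¹ = y * x * w * (y * x)⁻¹ := by
      intro w hw
      calc x * y * w * (x * y)⁻¹ = x * (y * w * y⁻¹) * x⁻¹ := by group
        _ = (w ^ b) ^ a := by rw [ha _ (hmul y hy w hw), hb w hw]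
        _ = (w ^ a) ^ b := by rw [← zpow_mul, ← zpow_mul, mul_comm]
        _ = y * (x * w * x⁻¹) * y⁻¹ := by rw [hb _ (hmul x hx w hw), ha w hw]
        _ = y * x * w * (y * x)⁻¹ := by group
    rw [key _ hw']; group
  calc x * y * x⁻¹ * y⁻¹ * w = (x * y * ((y * x)⁻¹ * w * (y * x)) * (x * y)⁻¹) * (x * y * x⁻¹ * y⁻¹) := by group
    _ = w * (x * y * x⁻¹ * y⁻¹) := by rw [h2]

/-- a nonabelian simple subgroup does not normalise `H` -/
theorem not_le {B : Subgroup X} [IsSimpleGroup B] (hne : ∃ a b : B, a * b ≠ b * a) :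
    ¬ B ≤ normalizer (H : Set X) := by
  intro hle
  obtain ⟨a, b, hab⟩ := hne
  have hn : (H.subgroupOf B).Normal := by
    constructor
    intro x hx g
    rw [mem_subgroupOf] at hx ⊢
    exact (mem_normalizer_iff.1 (hle g.2) _).1 hx
  have hc : ∀ a b : B, a * b * a⁻¹ * b⁻¹ ∈ H.subgroupOf B := fun a b => by
    rw [mem_subgroupOf]
    exact h.commutator_mem (hle a.2) (hle b.2)
  rcases hn.eq_bot_or_eq_top with h1 | h1
  · apply hab
    have h2 := hc a b
    rw [h1, mem_bot, mul_inv_eq_one, mul_inv_eq_iff_eq_mul] at h2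
    exact h2
  · have h2 : ∀ a : B, (a : X) ∈ H := fun a => by
      have : a ∈ H.subgroupOf B := by rw [h1]; exact mem_top a
      rwa [mem_subgroupOf] at this
    exact hab (Subtype.ext (h.commH (h2 a) (h2 b)))

variable [Finite X]

omit h in
omit [Group E] [MulDistribMulAction X E] in
theorem exists_order {r : ℕ} (hr : r.Prime) (hd : r ∣ Nat.card H) : ∃ y ∈ H, orderOf y = r := by
  have : Fact r.Prime := ⟨hr⟩
  obtain ⟨y, hy⟩ := exists_prime_orderOf_dvd_card' r hd
  exact ⟨y, y.2, by rw [orderOf_coe, hy]⟩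

/-- elements of prime order in `H ∩ B` -/
theorem exists_order_inf {B : Subgroup X} (hB : B.Normal) {r : ℕ} (hr : r.Prime) (hd : r ∣ Nat.card H)
    (hdB : r ∣ Nat.card B) : ∃ y ∈ H, y ∈ B ∧ orderOf y = r := by
  obtain ⟨y, hy, hyr⟩ := exists_order hr hd
  have hr2 : r ≠ 2 := by
    rintro rfl
    exact h.odd_H hd
  exact ⟨y, hy, CompBasic.mem_of_orderOf h.cyc hr hr2 hB hdB hyr, hyr⟩

/-- point stabilisers of normal subgroups: the index divides `|E| - 1` -/
theorem index_dvd {B : Subgroup X} (hB : B.Normal) {v : E} (hv : v ≠ 1) :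
    ((MulAction.stabilizer X v).subgroupOf B).index ∣ Nat.card H := by
  set K := MulAction.stabilizer X v with hK
  -- the index of `K` is the order of `H`
  have h1 : K.index = Nat.card H := by
    have hf : Function.Bijective (fun y : H => (QuotientGroup.mk (y : X) : X ⧸ K)) := by
      constructor
      · intro y z hyz
        have h2 : (y : X)⁻¹ * z ∈ K := QuotientGroup.eq.1 hyz
        have h3 : ((y : X)⁻¹ * z) • v = v := h2
        have h4 := h.fix_one hv (mul_mem (inv_mem y.2) z.2) h3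
        exact Subtype.ext (inv_mul_eq_one.1 h4)
      · intro c
        obtain ⟨x, rfl⟩ := QuotientGroup.mk_surjective c
        obtain ⟨y, hy, hyx⟩ := h.trans hv (smul_ne_one (x := x) hv)
        refine ⟨⟨y, hy⟩, ?_⟩
        rw [QuotientGroup.eq]
        show (y⁻¹ * x) • v = v
        rw [mul_smul, ← hyx, inv_smul_smul]
    exact (Nat.card_congr (Equiv.ofBijective _ hf)).symm
  rw [← h1]
  have hrel : (K.subgroupOf B).index = K.relIndex B := rfl
  rw [hrel]
  have e1 := (K ⊓ B).card_mul_index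
  have e2 : B.relIndex (K ⊔ B) = B.relIndex K := relIndex_sup_right K B
  have e3 : Nat.card B * B.relIndex (K ⊔ B) = Nat.card (K ⊔ B : Subgroup X) := by
    rw [← Nat.card_congr (Subgroup.subgroupOfEquivOfLe (le_sup_right : B ≤ K ⊔ B)).toEquiv]
    exact (B.subgroupOf (K ⊔ B)).card_mul_index
  have e4 : Nat.card (K ⊓ B : Subgroup X) * B.relIndex K = Nat.card K := by
    have : Nat.card (B.subgroupOf K) = Nat.card (K ⊓ B : Subgroup X) := by
      rw [← inf_subgroupOf_left, Nat.card_congr (Subgroup.subgroupOfEquivOfLe (inf_le_left : K ⊓ B ≤ K)).toEquiv]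
    rw [← this]
    exact (B.subgroupOf K).card_mul_index
  have e5 : Nat.card (K ⊓ B : Subgroup X) * K.relIndex B = Nat.card B := by
    have : Nat.card (K.subgroupOf B) = Nat.card (K ⊓ B : Subgroup X) := by
      rw [← inf_subgroupOf_right, Nat.card_congr (Subgroup.subgroupOfEquivOfLe (inf_le_right : K ⊓ B ≤ B)).toEquiv]
    rw [← this]
    exact (K.subgroupOf B).card_mul_index
  have e6 := K.card_mul_index
  have e7 := (K ⊔ B).card_mul_index
  refine ⟨(K ⊔ B).index, ?_⟩
  have hpos : 0 < Nat.card (K ⊓ B : Subgroup X) * B.relIndex K := by rw [e4]; exact Nat.card_pos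
  apply Nat.eq_of_mul_eq_mul_left hpos
  calc Nat.card (K ⊓ B : Subgroup X) * B.relIndex K * K.index = Nat.card X := by rw [e4, e6]
    _ = Nat.card B * B.relIndex (K ⊔ B) * (K ⊔ B).index := by rw [e3, e7]
    _ = Nat.card (K ⊓ B : Subgroup X) * K.relIndex B * B.relIndex K * (K ⊔ B).index := by rw [e5, e2]
    _ = _ := by ring

/-- primes dividing the order of a simple normal subgroup are bounded by the index of a point stabiliser -/
theorem le_index {B : Subgroup X} (hB : B.Normal) [IsSimpleGroup B] {v : E} (hv : v ≠ 1) {r : ℕ} (hr : r.Prime)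
    (hrB : r ∣ Nat.card B) : r ≤ ((MulAction.stabilizer X v).subgroupOf B).index := by
  set K := (MulAction.stabilizer X v).subgroupOf B with hK
  have hKtop : K ≠ ⊤ := by
    intro hKt
    have h1 : ∀ b ∈ B, b • v = v := by
      intro b hb
      have : (⟨b, hb⟩ : B) ∈ K := by rw [hKt]; exact mem_top _
      exact this
    have h2 := h.fixed_bot hB hv h1
    exact (Subgroup.nontrivial_iff_ne_bot B).1 inferInstance h2
  have hcore : K.normalCore = ⊥ := by
    rcases (inferInstance : K.normalCore.Normal).eq_bot_or_eq_top with h1 | h1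
    · exact h1
    · exfalso
      apply hKtop
      rw [eq_top_iff, ← h1]
      exact K.normalCore_le
  have hinj : Function.Injective (MulAction.toPermHom B (B ⧸ K)) := by
    rw [← MonoidHom.ker_eq_bot_iff, ← Subgroup.normalCore_eq_ker]
    exact hcore
  have hd := Subgroup.card_dvd_of_injective _ hinj
  rw [Nat.card_perm] at hd
  have h5 : r ∣ (Nat.card (B ⧸ K)).factorial := hrB.trans hd
  exact (hr.dvd_factorial).1 h5

end basic

end Sg

/-! ### Arithmetic -/

theorem arith_pow {f a s : ℕ} (ha : 1 ≤ a) (hs : 1 ≤ s) (h : 2 ^ f = (2 ^ a + 1) * (2 ^ s - 1) + 1) : s = a := by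
  have hA : 2 ∣ 2 ^ a := dvd_pow_self 2 (by omega)
  have hS : 2 ∣ 2 ^ s := dvd_pow_self 2 (by omega)
  have hA1 : 2 ≤ 2 ^ a := Nat.le_of_dvd (by positivity) hA
  have hS1 : 2 ≤ 2 ^ s := Nat.le_of_dvd (by positivity) hS
  have h1 : 2 ^ f + 2 ^ a = 2 ^ a * 2 ^ s + 2 ^ s := by
    obtain ⟨x, hx⟩ : ∃ x, 2 ^ s = x + 1 := ⟨2 ^ s - 1, by omega⟩
    rw [hx] at h ⊢
    simp only [Nat.add_sub_cancel] at h
    rw [h]; ring
  rcases lt_trichotomy s a with hlt | heq | hgt
  · exfalso
    obtain ⟨d, rfl⟩ := Nat.exists_eq_add_of_lt hlt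
    -- `2^f = 2^s (2^a - 2^(a-s) + 1)`
    have hfs : s ≤ f := by
      by_contra hc
      have h2 : 2 ^ f < 2 ^ s := Nat.pow_lt_pow_right (by norm_num) (by omega)
      have h3 : 2 ^ (s + d + 1) ≤ 2 ^ (s + d + 1) * 2 ^ s := Nat.le_mul_of_pos_right _ (by positivity)
      omega
    obtain ⟨e, rfl⟩ := Nat.exists_eq_add_of_le hfs
    have h2 : 2 ^ e + 2 ^ (d + 1) = 2 ^ (s + d + 1) + 1 := by
      have h3 : 2 ^ s * (2 ^ e + 2 ^ (d + 1)) = 2 ^ s * (2 ^ (s + d + 1) + 1) := by
        calc 2 ^ s * (2 ^ e + 2 ^ (d + 1)) = 2 ^ (s + e) + 2 ^ (s + d + 1) := by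
              rw [mul_add, ← pow_add, ← pow_add]; rfl
          _ = _ := by rw [h1]; ring
      exact Nat.eq_of_mul_eq_mul_left (by positivity) h3
    have h4 : 2 ∣ 2 ^ (d + 1) := dvd_pow_self 2 (by omega)
    have h5 : 2 ∣ 2 ^ (s + d + 1) := dvd_pow_self 2 (by omega)
    have he : e = 0 := by
      by_contra hc
      have : 2 ∣ 2 ^ e := dvd_pow_self 2 hc
      omega
    rw [he, pow_zero] at h2
    have h6 : 2 ^ (d + 1) < 2 ^ (s + d + 1) := Nat.pow_lt_pow_right (by norm_num) (by omega)
    omega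
  · exact heq
  · exfalso
    obtain ⟨d, rfl⟩ := Nat.exists_eq_add_of_lt hgt
    have hfs : a ≤ f := by
      by_contra hc
      have h2 : 2 ^ f < 2 ^ a := Nat.pow_lt_pow_right (by norm_num) (by omega)
      have h3 : 2 ^ a ≤ 2 ^ a * 2 ^ (a + d + 1) := Nat.le_mul_of_pos_right _ (by positivity)
      have h4 : 2 ^ a < 2 ^ (a + d + 1) := Nat.pow_lt_pow_right (by norm_num) (by omega)
      omega
    obtain ⟨e, rfl⟩ := Nat.exists_eq_add_of_le hfs
    have h2 : 2 ^ e + 1 = 2 ^ (a + d + 1) + 2 ^ (d + 1) := by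
      have h3 : 2 ^ a * (2 ^ e + 1) = 2 ^ a * (2 ^ (a + d + 1) + 2 ^ (d + 1)) := by
        calc 2 ^ a * (2 ^ e + 1) = 2 ^ (a + e) + 2 ^ a := by rw [mul_add, ← pow_add, mul_one]
          _ = _ := by rw [h1]; ring
      exact Nat.eq_of_mul_eq_mul_left (by positivity) h3
    have h4 : 2 ∣ 2 ^ (d + 1) := dvd_pow_self 2 (by omega)
    have h5 : 2 ∣ 2 ^ (a + d + 1) := dvd_pow_self 2 (by omega)
    have he : e = 0 := by
      by_contra hc
      have : 2 ∣ 2 ^ e := dvd_pow_self 2 hc
      omega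
    rw [he, pow_zero] at h2
    have h6 : 2 ^ (d + 1) < 2 ^ (a + d + 1) := Nat.pow_lt_pow_right (by norm_num) (by omega)
    have h7 : 2 ≤ 2 ^ (d + 1) := Nat.le_of_dvd (by positivity) h4
    omega

namespace Sg

section even

variable [Finite X]

/-- simple normal subgroups which are Zassenhaus groups of even degree minus one -/
theorem false_even (h : Sg X E H) {B : Subgroup X} (hB : B.Normal) [IsSimpleGroup B] {u t : ℕ} (hz : IsZT B 2 u t)
    (ht : 1 < t) (htu : t ∣ u - 1) (hpow : ∃ k, u = 2 ^ k) : False := by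
  have hfinE := h.finE
  have : Fact (Nat.Prime 2) := ⟨Nat.prime_two⟩
  obtain ⟨f, hf, hE⟩ := h.card_pow
  obtain ⟨a, rfl⟩ := hpow
  have ha : 1 ≤ a := by
    by_contra hc
    have h1 := hz.two_le
    have : a = 0 := by omega
    rw [this, pow_zero] at h1
    omega
  -- the fixed points of the Sylow subgroups
  let C : Sylow 2 B → Subgroup E := fun P =>
    { carrier := {v | ∀ b ∈ P, (b : X) • v = v}
      one_mem' := fun b _ => smul_one _
      mul_mem' := fun {v w} hv hw b hb => by rw [smul_mul', hv b hb, hw b hb]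
      inv_mem' := fun {v} hv b hb => by rw [smul_inv', hv b hb] }
  have hCmem : ∀ (P : Sylow 2 B) (v : E), v ∈ C P ↔ ∀ b ∈ P, (b : X) • v = v := fun P v => Iff.rfl
  obtain ⟨P0⟩ : Nonempty (Sylow 2 B) := inferInstance
  -- nontrivial fixed point
  have hex0 : ∃ v : E, v ≠ 1 ∧ v ∈ C P0 := by
    have h2E : 2 ∣ Nat.card E := by rw [hE]; exact dvd_pow_self 2 (by omega)
    have hP := P0.isPGroup'
    have h1 : (1 : E) ∈ MulAction.fixedPoints P0 E := fun b => smul_one _
    obtain ⟨v, hv, hv1⟩ := hP.exists_fixed_point_of_prime_dvd_card_of_fixed_point E h2E h1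
    exact ⟨v, hv1.symm, fun b hb => hv ⟨b, hb⟩⟩
  have huniq : ∀ (P Q : Sylow 2 B) (v : E), v ≠ 1 → v ∈ C P → v ∈ C Q → P = Q := by
    intro P Q v hv hP hQ
    by_contra hPQ
    have h1 := hz.sup_eq_top hPQ
    have h2 : (P : Subgroup B) ⊔ (Q : Subgroup B) ≤ (MulAction.stabilizer X v).subgroupOf B := by
      refine sup_le ?_ ?_
      · intro b hb; exact hP b hb
      · intro b hb; exact hQ b hb
    rw [h1] at h2
    have h3 := h.fixed_bot hB hv (fun b hb => h2 (mem_top (⟨b, hb⟩ : B)))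
    exact (Subgroup.nontrivial_iff_ne_bot B).1 inferInstance h3
  have hex : ∀ v : E, v ≠ 1 → ∃ P : Sylow 2 B, v ∈ C P := by
    intro v hv
    obtain ⟨v0, hv0, hv0C⟩ := hex0
    obtain ⟨y, -, hy⟩ := h.trans hv0 hv
    refine ⟨(MulAut.conjNormal y : MulAut B) • P0, fun b hb => ?_⟩
    have h1 : (MulAut.conjNormal y : MulAut B)⁻¹ b ∈ P0 := by
      have hb' : b ∈ (((MulAut.conjNormal y : MulAut B) • P0 : Sylow 2 B) : Subgroup B) := hb
      rw [Sylow.pointwise_smul_def, Subgroup.mem_pointwise_smul_iff_inv_smul_mem] at hb'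
      exact hb'
    have h2 := hv0C _ h1
    have h3 : (((MulAut.conjNormal y : MulAut B)⁻¹ b : B) : X) = y⁻¹ * b * y := by
      rw [← map_inv, MulAut.conjNormal_apply, inv_inv]
    rw [h3] at h2
    rw [← hy]
    have h4 : (b : X) * y = y * (y⁻¹ * b * y) := by group
    rw [← mul_smul, h4, mul_smul, h2]
  -- all the fixed point groups have the same order
  have hcC : ∀ P : Sylow 2 B, Nat.card (C P) = Nat.card (C P0) := by
    intro P
    obtain ⟨b, rfl⟩ := MulAction.exists_smul_eq B P0 P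
    have hmem : ∀ v : E, v ∈ C P0 ↔ (b : X) • v ∈ C (b • P0) := by
      intro v
      rw [hCmem, hCmem]
      constructor
      · intro hv c hc
        rw [mem_smul] at hc
        have h1 := hv _ hc
        have h2 : ((b⁻¹ * c * b : B) : X) = (b : X)⁻¹ * c * b := rfl
        rw [h2] at h1
        rw [← mul_smul]
        have h4 : (c : X) * b = b * ((b : X)⁻¹ * c * b) := by group
        rw [h4, mul_smul, h1]
      · intro hv c hc
        have h1 : b * c * b⁻¹ ∈ b • P0 := by
          rw [mem_smul]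
          have : b⁻¹ * (b * c * b⁻¹) * b = c := by group
          rw [this]; exact hc
        have h2 := hv _ h1
        have h3 : ((b * c * b⁻¹ : B) : X) = (b : X) * c * (b : X)⁻¹ := rfl
        rw [h3, ← mul_smul, inv_mul_cancel_right, mul_smul] at h2
        exact smul_left_cancel _ h2
    refine (Nat.card_congr ?_).symm
    exact { toFun := fun v => ⟨(b : X) • (v : E), (hmem _).1 v.2⟩
            invFun := fun v => ⟨(b : X)⁻¹ • (v : E), (hmem _).2 (by rw [smul_inv_smul]; exact v.2)⟩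
            left_inv := fun v => Subtype.ext (inv_smul_smul _ _)
            right_inv := fun v => Subtype.ext (smul_inv_smul _ _) }
  have hcount : Nat.card E - 1 = (2 ^ a + 1) * (Nat.card (C P0) - 1) := by
    classical
    have hfs : Finite (Sylow 2 B) := inferInstance
    have := Fintype.ofFinite (Sylow 2 B)
    let g : (Σ P : Sylow 2 B, {v : C P // v ≠ 1}) → {v : E // v ≠ 1} :=
      fun p => ⟨p.2.1.1, fun h1 => p.2.2 (Subtype.ext h1)⟩
    have hg : Function.Bijective g := by
      constructor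
      · rintro ⟨P, ⟨⟨v, hvP⟩, hv⟩⟩ ⟨Q, ⟨⟨w, hwQ⟩, hw⟩⟩ heq
        have hvw : v = w := congrArg Subtype.val heq
        subst hvw
        have hv1 : v ≠ 1 := fun h1 => hv (Subtype.ext h1)
        have := huniq P Q v hv1 hvP hwQ
        subst this
        rfl
      · rintro ⟨v, hv⟩
        obtain ⟨P, hP⟩ := hex v hv
        exact ⟨⟨P, ⟨⟨v, hP⟩, fun h1 => hv (congrArg Subtype.val h1)⟩⟩, rfl⟩
    have hsub : ∀ {α : Type _} [Finite α] (a : α), Nat.card {v : α // v ≠ a} = Nat.card α - 1 := by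
      intro α _ a
      classical
      have := Fintype.ofFinite α
      rw [Nat.card_eq_fintype_card, Nat.card_eq_fintype_card, Fintype.card_subtype_compl,
        Fintype.card_subtype_eq]
    have h1 := Nat.card_congr (Equiv.ofBijective g hg)
    rw [Nat.card_sigma, hsub] at h1
    rw [← h1]
    have h2 : ∀ P : Sylow 2 B, Nat.card {v : C P // v ≠ 1} = Nat.card (C P0) - 1 := by
      intro P
      rw [hsub, hcC]
    rw [Finset.sum_congr rfl (fun P _ => h2 P), Finset.sum_const, Finset.card_univ, smul_eq_mul,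
      ← Nat.card_eq_fintype_card, hz.num]
  have hCp : IsPGroup 2 (C P0) := h.isPGroup.to_subgroup (C P0)
  obtain ⟨s, hs⟩ := IsPGroup.iff_card.1 hCp
  have hs1 : 1 ≤ s := by
    by_contra hc
    have : s = 0 := by omega
    rw [this, pow_zero] at hs
    obtain ⟨v, hv, hvC⟩ := hex0
    have h1 := Finite.card_le_one_iff_subsingleton.1 hs.le
    have h2 := h1.elim (⟨v, hvC⟩ : C P0) 1
    exact hv (congrArg Subtype.val h2)
  rw [hs, hE] at hcount
  have hpos : 1 ≤ 2 ^ f := Nat.one_le_two_pow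
  have hsa := arith_pow (f := f) ha hs1 (by omega)
  rw [hsa] at hcount
  have hcH : Nat.card H = (2 ^ a + 1) * (2 ^ a - 1) := by rw [h.card_H, hE, hcount]
  have h2a : 2 ∣ 2 ^ a := dvd_pow_self 2 (by omega)
  have h2a' : 2 ≤ 2 ^ a := Nat.le_of_dvd (by positivity) h2a
  -- a prime dividing `t`
  obtain ⟨r, hr, hrt⟩ := Nat.exists_prime_and_dvd (n := t) (by omega)
  have hru : r ∣ 2 ^ a - 1 := hrt.trans htu
  have hr2 : r ≠ 2 := by
    rintro rfl
    omega
  obtain ⟨s', hs', hst⟩ := Nat.exists_prime_and_dvd (n := 2 ^ a + 1) (by omega)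
  have hs2 : s' ≠ 2 := by
    rintro rfl
    omega
  have hsn : ¬ s' ∣ 2 ^ a * t := by
    rw [hs'.dvd_mul]
    rintro (h1 | h1)
    · have := hs'.dvd_of_dvd_pow h1
      exact hs2 ((Nat.prime_dvd_prime_iff_eq hs' Nat.prime_two).1 this)
    · have h3 : s' ∣ 2 ^ a - 1 := h1.trans htu
      have h4 : s' ∣ (2 ^ a + 1) - (2 ^ a - 1) := Nat.dvd_sub hst h3
      have h5 : (2 ^ a + 1) - (2 ^ a - 1) = 2 := by omega
      rw [h5] at h4
      exact hs2 ((Nat.prime_dvd_prime_iff_eq hs' Nat.prime_two).1 h4)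
  obtain ⟨x, hxH, hxB, hx⟩ := h.exists_order_inf hB hr (hcH ▸ Dvd.dvd.mul_left hru _)
    (hz.card ▸ Dvd.dvd.mul_left hrt _)
  obtain ⟨y, hyH, hyB, hy⟩ := h.exists_order_inf hB hs' (hcH ▸ Dvd.dvd.mul_right hst _)
    (hz.card ▸ Dvd.dvd.mul_right (Dvd.dvd.mul_right hst _) _)
  have hxy : Commute (⟨x, hxB⟩ : B) ⟨y, hyB⟩ := Subtype.ext (h.commH hxH hyH)
  exact hz.false_of_commute hr hr2 hru hs' hs2 hsn (by rw [orderOf_mk, hx]) (by rw [orderOf_mk, hy]) hxy

end even

/-! ### The normaliser of `H` -/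

section norm

variable [Finite X]

theorem card_normalizer_le (h : Sg X E H) {f : ℕ} (hf : 1 ≤ f) (hE : Nat.card E = 2 ^ f) :
    Nat.card (normalizer (H : Set X)) ≤ (2 ^ f - 1) * f := by
  have hfinE := h.finE
  have : Fact (Nat.Prime 2) := ⟨Nat.prime_two⟩
  obtain ⟨v, hv⟩ := h.exists_ne
  let iC : CommGroup E := { (inferInstance : Group E) with mul_comm := h.mul_comm' }
  let m : H → (Additive E →+ Additive E) := fun y =>
    MonoidHom.toAdditive (MulDistribMulAction.toMonoidHom E (y : X))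
  have hm : ∀ (y : H) (w : E), m y (Additive.ofMul w) = Additive.ofMul ((y : X) • w) := fun y w => rfl
  have hm' : ∀ (y : H) (w : Additive E), m y w = Additive.ofMul ((y : X) • Additive.toMul w) := fun y w => rfl
  obtain ⟨F, iF, iF', φ, hφ1, hφ⟩ := Cfsg.Agent.Lib.PSL2Recog.exists_field_type m
    (fun y z w => by
      rw [hm', hm', hm', hm', toMul_ofMul, toMul_ofMul, ← mul_smul, ← mul_smul, h.commH y.2 z.2])
    (Additive.ofMul v) (fun h1 => hv h1)
    (fun w hw => by
      obtain ⟨y, hy, hyw⟩ := h.trans hv (w := Additive.toMul w) hw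
      exact ⟨⟨y, hy⟩, by rw [hm, hyw]; rfl⟩)
    (fun y w hw => by
      rw [hm'] at hw
      have h1 : (y : X) • Additive.toMul w = 1 := hw
      by_contra hc
      exact smul_ne_one (x := (y : X)) (v := Additive.toMul w) hc h1)
  have hcF : Fintype.card F = 2 ^ f := by
    rw [← Nat.card_eq_fintype_card, Nat.card_congr φ.toEquiv, ← hE]
    exact Nat.card_congr Additive.toMul
  have hAut := Cfsg.Agent.Lib.FieldAutCard.card_ringAut (p := 2) hf hcF
  -- elements of the normaliser fixing `v` act as field automorphisms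
  have hσ : ∀ n ∈ normalizer (H : Set X), n • v = v → ∃ σ : F ≃+* F, ∀ a : F,
      Additive.toMul (φ (σ a)) = n • Additive.toMul (φ a) := by
    intro n hn hnv
    have hmulσ : ∀ n ∈ normalizer (H : Set X), n • v = v → ∀ a b : F,
        φ.symm (Additive.ofMul (n • Additive.toMul (φ (a * b)))) =
        φ.symm (Additive.ofMul (n • Additive.toMul (φ a))) * φ.symm (Additive.ofMul (n • Additive.toMul (φ b))) := by
      intro n hn hnv a b
      by_cases ha : a = 0
      · subst ha
        rw [zero_mul, map_zero]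
        have h0 : Additive.ofMul (n • Additive.toMul (0 : Additive E)) = 0 := by
          show Additive.ofMul (n • (1 : E)) = 0
          rw [smul_one]; rfl
        rw [h0, map_zero, zero_mul]
      · have ha' : Additive.toMul (φ a) ≠ 1 := fun h1 => by
          have : φ a = 0 := h1
          exact ha ((map_eq_zero_iff φ φ.injective).1 this)
        obtain ⟨y, hy, hya⟩ := h.trans hv ha'
        have h1 : φ.symm (m ⟨y, hy⟩ (Additive.ofMul v)) = a := by
          rw [hm, hya, ofMul_toMul, AddEquiv.symm_apply_apply]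
        have h2 := hφ ⟨y, hy⟩ b
        rw [h1] at h2
        -- `φ (a b) = y • φ b`
        have hy' : n * y * n⁻¹ ∈ H := (mem_normalizer_iff.1 hn _).1 hy
        have hninv : n⁻¹ • v = v := by rw [inv_smul_eq_iff, hnv]
        have h3 : φ.symm (m ⟨n * y * n⁻¹, hy'⟩ (Additive.ofMul v)) =
            φ.symm (Additive.ofMul (n • Additive.toMul (φ a))) := by
          rw [hm, mul_smul, mul_smul, hninv, hya]
        have h4 := hφ ⟨n * y * n⁻¹, hy'⟩ (φ.symm (Additive.ofMul (n • Additive.toMul (φ b))))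
        rw [h3, AddEquiv.apply_symm_apply, hm] at h4
        apply φ.injective
        rw [AddEquiv.apply_symm_apply, ← h4, ← h2, hm', toMul_ofMul, ← mul_smul, ← mul_smul,
          inv_mul_cancel_right]
    refine ⟨{ toFun := fun a => φ.symm (Additive.ofMul (n • Additive.toMul (φ a)))
              invFun := fun a => φ.symm (Additive.ofMul (n⁻¹ • Additive.toMul (φ a)))
              left_inv := fun a => ?_
              right_inv := fun a => ?_
              map_mul' := hmulσ n hn hnv
              map_add' := fun a b => ?_ }, fun a => ?_⟩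
    · beta_reduce
      rw [AddEquiv.apply_symm_apply, toMul_ofMul, inv_smul_smul, ofMul_toMul, AddEquiv.symm_apply_apply]
    · beta_reduce
      rw [AddEquiv.apply_symm_apply, toMul_ofMul, smul_inv_smul, ofMul_toMul, AddEquiv.symm_apply_apply]
    · rw [map_add, toMul_add, smul_mul', ofMul_mul, map_add]
    · show Additive.toMul (φ (φ.symm _)) = _
      rw [AddEquiv.apply_symm_apply, toMul_ofMul]
  -- the injection
  have hy : ∀ x : X, ∃ y : H, (y : X) • v = x • v := by
    intro x
    obtain ⟨y, hy, hyx⟩ := h.trans hv (smul_ne_one (x := x) hv)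
    exact ⟨⟨y, hy⟩, hyx⟩
  choose y hyx using hy
  have hN : ∀ x : normalizer (H : Set X), ∃ σ : F ≃+* F, ∀ a : F,
      Additive.toMul (φ (σ a)) = ((y x : X)⁻¹ * x) • Additive.toMul (φ a) := by
    intro x
    apply hσ
    · exact mul_mem (inv_mem (le_normalizer (y x).2)) x.2
    · rw [mul_smul, ← hyx, inv_smul_smul]
  choose σ hσx using hN
  let g : normalizer (H : Set X) → H × (F ≃+* F) := fun x => (y x, σ x)
  have hg : Function.Injective g := by
    intro x x' hxx
    have h1 : y x = y x' := congrArg Prod.fst hxx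
    have h2 : σ x = σ x' := congrArg Prod.snd hxx
    apply Subtype.ext
    have h3 : ∀ w : E, ((y x : X)⁻¹ * x) • w = ((y x : X)⁻¹ * x') • w := by
      intro w
      have e1 := hσx x (φ.symm (Additive.ofMul w))
      have e2 := hσx x' (φ.symm (Additive.ofMul w))
      rw [AddEquiv.apply_symm_apply, toMul_ofMul] at e1 e2
      rw [← e1, h2, e2, h1]
    have h4 : ((y x : X)⁻¹ * x')⁻¹ * ((y x : X)⁻¹ * x) = 1 := by
      apply h.faith
      intro w
      rw [mul_smul, h3, inv_smul_smul]
    have h5 := inv_mul_eq_one.1 h4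
    exact (mul_left_cancel h5).symm
  have hfinA : Finite (F ≃+* F) := Nat.finite_of_card_ne_zero (by rw [hAut]; omega)
  have h6 := Nat.card_le_card_of_injective g hg
  rw [Nat.card_prod, hAut, h.card_H, hE] at h6
  exact h6

end norm

/-! ### `PSL₂(p)` -/

section prime

variable [Finite X]

theorem false_prime (h : Sg X E H) {B : Subgroup X} (hB : B.Normal) [IsSimpleGroup B]
    (hne : ∃ a b : B, a * b ≠ b * a) {p t : ℕ} (hp5 : 5 ≤ p) (hz : IsZT B p p t) (ht : 2 * t = p - 1)
    (hN : ∀ r, r.Prime → ∀ y ∈ H, orderOf y = r → ∀ x : X, x * y * x⁻¹ ∈ zpowers y → x ∈ normalizer (H : Set X))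
    (h8 : Nat.card E = 8 → normalizer (H : Set X) ≤ H) : False := by
  have hp := hz.prime
  have hpf : Fact p.Prime := ⟨hp⟩
  have hpB : p ∣ Nat.card B := by rw [hz.card]; exact ⟨(p + 1) * t, by ring⟩
  by_cases hpH : p ∣ Nat.card H
  · obtain ⟨c, hcH, hcB, hc⟩ := h.exists_order_inf hB hp hpH hpB
    have hcp : IsPGroup p (zpowers (⟨c, hcB⟩ : B)) := IsPGroup.of_card (n := 1) (by
      rw [Nat.card_zpowers, orderOf_mk, hc, pow_one])
    obtain ⟨P, hP⟩ := hcp.exists_le_sylow
    have hPeq : (P : Subgroup B) = zpowers (⟨c, hcB⟩ : B) := by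
      symm
      apply Subgroup.eq_of_le_of_card_ge hP
      rw [Nat.card_zpowers, orderOf_mk, hc]
      exact (hz.sylow P).le
    have hPH : ∀ x ∈ P, (x : X) ∈ H := by
      intro x hx
      have hx' : x ∈ (P : Subgroup B) := hx
      rw [hPeq] at hx'
      obtain ⟨k, hk⟩ := mem_zpowers_iff.1 hx'
      rw [← hk]
      exact H.zpow_mem hcH k
    -- every element of `H` lies in `P`
    have key : ∀ y ∈ H, ∃ x ∈ P, (x : X) = y := by
      intro y hy
      set α : MulAut B := MulAut.conjNormal y with hα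
      have hαx : ∀ x ∈ P, α x = x := by
        intro x hx
        apply Subtype.ext
        rw [hα, MulAut.conjNormal_apply, h.commH hy (hPH x hx), mul_inv_cancel_right]
      have hαP : α • P = P := by
        ext z
        show z ∈ α • P ↔ z ∈ P
        rw [mem_aut_smul]
        constructor
        · intro hz'
          have h1 := hαx _ hz'
          rw [← MulAut.mul_apply, mul_inv_cancel, MulAut.one_apply] at h1
          rw [h1]; exact hz'
        · intro hz'
          have h1 := hαx _ hz'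
          have h2 : α⁻¹ z = z := by
            nth_rewrite 1 [← h1]
            rw [← MulAut.mul_apply, inv_mul_cancel, MulAut.one_apply]
          rw [h2]; exact hz'
      obtain ⟨Q, R, hPQ, -, -⟩ := hz.exists_three P
      have hαQ : α • Q ≠ P := by
        intro h1
        rw [← hαP] at h1
        exact hPQ (smul_left_cancel _ h1).symm
      obtain ⟨x, hx, hxQ⟩ := hz.trans P Q (α • Q) hPQ.symm hαQ
      refine ⟨x, hx, ?_⟩
      set y' := (x : X)⁻¹ * y with hy'
      have hy'H : y' ∈ H := mul_mem (inv_mem (hPH x hx)) hy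
      set β : MulAut B := MulAut.conjNormal y' with hβ
      have hβα : ∀ S : Sylow p B, β • S = x⁻¹ • (α • S) := by
        intro S
        have h1 : β = MulAut.conj x⁻¹ * α := by
          ext b
          rw [hβ, hα, MulAut.mul_apply, MulAut.conj_apply, MulAut.conjNormal_apply, hy']
          push_cast
          rw [MulAut.conjNormal_apply]
          group
        rw [h1, mul_smul]
        rfl
      have hβQ : β • Q = Q := by rw [hβα, ← hxQ, inv_smul_smul]
      have hβx : ∀ x ∈ P, β x = x := by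
        intro x hx
        apply Subtype.ext
        rw [hβ, MulAut.conjNormal_apply, h.commH hy'H (hPH x hx), mul_inv_cancel_right]
      have hβP : β • P = P := by
        rw [hβα, hαP, smul_self (inv_mem hx)]
      have hβall : ∀ S : Sylow p B, β • S = S := by
        intro S
        by_cases hS : S = P
        · rw [hS, hβP]
        · obtain ⟨z, hz1, hz2⟩ := hz.trans P Q S hPQ.symm hS
          rw [← hz2, aut_smul_smul, hβx z hz1, hβQ]
      have hβ1 := hz.aut_eq_one β hβall
      have hcomm : ∀ b ∈ B, b * y' = y' * b := by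
        intro b hb
        have h1 : ((β ⟨b, hb⟩ : B) : X) = b := by rw [hβ1]; rfl
        rw [hβ, MulAut.conjNormal_apply] at h1
        exact (mul_inv_eq_iff_eq_mul.1 h1).symm
      have hy'1 : y' = 1 := by
        by_contra hc1
        have h1 : orderOf y' ≠ 1 := by rwa [Ne, orderOf_eq_one_iff]
        obtain ⟨r, hr, hrd⟩ := Nat.exists_prime_and_dvd h1
        obtain ⟨d, hd⟩ := hrd
        have h2 : orderOf (y' ^ d) = r := by
          have hd0 : d ≠ 0 := by
            rintro rfl
            rw [mul_zero] at hd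
            exact (orderOf_pos y').ne' hd
          rw [orderOf_pow_of_dvd hd0 ⟨r, by rw [hd, mul_comm]⟩, hd, Nat.mul_div_cancel _ (Nat.pos_of_ne_zero hd0)]
        apply h.not_le hne
        intro b hb
        apply hN r hr (y' ^ d) (H.pow_mem hy'H d) h2
        have h3 : b * y' ^ d = y' ^ d * b := Commute.pow_right (hcomm b hb) d
        rw [h3, mul_inv_cancel_right]
        exact mem_zpowers _
      exact inv_mul_eq_one.1 hy'1
    -- hence `|H| = p`
    have hHP : H = (P : Subgroup B).map B.subtype := by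
      apply le_antisymm
      · intro y hy
        obtain ⟨x, hx, hxy⟩ := key y hy
        exact ⟨x, hx, hxy⟩
      · rintro y ⟨x, hx, rfl⟩
        exact hPH x hx
    have hcardH : Nat.card H = p := by
      have h1 : Nat.card ((P : Subgroup B).map B.subtype) = Nat.card (P : Subgroup B) :=
        Nat.card_congr ((P : Subgroup B).equivMapOfInjective _ B.subtype_injective).symm.toEquiv
      rw [hHP, h1]
      exact hz.sylow P
    obtain ⟨f, hf, hE⟩ := h.card_pow
    have hHf := h.card_H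
    rw [hcardH, hE] at hHf
    have hnor : (normalizer ((P : Subgroup B) : Set B)).map B.subtype ≤ normalizer (H : Set X) := by
      rintro y ⟨x, hx, rfl⟩
      rw [mem_normalizer_iff]
      intro z
      rw [hHP]
      constructor
      · rintro ⟨w, hw, rfl⟩
        exact ⟨x * w * x⁻¹, (mem_normalizer_iff.1 hx w).1 hw, rfl⟩
      · rintro ⟨w, hw, hwz⟩
        refine ⟨x⁻¹ * w * x, ?_, ?_⟩
        · have := (mem_normalizer_iff.1 (inv_mem hx) w).1 hw
          rwa [inv_inv] at this
        · have hwz' : (w : X) = x * z * (x : X)⁻¹ := hwz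
          show (x : X)⁻¹ * w * x = z
          rw [hwz']; group
    have hcn : p * t ≤ Nat.card (normalizer (H : Set X)) := by
      have h1 : Nat.card ((normalizer ((P : Subgroup B) : Set B)).map B.subtype) =
          Nat.card (normalizer ((P : Subgroup B) : Set B)) :=
        Nat.card_congr ((normalizer ((P : Subgroup B) : Set B)).equivMapOfInjective _ B.subtype_injective).symm.toEquiv
      have h2 := hz.card_normalizer P
      have h3 := Subgroup.card_le_of_le hnor
      rw [h1] at h3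
      calc p * t = Nat.card (normalizer ((P : Subgroup B) : Set B)) := h2.symm
        _ ≤ _ := h3
    have hle := h.card_normalizer_le (by omega) hE
    have h1 : 1 ≤ 2 ^ f := Nat.one_le_two_pow
    have h2 : p * t ≤ p * f := by
      calc p * t ≤ (2 ^ f - 1) * f := hcn.trans hle
        _ = p * f := by rw [hHf]
    have h3 : t ≤ f := Nat.le_of_mul_le_mul_left h2 hp.pos
    obtain ⟨e, rfl⟩ := Nat.exists_eq_add_of_le hf
    have h4 : 2 ^ (2 + e) = 2 * t + 2 := by omega
    have hsmall : e = 1 := by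
      rcases Nat.lt_or_ge e 2 with h5 | h5
      · interval_cases e
        · exfalso; omega
        · rfl
      · exfalso
        obtain ⟨d, rfl⟩ := Nat.exists_eq_add_of_le h5
        have h6 : d + 1 ≤ 2 ^ d := Nat.lt_two_pow_self
        have h7 : 2 ^ (2 + (2 + d)) = 16 * 2 ^ d := by ring
        omega
    subst hsmall
    have hE8 : Nat.card E = 8 := by rw [hE]; norm_num
    have h9 := Subgroup.card_le_of_le (h8 hE8)
    rw [hcardH] at h9
    have h10 : 8 = 2 * t + 2 := by rw [← h4]; norm_num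
    have h11 : t = 3 := by omega
    have h12 : p * t ≤ p := hcn.trans h9
    rw [h11] at h12
    omega
  · obtain ⟨v, hv⟩ := h.exists_ne
    set m := ((MulAction.stabilizer X v).subgroupOf B).index with hm
    have hmH : m ∣ Nat.card H := h.index_dvd hB hv
    have hpm : p ≤ m := h.le_index hB hv hp hpB
    have hmB : m ∣ Nat.card B := Subgroup.index_dvd_card _
    have hm2 : ¬ 2 ∣ m := fun h1 => h.odd_H (h1.trans hmH)
    have hmp : ¬ p ∣ m := fun h1 => hpH (h1.trans hmH)
    have hcop : Nat.Coprime m p := ((Nat.Prime.coprime_iff_not_dvd hp).2 hmp).symm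
    rw [hz.card] at hmB
    have hmB' : m ∣ (p + 1) * t := by
      have : (p + 1) * p * t = p * ((p + 1) * t) := by ring
      rw [this] at hmB
      exact hcop.dvd_of_dvd_mul_left hmB
    have hor : Nat.Coprime m (p - 1) ∨ Nat.Coprime m (p + 1) := by
      by_contra hc
      push Not at hc
      obtain ⟨r, hr, hrm, hrp⟩ := Nat.Prime.not_coprime_iff_dvd.1 hc.1
      obtain ⟨s, hs, hsm, hsp⟩ := Nat.Prime.not_coprime_iff_dvd.1 hc.2
      have hr2 : r ≠ 2 := by rintro rfl; exact hm2 hrm
      have hs2 : s ≠ 2 := by rintro rfl; exact hm2 hsm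
      have hrB : r ∣ Nat.card B := hrm.trans (by rw [hz.card]; exact hmB)
      have hsB : s ∣ Nat.card B := hsm.trans (by rw [hz.card]; exact hmB)
      obtain ⟨x, hxH, hxB, hx⟩ := h.exists_order_inf hB hr (hrm.trans hmH) hrB
      obtain ⟨y, hyH, hyB, hy⟩ := h.exists_order_inf hB hs (hsm.trans hmH) hsB
      have hxy : Commute (⟨x, hxB⟩ : B) ⟨y, hyB⟩ := Subtype.ext (h.commH hxH hyH)
      refine hz.false_of_commute hr hr2 hrp hs hs2 ?_ (by rw [orderOf_mk, hx]) (by rw [orderOf_mk, hy]) hxy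
      rw [hs.dvd_mul]
      rintro (h1 | h1)
      · have h2 := (Nat.dvd_add_right h1).1 hsp
        exact hs.one_lt.ne' (Nat.dvd_one.1 h2)
      · have h2 : s ∣ p - 1 := ht ▸ Dvd.dvd.mul_left h1 2
        have h3 : s ∣ (p + 1) - (p - 1) := Nat.dvd_sub hsp h2
        have h4 : (p + 1) - (p - 1) = 2 := by omega
        rw [h4] at h3
        exact hs2 ((Nat.prime_dvd_prime_iff_eq hs Nat.prime_two).1 h3)
    rcases hor with h1 | h1
    · have h2 : Nat.Coprime m t := Nat.Coprime.coprime_dvd_right ⟨2, by rw [← ht, mul_comm]⟩ h1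
      have h3 : m ∣ p + 1 := h2.dvd_of_dvd_mul_right hmB'
      obtain ⟨k, hk⟩ := h3
      have hk1 : k ≠ 1 := by
        rintro rfl
        rw [mul_one] at hk
        apply hm2
        rw [← hk]
        omega
      have hk0 : k ≠ 0 := by
        rintro rfl
        omega
      have hk2 : 2 ≤ k := by omega
      have h5 : m * 2 ≤ m * k := Nat.mul_le_mul_left m hk2
      omega
    · have h3 : m ∣ t := h1.dvd_of_dvd_mul_left hmB'
      have h4 := Nat.le_of_dvd (by omega) h3
      omega

end prime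

/-! ### `J₁` -/

section j1

variable [Finite X]

theorem false_j1 (h : Sg X E H) {B : Subgroup X} (hB : B.Normal) [IsSimpleGroup B]
    (hcB : Nat.card B = 175560)
    (hj : ∀ r s : ℕ, r.Prime → s.Prime → r ≠ 2 → r < s → ∀ x y : B, orderOf x = r → orderOf y = s → x * y = y * x →
      r = 3 ∧ s = 5) : False := by
  obtain ⟨v, hv⟩ := h.exists_ne
  set m := ((MulAction.stabilizer X v).subgroupOf B).index with hm
  have hmH : m ∣ Nat.card H := h.index_dvd hB hv
  have hpm : 19 ≤ m := h.le_index hB hv (by norm_num) (by rw [hcB]; norm_num)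
  have hmB : m ∣ Nat.card B := Subgroup.index_dvd_card _
  have hm2 : ¬ 2 ∣ m := fun h1 => h.odd_H (h1.trans hmH)
  have key : ∀ r s : ℕ, r.Prime → s.Prime → r ≠ 2 → r < s → r ∣ Nat.card H → s ∣ Nat.card H → r ∣ 175560 →
      s ∣ 175560 → r = 3 ∧ s = 5 := by
    intro r s hr hs hr2 hrs hrH hsH hrB hsB
    obtain ⟨x, hxH, hxB, hx⟩ := h.exists_order_inf hB hr hrH (hcB ▸ hrB)
    obtain ⟨y, hyH, hyB, hy⟩ := h.exists_order_inf hB hs hsH (hcB ▸ hsB)
    exact hj r s hr hs hr2 hrs ⟨x, hxB⟩ ⟨y, hyB⟩ (by rw [orderOf_mk, hx]) (by rw [orderOf_mk, hy])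
      (Subtype.ext (h.commH hxH hyH))
  rw [hcB] at hmB
  have hm8 : m ∣ 21945 := by
    have h1 : Nat.Coprime m 8 := by
      have h2 : Nat.Coprime m 2 := ((Nat.Prime.coprime_iff_not_dvd Nat.prime_two).2 hm2).symm
      exact Nat.Coprime.pow_right 3 h2
    have h3 : (175560 : ℕ) = 8 * 21945 := by norm_num
    rw [h3] at hmB
    exact h1.dvd_of_dvd_mul_left hmB
  by_cases h19 : 19 ∣ m
  · -- `18 ∣ f`, so `7 ∣ 2^f - 1`
    obtain ⟨f, hf, hE⟩ := h.card_pow
    have h19H := h19.trans hmH
    have hH := h.card_H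
    rw [hE] at hH
    have h1 : 1 ≤ 2 ^ f := Nat.one_le_two_pow
    have h2 : 2 ^ f % 19 = 1 := by
      rw [hH] at h19H
      omega
    obtain ⟨k, r, hr18, rfl⟩ : ∃ k r, r < 18 ∧ f = 18 * k + r := ⟨f / 18, f % 18, Nat.mod_lt _ (by norm_num), by omega⟩
    have h3 : 2 ^ (18 * k + r) % 19 = 2 ^ r % 19 := by
      rw [pow_add, pow_mul, Nat.mul_mod, Nat.pow_mod]
      norm_num
    rw [h3] at h2
    have hr0 : r = 0 := by
      interval_cases r <;> first | rfl | (exfalso; revert h2; norm_num)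
    subst hr0
    have h4 : 2 ^ (18 * k + 0) % 7 = 1 := by
      rw [add_zero, pow_mul, Nat.pow_mod]
      norm_num
    have h7 : 7 ∣ Nat.card H := by
      rw [hH]
      omega
    have := key 7 19 (by norm_num) (by norm_num) (by norm_num) (by norm_num) h7 h19H (by norm_num) (by norm_num)
    omega
  · have h5 : m ∣ 1155 := by
      have h1 : Nat.Coprime m 19 := ((Nat.Prime.coprime_iff_not_dvd (by norm_num)).2 h19).symm
      have h3 : (21945 : ℕ) = 19 * 1155 := by norm_num
      rw [h3] at hm8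
      exact h1.dvd_of_dvd_mul_left hm8
    have hdiv : ∀ n ∈ Nat.divisors 1155, 19 ≤ n →
        (3 ∣ n ∧ 7 ∣ n) ∨ (5 ∣ n ∧ 7 ∣ n) ∨ (7 ∣ n ∧ 11 ∣ n) ∨ (3 ∣ n ∧ 11 ∣ n) ∨ (5 ∣ n ∧ 11 ∣ n) := by
      have : Nat.divisors 1155 = {1, 3, 5, 7, 11, 15, 21, 33, 35, 55, 77, 105, 165, 231, 385, 1155} := by
        decide +kernel
      rw [this]
      decide
    have := hdiv m (Nat.mem_divisors.2 ⟨h5, by norm_num⟩) hpm
    rcases this with ⟨h1, h2⟩ | ⟨h1, h2⟩ | ⟨h1, h2⟩ | ⟨h1, h2⟩ | ⟨h1, h2⟩
    · have := key 3 7 (by norm_num) (by norm_num) (by norm_num) (by norm_num) (h1.trans hmH) (h2.trans hmH)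
        (by norm_num) (by norm_num)
      omega
    · have := key 5 7 (by norm_num) (by norm_num) (by norm_num) (by norm_num) (h1.trans hmH) (h2.trans hmH)
        (by norm_num) (by norm_num)
      omega
    · have := key 7 11 (by norm_num) (by norm_num) (by norm_num) (by norm_num) (h1.trans hmH) (h2.trans hmH)
        (by norm_num) (by norm_num)
      omega
    · have := key 3 11 (by norm_num) (by norm_num) (by norm_num) (by norm_num) (h1.trans hmH) (h2.trans hmH)
        (by norm_num) (by norm_num)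
      omega
    · have := key 5 11 (by norm_num) (by norm_num) (by norm_num) (by norm_num) (h1.trans hmH) (h2.trans hmH)
        (by norm_num) (by norm_num)
      omega

end j1

end Sg

/-! ### The main theorem -/

/-- the allowed simple groups -/
def KZ (B : Type*) [Group B] : Prop :=
  (∃ (F : Type) (_ : Field F) (_ : Fintype F), (Fintype.card F).Prime ∧ 5 ≤ Fintype.card F ∧
    Nonempty (B ≃* Matrix.ProjectiveSpecialLinearGroup (Fin 2) F)) ∨
  (∃ (F : Type) (_ : Field F) (_ : Fintype F) (f : ℕ), 2 ≤ f ∧ Fintype.card F = 2 ^ f ∧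
    Nonempty (B ≃* Matrix.ProjectiveSpecialLinearGroup (Fin 2) F)) ∨
  Cfsg.Lie.IsoSuzuki B ∨
  (Nat.card B = 175560 ∧ ∀ r s : ℕ, r.Prime → s.Prime → r ≠ 2 → r < s → ∀ x y : B, orderOf x = r →
    orderOf y = s → x * y = y * x → r = 3 ∧ s = 5)

theorem isZT_prime {B : Type*} [Group B] [Finite B] {F : Type*} [Field F] [Fintype F]
    (hp : (Fintype.card F).Prime) (h5 : 5 ≤ Fintype.card F)
    (e : B ≃* Matrix.ProjectiveSpecialLinearGroup (Fin 2) F) :
    ∃ t, 2 * t = Fintype.card F - 1 ∧ IsZT B (Fintype.card F) (Fintype.card F) t := by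
  classical
  have hodd : Odd (Fintype.card F) := hp.odd_of_ne_two (by omega)
  obtain ⟨t, ht⟩ := hodd
  have ht' : 2 * t = Fintype.card F - 1 := by omega
  have hcop : ¬ Fintype.card F ∣ t := by
    intro h
    have := Nat.le_of_dvd (by omega) h
    omega
  refine ⟨t, ht', ?_⟩
  have hcard : Nat.card (Matrix.ProjectiveSpecialLinearGroup (Fin 2) F) =
      (Fintype.card F + 1) * Fintype.card F * t := by
    have h1 := ClassicalGeometry.PSL2Basic.card_PSL2_odd F ⟨t, ht⟩
    have h2 : Fintype.card F ^ 2 - 1 = (Fintype.card F + 1) * (2 * t) := by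
      rw [ht]
      have : (2 * t + 1) ^ 2 = (2 * t + 1 + 1) * (2 * t) + 1 := by ring
      omega
    rw [h2] at h1
    have h3 : Nat.card (Matrix.ProjectiveSpecialLinearGroup (Fin 2) F) * 2 =
        ((Fintype.card F + 1) * Fintype.card F * t) * 2 := by rw [h1]; ring
    exact Nat.eq_of_mul_eq_mul_right (by norm_num) h3
  have hz := isZT_psl2 (F := F) (k := 1) hp (by rw [pow_one]) hcop hcard
  have : Finite (Matrix.ProjectiveSpecialLinearGroup (Fin 2) F) := Finite.of_equiv B e.toEquiv
  exact hz.of_mulEquiv e.symm ⟨1, by rw [pow_one]⟩ hcop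

theorem isZT_two {B : Type*} [Group B] [Finite B] {F : Type*} [Field F] [Fintype F] {f : ℕ}
    (hf : 2 ≤ f) (hF : Fintype.card F = 2 ^ f)
    (e : B ≃* Matrix.ProjectiveSpecialLinearGroup (Fin 2) F) : IsZT B 2 (2 ^ f) (2 ^ f - 1) := by
  classical
  have h2 : 2 ∣ 2 ^ f := dvd_pow_self 2 (by omega)
  have h4 : 1 ≤ 2 ^ f := Nat.one_le_two_pow
  have hcop : ¬ 2 ∣ 2 ^ f - 1 := by omega
  have hcard : Nat.card (Matrix.ProjectiveSpecialLinearGroup (Fin 2) F) =
      (Fintype.card F + 1) * Fintype.card F * (2 ^ f - 1) := by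
    rw [ClassicalGeometry.PSL2Basic.card_PSL2_even F (by rw [hF]; exact even_iff_two_dvd.2 h2), hF]
    have h3 : (2 ^ f) ^ 2 - 1 = (2 ^ f + 1) * (2 ^ f - 1) := by
      obtain ⟨x, hx⟩ : ∃ x, 2 ^ f = x + 1 := ⟨2 ^ f - 1, by omega⟩
      rw [hx]
      have : (x + 1) ^ 2 = (x + 1 + 1) * x + 1 := by ring
      simp only [Nat.add_sub_cancel]
      omega
    rw [h3]; ring
  have hz := isZT_psl2 (F := F) (k := f) Nat.prime_two hF hcop hcard
  have : Finite (Matrix.ProjectiveSpecialLinearGroup (Fin 2) F) := Finite.of_equiv B e.toEquiv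
  have := hz.of_mulEquiv e.symm ⟨f, hF⟩ hcop
  rwa [hF] at this

/-- a minimal normal subgroup which is not abelian and whose order is divisible by an odd prime is simple -/
theorem isSimple_of_min [Finite X] (hc : OddCyc X) {N : Subgroup X} (hN : N.Normal) (hN0 : N ≠ ⊥)
    (hmin : ∀ M : Subgroup X, M.Normal → M ≤ N → M = ⊥ ∨ M = N) {p : ℕ} (hp : p.Prime) (hp2 : p ≠ 2)
    (h3 : p ∣ Nat.card N) : IsSimpleGroup N := by
  haveI : Fact p.Prime := ⟨hp⟩
  obtain ⟨m, T, hm, hle, hs, hnz, hconj, hcomm, hinj, hind, hsup⟩ :=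
    Lib.MinNormal.exists_internal_decomposition N hN0 hmin
  have hcomm' : Pairwise fun i j : Fin m => ∀ x y : X, x ∈ T i → y ∈ T j → Commute x y :=
    fun i j hij x y hx hy => hcomm i j hij x hx y hy
  obtain ⟨e⟩ := Lib.MinNormal.mulEquiv_pi_of_iSupIndep T hcomm' hind hsup
  have h1 : p ∣ ∏ i, Nat.card (T i) := by
    rw [← Nat.card_pi, ← Nat.card_congr e.toEquiv]
    exact h3
  obtain ⟨i, -, hi⟩ := (hp.prime.dvd_finsetProd_iff _).1 h1
  have hall : ∀ j, p ∣ Nat.card (T j) := by
    intro j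
    obtain ⟨g, hg⟩ := hconj i j
    rw [hg, Nat.card_congr ((T i).equivMapOfInjective _ (MulAut.conj g).injective).symm.toEquiv]
    exact hi
  have hone : ∀ j k : Fin m, j = k := by
    intro j k
    by_contra hjk
    obtain ⟨x, hx⟩ := exists_prime_orderOf_dvd_card' p (hall j)
    obtain ⟨y, hy⟩ := exists_prime_orderOf_dvd_card' p (hall k)
    have hx0 : orderOf (x : X) = p := by rw [orderOf_coe, hx]
    have hy0 : orderOf (y : X) = p := by rw [orderOf_coe, hy]
    have h5 := CompBasic.zpowers_eq_of_commute hc hp hp2 hx0 hy0 (hcomm' hjk _ _ x.2 y.2)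
    have h6 : (y : X) ∈ T j := by
      have : (y : X) ∈ zpowers (x : X) := by rw [h5]; exact mem_zpowers _
      exact (zpowers_le.2 x.2) this
    have h7 : (y : X) = 1 := (Subgroup.disjoint_def.1 (hind.pairwiseDisjoint hjk)) h6 y.2
    rw [h7, orderOf_one] at hy0
    exact hp.one_lt.ne hy0
  have h8 : T i = N := by
    rw [← hsup]
    apply le_antisymm (le_iSup T i)
    exact iSup_le fun j => by rw [hone j i]
  rw [← h8]
  exact hs i

/-- a normal 2-subgroup is trivial -/
theorem Sg.not_two [Finite X] (h : Sg X E H) {B : Subgroup X} (hB : B.Normal) (h2 : IsPGroup 2 B) : B = ⊥ := by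
  have : Fact (Nat.Prime 2) := ⟨Nat.prime_two⟩
  have := h.finE
  obtain ⟨f, hf, hE⟩ := h.card_pow
  have h2E : 2 ∣ Nat.card E := by rw [hE]; exact dvd_pow_self 2 (by omega)
  have h1 : (1 : E) ∈ MulAction.fixedPoints B E := fun b => smul_one _
  obtain ⟨v, hv, hv1⟩ := h2.exists_fixed_point_of_prime_dvd_card_of_fixed_point E h2E h1
  exact h.fixed_bot hB hv1.symm (fun b hb => hv ⟨b, hb⟩)

/-- **The Singer lemma.** -/
theorem Sg.normal [Finite X] (h : Sg X E H)
    (hs : ∀ B : Subgroup X, B.Normal → IsSimpleGroup B → (∃ a b : B, a * b ≠ b * a) → KZ B)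
    (hN : ∀ r, r.Prime → ∀ y ∈ H, orderOf y = r → ∀ x : X, x * y * x⁻¹ ∈ zpowers y → x ∈ normalizer (H : Set X))
    (h8 : Nat.card E = 8 → normalizer (H : Set X) ≤ H) : H.Normal := by
  have hfinE := h.finE
  have hnt : Nontrivial X := by
    have h1 := h.card_H
    have h4 := h.four
    by_contra hc
    rw [not_nontrivial_iff_subsingleton] at hc
    have h2 : Nat.card H ≤ 1 := Finite.card_le_one_iff_subsingleton.2 inferInstance
    omega
  obtain ⟨B, hB, hB0, hmin⟩ := T1Socle.exists_min X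
  by_cases hab : ∀ a b : B, a * b = b * a
  · -- abelian case
    have hBne : Nat.card B ≠ 1 := fun h1 => hB0 (Subgroup.card_eq_one.1 h1)
    obtain ⟨l, hl, hlB⟩ := Nat.exists_prime_and_dvd hBne
    have hlf : Fact l.Prime := ⟨hl⟩
    have hab' : ∀ a ∈ B, ∀ b ∈ B, a * b = b * a := fun a ha b hb => congrArg Subtype.val (hab ⟨a, ha⟩ ⟨b, hb⟩)
    let L : Subgroup X :=
      { carrier := {b | b ∈ B ∧ b ^ l = 1}
        one_mem' := ⟨one_mem _, one_pow _⟩
        mul_mem' := fun {a b} ha hb => ⟨mul_mem ha.1 hb.1, by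
          rw [(show Commute a b from hab' a ha.1 b hb.1).mul_pow, ha.2, hb.2, one_mul]⟩
        inv_mem' := fun {a} ha => ⟨inv_mem ha.1, by rw [inv_pow, ha.2, inv_one]⟩ }
    have hLn : L.Normal := ⟨fun a ha g => ⟨hB.conj_mem a ha.1 g, by rw [conj_pow, ha.2, mul_one, mul_inv_cancel]⟩⟩
    have hLB : L = B := by
      rcases hmin L hLn (fun a ha => ha.1) with h1 | h1
      · exfalso
        obtain ⟨x, hx⟩ := exists_prime_orderOf_dvd_card' l hlB
        have h2 : (x : X) ∈ L := ⟨x.2, by rw [← hx, ← orderOf_coe, pow_orderOf_eq_one]⟩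
        rw [h1, mem_bot] at h2
        have h3 : x = 1 := Subtype.ext h2
        rw [h3, orderOf_one] at hx
        exact hl.one_lt.ne hx
      · exact h1
    have hpow : ∀ b ∈ B, b ^ l = 1 := fun b hb => by
      rw [← hLB] at hb
      exact hb.2
    have hBp : IsPGroup l B := fun b => ⟨1, by
      apply Subtype.ext
      rw [pow_one]
      exact hpow b b.2⟩
    have hl2 : l ≠ 2 := by
      rintro rfl
      exact hB0 (h.not_two hB hBp)
    have hlH : l ∣ Nat.card H := by
      rw [h.card_H]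
      have h1 := hBp.card_modEq_card_fixedPoints E
      have h2 : Nat.card (MulAction.fixedPoints B E) = 1 := by
        have h3 : ∀ v : E, v ∈ MulAction.fixedPoints B E → v = 1 := by
          intro v hv
          by_contra hc
          exact hB0 (h.fixed_bot hB hc (fun b hb => hv ⟨b, hb⟩))
        have h4 : Subsingleton (MulAction.fixedPoints B E) :=
          ⟨fun a b => Subtype.ext ((h3 a a.2).trans (h3 b b.2).symm)⟩
        have h5 : Nonempty (MulAction.fixedPoints B E) := ⟨⟨1, fun b => smul_one _⟩⟩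
        exact Nat.card_eq_one_iff_unique.2 ⟨h4, h5⟩
      rw [h2] at h1
      have h4 := h.four
      exact (Nat.modEq_iff_dvd' (by omega)).1 h1.symm
    obtain ⟨y, hyH, hyB, hy⟩ := h.exists_order_inf hB hl hlH hlB
    rw [← Subgroup.normalizer_eq_top_iff, eq_top_iff]
    intro x _
    apply hN l hl y hyH hy
    have h1 : x * y * x⁻¹ ∈ B := hB.conj_mem y hyB x
    have h2 : orderOf (x * y * x⁻¹) = l := by
      rw [← MulAut.conj_apply]
      exact (orderOf_injective (MulAut.conj x).toMonoidHom (MulAut.conj x).injective y).trans hy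
    have h3 := CompBasic.zpowers_eq_of_commute h.cyc hl hl2 h2 hy (hab' _ h1 _ hyB)
    rw [← h3]
    exact mem_zpowers _
  · exfalso
    push Not at hab
    -- an odd prime divisor
    have hodd : ∃ p, p.Prime ∧ p ≠ 2 ∧ p ∣ Nat.card B := by
      by_contra hc
      push Not at hc
      apply hB0
      apply h.not_two hB
      have : Fact (Nat.Prime 2) := ⟨Nat.prime_two⟩
      rw [IsPGroup.iff_card]
      exact ⟨_, Nat.eq_prime_pow_of_unique_prime_dvd Nat.card_pos.ne' (fun {d} hd hdB => by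
        by_contra hd2
        exact hc d hd hd2 hdB)⟩
    obtain ⟨p, hp, hp2, hpB⟩ := hodd
    have hsim := isSimple_of_min h.cyc hB hB0 hmin hp hp2 hpB
    rcases hs B hB hsim hab with ⟨F, iF, iF', hF, hF5, ⟨e⟩⟩ | ⟨F, iF, iF', f, hf, hF, ⟨e⟩⟩ | hsz | ⟨hc, hj⟩
    · obtain ⟨t, ht, hz⟩ := isZT_prime hF hF5 e
      exact h.false_prime hB hab hF5 hz ht hN h8
    · have h4 : 4 ≤ 2 ^ f := by
        calc 4 = 2 ^ 2 := by norm_num
          _ ≤ 2 ^ f := Nat.pow_le_pow_right (by norm_num) hf
      exact h.false_even hB (isZT_two hf hF e) (by omega) dvd_rfl ⟨f, rfl⟩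
    · obtain ⟨m, hm, hz⟩ := isZT_suzuki hsz
      have h8' : 8 ≤ 2 ^ (2 * m + 1) := by
        calc 8 = 2 ^ 3 := by norm_num
          _ ≤ 2 ^ (2 * m + 1) := Nat.pow_le_pow_right (by norm_num) (by omega)
      refine h.false_even hB hz (by omega) ?_ ⟨(2 * m + 1) * 2, by rw [← pow_mul]⟩
      obtain ⟨x, hx⟩ : ∃ x, 2 ^ (2 * m + 1) = x + 1 := ⟨2 ^ (2 * m + 1) - 1, by omega⟩
      rw [hx]
      refine ⟨x + 2, ?_⟩
      have : (x + 1) ^ 2 = x * (x + 2) + 1 := by ring
      simp only [Nat.add_sub_cancel]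
      omega
    · exact h.false_j1 hB hc hj

/-- the announced form -/
theorem singer {X E : Type*} [Group X] [Finite X] [Group E] [MulDistribMulAction X E] [FaithfulSMul X E]
    (hE : ∀ v : E, v * v = 1) (h4 : 4 ≤ Nat.card E) (hc : OddCyc X)
    (hs : ∀ B : Subgroup X, B.Normal → IsSimpleGroup B → (∃ a b : B, a * b ≠ b * a) → KZ B)
    (H : Subgroup X) [IsCyclic H] (hreg : ∀ v w : E, v ≠ 1 → w ≠ 1 → ∃! h : H, (h : X) • v = w)
    (hN : ∀ r, r.Prime → ∀ h ∈ H, orderOf h = r → ∀ x : X, x * h * x⁻¹ ∈ zpowers h → x ∈ normalizer (H : Set X))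
    (h8 : Nat.card E = 8 → normalizer (H : Set X) ≤ H) : H.Normal := by
  have h : Sg X E H :=
    { exp := hE
      four := h4
      cyc := hc
      cycH := inferInstance
      reg := hreg
      faith := fun x hx => FaithfulSMul.eq_of_smul_eq_smul (α := E) (fun v => by rw [hx, one_smul]) }
  exact h.normal hs hN h8

end Cfsg.Agent.OddCyclic.CaseASinger
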