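import Mathlib
import Cfsg.Agent.OddCyclic.CompBasic
import Cfsg.Agent.Lib.AutSL2

/-!
# S0342, component type: no covers with kernel of order two of `PSL(2,2ᶠ)`, `f ≥ 3`

`J` perfect with cyclic odd Sylow subgroups and `J/Z(J) ≅ PSL(2,F)`, `|F| > 4` even: then
`Z(J) = 1`.
-/

set_option autoImplicit false

namespace Cfsg.Agent.OddCyclic.PumpCover

open Subgroup
open scoped commutatorElement
open Cfsg.Agent.Lib.SL2Mat Cfsg.Agent.Lib.AutSL2
open Cfsg.Agent.OddCyclic.T1Defs Cfsg.Agent.OddCyclic.CompBasic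

/-- A perfect group with an abelian Sylow `p`-subgroup has no central element of order `p`. -/
theorem false_of_comm {X : Type*} [Group X] [Finite X] (hX : Group.IsPerfect X) {p : ℕ}
    [hp : Fact p.Prime] (P : Sylow p X)
    (hP : ∀ a ∈ (P : Subgroup X), ∀ b ∈ (P : Subgroup X), a * b = b * a)
    {z : X} (hz : z ∈ center X) (hzp : orderOf z = p) : False := by
  let _ : CommGroup (P : Subgroup X) := { (inferInstance : Group (P : Subgroup X)) with
    mul_comm := fun a b => Subtype.ext (hP a a.2 b b.2) }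
  have key : ∀ (k : ℕ) (g₀ : X), g₀⁻¹ * z ^ k * g₀ ∈ (P : Subgroup X) →
      g₀⁻¹ * z ^ k * g₀ = z ^ k := by
    intro k g₀ _
    have h1 : g₀ * z ^ k = z ^ k * g₀ :=
      (mem_center_iff.mp ((center X).pow_mem hz k) g₀)
    rw [mul_assoc, ← h1, inv_mul_cancel_left]
  have h2 := MonoidHom.transfer_eq_pow (MonoidHom.id (P : Subgroup X)) z key
  have h3 : z ∈ (MonoidHom.transfer (MonoidHom.id (P : Subgroup X))).ker := by
    have h4 : (MonoidHom.transfer (MonoidHom.id (P : Subgroup X))).ker = ⊤ := by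
      rw [eq_top_iff, ← hX.commutator_eq_top]
      exact Abelianization.commutator_subset_ker _
    rw [h4]; exact mem_top z
  rw [MonoidHom.mem_ker, h2] at h3
  have h5 : z ^ (P : Subgroup X).index = 1 := congrArg Subtype.val h3
  have h6 : p ∣ (P : Subgroup X).index := by
    have h7 : orderOf z ∣ (P : Subgroup X).index := orderOf_dvd_of_pow_eq_one h5
    rwa [hzp] at h7
  exact P.not_dvd_index h6

/-- A perfect group with cyclic odd Sylow subgroups and abelian Sylow 2-subgroups has trivial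
centre. -/
theorem center_eq_bot_of_comm {X : Type*} [Group X] [Finite X] (hG : OddCyc X)
    (hX : Group.IsPerfect X) (P : Sylow 2 X)
    (hP : ∀ a ∈ (P : Subgroup X), ∀ b ∈ (P : Subgroup X), a * b = b * a) : center X = ⊥ := by
  have hp2 : Fact (Nat.Prime 2) := ⟨Nat.prime_two⟩
  by_contra hne
  have h1 : Nat.card (center X) ≠ 1 := fun hc => hne (Subgroup.card_eq_one.mp hc)
  obtain ⟨l, hl, hld⟩ := Nat.exists_prime_and_dvd h1
  have hlf : Fact l.Prime := ⟨hl⟩
  obtain ⟨⟨x, hx⟩, hxl⟩ := exists_prime_orderOf_dvd_card' (G := center X) l hld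
  rw [Subgroup.orderOf_mk] at hxl
  by_cases hl2 : l = 2
  · subst hl2
    exact false_of_comm hX P hP hx hxl
  · exact false_of_center hG hX hl hl2 hx hxl

section form

/-- A biadditive `F*`-invariant form on `F`, `|F| > 4`, is trivial. -/
theorem form_eq_one {F : Type*} [Field F] {M : Type*} [CommGroup M] (B : F → F → M)
    (h1 : ∀ x x' y, B (x + x') y = B x y * B x' y) (h2 : ∀ x y y', B x (y + y') = B x y * B x y')
    (hinv : ∀ c x y, c ≠ 0 → B (c * x) (c * y) = B x y)
    (hx : ∃ x : F, x ≠ 0 ∧ x + 1 ≠ 0 ∧ x ^ 2 + x + 1 ≠ 0) (x y : F) : B x y = 1 := by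
  obtain ⟨c, hc0, hc1, hc2⟩ := hx
  have hB0 : ∀ y, B 0 y = 1 := by
    intro y
    have := h1 0 0 y
    rw [add_zero] at this
    exact left_eq_mul.mp this
  have hz0 : B 1 0 = 1 := by
    have := h2 1 0 0
    rw [add_zero] at this
    exact left_eq_mul.mp this
  have hB : ∀ x y, x ≠ 0 → B x y = B 1 (x⁻¹ * y) := by
    intro x y hx
    have := hinv x 1 (x⁻¹ * y) hx
    rw [mul_one, mul_inv_cancel_left₀ hx] at this
    exact this
  have hneg : ∀ y, B 1 (-y) = (B 1 y)⁻¹ := by
    intro y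
    have := h2 1 y (-y)
    rw [add_neg_cancel, hz0] at this
    exact eq_inv_of_mul_eq_one_right this.symm
  have key : ∀ y, B 1 (((c + 1)⁻¹ - c⁻¹ - 1) * y) = 1 := by
    intro y
    have e : ((c + 1)⁻¹ - c⁻¹ - 1) * y = (c + 1)⁻¹ * y + (-(c⁻¹ * y) + -y) := by ring
    rw [e, h2, h2, hneg, hneg, ← hB _ _ hc1, ← hB _ _ hc0, h1]
    rw [show (B c y)⁻¹ * (B 1 y)⁻¹ = (B c y * B 1 y)⁻¹ by rw [mul_inv]]
    exact mul_inv_cancel _
  have hd : (c + 1)⁻¹ - c⁻¹ - 1 ≠ 0 := by
    intro h
    apply hc2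
    field_simp at h
    linear_combination -h
  have hl : ∀ y, B 1 y = 1 := by
    intro y
    have := key (((c + 1)⁻¹ - c⁻¹ - 1)⁻¹ * y)
    rwa [mul_inv_cancel_left₀ hd] at this
  by_cases hx : x = 0
  · rw [hx, hB0]
  · rw [hB x y hx, hl]

theorem exists_elt {F : Type*} [Field F] [Finite F] (hF : 4 < Nat.card F) :
    ∃ x : F, x ≠ 0 ∧ x + 1 ≠ 0 ∧ x ^ 2 + x + 1 ≠ 0 := by
  classical
  have := Fintype.ofFinite F
  rw [Nat.card_eq_fintype_card] at hF
  by_contra hcon
  push Not at hcon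
  let p : Polynomial F := Polynomial.X ^ 2 + Polynomial.X + Polynomial.C 1
  have hpd : p.natDegree = 2 := by
    show (Polynomial.X ^ 2 + Polynomial.X + Polynomial.C 1 : Polynomial F).natDegree = 2
    compute_degree!
  have hp0 : p ≠ 0 := by
    intro h
    rw [h, Polynomial.natDegree_zero] at hpd
    omega
  have h1 : (Finset.univ : Finset F) ⊆ {0, -1} ∪ p.roots.toFinset := by
    intro x _
    rw [Finset.mem_union, Finset.mem_insert, Finset.mem_singleton, Multiset.mem_toFinset,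
      Polynomial.mem_roots hp0]
    by_cases h0 : x = 0
    · exact Or.inl (Or.inl h0)
    by_cases h1 : x + 1 = 0
    · exact Or.inl (Or.inr (eq_neg_of_add_eq_zero_left h1))
    · right
      show Polynomial.eval x (Polynomial.X ^ 2 + Polynomial.X + Polynomial.C 1 : Polynomial F) = 0
      simpa using hcon x h0 h1
  have h2 := Finset.card_le_card h1
  have h3 := Finset.card_union_le ({0, -1} : Finset F) p.roots.toFinset
  have h4 : ({0, -1} : Finset F).card ≤ 2 := Finset.card_le_two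
  have h5 : p.roots.toFinset.card ≤ 2 := by
    have := Multiset.toFinset_card_le p.roots
    have h6 := Polynomial.card_roots' p
    omega
  rw [Finset.card_univ] at h2
  omega

end form

section cover

variable {J : Type*} [Group J]

theorem commElt_mul_center {a b z : J} (hz : z ∈ center J) : ⁅a * z, b⁆ = ⁅a, b⁆ := by
  have h : ∀ g, g * z = z * g := mem_center_iff.mp hz
  rw [commutatorElement_def, commutatorElement_def, mul_inv_rev]
  calc a * z * b * (z⁻¹ * a⁻¹) * b⁻¹ = a * (z * b) * z⁻¹ * a⁻¹ * b⁻¹ := by group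
    _ = a * (b * z) * z⁻¹ * a⁻¹ * b⁻¹ := by rw [h b]
    _ = _ := by group

theorem commElt_center_mul {a b z : J} (hz : z ∈ center J) : ⁅a, b * z⁆ = ⁅a, b⁆ := by
  rw [← commutatorElement_inv, commElt_mul_center hz, commutatorElement_inv]

theorem commElt_mul_left {a b c : J} (h : ⁅b, c⁆ ∈ center J) : ⁅a * b, c⁆ = ⁅a, c⁆ * ⁅b, c⁆ := by
  have h1 : ∀ g, g * ⁅b, c⁆ = ⁅b, c⁆ * g := mem_center_iff.mp h
  calc ⁅a * b, c⁆ = a * ⁅b, c⁆ * a⁻¹ * ⁅a, c⁆ := by
        rw [commutatorElement_def, commutatorElement_def, commutatorElement_def]; group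
    _ = ⁅b, c⁆ * ⁅a, c⁆ := by rw [h1 a]; group
    _ = _ := (h1 _).symm

theorem commElt_mul_right {a b c : J} (h : ⁅a, c⁆ ∈ center J) : ⁅a, b * c⁆ = ⁅a, b⁆ * ⁅a, c⁆ := by
  have h1 : ∀ g, g * ⁅a, c⁆ = ⁅a, c⁆ * g := mem_center_iff.mp h
  calc ⁅a, b * c⁆ = ⁅a, b⁆ * (b * ⁅a, c⁆ * b⁻¹) := by
        rw [commutatorElement_def, commutatorElement_def, commutatorElement_def]; group
    _ = ⁅a, b⁆ * ⁅a, c⁆ := by rw [h1 b]; group

variable {F : Type*} [Field F] [Finite F] [CharP F 2]

/-- In a central extension of `SL(2,F)`, `|F| > 4` even, the preimages of the upper unitriangular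
matrices commute. -/
theorem comm_of_up (hF : 4 < Nat.card F) (π : J →* Matrix.SpecialLinearGroup (Fin 2) F)
    (hπ : Function.Surjective π) (hk : π.ker ≤ center J) {x y : J} (hx : π x ∈ upG F)
    (hy : π y ∈ upG F) : x * y = y * x := by
  classical
  choose s hs using fun b : F => hπ (up b)
  choose dd hdd using hπ
  have hcen : ∀ a b : J, π a = π b → ∃ z ∈ center J, a = b * z := by
    intro a b h
    refine ⟨b⁻¹ * a, hk ?_, by group⟩
    rw [MonoidHom.mem_ker, map_mul, map_inv, h, inv_mul_cancel]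
  have hcm : ∀ a b : J, π a ∈ upG F → π b ∈ upG F → ⁅a, b⁆ ∈ center J := by
    rintro a b ⟨p, hp⟩ ⟨q, hq⟩
    apply hk
    rw [MonoidHom.mem_ker, map_commutatorElement, commutatorElement_eq_one_iff_mul_comm, ← hp,
      ← hq, up_mul, up_mul, add_comm]
  have hsm : ∀ b, π (s b) ∈ upG F := fun b => ⟨b, (hs b).symm⟩
  let B : F → F → center J := fun b c => ⟨⁅s b, s c⁆, hcm _ _ (hsm b) (hsm c)⟩
  let _ : CommGroup (center J) := { (inferInstance : Group (center J)) with
    mul_comm := fun a b => Subtype.ext (mem_center_iff.1 b.2 a) }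
  have hadd : ∀ b c, ∃ z ∈ center J, s (b + c) = s b * s c * z := by
    intro b c
    apply hcen
    rw [map_mul, hs, hs, hs, up_mul]
  have key := form_eq_one B ?_ ?_ ?_ (exists_elt hF)
  · obtain ⟨b, hb⟩ := hx
    obtain ⟨c, hc⟩ := hy
    obtain ⟨z, hz, rfl⟩ := hcen x (s b) (by rw [hs, hb])
    obtain ⟨w, hw, rfl⟩ := hcen y (s c) (by rw [hs, hc])
    rw [← commutatorElement_eq_one_iff_mul_comm, commElt_mul_center hz, commElt_center_mul hw]
    exact congrArg Subtype.val (key b c)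
  · intro b b' c
    apply Subtype.ext
    show ⁅s (b + b'), s c⁆ = ⁅s b, s c⁆ * ⁅s b', s c⁆
    obtain ⟨z, hz, h⟩ := hadd b b'
    rw [h, commElt_mul_center hz, commElt_mul_left (hcm _ _ (hsm b') (hsm c))]
  · intro b c c'
    apply Subtype.ext
    show ⁅s b, s (c + c')⁆ = ⁅s b, s c⁆ * ⁅s b, s c'⁆
    obtain ⟨z, hz, h⟩ := hadd c c'
    rw [h, commElt_center_mul hz, commElt_mul_right (hcm _ _ (hsm b) (hsm c'))]
  · intro c b b' hc
    apply Subtype.ext
    show ⁅s (c * b), s (c * b')⁆ = ⁅s b, s b'⁆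
    -- a square root of `c`
    obtain ⟨a, ha⟩ : ∃ a : F, c = a ^ 2 := by
      have h2 : ringChar F = 2 := ringChar.eq F 2
      obtain ⟨a, ha⟩ := FiniteField.isSquare_of_char_two h2 c
      exact ⟨a, by rw [ha, pow_two]⟩
    have ha0 : a ≠ 0 := by
      rintro rfl
      apply hc
      rw [ha]; ring
    set d : J := dd (dg a ha0) with hd
    have hconj : ∀ b, ∃ z ∈ center J, s (c * b) = d * s b * d⁻¹ * z := by
      intro b
      apply hcen
      rw [map_mul, map_mul, map_inv, hs, hs, hd, hdd, ha]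
      rw [eq_mul_inv_iff_mul_eq]
      refine ext_ent ?_ ?_ ?_ ?_ <;> rw [ent_mul, ent_mul] <;> simp
      field_simp
    obtain ⟨z, hz, h⟩ := hconj b
    obtain ⟨w, hw, h'⟩ := hconj b'
    rw [h, h', commElt_mul_center hz, commElt_center_mul hw]
    have e : ⁅d * s b * d⁻¹, d * s b' * d⁻¹⁆ = d * ⁅s b, s b'⁆ * d⁻¹ := by
      rw [commutatorElement_def, commutatorElement_def]; group
    rw [e, mem_center_iff.mp (hcm _ _ (hsm b) (hsm b')) d]
    group

end cover

end Cfsg.Agent.OddCyclic.PumpCover
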