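import Mathlib
import Cfsg.Agent.SporRec.J1.EqTop
import Cfsg.Agent.SporRec.J1.A5More

/-!
# Automorphisms of groups with the local structure of `J₁` are inner

`inner`: if `Local J` (the local structure of the first Janko group, `SporRec.J1.Defs`) and `k` is an
involution of `J`, then every automorphism of `J` is inner.
-/

set_option autoImplicit false

namespace Cfsg.Agent.OddCyclic.JInner

open Cfsg.Agent.SporRec.J1.Defs Cfsg.Agent.SporRec.J1.CentFacts Subgroup

/-! ### Averaging -/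

section Avg

variable {J : Type*} [Group J] [Finite J]

/-- the cocycle `n ↦ α(n) n⁻¹` of an automorphism trivial on a self-centralising elementary abelian
Sylow 2-subgroup `E` is a coboundary on `N(E)`. -/
theorem avg (E : Subgroup J) (hc : ∀ a ∈ E, ∀ b ∈ E, a * b = b * a) (h2 : ∀ a ∈ E, a * a = 1)
    (hodd : Odd (E.relIndex (normalizer (E : Set J)))) (α : J ≃* J) (hα : ∀ e ∈ E, α e = e)
    (hC : ∀ g, (∀ e ∈ E, g * e = e * g) → g ∈ E) :
    ∃ f ∈ E, ∀ n ∈ normalizer (E : Set J), α n = f * n * f⁻¹ := by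
  classical
  set N : Subgroup J := normalizer (E : Set J) with hN
  have hconj : ∀ n ∈ N, ∀ e ∈ E, n * e * n⁻¹ ∈ E := fun n hn e he =>
    (mem_normalizer_iff.1 hn e).1 he
  -- the cocycle
  have hd : ∀ n ∈ N, α n * n⁻¹ ∈ E := by
    intro n hn
    have h1 : n⁻¹ * α n ∈ E := by
      apply hC
      intro e he
      have h3 : α (n * e * n⁻¹) = n * e * n⁻¹ := hα _ (hconj n hn e he)
      rw [map_mul, map_mul, map_inv, hα e he] at h3
      calc n⁻¹ * α n * e = n⁻¹ * (α n * e * (α n)⁻¹) * α n := by group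
        _ = n⁻¹ * (n * e * n⁻¹) * α n := by rw [h3]
        _ = e * (n⁻¹ * α n) := by group
    have h4 := hconj n hn _ h1
    have h5 : n * (n⁻¹ * α n) * n⁻¹ = α n * n⁻¹ := by group
    rwa [h5] at h4
  let _ : CommGroup E := { (inferInstance : Group E) with
    mul_comm := fun a b => Subtype.ext (hc a a.2 b b.2) }
  let d : N → E := fun n => ⟨α n * (n : J)⁻¹, hd n n.2⟩
  let c : N → E → E := fun n e => ⟨n * e * (n : J)⁻¹, hconj n n.2 e e.2⟩
  have hcmul : ∀ n a b, c n (a * b) = c n a * c n b := by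
    intro n a b
    apply Subtype.ext
    change (n : J) * (a * b) * (n : J)⁻¹ = (n * a * (n : J)⁻¹) * (n * b * (n : J)⁻¹)
    group
  have hcone : ∀ n, c n 1 = 1 := by
    intro n
    apply Subtype.ext
    change (n : J) * 1 * (n : J)⁻¹ = 1
    group
  have hcoc : ∀ n m, d (n * m) = d n * c n (d m) := by
    intro n m
    apply Subtype.ext
    change α ((n : J) * m) * ((n : J) * m)⁻¹ = (α n * (n : J)⁻¹) * (n * (α m * (m : J)⁻¹) * (n : J)⁻¹)
    rw [map_mul]
    group
  set E' : Subgroup N := E.subgroupOf N with hE'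
  have hdE : ∀ e ∈ E', d e = 1 := by
    intro e he
    apply Subtype.ext
    change α e * (e : J)⁻¹ = 1
    rw [hα _ (mem_subgroupOf.1 he), mul_inv_cancel]
  have hdcoset : ∀ n, ∀ e ∈ E', d (n * e) = d n := by
    intro n e he
    rw [hcoc, hdE e he, hcone, mul_one]
  have : Fintype (N ⧸ E') := Fintype.ofFinite _
  let δ : N ⧸ E' → E := fun q => d q.out
  have hδ : ∀ n : N, δ (QuotientGroup.mk n) = d n := by
    intro n
    obtain ⟨e, he⟩ := QuotientGroup.mk_out_eq_mul E' n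
    change d (Quotient.out (QuotientGroup.mk n : N ⧸ E')) = d n
    rw [he, hdcoset n e e.2]
  set f : E := ∏ q, δ q with hf
  have hcprod : ∀ n, c n f = ∏ q, c n (δ q) := by
    intro n
    let ch : E →* E := { toFun := c n, map_one' := hcone n, map_mul' := hcmul n }
    exact map_prod ch _ _
  have hcard : Fintype.card (N ⧸ E') = E.relIndex N := by
    rw [← Nat.card_eq_fintype_card]; rfl
  have key : ∀ n : N, f = d n * c n f := by
    intro n
    have h1 : f = ∏ q, δ (n • q) := by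
      rw [hf]
      exact (Equiv.prod_comp (MulAction.toPerm n) δ).symm
    have h3 : ∀ q : N ⧸ E', δ (n • q) = d n * c n (δ q) := by
      intro q
      induction q using QuotientGroup.induction_on with
      | H m =>
        have : n • (QuotientGroup.mk m : N ⧸ E') = QuotientGroup.mk (n * m) := rfl
        rw [this, hδ, hδ, hcoc]
    have h4 : d n ^ Fintype.card (N ⧸ E') = d n := by
      rw [hcard]
      obtain ⟨r, hr⟩ := hodd
      rw [hr, pow_succ, pow_mul, pow_two]
      have h5 : d n * d n = 1 := Subtype.ext (h2 _ (d n).2)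
      rw [h5, one_pow, one_mul]
    calc f = ∏ q, δ (n • q) := h1
      _ = ∏ q : N ⧸ E', (d n * c n (δ q)) := by rw [Finset.prod_congr rfl (fun q _ => h3 q)]
      _ = d n ^ Fintype.card (N ⧸ E') * ∏ q, c n (δ q) := by
          rw [Finset.prod_mul_distrib, Finset.prod_const, Finset.card_univ]
      _ = d n * c n f := by rw [h4, hcprod]
  refine ⟨f, f.2, fun n hn => ?_⟩
  have h1 : (f : J) = (α n * n⁻¹) * (n * f * n⁻¹) := congrArg Subtype.val (key ⟨n, hn⟩)
  calc α n = (α n * n⁻¹) * (n * f * n⁻¹) * (n * (f : J)⁻¹) := by group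
    _ = (f : J) * (n * (f : J)⁻¹) := by rw [← h1]
    _ = f * n * (f : J)⁻¹ := by group

end Avg

/-! ### Facts on `A₅` -/

/-- `(0 1)(2 3)` -/
def v1 : A5 := ⟨Equiv.swap 0 1 * Equiv.swap 2 3, by rw [Equiv.Perm.mem_alternatingGroup]; decide⟩
/-- `(0 2)(1 3)` -/
def v2 : A5 := ⟨Equiv.swap 0 2 * Equiv.swap 1 3, by rw [Equiv.Perm.mem_alternatingGroup]; decide⟩
/-- `(1 2)(3 4)` -/
def r0 : A5 := ⟨Equiv.swap 1 2 * Equiv.swap 3 4, by rw [Equiv.Perm.mem_alternatingGroup]; decide⟩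
/-- `(0 1)(1 2)`, of order 3 -/
def u0 : A5 := ⟨Equiv.swap 0 1 * Equiv.swap 1 2, by rw [Equiv.Perm.mem_alternatingGroup]; decide⟩

theorem v1_sq : v1 * v1 = 1 := by decide +kernel
theorem v2_sq : v2 * v2 = 1 := by decide +kernel
theorem v1_ne : v1 ≠ 1 := by decide +kernel
theorem v2_ne : v2 ≠ 1 := by decide +kernel
theorem v12_comm : v1 * v2 = v2 * v1 := by decide +kernel
theorem v1_ne_v2 : v1 ≠ v2 := by decide +kernel

theorem conj_v1 : ∀ b : A5, (b * b = 1 ∧ b ≠ 1) → ∃ g : A5, g * b * g⁻¹ = v1 := by decide +kernel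

theorem comm_v1 : ∀ b : A5, (b * b = 1 ∧ b ≠ 1 ∧ b ≠ v1 ∧ b * v1 = v1 * b) → b = v2 ∨ b = v1 * v2 := by
  decide +kernel

theorem cent_V : ∀ b : A5, (b * v1 = v1 * b ∧ b * v2 = v2 * b) → b = 1 ∨ b = v1 ∨ b = v2 ∨ b = v1 * v2 := by
  decide +kernel

set_option synthInstance.maxSize 100000 in
theorem conj_pair : ∀ p : A5, (p * p = 1 ∧ p ≠ 1) → ∀ q : A5, (q * q = 1 ∧ q ≠ 1 ∧ q ≠ p ∧ p * q = q * p) →
    ∃ g : A5, g * p * g⁻¹ = v1 ∧ (g * q * g⁻¹ = v2 ∨ g * q * g⁻¹ = v1 * v2) := by decide +kernel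

theorem norm_u0_1 : u0 * v1 * u0⁻¹ = v1 ∨ u0 * v1 * u0⁻¹ = v2 ∨ u0 * v1 * u0⁻¹ = v1 * v2 := by decide +kernel
theorem norm_u0_2 : u0 * v2 * u0⁻¹ = v1 ∨ u0 * v2 * u0⁻¹ = v2 ∨ u0 * v2 * u0⁻¹ = v1 * v2 := by decide +kernel
theorem norm_u0_1' : u0⁻¹ * v1 * u0 = v1 ∨ u0⁻¹ * v1 * u0 = v2 ∨ u0⁻¹ * v1 * u0 = v1 * v2 := by
  decide +kernel
theorem norm_u0_2' : u0⁻¹ * v2 * u0 = v1 ∨ u0⁻¹ * v2 * u0 = v2 ∨ u0⁻¹ * v2 * u0 = v1 * v2 := by
  decide +kernel

theorem r0_rel : r0 * r0 = 1 ∧ (v1 * r0) ^ 5 = 1 ∧ (v2 * r0) ^ 5 = 1 ∧ (u0 * r0) ^ 2 = 1 := by decide +kernel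

theorem r0_unique : ∀ b : A5, (b * b = 1 ∧ (v1 * b) ^ 5 = 1 ∧ (v2 * b) ^ 5 = 1 ∧ (u0 * b) ^ 2 = 1) → b = r0 := by
  decide +kernel

/-- the four generators -/
def gens : Fin 4 → A5 := ![v1, v2, u0, r0]

/-- words for all the elements of `A₅` -/
def words : List (List (Fin 4)) :=
  [[], [0], [1], [2], [3], [1, 0], [2, 0], [3, 0], [2, 1], [3, 1], [1, 2], [2, 2], [3, 2], [0, 3], [1, 3], [2, 3], [3, 1, 0], [2, 2, 0], [3, 2, 0], [0, 3, 0], [1, 3, 0], [2, 3, 0], [2, 2, 1], [3, 2, 1], [0, 3, 1], [1, 3, 1], [2, 3, 1], [2, 1, 2], [3, 1, 2], [0, 3, 2], [1, 3, 2], [1, 0, 3], [2, 0, 3], [3, 0, 3], [2, 1, 3], [3, 1, 3], [1, 2, 3], [0, 3, 1, 0], [1, 3, 1, 0], [2, 3, 1, 0], [0, 3, 2, 0], [1, 3, 2, 0], [1, 0, 3, 0], [2, 0, 3, 0], [3, 0, 3, 0], [1, 2, 3, 0], [0, 3, 2, 1], [1, 0, 3, 1], [2, 0, 3, 1], [2, 1, 3, 1], [3, 1, 3, 1], [1, 2, 3, 1], [0, 3, 1, 2], [1, 0, 3, 2], [3, 0, 3, 2], [3, 1, 0, 3], [0, 3, 0, 3], [2, 3, 1, 3], [2, 0, 3, 1, 0], [0, 3, 0, 3, 0]]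

theorem all_words : ∀ x : A5, ∃ l ∈ words, (l.map gens).prod = x := by decide +kernel

/-- `A₅` is generated by `v1`, `v2`, `u0`, `r0`. -/
theorem gen_top (H : Subgroup A5) (h1 : v1 ∈ H) (h2 : v2 ∈ H) (hu : u0 ∈ H) (hr : r0 ∈ H) (x : A5) : x ∈ H := by
  obtain ⟨l, -, rfl⟩ := all_words x
  apply Subgroup.list_prod_mem
  intro y hy
  obtain ⟨i, -, rfl⟩ := List.mem_map.1 hy
  fin_cases i
  · exact h1
  · exact h2
  · exact hu
  · exact hr

/-! ### Tools -/

/-- a 2-subgroup of odd index meets the conjugacy class of each involution -/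
theorem exists_conj_mem {H : Type*} [Group H] [Finite H] (E : Subgroup H) (hE : IsPGroup 2 E)
    (hi : ¬ 2 ∣ E.index) (x : H) (hx : orderOf x = 2) : ∃ h : H, h * x * h⁻¹ ∈ E := by
  have : Fact (Nat.Prime 2) := ⟨Nat.prime_two⟩
  let P : Sylow 2 H := hE.toSylow hi
  have hz : IsPGroup 2 (zpowers x) := by
    apply IsPGroup.of_card (n := 1)
    rw [Nat.card_zpowers, hx, pow_one]
  obtain ⟨Q, hQ⟩ := hz.exists_le_sylow
  obtain ⟨g, hg⟩ := MulAction.exists_smul_eq H Q P
  refine ⟨g, ?_⟩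
  have h1 : g * x * g⁻¹ ∈ (g • Q : Sylow 2 H) := by
    rw [Sylow.smul_def]
    exact Subgroup.smul_mem_pointwise_smul _ _ _ (hQ (mem_zpowers x))
  rw [hg] at h1
  exact h1

theorem exists_notin {J : Type*} [Group J] [Finite J] (E : Subgroup J) (h : 5 ≤ Nat.card E) (a b c d : J) :
    ∃ e ∈ E, e ≠ a ∧ e ≠ b ∧ e ≠ c ∧ e ≠ d := by
  classical
  by_contra hc
  push Not at hc
  have h1 : (E : Set J) ⊆ (({a, b, c, d} : Finset J) : Set J) := by
    intro e he
    have h2 := hc e he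
    by_cases h3 : e = a
    · simp [h3]
    by_cases h4 : e = b
    · simp [h4]
    by_cases h5 : e = c
    · simp [h5]
    have h6 := h2 h3 h4 h5
    simp [h6]
  have h2 : Nat.card E ≤ 4 := by
    calc Nat.card E = (E : Set J).ncard := rfl
      _ ≤ ((({a, b, c, d} : Finset J) : Set J)).ncard := Set.ncard_le_ncard h1 (Finset.finite_toSet _)
      _ = ({a, b, c, d} : Finset J).card := Set.ncard_coe_finset _
      _ ≤ 4 := Finset.card_le_four
  omega

variable {J : Type*} [Group J]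

theorem map_F (α : J ≃* J) (x y : J) (h : y ∈ F x) : α y ∈ F (α x) := by
  have h1 : (F x).map α.toMonoidHom ≤ F (α x) := by
    rw [F, F, Subgroup.map_commutator]
    apply Subgroup.commutator_mono <;>
    · rintro _ ⟨c, hc, rfl⟩
      have hc' : c * x = x * c := mem_centralizer_singleton_iff.1 hc
      refine mem_centralizer_singleton_iff.2 ?_
      change α c * α x = α x * α c
      rw [← map_mul, ← map_mul, hc']
  exact h1 ⟨y, h, rfl⟩

theorem sq_of_two {x : J} (h : orderOf x = 2) : x * x = 1 ∧ x ≠ 1 := by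
  rw [← pow_two]
  exact (orderOf_eq_prime_iff (p := 2) (hp := ⟨Nat.prime_two⟩)).1 h

theorem two_of_sq {x : J} (h : x * x = 1) (h1 : x ≠ 1) : orderOf x = 2 := by
  have : Fact (Nat.Prime 2) := ⟨Nat.prime_two⟩
  exact orderOf_eq_prime (by rw [pow_two, h]) h1

/-- step (ii) : an automorphism which fixes an involution is, modulo inner ones, trivial on a Sylow 2-subgroup -/
theorem fix_E (h : Local J) {k : J} {φ : A5 →* J} (D : CentData k φ) (α : J ≃* J) (hα : α k = k) :
    ∃ a : J, a * k = k * a ∧ a * α (φ v1) * a⁻¹ = φ v1 ∧ a * α (φ v2) * a⁻¹ = φ v2 := by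
  have hF : ∀ b : A5, ∃ c : A5, φ c = α (φ b) := by
    intro b
    have h1 : φ b ∈ F k := (D.range _).2 ⟨b, rfl⟩
    have h2 := map_F α k _ h1
    rw [hα] at h2
    exact (D.range _).1 h2
  obtain ⟨b1, hb1⟩ := hF v1
  have hb1' : b1 * b1 = 1 ∧ b1 ≠ 1 := by
    constructor
    · apply D.inj
      rw [map_mul, hb1, ← map_mul, ← map_mul, v1_sq, map_one, map_one]
    · intro h2
      rw [h2, map_one] at hb1
      have h3 : φ v1 = 1 := by
        apply α.injective
        rw [← hb1, map_one]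
      exact v1_ne (D.inj (by rw [h3, map_one]))
  obtain ⟨g, hg⟩ := conj_v1 b1 hb1'
  -- the new automorphism
  let β : J ≃* J := α.trans (MulAut.conj (φ g))
  have hβ : ∀ x, β x = φ g * α x * (φ g)⁻¹ := fun x => rfl
  have hβk : β k = k := by
    rw [hβ, hα, ← D.comm g]; group
  have hβ1 : β (φ v1) = φ v1 := by
    rw [hβ, ← hb1, ← map_mul, ← map_inv, ← map_mul, hg]
  have hF' : ∀ b : A5, ∃ c : A5, φ c = β (φ b) := by
    intro b
    have h1 : φ b ∈ F k := (D.range _).2 ⟨b, rfl⟩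
    have h2 := map_F β k _ h1
    rw [hβk] at h2
    exact (D.range _).1 h2
  obtain ⟨b2, hb2⟩ := hF' v2
  have hcase : b2 = v2 ∨ b2 = v1 * v2 := by
    apply comm_v1
    refine ⟨?_, ?_, ?_, ?_⟩
    · apply D.inj
      rw [map_mul, hb2, ← map_mul, ← map_mul, v2_sq, map_one, map_one]
    · intro h2
      rw [h2, map_one] at hb2
      have h3 : φ v2 = 1 := by
        apply β.injective
        rw [← hb2, map_one]
      exact v2_ne (D.inj (by rw [h3, map_one]))
    · intro h2
      rw [h2, ← hβ1] at hb2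
      exact v1_ne_v2 (D.inj (β.injective hb2))
    · apply D.inj
      rw [map_mul, map_mul, hb2]
      calc β (φ v2) * φ v1 = β (φ v2) * β (φ v1) := by rw [hβ1]
        _ = β (φ v1) * β (φ v2) := by rw [← map_mul, ← map_mul, ← map_mul, ← map_mul, v12_comm]
        _ = φ v1 * β (φ v2) := by rw [hβ1]
  rcases hcase with h2 | h2
  · refine ⟨φ g, (D.comm g).symm, hβ1, ?_⟩
    rw [← hβ, ← hb2, h2]
  · exfalso
    set x := φ v2 with hx
    set y := φ (v1 * v2) with hy
    have hxy : β x = y := by rw [← hb2, h2]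
    have hyx : β y = x := by
      rw [hy, map_mul, map_mul, hβ1, hxy, hy, ← map_mul, ← mul_assoc, v1_sq, one_mul]
    have hx2 : orderOf x = 2 := by
      apply two_of_sq
      · rw [hx, ← map_mul, v2_sq, map_one]
      · intro h3; exact v2_ne (D.inj (by rw [map_one]; exact h3))
    have hy2 : orderOf y = 2 := by
      rw [← hxy, MulEquiv.orderOf_eq]; exact hx2
    have hne : x ≠ y := by
      intro h3
      have h4 := D.inj h3
      have h5 : v1 = 1 := by
        have := congrArg (· * v2⁻¹) h4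
        simpa using this.symm
      exact v1_ne h5
    have hcomm : x * y = y * x := by
      rw [hx, hy, ← map_mul, ← map_mul]
      congr 1
      rw [← mul_assoc, ← v12_comm]
    have h3 := h.typeRule x y hx2 hy2 hne hcomm
    have h4 : y ∈ F x → x ∈ F y := by
      intro h5
      have := map_F β x y h5
      rwa [hyx, hxy] at this
    have h5 : x ∈ F y → y ∈ F x := by
      intro h5
      have := map_F β y x h5
      rwa [hyx, hxy] at this
    tauto

/-- elements commuting with `k`, `φ v1`, `φ v2` -/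
theorem mem_list {k : J} {φ : A5 →* J} (D : CentData k φ) {g : J} (h0 : g * k = k * g)
    (h1 : g * φ v1 = φ v1 * g) (h2 : g * φ v2 = φ v2 * g) :
    ∃ b : A5, (b = 1 ∨ b = v1 ∨ b = v2 ∨ b = v1 * v2) ∧ (g = φ b ∨ g = k * φ b) := by
  obtain ⟨b, hb⟩ := D.cover g h0
  refine ⟨b, ?_, hb⟩
  have key : ∀ v : A5, g * φ v = φ v * g → b * v = v * b := by
    intro v hv
    apply D.inj
    rw [map_mul, map_mul]
    rcases hb with rfl | rfl
    · exact hv
    · have h3 : k * (φ b * φ v) = k * (φ v * φ b) := by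
        calc k * (φ b * φ v) = k * φ b * φ v := by group
          _ = φ v * (k * φ b) := hv
          _ = (φ v * k) * φ b := by group
          _ = (k * φ v) * φ b := by rw [D.comm v]
          _ = k * (φ v * φ b) := by group
      exact mul_left_cancel h3
  exact cent_V b ⟨key v1 h1, key v2 h2⟩

/-- `E(k, φ) = C(k) ∩ C(φ(v1)) ∩ C(φ(v2))` -/
def EE (k : J) (φ : A5 →* J) : Subgroup J := centralizer {k, φ v1, φ v2}

theorem mem_EE {k : J} {φ : A5 →* J} {g : J} :
    g ∈ EE k φ ↔ g * k = k * g ∧ g * φ v1 = φ v1 * g ∧ g * φ v2 = φ v2 * g := by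
  rw [EE, mem_centralizer_iff]
  constructor
  · intro h
    exact ⟨(h k (by simp)).symm, (h (φ v1) (by simp)).symm, (h (φ v2) (by simp)).symm⟩
  · rintro ⟨h0, h1, h2⟩ x (rfl | rfl | rfl)
    · exact h0.symm
    · exact h1.symm
    · exact h2.symm

theorem phi_mem_EE {k : J} {φ : A5 →* J} (D : CentData k φ) {b : A5}
    (hb : b = 1 ∨ b = v1 ∨ b = v2 ∨ b = v1 * v2) : φ b ∈ EE k φ := by
  rw [mem_EE]
  refine ⟨(D.comm b).symm, ?_, ?_⟩
  · rw [← map_mul, ← map_mul]
    congr 1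
    rcases hb with rfl | rfl | rfl | rfl
    · simp
    · rfl
    · exact v12_comm.symm
    · rw [mul_assoc, ← v12_comm]
  · rw [← map_mul, ← map_mul]
    congr 1
    rcases hb with rfl | rfl | rfl | rfl
    · simp
    · exact v12_comm
    · rfl
    · rw [← mul_assoc, ← v12_comm]

theorem k_mem_EE {k : J} {φ : A5 →* J} (D : CentData k φ) : k ∈ EE k φ := by
  rw [mem_EE]
  exact ⟨rfl, D.comm _, D.comm _⟩

theorem list_EE {k : J} {φ : A5 →* J} (D : CentData k φ) {g : J} :
    g ∈ EE k φ ↔ ∃ b : A5, (b = 1 ∨ b = v1 ∨ b = v2 ∨ b = v1 * v2) ∧ (g = φ b ∨ g = k * φ b) := by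
  constructor
  · intro h
    rw [mem_EE] at h
    exact mem_list D h.1 h.2.1 h.2.2
  · rintro ⟨b, hb, rfl | rfl⟩
    · exact phi_mem_EE D hb
    · exact mul_mem (k_mem_EE D) (phi_mem_EE D hb)

theorem EE_comm {k : J} {φ : A5 →* J} (D : CentData k φ) : ∀ a ∈ EE k φ, ∀ b ∈ EE k φ, a * b = b * a := by
  intro a ha b hb
  obtain ⟨c, hc, h1⟩ := (list_EE D).1 ha
  have hbk : b * k = k * b := (mem_EE.1 hb).1
  have hb1 : b * φ v1 = φ v1 * b := (mem_EE.1 hb).2.1
  have hb2 : b * φ v2 = φ v2 * b := (mem_EE.1 hb).2.2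
  have hbc : b * φ c = φ c * b := by
    rcases hc with rfl | rfl | rfl | rfl
    · simp
    · exact hb1
    · exact hb2
    · rw [map_mul, ← mul_assoc, hb1, mul_assoc, hb2, mul_assoc]
  rcases h1 with rfl | rfl
  · exact hbc.symm
  · calc k * φ c * b = k * (φ c * b) := by group
      _ = k * (b * φ c) := by rw [hbc]
      _ = (k * b) * φ c := by group
      _ = b * (k * φ c) := by rw [← hbk]; group

theorem EE_sq {k : J} (hk : k * k = 1) {φ : A5 →* J} (D : CentData k φ) : ∀ a ∈ EE k φ, a * a = 1 := by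
  intro a ha
  obtain ⟨c, hc, h1⟩ := (list_EE D).1 ha
  have hcc : c * c = 1 := by
    rcases hc with rfl | rfl | rfl | rfl
    · simp
    · exact v1_sq
    · exact v2_sq
    · calc v1 * v2 * (v1 * v2) = v1 * (v2 * v1) * v2 := by group
        _ = v1 * (v1 * v2) * v2 := by rw [v12_comm]
        _ = (v1 * v1) * (v2 * v2) := by group
        _ = 1 := by rw [v1_sq, v2_sq, one_mul]
  rcases h1 with rfl | rfl
  · rw [← map_mul, hcc, map_one]
  · calc k * φ c * (k * φ c) = k * (φ c * k) * φ c := by group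
      _ = (k * k) * (φ c * φ c) := by rw [← D.comm c]; group
      _ = 1 := by rw [hk, ← map_mul, hcc, map_one, one_mul]

theorem EE_pgroup [Finite J] {k : J} (hk : k * k = 1) {φ : A5 →* J} (D : CentData k φ) :
    IsPGroup 2 (EE k φ) := by
  intro a
  refine ⟨1, ?_⟩
  apply Subtype.ext
  have := EE_sq hk D a a.2
  simpa [pow_two] using this

theorem EE_card [Finite J] {k : J} (hk : k * k = 1) (hk1 : k ≠ 1) {φ : A5 →* J} (D : CentData k φ) :
    8 ∣ Nat.card (EE k φ) := by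
  classical
  have : Fact (Nat.Prime 2) := ⟨Nat.prime_two⟩
  obtain ⟨n, hn⟩ := IsPGroup.iff_card.1 (EE_pgroup hk D)
  have h5 : 5 ≤ Nat.card (EE k φ) := by
    by_contra hlt
    have e1 := k_mem_EE D
    have e2 := phi_mem_EE D (b := v1) (by tauto)
    have e3 := phi_mem_EE D (b := v2) (by tauto)
    have e4 := mul_mem e1 e2
    have e0 := one_mem (EE k φ)
    have n1 : k ≠ φ v1 := fun h => D.ne v1 h.symm
    have n2 : k ≠ φ v2 := fun h => D.ne v2 h.symm
    have n3 : φ v1 ≠ φ v2 := fun h => v1_ne_v2 (D.inj h)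
    have n4 : φ v1 ≠ 1 := fun h => v1_ne (D.inj (by rw [h, map_one]))
    have n5 : φ v2 ≠ 1 := fun h => v2_ne (D.inj (by rw [h, map_one]))
    have n6 : k * φ v1 ≠ 1 := by
      intro h
      have h2 : k = (φ v1)⁻¹ := eq_inv_of_mul_eq_one_left h
      exact D.ne v1⁻¹ (by rw [map_inv, h2])
    have n7 : k * φ v1 ≠ k := by
      intro h
      exact n4 (mul_left_cancel (h.trans (mul_one k).symm))
    have n8 : k * φ v1 ≠ φ v1 := by
      intro h
      exact hk1 (mul_right_cancel (h.trans (one_mul _).symm))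
    have n9 : k * φ v1 ≠ φ v2 := by
      intro h
      apply D.ne (v2 * v1⁻¹)
      rw [map_mul, map_inv, ← h]; group
    have h1 : (({1, k, φ v1, φ v2, k * φ v1} : Finset J) : Set J) ⊆ (EE k φ : Set J) := by
      intro x hx
      simp only [Finset.coe_insert, Finset.coe_singleton, Set.mem_insert_iff, Set.mem_singleton_iff] at hx
      rcases hx with rfl | rfl | rfl | rfl | rfl
      · exact e0
      · exact e1
      · exact e2
      · exact e3
      · exact e4
    have h2 := Set.ncard_le_ncard h1 (Set.toFinite _)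
    rw [Set.ncard_coe_finset] at h2
    have h3 : ({1, k, φ v1, φ v2, k * φ v1} : Finset J).card = 5 := by
      rw [Finset.card_insert_of_notMem, Finset.card_insert_of_notMem, Finset.card_insert_of_notMem,
        Finset.card_insert_of_notMem, Finset.card_singleton]
      · simpa using n9.symm
      · simp only [Finset.mem_insert, Finset.mem_singleton, not_or]
        exact ⟨n3, n8.symm⟩
      · simp only [Finset.mem_insert, Finset.mem_singleton, not_or]
        exact ⟨n1, n2, n7.symm⟩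
      · simp only [Finset.mem_insert, Finset.mem_singleton, not_or]
        exact ⟨hk1.symm, n4.symm, n5.symm, n6.symm⟩
    rw [h3] at h2
    exact hlt h2
  rw [hn] at h5 ⊢
  have h3 : 3 ≤ n := by
    by_contra h4
    have : n ≤ 2 := by omega
    have := Nat.pow_le_pow_right (n := 2) (by norm_num) this
    omega
  exact pow_dvd_pow 2 h3

/-- step (iv) : an automorphism trivial on `N(E)` is trivial on the centraliser of each involution of `E` -/
theorem triv_cent [Finite J] (h : Local J) (E : Subgroup J) (hc : ∀ a ∈ E, ∀ b ∈ E, a * b = b * a)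
    (h2 : ∀ a ∈ E, a * a = 1) (h5 : 5 ≤ Nat.card E) (α : J ≃* J)
    (hα : ∀ n ∈ normalizer (E : Set J), α n = n) (hC : ∀ g, (∀ e ∈ E, g * e = e * g) → g ∈ E)
    (k : J) (hk : orderOf k = 2) (hkE : k ∈ E) (x : J) (hx : x * k = k * x) : α x = x := by
  obtain ⟨φ, D⟩ := exists_centData k hk (h.cent k hk)
  obtain ⟨kk, k1⟩ := sq_of_two hk
  -- every element of `E` gives an element of `A₅`
  have lift : ∀ e ∈ E, ∃ b : A5, φ b ∈ E ∧ (e = φ b ∨ e = k * φ b) := by
    intro e he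
    obtain ⟨b, hb⟩ := D.cover e (hc e he k hkE)
    refine ⟨b, ?_, hb⟩
    rcases hb with rfl | rfl
    · exact he
    · have := E.mul_mem hkE he
      rwa [← mul_assoc, kk, one_mul] at this
  obtain ⟨e1, he1, n1, n2, -, -⟩ := exists_notin E h5 1 k 1 1
  obtain ⟨p, hpE, hp⟩ := lift e1 he1
  obtain ⟨e2, he2, m1, m2, m3, m4⟩ := exists_notin E h5 1 k (φ p) (k * φ p)
  obtain ⟨q, hqE, hq⟩ := lift e2 he2
  have hpp : p * p = 1 := D.inj (by rw [map_mul, map_one]; exact h2 _ hpE)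
  have hqq : q * q = 1 := D.inj (by rw [map_mul, map_one]; exact h2 _ hqE)
  have hp1 : p ≠ 1 := by
    rintro rfl
    rw [map_one, mul_one] at hp
    tauto
  have hq1 : q ≠ 1 := by
    rintro rfl
    rw [map_one, mul_one] at hq
    tauto
  have hqp : q ≠ p := by
    rintro rfl
    tauto
  have hpq : p * q = q * p := D.inj (by rw [map_mul, map_mul]; exact hc _ hpE _ hqE)
  obtain ⟨g, hg1, hg2⟩ := conj_pair p ⟨hpp, hp1⟩ q ⟨hqq, hq1, hqp, hpq⟩
  -- the adjusted homomorphism
  let ψ : A5 →* J := φ.comp (MulAut.conj g⁻¹).toMonoidHom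
  have hψ : ∀ b, ψ b = φ (g⁻¹ * b * g) := by
    intro b
    change φ (g⁻¹ * b * g⁻¹⁻¹) = _
    rw [inv_inv]
  have hφψ : ∀ b, φ b = ψ (g * b * g⁻¹) := by
    intro b
    rw [hψ]
    congr 1
    group
  have D' : CentData k ψ := by
    refine ⟨?_, ?_, ?_, ?_, ?_⟩
    · intro a b hab
      rw [hψ, hψ] at hab
      have := D.inj hab
      exact mul_left_cancel (mul_right_cancel this)
    · intro y
      rw [D.range]
      constructor
      · rintro ⟨a, rfl⟩
        exact ⟨_, (hφψ a).symm⟩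
      · rintro ⟨a, rfl⟩
        exact ⟨_, (hψ a).symm⟩
    · intro a
      rw [hψ]; exact D.comm _
    · intro y hy
      obtain ⟨a, ha⟩ := D.cover y hy
      exact ⟨_, by rw [← hφψ]; exact ha⟩
    · intro a
      rw [hψ]; exact D.ne _
  have w1 : ψ v1 ∈ E := by
    rw [hψ, ← hg1]
    have : g⁻¹ * (g * p * g⁻¹) * g = p := by group
    rw [this]; exact hpE
  have w2 : ψ v2 ∈ E := by
    rw [hψ]
    rcases hg2 with h3 | h3
    · rw [← h3]
      have : g⁻¹ * (g * q * g⁻¹) * g = q := by group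
      rw [this]; exact hqE
    · have h4 : v2 = v1 * (v1 * v2) := by rw [← mul_assoc, v1_sq, one_mul]
      rw [h4, ← h3, ← hg1]
      have : g⁻¹ * (g * p * g⁻¹ * (g * q * g⁻¹)) * g = p * q := by group
      rw [this, map_mul]
      exact E.mul_mem hpE hqE
  have hE : E = EE k ψ := by
    apply le_antisymm
    · intro e he
      rw [mem_EE]
      exact ⟨hc _ he _ hkE, hc _ he _ w1, hc _ he _ w2⟩
    · intro e he
      rw [list_EE D'] at he
      obtain ⟨b, hb, hb'⟩ := he
      have h3 : ψ b ∈ E := by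
        rcases hb with rfl | rfl | rfl | rfl
        · rw [map_one]; exact E.one_mem
        · exact w1
        · exact w2
        · rw [map_mul]; exact E.mul_mem w1 w2
      rcases hb' with rfl | rfl
      · exact h3
      · exact E.mul_mem hkE h3
  have hEN : E ≤ normalizer (E : Set J) := le_normalizer
  have f1 : α (ψ v1) = ψ v1 := hα _ (hEN w1)
  have f2 : α (ψ v2) = ψ v2 := hα _ (hEN w2)
  have fk : α k = k := hα _ (hEN hkE)
  have norm : ∀ u : A5, (u * v1 * u⁻¹ = v1 ∨ u * v1 * u⁻¹ = v2 ∨ u * v1 * u⁻¹ = v1 * v2) →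
      (u * v2 * u⁻¹ = v1 ∨ u * v2 * u⁻¹ = v2 ∨ u * v2 * u⁻¹ = v1 * v2) → ∀ e ∈ E, ψ u * e * (ψ u)⁻¹ ∈ E := by
    intro u hu1 hu2 e he
    rw [hE, list_EE D'] at he
    obtain ⟨b, hb, hb'⟩ := he
    have w12 : ψ (v1 * v2) ∈ E := by rw [map_mul]; exact E.mul_mem w1 w2
    have g1 : ψ (u * v1 * u⁻¹) ∈ E := by
      rcases hu1 with h3 | h3 | h3 <;> rw [h3]
      · exact w1
      · exact w2
      · exact w12
    have g2 : ψ (u * v2 * u⁻¹) ∈ E := by
      rcases hu2 with h3 | h3 | h3 <;> rw [h3]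
      · exact w1
      · exact w2
      · exact w12
    have g3 : ψ (u * b * u⁻¹) ∈ E := by
      rcases hb with rfl | rfl | rfl | rfl
      · simp
      · exact g1
      · exact g2
      · have : u * (v1 * v2) * u⁻¹ = (u * v1 * u⁻¹) * (u * v2 * u⁻¹) := by group
        rw [this, map_mul]
        exact E.mul_mem g1 g2
    rw [map_mul, map_mul, map_inv] at g3
    rcases hb' with rfl | rfl
    · exact g3
    · have : ψ u * (k * ψ b) * (ψ u)⁻¹ = k * (ψ u * ψ b * (ψ u)⁻¹) := by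
        calc ψ u * (k * ψ b) * (ψ u)⁻¹ = (ψ u * k) * ψ b * (ψ u)⁻¹ := by group
          _ = (k * ψ u) * ψ b * (ψ u)⁻¹ := by rw [D'.comm u]
          _ = _ := by group
      rw [this]
      exact E.mul_mem hkE g3
  have fu : α (ψ u0) = ψ u0 := by
    apply hα
    rw [mem_normalizer_iff]
    intro e
    constructor
    · exact norm u0 norm_u0_1 norm_u0_2 e
    · intro he
      have h3 := norm u0⁻¹ (by rw [inv_inv]; exact norm_u0_1') (by rw [inv_inv]; exact norm_u0_2') _ he
      rw [map_inv, inv_inv] at h3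
      have h4 : (ψ u0)⁻¹ * (ψ u0 * e * (ψ u0)⁻¹) * ψ u0 = e := by group
      rwa [h4] at h3
  have fr : α (ψ r0) = ψ r0 := by
    have h3 : ψ r0 ∈ F k := (D'.range _).2 ⟨r0, rfl⟩
    have h4 := map_F α k _ h3
    rw [fk] at h4
    obtain ⟨b, hb⟩ := (D'.range _).1 h4
    have key : ∀ v : A5, α (ψ v) = ψ v → ∀ n : ℕ, (v * r0) ^ n = 1 → (v * b) ^ n = 1 := by
      intro v hv n hn
      apply D'.inj
      rw [map_pow, map_mul, hb, ← hv, ← map_mul, ← map_mul, ← map_pow, ← map_pow, hn, map_one, map_one]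
    have h6 : b = r0 := by
      apply r0_unique
      refine ⟨?_, key v1 f1 5 r0_rel.2.1, key v2 f2 5 r0_rel.2.2.1, key u0 fu 2 r0_rel.2.2.2⟩
      have := key 1 (by rw [map_one, map_one]) 2 (by rw [one_mul, pow_two]; exact r0_rel.1)
      rwa [one_mul, pow_two] at this
    rw [← hb, h6]
  let H : Subgroup A5 := 
    { carrier := {b | α (ψ b) = ψ b}
      mul_mem' := by
        intro a b ha hb
        change α (ψ (a * b)) = ψ (a * b)
        change α (ψ a) = ψ a at ha
        change α (ψ b) = ψ b at hb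
        rw [map_mul, map_mul, ha, hb]
      one_mem' := by
        change α (ψ 1) = ψ 1
        rw [map_one, map_one]
      inv_mem' := by
        intro a ha
        change α (ψ a⁻¹) = ψ a⁻¹
        change α (ψ a) = ψ a at ha
        rw [map_inv, map_inv, ha] }
  have hH : ∀ b, α (ψ b) = ψ b := gen_top H f1 f2 fu fr
  obtain ⟨b, hb⟩ := D'.cover x hx
  rcases hb with rfl | rfl
  · exact hH b
  · rw [map_mul, fk, hH b]

/-- Every automorphism of a group with the local structure of `J₁` is inner. -/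
theorem inner [Finite J] (h : Local J) (k : J) (hk : orderOf k = 2) (α : J ≃* J) :
    ∃ g : J, ∀ x, α x = g * x * g⁻¹ := by
  obtain ⟨kk, k1⟩ := sq_of_two hk
  obtain ⟨φ, D⟩ := exists_centData k hk (h.cent k hk)
  have hαk : orderOf (α k) = 2 := by rw [MulEquiv.orderOf_eq]; exact hk
  obtain ⟨a, ha⟩ := h.conj (α k) k hαk hk
  let β : J ≃* J := α.trans (MulAut.conj a)
  have hβ : ∀ x, β x = a * α x * a⁻¹ := fun x => rfl
  obtain ⟨b, hb0, hb1, hb2⟩ := fix_E h D β (by rw [hβ, ha])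
  let γ : J ≃* J := β.trans (MulAut.conj b)
  have hγ : ∀ x, γ x = b * β x * b⁻¹ := fun x => rfl
  have hγk : γ k = k := by
    rw [hγ, hβ, ha, hb0]; group
  have hγE : ∀ e ∈ EE k φ, γ e = e := by
    intro e he
    rw [list_EE D] at he
    obtain ⟨c, hc, hc'⟩ := he
    have h3 : γ (φ c) = φ c := by
      rcases hc with rfl | rfl | rfl | rfl
      · rw [map_one, map_one]
      · rw [hγ, hb1]
      · rw [hγ, hb2]
      · rw [map_mul, map_mul, hγ, hγ, hb1, hb2]
    rcases hc' with rfl | rfl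
    · exact h3
    · rw [map_mul, hγk, h3]
  have hEC : ∀ g, (∀ e ∈ EE k φ, g * e = e * g) → g ∈ EE k φ := by
    intro g hg
    rw [mem_EE]
    exact ⟨hg _ (k_mem_EE D), hg _ (phi_mem_EE D (by tauto)), hg _ (phi_mem_EE D (by tauto))⟩
  have h8 := EE_card kk k1 D
  have hrel : ∀ L : Subgroup J, EE k φ ≤ L → ¬ 2 ∣ (EE k φ).relIndex L := by
    intro L hL h2
    apply h.two
    have h3 := Subgroup.relIndex_mul_relIndex ⊥ (EE k φ) L bot_le hL
    rw [relIndex_bot_left, relIndex_bot_left] at h3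
    have h4 : 8 * 2 ∣ Nat.card L := by
      rw [← h3]; exact Nat.mul_dvd_mul h8 h2
    exact h4.trans L.card_subgroup_dvd_card
  have hodd : Odd ((EE k φ).relIndex (normalizer (EE k φ : Set J))) := by
    rw [← Nat.not_even_iff_odd]
    intro hev
    exact hrel _ le_normalizer hev.two_dvd
  obtain ⟨f, hf, hfN⟩ := avg (EE k φ) (EE_comm D) (EE_sq kk D) hodd γ hγE hEC
  let δ : J ≃* J := γ.trans (MulAut.conj f⁻¹)
  have hδ : ∀ x, δ x = f⁻¹ * γ x * f⁻¹⁻¹ := fun x => rfl
  have hδN : ∀ n ∈ normalizer (EE k φ : Set J), δ n = n := by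
    intro n hn
    rw [hδ, hfN n hn]; group
  have h5 : 5 ≤ Nat.card (EE k φ) := by
    have := Nat.le_of_dvd Nat.card_pos h8
    omega
  have hcent := triv_cent h (EE k φ) (EE_comm D) (EE_sq kk D) h5 δ hδN hEC
  let H : Subgroup J := 
    { carrier := {b | δ b = b}
      mul_mem' := by
        intro a b ha hb
        change δ (a * b) = a * b
        change δ a = a at ha
        change δ b = b at hb
        rw [map_mul, ha, hb]
      one_mem' := map_one δ
      inv_mem' := by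
        intro a ha
        change δ a⁻¹ = a⁻¹
        change δ a = a at ha
        rw [map_inv, ha] }
  have hEH : EE k φ ≤ H := fun e he => hδN e (le_normalizer he)
  have hHtop : H = ⊤ := by
    apply Cfsg.Agent.SporRec.J1.EqTop.eq_top h H k hk (hEH (k_mem_EE D))
    intro x hx hx2 c hc
    obtain ⟨g, hg⟩ := exists_conj_mem ((EE k φ).subgroupOf H) 
      ((EE_pgroup kk D).comap_subtype) (hrel H hEH) ⟨x, hx⟩ (by rw [← Subgroup.orderOf_coe]; exact hx2)
    have hg' : (g : J) * x * (g : J)⁻¹ ∈ EE k φ := hg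
    have hcx : c * x = x * c := mem_centralizer_singleton_iff.1 hc
    have h3 := hcent ((g : J) * x * (g : J)⁻¹) (by
      rw [← MulAut.conj_apply, MulEquiv.orderOf_eq]; exact hx2) hg' ((g : J) * c * (g : J)⁻¹) (by
        calc (g : J) * c * (g : J)⁻¹ * ((g : J) * x * (g : J)⁻¹) = g * (c * x) * (g : J)⁻¹ := by group
          _ = g * (x * c) * (g : J)⁻¹ := by rw [hcx]
          _ = _ := by group)
    have h4 : (g : J) * c * (g : J)⁻¹ ∈ H := h3
    have h5 : (g : J)⁻¹ * ((g : J) * c * (g : J)⁻¹) * g = c := by group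
    rw [← h5]
    exact H.mul_mem (H.mul_mem (H.inv_mem g.2) h4) g.2
  refine ⟨a⁻¹ * b⁻¹ * f, fun x => ?_⟩
  have h6 : δ x = x := by
    have : x ∈ H := by rw [hHtop]; exact mem_top x
    exact this
  rw [hδ, hγ, hβ] at h6
  calc α x = a⁻¹ * b⁻¹ * f * (f⁻¹ * (b * (a * α x * a⁻¹) * b⁻¹) * f⁻¹⁻¹) * (a⁻¹ * b⁻¹ * f)⁻¹ := by group
    _ = _ := by rw [h6]

end Cfsg.Agent.OddCyclic.JInner
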