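import Mathlib
import Cfsg.Agent.OddCyclic.PumpCover

/-!
# S0342, component type: central extensions and an element of order seven

`comm_of_seven`: in a central extension `π : J → S` the preimage of an elementary abelian subgroup
`E` of order 8, normalized by an element of order 7 of `S` acting fixed point freely, is abelian.
-/

set_option autoImplicit false

namespace Cfsg.Agent.OddCyclic.PumpSeven

open Subgroup
open scoped commutatorElement
open Cfsg.Agent.OddCyclic.PumpCover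

theorem seven_kill {M : Type*} [CommGroup M] (b : ℤ → M) (h0 : b 0 = 1)
    (hsq : ∀ k, b k * b k = 1) (hneg : ∀ k, b (-k) = b k) (hper : ∀ k, b (k + 7) = b k) (r : ℤ)
    (hr2 : 2 ≤ r) (hr6 : r ≤ 6) (hrec : ∀ k, b (k + r) = b k * b (k + 1)) :
    b 1 = 1 ∧ b 2 = 1 ∧ b 3 = 1 ∧ b 4 = 1 ∧ b 5 = 1 ∧ b 6 = 1 := by
  have e4 : b 4 = b 3 := by
    have h1 := hneg 3
    have h2 := hper (-3)
    rw [show (-3 : ℤ) + 7 = 4 by norm_num] at h2
    rw [h2, h1]
  have e5 : b 5 = b 2 := by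
    have h1 := hneg 2
    have h2 := hper (-2)
    rw [show (-2 : ℤ) + 7 = 5 by norm_num] at h2
    rw [h2, h1]
  have e6 : b 6 = b 1 := by
    have h1 := hneg 1
    have h2 := hper (-1)
    rw [show (-1 : ℤ) + 7 = 6 by norm_num] at h2
    rw [h2, h1]
  have e7 : b 7 = 1 := by
    have h2 := hper 0
    rw [zero_add] at h2
    rw [h2, h0]
  have e8 : b 8 = b 1 := by
    have h2 := hper 1
    rwa [show (1 : ℤ) + 7 = 8 by norm_num] at h2
  have e9 : b 9 = b 2 := by
    have h2 := hper 2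
    rwa [show (2 : ℤ) + 7 = 9 by norm_num] at h2
  have r0 := hrec 0
  have r1 := hrec 1
  have r2 := hrec 2
  have r3 := hrec 3
  rw [zero_add, zero_add, h0, one_mul] at r0
  have key : b 1 = 1 ∧ b 2 = 1 ∧ b 3 = 1 := by
    obtain rfl | rfl | rfl | rfl | rfl : r = 2 ∨ r = 3 ∨ r = 4 ∨ r = 5 ∨ r = 6 := by omega
    · norm_num at r0 r1 r2 r3
      -- `b 2 = b 1`, `b 3 = b 1 b 2`, `b 4 = b 2 b 3`
      have h3 : b 3 = 1 := by rw [r1, r0, hsq]
      rw [e4, h3, mul_one] at r2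
      exact ⟨r0 ▸ r2.symm, r2.symm, h3⟩
    · norm_num at r0 r1 r2 r3
      -- `b 3 = b 1`, `b 4 = b 1 b 2`, `b 5 = b 2 b 3`
      rw [e4, r0] at r1
      have h2 : b 2 = 1 := left_eq_mul.mp r1
      rw [e5, h2, one_mul] at r2
      exact ⟨r0 ▸ r2.symm, h2, r2.symm⟩
    · norm_num at r0 r1 r2 r3
      -- `b 4 = b 1`, `b 5 = b 1 b 2`, `b 6 = b 2 b 3`
      rw [e4] at r0
      rw [e5] at r1
      have h1 : b 1 = 1 := right_eq_mul.mp r1
      rw [e6, h1, r0, h1, mul_one] at r2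
      exact ⟨h1, r2.symm, r0.trans h1⟩
    · norm_num at r0 r1 r2 r3
      -- `b 5 = b 1`, `b 6 = b 1 b 2`, `b 7 = b 2 b 3`
      rw [e6] at r1
      have h2 : b 2 = 1 := left_eq_mul.mp r1
      rw [e5, h2] at r0
      rw [e7, h2, one_mul] at r2
      exact ⟨r0.symm, h2, r2.symm⟩
    · norm_num at r0 r1 r2 r3
      -- `b 7 = b 1 b 2`, `b 8 = b 2 b 3`, `b 9 = b 3 b 4`
      rw [e9, e4, hsq] at r3
      rw [e7, r3, mul_one] at r1
      rw [e8, r3, one_mul, ← r1] at r2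
      exact ⟨r1.symm, r3, r2.symm⟩
  obtain ⟨h1, h2, h3⟩ := key
  exact ⟨h1, h2, h3, e4.trans h3, e5.trans h2, e6.trans h1⟩

variable {J S : Type*} [Group J] [Group S]

theorem comm_of_seven {π : J →* S} (hπ : Function.Surjective π) (hk : π.ker ≤ center J)
    {E : Subgroup S} (h2 : ∀ e ∈ E, e * e = 1) (hcard : Nat.card E = 8) {h : S} (h7 : h ^ 7 = 1)
    (hE : ∀ e ∈ E, h * e * h⁻¹ ∈ E) (hf : ∀ e ∈ E, h * e * h⁻¹ = e → e = 1) {x y : J}
    (hx : π x ∈ E) (hy : π y ∈ E) : x * y = y * x := by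
  classical
  have : Finite E := Nat.finite_of_card_ne_zero (by rw [hcard]; norm_num)
  have hcen : ∀ a b : J, π a = π b → ∃ z ∈ center J, a = b * z := by
    intro a b h
    refine ⟨b⁻¹ * a, hk ?_, by group⟩
    rw [MonoidHom.mem_ker, map_mul, map_inv, h, inv_mul_cancel]
  by_cases hx1 : π x = 1
  · exact (mem_center_iff.mp (hk hx1) y).symm
  by_cases hy1 : π y = 1
  · exact mem_center_iff.mp (hk hy1) x
  obtain ⟨H, hH⟩ := hπ h
  -- conjugation by powers of `h`
  have hEz : ∀ (k : ℤ), ∀ e ∈ E, h ^ k * e * (h ^ k)⁻¹ ∈ E := by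
    have hEn : ∀ (k : ℕ), ∀ e ∈ E, h ^ k * e * (h ^ k)⁻¹ ∈ E := by
      intro k
      induction k with
      | zero => intro e he; simpa using he
      | succ k ih =>
        intro e he
        have e1 : h ^ (k + 1) * e * (h ^ (k + 1))⁻¹ = h * (h ^ k * e * (h ^ k)⁻¹) * h⁻¹ := by
          rw [pow_succ' h k]; group
        rw [e1]
        exact hE _ (ih e he)
    intro k e he
    have e1 : h ^ k = h ^ (k % 7).toNat := by
      rw [← zpow_natCast, Int.toNat_of_nonneg (Int.emod_nonneg k (by norm_num))]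
      conv_lhs => rw [← Int.emod_add_mul_ediv k 7]
      rw [zpow_add, zpow_mul]
      have : h ^ (7 : ℤ) = 1 := by exact_mod_cast h7
      rw [this, one_zpow, mul_one]
    rw [e1]
    exact hEn _ e he
  let a : ℤ → J := fun k => H ^ k * x * (H ^ k)⁻¹
  have ha0 : a 0 = x := by simp [a]
  have hπa : ∀ k, π (a k) = h ^ k * π x * (h ^ k)⁻¹ := by
    intro k
    simp only [a, map_mul, map_inv, map_zpow, hH]
  have haE : ∀ k, π (a k) ∈ E := fun k => by rw [hπa]; exact hEz k _ hx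
  -- `E` is abelian
  have hEc : ∀ u ∈ E, ∀ v ∈ E, u * v = v * u := by
    intro u hu v hv
    have h1 := h2 _ (E.mul_mem hu hv)
    have hui : u⁻¹ = u := inv_eq_of_mul_eq_one_right (h2 u hu)
    have hvi : v⁻¹ = v := inv_eq_of_mul_eq_one_right (h2 v hv)
    have h3 : (u * v)⁻¹ = u * v := inv_eq_of_mul_eq_one_right h1
    rw [← h3, mul_inv_rev, hui, hvi]
  have hcm : ∀ u v : J, π u ∈ E → π v ∈ E → ⁅u, v⁆ ∈ center J := by
    intro u v hu hv
    apply hk
    rw [MonoidHom.mem_ker, map_commutatorElement, commutatorElement_eq_one_iff_mul_comm]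
    exact hEc _ hu _ hv
  let _ : CommGroup (center J) := { (inferInstance : Group (center J)) with
    mul_comm := fun a b => Subtype.ext (mem_center_iff.1 b.2 a) }
  let b : ℤ → center J := fun k => ⟨⁅a 0, a k⁆, hcm _ _ (haE 0) (haE k)⟩
  have hconj : ∀ (k : ℤ) (i j : ℤ), ⁅a (k + i), a (k + j)⁆ = ⁅a i, a j⁆ := by
    intro k i j
    have e1 : ∀ i, a (k + i) = H ^ k * a i * (H ^ k)⁻¹ := by
      intro i
      simp only [a, zpow_add]
      group
    rw [e1, e1]
    have e2 : ⁅H ^ k * a i * (H ^ k)⁻¹, H ^ k * a j * (H ^ k)⁻¹⁆ =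
        H ^ k * ⁅a i, a j⁆ * (H ^ k)⁻¹ := by
      rw [commutatorElement_def, commutatorElement_def]; group
    rw [e2, mem_center_iff.mp (hcm _ _ (haE i) (haE j)) (H ^ k), mul_inv_cancel_right]
  have hsq : ∀ k, b k * b k = 1 := by
    intro k
    apply Subtype.ext
    show ⁅a 0, a k⁆ * ⁅a 0, a k⁆ = 1
    rw [← commElt_mul_left (hcm _ _ (haE 0) (haE k))]
    have h3 : a 0 * a 0 ∈ center J := by
      apply hk
      rw [MonoidHom.mem_ker, map_mul]
      exact h2 _ (haE 0)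
    rw [commutatorElement_eq_one_iff_mul_comm]
    exact (mem_center_iff.mp h3 _).symm
  have h0 : b 0 = 1 := by
    apply Subtype.ext
    show ⁅a 0, a 0⁆ = 1
    exact commutatorElement_self _
  have hneg : ∀ k, b (-k) = b k := by
    intro k
    have e1 : b (-k) = (b k)⁻¹ := by
      apply Subtype.ext
      show ⁅a 0, a (-k)⁆ = ⁅a 0, a k⁆⁻¹
      have := hconj k 0 (-k)
      rw [add_zero, add_neg_cancel] at this
      rw [← this, commutatorElement_inv]
    rw [e1]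
    exact inv_eq_of_mul_eq_one_right (hsq k)
  have hper : ∀ k, b (k + 7) = b k := by
    intro k
    apply Subtype.ext
    show ⁅a 0, a (k + 7)⁆ = ⁅a 0, a k⁆
    obtain ⟨z, hz, e⟩ := hcen (a (k + 7)) (a k) (by
      rw [hπa, hπa, zpow_add]
      have : h ^ (7 : ℤ) = 1 := by exact_mod_cast h7
      rw [this, mul_one])
    rw [e, commElt_center_mul hz]
  -- the nonidentity elements of `E`
  have hinj : ∀ i j : Fin 7, h ^ (i : ℕ) * π x * (h ^ (i : ℕ))⁻¹ = h ^ (j : ℕ) * π x * (h ^ (j : ℕ))⁻¹ →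
      i = j := by
    -- a power of `h` prime to 7 fixing `π x`
    have key : ∀ d : ℕ, ¬ 7 ∣ d → h ^ d * π x * (h ^ d)⁻¹ = π x → False := by
      intro d hd he
      have hc : Commute (h ^ d) (π x) := mul_inv_eq_iff_eq_mul.mp he
      obtain ⟨m, hm⟩ : ∃ m : ℕ, (h ^ d) ^ m = h := by
        have hcop : Nat.Coprime d 7 := by
          rw [Nat.coprime_comm]
          exact (Nat.Prime.coprime_iff_not_dvd (by norm_num)).mpr hd
        obtain ⟨m, hm⟩ := Nat.exists_mul_mod_eq_one_of_coprime hcop (by norm_num)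
        refine ⟨m, ?_⟩
        rw [← pow_mul, ← Nat.mod_add_div (d * m) 7, hm.2, pow_add, pow_mul, h7, one_pow, mul_one,
          pow_one]
      have hc2 := hc.pow_left m
      rw [hm] at hc2
      exact hx1 (hf _ hx (mul_inv_eq_iff_eq_mul.mpr hc2))
    have main : ∀ i j : Fin 7, (i : ℕ) < j → h ^ (i : ℕ) * π x * (h ^ (i : ℕ))⁻¹ =
        h ^ (j : ℕ) * π x * (h ^ (j : ℕ))⁻¹ → False := by
      intro i j hij he
      apply key (j - i : ℕ) (by omega)
      have e1 : h ^ (j : ℕ) = h ^ (i : ℕ) * h ^ (j - i : ℕ) := by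
        rw [← pow_add]; congr 1; omega
      rw [e1] at he
      have e2 : h ^ (i : ℕ) * π x * (h ^ (i : ℕ))⁻¹ =
          h ^ (i : ℕ) * (h ^ (j - i : ℕ) * π x * (h ^ (j - i : ℕ))⁻¹) * (h ^ (i : ℕ))⁻¹ := by
        rw [he]; group
      exact (mul_left_cancel (mul_right_cancel e2)).symm
    intro i j he
    rcases lt_trichotomy (i : ℕ) (j : ℕ) with h1 | h1 | h1
    · exact (main i j h1 he).elim
    · exact Fin.ext h1
    · exact (main j i h1 he.symm).elim
  have hsurj : ∀ e ∈ E, e ≠ 1 → ∃ i : Fin 7, e = h ^ (i : ℕ) * π x * (h ^ (i : ℕ))⁻¹ := by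
    have := Fintype.ofFinite E
    rw [Nat.card_eq_fintype_card] at hcard
    let f : Fin 7 → {e : E // e ≠ 1} := fun i => ⟨⟨h ^ (i : ℕ) * π x * (h ^ (i : ℕ))⁻¹, by
      have := hEz (i : ℕ) _ hx
      simpa using this⟩, by
        intro he
        have h3 : h ^ (i : ℕ) * π x * (h ^ (i : ℕ))⁻¹ = 1 := congrArg Subtype.val he
        rw [conj_eq_one_iff] at h3
        exact hx1 h3⟩
    have hfi : Function.Injective f := by
      intro i j hij
      apply hinj
      exact congrArg (fun e => ((e : {e : E // e ≠ 1}).1 : S)) hij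
    have hc : Fintype.card (Fin 7) = Fintype.card {e : E // e ≠ 1} := by
      rw [Fintype.card_fin, Fintype.card_subtype_compl, Fintype.card_subtype_eq, hcard]
    have hfb : Function.Bijective f := (Fintype.bijective_iff_injective_and_card f).mpr ⟨hfi, hc⟩
    intro e he he1
    obtain ⟨i, hi⟩ := hfb.2 ⟨⟨e, he⟩, fun h3 => he1 (congrArg Subtype.val h3)⟩
    exact ⟨i, (congrArg (fun e => ((e : {e : E // e ≠ 1}).1 : S)) hi).symm⟩
  -- the relation
  obtain ⟨r, hr⟩ : ∃ r : Fin 7, π x * (h * π x * h⁻¹) = h ^ (r : ℕ) * π x * (h ^ (r : ℕ))⁻¹ := by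
    apply hsurj _ (E.mul_mem hx (hE _ hx))
    intro h3
    apply hx1
    apply hf _ hx
    have h4 : (π x)⁻¹ = h * π x * h⁻¹ := inv_eq_of_mul_eq_one_right h3
    rw [← h4]
    exact inv_eq_of_mul_eq_one_right (h2 _ hx)
  have hr2 : 2 ≤ (r : ℕ) := by
    by_contra hlt
    have h3 : (r : ℕ) = 0 ∨ (r : ℕ) = 1 := by omega
    rcases h3 with h3 | h3
    · rw [h3, pow_zero, one_mul, inv_one, mul_one] at hr
      have h4 : h * π x * h⁻¹ = 1 := mul_eq_left.mp hr
      rw [conj_eq_one_iff] at h4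
      exact hx1 h4
    · rw [h3, pow_one] at hr
      exact hx1 (mul_eq_right.mp hr)
  have hrec : ∀ k, b (k + (r : ℕ)) = b k * b (k + 1) := by
    intro k
    apply Subtype.ext
    show ⁅a 0, a (k + (r : ℕ))⁆ = ⁅a 0, a k⁆ * ⁅a 0, a (k + 1)⁆
    obtain ⟨z, hz, e⟩ := hcen (a (k + (r : ℕ))) (a k * a (k + 1)) (by
      rw [hπa, map_mul π (a k), hπa, hπa, zpow_add, zpow_add, zpow_natCast, zpow_one]
      have e1 : h ^ k * h ^ (r : ℕ) * π x * (h ^ k * h ^ (r : ℕ))⁻¹ =
          h ^ k * (h ^ (r : ℕ) * π x * (h ^ (r : ℕ))⁻¹) * (h ^ k)⁻¹ := by group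
      rw [e1, ← hr]
      group)
    rw [e, commElt_center_mul hz, commElt_mul_right (hcm _ _ (haE 0) (haE (k + 1)))]
  obtain ⟨b1, b2, b3, b4, b5, b6⟩ := seven_kill b h0 hsq hneg hper (r : ℕ) (by exact_mod_cast hr2)
    (by have := r.2; omega) hrec
  obtain ⟨i, hi⟩ := hsurj _ hy hy1
  obtain ⟨z, hz, e⟩ := hcen y (a (i : ℕ)) (by rw [hi, hπa, zpow_natCast])
  rw [← commutatorElement_eq_one_iff_mul_comm, e, commElt_center_mul hz, ← ha0]
  have hb : b (i : ℕ) = 1 := by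
    have hi7 := i.2
    obtain h3 | h3 | h3 | h3 | h3 | h3 | h3 : (i : ℕ) = 0 ∨ (i : ℕ) = 1 ∨ (i : ℕ) = 2 ∨ (i : ℕ) = 3 ∨
      (i : ℕ) = 4 ∨ (i : ℕ) = 5 ∨ (i : ℕ) = 6 := by omega
    all_goals rw [h3]
    · exact h0
    · exact b1
    · exact b2
    · exact b3
    · exact b4
    · exact b5
    · exact b6
  exact congrArg Subtype.val hb

end Cfsg.Agent.OddCyclic.PumpSeven
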