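import Mathlib
import Cfsg.Agent.OddCyclic.JInner
import Cfsg.Agent.OddCyclic.PumpSeven
import Cfsg.Agent.OddCyclic.T1Socle

/-!
# The pump lemma of the component case of S0342: groups with the local structure of `J₁`

* `exists_seven`: a Sylow 2-subgroup of `S` (`Local S`) is elementary of order 8 and an element of order 7 acts on it
  without fixed points;
* `comm_of_local`: preimages of a Sylow 2-subgroup in a central extension of `S` are abelian;
* `exists_fix_local`: the fixed points of an involutory automorphism contain `A ≅ A₅ ≅ PSL(2,4)` which contains every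
  perfect subgroup of fixed points.
-/

set_option autoImplicit false

namespace Cfsg.Agent.OddCyclic.PumpJOne

open Subgroup Cfsg.Agent.SporRec.J1.Defs Cfsg.Agent.SporRec.J1.CentFacts Cfsg.Agent.OddCyclic.JInner
open scoped commutatorElement

variable {S : Type*} [Group S] [Finite S]

theorem card_EE (h : Local S) {k : S} (hk : orderOf k = 2) {φ : A5 →* S} (D : CentData k φ) :
    Nat.card (EE k φ) = 8 := by
  have : Fact (Nat.Prime 2) := ⟨Nat.prime_two⟩
  obtain ⟨kk, k1⟩ := sq_of_two hk
  have h8 := EE_card kk k1 D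
  obtain ⟨n, hn⟩ := IsPGroup.iff_card.1 (EE_pgroup kk D)
  rw [hn] at h8 ⊢
  have h3 : 3 ≤ n := by
    have := (Nat.pow_dvd_pow_iff_le_right (x := 2) (by norm_num) (k := 3) (l := n)).mp (by simpa using h8)
    exact this
  have h4 : n < 4 := by
    by_contra hlt
    apply h.two
    have h5 : 2 ^ 4 ∣ 2 ^ n := pow_dvd_pow 2 (by omega)
    have h6 : Nat.card (EE k φ) ∣ Nat.card S := (EE k φ).card_subgroup_dvd_card
    rw [hn] at h6
    exact (by simpa using h5.trans h6)
  have : n = 3 := by omega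
  rw [this]
  norm_num

theorem card_cent (h : Local S) {k : S} (hk : orderOf k = 2) :
    Nat.card (centralizer ({k} : Set S)) = 120 := by
  obtain ⟨e⟩ := h.cent k hk
  rw [Nat.card_congr e.toEquiv, Nat.card_prod, nat_card_alternatingGroup]
  simp [Nat.factorial]

/-- a Sylow 2-subgroup of `S` is elementary of order 8 and an element of order 7 acts on it without fixed points -/
theorem exists_seven (h : Local S) {k : S} (hk : orderOf k = 2) :
    ∃ (E : Sylow 2 S) (x : S), (∀ e ∈ (E : Subgroup S), e * e = 1) ∧ Nat.card E = 8 ∧ x ^ 7 = 1 ∧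
      (∀ e ∈ (E : Subgroup S), x * e * x⁻¹ ∈ (E : Subgroup S)) ∧
      (∀ e ∈ (E : Subgroup S), x * e * x⁻¹ = e → e = 1) := by
  classical
  have hf2 : Fact (Nat.Prime 2) := ⟨Nat.prime_two⟩
  obtain ⟨kk, k1⟩ := sq_of_two hk
  obtain ⟨φ, D⟩ := exists_centData k hk (h.cent k hk)
  have h8 := card_EE h hk D
  have hsyl : ¬ 2 ∣ (EE k φ).index := by
    intro h2
    apply h.two
    have h3 := (EE k φ).card_mul_index
    rw [← h3, h8]
    obtain ⟨m, hm⟩ := h2
    exact ⟨m, by rw [hm]; ring⟩
  let E : Sylow 2 S := (EE_pgroup kk D).toSylow hsyl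
  have hEE : (E : Subgroup S) = EE k φ := rfl
  have hsq : ∀ e ∈ (E : Subgroup S), e * e = 1 := EE_sq kk D
  have hcomm : ∀ a ∈ (E : Subgroup S), ∀ b ∈ (E : Subgroup S), a * b = b * a := EE_comm D
  have hcE : Nat.card E = 8 := h8
  have hEc : IsMulCommutative E := ⟨⟨fun a b => Subtype.ext (hcomm a a.2 b b.2)⟩⟩
  -- the normalizer is transitive on the involutions
  have htr : ∀ e ∈ (E : Subgroup S), e ≠ 1 → ∃ n ∈ normalizer ((E : Subgroup S) : Set S), n * k * n⁻¹ = e := by
    intro e he he1
    obtain ⟨g, hg⟩ := h.conj k e hk (two_of_sq (hsq e he) he1)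
    obtain ⟨n, hn, hn'⟩ := E.conj_eq_normalizer_conj_of_mem k g⁻¹ (k_mem_EE D) (by
      rw [inv_inv, hg]; exact he)
    refine ⟨n⁻¹, inv_mem hn, ?_⟩
    rw [inv_inv] at hn' ⊢
    rw [← hn', hg]
  let N : Subgroup S := normalizer ((E : Subgroup S) : Set S)
  letI : MulAction N S := MulAction.compHom S ((MulAut.conj : S →* MulAut S).comp N.subtype)
  have hsmul : ∀ (n : N) (x : S), n • x = (n : S) * x * (n : S)⁻¹ := fun n x => rfl
  have horb : MulAction.orbit N k = ((E : Subgroup S) : Set S) \ {1} := by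
    ext e
    constructor
    · rintro ⟨n, rfl⟩
      show n • k ∈ _
      rw [hsmul]
      refine ⟨(mem_normalizer_iff.mp n.2 k).mp (k_mem_EE D), ?_⟩
      intro h3
      exact k1 (conj_eq_one_iff.mp h3)
    · rintro ⟨he, he1⟩
      obtain ⟨n, hn, hne⟩ := htr e he he1
      exact ⟨⟨n, hn⟩, hne⟩
  have h7 : 7 ∣ Nat.card N := by
    have h1 := MulAction.index_stabilizer N k
    have h2 : (MulAction.orbit N k).ncard = 7 := by
      rw [horb, Set.ncard_diff_singleton_of_mem (one_mem (E : Subgroup S))]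
      have : (((E : Subgroup S) : Set S)).ncard = 8 := by
        rw [← hcE]; rfl
      rw [this]
    rw [← h2, ← h1]
    exact Subgroup.index_dvd_card _
  have hf7 : Fact (Nat.Prime 7) := ⟨by norm_num⟩
  obtain ⟨x, hx⟩ := exists_prime_orderOf_dvd_card' (G := N) 7 h7
  refine ⟨E, x, hsq, hcE, ?_, ?_, ?_⟩
  · have := pow_orderOf_eq_one x
    rw [hx] at this
    exact congrArg Subtype.val this
  · intro e he
    exact (mem_normalizer_iff.mp x.2 e).mp he
  · intro e he hxe
    by_contra he1
    have h120 := card_cent h (two_of_sq (hsq e he) he1)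
    have hmem : (x : S) ∈ centralizer ({e} : Set S) := by
      rw [mem_centralizer_singleton_iff]
      exact mul_inv_eq_iff_eq_mul.mp hxe
    have h3 : orderOf (⟨(x : S), hmem⟩ : centralizer ({e} : Set S)) = 7 := by
      rw [← Subgroup.orderOf_coe, ← hx, ← Subgroup.orderOf_coe]
    have h4 := orderOf_dvd_natCard (⟨(x : S), hmem⟩ : centralizer ({e} : Set S))
    rw [h3, h120] at h4
    norm_num at h4

/-- preimages of a Sylow 2-subgroup in a central extension of `S` are abelian -/
theorem comm_of_local (h : Local S) {k : S} (hk : orderOf k = 2) {J : Type*} [Group J] (π : J →* S)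
    (hπ : Function.Surjective π) (hker : π.ker ≤ center J) :
    ∃ E : Sylow 2 S, ∀ x y : J, π x ∈ (E : Subgroup S) → π y ∈ (E : Subgroup S) → x * y = y * x := by
  obtain ⟨E, x, h1, h2, h3, h4, h5⟩ := exists_seven h hk
  exact ⟨E, fun a b ha hb => PumpSeven.comm_of_seven hπ hker h1 h2 h3 h4 h5 ha hb⟩

theorem eq_one_of_central (h : Local S) {k : S} (hk : orderOf k = 2) {z : S} (hz : ∀ x, z * x = x * z) :
    z = 1 := by
  obtain ⟨kk, k1⟩ := sq_of_two hk
  obtain ⟨φ, D⟩ := exists_centData k hk (h.cent k hk)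
  have key : ∀ b : A5, (∀ y : A5, b * y = y * b) → b = 1 := by decide +kernel
  obtain ⟨b, hb⟩ := D.cover z (hz k)
  have hb1 : b = 1 := by
    apply key
    intro y
    apply D.inj
    have h1 := hz (φ y)
    rw [map_mul, map_mul]
    rcases hb with rfl | rfl
    · exact h1
    · have h2 : k * (φ b * φ y) = k * (φ y * φ b) := by
        rw [← mul_assoc, h1, ← mul_assoc, ← mul_assoc, D.comm y]
      exact mul_left_cancel h2
  rcases hb with h1 | h1
  · rw [h1, hb1, map_one]
  · exfalso
    rw [hb1, map_one, mul_one] at h1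
    obtain ⟨g, hg⟩ := h.conj k (φ v1) hk (two_of_sq (by rw [← map_mul, v1_sq, map_one]) (fun h3 =>
      v1_ne (D.inj (by rw [h3, map_one]))))
    apply D.ne v1
    rw [← hg, ← h1, ← hz g, mul_inv_cancel_right]

/-- the fixed points of an involutory automorphism -/
theorem exists_fix_local (h : Local S) {k : S} (hk : orderOf k = 2) {α : MulAut S} (hα : α ≠ 1)
    (hα2 : ∀ z, α (α z) = z) :
    ∃ A : Subgroup S, Nonempty (A ≃* alternatingGroup (Fin 5)) ∧ (∀ x ∈ A, α x = x) ∧
      ∀ H : Subgroup S, (∀ x ∈ H, α x = x) → ⁅H, H⁆ = H → H ≤ A := by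
  obtain ⟨g, hg⟩ := inner h k hk α
  have hg2 : g * g = 1 := by
    apply eq_one_of_central h hk
    intro x
    have h1 := hα2 x
    rw [hg, hg] at h1
    calc g * g * x = (g * (g * x * g⁻¹) * g⁻¹) * (g * g) := by group
      _ = x * (g * g) := by rw [h1]
  have hg1 : g ≠ 1 := by
    rintro rfl
    apply hα
    ext x
    rw [hg]
    simp
  have hgo := two_of_sq hg2 hg1
  obtain ⟨ψ, D⟩ := exists_centData g hgo (h.cent g hgo)
  have hr : F g = ψ.range := by
    ext x
    rw [D.range]
    rfl
  refine ⟨F g, ⟨?_⟩, ?_, ?_⟩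
  · exact ((MonoidHom.ofInjective D.inj).trans (MulEquiv.subgroupCongr hr.symm)).symm
  · intro x hx
    rw [hr] at hx
    obtain ⟨b, rfl⟩ := hx
    rw [hg, D.comm b, mul_inv_cancel_right]
  · intro H hH hp
    have h1 : H ≤ centralizer ({g} : Set S) := by
      intro x hx
      rw [mem_centralizer_singleton_iff]
      have h2 := hH x hx
      rw [hg] at h2
      exact (mul_inv_eq_iff_eq_mul.mp h2).symm
    rw [← hp]
    exact Subgroup.commutator_mono h1 h1

/-- `A₅ ≅ PSL(2,4)` -/
theorem nonempty_psl_four : ∃ (F : Type) (_ : Field F) (_ : Fintype F) (f : ℕ), 2 ≤ f ∧ Fintype.card F = 2 ^ f ∧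
    Nonempty (alternatingGroup (Fin 5) ≃* Matrix.ProjectiveSpecialLinearGroup (Fin 2) F) := by
  haveI : Fact (Nat.Prime 2) := ⟨Nat.prime_two⟩
  letI := Fintype.ofFinite (GaloisField 2 2)
  have hK : Fintype.card (GaloisField 2 2) = 4 := by
    rw [← Nat.card_eq_fintype_card, GaloisField.card 2 2 (by norm_num)]
    norm_num
  have c1 : Nat.card (Matrix.ProjectiveSpecialLinearGroup (Fin 2) (GaloisField 2 2)) = 60 := by
    rw [ClassicalGeometry.PSL2Basic.card_PSL2_even (GaloisField 2 2) (by rw [hK]; decide), hK]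
    norm_num
  obtain ⟨g⟩ := T1Socle.equiv_alternating (F' := GaloisField 2 2) (by rw [hK]; norm_num) c1
  exact ⟨GaloisField 2 2, inferInstance, inferInstance, 2, le_rfl, by rw [hK]; norm_num, ⟨g.symm⟩⟩

end Cfsg.Agent.OddCyclic.PumpJOne
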