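import Mathlib
import Cfsg.Agent.LFourA.FieldInv
import Cfsg.Agent.Classification.TypeZ.SectionMat

/-!
# S0342, component type: fixed points of automorphisms of `PSL(2,F)`

* `eq_bot_of_gl`: the fixed points of a nontrivial automorphism induced by `GL(2,F)` form a
  solvable group (it has no nontrivial perfect subgroup).
* `exists_fix`: for `F` of characteristic two an involutory automorphism that is not induced by
  `GL(2,F)` has the fixed points `SL(2,F₀)`, `|F| = |F₀|²`.
-/

set_option autoImplicit false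

namespace Cfsg.Agent.OddCyclic.PumpPsl

open Matrix Cfsg.Agent.Lib.SL2Mat Cfsg.Agent.Lib.AutSL2 Cfsg.Agent.Lib.AutSL2Out
open Cfsg.Agent.LFourA.FieldInv
open scoped commutatorElement

variable {F : Type*} [Field F] {L : Type*} [Group L]

/-- A nonscalar matrix has an abelian centralizer. -/
theorem comm_of_fix {g : GL (Fin 2) F} (hg : ∃ x, conjGL g x ≠ x)
    {x y : Matrix.SpecialLinearGroup (Fin 2) F} (hx : conjGL g x = x) (hy : conjGL g y = y) :
    x * y = y * x := by
  by_cases hn : g.1 0 1 ≠ 0 ∨ g.1 1 0 ≠ 0 ∨ g.1 0 0 - g.1 1 1 ≠ 0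
  · apply Subtype.ext
    exact Cfsg.Agent.Classification.TypeZ.SectionMat.commute_of_nonscalar (comm_of_conj hx)
      (comm_of_conj hy) hn
  · exfalso
    push Not at hn
    obtain ⟨h01, h10, h00⟩ := hn
    obtain ⟨x, hx⟩ := hg
    apply hx
    refine conjGL_scalar (c := g.1 0 0) ?_ x
    ext i j
    fin_cases i <;> fin_cases j
    · simp
    · simpa using h01
    · simpa using h10
    · simp only [Fin.mk_one, Fin.isValue, Matrix.smul_apply, Matrix.one_apply_eq, smul_eq_mul,
        mul_one]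
      exact (sub_eq_zero.mp h00).symm

/-- A perfect group of fixed points of a nontrivial automorphism of a central quotient of
`SL(2,F)` induced by `GL(2,F)` is trivial. -/
theorem eq_bot_of_gl {π : Matrix.SpecialLinearGroup (Fin 2) F →* L} (hπ : Function.Surjective π)
    (hk : π.ker ≤ Subgroup.center (Matrix.SpecialLinearGroup (Fin 2) F)) {α : MulAut L}
    (hα : α ≠ 1) {g : GL (Fin 2) F} (hg : ∀ x, α (π x) = π (conjGL g x)) {H : Subgroup L}
    (hH : ∀ x ∈ H, α x = x) (hp : ⁅H, H⁆ = H) : H = ⊥ := by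
  have hne : ∃ x, conjGL g x ≠ x := by
    by_contra hcon
    push Not at hcon
    apply hα
    ext y
    obtain ⟨x, rfl⟩ := hπ y
    rw [hg, hcon]
    rfl
  have key : ∀ y ∈ H, ∃ x, conjGL g x = x ∧ π x = y := by
    have h1 : H ≤ (MonoidHom.eqLocus (conjGL g).toMonoidHom (MonoidHom.id _)).map π := by
      rw [← hp, Subgroup.commutator_le]
      intro a ha b hb
      obtain ⟨x, rfl⟩ := hπ a
      obtain ⟨y, rfl⟩ := hπ b
      have hzz : ∀ w, π w ∈ H → ∃ z ∈ Subgroup.center (Matrix.SpecialLinearGroup (Fin 2) F),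
          conjGL g w = z * w := by
        intro w hw
        refine ⟨conjGL g w * w⁻¹, hk ?_, by group⟩
        rw [MonoidHom.mem_ker, map_mul, ← hg, hH _ hw, map_inv, mul_inv_cancel]
      obtain ⟨z, hzc, hz⟩ := hzz x ha
      obtain ⟨w, hwc, hw⟩ := hzz y hb
      refine ⟨⁅x, y⁆, ?_, by rw [map_commutatorElement]⟩
      show conjGL g ⁅x, y⁆ = ⁅x, y⁆
      rw [map_commutatorElement, hz, hw, commutatorElement_def, commutatorElement_def]
      have h1 : ∀ u, u * z = z * u := Subgroup.mem_center_iff.mp hzc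
      have h2 : ∀ u, u * w = w * u := Subgroup.mem_center_iff.mp hwc
      calc z * x * (w * y) * (z * x)⁻¹ * (w * y)⁻¹
          = z * x * (w * y) * x⁻¹ * z⁻¹ * y⁻¹ * w⁻¹ := by group
        _ = x * z * (y * w) * x⁻¹ * z⁻¹ * y⁻¹ * w⁻¹ := by rw [h1, h2]
        _ = x * (z * y) * w * x⁻¹ * z⁻¹ * y⁻¹ * w⁻¹ := by group
        _ = x * (y * z) * w * x⁻¹ * z⁻¹ * y⁻¹ * w⁻¹ := by rw [h1]
        _ = x * y * (z * w) * x⁻¹ * z⁻¹ * y⁻¹ * w⁻¹ := by group
        _ = x * y * (x⁻¹ * (z * w)) * z⁻¹ * y⁻¹ * w⁻¹ := by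
            rw [show x⁻¹ * (z * w) = z * w * x⁻¹ by
              rw [← mul_assoc, h1 x⁻¹, mul_assoc, h2 x⁻¹, ← mul_assoc]]
            group
        _ = x * y * x⁻¹ * (z * w * z⁻¹ * y⁻¹ * w⁻¹) := by group
        _ = x * y * x⁻¹ * (w * z * z⁻¹ * y⁻¹ * w⁻¹) := by rw [h2 z]
        _ = x * y * x⁻¹ * (w * y⁻¹ * w⁻¹) := by group
        _ = x * y * x⁻¹ * (y⁻¹ * w * w⁻¹) := by rw [h2 y⁻¹]
        _ = _ := by group
    intro y hy
    obtain ⟨x, hx, hxy⟩ := h1 hy
    exact ⟨x, hx, hxy⟩
  rw [eq_bot_iff, ← hp, Subgroup.commutator_le]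
  intro a ha b hb
  obtain ⟨x, hx, rfl⟩ := key a ha
  obtain ⟨y, hy, rfl⟩ := key b hb
  rw [Subgroup.mem_bot, commutatorElement_eq_one_iff_mul_comm, ← map_mul, ← map_mul,
    comm_of_fix hne hx hy]

/-- The automorphisms of the prime field. -/
theorem ringEquiv_eq_one_of_prime {F : Type*} [Field F] [Fintype F] (hF : (Fintype.card F).Prime)
    (σ : F ≃+* F) : σ = 1 := by
  obtain ⟨p, hpc⟩ := CharP.exists F
  have : CharP F p := hpc
  have hp : Fact p.Prime := ⟨CharP.char_is_prime F p⟩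
  have hpF : Fintype.card F = p := by
    obtain ⟨n, -, hn⟩ := FiniteField.card F p
    rw [hn] at hF ⊢
    have := Nat.Prime.eq_one_of_pow hF
    rw [this, pow_one]
  have hb := ZMod.castHom_bijective F hpF
  ext a
  obtain ⟨b, rfl⟩ := hb.2 a
  have : (σ : F →+* F).comp (ZMod.castHom (dvd_refl p) F) = ZMod.castHom (dvd_refl p) F :=
    RingHom.ext_zmod _ _
  exact RingHom.congr_fun this b

section chartwo

variable [Finite F]

/-- Field involutions in characteristic two: the fixed points are `SL(2,F₀)`. -/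
theorem exists_fix {π : Matrix.SpecialLinearGroup (Fin 2) F →* L} (hπ : Function.Bijective π)
    {α : MulAut L} (hα : ∀ z, α (α z) = z)
    (hno : ¬ ∃ g : GL (Fin 2) F, ∀ x, α (π x) = π (conjGL g x)) :
    ∃ (K : Subfield F) (f : Matrix.SpecialLinearGroup (Fin 2) K →* L),
      Nat.card F = Nat.card K ^ 2 ∧ Function.Injective f ∧ ∀ y, α y = y ↔ y ∈ f.range := by
  have hcen : π.ker ≤ Subgroup.center (Matrix.SpecialLinearGroup (Fin 2) F) := by
    rw [(MonoidHom.ker_eq_bot_iff π).mpr hπ.1]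
    exact bot_le
  obtain ⟨g, σ, hgσ⟩ := exists_gl_ringEquiv π hπ.2 hcen α
  have hsemi : ∀ (k : GL (Fin 2) F) (x), fieldAut σ (conjGL k x) =
      conjGL (Matrix.GeneralLinearGroup.map σ.toRingHom k) (fieldAut σ x) := by
    intro k x
    have := DFunLike.congr_fun (fieldAut_mul_conjGL σ k) x
    rwa [MulAut.mul_apply, MulAut.mul_apply] at this
  -- the square
  have hsq : ∀ x, conjGL (g * Matrix.GeneralLinearGroup.map σ.toRingHom g)
      (fieldAut (σ * σ) x) = x := by
    intro x
    have h1 := hα (π x)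
    rw [hgσ, hgσ, hsemi] at h1
    have h3 := hπ.1 h1
    have h5 : conjGL (g * Matrix.GeneralLinearGroup.map σ.toRingHom g) (fieldAut (σ * σ) x) =
        conjGL g (conjGL (Matrix.GeneralLinearGroup.map σ.toRingHom g) (fieldAut σ (fieldAut σ x))) := by
      rw [map_mul, map_mul]; rfl
    rw [h5]
    exact h3
  obtain ⟨c, hc, hgc⟩ : ∃ c : F, c ≠ 0 ∧
      (g * Matrix.GeneralLinearGroup.map σ.toRingHom g).1 = c • (1 : Matrix (Fin 2) (Fin 2) F) := by
    apply exists_scalar
    · have := hsq (up 1)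
      rwa [fieldAut_up, map_one] at this
    · have := hsq (lo 1)
      rwa [fieldAut_lo, map_one] at this
  have hσ2 : ∀ a, σ (σ a) = a := by
    intro a
    have := hsq (up a)
    rw [conjGL_scalar hgc, fieldAut_up] at this
    exact up_inj this
  have hσ1 : σ ≠ 1 := by
    rintro rfl
    apply hno
    refine ⟨g, fun x => ?_⟩
    rw [hgσ, map_one, MulAut.one_apply]
  have hσne : ∃ a, σ a ≠ a := by
    by_contra hcon
    push Not at hcon
    exact hσ1 (RingEquiv.ext hcon)
  have hmap : (Matrix.GeneralLinearGroup.map σ.toRingHom g).1 = g.1.map σ := rfl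
  have hgc' : g.1 * g.1.map σ = c • (1 : Matrix (Fin 2) (Fin 2) F) := by
    rw [← hmap, ← Units.val_mul, hgc]
  -- `c` is fixed by `σ`
  have hgc2 : g.1.map σ * g.1 = σ c • (1 : Matrix (Fin 2) (Fin 2) F) := by
    have h1 := congrArg (fun M : Matrix (Fin 2) (Fin 2) F => σ.toRingHom.mapMatrix M) hgc'
    simp only [map_mul] at h1
    have h3 : σ.toRingHom.mapMatrix (g.1.map σ) = g.1 := by
      ext i j
      exact hσ2 _
    have h4 : σ.toRingHom.mapMatrix (c • (1 : Matrix (Fin 2) (Fin 2) F)) =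
        σ c • (1 : Matrix (Fin 2) (Fin 2) F) := by
      ext i j
      change σ (c * (1 : Matrix (Fin 2) (Fin 2) F) i j) = σ c * (1 : Matrix (Fin 2) (Fin 2) F) i j
      rw [map_mul]
      congr 1
      by_cases hij : i = j
      · rw [hij, Matrix.one_apply_eq, map_one]
      · rw [Matrix.one_apply_ne hij, map_zero]
    rw [h3, h4] at h1
    exact h1
  have hcσ : σ c = c := by
    have h1 : g.1.map σ * (g.1 * g.1.map σ) = c • g.1.map σ := by
      rw [hgc', Matrix.mul_smul, Matrix.mul_one]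
    rw [← Matrix.mul_assoc, hgc2, Matrix.smul_mul, Matrix.one_mul] at h1
    by_contra hne
    have h3 : (σ c - c) • g.1.map σ = 0 := by rw [sub_smul, h1, sub_self]
    have h4 : g.1.map σ = 0 := (smul_eq_zero.1 h3).resolve_left (sub_ne_zero.2 hne)
    rw [h4, Matrix.mul_zero] at hgc'
    have := congrFun (congrFun hgc' 0) 0
    simp at this
    exact hc this.symm
  have hσid : σ.toRingHom ≠ RingHom.id F := by
    intro h
    obtain ⟨a, ha⟩ := hσne
    exact ha (DFunLike.congr_fun h a)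
  obtain ⟨μ, hμ⟩ := Cfsg.Agent.ClassicalGeometry.InvolutiveNorm.exists_mul_sigma_eq
    (σ := σ.toRingHom) hσid hσ2 (a := c⁻¹) (by
      change σ c⁻¹ = c⁻¹
      rw [map_inv₀, hcσ])
  have hμ' : μ * σ μ = c⁻¹ := hμ
  have hμ0 : μ ≠ 0 := by
    rintro rfl
    rw [zero_mul] at hμ'
    exact inv_ne_zero hc hμ'.symm
  have hA : (μ • g.1) * (μ • g.1).map σ = 1 := by
    have h1 : (μ • g.1).map σ = σ μ • g.1.map σ := by
      ext i j
      change σ (μ * g.1 i j) = σ μ * σ (g.1 i j)
      rw [map_mul]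
    rw [h1, Matrix.smul_mul, Matrix.mul_smul, hgc', smul_smul, smul_smul, hμ',
      inv_mul_cancel₀ hc, one_smul]
  obtain ⟨B, hBu, hB⟩ := hilbert σ hσ2 hσne (μ • g.1) hA
  obtain ⟨h, rfl⟩ := hBu
  obtain ⟨K, hK, hcard⟩ := exists_fixed σ hσ2 hσne
  -- `α` in the new coordinates
  have hact : ∀ x, α (π (conjGL h x)) = π (conjGL h (fieldAut σ x)) := by
    intro x
    rw [hgσ, hsemi]
    have h1 : conjGL g (conjGL (Matrix.GeneralLinearGroup.map σ.toRingHom h) (fieldAut σ x)) =
        conjGL (g * Matrix.GeneralLinearGroup.map σ.toRingHom h) (fieldAut σ x) := by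
      rw [map_mul]; rfl
    rw [h1]
    congr 1
    apply conjGL_smul (c := μ⁻¹)
    have h3 : (Matrix.GeneralLinearGroup.map σ.toRingHom h).1 = h.1.map σ := rfl
    have h5 : μ⁻¹ • h.1 = μ⁻¹ • (μ • g.1 * h.1.map σ) := by rw [hB]
    rw [Units.val_mul, h3, h5, Matrix.smul_mul, smul_smul, inv_mul_cancel₀ hμ0, one_smul]
  refine ⟨K, (π.comp (conjGL h).toMonoidHom).comp (Matrix.SpecialLinearGroup.map K.subtype),
    hcard, ?_, ?_⟩
  · intro x y hxy
    have h1 : Matrix.SpecialLinearGroup.map K.subtype x = Matrix.SpecialLinearGroup.map K.subtype y :=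
      (conjGL h).injective (hπ.1 hxy)
    refine Matrix.SpecialLinearGroup.ext _ _ fun i j => ?_
    have h2 := congrArg (fun z : Matrix.SpecialLinearGroup (Fin 2) F => z.1 i j) h1
    exact Subtype.ext h2
  · intro y
    constructor
    · intro hy
      obtain ⟨x₀, rfl⟩ := hπ.2 y
      obtain ⟨x, rfl⟩ := (conjGL h).surjective x₀
      have h1 : fieldAut σ x = x := by
        rw [hact] at hy
        exact (conjGL h).injective (hπ.1 hy)
      have h2 : ∀ i j, x.1 i j ∈ K := by
        intro i j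
        rw [hK]
        exact congrArg (fun z : Matrix.SpecialLinearGroup (Fin 2) F => z.1 i j) h1
      let M : Matrix (Fin 2) (Fin 2) K := fun i j => ⟨x.1 i j, h2 i j⟩
      have hM : K.subtype.mapMatrix M = x.1 := by
        ext i j; rfl
      have hdet : M.det = 1 := by
        have h3 : K.subtype M.det = 1 := by
          rw [RingHom.map_det, hM]
          exact x.2
        exact Subtype.ext h3
      refine ⟨⟨M, hdet⟩, ?_⟩
      show π (conjGL h (Matrix.SpecialLinearGroup.map K.subtype ⟨M, hdet⟩)) = π (conjGL h x)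
      congr 2
    · rintro ⟨x, rfl⟩
      show α (π (conjGL h (Matrix.SpecialLinearGroup.map K.subtype x))) =
        π (conjGL h (Matrix.SpecialLinearGroup.map K.subtype x))
      rw [hact]
      congr 2
      refine Matrix.SpecialLinearGroup.ext _ _ fun i j => ?_
      exact (hK _).1 (x.1 i j).2

end chartwo

end Cfsg.Agent.OddCyclic.PumpPsl
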