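import Mathlib
import Cfsg.Agent.OddCyclic.CompUnique
import Cfsg.Agent.OddCyclic.PumpCover
import Cfsg.Agent.OddCyclic.PumpPsl
import Cfsg.Agent.OddCyclic.PumpJOne
import Cfsg.Agent.ThreePrime.AutQuot
import Cfsg.Agent.ThreePrime.SzDataExists
import Cfsg.Agent.SignalizersComponents.BalEndSz
import Cfsg.Agent.Schreier.Basic
import Cfsg.Agent.TwoFusion.SLTwoFacts

/-!
# The pump lemma of the component case of S0342

`pump`: if every quasisimple proper subgroup `J` of a group `G` with cyclic odd Sylow subgroups has `J/Z(J)` isomorphic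
to `PSL(2,p)`, `PSL(2,2^f)`, `Sz(q)` or locally `J₁`, and `K` is not isomorphic to `PSL(2,2^f)`, then `Pump K`: an
involution `t` which normalises a quasisimple `J ≥ K`, `J ≠ G`, and has `K` as a component of `C_J(t)`, centralises `J`.
-/

set_option autoImplicit false

namespace Cfsg.Agent.OddCyclic.PumpMain

open Subgroup Cfsg.Agent.OddCyclic.T1Defs
open Cfsg.Agent.OddCyclic.CompBasic Cfsg.Agent.OddCyclic.CompStandard
open scoped commutatorElement

/-- `K ≅ PSL(2, 2^f)`, `f ≥ 2` -/
def IsL2Two (K : Type*) [Group K] : Prop :=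
  ∃ (F : Type) (_ : Field F) (_ : Fintype F) (f : ℕ), 2 ≤ f ∧ Fintype.card F = 2 ^ f ∧
    Nonempty (K ≃* Matrix.ProjectiveSpecialLinearGroup (Fin 2) F)

/-- The list of simple groups with cyclic odd Sylow subgroups. -/
def KZero (K : Type*) [Group K] : Prop :=
  (∃ (F : Type) (_ : Field F) (_ : Fintype F), (Fintype.card F).Prime ∧ 5 ≤ Fintype.card F ∧
    Nonempty (K ≃* Matrix.ProjectiveSpecialLinearGroup (Fin 2) F)) ∨
  (∃ (F : Type) (_ : Field F) (_ : Fintype F) (f : ℕ), 2 ≤ f ∧ Fintype.card F = 2 ^ f ∧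
    Nonempty (K ≃* Matrix.ProjectiveSpecialLinearGroup (Fin 2) F)) ∨
  Cfsg.Lie.IsoSuzuki K ∨ (Cfsg.Agent.SporRec.J1.Defs.Local K ∧ ∃ k : K, orderOf k = 2)

/-- `H` is a perfect group of fixed points of `α` -/
structure PF {S : Type*} [Group S] (α : MulAut S) (H : Subgroup S) : Prop where
  fix : ∀ x ∈ H, α x = x
  perf : ⁅H, H⁆ = H

/-- perfect subgroups of fixed points of involutory automorphisms are trivial -/
def Triv (S : Type*) [Group S] : Prop :=
  ∀ α : MulAut S, α ≠ 1 → (∀ z, α (α z) = z) → ∀ H : Subgroup S, PF α H → H = ⊥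

/-- perfect subgroups of fixed points of involutory automorphisms are trivial or contained in a simple
subgroup `PSL(2,2^f)` of fixed points -/
def Out (S : Type*) [Group S] : Prop :=
  ∀ α : MulAut S, α ≠ 1 → (∀ z, α (α z) = z) → (∀ H : Subgroup S, PF α H → H = ⊥) ∨
    ∃ A : Subgroup S, IsL2Two A ∧ (∀ x ∈ A, α x = x) ∧ ∀ H : Subgroup S, PF α H → H ≤ A

theorem isSimpleGroup_of_isL2Two {A : Type*} [Group A] (h : IsL2Two A) : IsSimpleGroup A := by
  obtain ⟨F, _, _, f, hf, hF, ⟨e⟩⟩ := h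
  have h3 : 3 < Fintype.card F := by
    rw [hF]
    calc 3 < 2 ^ 2 := by norm_num
      _ ≤ 2 ^ f := Nat.pow_le_pow_right (by norm_num) hf
  have := TwoFusion.SLTwoFacts.isSimpleGroup_psl h3
  exact e.isSimpleGroup

theorem charP_two {F : Type*} [Field F] [Fintype F] {f : ℕ} (hF : Fintype.card F = 2 ^ f) : CharP F 2 := by
  obtain ⟨p, hp⟩ := CharP.exists F
  have hpp : Fact p.Prime := ⟨CharP.char_is_prime F p⟩
  obtain ⟨n, hn, h⟩ := FiniteField.card F p
  have h1 : p ∣ 2 ^ f := by
    rw [← hF, h]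
    exact dvd_pow_self p n.ne_zero
  have h2 : p = 2 := (Nat.prime_dvd_prime_iff_eq hpp.out Nat.prime_two).mp (hpp.out.dvd_of_dvd_pow h1)
  rw [← h2]
  exact hp

theorem triv_of_prime {S : Type*} [Group S] {F : Type*} [Field F] [Fintype F] (hF : (Fintype.card F).Prime)
    (e : S ≃* Matrix.ProjectiveSpecialLinearGroup (Fin 2) F) : Triv S := by
  intro α hα _ H hH
  let π : Matrix.SpecialLinearGroup (Fin 2) F →* S :=
    e.symm.toMonoidHom.comp (QuotientGroup.mk' (Subgroup.center _))
  have hπ : Function.Surjective π := e.symm.surjective.comp (QuotientGroup.mk'_surjective _)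
  have hk : π.ker ≤ Subgroup.center (Matrix.SpecialLinearGroup (Fin 2) F) := by
    intro x hx
    rw [MonoidHom.mem_ker] at hx
    have h1 : (QuotientGroup.mk' (Subgroup.center (Matrix.SpecialLinearGroup (Fin 2) F))) x = 1 := by
      apply e.symm.injective
      rw [map_one]
      exact hx
    rwa [← MonoidHom.mem_ker, QuotientGroup.ker_mk'] at h1
  obtain ⟨g, σ, hgσ⟩ := Cfsg.Agent.Lib.AutSL2.exists_gl_ringEquiv π hπ hk α
  refine PumpPsl.eq_bot_of_gl hπ hk hα (g := g) ?_ hH.fix hH.perf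
  intro x
  rw [hgσ, PumpPsl.ringEquiv_eq_one_of_prime hF σ]
  congr 2

/-- an automorphism of order 2 of `SL(2,2^f)` -/
theorem out_of_two {S : Type*} [Group S] {F : Type} [Field F] [Fintype F] {f : ℕ} 
    (hF : Fintype.card F = 2 ^ f)
    (e : S ≃* Matrix.ProjectiveSpecialLinearGroup (Fin 2) F) : Out S ∧ (Fintype.card F = 4 → Triv S) := by
  have hchar := charP_two hF
  obtain ⟨e'⟩ := WeakTI.PslTwo.nonempty_equiv (F := F)
  let π : Matrix.SpecialLinearGroup (Fin 2) F →* S := (e'.trans e.symm).toMonoidHom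
  have hπ : Function.Bijective π := (e'.trans e.symm).bijective
  have hk : π.ker ≤ Subgroup.center (Matrix.SpecialLinearGroup (Fin 2) F) := by
    rw [(MonoidHom.ker_eq_bot_iff π).mpr hπ.1]
    exact bot_le
  have key : ∀ α : MulAut S, α ≠ 1 → (∀ z, α (α z) = z) → (∀ H : Subgroup S, PF α H → H = ⊥) ∨
    (4 < Fintype.card F ∧
      ∃ A : Subgroup S, IsL2Two A ∧ (∀ x ∈ A, α x = x) ∧ ∀ H : Subgroup S, PF α H → H ≤ A) := by
    intro α hα hα2
    by_cases hg : ∃ g : Matrix.GeneralLinearGroup (Fin 2) F,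
        ∀ x, α (π x) = π (Cfsg.Agent.Lib.SL2Mat.conjGL g x)
    · obtain ⟨g, hg⟩ := hg
      left
      intro H hH
      exact PumpPsl.eq_bot_of_gl hπ.2 hk hα hg hH.fix hH.perf
    · obtain ⟨K, φ, hK, hφ, hfix⟩ := PumpPsl.exists_fix hπ hα2 hg
      have hKf : Finite K := inferInstance
      let _ := Fintype.ofFinite K
      rw [Nat.card_eq_fintype_card, Nat.card_eq_fintype_card] at hK
      obtain ⟨m, hm, hKm⟩ := (Nat.dvd_prime_pow Nat.prime_two).mp
        (show Fintype.card K ∣ 2 ^ f by rw [← hF, hK]; exact dvd_pow_self _ (by norm_num))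
      have hK1 : 1 < Fintype.card K := Fintype.one_lt_card
      rcases Nat.lt_or_ge 1 m with h | h
      · right
        have h4 : 4 ≤ Fintype.card K := by
          rw [hKm]
          calc 4 = 2 ^ 2 := by norm_num
            _ ≤ 2 ^ m := Nat.pow_le_pow_right (by norm_num) h
        refine ⟨by rw [hK]; nlinarith, φ.range, ?_, fun x hx => (hfix x).mpr hx, ?_⟩
        · have hcharK := charP_two hKm
          obtain ⟨e2⟩ := WeakTI.PslTwo.nonempty_equiv (F := K)
          exact ⟨K, inferInstance, inferInstance, m, h, hKm, ⟨(MonoidHom.ofInjective hφ).symm.trans e2⟩⟩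
        · intro H hH x hx
          exact (hfix x).mp (hH.fix x hx)
      · left
        intro H hH
        have hK2 : Fintype.card K = 2 := by
          have : m = 0 ∨ m = 1 := by omega
          rcases this with rfl | rfl
          · rw [hKm] at hK1
            norm_num at hK1
          · simpa using hKm
        have hle : H ≤ φ.range := fun x hx => (hfix x).mp (hH.fix x hx)
        have h6 : Nat.card φ.range = 6 := by
          rw [← Nat.card_congr (MonoidHom.ofInjective hφ).toEquiv, ClassicalGeometry.PSL2Basic.card_SL2, hK2]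
          norm_num
        have h7 : Nat.card H ∣ 6 := by
          rw [← h6]
          exact Subgroup.card_dvd_of_le hle
        have hsq : Squarefree (Nat.card H) := by
          have : Squarefree 6 := by decide +kernel
          exact this.squarefree_of_dvd h7
        have hfin : Finite H := Nat.finite_of_card_ne_zero (fun h0 => by rw [h0] at h7; norm_num at h7)
        have := IsZGroup.of_squarefree hsq
        exact Cfsg.Agent.Schreier.Basic.eq_bot_of_perfect_of_solvable hH.perf inferInstance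
  refine ⟨fun α hα hα2 => ?_, fun h4 α hα hα2 => ?_⟩
  · rcases key α hα hα2 with h | ⟨_, h⟩
    · exact Or.inl h
    · exact Or.inr h
  · rcases key α hα hα2 with h | ⟨h, _⟩
    · exact h
    · omega

theorem center_eq_bot_of_two {J : Type*} [Group J] [Finite J] (hG : OddCyc J) (hJ : Group.IsPerfect J)
    {F : Type*} [Field F] [Fintype F] {f : ℕ} (hF : Fintype.card F = 2 ^ f) (h4 : 4 < Fintype.card F)
    (e : J ⧸ center J ≃* Matrix.ProjectiveSpecialLinearGroup (Fin 2) F) : center J = ⊥ := by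
  have hchar := charP_two hF
  have : Fact (Nat.Prime 2) := ⟨Nat.prime_two⟩
  obtain ⟨e'⟩ := WeakTI.PslTwo.nonempty_equiv (F := F)
  let π : J →* Matrix.SpecialLinearGroup (Fin 2) F :=
    (e.trans e'.symm).toMonoidHom.comp (QuotientGroup.mk' (center J))
  have hπ : Function.Surjective π := (e.trans e'.symm).surjective.comp (QuotientGroup.mk'_surjective _)
  have hk : π.ker ≤ center J := by
    intro x hx
    rw [MonoidHom.mem_ker] at hx
    have h1 : (QuotientGroup.mk' (center J)) x = 1 := by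
      apply (e.trans e'.symm).injective
      rw [map_one]
      exact hx
    rwa [← MonoidHom.mem_ker, QuotientGroup.ker_mk'] at h1
  obtain ⟨P, hP⟩ := Sylow.mapSurjective_surjective hπ 2 (Cfsg.Agent.Lib.AutSL2.sylU F 2)
  refine PumpCover.center_eq_bot_of_comm hG hJ P ?_
  have hmem : ∀ x ∈ (P : Subgroup J), π x ∈ Cfsg.Agent.Lib.AutSL2.upG F := by
    intro x hx
    have h1 : π x ∈ ((P.mapSurjective hπ : Sylow 2 _) : Subgroup (Matrix.SpecialLinearGroup (Fin 2) F)) := by
      rw [Sylow.coe_mapSurjective]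
      exact ⟨x, hx, rfl⟩
    rw [hP] at h1
    exact h1
  intro a ha b hb
  exact PumpCover.comm_of_up (by rw [Nat.card_eq_fintype_card]; exact h4) π hπ hk (hmem a ha) (hmem b hb)

theorem triv_of_suzuki {S : Type*} [Group S] [Finite S] [IsSimpleGroup S] (h : Cfsg.Lie.IsoSuzuki S) : Triv S := by
  intro α hα hα2 H hH
  have : Fact (Nat.Prime 2) := ⟨Nat.prime_two⟩
  obtain ⟨F, _, _, m, hm, hF, ⟨R⟩⟩ := ThreePrime.SzRel.exists_rel h
  obtain ⟨j, hj⟩ := R.inner hm hF α ⟨1, by
    ext x
    rw [pow_one, pow_two]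
    exact hα2 x⟩
  have hc : center S = ⊥ := by
    rcases (inferInstance : (center S).Normal).eq_bot_or_eq_top with h1 | h1
    · exact h1
    · exfalso
      apply hα
      rw [hj]
      ext x
      have h2 : j ∈ center S := by rw [h1]; exact mem_top j
      have h3 := mem_center_iff.mp h2 x
      rw [MulAut.conj_apply, ← h3, mul_inv_cancel_right]
      rfl
  have hjj : j * j = 1 := by
    have h1 : j * j ∈ center S := by
      rw [mem_center_iff]
      intro x
      have h2 := hα2 x
      rw [hj, MulAut.conj_apply, MulAut.conj_apply] at h2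
      calc x * (j * j) = (j * (j * x * j⁻¹) * j⁻¹) * (j * j) := by rw [h2]
        _ = j * j * x := by group
    rwa [hc, mem_bot] at h1
  have hj1 : j ≠ 1 := by
    rintro rfl
    apply hα
    rw [hj, map_one]
  have hjo : orderOf j = 2 := orderOf_eq_prime (by rw [pow_two, hjj]) hj1
  have hp := SignalizersComponents.BalEndSz.isPGroup_centralizer_suzuki h hjo
  have hle : H ≤ centralizer ({j} : Set S) := by
    intro x hx
    rw [mem_centralizer_singleton_iff]
    have h2 := hH.fix x hx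
    rw [hj, MulAut.conj_apply] at h2
    exact (mul_inv_eq_iff_eq_mul.mp h2).symm
  have hpH : IsPGroup 2 H := hp.of_injective (Subgroup.inclusion hle) (Subgroup.inclusion_injective hle)
  have := hpH.isNilpotent
  exact Cfsg.Agent.Schreier.Basic.eq_bot_of_perfect_of_solvable hH.perf inferInstance

theorem out_of_local {S : Type*} [Group S] [Finite S] (h : SporRec.J1.Defs.Local S) {k : S}
    (hk : orderOf k = 2) : Out S := by
  intro α hα hα2
  right
  obtain ⟨A, ⟨e⟩, h1, h2⟩ := PumpJOne.exists_fix_local h hk hα hα2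
  obtain ⟨F, i1, i2, f, hf, hF, ⟨e2⟩⟩ := PumpJOne.nonempty_psl_four
  exact ⟨A, ⟨F, i1, i2, f, hf, hF, ⟨e.trans e2⟩⟩, h1, fun H hH => h2 H hH.fix hH.perf⟩

theorem center_eq_bot_of_local {J : Type*} [Group J] [Finite J] (hG : OddCyc J) (hJ : Group.IsPerfect J)
    (h : SporRec.J1.Defs.Local (J ⧸ center J)) {k : J ⧸ center J}
    (hk : orderOf k = 2) : center J = ⊥ := by
  have : Fact (Nat.Prime 2) := ⟨Nat.prime_two⟩
  have hπ : Function.Surjective (QuotientGroup.mk' (center J)) := QuotientGroup.mk'_surjective _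
  obtain ⟨E, hE⟩ := PumpJOne.comm_of_local h hk (QuotientGroup.mk' (center J)) hπ
    (by rw [QuotientGroup.ker_mk'])
  obtain ⟨P, hP⟩ := Sylow.mapSurjective_surjective hπ 2 E
  refine PumpCover.center_eq_bot_of_comm hG hJ P ?_
  have hmem : ∀ x ∈ (P : Subgroup J), (QuotientGroup.mk' (center J)) x ∈ (E : Subgroup (J ⧸ center J)) := by
    intro x hx
    have h1 : (QuotientGroup.mk' (center J)) x ∈ ((P.mapSurjective hπ : Sylow 2 _) : Subgroup (J ⧸ center J)) := by
      rw [Sylow.coe_mapSurjective]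
      exact ⟨x, hx, rfl⟩
    rw [hP] at h1
    exact h1
  intro a ha b hb
  exact hE a b (hmem a ha) (hmem b hb)

/-- the two outcomes for a quasisimple group -/
theorem triv_or_out {J : Type*} [Group J] [Finite J] (hG : OddCyc J) (hJ : IsQuasisimple J)
    (h : KZero (J ⧸ center J)) : Triv (J ⧸ center J) ∨ (center J = ⊥ ∧ Out (J ⧸ center J)) := by
  have hs : IsSimpleGroup (J ⧸ center J) := hJ.2
  rcases h with ⟨F, _, _, hF, -, ⟨e⟩⟩ | ⟨F, _, _, f, hf, hF, ⟨e⟩⟩ | h | ⟨h, k, hk⟩
  · exact Or.inl (triv_of_prime hF e)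
  · have h4 : 4 ≤ Fintype.card F := by
      rw [hF]
      calc 4 = 2 ^ 2 := by norm_num
        _ ≤ 2 ^ f := Nat.pow_le_pow_right (by norm_num) hf
    rcases h4.eq_or_lt with h5 | h5
    · exact Or.inl ((out_of_two hF e).2 h5.symm)
    · exact Or.inr ⟨center_eq_bot_of_two hG hJ.1 hF h5 e, (out_of_two hF e).1⟩
  · exact Or.inl (triv_of_suzuki h)
  · exact Or.inr ⟨center_eq_bot_of_local hG hJ.1 h hk, out_of_local h hk⟩

universe u

variable {G : Type u} [Group G] [Finite G]

/-- The pump lemma. -/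
theorem pump (hG : OddCyc G)
    (hk : ∀ J : Subgroup G, J ≠ ⊤ → IsQuasisimple J → KZero (J ⧸ center J)) {K : Subgroup G}
    (hne : ¬ IsL2Two K) : Pump K := by
  intro t J ht hJt hJ htJ hKJ hcmp htc
  have hJc : OddCyc J := oddCyc_subgroup hG J
  have hK : IsQuasisimple K := hcmp.quasi
  have hKp : ⁅K, K⁆ = K := by
    have h1 : ⁅(⊤ : Subgroup K), ⊤⁆ = ⊤ := hK.1.commutator_eq_top
    have h2 := congrArg (Subgroup.map K.subtype) h1
    rwa [Subgroup.map_commutator, ← MonoidHom.range_eq_map, Subgroup.range_subtype] at h2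
  have hKnb : K ≠ ⊥ := by
    rintro rfl
    have hs : IsSimpleGroup ((⊥ : Subgroup G) ⧸ center (⊥ : Subgroup G)) := hK.2
    obtain ⟨a, ha⟩ := exists_ne (1 : (⊥ : Subgroup G) ⧸ center (⊥ : Subgroup G))
    exact ha (Subsingleton.elim _ _)
  -- the automorphism
  let β : MulAut J := J.normalizerMonoidHom ⟨t, htJ⟩
  have hβ : ∀ x : J, ((β x : J) : G) = t * x * t⁻¹ := fun x => rfl
  have htt : t * t = 1 := by
    rw [← pow_two, ← ht, pow_orderOf_eq_one]
  have hβ2 : ∀ x, β (β x) = x := by
    intro x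
    apply Subtype.ext
    rw [hβ, hβ]
    calc t * (t * x * t⁻¹) * t⁻¹ = (t * t) * x * (t * t)⁻¹ := by group
      _ = x := by rw [htt]; simp
  have hβ1 : β ≠ 1 := by
    intro h1
    apply htc
    rw [mem_centralizer_iff]
    intro x hx
    have h2 : ((β ⟨x, hx⟩ : J) : G) = x := by rw [h1]; rfl
    rw [hβ] at h2
    exact (mul_inv_eq_iff_eq_mul.mp h2).symm
  set α : MulAut (J ⧸ center J) := ThreePrime.AutQuot.autQuot J β with hα
  have hα1 : α ≠ 1 := fun h1 => hβ1 (ThreePrime.AutQuot.eq_one_of_autQuot_eq_one hJ.1 h1)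
  have hα2 : ∀ z, α (α z) = z := by
    intro z
    obtain ⟨x, rfl⟩ := QuotientGroup.mk_surjective z
    rw [hα, ThreePrime.AutQuot.autQuot_mk, ThreePrime.AutQuot.autQuot_mk, hβ2]
  -- the image of `K`
  let H : Subgroup (J ⧸ center J) := (K.subgroupOf J).map (QuotientGroup.mk' (center J))
  have hKJp : ⁅K.subgroupOf J, K.subgroupOf J⁆ = K.subgroupOf J := by
    apply Subgroup.map_injective J.subtype_injective
    rw [Subgroup.map_commutator, Subgroup.map_subgroupOf_eq_of_le hKJ, hKp]
  have hKt : ∀ x ∈ K, t * x = x * t := by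
    intro x hx
    have h1 := (hcmp.le hx).2
    exact (mem_centralizer_singleton_iff.mp h1).symm
  have hH : PF α H := by
    refine ⟨?_, Schreier.Basic.map_perfect _ hKJp⟩
    rintro _ ⟨x, hx, rfl⟩
    show α (QuotientGroup.mk x) = QuotientGroup.mk x
    rw [hα, ThreePrime.AutQuot.autQuot_mk]
    congr 1
    apply Subtype.ext
    rw [hβ, hKt x hx, mul_inv_cancel_right]
  have hHne : H ≠ ⊥ := by
    intro h1
    apply hKnb
    have h2 : K.subgroupOf J ≤ center J := by
      intro x hx
      have h3 : (QuotientGroup.mk' (center J)) x ∈ H := ⟨x, hx, rfl⟩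
      rw [h1, mem_bot, ← MonoidHom.mem_ker, QuotientGroup.ker_mk'] at h3
      exact h3
    have h3 : K.subgroupOf J = ⊥ := by
      rw [← hKJp, Subgroup.commutator_eq_bot_iff_le_centralizer]
      intro x hx
      rw [mem_centralizer_iff]
      intro y hy
      exact mem_center_iff.mp (h2 hx) y
    rw [Subgroup.subgroupOf_eq_bot] at h3
    exact disjoint_self.mp (h3.mono_right hKJ)
  rcases triv_or_out hJc hJ (hk J hJt hJ) with h | ⟨hc, h⟩
  · exact hHne (h α hα1 hα2 H hH)
  · rcases h α hα1 hα2 with h | ⟨A, hA, hAf, hAH⟩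
    · exact hHne (h H hH)
    · have hA' := hAH H hH
      -- pull back
      let π : J →* J ⧸ center J := QuotientGroup.mk' (center J)
      have hπ : Function.Bijective π := by
        refine ⟨?_, QuotientGroup.mk'_surjective _⟩
        rw [← MonoidHom.ker_eq_bot_iff, QuotientGroup.ker_mk', hc]
      let B : Subgroup G := (A.comap π).map J.subtype
      have eB : B ≃* A := by
        have e1 : (A.comap π).map π = A := Subgroup.map_comap_eq_self_of_surjective hπ.2 A
        exact ((A.comap π).equivMapOfInjective J.subtype J.subtype_injective).symm.trans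
          (((A.comap π).equivMapOfInjective π hπ.1).trans (MulEquiv.subgroupCongr e1))
      have hBL : IsL2Two B := by
        obtain ⟨F, i1, i2, f, hf, hF, ⟨e⟩⟩ := hA
        exact ⟨F, i1, i2, f, hf, hF, ⟨eB.trans e⟩⟩
      have hBs : IsSimpleGroup B := isSimpleGroup_of_isL2Two hBL
      have hKB : K ≤ B := by
        intro x hx
        exact ⟨⟨x, hKJ hx⟩, hA' ⟨⟨x, hKJ hx⟩, hx, rfl⟩, rfl⟩
      have hBt : B ≤ J ⊓ centralizer {t} := by
        rintro _ ⟨x, hx, rfl⟩
        refine ⟨x.2, ?_⟩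
        have h1 : α (π x) = π x := hAf _ hx
        have h2 : π (β x) = π x := h1
        have h3 : t * x * t⁻¹ = x := by
          rw [← hβ x, hπ.1 h2]
        exact mem_centralizer_singleton_iff.mpr (mul_inv_eq_iff_eq_mul.mp h3).symm
      have hcB := (hcmp.mono hKB hBt).comp.1
      rcases hcB.eq_bot_or_top_of_isSimpleGroup hBs with h5 | h5
      · rw [Subgroup.subgroupOf_eq_bot] at h5
        exact hKnb (disjoint_self.mp (h5.mono_right hKB))
      · rw [Subgroup.subgroupOf_eq_top] at h5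
        have h6 : K = B := le_antisymm hKB h5
        exact hne (by rw [h6]; exact hBL)


/-! ### Groups which are not isomorphic to `PSL(2,2^f)`: hypothesis `hne` of `pump` -/

/-- the involutions of `PSL(2,2^f)` have elementary abelian centralisers: a group with commuting elements of order 2
and order not 2 is not `PSL(2,2^f)` -/
theorem not_isL2Two_of_comm {K : Type*} [Group K] {x y : K} (hx : x * x = 1) (hx1 : x ≠ 1) (hxy : x * y = y * x)
    (hy : y * y ≠ 1) : ¬ IsL2Two K := by
  rintro ⟨F, _, _, f, hf, hF, ⟨e⟩⟩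
  have := charP_two hF
  exact hy (WeakTI.PslTwo.cent e hx hx1 hxy)

/-- `PSL(2,2^f)` has trivial centre -/
theorem not_isL2Two_of_center {K : Type*} [Group K] {z : K} (hz : z ∈ center K) (hz1 : z ≠ 1) : ¬ IsL2Two K := by
  rintro ⟨F, _, _, f, hf, hF, ⟨e⟩⟩
  have := charP_two hF
  obtain ⟨e'⟩ := WeakTI.PslTwo.nonempty_equiv (F := F)
  have h1 : (e.trans e'.symm) z ∈ center (Matrix.SpecialLinearGroup (Fin 2) F) := by
    rw [mem_center_iff]
    intro g
    obtain ⟨k, rfl⟩ := (e.trans e'.symm).surjective g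
    rw [← map_mul, ← map_mul, mem_center_iff.mp hz k]
  have h2 : (e.trans e'.symm) z ∈ (⊥ : Subgroup (Matrix.SpecialLinearGroup (Fin 2) F)) :=
    WeakTI.PslTwo.center_eq_bot (F := F) ▸ h1
  exact hz1 ((e.trans e'.symm).injective ((mem_bot.mp h2).trans (map_one _).symm))

/-- the order of `PSL(2,2^f)` -/
theorem card_of_isL2Two {K : Type*} [Group K] (h : IsL2Two K) :
    ∃ f : ℕ, 2 ≤ f ∧ Nat.card K = 2 ^ f * ((2 ^ f) ^ 2 - 1) := by
  obtain ⟨F, _, _, f, hf, hF, ⟨e⟩⟩ := h
  refine ⟨f, hf, ?_⟩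
  rw [Nat.card_congr e.toEquiv, ClassicalGeometry.PSL2Basic.card_PSL2_even F
    (by rw [hF]; exact (Nat.even_pow.mpr ⟨even_two, by omega⟩)), hF]

theorem three_dvd_of_isL2Two {K : Type*} [Group K] (h : IsL2Two K) : 3 ∣ Nat.card K := by
  obtain ⟨f, hf, h1⟩ := card_of_isL2Two h
  rw [h1]
  apply Dvd.dvd.mul_left
  have h2 : (2 ^ f) ^ 2 = 4 ^ f := by rw [← pow_mul, mul_comm, pow_mul]; norm_num
  rw [h2]
  have := Nat.sub_dvd_pow_sub_pow 4 1 f
  simpa using this

/-- the Suzuki groups are not isomorphic to `PSL(2,2^f)` -/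
theorem not_isL2Two_of_suzuki {K : Type*} [Group K] [Finite K] (h : Cfsg.Lie.IsoSuzuki K) : ¬ IsL2Two K :=
  fun h1 => T1Socle.not_three_dvd h (three_dvd_of_isL2Two h1)

/-- groups with the local structure of `J₁` are not isomorphic to `PSL(2,2^f)` -/
theorem not_isL2Two_of_local {K : Type*} [Group K] (h : SporRec.J1.Defs.Local K) {k : K}
    (hk : orderOf k = 2) : ¬ IsL2Two K := by
  obtain ⟨kk, k1⟩ := JInner.sq_of_two hk
  obtain ⟨φ, D⟩ := SporRec.J1.CentFacts.exists_centData k hk (h.cent k hk)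
  obtain ⟨a, ha⟩ := SporRec.J1.CentFacts.A5_exists_three
  refine not_isL2Two_of_comm kk k1 (D.comm a) ?_
  intro h1
  have h2 : a * a = 1 := D.inj (by rw [map_mul, h1, map_one])
  have h3 : orderOf a ∣ 2 := orderOf_dvd_of_pow_eq_one (by rw [pow_two, h2])
  rw [ha] at h3
  norm_num at h3

/-- `PSL(2,p)`, `p ≥ 7`, is not isomorphic to `PSL(2,2^f)` -/
theorem not_isL2Two_of_prime {K : Type*} [Group K] {F : Type*} [Field F] [Fintype F]
    (hF : (Fintype.card F).Prime) (h7 : 7 ≤ Fintype.card F)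
    (e : K ≃* Matrix.ProjectiveSpecialLinearGroup (Fin 2) F) : ¬ IsL2Two K := by
  intro h
  obtain ⟨f, hf, hc⟩ := card_of_isL2Two h
  have hodd : Odd (Fintype.card F) := hF.odd_of_ne_two (by omega)
  have h1 := ClassicalGeometry.PSL2Basic.card_PSL2_odd F hodd
  rw [← Nat.card_congr e.toEquiv, hc] at h1
  have hq4 : 4 ≤ 2 ^ f := by
    calc 4 = 2 ^ 2 := by norm_num
      _ ≤ 2 ^ f := Nat.pow_le_pow_right (by norm_num) hf
  generalize hp : Fintype.card F = p at *
  have hpq : ¬ p ∣ 2 ^ f := fun h2 => by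
    have h3 := hF.dvd_of_dvd_pow h2
    have := Nat.le_of_dvd (by norm_num) h3
    omega
  generalize hq : 2 ^ f = q at *
  obtain ⟨m, rfl⟩ : ∃ m, q = m + 1 := ⟨q - 1, by omega⟩
  obtain ⟨r, rfl⟩ : ∃ r, p = r + 1 := ⟨p - 1, by omega⟩
  have e1 : (m + 1) ^ 2 - 1 = m * (m + 2) := by
    rw [Nat.sub_eq_iff_eq_add (Nat.one_le_pow _ _ (by omega))]
    ring
  have e2 : (r + 1) ^ 2 - 1 = r * (r + 2) := by
    rw [Nat.sub_eq_iff_eq_add (Nat.one_le_pow _ _ (by omega))]
    ring
  rw [e1, e2] at h1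
  have hdvd : r + 1 ∣ (m + 1) * (m * (m + 2)) * 2 := ⟨_, h1⟩
  have hle : r + 1 ≤ m + 2 := by
    rcases (Nat.Prime.dvd_mul hF).mp hdvd with h2 | h2
    · rcases (Nat.Prime.dvd_mul hF).mp h2 with h3 | h3
      · exact (hpq h3).elim
      · rcases (Nat.Prime.dvd_mul hF).mp h3 with h4 | h4
        · have := Nat.le_of_dvd (by omega) h4
          omega
        · exact Nat.le_of_dvd (by omega) h4
    · have := Nat.le_of_dvd (by norm_num) h2
      omega
  rcases Nat.lt_or_ge m r with h2 | h2
  · have h3 : r = m + 1 := by omega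
    subst h3
    have h4 : (m + 1) * (m + 2) * (2 * m) = (m + 1) * (m + 2) * (m + 3) := by
      linarith
    have h5 := Nat.eq_of_mul_eq_mul_left (by positivity) h4
    omega
  · have h3 : (r + 1) * (r * (r + 2)) ≤ (m + 1) * (m * (m + 2)) :=
      Nat.mul_le_mul (by omega) (Nat.mul_le_mul h2 (by omega))
    have h4 : 0 < (m + 1) * (m * (m + 2)) := by
      have : 0 < m := by omega
      positivity
    omega

/-- a group with nontrivial centre (e.g. `SL(2,p)`) is not isomorphic to `PSL(2,2^f)` -/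
theorem not_isL2Two_of_center_ne {K : Type*} [Group K] (h : center K ≠ ⊥) : ¬ IsL2Two K := by
  obtain ⟨z, hz, hz1⟩ := (center K).bot_or_exists_ne_one.resolve_left h
  exact not_isL2Two_of_center hz hz1

/-- `SL(2,p)`, `p` odd, is not isomorphic to `PSL(2,2^f)` -/
theorem not_isL2Two_of_sl {K : Type*} [Group K] {F : Type*} [Field F] (hF : (2 : F) ≠ 0)
    (e : K ≃* Matrix.SpecialLinearGroup (Fin 2) F) : ¬ IsL2Two K := by
  refine not_isL2Two_of_center (z := e.symm (-1)) ?_ ?_
  · rw [mem_center_iff]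
    intro g
    apply e.injective
    rw [map_mul, map_mul, e.apply_symm_apply]
    exact mem_center_iff.mp (ClassicalGeometry.PSL2Basic.mem_center_SL2_iff.mpr (Or.inr rfl)) (e g)
  · intro h
    rw [MulEquiv.map_eq_one_iff] at h
    have h1 := congrArg (fun x : Matrix.SpecialLinearGroup (Fin 2) F => x.1 0 0) h
    simp at h1
    apply hF
    linear_combination -h1

end Cfsg.Agent.OddCyclic.PumpMain
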