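import Mathlib
import Cfsg.Agent.OddCyclic.PumpMain
import Cfsg.Agent.OddCyclic.CaseASinger
import Cfsg.Agent.SporRec.J1.Main
import Cfsg.Agent.SporadicB.J1.Main

/-!
# Facts on groups with the local structure of `J₁`

`card_of_local`: the order is 175560; `comm_odd`: commuting elements of odd prime orders `r < s` have `(r, s) = (3, 5)`;
`kz_of_kzero`: the list `KZero` of `PumpMain` implies the list `KZ` of `CaseASinger`.
-/

set_option autoImplicit false

namespace Cfsg.Agent.OddCyclic.JFacts

open Subgroup Cfsg.Agent.SporRec.J1.Defs Cfsg.Agent.OddCyclic.PumpMain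

variable {K : Type*} [Group K] [Finite K]

theorem isJ1_of_local (h : Local K) {k : K} (hk : orderOf k = 2) : Cfsg.IsJ1 K := by
  obtain ⟨φ⟩ := Cfsg.Agent.SporRec.J1.Main.iso_of_local h k hk
  have h1 := Cfsg.Agent.SporadicB.J1.Main.isJ1
  have := h1.1
  exact ⟨φ.isSimpleGroup, (Nat.card_congr φ.toEquiv).trans h1.2⟩

theorem card_of_local (h : Local K) {k : K} (hk : orderOf k = 2) : Nat.card K = 175560 :=
  (isJ1_of_local h hk).2

omit [Finite K] in
theorem mem_cent_dvd {x y : K} (hxy : x * y = y * x) : orderOf x ∣ Nat.card (centralizer ({y} : Set K)) := by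
  have hm : x ∈ centralizer ({y} : Set K) := mem_centralizer_singleton_iff.mpr hxy
  exact Subgroup.orderOf_dvd_natCard _ hm

/-- elements of order 7, 11, 19 -/
def Big (s : ℕ) : Prop := s = 7 ∨ s = 11 ∨ s = 19

theorem not_small (h : Local K) {x y : K} (hx : Big (orderOf x))
    (hy : orderOf y = 2 ∨ orderOf y = 3 ∨ orderOf y = 5) (hxy : x * y = y * x) : False := by
  have h1 := mem_cent_dvd hxy
  have h2 : Nat.card (centralizer ({y} : Set K)) ∣ 120 := by
    rcases hy with hy | hy | hy
    · rw [PumpJOne.card_cent h hy]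
    · rw [h.cent3 y hy]
      norm_num
    · rw [h.cent5 y hy]
      norm_num
  have h3 := h1.trans h2
  rcases hx with hx | hx | hx <;> rw [hx] at h3 <;> norm_num at h3

theorem cent_big (h : Local K) (hc : Nat.card K = 175560) {x : K} (hx : Big (orderOf x)) :
    Nat.card (centralizer ({x} : Set K)) ∣ 1463 := by
  have h1 : Nat.card (centralizer ({x} : Set K)) ∣ 120 * 1463 := by
    have := (centralizer ({x} : Set K)).card_subgroup_dvd_card
    rwa [hc] at this
  have hcop : ∀ p : ℕ, p.Prime → (p = 2 ∨ p = 3 ∨ p = 5) → ¬ p ∣ Nat.card (centralizer ({x} : Set K)) := by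
    intro p hp hp' hd
    have : Fact p.Prime := ⟨hp⟩
    obtain ⟨y, hy⟩ := exists_prime_orderOf_dvd_card' (G := centralizer ({x} : Set K)) p hd
    refine not_small h (y := (y : K)) hx ?_ (mem_centralizer_singleton_iff.mp y.2).symm
    rw [Subgroup.orderOf_coe, hy]
    exact hp'
  refine Nat.Coprime.dvd_of_dvd_mul_left ?_ h1
  have h2 : (120 : ℕ) = 2 ^ 3 * 3 * 5 := by norm_num
  rw [h2]
  refine Nat.Coprime.mul_right (Nat.Coprime.mul_right (Nat.Coprime.pow_right _ ?_) ?_) ?_
  · exact ((Nat.Prime.coprime_iff_not_dvd Nat.prime_two).mpr (hcop 2 Nat.prime_two (by tauto))).symm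
  · exact ((Nat.Prime.coprime_iff_not_dvd Nat.prime_three).mpr (hcop 3 Nat.prime_three (by tauto))).symm
  · exact ((Nat.Prime.coprime_iff_not_dvd Nat.prime_five).mpr (hcop 5 Nat.prime_five (by tauto))).symm

/-- the Sylow count for a cyclic Sylow subgroup `⟨x⟩` of prime order `s` -/
theorem count {s : ℕ} (hs : s.Prime) {x : K} (hx : orderOf x = s) (h2 : ¬ s * s ∣ Nat.card K) :
    ∃ e m, e ∣ s - 1 ∧ Nat.card (centralizer ({x} : Set K)) * e * m = Nat.card K ∧ m % s = 1 ∧
      m = (normalizer (zpowers x : Set K)).index := by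
  have hsf : Fact s.Prime := ⟨hs⟩
  have hzc : Nat.card (zpowers x) = s := by rw [Nat.card_zpowers, hx]
  have hp : IsPGroup s (zpowers x) := by
    rw [IsPGroup.iff_card]
    exact ⟨1, by rw [hzc, pow_one]⟩
  have hi : ¬ s ∣ (zpowers x).index := by
    intro hd
    apply h2
    rw [← (zpowers x).card_mul_index, hzc]
    exact Nat.mul_dvd_mul dvd_rfl hd
  let P : Sylow s K := hp.toSylow hi
  have hP : (P : Subgroup K) = zpowers x := rfl
  have h3 : Nat.card (Sylow s K) = (normalizer (zpowers x : Set K)).index := P.card_eq_index_normalizer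
  have h4 := card_sylow_modEq_one s K
  have hcen : centralizer ((zpowers x : Subgroup K) : Set K) = centralizer ({x} : Set K) := by
    rw [zpowers_eq_closure, centralizer_closure]
  -- `e = |N : C|`
  have hle : centralizer ((zpowers x : Subgroup K) : Set K) ≤ normalizer ((zpowers x : Subgroup K) : Set K) :=
    centralizer_le_normalizer _
  have key := card_dvd_of_injective _ (QuotientGroup.kerLift_injective (zpowers x).normalizerMonoidHom)
  rw [normalizerMonoidHom_ker, ← Subgroup.index, ← relIndex, IsCyclic.card_mulAut, hzc,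
    Nat.totient_prime hs] at key
  refine ⟨_, _, key, ?_, ?_, rfl⟩
  · have h6 := Subgroup.relIndex_mul_relIndex ⊥ (centralizer ((zpowers x : Subgroup K) : Set K))
      (normalizer ((zpowers x : Subgroup K) : Set K)) bot_le hle
    rw [relIndex_bot_left, relIndex_bot_left] at h6
    rw [← hcen, h6, Subgroup.card_mul_index]
  · rw [← h3]
    have h5 : Nat.card (Sylow s K) % s = 1 % s := h4
    rw [h5, Nat.mod_eq_of_lt hs.one_lt]

theorem arith_seven : ∀ c ∈ Nat.divisors 1463, 7 * 11 ∣ c ∨ 7 * 19 ∣ c → ∀ e ∈ Nat.divisors 6,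
    175560 / (c * e) % 7 = 1 → c = 1463 := by decide +kernel

theorem arith_eleven : ∀ c ∈ Nat.divisors 1463, 7 * 11 ∣ c ∨ 11 * 19 ∣ c → ∀ e ∈ Nat.divisors 10,
    175560 / (c * e) % 11 = 1 → c = 1463 ∧ 175560 / (c * e) = 12 := by decide +kernel

theorem arith_nineteen : ∀ c ∈ Nat.divisors 1463, 7 * 19 ∣ c ∨ 11 * 19 ∣ c → ∀ e ∈ Nat.divisors 18,
    175560 / (c * e) % 19 = 1 → 175560 % (c * e) = 0 → c = 1463 := by decide +kernel

theorem cent_full (h : Local K) (hc : Nat.card K = 175560) {x y : K} (hx : Big (orderOf x))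
    (hy : Big (orderOf y)) (hne : orderOf x ≠ orderOf y) (hxy : x * y = y * x) :
    Nat.card (centralizer ({x} : Set K)) = 1463 ∧
      (orderOf x = 11 → (normalizer (zpowers x : Set K)).index = 12) := by
  have h1 := cent_big h hc hx
  have hxc : orderOf x ∣ Nat.card (centralizer ({x} : Set K)) := mem_cent_dvd rfl
  have hyc : orderOf y ∣ Nat.card (centralizer ({x} : Set K)) := mem_cent_dvd hxy.symm
  have hm : Nat.card (centralizer ({x} : Set K)) ∈ Nat.divisors 1463 := Nat.mem_divisors.mpr ⟨h1, by norm_num⟩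
  have hprime : ∀ s, Big s → s.Prime := by
    rintro s (rfl | rfl | rfl) <;> norm_num
  have hcop : orderOf x * orderOf y ∣ Nat.card (centralizer ({x} : Set K)) :=
    Nat.Coprime.mul_dvd_of_dvd_of_dvd ((Nat.coprime_primes (hprime _ hx) (hprime _ hy)).mpr hne) hxc hyc
  obtain ⟨e, m, he, hprod, hmod, hidx⟩ := count (hprime _ hx) rfl (by
    rw [hc]
    rcases hx with hx | hx | hx <;> rw [hx] <;> norm_num)
  rw [hc] at hprod
  have hpos : 0 < Nat.card (centralizer ({x} : Set K)) * e := by
    rcases Nat.eq_zero_or_pos (Nat.card (centralizer ({x} : Set K)) * e) with h0 | h0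
    · rw [h0] at hprod
      norm_num at hprod
    · exact h0
  have hmd : m = 175560 / (Nat.card (centralizer ({x} : Set K)) * e) := by
    rw [← hprod, Nat.mul_div_cancel_left _ hpos]
  have hmz : 175560 % (Nat.card (centralizer ({x} : Set K)) * e) = 0 := by
    rw [← hprod, Nat.mul_mod_right]
  generalize Nat.card (centralizer ({x} : Set K)) = c at *
  rw [← hidx]
  rcases hx with hx | hx | hx <;> rw [hx] at hcop he hmod hne ⊢
  · refine ⟨arith_seven c hm ?_ e (Nat.mem_divisors.mpr ⟨he, by norm_num⟩) (by rw [← hmd]; exact hmod),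
      by norm_num⟩
    rcases hy with hy | hy | hy <;> rw [hy] at hcop hne
    · exact (hne rfl).elim
    · exact Or.inl hcop
    · exact Or.inr hcop
  · have := arith_eleven c hm (by
      rcases hy with hy | hy | hy <;> rw [hy] at hcop hne
      · exact Or.inl hcop
      · exact (hne rfl).elim
      · exact Or.inr hcop) e (Nat.mem_divisors.mpr ⟨he, by norm_num⟩) (by rw [← hmd]; exact hmod)
    exact ⟨this.1, fun _ => by rw [hmd]; exact this.2⟩
  · refine ⟨arith_nineteen c hm ?_ e (Nat.mem_divisors.mpr ⟨he, by norm_num⟩) (by rw [← hmd]; exact hmod) hmz,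
      by norm_num⟩
    rcases hy with hy | hy | hy <;> rw [hy] at hcop hne
    · exact Or.inl hcop
    · exact Or.inr hcop
    · exact (hne rfl).elim

theorem big_false [IsSimpleGroup K] (h : Local K) (hc : Nat.card K = 175560) {x y : K} (hx : Big (orderOf x))
    (hy : Big (orderOf y)) (hne : orderOf x ≠ orderOf y) (hxy : x * y = y * x) : False := by
  -- an element of order 11
  obtain ⟨w, hw, hi⟩ : ∃ w : K, orderOf w = 11 ∧ (normalizer (zpowers w : Set K)).index = 12 := by
    by_cases h11 : orderOf x = 11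
    · exact ⟨x, h11, (cent_full h hc hx hy hne hxy).2 h11⟩
    · have h1 := (cent_full h hc hx hy hne hxy).1
      have hf : Fact (Nat.Prime 11) := ⟨by norm_num⟩
      obtain ⟨w, hw⟩ := exists_prime_orderOf_dvd_card' (G := centralizer ({x} : Set K)) 11
        (by rw [h1]; norm_num)
      have hw' : orderOf (w : K) = 11 := by rw [Subgroup.orderOf_coe, hw]
      refine ⟨w, hw', ?_⟩
      exact (cent_full h hc (x := (w : K)) (y := x) (Or.inr (Or.inl hw')) hx (by rw [hw']; exact fun h => h11 h.symm)
        (mem_centralizer_singleton_iff.mp w.2)).2 hw'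
  -- `K` acts faithfully on 12 points
  have hN : (normalizer (zpowers w : Set K)).normalCore = ⊥ := by
    rcases (normalCore_normal (normalizer (zpowers w : Set K))).eq_bot_or_eq_top with h1 | h1
    · exact h1
    · exfalso
      have h2 : normalizer (zpowers w : Set K) = ⊤ := top_le_iff.mp (h1 ▸ normalCore_le _)
      rw [h2, index_top] at hi
      norm_num at hi
  have hker : (MulAction.toPermHom K (K ⧸ normalizer (zpowers w : Set K))).ker = ⊥ := by
    rw [← normalCore_eq_ker, hN]
  have hinj := (MonoidHom.ker_eq_bot_iff _).mp hker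
  have h3 := Subgroup.card_dvd_of_injective _ hinj
  rw [Nat.card_perm, ← Subgroup.index, hi, hc] at h3
  have h4 : (19 : ℕ) ∣ Nat.factorial 12 := dvd_trans (by norm_num) h3
  rw [(by norm_num : Nat.Prime 19).dvd_factorial] at h4
  omega

/-- commuting elements of odd prime orders `r < s` have `(r, s) = (3, 5)` -/
theorem comm_odd [IsSimpleGroup K] (h : Local K) (hc : Nat.card K = 175560) {r s : ℕ} (hr : r.Prime)
    (hs : s.Prime) (hr2 : r ≠ 2) (hrs : r < s) {x y : K} (hx : orderOf x = r) (hy : orderOf y = s)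
    (hxy : x * y = y * x) : r = 3 ∧ s = 5 := by
  have hlist : ∀ p : ℕ, p.Prime → p ∣ 175560 → p = 2 ∨ p = 3 ∨ p = 5 ∨ Big p := by
    intro p hp hd
    have h1 : (175560 : ℕ) = 2 ^ 3 * 3 * 5 * 7 * 11 * 19 := by norm_num
    rw [h1] at hd
    have hP : ∀ q : ℕ, q.Prime → p ∣ q → p = q := fun q hq h => (Nat.prime_dvd_prime_iff_eq hp hq).mp h
    rcases hp.dvd_mul.mp hd with hd | hd
    · rcases hp.dvd_mul.mp hd with hd | hd
      · rcases hp.dvd_mul.mp hd with hd | hd
        · rcases hp.dvd_mul.mp hd with hd | hd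
          · rcases hp.dvd_mul.mp hd with hd | hd
            · exact Or.inl (hP 2 Nat.prime_two (hp.dvd_of_dvd_pow hd))
            · exact Or.inr (Or.inl (hP 3 Nat.prime_three hd))
          · exact Or.inr (Or.inr (Or.inl (hP 5 Nat.prime_five hd)))
        · exact Or.inr (Or.inr (Or.inr (Or.inl (hP 7 (by norm_num) hd))))
      · exact Or.inr (Or.inr (Or.inr (Or.inr (Or.inl (hP 11 (by norm_num) hd)))))
    · exact Or.inr (Or.inr (Or.inr (Or.inr (Or.inr (hP 19 (by norm_num) hd)))))
  have hrd := hlist r hr (by rw [← hc, ← hx]; exact orderOf_dvd_natCard x)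
  have hsd := hlist s hs (by rw [← hc, ← hy]; exact orderOf_dvd_natCard y)
  have h30 : ∀ p : ℕ, p.Prime → p ∣ 30 → p ≤ 5 := by
    intro p hp hd
    have h1 : (30 : ℕ) = 2 * 3 * 5 := by norm_num
    rw [h1] at hd
    rcases hp.dvd_mul.mp hd with hd | hd
    · rcases hp.dvd_mul.mp hd with hd | hd
      · have := Nat.le_of_dvd (by norm_num) hd
        omega
      · have := Nat.le_of_dvd (by norm_num) hd
        omega
    · exact Nat.le_of_dvd (by norm_num) hd
  have hsx : s ∣ Nat.card (centralizer ({x} : Set K)) := by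
    rw [← hy]
    exact mem_cent_dvd hxy.symm
  rcases hrd with rfl | rfl | rfl | hrB
  · exact (hr2 rfl).elim
  · rw [h.cent3 x hx] at hsx
    have := h30 s hs hsx
    refine ⟨rfl, ?_⟩
    rcases hsd with rfl | rfl | rfl | hsB
    · omega
    · omega
    · rfl
    · rcases hsB with rfl | rfl | rfl <;> omega
  · rw [h.cent5 x hx] at hsx
    have := h30 s hs hsx
    omega
  · have hsB : Big s := by
      rcases hsd with rfl | rfl | rfl | hsB
      · rcases hrB with rfl | rfl | rfl <;> omega
      · rcases hrB with rfl | rfl | rfl <;> omega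
      · rcases hrB with rfl | rfl | rfl <;> omega
      · exact hsB
    exact (big_false h hc (x := x) (y := y) (by rw [hx]; exact hrB) (by rw [hy]; exact hsB)
      (by rw [hx, hy]; omega) hxy).elim

/-- the list `KZero` implies the list of `CaseASinger` -/
theorem kz_of_kzero (h : KZero K) : CaseASinger.KZ K := by
  rcases h with h | h | h | ⟨h, k, hk⟩
  · exact Or.inl h
  · exact Or.inr (Or.inl h)
  · exact Or.inr (Or.inr (Or.inl h))
  · have hJ := isJ1_of_local h hk
    have := hJ.1
    exact Or.inr (Or.inr (Or.inr ⟨hJ.2, fun r s hr hs hr2 hrs x y hx hy hxy =>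
      comm_odd h hJ.2 hr hs hr2 hrs hx hy hxy⟩))

end Cfsg.Agent.OddCyclic.JFacts
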