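import Cfsg.Agent.OddCyclic.B2Special
import Cfsg.Agent.OddCyclic.PumpMain
import Cfsg.Agent.OddCyclic.JFacts
import Cfsg.Agent.Lib.PSL2Torus
import Cfsg.Agent.WeakTI.PslTwo
import Cfsg.Agent.SmallSimple.SylowEight

/-!
# S0342, case B2, section 2: the groups in `KZero` have one class of involutions
-/

set_option autoImplicit false

namespace Cfsg.Agent.OddCyclic.B2SpecClass

open Subgroup Cfsg
open Cfsg.Agent.OddCyclic.B2Defs Cfsg.Agent.OddCyclic.B2Special Cfsg.Agent.OddCyclic.PumpMain
open Cfsg.Agent.OddCyclic.T1Defs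

/-- the simple groups of the list have one class of involutions -/
theorem oneClass_of_kZero {K : Type*} [Group K] [Finite K] [IsSimpleGroup K] (h : KZero K) :
    Cfsg.Lie.IsoSuzuki K ∨ (3 ∣ Nat.card K ∧ OneClass K) := by
  have hsq : ∀ x : K, orderOf x = 2 → x ≠ 1 ∧ x * x = 1 := by
    intro x hx
    refine ⟨fun h => by rw [h, orderOf_one] at hx; omega, ?_⟩
    rw [← pow_two, ← hx, pow_orderOf_eq_one]
  rcases h with ⟨F, iF, iF', hp, h5, ⟨e⟩⟩ | ⟨F, iF, iF', f, hf, hF, ⟨e⟩⟩ | h | ⟨h, k, hk⟩
  · right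
    refine ⟨?_, ?_⟩
    · rw [Nat.card_congr e.toEquiv]
      exact Cfsg.Agent.ThreePrime.OrderThree.three_dvd_card_psl F
    · have h2 : (2 : F) ≠ 0 := by
        intro h2
        have hc : CharP F (Fintype.card F) := by
          have hpf : Fact (Fintype.card F).Prime := ⟨hp⟩
          obtain ⟨p, hpc⟩ := CharP.exists F
          have hpp : Fact p.Prime := ⟨CharP.char_is_prime F p⟩
          obtain ⟨n, -, hn⟩ := FiniteField.card F p
          have h1 : p ∣ Fintype.card F := by rw [hn]; exact dvd_pow_self p n.ne_zero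
          have h3 := (Nat.prime_dvd_prime_iff_eq hpp.out hp).1 h1
          rwa [← h3]
        have h3 : ((2 : ℕ) : F) = 0 := by exact_mod_cast h2
        rw [CharP.cast_eq_zero_iff F (Fintype.card F)] at h3
        have := Nat.le_of_dvd (by norm_num) h3
        omega
      intro a b ha hb
      exact Cfsg.Agent.Lib.PSL2Torus.conj_inv h2 e (hsq a ha).1 (hsq a ha).2 (hsq b hb).1 (hsq b hb).2
  · right
    have := charP_two hF
    refine ⟨?_, ?_⟩
    · rw [Nat.card_congr e.toEquiv]
      exact Cfsg.Agent.ThreePrime.OrderThree.three_dvd_card_psl F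
    · intro a b ha hb
      exact Cfsg.Agent.WeakTI.PslTwo.exists_conj e (hsq a ha).2 (hsq a ha).1 (hsq b hb).2 (hsq b hb).1
  · exact Or.inl h
  · right
    have hc : Nat.card K = 175560 := JFacts.card_of_local h hk
    refine ⟨by rw [hc]; norm_num, ?_⟩
    intro a b ha hb
    have hnc : ¬ IsMulCommutative K := by
      intro hcm
      have hp : (Nat.card K).Prime := by
        let _ : CommGroup K := { (inferInstance : Group K) with mul_comm := hcm.is_comm.comm }
        exact IsSimpleGroup.prime_card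
      rw [hc] at hp
      norm_num at hp
    exact isConj_iff.1 (Cfsg.Agent.SmallSimple.SylowEight.isConj_of_card_sylow_eight hnc
      (by rw [hc]; norm_num) (by rw [hc]; norm_num) a b ha hb)

universe u

variable {G : Type u} [Group G] [Finite G] {t h y i : G} {V Z : Subgroup G}

theorem special_false' (hG : OddCyc G)
    (hk : ∀ J : Subgroup G, J ≠ ⊤ → IsQuasisimple J → KZero (J ⧸ center J))
    (s : Spec t h y i V Z) (hn : NswAt t V) : False := by
  refine special_false hG (fun J hJ hq => ?_) s hn
  have hs : IsSimpleGroup (J ⧸ center J) := hq.2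
  rcases oneClass_of_kZero (hk J hJ hq) with h1 | ⟨h1, h2⟩
  · exact Or.inl h1
  · exact Or.inr ⟨h1.trans (Subgroup.card_quotient_dvd_card _), h2⟩

end Cfsg.Agent.OddCyclic.B2SpecClass
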