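import Cfsg.Agent.OddCyclic.B2SpecComp

/-!
# S0342, case B2, section 2: contradiction

`special_false`: type II, `d = 2`, all outer involutions conjugate to `t`, `N_{C_G(V)}(⟨t⟩V) > ⟨t⟩V`.
-/

set_option autoImplicit false

namespace Cfsg.Agent.OddCyclic.B2Special

open Subgroup Cfsg
open Cfsg.Agent.LieExceptional.CITDefs Cfsg.Agent.OddCyclic.B2Defs Cfsg.Agent.OddCyclic.B2SpecFus
  Cfsg.Agent.OddCyclic.B2SpecThree Cfsg.Agent.OddCyclic.B2SpecCore Cfsg.Agent.OddCyclic.B2SpecComp
  Cfsg.Agent.OddCyclic.T1Defs Cfsg.Agent.OddCyclic.CompBasic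

universe u

variable {G : Type u} [Group G] [Finite G] {t h y i : G} {V Z : Subgroup G}

/-- all elements of order two are conjugate -/
def OneClass (K : Type*) [Group K] : Prop :=
  ∀ a b : K, orderOf a = 2 → orderOf b = 2 → ∃ g : K, g * a * g⁻¹ = b

theorem special_false (hG : OddCyc G)
    (hk : ∀ J : Subgroup G, J ≠ ⊤ → IsQuasisimple J →
      Cfsg.Lie.IsoSuzuki (J ⧸ center J) ∨ (3 ∣ Nat.card J ∧ OneClass (J ⧸ center J)))
    (s : Spec t h y i V Z) (hn : NswAt t V) : False := by
  obtain ⟨L, hL⟩ := exists_cmp s hn hG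
  have hLtop : L ≠ ⊤ := by
    intro htop
    have h1 : h ∈ C i := hL.le (htop ▸ mem_top h)
    exact s.i_ne (s.fpfV i s.i_mem (mem_C.1 h1))
  rcases hk L hLtop hL.quasi with hsz | ⟨h3, hone⟩
  · exact not_suzuki s hG hL hsz
  have hnL : C i ≤ normalizer (L : Set G) := hL.le_normalizer hG (by norm_num) (by norm_num) h3
  obtain ⟨k, Nk, k3⟩ := exists_order_three s hn
  obtain ⟨⟨g₁, h1, N1⟩, ⟨g₂, h2, N2⟩⟩ := exists_g s hn
  have hkL : k ∈ L := hL.mem_of_orderOf hG (by norm_num) (by norm_num) h3 (mem_C.2 Nk.1) k3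
  have hkcube : k * k * k = 1 := by
    have := pow_orderOf_eq_one k
    rw [k3] at this
    simpa [pow_succ] using this
  have hii := ii s
  have hti := t_i s
  -- an element of `L ∩ E'` outside `⟨i⟩`
  obtain ⟨w, hwE, hwL, hw1, hwi⟩ : ∃ w ∈ EE t y i, w ∈ L ∧ w ≠ 1 ∧ w ≠ i := by
    have key : ∀ e ∈ EE t y i, k * e ≠ e * k → ∃ w ∈ EE t y i, w ∈ L ∧ w ≠ 1 ∧ w ≠ i := by
      intro e he hke
      have hei : e * i = i * e := EE_comm s he (Or.inl (Or.inr rfl))
      have hw1 : k * e * k⁻¹ * e⁻¹ ≠ 1 := by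
        intro h
        apply hke
        exact mul_inv_eq_iff_eq_mul.1 (mul_inv_eq_one.1 h)
      refine ⟨k * e * k⁻¹ * e⁻¹, ?_, ?_, hw1, ?_⟩
      · have h4 : e⁻¹ ∈ EE t y i := by
          rw [← mem_EEs s] at he ⊢
          exact inv_mem he
        exact EE_mul s (Nk.2 e he) h4
      · have e1 : k * e * k⁻¹ * e⁻¹ = k * (e * k⁻¹ * e⁻¹) := by group
        rw [e1]
        exact L.mul_mem hkL (conj_L hnL hei (L.inv_mem hkL))
      · intro hw
        apply hke
        have e1 : k * e * k⁻¹ = i * e := by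
          rw [← hw]; group
        have e2 : k * k * e * (k * k)⁻¹ = e := by
          calc k * k * e * (k * k)⁻¹ = k * (k * e * k⁻¹) * k⁻¹ := by group
            _ = k * i * e * k⁻¹ := by rw [e1]; group
            _ = i * (k * e * k⁻¹) := by rw [Nk.1]; group
            _ = (i * i) * e := by rw [e1]; group
            _ = e := by rw [hii, one_mul]
        have e3 : (k * k) * e = e * (k * k) := mul_inv_eq_iff_eq_mul.1 e2
        have e4 : k = (k * k) * (k * k) := by
          calc k = (k * k * k) * k := by rw [hkcube, one_mul]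
            _ = _ := by group
        calc k * e = (k * k) * ((k * k) * e) := by nth_rw 1 [e4]; group
          _ = (k * k) * (e * (k * k)) := by rw [e3]
          _ = ((k * k) * e) * (k * k) := by group
          _ = (e * (k * k)) * (k * k) := by rw [e3]
          _ = e * ((k * k) * (k * k)) := by group
          _ = e * k := by rw [← e4]
    by_cases hkt : k * t = t * k
    · by_cases hky : k * y = y * k
      · exfalso
        have hkZ : k ∈ Z := mem_Z_of_odd s hkt Nk.1 (by rw [k3]; exact ⟨1, rfl⟩)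
        have e1 := s.Z_y k hkZ
        rw [← hky] at e1
        have e2 : k = k⁻¹ := by rw [← e1]; group
        have e3 : k ^ 2 ^ 1 = 1 := by
          rw [pow_one, pow_two]
          nth_rw 1 [e2]
          rw [inv_mul_cancel]
        have e4 : k = 1 := eq_one_of_odd_two (n := 3) ⟨1, rfl⟩ (by rw [← k3, pow_orderOf_eq_one]) e3
        rw [e4, orderOf_one] at k3
        omega
      · exact key y (Or.inr (Or.inr (Or.inl (Or.inl rfl)))) hky
    · exact key t (Or.inr (Or.inl (Or.inl rfl))) hkt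
  -- `t` or `t i` lies in `L`
  obtain ⟨τ, hτL, hτ⟩ : ∃ τ ∈ L, τ = t ∨ τ = t * i := by
    have key : ∀ g e : G, g * i = i * g → g * e * g⁻¹ = t → (w = e ∨ w = e * i) →
        ∃ τ ∈ L, τ = t ∨ τ = t * i := by
      intro g e hg hge hw
      refine ⟨g * w * g⁻¹, conj_L hnL hg hwL, ?_⟩
      rcases hw with rfl | rfl
      · exact Or.inl hge
      · right
        have e1 : g * i * g⁻¹ = i := by rw [hg]; group
        calc g * (e * i) * g⁻¹ = (g * e * g⁻¹) * (g * i * g⁻¹) := by group
          _ = t * i := by rw [hge, e1]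
    rcases hwE with (h | h) | h | h | h
    · exact (hw1 h).elim
    · exact (hwi h).elim
    · exact ⟨w, hwL, h⟩
    · exact key g₁ y N1.1 h1 h
    · exact key g₂ (t * y) N2.1 h2 h
  have hVL : V ≤ L := by
    intro v hv
    obtain ⟨b, hb, hbt⟩ := exists_b s hn hv
    have hbi : b * i = i * b := hb i s.i_mem
    have h4 := conj_L hnL hbi hτL
    have h5 : b * τ * b⁻¹ = τ * v := by
      have e1 : b * i * b⁻¹ = i := by rw [hbi]; group
      rcases hτ with rfl | rfl
      · exact hbt
      · calc b * (t * i) * b⁻¹ = (b * t * b⁻¹) * (b * i * b⁻¹) := by group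
          _ = t * (v * i) := by rw [hbt, e1]; group
          _ = t * i * v := by rw [vcomm s hv s.i_mem]; group
    rw [h5] at h4
    have : v = τ⁻¹ * (τ * v) := by group
    rw [this]
    exact L.mul_mem (L.inv_mem hτL) h4
  have hiL : i ∈ L := hVL s.i_mem
  have htL : t ∈ L := by
    rcases hτ with rfl | rfl
    · exact hτL
    · have : t = t * i * i := by rw [mul_assoc, hii, mul_one]
      rw [this]
      exact L.mul_mem hτL hiL
  have hg₁i : g₁⁻¹ * i = i * g₁⁻¹ := ((show Commute g₁ i from N1.1).inv_left).eq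
  have hg₁y : g₁⁻¹ * t * g₁⁻¹⁻¹ = y := by rw [← h1]; group
  have hyL : y ∈ L := by
    rw [← hg₁y]
    exact conj_L hnL hg₁i htL
  obtain ⟨a, ha, ha1, hai, hya⟩ := exists_a s
  have haL := hVL ha
  have hne : y * a ≠ a * y := by
    rw [hya]
    intro h
    apply s.i_ne
    have h2 : i * a * y = 1 * a * y := by rw [h]; group
    exact mul_right_cancel (mul_right_cancel h2)
  -- the two involutions of `L/Z(L)`
  set tb : L := ⟨t, htL⟩ with htb
  set xb : L := ⟨y * a, L.mul_mem hyL haL⟩ with hxb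
  have hsq : (y * a) * (y * a) = i := by
    calc y * a * (y * a) = (y * a) * y * a := by group
      _ = i * a * (y * y) * a := by rw [hya]; group
      _ = i * (a * a) := by rw [s.y_sq]; group
      _ = i := by rw [vv s ha, mul_one]
  have htZ : tb ∉ center L := by
    intro hc
    rw [mem_center_iff] at hc
    -- then `y` is central
    apply hne
    have e1 : g₁ * a * g₁⁻¹ ∈ L := conj_L hnL N1.1 haL
    have e2 : (g₁ * a * g₁⁻¹) * t = t * (g₁ * a * g₁⁻¹) := congrArg Subtype.val (hc ⟨_, e1⟩)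
    rw [← h1] at e2
    have e3 : g₁ * (a * y) * g₁⁻¹ = g₁ * (y * a) * g₁⁻¹ := by
      calc g₁ * (a * y) * g₁⁻¹ = (g₁ * a * g₁⁻¹) * (g₁ * y * g₁⁻¹) := by group
        _ = (g₁ * y * g₁⁻¹) * (g₁ * a * g₁⁻¹) := e2
        _ = _ := by group
    exact (mul_left_cancel (mul_right_cancel e3)).symm
  have hxZ : xb ∉ center L := by
    intro hc
    rw [mem_center_iff] at hc
    apply hne
    have e2 : a * (y * a) = (y * a) * a := congrArg Subtype.val (hc ⟨a, haL⟩)
    have e3 : (a * y) * a = (y * a) * a := by rw [mul_assoc]; exact e2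
    exact (mul_right_cancel e3).symm
  have hordt : orderOf (QuotientGroup.mk tb : L ⧸ center L) = 2 := by
    apply orderOf_eq_prime
    · rw [pow_two, ← QuotientGroup.mk_mul, QuotientGroup.eq_one_iff]
      have : tb * tb = 1 := Subtype.ext s.t_sq
      rw [this]
      exact one_mem _
    · intro h
      exact htZ ((QuotientGroup.eq_one_iff _).1 h)
  have hordx : orderOf (QuotientGroup.mk xb : L ⧸ center L) = 2 := by
    apply orderOf_eq_prime
    · rw [pow_two, ← QuotientGroup.mk_mul, QuotientGroup.eq_one_iff]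
      have : xb * xb = ⟨i, hiL⟩ := Subtype.ext hsq
      rw [this, mem_center_iff]
      intro g
      exact Subtype.ext (mem_C.1 (hL.le g.2))
    · intro h
      exact hxZ ((QuotientGroup.eq_one_iff _).1 h)
  obtain ⟨gb, hgb⟩ := hone _ _ hordx hordt
  obtain ⟨g, rfl⟩ := QuotientGroup.mk_surjective gb
  have hc : g * xb * g⁻¹ * tb⁻¹ ∈ center L := by
    rw [← QuotientGroup.eq_one_iff, QuotientGroup.mk_mul, QuotientGroup.mk_mul, QuotientGroup.mk_mul,
      QuotientGroup.mk_inv, QuotientGroup.mk_inv, hgb, mul_inv_cancel]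
  set c := g * xb * g⁻¹ * tb⁻¹ with hcdef
  have hcx : g * xb * g⁻¹ = c * tb := by rw [hcdef]; group
  rw [mem_center_iff] at hc
  have hccomm : ∀ u ∈ L, u * (c : G) = c * u := fun u hu => congrArg Subtype.val (hc ⟨u, hu⟩)
  have hc2 : (c : G) * c = 1 := by
    obtain ⟨v, hv, h | h⟩ := s.cent c (hccomm t htL).symm (fun v hv => (hccomm v (hVL hv)).symm)
    · rw [h]; exact vv s hv
    · rw [h]
      calc t * v * (t * v) = t * (v * t) * v := by group
        _ = (t * t) * (v * v) := by rw [← s.tV v hv]; group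
        _ = 1 := by rw [s.t_sq, vv s hv, one_mul]
  have hgi : (g : G) * i * (g : G)⁻¹ = i := by
    rw [mem_C.1 (hL.le g.2)]; group
  have hfin : (g : G) * (y * a) * (g : G)⁻¹ = c * t := congrArg Subtype.val hcx
  apply s.i_ne
  calc i = (g : G) * i * (g : G)⁻¹ := hgi.symm
    _ = ((g : G) * (y * a) * (g : G)⁻¹) * ((g : G) * (y * a) * (g : G)⁻¹) := by rw [← hsq]; group
    _ = c * (t * c) * t := by rw [hfin]; group
    _ = (c * c) * (t * t) := by rw [hccomm t htL]; group
    _ = 1 := by rw [hc2, s.t_sq, one_mul]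

end Cfsg.Agent.OddCyclic.B2Special
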