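import Mathlib
import Cfsg.Agent.OddCyclic.B2Tools

/-!
# Case B2, (sw): section 3 of blueprints/S0342-B2.md
-/

set_option autoImplicit false

namespace Cfsg.Agent.OddCyclic.B2Sw

open Cfsg.Agent.LieExceptional Cfsg.Agent.LieExceptional.CITDefs Cfsg.Agent.OddCyclic.B2Defs
  Cfsg.Agent.OddCyclic.B2Tools

variable {G : Type*} [Group G] {t c b x : G} {n : ℕ} {S D : Subgroup G}

theorem even_of_eq (W : SwData t c b x n S D) {m k : ℤ} (h : c ^ m = c ^ k) : Even (m - k) := by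
  rw [zpow_eq_zpow_iff_modEq, W.c_ord] at h
  have h1 : ((2 : ℕ) : ℤ) ∣ ((2 ^ (n - 1) : ℕ) : ℤ) := by
    rw [Int.natCast_dvd_natCast]
    have := W.n_ge
    exact dvd_pow_self 2 (by omega)
  have h2 := h1.trans h.dvd
  obtain ⟨a, ha⟩ := h2
  exact ⟨-a, by push_cast at ha; omega⟩

/-- `i` as an integral power -/
theorem i_eq (c : G) (n : ℕ) : c ^ 2 ^ (n - 2) = c ^ ((2 ^ (n - 2) : ℕ) : ℤ) := (zpow_natCast _ _).symm

theorem even_e (W : SwData t c b x n S D) : Even ((2 ^ (n - 2) : ℕ) : ℤ) := by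
  have := W.n_ge
  have h : Even (2 ^ (n - 2)) := by
    rw [Nat.even_pow]
    exact ⟨even_two, by omega⟩
  exact_mod_cast h

theorem i_sq (W : SwData t c b x n S D) : c ^ 2 ^ (n - 2) * c ^ 2 ^ (n - 2) = 1 := by
  have := W.n_ge
  rw [← pow_add]
  have : 2 ^ (n - 2) + 2 ^ (n - 2) = 2 ^ (n - 1) := by
    have h1 : n - 1 = (n - 2) + 1 := by omega
    rw [h1, pow_succ]
    ring
  rw [this, ← W.c_ord, pow_orderOf_eq_one]

theorem i_ne (W : SwData t c b x n S D) : c ^ 2 ^ (n - 2) ≠ 1 := by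
  have := W.n_ge
  intro h
  have h1 := orderOf_dvd_of_pow_eq_one h
  rw [W.c_ord] at h1
  have h2 := Nat.le_of_dvd (by positivity) h1
  have h3 : 2 ^ (n - 2) < 2 ^ (n - 1) := Nat.pow_lt_pow_right (by norm_num) (by omega)
  omega

theorem c_sq_ne (W : SwData t c b x n S D) : c * c ≠ 1 := by
  intro h
  have := W.n_ge
  have h1 : orderOf c ∣ 2 := orderOf_dvd_of_pow_eq_one (by rw [pow_two]; exact h)
  rw [W.c_ord] at h1
  have h2 := Nat.le_of_dvd (by norm_num) h1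
  have h3 : 2 ^ 2 ≤ 2 ^ (n - 1) := Nat.pow_le_pow_right (by norm_num) (by omega)
  omega

theorem b_inv (W : SwData t c b x n S D) : b⁻¹ = b := inv_eq_of_mul_eq_one_left W.b_sq

theorem t_inv (W : SwData t c b x n S D) : t⁻¹ = t := inv_eq_of_mul_eq_one_left W.t_sq

theorem b_conj (W : SwData t c b x n S D) (k : ℤ) : b * c ^ k * b⁻¹ = c ^ (-k) := by
  rw [← conj_zpow, W.bc, inv_zpow, zpow_neg]

theorem b_mul (W : SwData t c b x n S D) (k : ℤ) : b * c ^ k = c ^ (-k) * b := by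
  rw [← (b_conj W) k, inv_mul_cancel_right]

theorem c_mem (W : SwData t c b x n S D) : c ∈ D := (W.D_eq c).2 ⟨1, Or.inl (pow_one c).symm⟩

theorem b_mem (W : SwData t c b x n S D) : b ∈ D := (W.D_eq b).2 ⟨0, Or.inr (by rw [pow_zero, one_mul])⟩

theorem mem_D (W : SwData t c b x n S D) {g : G} : g ∈ D ↔ ∃ k : ℤ, g = c ^ k ∨ g = c ^ k * b := by
  constructor
  · intro h
    obtain ⟨k, hk⟩ := (W.D_eq g).1 h
    exact ⟨k, by rwa [zpow_natCast]⟩
  · rintro ⟨k, rfl | rfl⟩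
    · exact zpow_mem (c_mem W) k
    · exact mul_mem (zpow_mem (c_mem W) k) (b_mem W)

theorem b_ne_zpow (W : SwData t c b x n S D) (k : ℤ) : b ≠ c ^ k := by
  intro h
  have h1 := W.bc
  have h2 : b * c * b⁻¹ = c := by
    rw [h, ← zpow_add_one, ← zpow_neg, ← zpow_add]
    rw [add_comm k 1, add_assoc, add_neg_cancel, add_zero, zpow_one]
  rw [h2] at h1
  apply (c_sq_ne W)
  calc c * c = c⁻¹ * c := by rw [← h1]
    _ = 1 := inv_mul_cancel c

theorem i_mem (W : SwData t c b x n S D) : c ^ 2 ^ (n - 2) ∈ D := pow_mem (c_mem W) _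

theorem D_le_S (W : SwData t c b x n S D) : D ≤ S := fun d hd => (W.S_eq d).2 ⟨d, hd, Or.inl rfl⟩

theorem t_mem_S (W : SwData t c b x n S D) : t ∈ S := (W.S_eq t).2 ⟨1, one_mem _, Or.inr (mul_one t).symm⟩

/-- `i` is central in `D` -/
theorem i_comm (W : SwData t c b x n S D) {d : G} (hd : d ∈ D) : d * c ^ 2 ^ (n - 2) = c ^ 2 ^ (n - 2) * d := by
  have hb : b * c ^ 2 ^ (n - 2) = c ^ 2 ^ (n - 2) * b := by
    have h1 := (b_mul W) ((2 ^ (n - 2) : ℕ) : ℤ)
    rw [← i_eq] at h1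
    rw [h1]
    congr 1
    rw [zpow_neg, ← i_eq]
    exact inv_eq_of_mul_eq_one_left (i_sq W)
  obtain ⟨k, rfl | rfl⟩ := (mem_D W).1 hd
  · rw [i_eq, ← zpow_add, ← zpow_add, add_comm]
  · rw [mul_assoc, hb, ← mul_assoc, ← mul_assoc]
    congr 1
    rw [i_eq, ← zpow_add, ← zpow_add, add_comm]

theorem ti (W : SwData t c b x n S D) : t * c ^ 2 ^ (n - 2) = c ^ 2 ^ (n - 2) * t := W.tD _ (i_mem W)

/-- elements of `D` commuting with `D` are `1` or `i` -/
theorem center_D (W : SwData t c b x n S D) {d : G} (hd : d ∈ D) (h : ∀ e ∈ D, d * e = e * d) :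
    d = 1 ∨ d = c ^ 2 ^ (n - 2) := by
  have hn := W.n_ge
  obtain ⟨k, rfl | rfl⟩ := (mem_D W).1 hd
  · have h1 := (b_mul W) k
    rw [← h b (b_mem W)] at h1
    have h2 : c ^ k = c ^ (-k) := mul_right_cancel h1
    rw [zpow_eq_zpow_iff_modEq, W.c_ord] at h2
    have h3 := h2.dvd
    have h4 : ((2 ^ (n - 1) : ℕ) : ℤ) = 2 * ((2 ^ (n - 2) : ℕ) : ℤ) := by
      have : n - 1 = (n - 2) + 1 := by omega
      rw [this, pow_succ]
      push_cast
      ring
    rw [h4] at h3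
    obtain ⟨m, hm⟩ := h3
    have h5 : k = ((2 ^ (n - 2) : ℕ) : ℤ) * (-m) := by linarith
    rw [h5, zpow_mul, ← i_eq]
    have h6 : (c ^ 2 ^ (n - 2)) ^ (2 : ℤ) = 1 := by
      rw [zpow_two]
      exact (i_sq W)
    rcases Int.even_or_odd (-m) with ⟨a, ha⟩ | ⟨a, ha⟩
    · left
      rw [ha, ← two_mul, zpow_mul, h6, one_zpow]
    · right
      rw [ha, zpow_add, zpow_mul, h6, one_zpow, one_mul, zpow_one]
  · exfalso
    have h1 := h c (c_mem W)
    -- c^k b c = c c^k b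
    apply (c_sq_ne W)
    have h2 : c ^ k * b * c = c ^ k * (c⁻¹ * b) := by
      rw [mul_assoc]
      congr 1
      have := (b_mul W) 1
      rwa [zpow_one, zpow_neg_one] at this
    have h3 : c * (c ^ k * b) = c ^ k * (c * b) := by
      rw [← mul_assoc, ← mul_assoc, ← zpow_one_add, ← zpow_add_one, add_comm]
    rw [h2, h3] at h1
    have h4 := mul_right_cancel (mul_left_cancel h1)
    calc c * c = c⁻¹ * c := by rw [h4]
      _ = 1 := inv_mul_cancel c

/-! ### the action of elements normalising `D` -/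

/-- an element normalising `D` acts on `⟨c⟩` by an odd power -/
theorem conj_c (W : SwData t c b x n S D) {u : G} (hu : ∀ d ∈ D, u * d * u⁻¹ ∈ D) :
    ∃ l : ℤ, Odd l ∧ ∀ k : ℤ, u * c ^ k * u⁻¹ = c ^ (l * k) := by
  have hn := W.n_ge
  obtain ⟨l, hl | hl⟩ := (mem_D W).1 (hu c (c_mem W))
  · refine ⟨l, ?_, fun k => by rw [← conj_zpow, hl, zpow_mul]⟩
    by_contra hcon
    rw [Int.not_odd_iff_even] at hcon
    obtain ⟨a, ha⟩ := hcon
    have h1 : (u * c * u⁻¹) ^ 2 ^ (n - 2) = 1 := by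
      rw [hl, ha, ← two_mul, zpow_mul, ← zpow_natCast, ← zpow_mul, mul_comm a, zpow_mul]
      have h2 : (c ^ (2 : ℤ)) ^ ((2 ^ (n - 2) : ℕ) : ℤ) = 1 := by
        rw [← zpow_mul, mul_comm, zpow_mul, zpow_natCast, zpow_two, i_sq W]
      rw [h2, one_zpow]
    rw [conj_pow] at h1
    apply i_ne W
    have h3 : u⁻¹ * (u * c ^ 2 ^ (n - 2) * u⁻¹) * u = c ^ 2 ^ (n - 2) := by group
    rw [← h3, h1]
    group
  · exfalso
    apply c_sq_ne W
    have h1 : (u * c * u⁻¹) * (u * c * u⁻¹) = 1 := by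
      rw [hl, mul_assoc, ← mul_assoc b, b_mul W l, mul_assoc _ b b, W.b_sq, mul_one, ← zpow_add, add_neg_cancel,
        zpow_zero]
    calc c * c = u⁻¹ * ((u * c * u⁻¹) * (u * c * u⁻¹)) * u := by group
      _ = 1 := by rw [h1]; group

theorem conj_i (W : SwData t c b x n S D) {u : G} (hu : ∀ d ∈ D, u * d * u⁻¹ ∈ D) :
    u * c ^ 2 ^ (n - 2) * u⁻¹ = c ^ 2 ^ (n - 2) := by
  obtain ⟨l, ⟨a, ha⟩, h⟩ := conj_c W hu
  have h1 := h ((2 ^ (n - 2) : ℕ) : ℤ)
  rw [zpow_natCast] at h1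
  rw [h1, mul_comm, zpow_mul, zpow_natCast, ha, zpow_add, zpow_mul, zpow_two, i_sq W, one_zpow, one_mul, zpow_one]

/-- conjugation by an element of `D` preserves the classes -/
theorem conj_D (W : SwData t c b x n S D) {d : G} (hd : d ∈ D) (k : ℤ) :
    ∃ m : ℤ, Even (m - k) ∧ d * (c ^ k * b) * d⁻¹ = c ^ m * b := by
  obtain ⟨a, rfl | rfl⟩ := (mem_D W).1 hd
  · refine ⟨k + 2 * a, ⟨a, by ring⟩, ?_⟩
    rw [mul_assoc, mul_assoc, ← zpow_neg, b_mul W (-a), neg_neg, ← mul_assoc, ← mul_assoc, ← zpow_add, ← zpow_add]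
    congr 2
    ring
  · refine ⟨2 * a - k, ⟨a - k, by ring⟩, ?_⟩
    rw [mul_inv_rev, b_inv W, ← zpow_neg]
    have h1 : c ^ a * b * (c ^ k * b) * (b * c ^ (-a)) = c ^ a * (b * (c ^ k * (b * b) * c ^ (-a))) := by group
    rw [h1, W.b_sq, mul_one, ← zpow_add, b_mul W, ← mul_assoc, ← zpow_add]
    congr 2
    ring

/-- conjugation by an element of `xS` swaps the classes -/
theorem conj_xS (W : SwData t c b x n S D) {s : G} (hs : s ∈ S) (k : ℤ) :
    ∃ m : ℤ, Odd (m - k) ∧ (x * s) * (c ^ k * b) * (x * s)⁻¹ = c ^ m * b := by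
  obtain ⟨d, hd, hs⟩ := (W.S_eq s).1 hs
  have h1 : s * (c ^ k * b) * s⁻¹ = d * (c ^ k * b) * d⁻¹ := by
    rcases hs with rfl | rfl
    · rfl
    · have h2 := W.tD (d * (c ^ k * b) * d⁻¹)
        (mul_mem (mul_mem hd (mul_mem (zpow_mem (c_mem W) k) (b_mem W))) (inv_mem hd))
      have h3 : t * d * (c ^ k * b) * (t * d)⁻¹ = t * (d * (c ^ k * b) * d⁻¹) * t⁻¹ := by group
      rw [h3, h2, mul_inv_cancel_right]
  obtain ⟨m, ⟨r, hm⟩, h2⟩ := conj_D W hd k
  obtain ⟨l, ⟨a, ha⟩, h3⟩ := conj_c W W.xD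
  obtain ⟨j, ⟨j', hj'⟩, hj⟩ := W.swap
  refine ⟨l * m + j, ?_, ?_⟩
  · refine ⟨a * m + r + j', ?_⟩
    have : m = k + (r + r) := by linarith
    rw [this, ha, hj']
    push_cast
    ring
  · have h4 : (x * s) * (c ^ k * b) * (x * s)⁻¹ = x * (s * (c ^ k * b) * s⁻¹) * x⁻¹ := by group
    rw [h4, h1, h2]
    have h5 : x * (c ^ m * b) * x⁻¹ = (x * c ^ m * x⁻¹) * (x * b * x⁻¹) := by group
    rw [h5, h3, hj, ← mul_assoc, zpow_add, zpow_natCast]

/-- `D` and an element `w` normalising it with `w² ∈ D` -/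
def ext [Finite G] (D : Subgroup G) (w : G) (hw : ∀ d ∈ D, w * d * w⁻¹ ∈ D) (hw2 : w * w ∈ D) : Subgroup G where
  carrier := {g | g ∈ D ∨ w⁻¹ * g ∈ D}
  one_mem' := Or.inl (one_mem _)
  mul_mem' := by
    rintro g h (hg | hg) (hh | hh)
    · exact Or.inl (mul_mem hg hh)
    · right
      have h1 : w⁻¹ * (g * h) = (w⁻¹ * g * w) * (w⁻¹ * h) := by group
      rw [h1]
      exact mul_mem (conj_inv_mem hw hg) hh
    · right
      rw [← mul_assoc]
      exact mul_mem hg hh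
    · left
      have h1 : g * h = (w * (w⁻¹ * g) * w⁻¹) * (w * w) * (w⁻¹ * h) := by group
      rw [h1]
      exact mul_mem (mul_mem (hw _ hg) hw2) hh
  inv_mem' := by
    rintro g (hg | hg)
    · exact Or.inl (inv_mem hg)
    · right
      have h1 : w⁻¹ * g⁻¹ = (w⁻¹ * (w⁻¹ * g)⁻¹ * w) * (w * w)⁻¹ := by group
      rw [h1]
      exact mul_mem (conj_inv_mem hw (inv_mem hg)) (inv_mem hw2)

theorem mem_ext [Finite G] {D : Subgroup G} {w : G} {hw : ∀ d ∈ D, w * d * w⁻¹ ∈ D} {hw2 : w * w ∈ D} {g : G} :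
    g ∈ ext D w hw hw2 ↔ g ∈ D ∨ w⁻¹ * g ∈ D := Iff.rfl

/-! ### the elements of `S` -/

theorem S_comm (W : SwData t c b x n S D) {s : G} (hs : s ∈ S) : s * t = t * s := by
  obtain ⟨d, hd, rfl | rfl⟩ := (W.S_eq s).1 hs
  · exact (W.tD _ hd).symm
  · rw [mul_assoc, ← W.tD d hd]

theorem x_notin (W : SwData t c b x n S D) : x ∉ S := by
  intro h
  have h1 := S_comm W h
  have h2 := W.xt
  rw [h1, mul_inv_cancel_right] at h2
  exact i_ne W (mul_left_cancel (a := t) (by rw [← h2, mul_one]))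

theorem i_comm_S (W : SwData t c b x n S D) {s : G} (hs : s ∈ S) :
    s * c ^ 2 ^ (n - 2) = c ^ 2 ^ (n - 2) * s := by
  obtain ⟨d, hd, rfl | rfl⟩ := (W.S_eq s).1 hs
  · exact i_comm W hd
  · rw [mul_assoc, i_comm W hd, ← mul_assoc, ti W, mul_assoc]

/-- the centre of `S` -/
theorem center_S (W : SwData t c b x n S D) {s : G} (hs : s ∈ S) (h : ∀ e ∈ D, s * e = e * s) :
    s = 1 ∨ s = c ^ 2 ^ (n - 2) ∨ s = t ∨ s = t * c ^ 2 ^ (n - 2) := by
  obtain ⟨d, hd, rfl | rfl⟩ := (W.S_eq s).1 hs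
  · rcases center_D W hd h with h | h
    · exact Or.inl h
    · exact Or.inr (Or.inl h)
  · have h1 : ∀ e ∈ D, d * e = e * d := by
      intro e he
      have h2 := h e he
      rw [mul_assoc, ← mul_assoc e, ← W.tD e he, mul_assoc t e] at h2
      exact mul_left_cancel h2
    rcases center_D W hd h1 with rfl | rfl
    · exact Or.inr (Or.inr (Or.inl (mul_one t)))
    · exact Or.inr (Or.inr (Or.inr rfl))

theorem xi (W : SwData t c b x n S D) : x * c ^ 2 ^ (n - 2) * x⁻¹ = c ^ 2 ^ (n - 2) := conj_i W W.xD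

theorem xti (W : SwData t c b x n S D) : x * (t * c ^ 2 ^ (n - 2)) * x⁻¹ = t := by
  have h : x * (t * c ^ 2 ^ (n - 2)) * x⁻¹ = (x * t * x⁻¹) * (x * c ^ 2 ^ (n - 2) * x⁻¹) := by group
  rw [h, W.xt, xi W, mul_assoc, i_sq W, mul_one]

theorem xinv_t (W : SwData t c b x n S D) : x⁻¹ * t * x = t * c ^ 2 ^ (n - 2) := by
  rw [← xti W]
  have h : x⁻¹ * (x * (t * c ^ 2 ^ (n - 2)) * x⁻¹) * x = t * c ^ 2 ^ (n - 2) := by group
  rw [h, xti W]

/-- an element of `T` conjugating `t` to `t` or `ti` is in `S ∪ xS` -/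
theorem mem_of_conj (W : SwData t c b x n S D) {T : Subgroup G} (hT : IsPGroup 2 T) (hST : S ≤ T) (hxT : x ∈ T)
    {g : G} (hg : g ∈ T) (h : g * t * g⁻¹ = t ∨ g * t * g⁻¹ = t * c ^ 2 ^ (n - 2)) : g ∈ S ∨ x⁻¹ * g ∈ S := by
  rcases h with h | h
  · left
    refine mem_of_comm W.syl hT hST hg ?_
    rw [← mul_inv_eq_iff_eq_mul]
    exact h
  · right
    refine mem_of_comm W.syl hT hST (mul_mem (inv_mem hxT) hg) ?_
    have h1 : x⁻¹ * g * t = x⁻¹ * (g * t * g⁻¹) * x * (x⁻¹ * g) := by group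
    rw [h1, h, ← W.xt]
    group

/-- Claim A of (3.2) -/
theorem claimA [Finite G] (W : SwData t c b x n S D) {T : Subgroup G} (hT : IsPGroup 2 T) (hST : S ≤ T) (hxT : x ∈ T)
    {g : G} (hg : g ∈ T) (hgS : ∀ s ∈ S, g * s * g⁻¹ ∈ S) : g ∈ S ∨ x⁻¹ * g ∈ S := by
  have hz := hgS t (t_mem_S W)
  have h1 : ∀ e ∈ D, g * t * g⁻¹ * e = e * (g * t * g⁻¹) := by
    intro e he
    have h2 := conj_inv_mem hgS (D_le_S W he)
    have h3 := S_comm W h2
    calc g * t * g⁻¹ * e = g * (t * (g⁻¹ * e * g)) * g⁻¹ := by group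
      _ = g * ((g⁻¹ * e * g) * t) * g⁻¹ := by rw [h3]
      _ = e * (g * t * g⁻¹) := by group
  rcases center_S W hz h1 with h | h | h | h
  · exact absurd (h ▸ one_mem D) (W.not_conj g)
  · exact absurd (h ▸ i_mem W) (W.not_conj g)
  · exact mem_of_conj W hT hST hxT hg (Or.inl h)
  · exact mem_of_conj W hT hST hxT hg (Or.inr h)

theorem i_comm_T [Finite G] (W : SwData t c b x n S D) {a : G} (ha : a ∈ S ∨ x⁻¹ * a ∈ S) :
    a * c ^ 2 ^ (n - 2) = c ^ 2 ^ (n - 2) * a := by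
  rcases ha with ha | ha
  · exact i_comm_S W ha
  · have h1 := i_comm_S W ha
    have h2 : x * c ^ 2 ^ (n - 2) = c ^ 2 ^ (n - 2) * x := by
      rw [← mul_inv_eq_iff_eq_mul]
      exact xi W
    calc a * c ^ 2 ^ (n - 2) = x * (x⁻¹ * a * c ^ 2 ^ (n - 2)) := by group
      _ = x * c ^ 2 ^ (n - 2) * (x⁻¹ * a) := by rw [h1]; group
      _ = c ^ 2 ^ (n - 2) * a := by rw [h2]; group

theorem conj_t_T (W : SwData t c b x n S D) {a : G} (ha : a ∈ S ∨ x⁻¹ * a ∈ S) :
    a * t * a⁻¹ = t ∨ a * t * a⁻¹ = t * c ^ 2 ^ (n - 2) := by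
  rcases ha with ha | ha
  · left
    rw [S_comm W ha, mul_inv_cancel_right]
  · right
    have h1 := S_comm W ha
    calc a * t * a⁻¹ = x * (x⁻¹ * a * t) * (x⁻¹ * a)⁻¹ * x⁻¹ := by group
      _ = x * t * x⁻¹ := by rw [h1]; group
      _ = _ := W.xt

/-- (3.2): `T = S ∪ xS` -/
theorem claimB [Finite G] (W : SwData t c b x n S D) {T : Subgroup G} (hT : IsPGroup 2 T) (hST : S ≤ T) (hxT : x ∈ T) :
    ∀ g ∈ T, g ∈ S ∨ x⁻¹ * g ∈ S := by
  set T1 : Subgroup G := T ⊓ Subgroup.normalizer (S : Set G) with hT1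
  have hT1S : ∀ a ∈ T1, ∀ s ∈ S, a * s * a⁻¹ ∈ S := by
    intro a ha s hs
    exact (Subgroup.mem_normalizer_iff.1 ha.2 s).1 hs
  have hA : ∀ a ∈ T1, a ∈ S ∨ x⁻¹ * a ∈ S := fun a ha => claimA W hT hST hxT ha.1 (hT1S a ha)
  have hST1 : S ≤ T1 := le_inf hST Subgroup.le_normalizer
  have hxT1 : x ∈ T1 := ⟨hxT, mem_norm W.xS⟩
  by_cases hne : T1 = T
  · intro g hg
    exact hA g (hne ▸ hg)
  exfalso
  obtain ⟨g, hgT, hg1, hgN⟩ := grow (inf_le_left : T1 ≤ T) hT hne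
  -- membership in `T1` from the conjugate of `t`
  have hback : ¬ (g * t * g⁻¹ = t ∨ g * t * g⁻¹ = t * c ^ 2 ^ (n - 2)) := by
    intro h
    apply hg1
    rcases mem_of_conj W hT hST hxT hgT h with h1 | h1
    · exact hST1 h1
    · have h2 := mul_mem hxT1 (hST1 h1)
      rwa [mul_inv_cancel_left] at h2
  -- the conjugate of `i`
  have hi1 : c ^ 2 ^ (n - 2) ∈ T1 := hST1 (D_le_S W (i_mem W))
  have hicomm : ∀ a ∈ T1, g * c ^ 2 ^ (n - 2) * g⁻¹ * a = a * (g * c ^ 2 ^ (n - 2) * g⁻¹) := by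
    intro a ha
    have h2 := i_comm_T W (hA _ (conj_inv_mem hgN ha))
    calc g * c ^ 2 ^ (n - 2) * g⁻¹ * a = g * (c ^ 2 ^ (n - 2) * (g⁻¹ * a * g)) * g⁻¹ := by group
      _ = g * ((g⁻¹ * a * g) * c ^ 2 ^ (n - 2)) * g⁻¹ := by rw [h2]
      _ = a * (g * c ^ 2 ^ (n - 2) * g⁻¹) := by group
  have hiS : g * c ^ 2 ^ (n - 2) * g⁻¹ ∈ S :=
    mem_of_comm W.syl hT hST (mul_mem (mul_mem hgT (hT1.le.trans inf_le_left hi1)) (inv_mem hgT))
      (hicomm t (hST1 (t_mem_S W)))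
  have hi : g * c ^ 2 ^ (n - 2) * g⁻¹ = c ^ 2 ^ (n - 2) := by
    have hx := hicomm x hxT1
    rcases center_S W hiS (fun e he => hicomm e (hST1 (D_le_S W he))) with h | h | h | h
    · exfalso
      apply i_ne W
      have h1 : c ^ 2 ^ (n - 2) = g⁻¹ * (g * c ^ 2 ^ (n - 2) * g⁻¹) * g := by group
      rw [h1, h]
      group
    · exact h
    · exfalso
      rw [h] at hx
      have h1 := W.xt
      rw [← hx, mul_inv_cancel_right] at h1
      exact i_ne W (mul_left_cancel (a := t) (by rw [← h1, mul_one]))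
    · exfalso
      rw [h] at hx
      have h1 := xti W
      rw [← hx, mul_inv_cancel_right] at h1
      exact i_ne W (mul_left_cancel (a := t) (by rw [h1, mul_one]))
  -- the conjugate of `t`
  have huT1 : g * t * g⁻¹ ∈ T1 := hgN t (hST1 (t_mem_S W))
  have hu2 : (g * t * g⁻¹) * (g * t * g⁻¹) = 1 := by
    have : (g * t * g⁻¹) * (g * t * g⁻¹) = g * (t * t) * g⁻¹ := by group
    rw [this, W.t_sq]
    group
  have hconj : ∀ a ∈ T1, a * (g * t * g⁻¹) * a⁻¹ = g * t * g⁻¹ ∨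
      a * (g * t * g⁻¹) * a⁻¹ = g * t * g⁻¹ * c ^ 2 ^ (n - 2) := by
    intro a ha
    have h2 := conj_t_T W (hA _ (conj_inv_mem hgN ha))
    have h3 : a * (g * t * g⁻¹) * a⁻¹ = g * ((g⁻¹ * a * g) * t * (g⁻¹ * a * g)⁻¹) * g⁻¹ := by group
    rcases h2 with h2 | h2
    · left
      rw [h3, h2]
    · right
      rw [h3, h2]
      calc g * (t * c ^ 2 ^ (n - 2)) * g⁻¹ = (g * t * g⁻¹) * (g * c ^ 2 ^ (n - 2) * g⁻¹) := by group
        _ = _ := by rw [hi]
  set u := g * t * g⁻¹ with hu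
  rcases hA u huT1 with huS | huS
  · obtain ⟨d, hd, h | h⟩ := (W.S_eq u).1 huS
    · exact W.not_conj g (by rw [← hu, h]; exact hd)
    · obtain ⟨k, rfl | rfl⟩ := (mem_D W).1 hd
      · -- `u = t c^k`
        apply hback
        have h1 : c ^ k * c ^ k = 1 := by
          have h2 : (t * c ^ k) * (t * c ^ k) = (t * t) * (c ^ k * c ^ k) := by
            rw [mul_assoc t (c ^ k), ← mul_assoc (c ^ k) t, ← W.tD _ hd]
            group
          rw [h, h2, W.t_sq, one_mul] at hu2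
          exact hu2
        have h3 : ∀ e ∈ D, c ^ k * e = e * c ^ k := by
          intro e he
          obtain ⟨m, rfl | rfl⟩ := (mem_D W).1 he
          · rw [← zpow_add, ← zpow_add, add_comm]
          · have h4 : c ^ (-k) = c ^ k := by
              rw [zpow_neg]
              exact inv_eq_of_mul_eq_one_left h1
            rw [mul_assoc (c ^ m), b_mul W, h4, ← mul_assoc, ← mul_assoc, ← zpow_add, ← zpow_add, add_comm]
        rcases center_D W hd h3 with h4 | h4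
        · left
          rw [h, h4, mul_one]
        · right
          rw [h, h4]
      · -- `u = t c^k b`
        obtain ⟨m, ⟨m', hm⟩, h1⟩ := conj_xS W (one_mem S) k
        rw [mul_one] at h1
        have h2 : x * u * x⁻¹ = t * c ^ 2 ^ (n - 2) * (c ^ m * b) := by
          rw [h, ← h1, ← W.xt]
          group
        obtain ⟨e', he'⟩ := even_e W
        rcases hconj x hxT1 with h3 | h3
        · rw [h2, h, mul_assoc t] at h3
          have h4 := mul_left_cancel h3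
          rw [← mul_assoc, i_eq, ← zpow_add] at h4
          obtain ⟨r, hr⟩ := even_of_eq W (mul_right_cancel h4)
          omega
        · rw [h2, h, mul_assoc t, mul_assoc t, mul_assoc (c ^ k), i_comm W (b_mem W)] at h3
          have h4 := mul_left_cancel h3
          rw [← mul_assoc, ← mul_assoc, i_eq, ← zpow_add, ← zpow_add] at h4
          obtain ⟨r, hr⟩ := even_of_eq W (mul_right_cancel h4)
          omega
  · -- `u = x s`
    obtain ⟨m, ⟨m', hm⟩, h1⟩ := conj_xS W huS 0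
    rw [mul_inv_cancel_left, zpow_zero, one_mul] at h1
    have h2 : b * u * b⁻¹ = c ^ (-m) * u := by
      have h3 : b * u * b⁻¹ = b * (u * b * u⁻¹)⁻¹ * u := by group
      rw [h3, h1, zpow_neg]
      group
    have h4 : u * c ^ 2 ^ (n - 2) = c ^ 2 ^ (n - 2) * u := i_comm_T W (Or.inr huS)
    obtain ⟨e', he'⟩ := even_e W
    rcases hconj b (hST1 (D_le_S W (b_mem W))) with h3 | h3
    · rw [h2] at h3
      have h5 : c ^ (-m) = c ^ (0 : ℤ) := by
        rw [zpow_zero]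
        exact mul_right_cancel (b := u) (by rw [h3, one_mul])
      obtain ⟨r, hr⟩ := even_of_eq W h5
      omega
    · rw [h2, h4] at h3
      have h5 := mul_right_cancel h3
      rw [i_eq] at h5
      obtain ⟨r, hr⟩ := even_of_eq W h5
      omega

/-- (3.3), `x² ∈ tD`: transfer with the cyclic quotient `T/D` of order 4 -/
theorem sw_false_cyclic [Finite G] (W : SwData t c b x n S D) (hTC : TC t) {T : Subgroup G} (hT : IsSyl2 ⊤ T)
    (hST : S ≤ T) (hxT : x ∈ T) (hall : ∀ g ∈ T, g ∈ S ∨ x⁻¹ * g ∈ S) {d : G} (hd : d ∈ D) (hx2 : x * x = t * d) :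
    False := by
  have hDT : D ≤ T := (D_le_S W).trans hST
  have hDS : D.relIndex S = 2 := by
    refine relIndex_two (D_le_S W) (t_mem_S W) W.t_notin ?_
    intro y hy
    obtain ⟨e, he, rfl | rfl⟩ := (W.S_eq y).1 hy
    · exact Or.inl he
    · right
      rwa [inv_mul_cancel_left]
  have hST2 : S.relIndex T = 2 := relIndex_two hST hxT (x_notin W) hall
  have h4 : D.relIndex T = 4 := by
    rw [← Subgroup.relIndex_mul_relIndex D S T (D_le_S W) hST, hDS, hST2]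
  have hSD : ∀ s ∈ S, ∀ e ∈ D, s * e * s⁻¹ ∈ D := by
    intro s hs e he
    obtain ⟨f, hf, rfl | rfl⟩ := (W.S_eq s).1 hs
    · exact mul_mem (mul_mem hf he) (inv_mem hf)
    · have h1 := mul_mem (mul_mem hf he) (inv_mem hf)
      have h2 : t * f * e * (t * f)⁻¹ = t * (f * e * f⁻¹) * t⁻¹ := by group
      rw [h2, W.tD _ h1, mul_inv_cancel_right]
      exact h1
  have hnorm : ∀ g ∈ T, ∀ u ∈ D, g * u * g⁻¹ ∈ D := by
    intro g hg u hu
    rcases hall g hg with h | h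
    · exact hSD g h u hu
    · have h1 : g * u * g⁻¹ = x * ((x⁻¹ * g) * u * (x⁻¹ * g)⁻¹) * x⁻¹ := by group
      rw [h1]
      exact W.xD _ (hSD _ h u hu)
  suffices hgen : ∀ g ∈ T, ∃ k : ℕ, g * x ^ k ∈ D by
    obtain ⟨g, hg⟩ := hTC T D hT hDT hnorm h4 ⟨x, hxT, hgen⟩ (hST (t_mem_S W)) W.t_notin
    exact W.not_conj g hg
  -- the quotient is generated by `x`
  have hxt : x * t * x = t * c ^ 2 ^ (n - 2) * (x * x) := by
    rw [← W.xt]
    group
  intro g hg
  rcases hall g hg with h | h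
  · obtain ⟨e, he, rfl | rfl⟩ := (W.S_eq g).1 h
    · exact ⟨0, by rwa [pow_zero, mul_one]⟩
    · refine ⟨2, ?_⟩
      rw [pow_two, hx2, W.tD e he]
      have : e * t * (t * d) = e * ((t * t) * d) := by group
      rw [this, W.t_sq, one_mul]
      exact mul_mem he hd
  · obtain ⟨e, he, h1 | h1⟩ := (W.S_eq _).1 h
    · refine ⟨3, ?_⟩
      have h2 : g = x * e := by rw [← h1, mul_inv_cancel_left]
      have h3 : g * x ^ 3 = (x * e * x⁻¹) * ((x * x) * (x * x)) := by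
        rw [h2, pow_succ, pow_two]
        group
      have h5 : (x * x) * (x * x) = d * d := by
        rw [hx2, W.tD d hd]
        have : d * t * (d * t) = d * (t * d) * t := by group
        rw [this, W.tD d hd]
        have : d * (d * t) * t = d * d * (t * t) := by group
        rw [this, W.t_sq, mul_one]
      rw [h3, h5]
      exact mul_mem (W.xD e he) (mul_mem hd hd)
    · refine ⟨1, ?_⟩
      have h2 : g = x * (t * e) := by rw [← h1, mul_inv_cancel_left]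
      have h3 : g * x ^ 1 = (x * t * x) * (x⁻¹ * e * x) := by
        rw [h2]
        group
      have h5 : t * c ^ 2 ^ (n - 2) * (x * x) = c ^ 2 ^ (n - 2) * d := by
        rw [hx2, ti W]
        have : c ^ 2 ^ (n - 2) * t * (t * d) = c ^ 2 ^ (n - 2) * ((t * t) * d) := by group
        rw [this, W.t_sq, one_mul]
      rw [h3, hxt, h5]
      exact mul_mem (mul_mem (i_mem W) hd) (conj_inv_mem W.xD he)

/-- **piece S** -/
theorem sw_false [Finite G] (W : SwData t c b x n S D) (hTT : TT t) (hTC : TC t) : False := by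
  obtain ⟨T, hT, hST, hxT⟩ := exists_syl W.syl.two W.x_two W.xS
  have hall := claimB W hT.two hST hxT
  have hDT : D ≤ T := (D_le_S W).trans hST
  -- `x² ∈ S`
  have hx2 : x * x ∈ S := by
    rcases hall _ (mul_mem hxT hxT) with h | h
    · exact h
    · rw [inv_mul_cancel_left] at h
      exact absurd h (x_notin W)
  obtain ⟨d, hd, hx2 | hx2⟩ := (W.S_eq _).1 hx2
  swap
  · exact sw_false_cyclic W hTC hT hST hxT hall hd hx2
  -- the two subgroups
  have hw : ∀ e ∈ D, (x * t) * e * (x * t)⁻¹ ∈ D := by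
    intro e he
    have h1 : (x * t) * e * (x * t)⁻¹ = x * (t * e * t⁻¹) * x⁻¹ := by group
    rw [h1, W.tD e he, mul_inv_cancel_right]
    exact W.xD e he
  have hw2 : (x * t) * (x * t) ∈ D := by
    have h1 : (x * t) * (x * t) = (x * t * x⁻¹) * (x * x) * t := by group
    have h2 : t * c ^ 2 ^ (n - 2) * d * t = c ^ 2 ^ (n - 2) * d := by
      have h3 := W.tD _ (mul_mem (i_mem W) hd)
      rw [mul_assoc t, h3, mul_assoc, W.t_sq, mul_one]
    rw [h1, hx2, W.xt, h2]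
    exact mul_mem (i_mem W) hd
  have hx2' : x * x ∈ D := by
    rw [hx2]
    exact hd
  have hxti : ∀ e ∈ D, x⁻¹ * (t * (x * (t * e))) ∈ D := by
    intro e he
    have h1 : x⁻¹ * (t * (x * (t * e))) = (x⁻¹ * t * x) * (t * e) := by group
    have h2 : t * c ^ 2 ^ (n - 2) * (t * e) = c ^ 2 ^ (n - 2) * e := by
      rw [ti W]
      have : c ^ 2 ^ (n - 2) * t * (t * e) = c ^ 2 ^ (n - 2) * ((t * t) * e) := by group
      rw [this, W.t_sq, one_mul]
    rw [h1, xinv_t W, h2]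
    exact mul_mem (i_mem W) he
  have hxt' : ∀ e ∈ D, (x * t)⁻¹ * (t * (x * e)) ∈ D := by
    intro e he
    have h1 : (x * t)⁻¹ * (t * (x * e)) = t⁻¹ * (x⁻¹ * t * x) * e := by group
    rw [h1, xinv_t W, inv_mul_cancel_left]
    exact mul_mem (i_mem W) he
  have ht0 : t ∉ ext D x W.xD hx2' := by
    rw [mem_ext]
    rintro (h | h)
    · exact W.t_notin h
    · apply x_notin W
      have h1 : x = t * (x⁻¹ * t)⁻¹ := by group
      rw [h1]
      exact mul_mem (t_mem_S W) (inv_mem (D_le_S W h))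
  have ht0' : t ∉ ext D (x * t) hw hw2 := by
    rw [mem_ext]
    rintro (h | h)
    · exact W.t_notin h
    · apply x_notin W
      have h1 : x = t * ((x * t)⁻¹ * t)⁻¹ * t⁻¹ := by group
      rw [h1]
      exact mul_mem (mul_mem (t_mem_S W) (inv_mem (D_le_S W h))) (inv_mem (t_mem_S W))
  have hle0 : ext D x W.xD hx2' ≤ T := by
    intro g hg
    rcases mem_ext.1 hg with h | h
    · exact hDT h
    · have h1 := mul_mem hxT (hDT h)
      rwa [mul_inv_cancel_left] at h1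
  have hle0' : ext D (x * t) hw hw2 ≤ T := by
    intro g hg
    rcases mem_ext.1 hg with h | h
    · exact hDT h
    · have h1 := mul_mem (mul_mem hxT (hST (t_mem_S W))) (hDT h)
      rwa [mul_inv_cancel_left] at h1
  have hr0 : (ext D x W.xD hx2').relIndex T = 2 := by
    refine relIndex_two hle0 (hST (t_mem_S W)) ht0 ?_
    intro g hg
    rcases hall g hg with h | h
    · obtain ⟨e, he, rfl | rfl⟩ := (W.S_eq g).1 h
      · exact Or.inl (mem_ext.2 (Or.inl he))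
      · exact Or.inr (mem_ext.2 (Or.inl (by rwa [inv_mul_cancel_left])))
    · obtain ⟨e, he, h1 | h1⟩ := (W.S_eq _).1 h
      · exact Or.inl (mem_ext.2 (Or.inr (by rwa [h1])))
      · right
        refine mem_ext.2 (Or.inr ?_)
        have h2 : g = x * (t * e) := by rw [← h1, mul_inv_cancel_left]
        rw [h2, t_inv W]
        exact hxti e he
  have hr0' : (ext D (x * t) hw hw2).relIndex T = 2 := by
    refine relIndex_two hle0' (hST (t_mem_S W)) ht0' ?_
    intro g hg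
    rcases hall g hg with h | h
    · obtain ⟨e, he, rfl | rfl⟩ := (W.S_eq g).1 h
      · exact Or.inl (mem_ext.2 (Or.inl he))
      · exact Or.inr (mem_ext.2 (Or.inl (by rwa [inv_mul_cancel_left])))
    · obtain ⟨e, he, h1 | h1⟩ := (W.S_eq _).1 h
      · right
        refine mem_ext.2 (Or.inr ?_)
        have h2 : g = x * e := by rw [← h1, mul_inv_cancel_left]
        rw [h2, t_inv W]
        exact hxt' e he
      · left
        refine mem_ext.2 (Or.inr ?_)
        have h2 : g = x * (t * e) := by rw [← h1, mul_inv_cancel_left]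
        have h3 : (x * t)⁻¹ * g = e := by
          rw [h2]
          group
        rwa [h3]
  obtain ⟨g1, hg1⟩ := hTT T _ hT hle0 hr0 (hST (t_mem_S W)) ht0
  obtain ⟨g2, hg2⟩ := hTT T _ hT hle0' hr0' (hST (t_mem_S W)) ht0'
  have hsq : ∀ g : G, (g * t * g⁻¹) * (g * t * g⁻¹) = 1 := by
    intro g
    have : (g * t * g⁻¹) * (g * t * g⁻¹) = g * (t * t) * g⁻¹ := by group
    rw [this, W.t_sq]
    group
  have hu1 := hsq g1
  have hu2 := hsq g2
  rcases mem_ext.1 hg1 with h1 | h1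
  · exact W.not_conj g1 h1
  rcases mem_ext.1 hg2 with h2 | h2
  · exact W.not_conj g2 h2
  set u := g1 * t * g1⁻¹ with hu
  set u' := g2 * t * g2⁻¹ with hu'
  -- `u = x d₁`, `u' = x t d₂`
  obtain ⟨m, ⟨m', hm⟩, h3⟩ := conj_xS W (D_le_S W h1) 0
  rw [mul_inv_cancel_left, zpow_zero, one_mul] at h3
  have huD : ∀ e ∈ D, u * e * u⁻¹ ∈ D := by
    intro e he
    have h4 : u * e * u⁻¹ = x * ((x⁻¹ * u) * e * (x⁻¹ * u)⁻¹) * x⁻¹ := by group
    rw [h4]
    exact W.xD _ (mul_mem (mul_mem h1 he) (inv_mem h1))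
  obtain ⟨l, ⟨l', hl⟩, h4⟩ := conj_c W huD
  -- `u` inverts `c`
  have h5 : c ^ ((l + 1) * m) = 1 := by
    have h6 : u * (u * b * u⁻¹) * u⁻¹ = b := by
      have h7 : u * (u * b * u⁻¹) * u⁻¹ = (u * u) * b * (u * u)⁻¹ := by group
      rw [h7, hu1, one_mul, inv_one, mul_one]
    rw [h3] at h6
    have h8 : u * (c ^ m * b) * u⁻¹ = (u * c ^ m * u⁻¹) * (u * b * u⁻¹) := by group
    rw [h8, h3, h4, ← mul_assoc, ← zpow_add] at h6
    have h9 : c ^ (l * m + m) = 1 := mul_right_cancel (b := b) (by rw [h6, one_mul])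
    rw [← h9]
    congr 1
    ring
  have h6 : c ^ (l + 1) = 1 := by
    have h7 : (2 ^ (n - 1) : ℤ) ∣ (l + 1) * m := by
      rw [← orderOf_dvd_iff_zpow_eq_one, W.c_ord] at h5
      exact_mod_cast h5
    have h8 : IsCoprime (2 ^ (n - 1) : ℤ) m := by
      apply IsCoprime.pow_left
      exact ⟨-m', 1, by rw [sub_zero] at hm; rw [hm]; ring⟩
    have h9 := h8.dvd_of_dvd_mul_right h7
    rw [← orderOf_dvd_iff_zpow_eq_one, W.c_ord]
    exact_mod_cast h9
  have h7 : ∀ k : ℤ, u * c ^ k * u⁻¹ = c ^ (-k) := by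
    intro k
    rw [h4, zpow_mul]
    have h8 : c ^ l = c⁻¹ := by
      rw [← mul_left_inj c, inv_mul_cancel, ← zpow_add_one]
      exact h6
    rw [h8, inv_zpow, zpow_neg]
  -- `u' = u t e`
  have he : t⁻¹ * (u⁻¹ * u') ∈ D := by
    have h8 : t⁻¹ * (u⁻¹ * u') = t⁻¹ * (x⁻¹ * u)⁻¹ * (t * ((x * t)⁻¹ * u')) := by group
    have h9 : t⁻¹ * (x⁻¹ * u)⁻¹ * t = (x⁻¹ * u)⁻¹ := by
      rw [mul_assoc, ← W.tD _ (inv_mem h1), inv_mul_cancel_left]
    rw [h8, ← mul_assoc, h9]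
    exact mul_mem (inv_mem h1) h2
  set e := t⁻¹ * (u⁻¹ * u') with hedef
  have h8 : u' = u * t * e := by
    rw [hedef]
    group
  have h9 : u * t * u⁻¹ = t * c ^ 2 ^ (n - 2) := by
    rw [← W.xt]
    have h10 : (x⁻¹ * u) * t = t * (x⁻¹ * u) := (W.tD _ h1).symm
    calc u * t * u⁻¹ = x * ((x⁻¹ * u) * t) * (x⁻¹ * u)⁻¹ * x⁻¹ := by group
      _ = x * t * x⁻¹ := by rw [h10]; group
  have h10 : c ^ 2 ^ (n - 2) * (u * e * u⁻¹) * e = 1 := by
    have h11 : u' * u' = (u * t * u⁻¹) * (u * e * u⁻¹) * (u * u) * (t * e) := by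
      rw [h8]
      group
    rw [h11, h9, hu1, mul_one] at hu2
    have h12 : t * c ^ 2 ^ (n - 2) * (u * e * u⁻¹) * (t * e) = c ^ 2 ^ (n - 2) * (u * e * u⁻¹) * e := by
      have h13 := W.tD _ (mul_mem (i_mem W) (huD e he))
      rw [mul_assoc t, h13, mul_assoc, ← mul_assoc t, W.t_sq, one_mul]
    rw [h12] at hu2
    exact hu2
  obtain ⟨k, hk | hk⟩ := (mem_D W).1 he
  · rw [hk, h7, mul_assoc, ← zpow_add, neg_add_cancel, zpow_zero, mul_one] at h10
    exact i_ne W h10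
  · have h11 : u * e * u⁻¹ = c ^ (m - k) * b := by
      rw [hk]
      have h12 : u * (c ^ k * b) * u⁻¹ = (u * c ^ k * u⁻¹) * (u * b * u⁻¹) := by group
      rw [h12, h7, h3, ← mul_assoc, ← zpow_add]
      congr 2
      ring
    rw [h11, hk, ← mul_assoc (c ^ 2 ^ (n - 2)), i_eq, ← zpow_add] at h10
    have h12 : c ^ (((2 ^ (n - 2) : ℕ) : ℤ) + (m - k)) * b * (c ^ k * b) =
        c ^ (((2 ^ (n - 2) : ℕ) : ℤ) + (m - k) + -k) := by
      rw [mul_assoc, ← mul_assoc b, b_mul W, mul_assoc _ b b, W.b_sq, mul_one, ← zpow_add]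
    rw [h12, ← zpow_zero c] at h10
    obtain ⟨r, hr⟩ := even_of_eq W h10
    obtain ⟨e', he'⟩ := even_e W
    omega

end Cfsg.Agent.OddCyclic.B2Sw
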