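import Cfsg.Agent.OddCyclic.B2SpecOf
import Cfsg.Agent.OddCyclic.B2Special
import Cfsg.Agent.OddCyclic.B2Nsw
import Cfsg.Agent.OddCyclic.B2Sw
import Cfsg.Agent.OddCyclic.B2Trans
import Cfsg.Agent.OddCyclic.B2E16
import Cfsg.Agent.OddCyclic.B2SpecClass

/-!
# S0342, case B2: assembly from `B2Pgl.Hyp`
-/

set_option autoImplicit false

namespace Cfsg.Agent.OddCyclic.B2Main

open Cfsg Subgroup
open Cfsg.Agent.LieExceptional.CITDefs (Elem IsSyl2)
open Cfsg.Agent.OddCyclic.B2Defs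
open Cfsg.Agent.OddCyclic.B2Pgl

variable {G : Type*} [Group G] [Finite G]

/-- case B2, with (1.4)–(1.7) as hypotheses -/
theorem false_of_hyp_of [IsSimpleGroup G] (hnab : ∃ a b : G, a * b ≠ b * a) (hG : Cfsg.Agent.OddCyclic.T1Defs.OddCyc G)
    (hk : ∀ J : Subgroup G, J ≠ ⊤ → IsQuasisimple J →
      Cfsg.Lie.IsoSuzuki (J ⧸ center J) ∨ (3 ∣ Nat.card J ∧ B2Special.OneClass (J ⧸ center J)))
    (hE16 : ∀ {t h y : G} {V P F T₄ T : Subgroup G}, Loc t h V → TypeY t h y V → FourData t h y V P F T₄ → IsSyl2 ⊤ T →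
      T₄ ≤ T → T₄ ≠ T → Elem F → Nat.card F = 16 → (∀ f ∈ F, ∀ g : G, g * t * g⁻¹ ≠ y * f) → TT t → False)
    (hE16Z : ∀ {t h y : G} {V P F T₄ T : Subgroup G}, Loc t h V → TypeZ t h y V → FourData t h y V P F T₄ → IsSyl2 ⊤ T →
      T₄ ≤ T → T₄ ≠ T → Elem F → Nat.card F = 16 → False)
    {F : Type*} [Field F] [Fintype F] {t : G} {K : Subgroup G} (h : Hyp F t K)
    (hFive : Fintype.card F < 7 → ∀ {V : Subgroup G} {w y : G}, V ≤ K → Loc t w V → NswAt t V → TypeS F t w y V K →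
      False) : False := by
  have hTT := B2Trans.tt hnab h.t_sq
  have hTC := B2Trans.tc hnab h.t_sq
  rcases B2SwOf.sw_of h with ⟨V, hV, hE, h4, hn⟩ | ⟨c, b, x, n, S, D, W⟩
  · obtain ⟨w, -, hL, hty⟩ := h.exists_loc hV hE h4
    have key : (TypeN t w V ∨ (∃ y, TypeY t w y V) ∨ ∃ y, TypeZ t w y V) → False := fun hty' =>
      B2Nsw.nsw_false_of hL hn hTT hTC (fun a b c d e f g i j => hE16 hL a b c d e f g i j)
        (fun a b c d e f g => hE16Z hL a b c d e f g) hty'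
    rcases hty with h1 | h1 | h1 | ⟨y, h1⟩
    · exact key (Or.inl h1)
    · exact key (Or.inr (Or.inl h1))
    · exact key (Or.inr (Or.inr h1))
    · by_cases h7 : 7 ≤ Fintype.card F
      · obtain ⟨i, Z, hs⟩ := B2SpecOf.spec_of h h7 hV hL h1
        exact B2Special.special_false hG hk hs hn
      · exact hFive (not_le.1 h7) hV hL hn h1
  · exact B2Sw.sw_false W hTT hTC

/-- **case B2**, `p ≥ 5`; for `p = 5` with the remaining configuration of section 2 as a hypothesis -/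
theorem false_of_hyp_five [IsSimpleGroup G] (hnab : ∃ a b : G, a * b ≠ b * a)
    (hG : Cfsg.Agent.OddCyclic.T1Defs.OddCyc G)
    (hk : ∀ J : Subgroup G, J ≠ ⊤ → IsQuasisimple J → PumpMain.KZero (J ⧸ center J))
    {F : Type*} [Field F] [Fintype F] {t : G} {K : Subgroup G} (h : Hyp F t K)
    (hFive : Fintype.card F < 7 → ∀ {V : Subgroup G} {w y : G}, V ≤ K → Loc t w V → NswAt t V → TypeS F t w y V K →
      False) : False := by
  refine false_of_hyp_of hnab hG (fun J hJ hq => ?_)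
    (fun L Y D hT hle hne hE h16 hyF hTT => B2E16.sixteen_false' L (B2LemA.three L) Y D hT hle hne hE h16 hyF hTT)
    (fun L Y D hT hle hne hE h16 => B2E16.sixteen_false_Z L Y D hT hle hne hE h16) h hFive
  have hs : IsSimpleGroup (J ⧸ center J) := hq.2
  rcases B2SpecClass.oneClass_of_kZero (hk J hJ hq) with h1 | ⟨h1, h2⟩
  · exact Or.inl h1
  · exact Or.inr ⟨h1.trans (Subgroup.card_quotient_dvd_card _), h2⟩

/-- **case B2**, `p ≥ 7` -/
theorem false_of_hyp [IsSimpleGroup G] (hnab : ∃ a b : G, a * b ≠ b * a)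
    (hG : Cfsg.Agent.OddCyclic.T1Defs.OddCyc G)
    (hk : ∀ J : Subgroup G, J ≠ ⊤ → IsQuasisimple J → PumpMain.KZero (J ⧸ center J))
    {F : Type*} [Field F] [Fintype F] {t : G} {K : Subgroup G} (h : Hyp F t K) (h7 : 7 ≤ Fintype.card F) : False :=
  false_of_hyp_five hnab hG hk h (fun h' => absurd h' (not_lt.2 h7))

end Cfsg.Agent.OddCyclic.B2Main
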