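import Cfsg.Agent.OddCyclic.B2Nsw
import Cfsg.Agent.OddCyclic.B2E16

/-!
# S0342, case B2: `nsw_false` (section 1 complete)
-/

set_option autoImplicit false
universe u

namespace Cfsg.Agent.OddCyclic.B2NswTop

open Cfsg.Agent.LieExceptional.CITDefs Cfsg.Agent.OddCyclic.B2Defs Subgroup

variable {G : Type u} [Group G] [Finite G]

theorem nsw_false [IsSimpleGroup G] (hnab : ∃ a b : G, a * b ≠ b * a) {t h : G} {V : Subgroup G} (L : Loc t h V)
    (hn : NswAt t V) (hty : TypeN t h V ∨ (∃ y, TypeY t h y V) ∨ ∃ y, TypeZ t h y V) : False :=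
  B2Nsw.nsw_false_of L hn (B2Trans.tt hnab L.t_sq) (B2Trans.tc hnab L.t_sq)
    (fun Y D hT hle hne hE h16 hyF hTT =>
      B2E16.sixteen_false' L (B2LemA.three L) Y D hT hle hne hE h16 hyF hTT)
    (fun Z D hT hle hne hE h16 => B2E16.sixteen_false_Z L Z D hT hle hne hE h16) hty

end Cfsg.Agent.OddCyclic.B2NswTop
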