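import Cfsg.Agent.OddCyclic.B2SpecCore
import Cfsg.Agent.OddCyclic.T1SzFacts
import Cfsg.Agent.OddCyclic.T1SzComp
import Cfsg.Agent.ThreePrime.Pump

/-!
# S0342, case B2, section 2: the components of `C_G(i)`
-/

set_option autoImplicit false

namespace Cfsg.Agent.OddCyclic.B2SpecComp

open Subgroup Cfsg
open Cfsg.Agent.LieExceptional.CITDefs Cfsg.Agent.LieExceptional.CITBasic Cfsg.Agent.OddCyclic.B2Defs
  Cfsg.Agent.OddCyclic.B2SpecFus
  Cfsg.Agent.OddCyclic.B2SpecThree Cfsg.Agent.OddCyclic.B2SpecCore Cfsg.Agent.OddCyclic.T1Defs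
  Cfsg.Agent.OddCyclic.CompBasic

universe u

variable {G : Type u} [Group G] [Finite G] {t h y i : G} {V Z : Subgroup G}

/-- the centraliser of `i` -/
abbrev C (i : G) : Subgroup G := centralizer ({i} : Set G)

omit [Finite G] in
theorem mem_C {x : G} : x ∈ C i ↔ x * i = i * x := mem_centralizer_singleton_iff

theorem oddCore_C (s : Spec t h y i V Z) (hn : NswAt t V) (hG : OddCyc G) : oddCore (C i) = ⊥ := by
  have hnorm : (oddCore (C i)).Normal := Cfsg.Agent.Lib.Cores.pPrimeCore_normal 2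
  have h1 : (oddCore (C i)).map (C i).subtype = ⊥ := by
    apply J_bot s hn hG
    · rintro _ ⟨x, -, rfl⟩
      exact mem_C.1 x.2
    · rintro c hc _ ⟨x, hx, rfl⟩
      exact ⟨⟨c, mem_C.2 hc⟩ * x * ⟨c, mem_C.2 hc⟩⁻¹, hnorm.conj_mem x hx _, rfl⟩
    · rw [Subgroup.card_map_of_injective (C i).subtype_injective]
      exact Nat.coprime_two_right.mp (Cfsg.Agent.Lib.Cores.pPrimeCore_coprime 2)
  exact (Subgroup.map_eq_bot_iff_of_injective _ (C i).subtype_injective).1 h1

/-- `Z` centralises `O₂(C(i))` -/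
theorem cent_O2 (s : Spec t h y i V Z) {z : G} (hz : z ∈ Z) (q : C i) (hq : q ∈ pCore 2 (C i)) :
    (⟨z, mem_C.2 (s.Z_i z hz)⟩ : C i) * q = q * ⟨z, mem_C.2 (s.Z_i z hz)⟩ := by
  have : Fact (Nat.Prime 2) := ⟨Nat.prime_two⟩
  have hN : (pCore 2 (C i)).Normal := Cfsg.Agent.Lib.Cores.pCore_normal 2
  set z' : C i := ⟨z, mem_C.2 (s.Z_i z hz)⟩ with hz'
  set t' : C i := ⟨t, mem_C.2 (t_i s)⟩ with ht'
  have ht2 : t' * t' = 1 := Subtype.ext s.t_sq
  have hzt : Commute z' t' := Subtype.ext (s.Z_t z hz)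
  have hodd : Odd (orderOf z') := by
    rw [hz', Subgroup.orderOf_mk]
    exact Odd.of_dvd_nat s.Z_odd (Z.orderOf_dvd_natCard hz)
  have hcop : (Nat.card (zpowers z')).Coprime 2 := by
    rw [Nat.card_zpowers]
    exact Nat.coprime_two_right.2 hodd
  have hP : IsPGroup 2 (zpowers t') := by
    rintro ⟨_, k, rfl⟩
    refine ⟨1, ?_⟩
    apply Subtype.ext
    show (t' ^ k) ^ 2 ^ 1 = 1
    rw [pow_one, ← zpow_natCast, zpow_comm, zpow_natCast, pow_two, ht2, one_zpow]
  have h1 := Cfsg.Agent.Lib.ThompsonPQ.thompson_p_times_q 2 (zpowers t') (zpowers z') (pCore 2 (C i)) hP hcop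
    (Cfsg.Agent.Lib.Cores.pCore_isPGroup 2)
    (by
      rw [zpowers_le, mem_centralizer_iff]
      rintro _ ⟨k, rfl⟩
      exact (hzt.zpow_left k))
    (by rw [normalizer_eq_top]; exact le_top)
    (by rw [normalizer_eq_top]; exact le_top)
    (by
      rintro q ⟨hq1, hq2⟩
      have hqt : q * t' = t' * q := (mem_centralizer_iff.1 hq2 t' (Subgroup.mem_zpowers t')).symm
      have hqz : Commute q z' := by
        have hw1 : q * z' * q⁻¹ * z'⁻¹ ∈ pCore 2 (C i) := by
          have e : q * z' * q⁻¹ * z'⁻¹ = q * (z' * q⁻¹ * z'⁻¹) := by group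
          rw [e]
          exact mul_mem hq1 (hN.conj_mem _ (inv_mem hq1) _)
        have hw2 : ((q * z' * q⁻¹ * z'⁻¹ : C i) : G) ∈ Z := by
          have h2 := norm_Z s (g := (q : G)) (congrArg Subtype.val hqt) (mem_C.1 q.2) hz
          exact Z.mul_mem h2 (Z.inv_mem hz)
        obtain ⟨k, hk⟩ := Cfsg.Agent.Lib.Cores.pCore_isPGroup (G := C i) 2 ⟨_, hw1⟩
        have hk' : ((q * z' * q⁻¹ * z'⁻¹ : C i) : G) ^ 2 ^ k = 1 :=
          congrArg (fun x : pCore 2 (C i) => ((x : C i) : G)) hk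
        have h3 := eq_one_of_sq_sq hw2 s.Z_odd hk'
        have h4 : q * z' * q⁻¹ * z'⁻¹ = 1 := Subtype.ext h3
        have h5 : q * z' * q⁻¹ = z' := mul_inv_eq_one.1 h4
        exact mul_inv_eq_iff_eq_mul.1 h5
      rw [mem_centralizer_iff]
      rintro _ ⟨k, rfl⟩
      exact (hqz.zpow_right k).symm.eq)
  have h2 := h1 (Subgroup.mem_zpowers z')
  exact (mem_centralizer_iff.1 h2 q hq).symm

/-- `C_G(i)` has a component -/
theorem exists_cmp (s : Spec t h y i V Z) (hn : NswAt t V) (hG : OddCyc G) : ∃ L : Subgroup G, Cmp (C i) L := by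
  by_contra hcon
  push Not at hcon
  obtain ⟨z, hz, hz1⟩ : ∃ z ∈ Z, z ≠ 1 := by
    by_contra hc
    push Not at hc
    exact s.Z_ne ((Subgroup.eq_bot_iff_forall Z).2 hc)
  have hodd : Odd (orderOf (⟨z, mem_C.2 (s.Z_i z hz)⟩ : C i)) := by
    rw [Subgroup.orderOf_mk]
    exact Odd.of_dvd_nat s.Z_odd (Z.orderOf_dvd_natCard hz)
  have h1 := Cfsg.Agent.ThreePrime.Pump.eq_one_of_centralises (oddCore_C s hn hG) hodd (cent_O2 s hz) (by
    intro K hK
    exfalso
    apply hcon (K.map (C i).subtype)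
    refine ⟨map_subtype_le _, ?_⟩
    rw [Subgroup.subgroupOf, Subgroup.comap_map_eq_self_of_injective (C i).subtype_injective]
    exact hK)
  exact hz1 (congrArg Subtype.val h1)

/-- 2-subgroups of `C_G(t)` have order at most 16 -/
theorem card_le_sixteen (s : Spec t h y i V Z) {A : Subgroup G} (hA : IsPGroup 2 A)
    (hAt : ∀ a ∈ A, a * t = t * a) : Nat.card A ≤ 16 := by
  obtain ⟨T, hT, hAT⟩ := exists_isSyl2 (centralizer ({t} : Set G)) A
    (fun a ha => mem_centralizer_singleton_iff.2 (hAt a ha)) hA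
  obtain ⟨m, -, hm⟩ := IsSyl2.conj (S_syl s) hT
  have h1 : Nat.card T = Nat.card (S s) := by
    rw [hm]
    exact Subgroup.card_map_of_injective (MulAut.conj m).injective
  have h2 : Nat.card A ≤ Nat.card T := Subgroup.card_le_of_le hAT
  have h3 : Nat.card (S s) ≤ 16 := by
    -- `S` is the union of four cosets of `V`
    let f : Fin 4 × V → S s := fun p => match p with
      | (0, v) => ⟨v, v, v.2, Or.inl rfl⟩
      | (1, v) => ⟨t * v, v, v.2, Or.inr (Or.inl rfl)⟩
      | (2, v) => ⟨y * v, v, v.2, Or.inr (Or.inr (Or.inl rfl))⟩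
      | (3, v) => ⟨t * (y * v), v, v.2, Or.inr (Or.inr (Or.inr rfl))⟩
    have hf : Function.Surjective f := by
      rintro ⟨g, v, hv, h | h | h | h⟩
      · exact ⟨(0, ⟨v, hv⟩), Subtype.ext h.symm⟩
      · exact ⟨(1, ⟨v, hv⟩), Subtype.ext h.symm⟩
      · exact ⟨(2, ⟨v, hv⟩), Subtype.ext h.symm⟩
      · exact ⟨(3, ⟨v, hv⟩), Subtype.ext h.symm⟩
    have := Nat.card_le_card_of_surjective f hf
    rw [Nat.card_prod, s.card_V, Nat.card_fin] at this
    omega
  omega

/-- the centre of a perfect group with cyclic odd Sylow subgroups is a 2-group -/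
theorem center_two {K : Type*} [Group K] [Finite K] (hK : OddCyc K) (hp : Group.IsPerfect K) :
    IsPGroup 2 (center K) := by
  rintro ⟨z, hz⟩
  obtain ⟨k, m, hm, hkm⟩ := Nat.exists_eq_two_pow_mul_odd (orderOf_pos z).ne'
  refine ⟨k, ?_⟩
  apply Subtype.ext
  show z ^ 2 ^ k = 1
  apply eq_one_of_center hK hp ((center K).pow_mem hz _)
  have h1 : orderOf (z ^ 2 ^ k) = m := by
    rw [orderOf_pow_of_dvd (by positivity) ⟨m, hkm⟩, hkm, Nat.mul_div_cancel_left _ (by positivity)]
  rw [h1]; exact hm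

/-- if `j` commutes with `P` modulo the centre then `|P| ≤ |Z| |C_P(j)|` -/
theorem card_le_mul {K : Type*} [Group K] [Finite K] (j : K) (P : Subgroup K)
    (h : ∀ x ∈ P, x * j * x⁻¹ * j⁻¹ ∈ center K) :
    Nat.card P ≤ Nat.card (center K) * Nat.card (P ⊓ centralizer ({j} : Set K) : Subgroup K) := by
  set D := P ⊓ centralizer ({j} : Set K) with hD
  have h1 : Nat.card (P ⧸ D.subgroupOf P) ≤ Nat.card (center K) := by
    let f : P → center K := fun x => ⟨x * j * (x : K)⁻¹ * j⁻¹, h x x.2⟩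
    have hf : ∀ x y : P, f x = f y ↔ x⁻¹ * y ∈ D.subgroupOf P := by
      intro x y
      have h2 : f x = f y ↔ (x : K) * j * (x : K)⁻¹ = y * j * (y : K)⁻¹ := by
        constructor
        · intro h
          exact mul_right_cancel (congrArg Subtype.val h)
        · intro h
          apply Subtype.ext
          show (x : K) * j * (x : K)⁻¹ * j⁻¹ = y * j * (y : K)⁻¹ * j⁻¹
          rw [h]
      have h3 : x⁻¹ * y ∈ D.subgroupOf P ↔ (x : K)⁻¹ * y * j = j * ((x : K)⁻¹ * y) := by
        rw [Subgroup.mem_subgroupOf, hD, Subgroup.mem_inf, mem_centralizer_singleton_iff]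
        constructor
        · exact fun h => h.2
        · exact fun h => ⟨P.mul_mem (P.inv_mem x.2) y.2, h⟩
      rw [h2, h3]
      constructor
      · intro h
        calc (x : K)⁻¹ * y * j = (x : K)⁻¹ * (y * j * (y : K)⁻¹) * y := by group
          _ = (x : K)⁻¹ * (x * j * (x : K)⁻¹) * y := by rw [h]
          _ = _ := by group
      · intro h
        calc (x : K) * j * (x : K)⁻¹ = x * (j * ((x : K)⁻¹ * y)) * (y : K)⁻¹ := by group
          _ = x * ((x : K)⁻¹ * y * j) * (y : K)⁻¹ := by rw [h]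
          _ = _ := by group
    let F : (P ⧸ D.subgroupOf P) → center K := Quotient.lift f (by
      intro a b hab
      exact (hf a b).2 (QuotientGroup.leftRel_apply.1 hab))
    apply Nat.card_le_card_of_injective F
    intro a b
    refine Quotient.inductionOn₂ a b (fun x y hxy => ?_)
    apply Quotient.sound
    exact QuotientGroup.leftRel_apply.2 ((hf x y).1 hxy)
  have h2 := Subgroup.card_eq_card_quotient_mul_card_subgroup (D.subgroupOf P)
  have h3 : Nat.card (D.subgroupOf P) = Nat.card D :=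
    Nat.card_congr (Subgroup.subgroupOfEquivOfLe (inf_le_left : D ≤ P)).toEquiv
  rw [h2, h3]
  exact Nat.mul_le_mul_right _ h1

omit [Finite G] in
theorem conj_L {L : Subgroup G} (hL : C i ≤ normalizer (L : Set G)) {g : G} (hg : g * i = i * g) {x : G}
    (hx : x ∈ L) : g * x * g⁻¹ ∈ L :=
  (mem_normalizer_iff.1 (hL (mem_C.2 hg)) x).1 hx

/-- the components of `C_G(i)` are not of Suzuki type -/
theorem not_suzuki (s : Spec t h y i V Z) (hG : OddCyc G) {L : Subgroup G} (hL : Cmp (C i) L)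
    (hsz : Cfsg.Lie.IsoSuzuki (L ⧸ center L)) : False := by
  have : Fact (Nat.Prime 2) := ⟨Nat.prime_two⟩
  have h5 : 5 ∣ Nat.card L :=
    (T1SzComp.five_dvd hsz).trans (Subgroup.card_quotient_dvd_card _)
  have hn : C i ≤ normalizer (L : Set G) := hL.le_normalizer hG (by norm_num) (by norm_num) h5
  have hperf : Group.IsPerfect L := hL.quasi.1
  have htn : t ∈ normalizer (L : Set G) := hn (mem_C.2 (t_i s))
  -- `t` acts on `L` as an inner automorphism
  let φ : MulAut L := L.normalizerMonoidHom ⟨t, htn⟩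
  have hφ : ∀ x : L, ((φ x : L) : G) = t * x * t⁻¹ := fun x => rfl
  have hφ2 : φ ^ 2 ^ 1 = 1 := by
    rw [pow_one, pow_two, ← map_mul]
    have : (⟨t, htn⟩ : normalizer (L : Set G)) * ⟨t, htn⟩ = 1 := Subtype.ext s.t_sq
    rw [this, map_one]
  obtain ⟨P₀⟩ : Nonempty (Sylow 2 (L ⧸ center L)) := inferInstance
  obtain ⟨D₀, hD₀⟩ := Cfsg.Agent.ThreePrime.SzRel.exists_szData hsz P₀
  obtain ⟨j₀, hj₀⟩ := hD₀.inner (ThreePrime.AutQuot.autQuot L φ) ⟨1, by rw [← map_pow, hφ2, map_one]⟩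
  obtain ⟨j, rfl⟩ := QuotientGroup.mk_surjective j₀
  have hφj : φ = MulAut.conj j := ThreePrime.AutQuot.eq_conj_of_autQuot_eq hperf hj₀
  have htj : ∀ x : L, t * (x : G) * t⁻¹ = (j : G) * x * (j : G)⁻¹ := by
    intro x
    rw [← hφ, hφj]
    rfl
  -- `j²` is central
  have hjj : j * j ∈ center L := by
    rw [mem_center_iff]
    intro g
    apply Subtype.ext
    show (g : G) * (j * j) = j * j * g
    have e1 : (j : G) * (j * g * (j : G)⁻¹) * (j : G)⁻¹ = g := by
      have h1 := htj (j * g * j⁻¹)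
      have h2 : ((j * g * j⁻¹ : L) : G) = t * g * t⁻¹ := (htj g).symm
      rw [h2] at h1
      have h3 : t * (t * (g : G) * t⁻¹) * t⁻¹ = g := by
        calc t * (t * (g : G) * t⁻¹) * t⁻¹ = (t * t) * g * (t * t)⁻¹ := by group
          _ = g := by rw [s.t_sq]; group
      rw [h3] at h1
      rw [← htj g]
      exact h1.symm
    calc (g : G) * (j * j) = ((j : G) * (j * g * (j : G)⁻¹) * (j : G)⁻¹) * (j * j) := by rw [e1]
      _ = _ := by group
  set jb : L ⧸ center L := QuotientGroup.mk j with hjb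
  have hjb2 : jb * jb = 1 := by
    rw [hjb, ← QuotientGroup.mk_mul, QuotientGroup.eq_one_iff]
    exact hjj
  -- a Sylow 2-subgroup containing `j` modulo the centre
  have hz : IsPGroup 2 (zpowers jb) := by
    rintro ⟨_, k, rfl⟩
    refine ⟨1, ?_⟩
    apply Subtype.ext
    show (jb ^ k) ^ 2 ^ 1 = 1
    rw [pow_one, ← zpow_natCast, zpow_comm, zpow_natCast, pow_two, hjb2, one_zpow]
  obtain ⟨P₁, hP₁⟩ := hz.exists_le_sylow
  have hjP : jb ∈ (P₁ : Subgroup (L ⧸ center L)) := hP₁ (Subgroup.mem_zpowers jb)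
  have hmore := T1SzFacts.szMore hsz P₁
  have hcent := (hmore.sq_iff jb hjP).1 hjb2
  have h64 : 64 ≤ Nat.card (P₁ : Subgroup (L ⧸ center L)) := by
    rw [hmore.card_eq]
    have := hmore.eight_le
    nlinarith
  set P : Subgroup L := (P₁ : Subgroup (L ⧸ center L)).comap (QuotientGroup.mk' (center L)) with hP
  have hmem : ∀ x ∈ P, x * j * x⁻¹ * j⁻¹ ∈ center L := by
    intro x hx
    rw [← QuotientGroup.eq_one_iff]
    have h1 := hcent (QuotientGroup.mk x) hx
    rw [QuotientGroup.mk_mul, QuotientGroup.mk_mul, QuotientGroup.mk_mul, QuotientGroup.mk_inv, QuotientGroup.mk_inv]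
    rw [mul_inv_eq_one, mul_inv_eq_iff_eq_mul]
    exact h1.symm
  have hcard : Nat.card P = Nat.card (center L) * Nat.card (P₁ : Subgroup (L ⧸ center L)) := by
    have h1 : P.index = (P₁ : Subgroup (L ⧸ center L)).index :=
      Subgroup.index_comap_of_surjective _ (QuotientGroup.mk'_surjective (center L))
    have h2 := P.card_mul_index
    have h3 := (P₁ : Subgroup (L ⧸ center L)).card_mul_index
    have h4 := Subgroup.card_eq_card_quotient_mul_card_subgroup (center L)
    have h6 : 0 < P.index := Nat.pos_of_ne_zero P.index_ne_zero_of_finite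
    apply Nat.eq_of_mul_eq_mul_right h6
    rw [h2, h4, ← h3, h1]
    ring
  have h7 := card_le_mul j P hmem
  rw [hcard] at h7
  have h8 := Nat.le_of_mul_le_mul_left h7 Nat.card_pos
  set D := P ⊓ centralizer ({j} : Set L) with hDdef
  have hctwo : IsPGroup 2 (center L) := center_two (oddCyc_subgroup hG L) hperf
  have hPtwo : IsPGroup 2 P := by
    rw [hP]
    apply P₁.isPGroup'.comap_of_ker_isPGroup
    rw [QuotientGroup.ker_mk']
    exact hctwo
  have hDtwo : IsPGroup 2 (D.map L.subtype) := (hPtwo.to_le inf_le_left).map _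
  have h9 := card_le_sixteen s hDtwo (by
    rintro _ ⟨x, hx, rfl⟩
    have h1 : x * j = j * x := mem_centralizer_singleton_iff.1 hx.2
    have h2 : (x : G) * j = j * x := congrArg Subtype.val h1
    have h3 := htj x
    show (x : G) * t = t * x
    have h4 : t * (x : G) * t⁻¹ = x := by rw [h3, ← h2]; group
    exact (mul_inv_eq_iff_eq_mul.1 h4).symm)
  rw [Subgroup.card_map_of_injective L.subtype_injective] at h9
  omega

end Cfsg.Agent.OddCyclic.B2SpecComp
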