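import Cfsg.Agent.OddCyclic.B2SpecThree
import Cfsg.Agent.OddCyclic.CompBasic
import Cfsg.Agent.J2Sylow.InvSylow

/-!
# S0342, case B2, section 2: the odd core of `C_G(i)` is trivial
-/

set_option autoImplicit false

namespace Cfsg.Agent.OddCyclic.B2SpecCore

open Subgroup
open Cfsg.Agent.LieExceptional.CITDefs Cfsg.Agent.OddCyclic.B2Defs Cfsg.Agent.OddCyclic.B2SpecFus
  Cfsg.Agent.OddCyclic.B2SpecThree Cfsg.Agent.OddCyclic.T1Defs

variable {G : Type*} [Group G] {t h y i : G} {V Z : Subgroup G}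

/-- `S` normalises `Z` -/
theorem S_norm_Z (s : Spec t h y i V Z) {u z : G} (hu : u ∈ S s) (hz : z ∈ Z) : u * z * u⁻¹ ∈ Z := by
  have hv : ∀ v ∈ V, ∀ z ∈ Z, v * z * v⁻¹ ∈ Z := by
    intro v hv z hz
    by_cases h1 : v = 1
    · rw [h1]; simpa using hz
    by_cases h2 : v = i
    · rw [h2, ← s.Z_i z hz]
      have : z * i * i⁻¹ = z := by group
      rwa [this]
    rw [s.Z_v v hv h1 h2 z hz]
    exact Z.inv_mem hz
  have ht : ∀ z ∈ Z, t * z * t⁻¹ ∈ Z := by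
    intro z hz
    rw [← s.Z_t z hz]
    have : z * t * t⁻¹ = z := by group
    rwa [this]
  have hy : ∀ z ∈ Z, y * z * y⁻¹ ∈ Z := by
    intro z hz
    rw [s.Z_y z hz]
    exact Z.inv_mem hz
  obtain ⟨v, hvV, h | h | h | h⟩ := hu
  · rw [h]; exact hv v hvV z hz
  · have := ht _ (hv v hvV z hz)
    rw [h]
    have e : t * v * z * (t * v)⁻¹ = t * (v * z * v⁻¹) * t⁻¹ := by group
    rwa [e]
  · have := hy _ (hv v hvV z hz)
    rw [h]
    have e : y * v * z * (y * v)⁻¹ = y * (v * z * v⁻¹) * y⁻¹ := by group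
    rwa [e]
  · have := ht _ (hy _ (hv v hvV z hz))
    rw [h]
    have e : t * (y * v) * z * (t * (y * v))⁻¹ = t * (y * (v * z * v⁻¹) * y⁻¹) * t⁻¹ := by group
    rwa [e]

/-- `C(t) ∩ C(i)` normalises `Z` -/
theorem norm_Z (s : Spec t h y i V Z) {g z : G} (ht : g * t = t * g) (hi : g * i = i * g) (hz : z ∈ Z) :
    g * z * g⁻¹ ∈ Z := by
  obtain ⟨w, hw, u, hu, rfl⟩ := gen s ht hi
  have h1 := S_norm_Z s hu hz
  have e : w * u * z * (w * u)⁻¹ = w * (u * z * u⁻¹) * w⁻¹ := by group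
  rw [e]
  exact Z.mul_mem (Z.mul_mem hw h1) (Z.inv_mem hw)

theorem pow_four_eq_one (s : Spec t h y i V Z) {u : G} (hu : u ∈ S s) : u ^ 2 ^ 2 = 1 := by
  have h1 : u ^ 2 ^ 2 = (u * u) * (u * u) := by
    rw [show (2 : ℕ) ^ 2 = 4 by norm_num]
    simp only [pow_succ, pow_zero, one_mul]
    group
  rw [h1]
  rcases S_sq s hu with h | h
  · rw [h, one_mul]
  · rw [h, ii s]

theorem eq_one_of_odd_two {u : G} {n k : ℕ} (hn : Odd n) (h1 : u ^ n = 1) (h2 : u ^ 2 ^ k = 1) : u = 1 := by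
  have h3 := Nat.dvd_gcd (orderOf_dvd_of_pow_eq_one h1) (orderOf_dvd_of_pow_eq_one h2)
  have h4 : n.Coprime (2 ^ k) := Nat.Coprime.pow_right _ (Nat.coprime_two_right.2 hn)
  rw [h4] at h3
  exact orderOf_eq_one_iff.1 (Nat.dvd_one.1 h3)

/-- elements of odd order of `C(t) ∩ C(i)` lie in `Z` -/
theorem mem_Z_of_odd (s : Spec t h y i V Z) {x : G} (ht : x * t = t * x) (hi : x * i = i * x)
    (hodd : Odd (orderOf x)) : x ∈ Z := by
  obtain ⟨z, hz, u, hu, rfl⟩ := gen s ht hi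
  have h1 : ∀ n : ℕ, ∃ w ∈ Z, (z * u) ^ n = w * u ^ n := by
    intro n
    induction n with
    | zero => exact ⟨1, Z.one_mem, by simp⟩
    | succ n ih =>
      obtain ⟨w, hw, h⟩ := ih
      refine ⟨w * (u ^ n * z * (u ^ n)⁻¹), Z.mul_mem hw (S_norm_Z s ((S s).pow_mem hu n) hz), ?_⟩
      rw [pow_succ, h, pow_succ]
      group
  obtain ⟨w, hw, h2⟩ := h1 (orderOf (z * u))
  rw [pow_orderOf_eq_one] at h2
  have h3 : u ^ orderOf (z * u) ∈ Z := by
    have : u ^ orderOf (z * u) = w⁻¹ := (inv_eq_of_mul_eq_one_right h2.symm).symm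
    rw [this]
    exact Z.inv_mem hw
  have h4 : u ^ orderOf (z * u) = 1 :=
    eq_one_of_sq_sq h3 s.Z_odd (pow_four_eq_one s ((S s).pow_mem hu _))
  have h5 : u = 1 := eq_one_of_odd_two hodd h4 (pow_four_eq_one s hu)
  rw [h5, mul_one]
  exact hz

/-- a fixed point free involution inverts. -/
theorem fpf_inverts [Finite G] (K : Subgroup G) (j : G) (hj : j * j = 1) (hn : ∀ x ∈ K, j * x * j⁻¹ ∈ K)
    (hf : ∀ x ∈ K, x * j = j * x → x = 1) : ∀ x ∈ K, j * x * j⁻¹ = x⁻¹ := by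
  have hjj : j⁻¹ = j := inv_eq_of_mul_eq_one_left hj
  intro x hx
  let f : K → K := fun y => ⟨(y : G)⁻¹ * (j * y * j⁻¹), K.mul_mem (K.inv_mem y.2) (hn _ y.2)⟩
  have hinj : Function.Injective f := by
    intro y z hyz
    have h2 : (y : G)⁻¹ * (j * y * j⁻¹) = (z : G)⁻¹ * (j * z * j⁻¹) := congrArg Subtype.val hyz
    have h3 : (z : G) * (y : G)⁻¹ = 1 := by
      apply hf _ (K.mul_mem z.2 (K.inv_mem y.2))
      have h4 : (z : G) * (y : G)⁻¹ = j * ((z : G) * (y : G)⁻¹) * j⁻¹ := by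
        calc (z : G) * (y : G)⁻¹ = z * ((y : G)⁻¹ * (j * y * j⁻¹)) * (j * y * j⁻¹)⁻¹ := by group
          _ = z * ((z : G)⁻¹ * (j * z * j⁻¹)) * (j * y * j⁻¹)⁻¹ := by rw [h2]
          _ = _ := by group
      nth_rw 1 [h4]
      group
    exact Subtype.ext (mul_inv_eq_one.mp h3).symm
  obtain ⟨y, hy⟩ := Finite.surjective_of_injective hinj ⟨x, hx⟩
  have h2 : (y : G)⁻¹ * (j * y * j⁻¹) = x := congrArg Subtype.val hy
  rw [← h2]
  calc j * ((y : G)⁻¹ * (j * y * j⁻¹)) * j⁻¹ = j * (y : G)⁻¹ * (j * y * (j⁻¹ * j⁻¹)) := by group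
    _ = j * (y : G)⁻¹ * (j * y) := by rw [hjj, hj, mul_one]
    _ = j * (y : G)⁻¹ * (j⁻¹ * y) := by rw [hjj]
    _ = _ := by group

/-- in a cyclic subgroup elements of the same order generate the same subgroup -/
theorem mem_zpowers [Finite G] {C : Subgroup G} (hC : IsCyclic C) {a b : G} (ha : a ∈ C) (hb : b ∈ C)
    (h : orderOf a = orderOf b) : a ∈ zpowers b := by
  have h1 : zpowers (⟨a, ha⟩ : C) = zpowers (⟨b, hb⟩ : C) :=
    CompBasic.zpowers_eq_of_cyclic (by rw [Subgroup.orderOf_mk, Subgroup.orderOf_mk, h])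
  have h2 : (⟨a, ha⟩ : C) ∈ zpowers (⟨b, hb⟩ : C) := by rw [← h1]; exact Subgroup.mem_zpowers _
  obtain ⟨k, hk⟩ := h2
  exact ⟨k, congrArg Subtype.val hk⟩

variable [Finite G]

/-- an element of prime order of `J` commuting with the involution `u` of `A` can be moved into the `A`-invariant
Sylow subgroup `R` -/
theorem exists_mem {J R A : Subgroup G} (hA : IsPGroup 2 A) (hJ : Odd (Nat.card J))
    (hAJ : ∀ s ∈ A, ∀ x ∈ J, s * x * s⁻¹ ∈ J) {r : ℕ} (hr : r.Prime) (hRJ : R ≤ J) (hR : IsPGroup r R)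
    (hRi : ¬ r ∣ R.relIndex J) (hAR : ∀ s ∈ A, ∀ x ∈ R, s * x * s⁻¹ ∈ R) {u x : G} (hu : u ∈ A)
    (hx : x ∈ J) (hxr : orderOf x = r) (hxu : x * u = u * x) :
    ∃ x₁ ∈ R, orderOf x₁ = r ∧ x₁ * u = u * x₁ := by
  have hA' : IsPGroup 2 (zpowers u) := hA.to_le (by rwa [zpowers_le])
  have hle : zpowers u ≤ A := by rwa [zpowers_le]
  have hux : ∀ s ∈ zpowers u, s * x = x * s := by
    rintro _ ⟨k, rfl⟩
    exact ((show Commute x u from hxu).zpow_right k).symm.eq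
  have hxp : IsPGroup r (zpowers x) := by
    have : Fact r.Prime := ⟨hr⟩
    exact IsPGroup.of_card (n := 1) (by rw [Nat.card_zpowers, hxr, pow_one])
  obtain ⟨P, hxP, hPJ, hP, hPi, hAP⟩ := Cfsg.Agent.J2Sylow.InvSylow.exists_inv_sylow (A := zpowers u)
    (K := J) (Y := zpowers x) hr hA' hJ (fun s hs => hAJ s (hle hs)) (by rwa [zpowers_le]) hxp
    (by
      rintro s hs _ ⟨k, rfl⟩
      refine ⟨k, ?_⟩
      have h1 : Commute s (x ^ k) := (show Commute s x from hux s hs).zpow_right k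
      show x ^ k = s * x ^ k * s⁻¹
      rw [h1.eq]; group)
  obtain ⟨c, hcJ, hcu, hc⟩ := Cfsg.Agent.J2Sylow.InvSylow.conj_of_inv (A := zpowers u) (K := J) (P := R) (Q := P)
    hr hA' hJ (fun s hs => hAJ s (hle hs)) hRJ hR hRi (fun s hs => hAR s (hle hs)) hPJ hP hPi hAP
  refine ⟨c⁻¹ * x * c, (hc x).1 (hxP (Subgroup.mem_zpowers x)), ?_, ?_⟩
  · have : orderOf (c⁻¹ * x * c) = orderOf x := by
      have h1 : c⁻¹ * x * c = MulAut.conj c⁻¹ x := by rw [MulAut.conj_apply, inv_inv]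
      rw [h1]
      exact orderOf_injective (MulAut.conj c⁻¹).toMonoidHom (MulAut.conj c⁻¹).injective x
    rw [this, hxr]
  · have h1 : u * c = c * u := hcu u (Subgroup.mem_zpowers u)
    have h2 : c⁻¹ * u = u * c⁻¹ := by
      calc c⁻¹ * u = c⁻¹ * (u * c) * c⁻¹ := by group
        _ = c⁻¹ * (c * u) * c⁻¹ := by rw [h1]
        _ = _ := by group
    calc c⁻¹ * x * c * u = c⁻¹ * x * (c * u) := by group
      _ = c⁻¹ * (x * u) * c := by rw [← h1]; group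
      _ = (c⁻¹ * u) * x * c := by rw [hxu]; group
      _ = _ := by rw [h2]; group

/-- `C_J(t) = 1` -/
theorem fix_t (s : Spec t h y i V Z) (hn : NswAt t V) (hG : OddCyc G) {J : Subgroup G}
    (hJi : ∀ x ∈ J, x * i = i * x) (hJn : ∀ c : G, c * i = i * c → ∀ x ∈ J, c * x * c⁻¹ ∈ J)
    (hJ : Odd (Nat.card J)) {x : G} (hx : x ∈ J) (hxt : x * t = t * x) : x = 1 := by
  by_contra hx1
  obtain ⟨r, hr, hrx⟩ := Nat.exists_prime_and_dvd (fun h => hx1 (orderOf_eq_one_iff.1 h) : orderOf x ≠ 1)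
  have hrf : Fact r.Prime := ⟨hr⟩
  set x' := x ^ (orderOf x / r) with hx'
  have hx'J : x' ∈ J := J.pow_mem hx _
  have hx'r : orderOf x' = r := orderOf_pow_orderOf_div (orderOf_pos x).ne' hrx
  have hx't : x' * t = t * x' := ((show Commute x t from hxt).pow_left _).eq
  have hr2 : r ≠ 2 := by
    rintro rfl
    have h1 : 2 ∣ Nat.card J := hx'r ▸ J.orderOf_dvd_natCard hx'J
    exact (Nat.not_even_iff_odd.2 hJ) (even_iff_two_dvd.2 h1)
  have hrodd : Odd r := hr.odd_of_ne_two hr2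
  have hSJ : ∀ u ∈ S s, ∀ x ∈ J, u * x * u⁻¹ ∈ J := fun u hu => hJn u (S_i s hu)
  obtain ⟨R, -, hRJ, hR, hRi, hSR⟩ := Cfsg.Agent.J2Sylow.InvSylow.exists_inv_sylow (A := S s) (K := J) (Y := ⊥) hr
    (S_two s) hJ hSJ bot_le IsPGroup.of_bot (by
      intro u _ x hx
      rw [mem_bot] at hx ⊢
      rw [hx]; group)
  have hRc : IsCyclic R := CompBasic.isCyclic_of_isPGroup hG hr hr2 hR
  obtain ⟨a, ha, ha1, hai, hya⟩ := exists_a s
  obtain ⟨b, hb, hbt⟩ := exists_b s hn ha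
  have htm := t_mem s
  have htam : t * a ∈ S s := (S s).mul_mem htm (V_le s ha)
  obtain ⟨x₁, hx₁R, hx₁r, hx₁t⟩ := exists_mem (S_two s) hJ hSJ hr hRJ hR hRi hSR htm hx'J hx'r hx't
  have hbJ : b * x' * b⁻¹ ∈ J := hJn b (hb i s.i_mem) _ hx'J
  have hbr : orderOf (b * x' * b⁻¹) = r := by
    rw [← MulAut.conj_apply, ← hx'r]
    exact orderOf_injective (MulAut.conj b).toMonoidHom (MulAut.conj b).injective _
  have hbta : (b * x' * b⁻¹) * (t * a) = (t * a) * (b * x' * b⁻¹) := by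
    rw [← hbt]
    calc (b * x' * b⁻¹) * (b * t * b⁻¹) = b * (x' * t) * b⁻¹ := by group
      _ = b * (t * x') * b⁻¹ := by rw [hx't]
      _ = _ := by group
  obtain ⟨x₂, hx₂R, hx₂r, hx₂t⟩ := exists_mem (S_two s) hJ hSJ hr hRJ hR hRi hSR htam hbJ hbr hbta
  have h1 := mem_zpowers hRc hx₁R hx₂R (hx₁r.trans hx₂r.symm)
  have h2 : x₁ * (t * a) = (t * a) * x₁ := by
    obtain ⟨k, rfl⟩ := h1
    exact ((show Commute x₂ (t * a) from hx₂t).zpow_left k).eq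
  have h3 : a * x₁ * a⁻¹ = x₁ := by
    have h4 : t * (x₁ * a) = t * (a * x₁) := by
      calc t * (x₁ * a) = (t * x₁) * a := by group
        _ = x₁ * (t * a) := by rw [← hx₁t]; group
        _ = _ := by rw [h2]; group
    rw [← mul_left_cancel h4]; group
  have h5 : x₁ ∈ Z := mem_Z_of_odd s hx₁t (hJi _ (hRJ hx₁R)) (by rwa [hx₁r])
  have h6 := s.Z_v a ha ha1 hai x₁ h5
  rw [h3] at h6
  have h7 : x₁ ^ 2 ^ 1 = 1 := by
    rw [pow_one, pow_two]
    nth_rw 1 [h6]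
    rw [inv_mul_cancel]
  have h8 : x₁ = 1 := eq_one_of_odd_two hrodd (by rw [← hx₁r, pow_orderOf_eq_one]) h7
  rw [h8, orderOf_one] at hx₁r
  exact hr.one_lt.ne hx₁r

/-- odd order normal subgroups of `C(i)` are trivial -/
theorem J_bot (s : Spec t h y i V Z) (hn : NswAt t V) (hG : OddCyc G) {J : Subgroup G}
    (hJi : ∀ x ∈ J, x * i = i * x) (hJn : ∀ c : G, c * i = i * c → ∀ x ∈ J, c * x * c⁻¹ ∈ J)
    (hJ : Odd (Nat.card J)) : J = ⊥ := by
  rw [eq_bot_iff]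
  intro x hx
  rw [mem_bot]
  obtain ⟨⟨g₁, h1, N1⟩, ⟨g₂, h2, N2⟩⟩ := exists_g s hn
  have key : ∀ g e : G, g * e * g⁻¹ = t → g * i = i * g → ∀ x ∈ J, x * e = e * x → x = 1 := by
    intro g e hg hgi x hx hxe
    have h3 : g * x * g⁻¹ = 1 := by
      refine fix_t s hn hG hJi hJn hJ (hJn g hgi x hx) ?_
      rw [← hg]
      calc (g * x * g⁻¹) * (g * e * g⁻¹) = g * (x * e) * g⁻¹ := by group
        _ = g * (e * x) * g⁻¹ := by rw [hxe]
        _ = _ := by group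
    have : x = g⁻¹ * (g * x * g⁻¹) * g := by group
    rw [this, h3]; group
  have hti := t_i s
  have hty2 : (t * y) * (t * y) = 1 := EE_sq s (Or.inr (Or.inr (Or.inr (Or.inl rfl))))
  have htyi : (t * y) * i = i * (t * y) := by rw [mul_assoc, ← s.iy, ← mul_assoc, hti, mul_assoc]
  have i1 := fpf_inverts J t s.t_sq (hJn t hti) (fun x hx hxt => fix_t s hn hG hJi hJn hJ hx hxt) x hx
  have i2 := fpf_inverts J y s.y_sq (hJn y s.iy.symm) (key g₁ y h1 N1.1)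
  have i3 := fpf_inverts J (t * y) hty2 (hJn _ htyi) (key g₂ (t * y) h2 N2.1) x hx
  have i4 : t * y * x * (t * y)⁻¹ = x := by
    calc t * y * x * (t * y)⁻¹ = t * (y * x * y⁻¹) * t⁻¹ := by group
      _ = (t * x * t⁻¹)⁻¹ := by rw [i2 x hx]; group
      _ = x := by rw [i1, inv_inv]
  rw [i4] at i3
  have h7 : x ^ 2 ^ 1 = 1 := by
    rw [pow_one, pow_two]
    nth_rw 1 [i3]
    rw [inv_mul_cancel]
  exact eq_one_of_sq_sq hx hJ h7

end Cfsg.Agent.OddCyclic.B2SpecCore
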