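import Cfsg.Agent.OddCyclic.B2Defs

/-!
# S0342, case B2, section 2: type II, `d = 2`, all outer involutions are conjugate to `t`

`C_G(t) = ⟨t⟩ × PGL₂(p)`, `p ≥ 11`, `p ≡ ±3 mod 8`. `V` is a four-group of `PSL₂(p)`, `y` an involution of
`N(V) ∩ C(t)` acting non-trivially on `V`, `i ∈ V` commutes with `y`, `Z = O(C_G(⟨t, i⟩))`, so
`C_G(⟨t, i⟩) = Z (⟨t⟩ × V⟨y⟩)`.
-/

set_option autoImplicit false

namespace Cfsg.Agent.OddCyclic.B2Defs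

open Cfsg.Agent.LieExceptional.CITDefs

variable {G : Type*} [Group G]

/-- the situation of section 2 -/
structure Spec (t h y i : G) (V Z : Subgroup G) : Prop extends Loc t h V where
  y_sq : y * y = 1
  ty : t * y = y * t
  yV : ∀ v ∈ V, y * v * y⁻¹ ∈ V
  y_not : ∃ v ∈ V, y * v ≠ v * y
  i_mem : i ∈ V
  i_ne : i ≠ 1
  iy : i * y = y * i
  /-- all outer involutions are conjugate to `t` -/
  conj_y : ∃ g : G, g * t * g⁻¹ = y
  conj_ty : ∃ g : G, g * t * g⁻¹ = t * y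
  /-- `Z ≠ 1` of odd order, centralised by `t` and `i`, inverted by `y` and by the elements of `V - ⟨i⟩` -/
  Z_odd : Odd (Nat.card Z)
  Z_ne : Z ≠ ⊥
  Z_t : ∀ z ∈ Z, z * t = t * z
  Z_i : ∀ z ∈ Z, z * i = i * z
  Z_y : ∀ z ∈ Z, y * z * y⁻¹ = z⁻¹
  Z_v : ∀ v ∈ V, v ≠ 1 → v ≠ i → ∀ z ∈ Z, v * z * v⁻¹ = z⁻¹
  Z_gen : ∀ g : G, g * t = t * g → g * i = i * g →
    ∃ z ∈ Z, ∃ v ∈ V, g = z * v ∨ g = z * (t * v) ∨ g = z * (y * v) ∨ g = z * (t * (y * v))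

end Cfsg.Agent.OddCyclic.B2Defs
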