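import Cfsg.Agent.OddCyclic.B2SpecDefs
import Cfsg.Agent.LieExceptional.CITBasic

/-!
# S0342, case B2, section 2: the Sylow 2-subgroup `S = ⟨t⟩ × V⟨y⟩` of `C_G(t)` and fusion

`exists_conj_inner`: `y` is conjugate to `t` by an element of `C_G(i)` normalising `{t^a y^b i^c}`, the same for
`t y`; `three_dvd`: there is an element of order 3 in `C_G(i)` normalising this group.
-/

set_option autoImplicit false

namespace Cfsg.Agent.OddCyclic.B2SpecFus

open Cfsg.Agent.LieExceptional.CITDefs Cfsg.Agent.LieExceptional.CITBasic Cfsg.Agent.OddCyclic.B2Defs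

variable {G : Type*} [Group G] {t h y i : G} {V Z : Subgroup G}

theorem vv (s : Spec t h y i V Z) {v : G} (hv : v ∈ V) : v * v = 1 := s.elem v hv

theorem vinv (s : Spec t h y i V Z) {v : G} (hv : v ∈ V) : v⁻¹ = v := inv_eq_of_mul_eq_one_left (vv s hv)

theorem vcomm (s : Spec t h y i V Z) {v w : G} (hv : v ∈ V) (hw : w ∈ V) : v * w = w * v :=
  s.elem.comm hv hw

theorem tinv (s : Spec t h y i V Z) : t⁻¹ = t := inv_eq_of_mul_eq_one_left s.t_sq
theorem yinv (s : Spec t h y i V Z) : y⁻¹ = y := inv_eq_of_mul_eq_one_left s.y_sq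
theorem ii (s : Spec t h y i V Z) : i * i = 1 := vv s s.i_mem

/-- the elements of the four-group -/
theorem four (s : Spec t h y i V Z) {a : G} (ha : a ∈ V) (ha1 : a ≠ 1) (hai : a ≠ i) {v : G} (hv : v ∈ V) :
    v = 1 ∨ v = i ∨ v = a ∨ v = i * a := by
  classical
  by_contra hcon
  push Not at hcon
  obtain ⟨h1, h2, h3, h4⟩ := hcon
  have hfin : Finite V := Nat.finite_of_card_ne_zero (by rw [s.card_V]; norm_num)
  have := Fintype.ofFinite V
  have hia : i * a ∈ V := V.mul_mem s.i_mem ha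
  have hia1 : i * a ≠ 1 := by
    intro h
    apply hai
    rw [eq_inv_of_mul_eq_one_left h, vinv s ha]
  have hiai : i * a ≠ i := fun h => ha1 (by simpa using h)
  have hiaa : i * a ≠ a := fun h => s.i_ne (by simpa using h)
  let S : Finset V := {⟨1, V.one_mem⟩, ⟨i, s.i_mem⟩, ⟨a, ha⟩, ⟨i * a, hia⟩, ⟨v, hv⟩}
  have hS : S.card = 5 := by
    simp only [S]
    rw [Finset.card_insert_of_notMem, Finset.card_insert_of_notMem, Finset.card_insert_of_notMem,
      Finset.card_insert_of_notMem, Finset.card_singleton]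
    · simp only [Finset.mem_singleton, Subtype.mk.injEq]
      exact fun h => h4 h.symm
    · simp only [Finset.mem_insert, Finset.mem_singleton, Subtype.mk.injEq, not_or]
      exact ⟨fun h => hiaa h.symm, fun h => h3 h.symm⟩
    · simp only [Finset.mem_insert, Finset.mem_singleton, Subtype.mk.injEq, not_or]
      exact ⟨fun h => hai h.symm, fun h => hiai h.symm, fun h => h2 h.symm⟩
    · simp only [Finset.mem_insert, Finset.mem_singleton, Subtype.mk.injEq, not_or]
      exact ⟨fun h => s.i_ne h.symm, fun h => ha1 h.symm, fun h => hia1 h.symm, fun h => h1 h.symm⟩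
  have h5 := Finset.card_le_univ S
  rw [hS, ← Nat.card_eq_fintype_card, s.card_V] at h5
  omega

/-- a third element of `V` and its conjugate under `y` -/
theorem exists_a (s : Spec t h y i V Z) : ∃ a ∈ V, a ≠ 1 ∧ a ≠ i ∧ y * a = i * a * y := by
  obtain ⟨a, ha, hya⟩ := s.y_not
  have ha1 : a ≠ 1 := by
    rintro rfl
    exact hya (by rw [mul_one, one_mul])
  have hai : a ≠ i := by
    rintro rfl
    exact hya s.iy.symm
  refine ⟨a, ha, ha1, hai, ?_⟩
  have h1 := s.yV a ha
  rcases four s ha ha1 hai h1 with h | h | h | h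
  · exfalso
    apply ha1
    have : a = y⁻¹ * (y * a * y⁻¹) * y := by group
    rw [this, h]; group
  · exfalso
    apply hai
    have h2 : a = y⁻¹ * (y * a * y⁻¹) * y := by group
    rw [h] at h2
    rw [h2, mul_assoc, s.iy]
    group
  · exfalso
    apply hya
    calc y * a = (y * a * y⁻¹) * y := by group
      _ = a * y := by rw [h]
  · calc y * a = (y * a * y⁻¹) * y := by group
      _ = i * a * y := by rw [h]

/-- the group `S = ⟨t⟩ × V⟨y⟩` -/
def SS (t y : G) (V : Subgroup G) : Set G := {g | ∃ v ∈ V, g = v ∨ g = t * v ∨ g = y * v ∨ g = t * (y * v)}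

theorem t_mul_mem (s : Spec t h y i V Z) {g : G} (hg : g ∈ SS t y V) : t * g ∈ SS t y V := by
  obtain ⟨v, hv, h | h | h | h⟩ := hg
  · exact ⟨v, hv, Or.inr (Or.inl (by rw [h]))⟩
  · exact ⟨v, hv, Or.inl (by rw [h, ← mul_assoc, s.t_sq, one_mul])⟩
  · exact ⟨v, hv, Or.inr (Or.inr (Or.inr (by rw [h])))⟩
  · exact ⟨v, hv, Or.inr (Or.inr (Or.inl (by rw [h, ← mul_assoc t, s.t_sq, one_mul])))⟩

theorem y_mul_mem (s : Spec t h y i V Z) {g : G} (hg : g ∈ SS t y V) : y * g ∈ SS t y V := by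
  obtain ⟨v, hv, h | h | h | h⟩ := hg
  · exact ⟨v, hv, Or.inr (Or.inr (Or.inl (by rw [h])))⟩
  · exact ⟨v, hv, Or.inr (Or.inr (Or.inr (by rw [h, ← mul_assoc, ← mul_assoc, s.ty])))⟩
  · exact ⟨v, hv, Or.inl (by rw [h, ← mul_assoc, s.y_sq, one_mul])⟩
  · refine ⟨v, hv, Or.inr (Or.inl ?_)⟩
    rw [h]
    calc y * (t * (y * v)) = (y * t) * (y * v) := by group
      _ = (t * y) * (y * v) := by rw [s.ty]
      _ = t * (y * y) * v := by group
      _ = t * v := by rw [s.y_sq, mul_one]

theorem v_mul_mem (s : Spec t h y i V Z) {g w : G} (hw : w ∈ V) (hg : g ∈ SS t y V) : w * g ∈ SS t y V := by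
  have hy' : y * w * y ∈ V := by
    have := s.yV w hw
    rwa [yinv s] at this
  have hwy : w * y = y * (y * w * y) := by
    calc w * y = (y * y) * w * y := by rw [s.y_sq, one_mul]
      _ = _ := by group
  have hwt : w * t = t * w := (s.tV w hw).symm
  obtain ⟨v, hv, h | h | h | h⟩ := hg
  · exact ⟨w * v, V.mul_mem hw hv, Or.inl (by rw [h])⟩
  · exact ⟨w * v, V.mul_mem hw hv, Or.inr (Or.inl (by rw [h, ← mul_assoc, hwt, mul_assoc]))⟩
  · exact ⟨y * w * y * v, V.mul_mem hy' hv, Or.inr (Or.inr (Or.inl (by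
      rw [h, ← mul_assoc, hwy, mul_assoc])))⟩
  · refine ⟨y * w * y * v, V.mul_mem hy' hv, Or.inr (Or.inr (Or.inr ?_))⟩
    rw [h]
    calc w * (t * (y * v)) = (w * t) * y * v := by group
      _ = t * (w * y) * v := by rw [hwt]; group
      _ = t * (y * (y * w * y)) * v := by rw [hwy]
      _ = _ := by group

theorem mul_mem' (s : Spec t h y i V Z) {g k : G} (hk : k ∈ SS t y V) (hg : g ∈ SS t y V) : k * g ∈ SS t y V := by
  obtain ⟨v, hv, h | h | h | h⟩ := hk
  · rw [h]; exact v_mul_mem s hv hg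
  · rw [h, mul_assoc]; exact t_mul_mem s (v_mul_mem s hv hg)
  · rw [h, mul_assoc]; exact y_mul_mem s (v_mul_mem s hv hg)
  · rw [h, mul_assoc, mul_assoc]; exact t_mul_mem s (y_mul_mem s (v_mul_mem s hv hg))

theorem inv_mem' (s : Spec t h y i V Z) {g : G} (hg : g ∈ SS t y V) : g⁻¹ ∈ SS t y V := by
  have h1 : (1 : G) ∈ SS t y V := ⟨1, V.one_mem, Or.inl rfl⟩
  obtain ⟨v, hv, h | h | h | h⟩ := hg
  · rw [h, vinv s hv]; exact ⟨v, hv, Or.inl rfl⟩
  · rw [h, mul_inv_rev, vinv s hv, tinv s]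
    exact v_mul_mem s hv (by simpa using t_mul_mem s h1)
  · rw [h, mul_inv_rev, vinv s hv, yinv s]
    exact v_mul_mem s hv (by simpa using y_mul_mem s h1)
  · rw [h, mul_inv_rev, mul_inv_rev, vinv s hv, tinv s, yinv s, mul_assoc]
    exact v_mul_mem s hv (y_mul_mem s (by simpa using t_mul_mem s h1))

/-- `S` as a subgroup -/
def S (s : Spec t h y i V Z) : Subgroup G where
  carrier := SS t y V
  one_mem' := ⟨1, V.one_mem, Or.inl rfl⟩
  mul_mem' := fun ha hb => mul_mem' s ha hb
  inv_mem' := fun ha => inv_mem' s ha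

theorem mem_S (s : Spec t h y i V Z) {g : G} :
    g ∈ S s ↔ ∃ v ∈ V, g = v ∨ g = t * v ∨ g = y * v ∨ g = t * (y * v) := Iff.rfl

theorem t_mem (s : Spec t h y i V Z) : t ∈ S s := ⟨1, V.one_mem, Or.inr (Or.inl (mul_one t).symm)⟩
theorem y_mem (s : Spec t h y i V Z) : y ∈ S s := ⟨1, V.one_mem, Or.inr (Or.inr (Or.inl (mul_one y).symm))⟩
theorem V_le (s : Spec t h y i V Z) : V ≤ S s := fun v hv => ⟨v, hv, Or.inl rfl⟩

/-- `S` centralises `i` and `t` -/
theorem S_i (s : Spec t h y i V Z) {g : G} (hg : g ∈ S s) : g * i = i * g := by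
  obtain ⟨v, hv, h | h | h | h⟩ := hg
  · rw [h]; exact vcomm s hv s.i_mem
  · rw [h, mul_assoc, vcomm s hv s.i_mem, ← mul_assoc, s.tV i s.i_mem, mul_assoc]
  · rw [h, mul_assoc, vcomm s hv s.i_mem, ← mul_assoc, ← s.iy, mul_assoc]
  · rw [h]
    calc t * (y * v) * i = t * y * (v * i) := by group
      _ = t * (y * i) * v := by rw [vcomm s hv s.i_mem]; group
      _ = (t * i) * y * v := by rw [← s.iy]; group
      _ = _ := by rw [s.tV i s.i_mem]; group

theorem S_t (s : Spec t h y i V Z) {g : G} (hg : g ∈ S s) : g * t = t * g := by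
  obtain ⟨v, hv, h | h | h | h⟩ := hg
  · rw [h]; exact (s.tV v hv).symm
  · rw [h, mul_assoc, ← s.tV v hv]
  · rw [h, mul_assoc, ← s.tV v hv, ← mul_assoc, ← s.ty, mul_assoc]
  · rw [h]
    calc t * (y * v) * t = t * y * (v * t) := by group
      _ = t * (y * t) * v := by rw [← s.tV v hv]; group
      _ = _ := by rw [← s.ty]; group

/-- squares of elements of `S` -/
theorem S_sq (s : Spec t h y i V Z) {g : G} (hg : g ∈ S s) : g * g = 1 ∨ g * g = i := by
  obtain ⟨a, ha, ha1, hai, hya⟩ := exists_a s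
  have hyv : ∀ v ∈ V, (y * v) * (y * v) = 1 ∨ (y * v) * (y * v) = i := by
    intro v hv
    rcases four s ha ha1 hai hv with h | h | h | h
    · left; rw [h, mul_one, s.y_sq]
    · left; rw [h]
      calc y * i * (y * i) = (y * i) * y * i := by group
        _ = i * (y * y) * i := by rw [← s.iy]; group
        _ = 1 := by rw [s.y_sq, mul_one, ii s]
    · right; rw [h]
      calc y * a * (y * a) = (y * a) * y * a := by group
        _ = i * a * (y * y) * a := by rw [hya]; group
        _ = i * (a * a) := by rw [s.y_sq]; group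
        _ = i := by rw [vv s ha, mul_one]
    · right; rw [h]
      have h1 : y * (i * a) = a * y := by
        calc y * (i * a) = (y * i) * a := by group
          _ = i * (y * a) := by rw [← s.iy]; group
          _ = (i * i) * a * y := by rw [hya]; group
          _ = a * y := by rw [ii s, one_mul]
      calc y * (i * a) * (y * (i * a)) = (y * (i * a)) * y * (i * a) := by group
        _ = a * (y * y) * (i * a) := by rw [h1]; group
        _ = (a * i) * a := by rw [s.y_sq]; group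
        _ = i * (a * a) := by rw [vcomm s ha s.i_mem]; group
        _ = i := by rw [vv s ha, mul_one]
  obtain ⟨v, hv, h | h | h | h⟩ := hg
  · left; rw [h]; exact vv s hv
  · left; rw [h]
    calc t * v * (t * v) = t * (v * t) * v := by group
      _ = (t * t) * (v * v) := by rw [← s.tV v hv]; group
      _ = 1 := by rw [s.t_sq, vv s hv, one_mul]
  · rw [h]; exact hyv v hv
  · have h1 : g * g = (y * v) * (y * v) := by
      have h2 : y * v * t = t * (y * v) := S_t s (⟨v, hv, Or.inr (Or.inr (Or.inl rfl))⟩)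
      rw [h]
      calc t * (y * v) * (t * (y * v)) = t * (y * v * t) * (y * v) := by group
        _ = (t * t) * (y * v) * (y * v) := by rw [h2]; group
        _ = _ := by rw [s.t_sq, one_mul]
    rw [h1]; exact hyv v hv

theorem S_two (s : Spec t h y i V Z) : IsPGroup 2 (S s) := by
  rintro ⟨g, hg⟩
  refine ⟨2, ?_⟩
  apply Subtype.ext
  show g ^ 2 ^ 2 = 1
  have h1 : g ^ 2 ^ 2 = (g * g) * (g * g) := by
    rw [show (2 : ℕ) ^ 2 = 4 by norm_num]
    simp only [pow_succ, pow_zero, one_mul]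
    group
  rw [h1]
  rcases S_sq s hg with h | h
  · rw [h, one_mul]
  · rw [h, ii s]

/-- `C(t) ∩ C(i) = Z S` -/
theorem gen (s : Spec t h y i V Z) {g : G} (ht : g * t = t * g) (hi : g * i = i * g) :
    ∃ z ∈ Z, ∃ u ∈ S s, g = z * u := by
  obtain ⟨z, hz, v, hv, h⟩ := s.Z_gen g ht hi
  rcases h with h | h | h | h
  · exact ⟨z, hz, v, ⟨v, hv, Or.inl rfl⟩, h⟩
  · exact ⟨z, hz, _, ⟨v, hv, Or.inr (Or.inl rfl)⟩, h⟩
  · exact ⟨z, hz, _, ⟨v, hv, Or.inr (Or.inr (Or.inl rfl))⟩, h⟩
  · exact ⟨z, hz, _, ⟨v, hv, Or.inr (Or.inr (Or.inr rfl))⟩, h⟩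

theorem eq_one_of_sq_sq {z : G} (hz : z ∈ Z) (hodd : Odd (Nat.card Z)) {k : ℕ} (h : z ^ 2 ^ k = 1) : z = 1 := by
  have h1 : orderOf z ∣ 2 ^ k := orderOf_dvd_of_pow_eq_one h
  have h2 : orderOf z ∣ Nat.card Z := Z.orderOf_dvd_natCard hz
  have h3 : (Nat.card Z).Coprime (2 ^ k) := Nat.Coprime.pow_right _ (Nat.coprime_two_right.2 hodd)
  have h4 := Nat.dvd_gcd h2 h1
  rw [h3] at h4
  exact orderOf_eq_one_iff.1 (Nat.dvd_one.1 h4)

variable [Finite G]

/-- `S` is a Sylow 2-subgroup of `C_G(t)` -/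
theorem S_syl (s : Spec t h y i V Z) : IsSyl2 (Subgroup.centralizer ({t} : Set G)) (S s) := by
  refine ⟨?_, S_two s, ?_⟩
  · intro g hg
    rw [Subgroup.mem_centralizer_singleton_iff]
    exact S_t s hg
  · intro Y hY hY2 hSY
    by_contra hne
    have hlt : S s < Y := lt_of_le_of_ne hSY (fun h => hne h.symm)
    have : Fact (Nat.Prime 2) := ⟨Nat.prime_two⟩
    -- an element of `Y - S` normalising `S`
    obtain ⟨x, hxY, hxS, hxn⟩ : ∃ x ∈ Y, x ∉ S s ∧ ∀ u ∈ S s, x * u * x⁻¹ ∈ S s := by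
      have hnil : Group.IsNilpotent Y := hY2.isNilpotent
      have h1 : (S s).subgroupOf Y < Subgroup.normalizer (((S s).subgroupOf Y : Subgroup Y) : Set Y) := by
        apply Group.normalizerCondition_of_isNilpotent
        rw [lt_top_iff_ne_top]
        intro h
        rw [Subgroup.subgroupOf_eq_top] at h
        exact hlt.not_ge h
      obtain ⟨x, hx, hx'⟩ := SetLike.exists_of_lt h1
      refine ⟨x, x.2, hx', fun u hu => ?_⟩
      have h2 := (Subgroup.mem_normalizer_iff.1 hx ⟨u, hSY hu⟩).1 hu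
      exact h2
    have hxt : x * t = t * x := Subgroup.mem_centralizer_singleton_iff.1 (hY hxY)
    obtain ⟨a, ha, ha1, hai, hya⟩ := exists_a s
    have hsq : (y * a) * (y * a) = i := by
      calc y * a * (y * a) = (y * a) * y * a := by group
        _ = i * a * (y * y) * a := by rw [hya]; group
        _ = i * (a * a) := by rw [s.y_sq]; group
        _ = i := by rw [vv s ha, mul_one]
    have hm : y * a ∈ S s := ⟨a, ha, Or.inr (Or.inr (Or.inl rfl))⟩
    have h3 := S_sq s (hxn _ hm)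
    have h4 : x * (y * a) * x⁻¹ * (x * (y * a) * x⁻¹) = x * i * x⁻¹ := by
      calc _ = x * ((y * a) * (y * a)) * x⁻¹ := by group
        _ = _ := by rw [hsq]
    rw [h4] at h3
    have hxi : x * i = i * x := by
      rcases h3 with h3 | h3
      · exfalso
        apply s.i_ne
        have : i = x⁻¹ * (x * i * x⁻¹) * x := by group
        rw [this, h3]; group
      · exact mul_inv_eq_iff_eq_mul.1 h3
    obtain ⟨z, hz, u, hu, hxzu⟩ := gen s hxt hxi
    have hzY : z ∈ Y := by
      have : z = x * u⁻¹ := by rw [hxzu]; group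
      rw [this]
      exact Y.mul_mem hxY (Y.inv_mem (hSY hu))
    obtain ⟨k, hk⟩ := hY2 ⟨z, hzY⟩
    have hz1 : z = 1 := eq_one_of_sq_sq hz s.Z_odd (congrArg Subtype.val hk)
    rw [hz1, one_mul] at hxzu
    exact hxS (hxzu ▸ hu)

/-! ### conjugates of `t` -/

omit [Finite G] in
theorem h_inv (s : Spec t h y i V Z) : h⁻¹ = h * h := (eq_inv_of_mul_eq_one_left s.h_cube).symm

omit [Finite G] in
/-- the conjugates of `t` under `C_G(V)` -/
theorem exists_b (s : Spec t h y i V Z) (hn : NswAt t V) {v : G} (hv : v ∈ V) :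
    ∃ b : G, (∀ w ∈ V, b * w = w * b) ∧ b * t * b⁻¹ = t * v := by
  by_cases hv1 : v = 1
  · exact ⟨1, fun w _ => by rw [one_mul, mul_one], by rw [hv1]; group⟩
  obtain ⟨b, hb, hbt, hne⟩ := hn
  set v₀ := b * t * b⁻¹ * t with hv₀
  have hbt' : b * t * b⁻¹ = t * v₀ := by
    have h1 : b * t * b⁻¹ = v₀ * t := by
      rw [hv₀, mul_assoc (b * t * b⁻¹), s.t_sq, mul_one]
    rw [h1, s.tV v₀ hbt]
  have hv₀1 : v₀ ≠ 1 := by
    intro h
    apply hne
    have h2 : b * t * b⁻¹ = t := by rw [hbt', h, mul_one]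
    exact mul_inv_eq_iff_eq_mul.1 h2
  -- the elements `v₀, v₀^h, v₀^(hh)`
  have key : ∀ k : G, k * t = t * k → (∀ w ∈ V, k⁻¹ * w * k ∈ V) → k * v₀ * k⁻¹ = v →
      ∃ b : G, (∀ w ∈ V, b * w = w * b) ∧ b * t * b⁻¹ = t * v := by
    intro k hkt hkV hkv
    refine ⟨k * b * k⁻¹, fun w hw => ?_, ?_⟩
    · have h1 := hb _ (hkV w hw)
      calc k * b * k⁻¹ * w = k * (b * (k⁻¹ * w * k)) * k⁻¹ := by group
        _ = k * ((k⁻¹ * w * k) * b) * k⁻¹ := by rw [h1]
        _ = _ := by group
    · have hkt' : k⁻¹ * t * k = t := by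
        rw [mul_assoc, ← hkt, ← mul_assoc, inv_mul_cancel, one_mul]
      calc k * b * k⁻¹ * t * (k * b * k⁻¹)⁻¹ = k * (b * (k⁻¹ * t * k) * b⁻¹) * k⁻¹ := by group
        _ = k * (t * v₀) * k⁻¹ := by rw [hkt', hbt']
        _ = (k * t) * k⁻¹ * (k * v₀ * k⁻¹) := by group
        _ = t * v := by rw [hkt, hkv]; group
  have hhV : ∀ w ∈ V, h⁻¹ * w * h ∈ V := by
    intro w hw
    have h1 := s.hV _ (s.hV w hw)
    have h2 : h * (h * w * h⁻¹) * h⁻¹ = h⁻¹ * w * h := by
      have h3 : h * h * w * (h * h)⁻¹ = h⁻¹ * w * h := by rw [← h_inv s, inv_inv]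
      rw [← h3]; group
    rwa [h2] at h1
  have hhV' : ∀ w ∈ V, (h * h)⁻¹ * w * (h * h) ∈ V := by
    intro w hw
    have h1 := hhV _ (hhV w hw)
    have h2 : h⁻¹ * (h⁻¹ * w * h) * h = (h * h)⁻¹ * w * (h * h) := by group
    rwa [h2] at h1
  have hht : h * h * t = t * (h * h) := by rw [mul_assoc, s.ht, ← mul_assoc, s.ht, mul_assoc]
  by_cases e1 : v₀ = v
  · exact key 1 (by rw [one_mul, mul_one]) (fun w hw => by simpa using hw) (by rw [e1]; group)
  by_cases e2 : h * v₀ * h⁻¹ = v
  · exact key h s.ht hhV e2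
  by_cases e3 : h * h * v₀ * (h * h)⁻¹ = v
  · exact key (h * h) hht hhV' e3
  exfalso
  -- four different elements `v₀, v₁, v₂, v` of `V#`
  have hw1 : h * v₀ * h⁻¹ ≠ v₀ := fun h' => hv₀1 (s.fpfV v₀ hbt (mul_inv_eq_iff_eq_mul.1 h'))
  have hmem1 := s.hV v₀ hbt
  have hmem2 : h * h * v₀ * (h * h)⁻¹ ∈ V := by
    have := s.hV _ hmem1
    have h2 : h * (h * v₀ * h⁻¹) * h⁻¹ = h * h * v₀ * (h * h)⁻¹ := by group
    rwa [h2] at this
  have hw2 : h * h * v₀ * (h * h)⁻¹ ≠ v₀ := by
    intro h'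
    apply hw1
    have h3 : h * (h * h * v₀ * (h * h)⁻¹) * h⁻¹ = h * v₀ * h⁻¹ := by rw [h']
    have h4 : h * (h * h * v₀ * (h * h)⁻¹) * h⁻¹ = (h * h * h) * v₀ * (h * h * h)⁻¹ := by group
    rw [h4, s.h_cube] at h3
    rw [← h3]; group
  have hw3 : h * h * v₀ * (h * h)⁻¹ ≠ h * v₀ * h⁻¹ := by
    intro h'
    apply hw1
    have h3 : h * (h * v₀ * h⁻¹) * h⁻¹ = h * v₀ * h⁻¹ := by
      calc h * (h * v₀ * h⁻¹) * h⁻¹ = h * h * v₀ * (h * h)⁻¹ := by group
        _ = _ := h'
    calc h * v₀ * h⁻¹ = h⁻¹ * (h * (h * v₀ * h⁻¹) * h⁻¹) * h := by group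
      _ = h⁻¹ * (h * v₀ * h⁻¹) * h := by rw [h3]
      _ = v₀ := by group
  -- card
  classical
  have hfin : Finite V := Nat.finite_of_card_ne_zero (by rw [s.card_V]; norm_num)
  have := Fintype.ofFinite V
  let T : Finset V := {⟨1, V.one_mem⟩, ⟨v₀, hbt⟩, ⟨_, hmem1⟩, ⟨_, hmem2⟩, ⟨v, hv⟩}
  have hne1 : h * v₀ * h⁻¹ ≠ 1 := by
    intro h'
    apply hv₀1
    have : v₀ = h⁻¹ * (h * v₀ * h⁻¹) * h := by group
    rw [this, h']; group
  have hne2 : h * h * v₀ * (h * h)⁻¹ ≠ 1 := by
    intro h'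
    apply hv₀1
    have : v₀ = (h * h)⁻¹ * (h * h * v₀ * (h * h)⁻¹) * (h * h) := by group
    rw [this, h']; group
  have hT : T.card = 5 := by
    simp only [T]
    rw [Finset.card_insert_of_notMem, Finset.card_insert_of_notMem, Finset.card_insert_of_notMem,
      Finset.card_insert_of_notMem, Finset.card_singleton]
    · simp only [Finset.mem_singleton, Subtype.mk.injEq]
      exact e3
    · simp only [Finset.mem_insert, Finset.mem_singleton, Subtype.mk.injEq, not_or]
      exact ⟨fun h => hw3 h.symm, e2⟩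
    · simp only [Finset.mem_insert, Finset.mem_singleton, Subtype.mk.injEq, not_or]
      exact ⟨fun h => hw1 h.symm, fun h => hw2 h.symm, e1⟩
    · simp only [Finset.mem_insert, Finset.mem_singleton, Subtype.mk.injEq, not_or]
      exact ⟨fun h => hv₀1 h.symm, fun h => hne1 h.symm, fun h => hne2 h.symm, fun h => hv1 h.symm⟩
  have h5 := Finset.card_le_univ T
  rw [hT, ← Nat.card_eq_fintype_card, s.card_V] at h5
  omega

/-- the group `E' = ⟨t, y, i⟩` -/
def EE (t y i : G) : Set G := {g | (g = 1 ∨ g = i) ∨ (g = t ∨ g = t * i) ∨ (g = y ∨ g = y * i) ∨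
  (g = t * y ∨ g = t * y * i)}

/-- conjugate to `t` -/
def Cj (t x : G) : Prop := ∃ g : G, g * t * g⁻¹ = x

omit [Finite G] in
theorem cj_conj {x g : G} (h : Cj t x) : Cj t (g * x * g⁻¹) := by
  obtain ⟨k, rfl⟩ := h
  exact ⟨g * k, by group⟩

omit [Finite G] in
theorem cj_of_conj {x g : G} (h : Cj t (g * x * g⁻¹)) : Cj t x := by
  have := cj_conj (g := g⁻¹) h
  have h2 : g⁻¹ * (g * x * g⁻¹) * g⁻¹⁻¹ = x := by group
  rwa [h2] at this

omit [Finite G] in
theorem not_cj (s : Spec t h y i V Z) {v : G} (hv : v ∈ V) : ¬ Cj t v := by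
  rintro ⟨g, rfl⟩
  exact s.not_conj g hv

omit [Finite G] in
/-- the elements of `E' - ⟨i⟩` are conjugate to `t` -/
theorem cj_EE (s : Spec t h y i V Z) (hn : NswAt t V) {g : G} (hg : g ∈ EE t y i) (hg1 : g ≠ 1) (hgi : g ≠ i) :
    Cj t g := by
  obtain ⟨a, ha, ha1, hai, hya⟩ := exists_a s
  have hay : a * y * a⁻¹ = y * i := by
    have h1 : y * a = i * a * y := hya
    have h2 : a * y = y * i * a := by
      calc a * y = (i * i) * a * y := by rw [ii s, one_mul]
        _ = i * (i * a * y) := by group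
        _ = (i * y) * a := by rw [← hya]; group
        _ = _ := by rw [s.iy]
    rw [h2]; group
  rcases hg with (h | h) | (h | h) | (h | h) | (h | h)
  · exact (hg1 h).elim
  · exact (hgi h).elim
  · exact ⟨1, by rw [h]; group⟩
  · obtain ⟨b, -, hb⟩ := exists_b s hn s.i_mem
    exact ⟨b, by rw [h, hb]⟩
  · rw [h]; exact s.conj_y
  · rw [h, ← hay]; exact cj_conj s.conj_y
  · rw [h]; exact s.conj_ty
  · have : t * y * i = a * (t * y) * a⁻¹ := by
      calc t * y * i = t * (y * i) := by group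
        _ = t * (a * y * a⁻¹) := by rw [hay]
        _ = (t * a) * y * a⁻¹ := by group
        _ = _ := by rw [s.tV a ha]; group
    rw [h, this]
    exact cj_conj s.conj_ty

/-! ### the group `E'` -/

omit [Finite G] in
theorem t_i (s : Spec t h y i V Z) : t * i = i * t := s.tV i s.i_mem

omit [Finite G] in
/-- `E' = C_S(y)` -/
theorem mem_EE_iff (s : Spec t h y i V Z) {g : G} : g ∈ EE t y i ↔ g ∈ S s ∧ g * y = y * g := by
  have hti := t_i s
  constructor
  · rintro ((h | h) | (h | h) | (h | h) | (h | h))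
    · rw [h]; exact ⟨(S s).one_mem, by rw [one_mul, mul_one]⟩
    · rw [h]; exact ⟨V_le s s.i_mem, s.iy⟩
    · rw [h]; exact ⟨t_mem s, s.ty⟩
    · rw [h]; exact ⟨(S s).mul_mem (t_mem s) (V_le s s.i_mem), by
        rw [mul_assoc, s.iy, ← mul_assoc, s.ty, mul_assoc]⟩
    · rw [h]; exact ⟨y_mem s, rfl⟩
    · rw [h]; exact ⟨(S s).mul_mem (y_mem s) (V_le s s.i_mem), by rw [mul_assoc, s.iy]⟩
    · rw [h]; exact ⟨(S s).mul_mem (t_mem s) (y_mem s), by rw [← mul_assoc, ← s.ty]⟩
    · rw [h]; exact ⟨(S s).mul_mem ((S s).mul_mem (t_mem s) (y_mem s)) (V_le s s.i_mem), by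
        rw [mul_assoc, s.iy, ← mul_assoc, ← mul_assoc, ← mul_assoc, ← s.ty]⟩
  · rintro ⟨⟨v, hv, hg⟩, hgy⟩
    obtain ⟨a, ha, ha1, hai, hya⟩ := exists_a s
    have hvy : v * y = y * v := by
      rcases hg with h | h | h | h
      · rwa [h] at hgy
      · rw [h, mul_assoc, ← mul_assoc y, ← s.ty, mul_assoc] at hgy
        exact mul_left_cancel hgy
      · rw [h, mul_assoc] at hgy
        exact mul_left_cancel hgy
      · rw [h] at hgy
        have h1 : t * y * (v * y) = t * y * (y * v) := by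
          calc t * y * (v * y) = t * (y * v) * y := by group
            _ = y * (t * (y * v)) := hgy
            _ = (y * t) * y * v := by group
            _ = t * y * (y * v) := by rw [← s.ty]; group
        exact mul_left_cancel h1
    have hv' : v = 1 ∨ v = i := by
      rcases four s ha ha1 hai hv with h | h | h | h
      · exact Or.inl h
      · exact Or.inr h
      · exfalso
        apply s.i_ne
        rw [h, hya] at hvy
        have h1 : i * a * y = 1 * a * y := by rw [← hvy]; group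
        exact mul_right_cancel (mul_right_cancel h1)
      · exfalso
        apply s.i_ne
        have h1 : y * v = a * y := by
          rw [h]
          calc y * (i * a) = (y * i) * a := by group
            _ = i * (y * a) := by rw [← s.iy]; group
            _ = (i * i) * a * y := by rw [hya]; group
            _ = a * y := by rw [ii s, one_mul]
        rw [h1, h] at hvy
        have h2 := mul_right_cancel hvy
        simpa using h2
    rcases hv' with rfl | rfl
    · rcases hg with h | h | h | h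
      · exact Or.inl (Or.inl h)
      · exact Or.inr (Or.inl (Or.inl (by rw [h, mul_one])))
      · exact Or.inr (Or.inr (Or.inl (Or.inl (by rw [h, mul_one]))))
      · exact Or.inr (Or.inr (Or.inr (Or.inl (by rw [h, mul_one]))))
    · rcases hg with h | h | h | h
      · exact Or.inl (Or.inr h)
      · exact Or.inr (Or.inl (Or.inr h))
      · exact Or.inr (Or.inr (Or.inl (Or.inr h)))
      · exact Or.inr (Or.inr (Or.inr (Or.inr (by rw [h, mul_assoc]))))

/-- `E'` as a subgroup -/
def EEs (s : Spec t h y i V Z) : Subgroup G := S s ⊓ Subgroup.centralizer ({y} : Set G)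

omit [Finite G] in
theorem mem_EEs (s : Spec t h y i V Z) {g : G} : g ∈ EEs s ↔ g ∈ EE t y i := by
  rw [mem_EE_iff s, EEs, Subgroup.mem_inf, Subgroup.mem_centralizer_singleton_iff]

omit [Finite G] in
theorem EE_mul (s : Spec t h y i V Z) {g k : G} (hg : g ∈ EE t y i) (hk : k ∈ EE t y i) : g * k ∈ EE t y i := by
  rw [← mem_EEs s] at *
  exact (EEs s).mul_mem hg hk

omit [Finite G] in
/-- `E'` is abelian -/
theorem EE_comm (s : Spec t h y i V Z) {g k : G} (hg : g ∈ EE t y i) (hk : k ∈ EE t y i) : g * k = k * g := by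
  have h1 := (mem_EE_iff s).1 hg
  have ht : g * t = t * g := S_t s h1.1
  have hi : g * i = i * g := S_i s h1.1
  have hy := h1.2
  rcases hk with (h | h) | (h | h) | (h | h) | (h | h)
  · rw [h, one_mul, mul_one]
  · rw [h, hi]
  · rw [h, ht]
  · rw [h, ← mul_assoc, ht, mul_assoc, hi, ← mul_assoc]
  · rw [h, hy]
  · rw [h, ← mul_assoc, hy, mul_assoc, hi, ← mul_assoc]
  · rw [h, ← mul_assoc, ht, mul_assoc, hy, ← mul_assoc]
  · rw [h, ← mul_assoc, ← mul_assoc, ht, mul_assoc t, hy, mul_assoc, mul_assoc, hi]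
    group

omit [Finite G] in
/-- `E'` has exponent 2 -/
theorem EE_sq (s : Spec t h y i V Z) {g : G} (hg : g ∈ EE t y i) : g * g = 1 := by
  have hti := t_i s
  have h1 : (1 : G) ∈ EE t y i := Or.inl (Or.inl rfl)
  have htm : t ∈ EE t y i := Or.inr (Or.inl (Or.inl rfl))
  have hym : y ∈ EE t y i := Or.inr (Or.inr (Or.inl (Or.inl rfl)))
  have him : i ∈ EE t y i := Or.inl (Or.inr rfl)
  have hmul : ∀ a b : G, a ∈ EE t y i → b ∈ EE t y i → a * a = 1 → b * b = 1 → (a * b) * (a * b) = 1 := by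
    intro a b ha hb ha2 hb2
    calc a * b * (a * b) = a * (b * a) * b := by group
      _ = (a * a) * (b * b) := by rw [EE_comm s hb ha]; group
      _ = 1 := by rw [ha2, hb2, one_mul]
  rcases hg with (h | h) | (h | h) | (h | h) | (h | h)
  · rw [h, one_mul]
  · rw [h, ii s]
  · rw [h, s.t_sq]
  · rw [h]; exact hmul _ _ htm him s.t_sq (ii s)
  · rw [h, s.y_sq]
  · rw [h]; exact hmul _ _ hym him s.y_sq (ii s)
  · rw [h]; exact hmul _ _ htm hym s.t_sq s.y_sq
  · rw [h]; exact hmul _ _ (EE_mul s htm hym) him (hmul _ _ htm hym s.t_sq s.y_sq) (ii s)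

omit [Finite G] in
/-- involutions of `S` -/
theorem S_invol (s : Spec t h y i V Z) {x : G} (hx : x ∈ S s) (h2 : x * x = 1) :
    x ∈ V ∨ (∃ v ∈ V, x = t * v) ∨ x ∈ EE t y i := by
  obtain ⟨a, ha, ha1, hai, hya⟩ := exists_a s
  have hbad : ∀ v ∈ V, (y * v) * (y * v) = 1 → v = 1 ∨ v = i := by
    intro v hv h2
    rcases four s ha ha1 hai hv with h | h | h | h
    · exact Or.inl h
    · exact Or.inr h
    · exfalso
      apply s.i_ne
      rw [← h2, h]
      symm
      calc y * a * (y * a) = (y * a) * y * a := by group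
        _ = i * a * (y * y) * a := by rw [hya]; group
        _ = i * (a * a) := by rw [s.y_sq]; group
        _ = i := by rw [vv s ha, mul_one]
    · exfalso
      apply s.i_ne
      rw [← h2, h]
      symm
      have h1 : y * (i * a) = a * y := by
        calc y * (i * a) = (y * i) * a := by group
          _ = i * (y * a) := by rw [← s.iy]; group
          _ = (i * i) * a * y := by rw [hya]; group
          _ = a * y := by rw [ii s, one_mul]
      calc y * (i * a) * (y * (i * a)) = (y * (i * a)) * y * (i * a) := by group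
        _ = a * (y * y) * (i * a) := by rw [h1]; group
        _ = (a * i) * a := by rw [s.y_sq]; group
        _ = i * (a * a) := by rw [vcomm s ha s.i_mem]; group
        _ = i := by rw [vv s ha, mul_one]
  obtain ⟨v, hv, h | h | h | h⟩ := hx
  · exact Or.inl (h ▸ hv)
  · exact Or.inr (Or.inl ⟨v, hv, h⟩)
  · rw [h] at h2
    right; right
    rcases hbad v hv h2 with rfl | rfl
    · exact Or.inr (Or.inr (Or.inl (Or.inl (by rw [h, mul_one]))))
    · exact Or.inr (Or.inr (Or.inl (Or.inr h)))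
  · have h1 : x * x = (y * v) * (y * v) := by
      have h2 : y * v * t = t * (y * v) := S_t s (⟨v, hv, Or.inr (Or.inr (Or.inl rfl))⟩)
      rw [h]
      calc t * (y * v) * (t * (y * v)) = t * (y * v * t) * (y * v) := by group
        _ = (t * t) * (y * v) * (y * v) := by rw [h2]; group
        _ = _ := by rw [s.t_sq, one_mul]
    rw [h1] at h2
    right; right
    rcases hbad v hv h2 with rfl | rfl
    · exact Or.inr (Or.inr (Or.inr (Or.inl (by rw [h, mul_one]))))
    · exact Or.inr (Or.inr (Or.inr (Or.inr (by rw [h, mul_assoc]))))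

omit [Finite G] in
theorem t_ne_y (s : Spec t h y i V Z) : t ≠ y ∧ t ≠ y * i := by
  obtain ⟨a, ha, ha1, hai, hya⟩ := exists_a s
  have h1 : y * a ≠ a * y := by
    rw [hya]
    intro h
    apply s.i_ne
    have h2 : i * a * y = 1 * a * y := by rw [h]; group
    exact mul_right_cancel (mul_right_cancel h2)
  constructor
  · rintro rfl
    exact h1 (s.tV a ha)
  · intro h
    apply h1
    have h2 : t * a = a * t := s.tV a ha
    rw [h] at h2
    have h3 : y * a * i = a * y * i := by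
      calc y * a * i = y * (a * i) := by group
        _ = y * i * a := by rw [vcomm s ha s.i_mem]; group
        _ = a * (y * i) := h2
        _ = _ := by group
    exact mul_right_cancel h3

omit [Finite G] in
theorem t_notin (s : Spec t h y i V Z) : t ∉ V := fun h => not_cj s h ⟨1, by group⟩

/-- an element of `E' - ⟨t, i⟩` is conjugate to `t` by an element of `C(i) ∩ N(E')` -/
theorem exists_conj (s : Spec t h y i V Z) (hn : NswAt t V) {e₀ : G} (he : e₀ ∈ EE t y i) (he1 : e₀ ≠ 1)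
    (hei : e₀ ≠ i) (het : e₀ * t ≠ 1) (heti : e₀ * t ≠ i) :
    ∃ g : G, g * e₀ * g⁻¹ = t ∧ g * i = i * g ∧ ∀ e ∈ EE t y i, g * e * g⁻¹ ∈ EE t y i := by
  have htm : t ∈ EE t y i := Or.inr (Or.inl (Or.inl rfl))
  have him : i ∈ EE t y i := Or.inl (Or.inr rfl)
  obtain ⟨g₀, hg₀⟩ := cj_EE s hn he he1 hei
  -- conjugate into `S`
  obtain ⟨g, hg, hgS⟩ : ∃ g : G, g * e₀ * g⁻¹ = t ∧ ∀ e ∈ EE t y i, g * e * g⁻¹ ∈ S s := by
    set A := (EEs s).map (MulAut.conj g₀⁻¹).toMonoidHom with hA
    have hg₀' : g₀⁻¹ * e₀ * g₀ = t := by rw [← hg₀]; group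
    have hAC : A ≤ Subgroup.centralizer ({t} : Set G) := by
      rintro _ ⟨e, hemem, rfl⟩
      rw [Subgroup.mem_centralizer_singleton_iff, ← hg₀']
      have h1 := EE_comm s ((mem_EEs s).1 hemem) he
      show g₀⁻¹ * e * g₀⁻¹⁻¹ * (g₀⁻¹ * e₀ * g₀) = g₀⁻¹ * e₀ * g₀ * (g₀⁻¹ * e * g₀⁻¹⁻¹)
      calc g₀⁻¹ * e * g₀⁻¹⁻¹ * (g₀⁻¹ * e₀ * g₀) = g₀⁻¹ * (e * e₀) * g₀ := by group
        _ = g₀⁻¹ * (e₀ * e) * g₀ := by rw [h1]
        _ = _ := by group
    have hA2 : IsPGroup 2 A := ((S_two s).to_le inf_le_left).map _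
    obtain ⟨T, hT, hAT⟩ := exists_isSyl2 _ A hAC hA2
    obtain ⟨m, hm, hmT⟩ := IsSyl2.conj (S_syl s) hT
    rw [Subgroup.mem_centralizer_singleton_iff] at hm
    refine ⟨m⁻¹ * g₀⁻¹, ?_, fun e he => ?_⟩
    · calc m⁻¹ * g₀⁻¹ * e₀ * (m⁻¹ * g₀⁻¹)⁻¹ = m⁻¹ * (g₀⁻¹ * e₀ * g₀) * m := by group
        _ = m⁻¹ * (t * m) := by rw [hg₀', mul_assoc]
        _ = t := by rw [← hm]; group
    · have h1 : g₀⁻¹ * e * g₀⁻¹⁻¹ ∈ T := hAT ⟨e, (mem_EEs s).2 he, rfl⟩
      rw [hmT] at h1
      obtain ⟨u, hu, hu'⟩ := h1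
      have hu'' : m * u * m⁻¹ = g₀⁻¹ * e * g₀⁻¹⁻¹ := hu'
      have h2 : m⁻¹ * g₀⁻¹ * e * (m⁻¹ * g₀⁻¹)⁻¹ = u := by
        calc m⁻¹ * g₀⁻¹ * e * (m⁻¹ * g₀⁻¹)⁻¹ = m⁻¹ * (g₀⁻¹ * e * g₀⁻¹⁻¹) * m := by group
          _ = u := by rw [← hu'']; group
      rw [h2]; exact hu
  have hsq : ∀ e ∈ EE t y i, g * e * g⁻¹ * (g * e * g⁻¹) = 1 := by
    intro e he
    calc g * e * g⁻¹ * (g * e * g⁻¹) = g * (e * e) * g⁻¹ := by group
      _ = 1 := by rw [EE_sq s he]; group
  have hcjV : ∀ e ∈ EE t y i, g * e * g⁻¹ ∈ V → e = 1 ∨ e = i := by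
    intro e he hV
    by_contra hc
    push Not at hc
    exact not_cj s hV (cj_conj (cj_EE s hn he hc.1 hc.2))
  -- `g` centralises `i`
  have hgi : g * i * g⁻¹ = i := by
    by_contra hne
    have hw1 : g * i * g⁻¹ ≠ 1 := by
      intro h
      apply s.i_ne
      have : i = g⁻¹ * (g * i * g⁻¹) * g := by group
      rw [this, h]; group
    have hncj : ¬ Cj t (g * i * g⁻¹) := fun h => not_cj s s.i_mem (cj_of_conj h)
    have hwV : g * i * g⁻¹ ∈ V := by
      rcases S_invol s (hgS i him) (hsq i him) with h | ⟨v, hv, h⟩ | h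
      · exact h
      · exfalso
        obtain ⟨b, -, hb⟩ := exists_b s hn hv
        exact hncj ⟨b, by rw [h, hb]⟩
      · exact (hncj (cj_EE s hn h hw1 hne)).elim
    obtain ⟨v, hv, hτ⟩ : ∃ v ∈ V, g * t * g⁻¹ = t * v := by
      have hτcj : Cj t (g * t * g⁻¹) := ⟨g, rfl⟩
      rcases S_invol s (hgS t htm) (hsq t htm) with h | h | h
      · exact (not_cj s h hτcj).elim
      · exact h
      · -- in `E'` and commuting with `w ∈ V - ⟨i⟩`
        have hcomm : (g * t * g⁻¹) * (g * i * g⁻¹) = (g * i * g⁻¹) * (g * t * g⁻¹) := by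
          calc (g * t * g⁻¹) * (g * i * g⁻¹) = g * (t * i) * g⁻¹ := by group
            _ = g * (i * t) * g⁻¹ := by rw [t_i s]
            _ = _ := by group
        set w := g * i * g⁻¹ with hw
        have hyw : y * w ≠ w * y := by
          intro hyw
          have h1 : w ∈ EE t y i := (mem_EE_iff s).2 ⟨V_le s hwV, hyw.symm⟩
          exact hncj (cj_EE s hn h1 hw1 hne)
        have hwi : w * i = i * w := vcomm s hwV s.i_mem
        have hwt : w * t = t * w := (s.tV w hwV).symm
        rcases h with (h | h) | (h | h) | (h | h) | (h | h)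
        · exfalso
          rw [h] at hτcj
          exact not_cj s V.one_mem hτcj
        · exfalso
          rw [h] at hτcj
          exact not_cj s s.i_mem hτcj
        · exact ⟨1, V.one_mem, by rw [h, mul_one]⟩
        · exact ⟨i, s.i_mem, h⟩
        · exfalso; rw [h] at hcomm; exact hyw hcomm
        · exfalso; rw [h] at hcomm; apply hyw
          have h1 : y * w * i = w * y * i := by
            calc y * w * i = y * i * w := by rw [mul_assoc, hwi, mul_assoc]
              _ = w * (y * i) := hcomm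
              _ = _ := by group
          exact mul_right_cancel h1
        · exfalso; rw [h] at hcomm; apply hyw
          have h1 : t * (y * w) = t * (w * y) := by
            calc t * (y * w) = t * y * w := by group
              _ = w * (t * y) := hcomm
              _ = w * t * y := by group
              _ = _ := by rw [hwt]; group
          exact mul_left_cancel h1
        · exfalso; rw [h] at hcomm; apply hyw
          have h1 : t * (y * w) * i = t * (w * y) * i := by
            calc t * (y * w) * i = t * y * (w * i) := by group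
              _ = t * y * i * w := by rw [hwi]; group
              _ = w * (t * y * i) := hcomm
              _ = w * t * y * i := by group
              _ = _ := by rw [hwt]; group
          exact mul_left_cancel (mul_right_cancel h1)
    -- `e₀ t` is conjugate to `t (t v) = v`
    have h1 : g * (e₀ * t) * g⁻¹ = v := by
      calc g * (e₀ * t) * g⁻¹ = (g * e₀ * g⁻¹) * (g * t * g⁻¹) := by group
        _ = (t * t) * v := by rw [hg, hτ]; group
        _ = v := by rw [s.t_sq, one_mul]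
    rcases hcjV _ (EE_mul s he htm) (h1 ▸ hv) with h2 | h2
    · exact het h2
    · exact heti h2
  refine ⟨g, hg, mul_inv_eq_iff_eq_mul.1 hgi, fun e hee => ?_⟩
  rcases S_invol s (hgS e hee) (hsq e hee) with h | ⟨v, hv, h⟩ | h
  · rcases hcjV e hee h with rfl | rfl
    · exact Or.inl (Or.inl (by group))
    · exact Or.inl (Or.inr hgi)
  · have h1 : g * (e₀ * e) * g⁻¹ = v := by
      calc g * (e₀ * e) * g⁻¹ = (g * e₀ * g⁻¹) * (g * e * g⁻¹) := by group
        _ = (t * t) * v := by rw [hg, h]; group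
        _ = v := by rw [s.t_sq, one_mul]
    rcases hcjV _ (EE_mul s he hee) (h1 ▸ hv) with h2 | h2
    · rw [h2] at h1
      have : v = 1 := by rw [← h1]; group
      exact Or.inr (Or.inl (Or.inl (by rw [h, this, mul_one])))
    · rw [h2, hgi] at h1
      exact Or.inr (Or.inl (Or.inr (by rw [h, ← h1])))
  · exact h

end Cfsg.Agent.OddCyclic.B2SpecFus
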