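import Cfsg.Agent.OddCyclic.B2SwOf
import Cfsg.Agent.OddCyclic.B2SpecDefs
import Cfsg.Agent.OddCyclic.PGLTorus

/-!
# S0342, case B2: `TypeS` gives the situation `Spec` of section 2
-/

set_option autoImplicit false

namespace Cfsg.Agent.OddCyclic.B2SpecOf

open Cfsg.Agent.LieExceptional.CITDefs (Elem IsSyl2)
open Cfsg.Agent.GH.L2Aut
open Cfsg.Agent.OddCyclic.B2Defs
open Cfsg.Agent.OddCyclic.B2Pgl
open Cfsg.Agent.OddCyclic.PGLTorus

variable {G : Type*} [Group G]

/-- a cyclic group has at most one involution -/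
theorem sq_unique {A : Type*} [Group A] {T : Subgroup A} [Finite T] (hT : IsCyclic T) {i a : A} (hi : i ∈ T)
    (ha : a ∈ T) (hii : i * i = 1) (hi1 : i ≠ 1) (haa : a * a = 1) : a = 1 ∨ a = i := by
  classical
  have := Fintype.ofFinite T
  have h1 := IsCyclic.card_pow_eq_one_le (α := T) (n := 2) (by norm_num)
  by_contra hcon
  push Not at hcon
  have h2 : ({1, ⟨i, hi⟩, ⟨a, ha⟩} : Finset T) ⊆ Finset.univ.filter fun x : T => x ^ 2 = 1 := by
    intro x hx
    simp only [Finset.mem_insert, Finset.mem_singleton] at hx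
    rw [Finset.mem_filter]
    refine ⟨Finset.mem_univ _, ?_⟩
    rcases hx with rfl | rfl | rfl
    · exact one_pow 2
    · rw [sq]; exact Subtype.ext hii
    · rw [sq]; exact Subtype.ext haa
  have h3 : ({1, ⟨i, hi⟩, ⟨a, ha⟩} : Finset T).card = 3 := by
    rw [Finset.card_insert_of_notMem, Finset.card_insert_of_notMem, Finset.card_singleton]
    · rw [Finset.mem_singleton]
      intro e
      exact hcon.2 (congrArg Subtype.val e).symm
    · simp only [Finset.mem_insert, Finset.mem_singleton, not_or]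
      exact ⟨fun e => hi1 (congrArg Subtype.val e).symm, fun e => hcon.1 (congrArg Subtype.val e).symm⟩
  have h4 := Finset.card_le_card h2
  omega

/-- the dihedral centraliser of an involution, abstractly -/
structure Tori {A : Type*} [Group A] (T : Subgroup A) (i : A) : Prop where
  cyc : IsCyclic T
  fin : Finite T
  ten : 10 ≤ Nat.card T
  i_mem : i ∈ T
  ii : i * i = 1
  i1 : i ≠ 1
  dich : ∀ a : A, a * i = i * a → a ∈ T ∨ a * a = 1

namespace Tori

variable {A : Type*} [Group A] {T : Subgroup A} {i : A} (h : Tori T i)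

include h

theorem comm {a b : A} (ha : a ∈ T) (hb : b ∈ T) : a * b = b * a := by
  have := h.cyc
  obtain ⟨g, hg⟩ := IsCyclic.exists_generator (α := T)
  obtain ⟨m, hm⟩ := Subgroup.mem_zpowers_iff.1 (hg ⟨a, ha⟩)
  obtain ⟨n, hn⟩ := Subgroup.mem_zpowers_iff.1 (hg ⟨b, hb⟩)
  have h1 : (⟨a, ha⟩ : T) * ⟨b, hb⟩ = ⟨b, hb⟩ * ⟨a, ha⟩ := by
    rw [← hm, ← hn, ← zpow_add, ← zpow_add, add_comm]
  exact congrArg Subtype.val h1

theorem sq {a : A} (ha : a ∈ T) (haa : a * a = 1) : a = 1 ∨ a = i := by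
  have := h.fin
  exact sq_unique h.cyc h.i_mem ha h.ii h.i1 haa

/-- if all elements of `T` have `a⁴ = 1`, contradiction -/
theorem four (h4 : ∀ a ∈ T, a * a * (a * a) = 1) : False := by
  have := h.cyc
  have := h.fin
  obtain ⟨g, hg⟩ := IsCyclic.exists_generator (α := T)
  have h1 := orderOf_eq_card_of_forall_mem_zpowers hg
  have h2 : orderOf g ∣ 4 := by
    apply orderOf_dvd_of_pow_eq_one
    have := h4 g g.2
    apply Subtype.ext
    rw [show 4 = 2 + 2 from rfl, pow_add, _root_.sq]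
    exact this
  have h3 := Nat.le_of_dvd (by norm_num) h2
  have := h.ten
  omega

theorem inv_of {β τ : A} (hβ : β ∉ T) (hc : β * i = i * β) (hτ : τ ∈ T) : β * τ * β⁻¹ = τ⁻¹ := by
  have h1 : β * β = 1 := (h.dich β hc).resolve_left hβ
  have h2 : β * τ ∉ T := fun e => hβ ((Subgroup.mul_mem_cancel_right _ hτ).1 e)
  have h3 : β * τ * i = i * (β * τ) := by
    rw [mul_assoc, h.comm hτ h.i_mem, ← mul_assoc, hc, mul_assoc]
  have h4 := (h.dich _ h3).resolve_left h2
  have h5 : β⁻¹ = β := inv_eq_of_mul_eq_one_left h1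
  rw [h5, ← mul_eq_one_iff_eq_inv, mul_assoc]
  exact h4

theorem prod {β β' : A} (hβ : β ∉ T) (hc : β * i = i * β) (hβ' : β' ∉ T) (hc' : β' * i = i * β') :
    β * β' ∈ T := by
  by_contra hn
  have h3 : β * β' * i = i * (β * β') := by rw [mul_assoc, hc', ← mul_assoc, hc, mul_assoc]
  apply h.four
  intro a ha
  have h4 := h.inv_of hn h3 ha
  have h5 : β * β' * a * (β * β')⁻¹ = β * (β' * a * β'⁻¹) * β⁻¹ := by group
  rw [h5, h.inv_of hβ' hc' ha, h.inv_of hβ hc (inv_mem ha), inv_inv] at h4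
  have h6 : a * a = 1 := by
    nth_rw 1 [h4]
    exact inv_mul_cancel a
  rw [h6, one_mul]

end Tori

/-- the torus of an involution of `K` -/
theorem exists_tori {F : Type*} [Field F] [Fintype F] {L : Type*} [Group L] (R : GH.L2Aut.Rep F L)
    (hp : ∀ α : MulAut L, α ∈ R.PGL) (hc : 11 ≤ Fintype.card F) {i : L} (hii : i * i = 1) (hi1 : i ≠ 1) :
    ∃ T : Subgroup (MulAut L), Tori T (MulAut.conj i) := by
  have := R.finite_aut
  obtain ⟨g, hg⟩ := R.mem_PGL.1 (hp (MulAut.conj i))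
  have h1 : R.gl g ≠ 1 := by
    rw [← hg]
    intro e
    exact hi1 (R.conj_injective (by rw [e, map_one]))
  have h2 : R.gl g * R.gl g = 1 := by rw [← hg, ← map_mul, hii, map_one]
  have htr := trace_of_sq R h1 h2
  refine ⟨Tor R g, isCyclic_Tor R htr, inferInstance, ?_, ?_, ?_, ?_, ?_⟩
  · have h3 : Nat.card F = Fintype.card F := Nat.card_eq_fintype_card
    by_cases hsq : IsSquare (-g.1.det)
    · have := card_Tor_of_sq R htr hsq
      omega
    · have := card_Tor_of_not_sq R htr hsq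
      omega
  · rw [hg]; exact gl_mem_Tor R g
  · rw [hg]; exact h2
  · rw [hg]; exact h1
  · intro a ha
    rw [hg] at ha
    exact mem_Tor_or_sq R (hp a) ha

/-- `2` is a nonsquare and `p ≥ 7` prime: `p ≥ 11` -/
theorem eleven_le {F : Type*} [Field F] [Fintype F] (hp : (Fintype.card F).Prime) (h7 : 7 ≤ Fintype.card F)
    (h2 : ¬ IsSquare (2 : F)) : 11 ≤ Fintype.card F := by
  by_contra hcon
  push Not at hcon
  have h8 : Fintype.card F = 7 := by
    interval_cases hc : Fintype.card F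
    · rfl
    · exact absurd hp (by norm_num)
    · exact absurd hp (by norm_num)
    · exact absurd hp (by norm_num)
  apply h2
  have h0 : ((Fintype.card F : ℕ) : F) = 0 := FiniteField.cast_card_eq_zero F
  rw [h8] at h0
  refine ⟨3, ?_⟩
  have h1 : (7 : F) = 0 := by exact_mod_cast h0
  linear_combination -h1

/-- **the situation of section 2** -/
theorem spec_of [Finite G] {F : Type*} [Field F] [Fintype F] {t w y : G} {V K : Subgroup G} (h : Hyp F t K)
    (h7 : 7 ≤ Fintype.card F) (hV : V ≤ K) (hL : Loc t w V) (hS : TypeS F t w y V K) :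
    ∃ (i : G) (Z : Subgroup G), Spec t w y i V Z := by
  classical
  have hKc : ∀ k ∈ K, k * t = t * k := h.Kt
  have hyt : y * t = t * y := hS.ty.symm
  have tt_mul : ∀ s : G, t * (t * s) = s := fun s => by rw [← mul_assoc, h.t_sq, one_mul]
  have hynot : ∃ v ∈ V, y * v ≠ v * y := by
    by_contra hcon
    push Not at hcon
    obtain ⟨v, hv, h1 | h1⟩ := hL.cent y hyt hcon
    · exact hS.y_notin (h1 ▸ hV hv)
    · apply hS.ty_notin
      rw [h1, tt_mul]; exact hV hv
  obtain ⟨v, hv, hyv⟩ := hynot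
  have hyinv : y⁻¹ = y := inv_eq_of_mul_eq_one_left hS.y_sq
  have hyvV := hS.yV v hv
  have hcV : ∀ {p q : G}, p ∈ V → q ∈ V → p * q = q * p := fun hp hq => hL.elem.comm hp hq
  have hvv := hL.elem v hv
  have hv1 : v ≠ 1 := by
    rintro rfl
    apply hyv; rw [mul_one, one_mul]
  obtain ⟨i, hi⟩ : ∃ i, i = v * (y * v * y⁻¹) := ⟨_, rfl⟩
  have hiV : i ∈ V := by rw [hi]; exact mul_mem hv hyvV
  have hi1 : i ≠ 1 := by
    intro e
    apply hyv
    have h1 : y * v * y⁻¹ = v := by
      have : v * (v * (y * v * y⁻¹)) = v := by rw [← hi, e, mul_one]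
      rwa [← mul_assoc, hvv, one_mul] at this
    exact mul_inv_eq_iff_eq_mul.1 h1
  have hiy : y * i * y⁻¹ = i := by
    have e : y * (v * (y * v * y⁻¹)) * y⁻¹ = (y * v * y⁻¹) * (y * y * v * (y * y)⁻¹) := by group
    rw [hi, e, hS.y_sq, hcV hv hyvV]; group
  have hiy' : i * y = y * i := (mul_inv_eq_iff_eq_mul.1 hiy).symm
  have hii := hL.elem i hiV
  have hiv : i ≠ v := by
    intro e
    have h1 : y * v * y⁻¹ = 1 := by
      have : v * (y * v * y⁻¹) = v * 1 := by rw [← hi, e, mul_one]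
      exact mul_left_cancel this
    apply hv1
    have : v = y⁻¹ * (y * v * y⁻¹) * y := by group
    rw [this, h1]; group
  have hF : Four i v := ⟨hii, hvv, hi1, hv1, hiv, hcV hiV hv⟩
  have hall : ∀ u ∈ V, u = 1 ∨ u = i ∨ u = v ∨ u = i * v := fun u hu =>
    B2SwOf.mem_cases hL.card_V hiV hv hF hu
  -- in `K`
  have hiK := hV hiV
  have hvK := hV hv
  let i' : K := ⟨i, hiK⟩
  let v' : K := ⟨v, hvK⟩
  have hF' : Four i' v' :=
    ⟨Subtype.ext hF.aa, Subtype.ext hF.bb, fun e => hF.a1 (congrArg Subtype.val e),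
      fun e => hF.b1 (congrArg Subtype.val e), fun e => hF.ne (congrArg Subtype.val e), Subtype.ext hF.comm⟩
  have hcard := eleven_le h.prime h7 hS.two
  obtain ⟨T, hT⟩ := exists_tori h.rep h.mem_PGL hcard hF'.aa hF'.a1
  have cinj := h.rep.conj_injective
  -- no square root of `i` in the torus
  have hnosq : ∀ u : K, MulAut.conj u ∈ T → u * u ≠ i' := by
    intro u hu huu
    have hvT : MulAut.conj v' ∉ T := by
      intro e
      rcases hT.sq e (by rw [← map_mul, hF'.bb, map_one]) with h1 | h1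
      · exact hF'.b1 (cinj (by rw [h1, map_one]))
      · exact hF'.ne (cinj h1).symm
    have h1 := hT.inv_of hvT (by rw [← map_mul, ← map_mul, hF'.comm]) hu
    have h1' : v' * u * v'⁻¹ = u⁻¹ := cinj (by rw [map_mul, map_mul, map_inv, h1, map_inv])
    have hui : u * i' * u⁻¹ = i' := by rw [← huu]; group
    have huv : u * v' * u⁻¹ = i' * v' := by
      have e : u * v' * u⁻¹ = u * (v' * u * v'⁻¹)⁻¹ * v' := by group
      rw [e, h1', inv_inv, huu]
    have huiv : u * (i' * v') * u⁻¹ = v' := by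
      have e : u * (i' * v') * u⁻¹ = (u * i' * u⁻¹) * (u * v' * u⁻¹) := by group
      rw [e, hui, huv, ← mul_assoc, hF'.aa, one_mul]
    obtain ⟨g, δ, -, -, hgi, hgv, hδi, hδv, -, -, hδ, hst⟩ := exists_frame h.rep h.fld_one hF'
    have hgiv : g * (i' * v') * g⁻¹ = i' := by
      have e : g * (i' * v') * g⁻¹ = (g * i' * g⁻¹) * (g * v' * g⁻¹) := by group
      rw [e, hgi, hgv, hF'.comm, ← mul_assoc, hF'.bb, one_mul]
    have hg1 : g⁻¹ * (i' * v') * g = v' := by rw [← hgv]; group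
    have hg2 : g⁻¹ * v' * g = i' := by rw [← hgi]; group
    have hb1 : MulAut.conj (g⁻¹ * u * g) i' = v' := by
      rw [MulAut.conj_apply]
      have e : g⁻¹ * u * g * i' * (g⁻¹ * u * g)⁻¹ = g⁻¹ * (u * (g * i' * g⁻¹) * u⁻¹) * g := by group
      rw [e, hgi, huv, hg1]
    have hb2 : MulAut.conj (g⁻¹ * u * g) v' = i' := by
      rw [MulAut.conj_apply]
      have e : g⁻¹ * u * g * v' * (g⁻¹ * u * g)⁻¹ = g⁻¹ * (u * (g * v' * g⁻¹) * u⁻¹) * g := by group
      rw [e, hgv, huiv, hg2]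
    obtain ⟨u₂, -, hu₂⟩ := hst (δ * MulAut.conj (g⁻¹ * u * g)) (by rw [MulAut.mul_apply, hb1, hδv])
      (by rw [MulAut.mul_apply, hb2, hδi])
    apply hS.two
    rw [← hδ]
    have e : δ = MulAut.conj u₂ * (MulAut.conj (g⁻¹ * u * g))⁻¹ := by rw [← hu₂, mul_inv_cancel_right]
    rw [e]
    exact mul_mem ⟨_, rfl⟩ (inv_mem ⟨_, rfl⟩)
  -- commuting in `T`
  have hTc : ∀ u u' : K, MulAut.conj u ∈ T → MulAut.conj u' ∈ T → u * u' = u' * u := by
    intro u u' hu hu'
    apply cinj
    rw [map_mul, map_mul]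
    exact hT.comm hu hu'
  have hTsq : ∀ u : K, MulAut.conj u ∈ T → u * u = 1 → u = 1 ∨ u = i' := by
    intro u hu huu
    rcases hT.sq hu (by rw [← map_mul, huu, map_one]) with h1 | h1
    · exact Or.inl (cinj (by rw [h1, map_one]))
    · exact Or.inr (cinj h1)
  -- the group `Z`
  let Z₀ : Subgroup K :=
    { carrier := {k | ∃ u : K, MulAut.conj u ∈ T ∧ k = u * u}
      one_mem' := ⟨1, by rw [map_one]; exact one_mem _, (one_mul 1).symm⟩
      mul_mem' := by
        rintro _ _ ⟨u, hu, rfl⟩ ⟨u', hu', rfl⟩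
        refine ⟨u * u', by rw [map_mul]; exact mul_mem hu hu', ?_⟩
        have := hTc u u' hu hu'
        rw [mul_assoc, mul_assoc, ← mul_assoc u' u u', ← this, mul_assoc]
      inv_mem' := by
        rintro _ ⟨u, hu, rfl⟩
        exact ⟨u⁻¹, by rw [map_inv]; exact inv_mem hu, by rw [mul_inv_rev]⟩ }
  have hZT : ∀ z ∈ Z₀, MulAut.conj z ∈ T := by
    rintro _ ⟨u, hu, rfl⟩
    rw [map_mul]; exact mul_mem hu hu
  have hZodd : Odd (Nat.card Z₀) := by
    by_contra hcon
    rw [Nat.not_odd_iff_even] at hcon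
    obtain ⟨z, hz⟩ := exists_prime_orderOf_dvd_card' (G := Z₀) 2 hcon.two_dvd
    have hz2 : (z : K) * z = 1 := by
      have h1 := pow_orderOf_eq_one z
      rw [hz, _root_.sq] at h1
      exact congrArg Subtype.val h1
    have hz1 : (z : K) ≠ 1 := by
      intro e
      have : z = 1 := Subtype.ext e
      rw [this, orderOf_one] at hz
      omega
    obtain ⟨u, hu, e⟩ := z.2
    exact hnosq u hu (e ▸ (hTsq _ (hZT _ z.2) hz2).resolve_left hz1)
  -- every element of `T₀` is `z` or `z i`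
  have hZi : ∀ u : K, MulAut.conj u ∈ T → ∃ z ∈ Z₀, u = z ∨ u = z * i' := by
    intro u hu
    obtain ⟨n, hn⟩ := hZodd
    have hmem : u * u ∈ Z₀ := ⟨u, hu, rfl⟩
    have h1 : (u * u) ^ (2 * n + 1) = 1 := by
      have h2 := pow_card_eq_one' (x := (⟨u * u, hmem⟩ : Z₀))
      rw [hn] at h2
      exact congrArg Subtype.val h2
    have hz : (u * u) ^ (n + 1) ∈ Z₀ := pow_mem hmem _
    refine ⟨(u * u) ^ (n + 1), hz, ?_⟩
    have h3 : (u * u) ^ (n + 1) * (u * u) ^ (n + 1) = u * u := by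
      rw [← pow_add, show n + 1 + (n + 1) = (2 * n + 1) + 1 by ring, pow_succ, h1, one_mul]
    have hc : Commute u ((u * u) ^ (n + 1)) :=
      ((Commute.refl u).mul_right (Commute.refl u)).pow_right _
    have h4 : ((u * u) ^ (n + 1))⁻¹ * u * (((u * u) ^ (n + 1))⁻¹ * u) = 1 := by
      have h5 : Commute u ((u * u) ^ (n + 1))⁻¹ := hc.inv_right
      rw [mul_assoc, ← mul_assoc u, h5.eq, mul_assoc, ← mul_assoc, ← mul_inv_rev, h3, inv_mul_cancel]
    rcases hTsq _ (by rw [map_mul, map_inv]; exact mul_mem (inv_mem (hZT _ hz)) hu) h4 with h5 | h5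
    · exact Or.inl (inv_mul_eq_one.1 h5).symm
    · exact Or.inr (by rw [← h5, mul_inv_cancel_left])
  have hZne : Z₀ ≠ ⊥ := by
    intro e
    apply hT.four
    intro a ha
    have h1 : a * a ∈ (MulAut.conj : K →* MulAut K).range := by
      by_cases h2 : a ∈ (MulAut.conj : K →* MulAut K).range
      · exact mul_mem h2 h2
      · exact h.rep.mul_mem_inn (h.mem_PGL a) h2 (h.mem_PGL a) h2
    obtain ⟨u, hu⟩ := h1
    rw [← hu, ← map_mul]
    have h2 : u * u ∈ Z₀ := ⟨u, by rw [hu]; exact mul_mem ha ha, rfl⟩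
    rw [e, Subgroup.mem_bot] at h2
    rw [h2, map_one]
  -- `y` and `v`
  have hyC : y ∈ Subgroup.centralizer ({t} : Set G) := mem_cent.2 hyt
  obtain ⟨η, hη⟩ : ∃ η, η = h.act ⟨y, hyC⟩ := ⟨_, rfl⟩
  have hηI : η ∉ (MulAut.conj : K →* MulAut K).range := by
    rw [hη]
    intro e
    rcases h.inner e with h1 | h1
    · exact hS.y_notin h1
    · exact hS.ty_notin h1
  have hηη : η * η = 1 := by
    rw [hη, ← map_mul]
    have : (⟨y, hyC⟩ : ↥(Subgroup.centralizer ({t} : Set G))) * ⟨y, hyC⟩ = 1 := Subtype.ext hS.y_sq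
    rw [this, map_one]
  have hηT : η ∉ T := by
    intro e
    rcases hT.sq e hηη with h1 | h1
    · exact hηI (h1 ▸ one_mem _)
    · exact hηI (h1 ▸ ⟨i', rfl⟩)
  have hci : ∀ g (hg : g ∈ Subgroup.centralizer ({t} : Set G)), g * i = i * g →
      h.act ⟨g, hg⟩ * MulAut.conj i' = MulAut.conj i' * h.act ⟨g, hg⟩ := by
    intro g hg hgi
    rw [← h.act_K hiK, ← map_mul, ← map_mul]
    exact congrArg h.act (Subtype.ext hgi)
  have hηi : η * MulAut.conj i' = MulAut.conj i' * η := by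
    rw [hη]; exact hci y hyC hiy'.symm
  have hvT : ∀ u : K, (u : G) ∈ V → u ≠ 1 → u ≠ i' → MulAut.conj u ∉ T := by
    intro u hu h1 h2 e
    rcases hTsq u e (Subtype.ext (hL.elem _ hu)) with h3 | h3
    · exact h1 h3
    · exact h2 h3
  have hVi : ∀ u : K, (u : G) ∈ V → MulAut.conj u * MulAut.conj i' = MulAut.conj i' * MulAut.conj u := by
    intro u hu
    rw [← map_mul, ← map_mul]
    congr 1
    exact Subtype.ext (hcV hu hiV)
  have hv'T : MulAut.conj v' ∉ T := hvT v' hv hF'.b1 hF'.ne.symm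
  -- elements acting as elements of `T`
  let Z : Subgroup G := Z₀.map K.subtype
  have hgen1 : ∀ g (hg : g ∈ Subgroup.centralizer ({t} : Set G)), h.act ⟨g, hg⟩ ∈ T →
      h.act ⟨g, hg⟩ ∈ (MulAut.conj : K →* MulAut K).range → ∃ z ∈ Z, ∃ v ∈ V, g = z * v ∨ g = z * (t * v) := by
    intro g hg h1 ⟨k, hk⟩
    have h2 : h.act ⟨g, hg⟩ = h.act ⟨k, h.K_le k.2⟩ := by rw [← hk]; exact (h.act_K k.2).symm
    obtain ⟨z, hz, hkz⟩ := hZi k (by rw [hk]; exact h1)
    have hzt := hKc z z.2
    rcases hkz with rfl | rfl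
    · refine ⟨k, ⟨k, hz, rfl⟩, 1, one_mem _, ?_⟩
      rcases h.act_eq_iff.1 h2 with h3 | h3
      · left; rw [mul_one]; exact h3
      · right; rw [mul_one, hzt]; exact h3
    · refine ⟨z, ⟨z, hz, rfl⟩, i, hiV, ?_⟩
      rcases h.act_eq_iff.1 h2 with h3 | h3
      · exact Or.inl h3
      · right
        rw [← mul_assoc, hzt, mul_assoc]; exact h3
  have hvC : v ∈ Subgroup.centralizer ({t} : Set G) := h.K_le hvK
  have hvy : v * y = y * (y⁻¹ * v * y) := by group
  have hyv' : y⁻¹ * v * y ∈ V := by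
    have := hS.yV v hv
    rwa [hyinv] at this ⊢
  have hgen2 : ∀ g (hg : g ∈ Subgroup.centralizer ({t} : Set G)), h.act ⟨g, hg⟩ ∈ T →
      ∃ z ∈ Z, ∃ v ∈ V, g = z * v ∨ g = z * (t * v) ∨ g = z * (y * v) ∨ g = z * (t * (y * v)) := by
    intro g hg h1
    by_cases h2 : h.act ⟨g, hg⟩ ∈ (MulAut.conj : K →* MulAut K).range
    · obtain ⟨z, hz, v, hv, h3 | h3⟩ := hgen1 g hg h1 h2
      · exact ⟨z, hz, v, hv, Or.inl h3⟩
      · exact ⟨z, hz, v, hv, Or.inr (Or.inl h3)⟩
    · have hgy : g * y * v ∈ Subgroup.centralizer ({t} : Set G) := mul_mem (mul_mem hg hyC) hvC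
      have e : h.act ⟨g * y * v, hgy⟩ = h.act ⟨g, hg⟩ * (η * MulAut.conj v') := by
        rw [hη, ← h.act_K hvK, ← map_mul, ← map_mul]
        exact congrArg h.act (Subtype.ext (mul_assoc g y v))
      have h3 : h.act ⟨g * y * v, hgy⟩ ∈ T := by
        rw [e]
        exact mul_mem h1 (hT.prod hηT hηi hv'T (hVi v' hv))
      have h4 : h.act ⟨g * y * v, hgy⟩ ∈ (MulAut.conj : K →* MulAut K).range := by
        rw [e, ← mul_assoc]
        exact mul_mem (h.rep.mul_mem_inn (h.mem_PGL _) h2 (h.mem_PGL _) hηI) ⟨v', rfl⟩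
      obtain ⟨z, hz, v₂, hv₂, h5⟩ := hgen1 _ hgy h3 h4
      have key : ∀ x : G, g * y * v = z * x → g = z * (x * v * y) := by
        intro x hx
        have : g = g * y * v * (v⁻¹ * y⁻¹) := by group
        rw [this, hx, hyinv, inv_eq_of_mul_eq_one_left hvv]; group
      have hv₂v : v₂ * v ∈ V := mul_mem hv₂ hv
      have e2 : v₂ * v * y = y * (y⁻¹ * (v₂ * v) * y) := by group
      have h6 : y⁻¹ * (v₂ * v) * y ∈ V := by
        have := hS.yV _ hv₂v
        rwa [hyinv] at this ⊢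
      refine ⟨z, hz, y⁻¹ * (v₂ * v) * y, h6, ?_⟩
      rcases h5 with h5 | h5
      · right; right; left
        rw [key _ h5, e2]
      · right; right; right
        rw [key _ h5, ← e2]
        congr 1
        group
  have hgen : ∀ g : G, g * t = t * g → g * i = i * g →
      ∃ z ∈ Z, ∃ v ∈ V, g = z * v ∨ g = z * (t * v) ∨ g = z * (y * v) ∨ g = z * (t * (y * v)) := by
    intro g hgt hgi
    have hg : g ∈ Subgroup.centralizer ({t} : Set G) := mem_cent.2 hgt
    by_cases h1 : h.act ⟨g, hg⟩ ∈ T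
    · exact hgen2 g hg h1
    · have hgv : g * v ∈ Subgroup.centralizer ({t} : Set G) := mul_mem hg hvC
      have e : h.act ⟨g * v, hgv⟩ = h.act ⟨g, hg⟩ * MulAut.conj v' := by
        rw [← h.act_K hvK, ← map_mul]
        rfl
      obtain ⟨z, hz, v₂, hv₂, h5⟩ := hgen2 _ hgv (by
        rw [e]; exact hT.prod h1 (hci g hg hgi) hv'T (hVi v' hv))
      have key : ∀ x : G, g * v = z * x → g = z * (x * v) := by
        intro x hx
        have : g = g * v * v⁻¹ := by group
        rw [this, hx, inv_eq_of_mul_eq_one_left hvv, mul_assoc]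
      refine ⟨z, hz, v₂ * v, mul_mem hv₂ hv, ?_⟩
      rcases h5 with h5 | h5 | h5 | h5
      · left; exact key _ h5
      · right; left; rw [key _ h5, mul_assoc]
      · right; right; left; rw [key _ h5, mul_assoc]
      · right; right; right; rw [key _ h5, mul_assoc, mul_assoc]
  have hZK : ∀ z ∈ Z, ∃ k ∈ Z₀, (k : G) = z := by rintro _ ⟨k, hk, rfl⟩; exact ⟨k, hk, rfl⟩
  exact ⟨i, Z,
    { toLoc := hL
      y_sq := hS.y_sq
      ty := hS.ty
      yV := hS.yV
      y_not := ⟨v, hv, hyv⟩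
      i_mem := hiV
      i_ne := hi1
      iy := hiy'
      conj_y := hS.conj_y
      conj_ty := hS.conj_ty
      Z_odd := by
        change Odd (Nat.card (Z₀.map K.subtype))
        rw [Subgroup.card_map_of_injective K.subtype_injective]; exact hZodd
      Z_ne := by
        intro e
        apply hZne
        exact (Subgroup.map_eq_bot_iff_of_injective Z₀ K.subtype_injective).1 e
      Z_t := by
        intro z hz
        obtain ⟨k, -, rfl⟩ := hZK z hz
        exact hKc k k.2
      Z_i := by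
        intro z hz
        obtain ⟨k, hk, rfl⟩ := hZK z hz
        exact congrArg Subtype.val (hTc k i' (hZT k hk) hT.i_mem)
      Z_y := by
        intro z hz
        obtain ⟨k, hk, rfl⟩ := hZK z hz
        have h1 := hT.inv_of hηT hηi (hZT k hk)
        have h2 : η * MulAut.conj k * η⁻¹ = MulAut.conj (η k) := by
          ext l
          simp only [MulAut.mul_apply, MulAut.conj_apply, map_mul, map_inv, MulAut.apply_inv_self]
        rw [h2, ← map_inv] at h1
        have h3 := congrArg Subtype.val (cinj h1)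
        rw [hη, h.act_apply] at h3
        exact h3
      Z_v := by
        intro u hu hu1 hui z hz
        obtain ⟨k, hk, rfl⟩ := hZK z hz
        have hu' : MulAut.conj (⟨u, hV hu⟩ : K) ∉ T := hvT _ hu (fun e => hu1 (congrArg Subtype.val e))
          (fun e => hui (congrArg Subtype.val e))
        have h1 := hT.inv_of hu' (hVi _ hu) (hZT k hk)
        rw [← map_inv, ← map_inv, ← map_mul, ← map_mul] at h1
        exact congrArg Subtype.val (cinj h1)
      Z_gen := hgen }⟩

end Cfsg.Agent.OddCyclic.B2SpecOf
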