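import Cfsg.Agent.OddCyclic.B2Loc
import Cfsg.Agent.LieExceptional.CITGlobal

/-!
# S0342, case B2: (3.1)

`Hyp.sw_of`: if `NswAt t V` holds for no four-group `V` of `K`, then the situation `SwData` of section 3 occurs.
-/

set_option autoImplicit false

namespace Cfsg.Agent.OddCyclic.B2SwOf

open Cfsg.Agent.LieExceptional.CITDefs (Elem IsSyl2)
open Cfsg.Agent.GH.L2Aut (Dih Four)
open Cfsg.Agent.OddCyclic.B2Defs

variable {G : Type*} [Group G]

/-- powers with square one of an element of order `2^(m+1)` -/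
theorem pow_cases {A : Type*} [Group A] {c : A} {m : ℕ} (hc : orderOf c = 2 ^ (m + 1)) {k : ℤ}
    (hk : c ^ k * c ^ k = 1) : c ^ k = 1 ∨ c ^ k = c ^ 2 ^ m := by
  rw [← zpow_add] at hk
  have h1 : ((2 : ℤ) ^ (m + 1)) ∣ k + k := by
    have := orderOf_dvd_iff_zpow_eq_one.2 hk
    rw [hc] at this
    push_cast at this
    exact this
  obtain ⟨q, hq⟩ := h1
  have hq' : k = 2 ^ m * q := by
    have : k + k = 2 * (2 ^ m * q) := by rw [hq, pow_succ]; ring
    omega
  have hone : c ^ ((2 : ℤ) ^ (m + 1)) = 1 := by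
    have := pow_orderOf_eq_one c
    rw [hc] at this
    exact_mod_cast this
  rcases Int.even_or_odd' q with ⟨l, hl | hl⟩
  · left
    rw [hq', hl, show (2 : ℤ) ^ m * (2 * l) = 2 ^ (m + 1) * l by ring, zpow_mul, hone, one_zpow]
  · right
    rw [hq', hl, show (2 : ℤ) ^ m * (2 * l + 1) = 2 ^ (m + 1) * l + 2 ^ m by ring, zpow_add, zpow_mul, hone,
      one_zpow, one_mul]
    exact_mod_cast rfl

/-- integral powers are natural powers, with the parity -/
theorem exists_nat_pow {A : Type*} [Group A] {c : A} {m : ℕ} (hc : orderOf c = 2 ^ (m + 1)) (k : ℤ) :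
    ∃ n : ℕ, c ^ k = c ^ n ∧ (Odd k → Odd n) := by
  have h0 : 0 ≤ k % (2 : ℤ) ^ (m + 1) := Int.emod_nonneg _ (by positivity)
  have h1 : ((k % (2 : ℤ) ^ (m + 1)).toNat : ℤ) = k % (2 : ℤ) ^ (m + 1) := Int.toNat_of_nonneg h0
  refine ⟨(k % (2 : ℤ) ^ (m + 1)).toNat, ?_, ?_⟩
  · rw [← zpow_natCast, h1]
    have := zpow_mod_orderOf c k
    rw [hc] at this
    push_cast at this
    exact this.symm
  · intro hk
    rw [← Int.odd_coe_nat, h1]
    by_contra hcon
    rw [Int.not_odd_iff_even] at hcon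
    obtain ⟨u, hu⟩ := hcon
    have h2 := Int.emod_add_mul_ediv k ((2 : ℤ) ^ (m + 1))
    rw [hu] at h2
    apply Int.not_even_iff_odd.2 hk
    rw [← h2]
    exact ⟨u + 2 ^ m * (k / 2 ^ (m + 1)), by rw [pow_succ]; ring⟩

theorem elem_four {a b : G} (h : Four a b) : Elem h.sub := by
  rintro x (rfl | rfl | rfl | rfl)
  · exact one_mul 1
  · exact h.aa
  · exact h.bb
  · exact h.right.bb

theorem card_four {a b : G} (h : Four a b) : Nat.card h.sub = 4 := by
  classical
  have h1 : (h.sub : Set G) = ((({1, a, b, a * b} : Finset G)) : Set G) := by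
    ext x
    simp only [Finset.coe_insert, Finset.coe_singleton, Set.mem_insert_iff, Set.mem_singleton_iff]
    exact Iff.rfl
  have h2 : ({1, a, b, a * b} : Finset G).card = 4 := by
    have k1 : a ≠ a * b := fun e => h.b1 (left_eq_mul.1 e)
    have k2 : b ≠ a * b := fun e => h.a1 (right_eq_mul.1 e)
    have k3 : (1 : G) ≠ a * b := fun e => h.right.b1 e.symm
    rw [Finset.card_insert_of_notMem, Finset.card_insert_of_notMem, Finset.card_insert_of_notMem,
      Finset.card_singleton]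
    · simp only [Finset.mem_singleton]; exact k2
    · simp only [Finset.mem_insert, Finset.mem_singleton, not_or]; exact ⟨h.ne, k1⟩
    · simp only [Finset.mem_insert, Finset.mem_singleton, not_or]; exact ⟨h.a1.symm, h.b1.symm, k3⟩
  change (h.sub : Set G).ncard = 4
  rw [h1, Set.ncard_coe_finset, h2]

/-- the elements of a four-group -/
theorem mem_cases [Finite G] {V : Subgroup G} (h4 : Nat.card V = 4) {a b : G} (ha : a ∈ V) (hb : b ∈ V)
    (h : Four a b) {v : G} (hv : v ∈ V) : v = 1 ∨ v = a ∨ v = b ∨ v = a * b := by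
  have h1 : h.sub ≤ V := by
    rintro x (rfl | rfl | rfl | rfl)
    · exact one_mem _
    · exact ha
    · exact hb
    · exact mul_mem ha hb
  have h2 : h.sub = V := Subgroup.eq_of_le_of_card_ge h1 (by rw [h4, card_four h])
  rw [← h2] at hv
  exact hv

/-! ### The element moving `t` -/

/-- if `N_G(⟨t⟩V)` is transitive on `tV` then `NswAt t V` -/
theorem nsw_of_move [Finite G] {t w v x : G} {V : Subgroup G} (hL : Loc t w V) (hv : v ∈ V) (hv1 : v ≠ 1)
    (hx : x * t * x⁻¹ = t * v) (hxV : ∀ u ∈ V, x * u * x⁻¹ ∈ V) : NswAt t V := by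
  set v₂ := w * v * w⁻¹ with hv₂
  have hv₂V : v₂ ∈ V := hL.hV v hv
  set v₃ := w * v₂ * w⁻¹ with hv₃
  have hv₃V : v₃ ∈ V := hL.hV v₂ hv₂V
  have hwv₃ : w * v₃ * w⁻¹ = v := by
    have e : w * v₃ * w⁻¹ = (w * w * w) * v * (w * w * w)⁻¹ := by rw [hv₃, hv₂]; group
    rw [e, hL.h_cube]; group
  have cV : ∀ {p q : G}, p ∈ V → q ∈ V → p * q = q * p := fun hp hq => hL.elem.comm hp hq
  have hconj : ∀ u : G, w * u * w⁻¹ = u → w * u = u * w := fun u e => mul_inv_eq_iff_eq_mul.1 e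
  have ne12 : v ≠ v₂ := fun e => hv1 (hL.fpfV v hv (hconj v (hv₂ ▸ e.symm)))
  have hv₂1 : v₂ ≠ 1 := by
    intro e
    apply hv1
    have : v = w⁻¹ * v₂ * w := by rw [hv₂]; group
    rw [this, e]; group
  have hv₃1 : v₃ ≠ 1 := by
    intro e
    apply hv₂1
    have : v₂ = w⁻¹ * v₃ * w := by rw [hv₃]; group
    rw [this, e]; group
  have ne13 : v ≠ v₃ := fun e => hv₃1 (hL.fpfV v₃ hv₃V (hconj v₃ (hwv₃.trans e)))
  have ne23 : v₂ ≠ v₃ := fun e => hv₂1 (hL.fpfV v₂ hv₂V (hconj v₂ (hv₃ ▸ e.symm)))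
  have hF : Four v v₂ := ⟨hL.elem v hv, hL.elem v₂ hv₂V, hv1, hv₂1, ne12, cV hv hv₂V⟩
  have e3 : v * v₂ = v₃ := by
    rcases mem_cases hL.card_V hv hv₂V hF hv₃V with h1 | h1 | h1 | h1
    · exact absurd h1 hv₃1
    · exact absurd h1.symm ne13
    · exact absurd h1.symm ne23
    · exact h1.symm
  have hall : ∀ u ∈ V, u = 1 ∨ u = v ∨ u = v₂ ∨ u = v₃ := by
    intro u hu
    have := mem_cases hL.card_V hv hv₂V hF hu
    rwa [e3] at this
  clear_value v₂ v₃
  -- the target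
  have fin : ∀ b u : G, b * v * b⁻¹ = v → b * v₂ * b⁻¹ = v₂ → u ∈ V → u ≠ 1 → b * t * b⁻¹ = t * u →
      NswAt t V := by
    intro b u h1 h2 hu hu1 hb
    refine ⟨b, ?_, ?_, ?_⟩
    · intro z hz
      have h1' := mul_inv_eq_iff_eq_mul.1 h1
      have h2' := mul_inv_eq_iff_eq_mul.1 h2
      rcases hall z hz with e | e | e | e
      · rw [e, mul_one, one_mul]
      · rw [e]; exact h1'
      · rw [e]; exact h2'
      · rw [e]
        calc b * v₃ = b * v * v₂ := by rw [← e3, mul_assoc]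
          _ = v * (b * v₂) := by rw [h1', mul_assoc]
          _ = v * v₂ * b := by rw [h2', mul_assoc]
          _ = v₃ * b := by rw [e3]
    · rw [hb, hL.tV u hu, mul_assoc, hL.t_sq, mul_one]; exact hu
    · intro e
      rw [e, mul_inv_cancel_right] at hb
      exact hu1 (left_eq_mul.1 hb)
  -- conjugation as automorphisms
  have c : ∀ g u u' : G, g * u * g⁻¹ = u' → MulAut.conj g u = u' := fun g u u' h => h
  have ci : ∀ g u u' : G, g * u * g⁻¹ = u' → MulAut.conj g⁻¹ u' = u := by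
    intro g u u' h
    rw [← h, MulAut.conj_apply]; group
  have w1 := c w v v₂ hv₂.symm
  have w2 := c w v₂ v₃ hv₃.symm
  have w3 := c w v₃ v hwv₃
  have w1' := ci w v v₂ hv₂.symm
  have w2' := ci w v₂ v₃ hv₃.symm
  have w3' := ci w v₃ v hwv₃
  have wt : w * t * w⁻¹ = t := by rw [hL.ht, mul_inv_cancel_right]
  have wt1 := c w t t wt
  have wt2 := ci w t t wt
  have xt1 := c x t _ hx
  have n1 : ∀ u ∈ V, u ≠ 1 → x * u * x⁻¹ ≠ 1 := by
    intro u _ hu1 e
    apply hu1
    have : u = x⁻¹ * (x * u * x⁻¹) * x := by group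
    rw [this, e]; group
  have inj : ∀ u u' : G, x * u * x⁻¹ = x * u' * x⁻¹ → u = u' := by
    intro u u' e
    exact mul_left_cancel (mul_right_cancel e)
  have e31 : v * v₃ = v₂ := by rw [← e3, ← mul_assoc, hL.elem v hv, one_mul]
  have cm : ∀ g g' u : G, MulAut.conj (g * g') u = MulAut.conj g (MulAut.conj g' u) := by
    intro g g' u
    rw [map_mul, MulAut.mul_apply]
  rcases hall _ (hxV v hv) with p | p | p | p
  · exact absurd p (n1 v hv hv1)
  · -- `x` fixes `v`
    have x1 := c x v v p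
    have x1' := ci x v v p
    rcases hall _ (hxV v₂ hv₂V) with q | q | q | q
    · exact absurd q (n1 v₂ hv₂V hv₂1)
    · exact absurd (inj _ _ (q.trans p.symm)) ne12.symm
    · exact fin x v p q hv hv1 hx
    · have x2 := c x v₂ v₃ q
      have x2' := ci x v₂ v₃ q
      have q3 : x * v₃ * x⁻¹ = v₂ := by
        have e : x * v₃ * x⁻¹ = (x * v * x⁻¹) * (x * v₂ * x⁻¹) := by rw [← e3]; group
        rw [e, p, q, e31]
      have x3 := c x v₃ v₂ q3
      have x3' := ci x v₃ v₂ q3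
      have xt' : MulAut.conj x⁻¹ t = t * v := by
        apply ci
        have e : x * (t * v) * x⁻¹ = (x * t * x⁻¹) * (x * v * x⁻¹) := by group
        rw [e, hx, p, mul_assoc, hL.elem v hv, mul_one]
      refine fin (w * (w * x * w⁻¹ * x⁻¹)) v₂ ?_ ?_ hv₂V hv₂1 ?_
      · change MulAut.conj _ v = v
        simp only [map_mul, MulAut.mul_apply, x1', w3', x3, w2, w3]
      · change MulAut.conj _ v₂ = v₂
        simp only [map_mul, MulAut.mul_apply, x3', w2', x2, w3, w1]
      · change MulAut.conj _ t = t * v₂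
        simp only [map_mul, MulAut.mul_apply, xt', wt1, wt2, xt1, w3', x3, w2, w3, w1]
        rw [mul_assoc, cV hv₃V hv, e31]
  · have x1 := c x v v₂ p
    rcases hall _ (hxV v₂ hv₂V) with q | q | q | q
    · exact absurd q (n1 v₂ hv₂V hv₂1)
    · have x2 := c x v₂ v q
      refine fin (x * x) v₃ ?_ ?_ hv₃V hv₃1 ?_
      · change MulAut.conj _ v = v
        simp only [map_mul, MulAut.mul_apply, x1, x2]
      · change MulAut.conj _ v₂ = v₂
        simp only [map_mul, MulAut.mul_apply, x1, x2]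
      · change MulAut.conj _ t = t * v₃
        simp only [map_mul, MulAut.mul_apply, xt1, x1]
        rw [mul_assoc, e3]
    · exact absurd (inj _ _ (q.trans p.symm)) ne12.symm
    · have x2 := c x v₂ v₃ q
      refine fin (w⁻¹ * x) v₃ ?_ ?_ hv₃V hv₃1 ?_
      · change MulAut.conj _ v = v
        rw [cm, x1, w1']
      · change MulAut.conj _ v₂ = v₂
        rw [cm, x2, w2']
      · change MulAut.conj _ t = t * v₃
        rw [cm, xt1, map_mul, wt2, w3']
  · have x1 := c x v v₃ p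
    rcases hall _ (hxV v₂ hv₂V) with q | q | q | q
    · exact absurd q (n1 v₂ hv₂V hv₂1)
    · have x2 := c x v₂ v q
      refine fin (w * x) v₂ ?_ ?_ hv₂V hv₂1 ?_
      · change MulAut.conj _ v = v
        rw [cm, x1, w3]
      · change MulAut.conj _ v₂ = v₂
        rw [cm, x2, w1]
      · change MulAut.conj _ t = t * v₂
        rw [cm, xt1, map_mul, wt1, w1]
    · have x2 := c x v₂ v₂ q
      have q3 : x * v₃ * x⁻¹ = v := by
        have e : x * v₃ * x⁻¹ = (x * v * x⁻¹) * (x * v₂ * x⁻¹) := by rw [← e3]; group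
        rw [e, p, q, ← e3, mul_assoc, hL.elem v₂ hv₂V, mul_one]
      have x3 := c x v₃ v q3
      refine fin (x * x) v₂ ?_ ?_ hv₂V hv₂1 ?_
      · change MulAut.conj _ v = v
        simp only [map_mul, MulAut.mul_apply, x1, x3]
      · change MulAut.conj _ v₂ = v₂
        simp only [map_mul, MulAut.mul_apply, x2]
      · change MulAut.conj _ t = t * v₂
        simp only [map_mul, MulAut.mul_apply, xt1, x1]
        rw [mul_assoc, e31]
    · exact absurd (inj _ _ (q.trans p.symm)) ne12.symm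

/-! ### The situation `|S| ≥ 16` -/

/-- `S` a Sylow 2-subgroup of `C_G(t)`, acting on `K` by `f` as the dihedral group `P = ⟨c, f b⟩` of order
`2^(m+2) ≥ 8`; `I` the inner automorphisms. -/
structure Cfg {A : Type*} [Group A] (t x b : G) (S K : Subgroup G) (f : G → A) (I P : Subgroup A) (c : A)
    (m : ℕ) : Prop where
  t_sq : t * t = 1
  t_ne : t ≠ 1
  tS : t ∈ S
  comm : ∀ s ∈ S, s * t = t * s
  Kt : ∀ k ∈ K, k * t = t * k
  nK : ∀ s ∈ S, ∀ k ∈ K, s * k * s⁻¹ ∈ K
  f_mul : ∀ s ∈ S, ∀ s' ∈ S, f (s * s') = f s * f s'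
  ker : ∀ s ∈ S, f s = 1 → s = 1 ∨ s = t
  ft : f t = 1
  inn : ∀ s ∈ S, f s ∈ I → s ∈ K ∨ t * s ∈ K
  innK : ∀ s ∈ S, s ∈ K → f s ∈ I
  out : ∀ a ∈ P, ∀ a' ∈ P, a ∉ I → a' ∉ I → a * a' ∈ I
  bS : b ∈ S
  bK : b ∈ K
  dih : Dih P c (f b)
  fP : ∀ s ∈ S, f s ∈ P
  Pf : ∀ a ∈ P, ∃ s ∈ S, f s = a
  ord : orderOf c = 2 ^ (m + 1)
  hm : 1 ≤ m
  alt : P ≤ I ∨ c ∉ I
  conjK : ∀ k ∈ K, k * k = 1 → k ≠ 1 → ∀ k' ∈ K, k' * k' = 1 → k' ≠ 1 → ∃ g ∈ K, g * k * g⁻¹ = k'
  not_conj : ∀ g : G, g * t * g⁻¹ ∉ K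
  x_two : ∃ k : ℕ, x ^ 2 ^ k = 1
  xS : ∀ s ∈ S, x * s * x⁻¹ ∈ S
  xS' : ∀ s ∈ S, x⁻¹ * s * x ∈ S
  xt : x * t ≠ t * x
  syl : IsSyl2 (Subgroup.centralizer ({t} : Set G)) S

namespace Cfg

variable {A : Type*} [Group A] {t x b : G} {S K : Subgroup G} {f : G → A} {I P : Subgroup A} {c : A} {m : ℕ}
  (h : Cfg t x b S K f I P c m)

include h

theorem t_notin : t ∉ K := by
  have := h.not_conj 1
  rwa [one_mul, inv_one, mul_one] at this

theorem f_one : f 1 = 1 := by
  have := h.f_mul 1 (one_mem _) 1 (one_mem _)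
  rw [mul_one] at this
  exact (left_eq_mul.1 this)

theorem f_inv {s : G} (hs : s ∈ S) : f s⁻¹ = (f s)⁻¹ := by
  rw [eq_inv_iff_mul_eq_one, ← h.f_mul _ (inv_mem hs) _ hs, inv_mul_cancel, h.f_one]

/-- `f` as a homomorphism -/
theorem exists_hom : ∃ φ : ↥S →* A, ∀ s : S, φ s = f s :=
  ⟨{ toFun := fun s => f s, map_one' := h.f_one, map_mul' := fun s s' => h.f_mul s s.2 s' s'.2 }, fun _ => rfl⟩

theorem f_zpow {s : G} (hs : s ∈ S) (k : ℤ) : f (s ^ k) = f s ^ k := by
  obtain ⟨φ, hφ⟩ := h.exists_hom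
  have := map_zpow φ ⟨s, hs⟩ k
  rw [hφ, hφ] at this
  exact this

theorem f_pow {s : G} (hs : s ∈ S) (k : ℕ) : f (s ^ k) = f s ^ k := by
  obtain ⟨φ, hφ⟩ := h.exists_hom
  have := map_pow φ ⟨s, hs⟩ k
  rw [hφ, hφ] at this
  exact this

theorem f_conj {s u : G} (hs : s ∈ S) (hu : u ∈ S) : f (s * u * s⁻¹) = f s * f u * (f s)⁻¹ := by
  rw [h.f_mul _ (mul_mem hs hu) _ (inv_mem hs), h.f_mul _ hs _ hu, h.f_inv hs]

theorem f_t {s : G} (hs : s ∈ S) : f (t * s) = f s := by
  rw [h.f_mul _ h.tS _ hs, h.ft, one_mul]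

theorem f_eq {s s' : G} (hs : s ∈ S) (hs' : s' ∈ S) (e : f s = f s') : s = s' ∨ s = t * s' := by
  have h1 : f (s * s'⁻¹) = 1 := by rw [h.f_mul _ hs _ (inv_mem hs'), h.f_inv hs', e, mul_inv_cancel]
  rcases h.ker _ (mul_mem hs (inv_mem hs')) h1 with h2 | h2
  · exact Or.inl (mul_inv_eq_one.1 h2)
  · exact Or.inr (mul_inv_eq_iff_eq_mul.1 h2)

theorem tt_mul (s : G) : t * (t * s) = s := by rw [← mul_assoc, h.t_sq, one_mul]

theorem bb : b * b = 1 := by
  have h1 : f (b * b) = 1 := by rw [h.f_mul _ h.bS _ h.bS]; exact h.dih.rr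
  rcases h.ker _ (mul_mem h.bS h.bS) h1 with h2 | h2
  · exact h2
  · exact absurd (h2 ▸ mul_mem h.bK h.bK) h.t_notin

theorem b_ne : b ≠ 1 := fun e => h.dih.r1 (by rw [e]; exact h.f_one)

theorem c_sq_inn : c * c ∈ I := by
  rcases h.alt with h1 | h1
  · exact mul_mem (h1 h.dih.d_mem) (h1 h.dih.d_mem)
  · exact h.out c h.dih.d_mem c h.dih.d_mem h1 h1

theorem exists_i : ∃ i ∈ K, i ∈ S ∧ f i = c ^ 2 ^ m ∧ i * i = 1 ∧ i ≠ 1 ∧ ∀ s ∈ S, s * i = i * s := by
  have hP : c ^ 2 ^ m ∈ P := pow_mem h.dih.d_mem _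
  have hI : c ^ 2 ^ m ∈ I := by
    obtain ⟨l, hl⟩ : ∃ l, m = l + 1 := ⟨m - 1, by have := h.hm; omega⟩
    rw [hl, pow_succ, mul_comm, pow_mul, sq]
    exact pow_mem h.c_sq_inn _
  have hcc : c ^ 2 ^ m * c ^ 2 ^ m = 1 := by
    rw [← pow_add, ← two_mul, ← pow_succ', ← h.ord, pow_orderOf_eq_one]
  have hc1 : c ^ 2 ^ m ≠ 1 := by
    intro h1
    have h2 := Nat.le_of_dvd (pow_pos (by norm_num) _) (orderOf_dvd_of_pow_eq_one h1)
    rw [h.ord] at h2
    exact absurd h2 (not_le.2 (Nat.pow_lt_pow_right (by norm_num) (Nat.lt_succ_self m)))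
  obtain ⟨s, hs, hsf⟩ := h.Pf _ hP
  obtain ⟨i, hiK, hiS, hif⟩ : ∃ i ∈ K, i ∈ S ∧ f i = c ^ 2 ^ m := by
    rcases h.inn s hs (hsf ▸ hI) with h1 | h1
    · exact ⟨s, h1, hs, hsf⟩
    · exact ⟨t * s, h1, mul_mem h.tS hs, by rw [h.f_t hs, hsf]⟩
  refine ⟨i, hiK, hiS, hif, ?_, ?_, ?_⟩
  · have h1 : f (i * i) = 1 := by rw [h.f_mul _ hiS _ hiS, hif, hcc]
    rcases h.ker _ (mul_mem hiS hiS) h1 with h2 | h2
    · exact h2
    · exact absurd (h2 ▸ mul_mem hiK hiK) h.t_notin
  · intro e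
    rw [e, h.f_one] at hif
    exact hc1 hif.symm
  · intro u hu
    have hinv : (c ^ 2 ^ m)⁻¹ = c ^ 2 ^ m := inv_eq_of_mul_eq_one_left hcc
    have h1 : f (u * i * u⁻¹) = f i := by
      rw [h.f_conj hu hiS, hif]
      rcases h.dih.cov _ (h.fP u hu) with h2 | ⟨k, h2⟩
      · obtain ⟨k, hk⟩ := Subgroup.mem_zpowers_iff.1 h2
        rw [← hk, ← zpow_natCast, ← zpow_add, ← zpow_neg, ← zpow_add]
        congr 1; ring
      · have := h.dih.pow_r_conj k ((2 ^ m : ℕ) : ℤ)
        rw [h2, ← zpow_natCast, this, zpow_neg, zpow_natCast, hinv]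
    have h3 : u * i * u⁻¹ ∈ S := mul_mem (mul_mem hu hiS) (inv_mem hu)
    rcases h.f_eq h3 hiS h1 with h2 | h2
    · exact mul_inv_eq_iff_eq_mul.1 h2
    · exfalso
      have h4 := h.nK u hu i hiK
      rw [h2] at h4
      exact h.t_notin ((Subgroup.mul_mem_cancel_right _ hiK).1 h4)

theorem two_lt : c * c ≠ 1 := by
  intro e
  have h1 : orderOf c ∣ 2 := orderOf_dvd_of_pow_eq_one (by rw [sq]; exact e)
  rw [h.ord] at h1
  have h2 := Nat.le_of_dvd (by norm_num) h1
  have h3 : 2 ^ 2 ≤ 2 ^ (m + 1) := Nat.pow_le_pow_right (by norm_num) (by have := h.hm; omega)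
  omega

/-- the centre of `S` -/
theorem center {i : G} (hiS : i ∈ S) (hif : f i = c ^ 2 ^ m) {z : G} (hz : z ∈ S)
    (hzc : ∀ s ∈ S, z * s = s * z) : z = 1 ∨ z = t ∨ z = i ∨ z = t * i := by
  have hcomm : ∀ a ∈ P, f z * a = a * f z := by
    intro a ha
    obtain ⟨s, hs, rfl⟩ := h.Pf a ha
    rw [← h.f_mul _ hz _ hs, ← h.f_mul _ hs _ hz, hzc s hs]
  rcases h.dih.cov _ (h.fP z hz) with h2 | ⟨k, h2⟩
  · obtain ⟨k, hk⟩ := Subgroup.mem_zpowers_iff.1 h2
    have h3 : c ^ k * c ^ k = 1 := by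
      have h4 := hcomm _ h.dih.r_mem
      rw [← hk] at h4
      have h5 := h.dih.r_pow' k
      rw [← h4] at h5
      have h6 := mul_right_cancel h5
      rw [zpow_neg] at h6
      nth_rw 1 [h6]
      exact inv_mul_cancel _
    rcases pow_cases h.ord h3 with h4 | h4
    · rcases h.ker z hz (by rw [← hk, h4]) with h5 | h5
      · exact Or.inl h5
      · exact Or.inr (Or.inl h5)
    · rcases h.f_eq hz hiS (by rw [← hk, h4, hif]) with h5 | h5
      · exact Or.inr (Or.inr (Or.inl h5))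
      · exact Or.inr (Or.inr (Or.inr h5))
  · exfalso
    apply h.two_lt
    have h4 := hcomm _ h.dih.d_mem
    have h5 := h.dih.pow_r_conj k 1
    rw [← h2, zpow_one, h4, mul_inv_cancel_right, zpow_neg, zpow_one] at h5
    nth_rw 1 [h5]
    exact inv_mul_cancel _

theorem x_t {i : G} (hiK : i ∈ K) (hiS : i ∈ S) (hif : f i = c ^ 2 ^ m) (hic : ∀ s ∈ S, s * i = i * s) :
    x * t * x⁻¹ = t * i ∧ x * i * x⁻¹ = i := by
  have hzz : ∀ z ∈ S, (∀ s ∈ S, z * s = s * z) → ∀ s ∈ S, (x * z * x⁻¹) * s = s * (x * z * x⁻¹) := by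
    intro z _ hc s hs
    have h1 := hc _ (h.xS' s hs)
    have e1 : x * z * x⁻¹ * s = x * (z * (x⁻¹ * s * x)) * x⁻¹ := by group
    have e2 : s * (x * z * x⁻¹) = x * ((x⁻¹ * s * x) * z) * x⁻¹ := by group
    rw [e1, e2, h1]
  have h1 : x * t * x⁻¹ = t * i := by
    rcases h.center hiS hif (h.xS t h.tS) (hzz t h.tS fun s hs => (h.comm s hs).symm) with h2 | h2 | h2 | h2
    · exfalso
      apply h.t_ne
      have : t = x⁻¹ * (x * t * x⁻¹) * x := by group
      rw [this, h2]; group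
    · exact absurd (mul_inv_eq_iff_eq_mul.1 h2) h.xt
    · exact absurd (h2 ▸ hiK) (h.not_conj x)
    · exact h2
  refine ⟨h1, ?_⟩
  rcases h.center hiS hif (h.xS i hiS) (hzz i hiS fun s hs => (hic s hs).symm) with h2 | h2 | h2 | h2
  · have e : i = 1 := by
      have : i = x⁻¹ * (x * i * x⁻¹) * x := by group
      rw [this, h2]; group
    rw [e]; group
  · exfalso
    apply h.not_conj x⁻¹
    have : x⁻¹ * t * x⁻¹⁻¹ = i := by rw [← h2]; group
    rw [this]; exact hiK
  · exact h2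
  · exfalso
    rw [← h1] at h2
    have h3 : i = t := mul_left_cancel (mul_right_cancel h2)
    exact h.t_notin (h3 ▸ hiK)

/-- `t` is conjugate to `t k` for every involution `k` of `K` -/
theorem conj_tk {i : G} (hiK : i ∈ K) (hi1 : i ≠ 1) (hii : i * i = 1) (hx : x * t * x⁻¹ = t * i) {k : G}
    (hk : k ∈ K) (hk2 : k * k = 1) (hk1 : k ≠ 1) : ∃ g : G, g * t * g⁻¹ = t * k := by
  obtain ⟨g, hg, e⟩ := h.conjK i hiK hii hi1 k hk hk2 hk1
  refine ⟨g * x, ?_⟩
  have e1 : g * x * t * (g * x)⁻¹ = g * (x * t * x⁻¹) * g⁻¹ := by group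
  have e2 : g * (t * i) * g⁻¹ = (g * t) * i * g⁻¹ := by group
  rw [e1, hx, e2, h.Kt g hg]
  have e3 : t * g * i * g⁻¹ = t * (g * i * g⁻¹) := by group
  rw [e3, e]

/-- **(3.1)** for `|S| ≥ 16` -/
theorem sw [Finite G] : (∃ V ≤ K, Elem V ∧ Nat.card V = 4 ∧ NswAt t V) ∨
    ∃ (c b x : G) (n : ℕ) (S D : Subgroup G), SwData t c b x n S D := by
  obtain ⟨i, hiK, hiS, hif, hii, hi1, hic⟩ := h.exists_i
  obtain ⟨hxt, hxi⟩ := h.x_t hiK hiS hif hic
  have hbb := h.bb
  have hbt := h.Kt b h.bK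
  have hib : i ≠ b := by
    intro e
    apply h.dih.r_not
    rw [← e, hif]
    exact pow_mem (Subgroup.mem_zpowers c) _
  have hibc := hic b h.bS
  have hF : Four i b := ⟨hii, hbb, hi1, h.b_ne, hib, hibc.symm⟩
  have hFK : hF.sub ≤ K := by
    rintro y (rfl | rfl | rfl | rfl)
    · exact one_mem _
    · exact hiK
    · exact h.bK
    · exact mul_mem hiK h.bK
  set w := x * b * x⁻¹ with hw
  have hwS : w ∈ S := h.xS b h.bS
  have hww : w * w = 1 := by
    have : w * w = x * (b * b) * x⁻¹ := by rw [hw]; group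
    rw [this, hbb]; group
  have hfw2 : f w * f w = 1 := by rw [← h.f_mul _ hwS _ hwS, hww, h.f_one]
  have hnc : ∀ z, z = 1 ∨ z = t ∨ z = i ∨ z = t * i → ∃ z', (z' = 1 ∨ z' = t ∨ z' = i ∨ z' = t * i) ∧
      x * z' * x⁻¹ = z := by
    rintro z (rfl | rfl | rfl | rfl)
    · exact ⟨1, Or.inl rfl, by group⟩
    · refine ⟨z * i, Or.inr (Or.inr (Or.inr rfl)), ?_⟩
      have e : x * (z * i) * x⁻¹ = (x * z * x⁻¹) * (x * i * x⁻¹) := by group
      rw [e, hxt, hxi, mul_assoc, hii, mul_one]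
    · exact ⟨z, Or.inr (Or.inr (Or.inl rfl)), hxi⟩
    · exact ⟨t, Or.inr (Or.inl rfl), hxt⟩
  obtain ⟨j, hj⟩ : ∃ j : ℤ, f w = c ^ j * f b := by
    rcases h.dih.cov _ (h.fP w hwS) with h2 | h2
    · exfalso
      obtain ⟨k, hk⟩ := Subgroup.mem_zpowers_iff.1 h2
      have h3 : c ^ k * c ^ k = 1 := by rw [hk]; exact hfw2
      have h4 : w = 1 ∨ w = t ∨ w = i ∨ w = t * i := by
        rcases pow_cases h.ord h3 with h4 | h4
        · rcases h.ker w hwS (by rw [← hk, h4]) with h5 | h5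
          · exact Or.inl h5
          · exact Or.inr (Or.inl h5)
        · rcases h.f_eq hwS hiS (by rw [← hk, h4, hif]) with h5 | h5
          · exact Or.inr (Or.inr (Or.inl h5))
          · exact Or.inr (Or.inr (Or.inr h5))
      obtain ⟨z', hz', e⟩ := hnc w h4
      have h5 : z' = b := mul_left_cancel (mul_right_cancel e)
      apply h.dih.r_not
      rw [← h5]
      rcases hz' with e' | e' | e' | e'
      · rw [e', h.f_one]; exact one_mem _
      · rw [e', h.ft]; exact one_mem _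
      · rw [e', hif]; exact pow_mem (Subgroup.mem_zpowers c) _
      · rw [e', h.f_t hiS, hif]; exact pow_mem (Subgroup.mem_zpowers c) _
    · exact h2
  have hx't : x⁻¹ * t * x = t * i := by
    have e : x⁻¹ * t * x = x⁻¹ * (x * (t * i) * x⁻¹) * x := by
      have e1 : x * (t * i) * x⁻¹ = (x * t * x⁻¹) * (x * i * x⁻¹) := by group
      rw [e1, hxt, hxi, mul_assoc t i i, hii, mul_one]
    have e2 : x⁻¹ * (x * (t * i) * x⁻¹) * x = t * i := by group
    rw [e, e2]
  have hctk := fun {k : G} => h.conj_tk hiK hi1 hii hxt (k := k)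
  rcases Int.even_or_odd' j with ⟨l, hl | hl⟩
  · -- `j` even
    left
    refine ⟨hF.sub, hFK, elem_four hF, card_four hF, ?_⟩
    obtain ⟨s, hs, hsf⟩ := h.Pf (c ^ l) (zpow_mem h.dih.d_mem l)
    have hs1 : f (s⁻¹ * w * s) = f b := by
      have e := h.f_conj (inv_mem hs) hwS
      rw [inv_inv] at e
      rw [e, h.f_inv hs, inv_inv, hsf, hj, hl]
      have e2 := h.dih.r_pow' l
      rw [mul_assoc, mul_assoc, e2, ← mul_assoc, ← mul_assoc, ← zpow_neg, ← zpow_add, ← zpow_add]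
      have : -l + 2 * l + -l = 0 := by ring
      rw [this, zpow_zero, one_mul]
    have hsS : s⁻¹ * w * s ∈ S := mul_mem (mul_mem (inv_mem hs) hwS) hs
    have hst := h.comm s hs
    have hsi := hic s hs
    have hx'tt : s⁻¹ * x * t * (s⁻¹ * x)⁻¹ = t * i := by
      have e : s⁻¹ * x * t * (s⁻¹ * x)⁻¹ = s⁻¹ * (x * t * x⁻¹) * s := by group
      rw [e, hxt]
      have e2 : s⁻¹ * (t * i) * s = (s⁻¹ * t * s) * (s⁻¹ * i * s) := by group
      have e3 : s⁻¹ * t * s = t := by rw [mul_assoc, ← hst]; group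
      have e4 : s⁻¹ * i * s = i := by rw [mul_assoc, ← hsi]; group
      rw [e2, e3, e4]
    have hx'b : s⁻¹ * x * b * (s⁻¹ * x)⁻¹ = b := by
      have e : s⁻¹ * x * b * (s⁻¹ * x)⁻¹ = s⁻¹ * w * s := by rw [hw]; group
      rw [e]
      rcases h.f_eq hsS h.bS hs1 with h2 | h2
      · exact h2
      · exfalso
        obtain ⟨g, hg⟩ := hctk h.bK hbb h.b_ne
        apply h.not_conj ((s⁻¹ * x)⁻¹ * g)
        have e5 : (s⁻¹ * x)⁻¹ * g * t * ((s⁻¹ * x)⁻¹ * g)⁻¹ = (s⁻¹ * x)⁻¹ * (g * t * g⁻¹) * (s⁻¹ * x) := by group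
        rw [e5, hg, ← h2, ← e]
        have e6 : (s⁻¹ * x)⁻¹ * (s⁻¹ * x * b * (s⁻¹ * x)⁻¹) * (s⁻¹ * x) = b := by group
        rw [e6]; exact h.bK
    have hx'i : s⁻¹ * x * i * (s⁻¹ * x)⁻¹ = i := by
      have e : s⁻¹ * x * i * (s⁻¹ * x)⁻¹ = s⁻¹ * (x * i * x⁻¹) * s := by group
      rw [e, hxi, mul_assoc, ← hsi]; group
    have ci := mul_inv_eq_iff_eq_mul.1 hx'i
    have cb := mul_inv_eq_iff_eq_mul.1 hx'b
    refine ⟨s⁻¹ * x, ?_, ?_, ?_⟩
    · rintro v (rfl | rfl | rfl | rfl)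
      · rw [mul_one, one_mul]
      · exact ci
      · exact cb
      · rw [← mul_assoc, ci, mul_assoc, cb, mul_assoc]
    · rw [hx'tt]
      have : t * i * t = i := by rw [mul_assoc, h.Kt i hiK, h.tt_mul]
      rw [this]
      exact Or.inr (Or.inl rfl)
    · intro e
      rw [e, mul_inv_cancel_right] at hx'tt
      exact hi1 (left_eq_mul.1 hx'tt)
  · -- `j` odd
    right
    have hwinv : w⁻¹ = w := inv_eq_of_mul_eq_one_left hww
    have htw : t * w ∉ K := by
      intro h1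
      have h2 : t * w * (t * w) = 1 := by
        rw [mul_assoc, ← mul_assoc w, h.comm w hwS, mul_assoc t w, h.tt_mul, hww]
      have h3 : t * w ≠ 1 := by
        intro e
        have e1 : w = t := by rw [← h.tt_mul w, e, mul_one]
        apply h.not_conj x⁻¹
        have e2 : x⁻¹ * t * x⁻¹⁻¹ = b := by rw [← e1, hw]; group
        rw [e2]; exact h.bK
      obtain ⟨g, hg⟩ := hctk h1 h2 h3
      rw [h.tt_mul] at hg
      apply h.not_conj (x⁻¹ * g)
      have e2 : x⁻¹ * g * t * (x⁻¹ * g)⁻¹ = x⁻¹ * (g * t * g⁻¹) * x := by group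
      have e3 : x⁻¹ * w * x = b := by rw [hw]; group
      rw [e2, hg, e3]; exact h.bK
    have hwK : ∀ k ∈ K, w * k * w ∈ K := by
      intro k hk
      have := h.nK w hwS k hk
      rwa [hwinv] at this
    have wwl : ∀ g : G, w * (w * g) = g := fun g => by rw [← mul_assoc, hww, one_mul]
    let D : Subgroup G :=
      { carrier := {s | s ∈ S ∧ (s ∈ K ∨ w * s ∈ K)}
        one_mem' := ⟨one_mem _, Or.inl (one_mem _)⟩
        mul_mem' := by
          rintro s s' ⟨hs, hs1⟩ ⟨hs', hs1'⟩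
          refine ⟨mul_mem hs hs', ?_⟩
          rcases hs1 with h1 | h1 <;> rcases hs1' with h2 | h2
          · exact Or.inl (mul_mem h1 h2)
          · right
            have e : w * (s * s') = (w * s * w) * (w * s') := by
              rw [mul_assoc (w * s), wwl, mul_assoc w s s']
            rw [e]; exact mul_mem (hwK s h1) h2
          · right
            rw [← mul_assoc]; exact mul_mem h1 h2
          · left
            have e : s * s' = w * (w * s) * w * (w * s') := by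
              rw [wwl, mul_assoc s, wwl]
            rw [e]; exact mul_mem (hwK _ h1) h2
        inv_mem' := by
          rintro s ⟨hs, h1⟩
          refine ⟨inv_mem hs, ?_⟩
          rcases h1 with h1 | h1
          · exact Or.inl (inv_mem h1)
          · right
            have e : w * s⁻¹ = w * (w * s)⁻¹ * w := by
              rw [mul_inv_rev, hwinv, mul_assoc w (s⁻¹ * w) w, mul_assoc s⁻¹ w w, hww, mul_one]
            rw [e]; exact hwK _ (inv_mem h1) }
    have hDS : ∀ {d}, d ∈ D → d ∈ S := fun hd => hd.1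
    have hcov : ∀ s ∈ S, s ∈ D ∨ t * s ∈ D := by
      intro s hs
      by_cases h1 : f s ∈ I
      · rcases h.inn s hs h1 with h2 | h2
        · exact Or.inl ⟨hs, Or.inl h2⟩
        · exact Or.inr ⟨mul_mem h.tS hs, Or.inl h2⟩
      · have hcI : c ∉ I := by
          rcases h.alt with h2 | h2
          · exact absurd (h2 (h.fP s hs)) h1
          · exact h2
        have hwI : f w ∉ I := by
          intro h2
          apply hcI
          rw [hj] at h2
          have h3 : c ^ j ∈ I := (Subgroup.mul_mem_cancel_right _ (h.innK b h.bS h.bK)).1 h2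
          rw [hl, zpow_add, zpow_mul, zpow_ofNat, sq, zpow_one] at h3
          exact (Subgroup.mul_mem_cancel_left _ (zpow_mem h.c_sq_inn l)).1 h3
        have h2 := h.out _ (h.fP w hwS) _ (h.fP s hs) hwI h1
        rw [← h.f_mul _ hwS _ hs] at h2
        rcases h.inn _ (mul_mem hwS hs) h2 with h3 | h3
        · exact Or.inl ⟨hs, Or.inr h3⟩
        · refine Or.inr ⟨mul_mem h.tS hs, Or.inr ?_⟩
          rwa [← mul_assoc, h.comm w hwS, mul_assoc]
    have htD : t ∉ D := by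
      rintro ⟨-, h1 | h1⟩
      · exact h.t_notin h1
      · rw [h.comm w hwS] at h1; exact htw h1
    have hiD : i ∈ D := ⟨hiS, Or.inl hiK⟩
    have hbD : b ∈ D := ⟨h.bS, Or.inl h.bK⟩
    have hwD : w ∈ D := ⟨hwS, Or.inr (by rw [hww]; exact one_mem _)⟩
    have hnD : ∀ s ∈ S, ∀ d ∈ D, s * d * s⁻¹ ∈ D := by
      intro s hs d hd
      rcases hcov s hs with h1 | h1
      · exact mul_mem (mul_mem h1 hd) (inv_mem h1)
      · have e : s * d * s⁻¹ = (t * s) * d * (t * s)⁻¹ := by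
          have e1 : (t * s) * d * (t * s)⁻¹ = t * (s * d * s⁻¹) * t⁻¹ := by group
          have e2 := h.comm (s * d * s⁻¹) (mul_mem (mul_mem hs (hDS hd)) (inv_mem hs))
          rw [e1, ← e2, mul_inv_cancel_right]
        rw [e]; exact mul_mem (mul_mem h1 hd) (inv_mem h1)
    have finj : ∀ d ∈ D, ∀ d' ∈ D, f d = f d' → d = d' := by
      intro d hd d' hd' e
      rcases h.f_eq (hDS hd) (hDS hd') e with h1 | h1
      · exact h1
      · exact absurd ((Subgroup.mul_mem_cancel_right _ hd').1 (h1 ▸ hd)) htD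
    have hfc : ∀ (q k : ℤ) (s u : G), s ∈ S → u ∈ S → f s = c ^ q → f u = c ^ k * f b →
        f (s * u * s⁻¹) = c ^ (2 * q + k) * f b := by
      intro q k s u hs hu h1 h2
      have e2 := h.dih.r_pow' (-q)
      rw [h.f_conj hs hu, h1, h2, ← zpow_neg, mul_assoc, mul_assoc, e2, ← mul_assoc, ← mul_assoc, ← zpow_add,
        ← zpow_add]
      congr 2; ring
    have hinv : ∀ d ∈ D, d * d = 1 → d ≠ 1 → d = i ∨ (∃ s ∈ S, d = s * b * s⁻¹) ∨ ∃ s ∈ S, d = s * w * s⁻¹ := by
      intro d hd hdd hd1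
      have hfd : f d * f d = 1 := by rw [← h.f_mul _ (hDS hd) _ (hDS hd), hdd, h.f_one]
      rcases h.dih.cov _ (h.fP d (hDS hd)) with h2 | ⟨k, h2⟩
      · obtain ⟨k, hk⟩ := Subgroup.mem_zpowers_iff.1 h2
        rw [← hk] at hfd
        rcases pow_cases h.ord hfd with h4 | h4
        · exact absurd (finj d hd 1 (one_mem _) (by rw [← hk, h4, h.f_one])) hd1
        · exact Or.inl (finj d hd i hiD (by rw [← hk, h4, hif]))
      · right
        rcases Int.even_or_odd' k with ⟨q, hq | hq⟩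
        · left
          obtain ⟨s, hs, hsf⟩ := h.Pf (c ^ q) (zpow_mem h.dih.d_mem q)
          refine ⟨s, hs, finj d hd _ (hnD s hs b hbD) ?_⟩
          rw [hfc q 0 s b hs h.bS hsf (by rw [zpow_zero, one_mul]), h2, hq, add_zero]
        · right
          obtain ⟨s, hs, hsf⟩ := h.Pf (c ^ (q - l)) (zpow_mem h.dih.d_mem _)
          refine ⟨s, hs, finj d hd _ (hnD s hs w hwD) ?_⟩
          rw [hfc (q - l) j s w hs hwS hsf hj, h2, hq, hl]
          congr 2; ring
    have hND : ∀ g : G, g * t * g⁻¹ ∉ D := by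
      intro g hg
      have h1 : g * t * g⁻¹ * (g * t * g⁻¹) = 1 := by
        have : g * t * g⁻¹ * (g * t * g⁻¹) = g * (t * t) * g⁻¹ := by group
        rw [this, h.t_sq]; group
      have h2 : g * t * g⁻¹ ≠ 1 := by
        intro e
        apply h.t_ne
        have : t = g⁻¹ * (g * t * g⁻¹) * g := by group
        rw [this, e]; group
      rcases hinv _ hg h1 h2 with h3 | ⟨s, hs, h3⟩ | ⟨s, hs, h3⟩
      · exact h.not_conj g (h3 ▸ hiK)
      · apply h.not_conj (s⁻¹ * g)
        have e : s⁻¹ * g * t * (s⁻¹ * g)⁻¹ = s⁻¹ * (g * t * g⁻¹) * s := by group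
        have e2 : s⁻¹ * (s * b * s⁻¹) * s = b := by group
        rw [e, h3, e2]; exact h.bK
      · apply h.not_conj ((s * x)⁻¹ * g)
        have e : (s * x)⁻¹ * g * t * ((s * x)⁻¹ * g)⁻¹ = (s * x)⁻¹ * (g * t * g⁻¹) * (s * x) := by group
        have e2 : (s * x)⁻¹ * (s * w * s⁻¹) * (s * x) = b := by rw [hw]; group
        rw [e, h3, e2]; exact h.bK
    have hct : ∀ d ∈ D, d * d = 1 → d ≠ 1 → ∃ g : G, g * t * g⁻¹ = t * d := by
      intro d hd hdd hd1
      have key : ∀ s ∈ S, ∀ u, (∃ g : G, g * t * g⁻¹ = t * u) → ∃ g : G, g * t * g⁻¹ = t * (s * u * s⁻¹) := by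
        rintro s hs u ⟨g, hg⟩
        refine ⟨s * g, ?_⟩
        have e : s * g * t * (s * g)⁻¹ = s * (g * t * g⁻¹) * s⁻¹ := by group
        rw [e, hg, ← mul_assoc, h.comm s hs]; group
      rcases hinv d hd hdd hd1 with rfl | ⟨s, hs, rfl⟩ | ⟨s, hs, rfl⟩
      · exact hctk hiK hii hi1
      · exact key s hs b (hctk h.bK hbb h.b_ne)
      · apply key s hs w
        obtain ⟨g, hg⟩ := hctk (mul_mem hiK h.bK) hF.right.bb hF.right.b1
        refine ⟨x * g, ?_⟩
        have e : x * g * t * (x * g)⁻¹ = x * (g * t * g⁻¹) * x⁻¹ := by group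
        have e1 : x * (t * (i * b)) * x⁻¹ = (x * t * x⁻¹) * (x * i * x⁻¹) * (x * b * x⁻¹) := by group
        rw [e, hg, e1, hxt, hxi, mul_assoc t i i, hii, mul_one]
    have hxI : ∀ d ∈ D, d * d = 1 → x * d * x⁻¹ ∈ D := by
      intro d hd hdd
      have heS : x * d * x⁻¹ ∈ S := h.xS d (hDS hd)
      have hee : x * d * x⁻¹ * (x * d * x⁻¹) = 1 := by
        have : x * d * x⁻¹ * (x * d * x⁻¹) = x * (d * d) * x⁻¹ := by group
        rw [this, hdd]; group
      rcases hcov _ heS with h1 | h1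
      · exact h1
      · exfalso
        have hte : t * (x * d * x⁻¹) * (t * (x * d * x⁻¹)) = 1 := by
          rw [mul_assoc t, ← mul_assoc (x * d * x⁻¹) t, h.comm _ heS, mul_assoc t, h.tt_mul, hee]
        by_cases h3 : t * (x * d * x⁻¹) = 1
        · have e1 : x * d * x⁻¹ = t := by rw [← h.tt_mul (x * d * x⁻¹), h3, mul_one]
          apply hND x⁻¹
          have e2 : x⁻¹ * t * x⁻¹⁻¹ = d := by rw [← e1]; group
          rw [e2]; exact hd
        · obtain ⟨g, hg⟩ := hct _ h1 hte h3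
          rw [h.tt_mul] at hg
          apply hND (x⁻¹ * g)
          have e : x⁻¹ * g * t * (x⁻¹ * g)⁻¹ = x⁻¹ * (g * t * g⁻¹) * x := by group
          have e2 : x⁻¹ * (x * d * x⁻¹) * x = d := by group
          rw [e, hg, e2]; exact hd
    obtain ⟨c₀, hc₀D, hc₀f⟩ : ∃ c₀ ∈ D, f c₀ = c := by
      obtain ⟨s, hs, hsf⟩ := h.Pf c h.dih.d_mem
      rcases hcov s hs with h1 | h1
      · exact ⟨s, h1, hsf⟩
      · exact ⟨t * s, h1, by rw [h.f_t hs, hsf]⟩
    have hc₀S := hDS hc₀D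
    have hc₀b : c₀ * b * (c₀ * b) = 1 := by
      have h1 := mul_mem hc₀D hbD
      apply finj _ (mul_mem h1 h1) 1 (one_mem _)
      rw [h.f_mul _ (hDS h1) _ (hDS h1), h.f_mul _ hc₀S _ h.bS, hc₀f, h.f_one]
      have := h.dih.pow_r_sq 1
      rwa [zpow_one] at this
    have hxc : x * c₀ * x⁻¹ ∈ D := by
      have e : x * c₀ * x⁻¹ = (x * (c₀ * b) * x⁻¹) * (x * b * x⁻¹) := by
        have e1 : (x * (c₀ * b) * x⁻¹) * (x * b * x⁻¹) = x * (c₀ * (b * b)) * x⁻¹ := by group
        rw [e1, hbb, mul_one]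
      rw [e]
      exact mul_mem (hxI _ (mul_mem hc₀D hbD) hc₀b) hwD
    have hDeq : ∀ g : G, g ∈ D ↔ ∃ k : ℕ, g = c₀ ^ k ∨ g = c₀ ^ k * b := by
      intro g
      constructor
      · intro hg
        rcases h.dih.cov _ (h.fP g (hDS hg)) with h2 | ⟨k, h2⟩
        · obtain ⟨k, hk⟩ := Subgroup.mem_zpowers_iff.1 h2
          obtain ⟨n, hn, -⟩ := exists_nat_pow h.ord k
          refine ⟨n, Or.inl (finj _ hg _ (pow_mem hc₀D n) ?_)⟩
          rw [h.f_pow hc₀S, hc₀f, ← hn, hk]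
        · obtain ⟨n, hn, -⟩ := exists_nat_pow h.ord k
          refine ⟨n, Or.inr (finj _ hg _ (mul_mem (pow_mem hc₀D n) hbD) ?_)⟩
          rw [h.f_mul _ (pow_mem hc₀S n) _ h.bS, h.f_pow hc₀S, hc₀f, ← hn, h2]
      · rintro ⟨k, rfl | rfl⟩
        · exact pow_mem hc₀D k
        · exact mul_mem (pow_mem hc₀D k) hbD
    obtain ⟨j', hj', hodd⟩ := exists_nat_pow h.ord j
    exact ⟨c₀, b, x, m + 2, S, D,
      { t_sq := h.t_sq
        t_ne := h.t_ne
        n_ge := by have := h.hm; omega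
        c_ord := by
          rw [show m + 2 - 1 = m + 1 by omega]
          apply orderOf_eq_prime_pow
          · intro e
            have h1 := h.f_pow hc₀S (2 ^ m)
            rw [e, h.f_one, hc₀f, ← hif] at h1
            exact hi1 (finj i hiD 1 (one_mem _) (by rw [← h1, h.f_one]))
          · apply finj _ (pow_mem hc₀D _) 1 (one_mem _)
            rw [h.f_pow hc₀S, hc₀f, h.f_one, ← h.ord, pow_orderOf_eq_one]
        b_sq := hbb
        b_ne := h.b_ne
        bc := by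
          apply finj _ (mul_mem (mul_mem hbD hc₀D) (inv_mem hbD)) _ (inv_mem hc₀D)
          rw [h.f_conj h.bS hc₀S, h.f_inv hc₀S, hc₀f, h.dih.rd]
        D_eq := hDeq
        b_notin := by
          intro k e
          apply h.dih.r_not
          rw [e, h.f_pow hc₀S, hc₀f]
          exact pow_mem (Subgroup.mem_zpowers c) k
        tD := fun d hd => (h.comm d (hDS hd)).symm
        t_notin := htD
        S_eq := by
          intro g
          constructor
          · intro hg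
            rcases hcov g hg with h1 | h1
            · exact ⟨g, h1, Or.inl rfl⟩
            · exact ⟨t * g, h1, Or.inr (h.tt_mul g).symm⟩
          · rintro ⟨d, hd, rfl | rfl⟩
            · exact hDS hd
            · exact mul_mem h.tS (hDS hd)
        syl := h.syl
        not_conj := hND
        x_two := h.x_two
        xS := h.xS
        xt := by
          rw [show m + 2 - 2 = m by omega]
          have e : c₀ ^ 2 ^ m = i := by
            apply finj _ (pow_mem hc₀D _) _ hiD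
            rw [h.f_pow hc₀S, hc₀f, hif]
          rw [e, hxt]
        xD := by
          intro d hd
          obtain ⟨k, rfl | rfl⟩ := (hDeq d).1 hd
          · have e : x * c₀ ^ k * x⁻¹ = (x * c₀ * x⁻¹) ^ k := conj_pow.symm
            rw [e]; exact pow_mem hxc k
          · have e : x * (c₀ ^ k * b) * x⁻¹ = (x * c₀ * x⁻¹) ^ k * (x * b * x⁻¹) := by
              rw [conj_pow]; group
            rw [e]; exact mul_mem (pow_mem hxc k) hwD
        swap := by
          refine ⟨j', hodd ⟨l, hl⟩, ?_⟩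
          apply finj _ hwD _ (mul_mem (pow_mem hc₀D _) hbD)
          rw [h.f_mul _ (pow_mem hc₀S _) _ h.bS, h.f_pow hc₀S, hc₀f, ← hj', hj] }⟩

end Cfg

/-! ### Assembly -/

open Cfsg.Agent.OddCyclic.B2Pgl in
/-- **(3.1)** either `NswAt t V` for a four-group `V` of `K`, or the situation of section 3 -/
theorem sw_of [Finite G] {F : Type*} [Field F] [Fintype F] {t : G} {K : Subgroup G} (h : Hyp F t K) :
    (∃ V ≤ K, Elem V ∧ Nat.card V = 4 ∧ NswAt t V) ∨
      ∃ (c b x : G) (n : ℕ) (S D : Subgroup G), SwData t c b x n S D := by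
  classical
  have hfin : Finite (MulAut K) := h.rep.finite_aut
  let C := Subgroup.centralizer ({t} : Set G)
  let SK : Sylow 2 K := default
  have hT0 : ∀ y ∈ SK, (y : G) ∈ (SK : Subgroup K).map K.subtype := fun y hy => ⟨y, hy, rfl⟩
  obtain ⟨S, hS, hT0S⟩ := Cfsg.Agent.LieExceptional.CITGlobalBasic.exists_isSyl2 C ((SK : Subgroup K).map K.subtype)
    (by rintro _ ⟨k, -, rfl⟩; exact h.K_le k.2) (SK.2.map _)
  have hSC : ∀ s ∈ S, s ∈ C := fun s hs => hS.le hs
  have hcomm : ∀ s ∈ S, s * t = t * s := fun s hs => mem_cent.1 (hSC s hs)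
  have htC : t ∈ C := mem_cent.2 rfl
  have hKS : ∀ y : K, y ∈ SK → (y : G) ∈ S := fun y hy => hT0S (hT0 y hy)
  obtain ⟨f, hf⟩ : ∃ f : G → MulAut K, ∀ g (hg : g ∈ C), f g = h.act ⟨g, hg⟩ :=
    ⟨fun g => if hg : g ∈ C then h.act ⟨g, hg⟩ else 1, fun g hg => dif_pos hg⟩
  let P : Subgroup (MulAut K) := (S.subgroupOf C).map h.act
  have hfP : ∀ s ∈ S, f s ∈ P := fun s hs => ⟨⟨s, hSC s hs⟩, hs, (hf s (hSC s hs)).symm⟩
  have hPf : ∀ a ∈ P, ∃ s ∈ S, f s = a := by
    rintro _ ⟨s, hs, rfl⟩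
    exact ⟨s, hs, hf s s.2⟩
  have hP2 : IsPGroup 2 P := (hS.two.comap_of_injective _ C.subtype_injective).map _
  have hPle : P ≤ h.rep.PGL := fun a _ => h.mem_PGL a
  have hfK : ∀ y : K, f y = MulAut.conj y := fun y => by rw [hf _ (h.K_le y.2)]; exact h.act_K y.2
  have hSP : (SK : Subgroup K).map (MulAut.conj : K →* MulAut K) ≤ P := by
    rintro _ ⟨y, hy, rfl⟩
    have := hfP y (hKS y hy)
    rwa [hfK] at this
  have hmem : ∀ y : K, (y : G) ∈ S → y ∈ SK := by
    intro y hy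
    apply h.rep.mem_of_conj_mem SK hP2 hSP
    rw [← hfK]; exact hfP _ hy
  have hinn : ∀ s ∈ S, f s ∈ (MulAut.conj : K →* MulAut K).range → s ∈ K ∨ t * s ∈ K := by
    intro s hs h1
    rw [hf s (hSC s hs)] at h1
    exact h.inner h1
  have htS : t ∈ S := by
    have h1 : IsPGroup 2 (Subgroup.zpowers t) := by
      apply IsPGroup.of_card (n := 1)
      rw [Nat.card_zpowers, pow_one]
      apply orderOf_eq_prime
      · rw [sq]; exact h.t_sq
      · exact h.t_ne
    have h2 : Subgroup.zpowers t ≤ Subgroup.normalizer (S : Set G) := by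
      rw [Subgroup.zpowers_le, Subgroup.mem_normalizer_iff]
      intro g
      constructor
      · intro hg
        have := hcomm g hg
        rwa [← this, mul_inv_cancel_right]
      · intro hg
        have h3 := hcomm _ hg
        have h4 : g = t * g * t⁻¹ := by
          have e : t⁻¹ * (t * g * t⁻¹ * t) * t⁻¹ = g * t⁻¹ := by group
          have e2 : t⁻¹ * (t * (t * g * t⁻¹)) * t⁻¹ = t * g * t⁻¹ * t⁻¹ := by group
          rw [h3, e2] at e
          exact (mul_right_cancel e).symm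
        rw [h4]; exact hg
    have h3 := hS.max (S ⊔ Subgroup.zpowers t) (sup_le hS.le (by rw [Subgroup.zpowers_le]; exact htC))
      (IsPGroup.to_sup_of_normal_left' hS.two h1 h2) le_sup_left
    rw [← h3]
    exact (le_sup_right : _ ≤ S ⊔ Subgroup.zpowers t) (Subgroup.mem_zpowers t)
  -- the dihedral group
  obtain ⟨c, r, hrS, hdih, halt⟩ : ∃ (c : MulAut K) (r : K), r ∈ SK ∧ Dih P c (MulAut.conj r) ∧
      (P ≤ (MulAut.conj : K →* MulAut K).range ∨ (c ∉ (MulAut.conj : K →* MulAut K).range ∧ c * c ≠ 1)) := by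
    by_cases hle : P ≤ (MulAut.conj : K →* MulAut K).range
    · obtain ⟨d, r, hd⟩ := h.rep.exists_dih SK
      refine ⟨MulAut.conj d, r, hd.r_mem, ?_, Or.inl hle⟩
      have e : P = (SK : Subgroup K).map (MulAut.conj : K →* MulAut K) := by
        apply le_antisymm _ hSP
        intro a ha
        obtain ⟨y, rfl⟩ := hle ha
        exact ⟨y, h.rep.mem_of_conj_mem SK hP2 hSP ha, rfl⟩
      rw [e]
      exact hd.map _ h.rep.conj_injective
    · obtain ⟨c, d, r, h1, h2, h3, h4⟩ := h.rep.dih_plus SK hP2 hPle hSP hle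
      refine ⟨c, r, h3.r_mem, h4, Or.inr ⟨h2, ?_⟩⟩
      intro e
      apply h3.d1
      apply h.rep.conj_injective
      rw [← h1, e, map_one]
  obtain ⟨m, hm, -, -⟩ := hdih.exists_z hP2
  -- the element `x`
  obtain ⟨Q, hSQ, -, hQ2, hQN⟩ := Cfsg.Agent.LieExceptional.CITGlobal.exists_bigger (le_top : S ≤ ⊤) hS.two
    (h.not_syl S hS)
  obtain ⟨x, hxQ, hxS⟩ := SetLike.exists_of_lt hSQ
  have hxN := hQN hxQ
  rw [Subgroup.mem_normalizer_iff] at hxN
  have hx1 : ∀ s ∈ S, x * s * x⁻¹ ∈ S := fun s hs => (hxN s).1 hs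
  have hx2 : ∀ s ∈ S, x⁻¹ * s * x ∈ S := fun s hs => (hxN _).2 (by
    have : x * (x⁻¹ * s * x) * x⁻¹ = s := by group
    rw [this]; exact hs)
  have hxt : x * t ≠ t * x := by
    intro e
    apply hxS
    have h1 := hS.max (Q ⊓ C) inf_le_right (hQ2.to_le inf_le_left) (le_inf hSQ.le hS.le)
    rw [← h1]
    exact ⟨hxQ, mem_cent.2 e⟩
  have hcK : ∀ k ∈ K, k * k = 1 → k ≠ 1 → ∀ k' ∈ K, k' * k' = 1 → k' ≠ 1 → ∃ g ∈ K, g * k * g⁻¹ = k' := by
    intro k hk h1 h2 k' hk' h1' h2'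
    obtain ⟨g, hg⟩ := h.rep.inv_conj (s := ⟨k, hk⟩) (t := ⟨k', hk'⟩) (Subtype.ext h1)
      (fun e => h2 (congrArg Subtype.val e)) (Subtype.ext h1') (fun e => h2' (congrArg Subtype.val e))
    exact ⟨g, g.2, congrArg Subtype.val hg⟩
  by_cases hm0 : m = 0
  · -- `S = E₈`
    left
    subst hm0
    have hcc : c * c = 1 := by
      have := pow_orderOf_eq_one c
      rw [hm, zero_add, pow_one, sq] at this
      exact this
    have hle : P ≤ (MulAut.conj : K →* MulAut K).range := by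
      rcases halt with h1 | h1
      · exact h1
      · exact absurd hcc h1.2
    set V := (SK : Subgroup K).map K.subtype with hV
    have hVK : V ≤ K := by rintro _ ⟨y, -, rfl⟩; exact y.2
    have hsq : ∀ a ∈ P, a * a = 1 := by
      intro a ha
      rcases hdih.cov a ha with h1 | ⟨k, h1⟩
      · obtain ⟨k, rfl⟩ := Subgroup.mem_zpowers_iff.1 h1
        rw [← (Commute.refl c).mul_zpow, hcc, one_zpow]
      · rw [h1]; exact hdih.pow_r_sq k
    have hVE : Elem V := by
      rintro _ ⟨y, hy, rfl⟩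
      have h1 : y * y = 1 := by
        apply h.rep.conj_injective
        rw [map_mul, map_one]
        exact hsq _ (hSP ⟨y, hy, rfl⟩)
      exact congrArg Subtype.val h1
    have hV4 : Nat.card V = 4 := by
      rw [hV, Subgroup.card_map_of_injective K.subtype_injective]
      have e : P = (SK : Subgroup K).map (MulAut.conj : K →* MulAut K) := by
        apply le_antisymm _ hSP
        intro a ha
        obtain ⟨y, rfl⟩ := hle ha
        exact ⟨y, h.rep.mem_of_conj_mem SK hP2 hSP ha, rfl⟩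
      have h1 := hdih.card
      rw [hm, e, Subgroup.card_map_of_injective h.rep.conj_injective] at h1
      rw [h1]; norm_num
    have hSV : ∀ s ∈ S, s ∈ V ∨ t * s ∈ V := by
      intro s hs
      rcases hinn s hs (hle (hfP s hs)) with h1 | h1
      · exact Or.inl ⟨⟨s, h1⟩, hmem ⟨s, h1⟩ hs, rfl⟩
      · exact Or.inr ⟨⟨t * s, h1⟩, hmem ⟨t * s, h1⟩ (mul_mem htS hs), rfl⟩
    have tt_mul : ∀ s : G, t * (t * s) = s := fun s => by rw [← mul_assoc, h.t_sq, one_mul]
    obtain ⟨w, -, hL, -⟩ := h.exists_loc hVK hVE hV4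
    obtain ⟨v, hv, hxv⟩ : ∃ v ∈ V, x * t * x⁻¹ = t * v := by
      rcases hSV _ (hx1 t htS) with h1 | h1
      · exact absurd (hVK h1) (h.not_conj x)
      · exact ⟨_, h1, (tt_mul _).symm⟩
    have hv1 : v ≠ 1 := by
      rintro rfl
      rw [mul_one] at hxv
      exact hxt (mul_inv_eq_iff_eq_mul.1 hxv)
    have hvv := hVE v hv
    refine ⟨V, hVK, hVE, hV4, nsw_of_move hL hv hv1 hxv ?_⟩
    intro u hu
    have huS : u ∈ S := hT0S hu
    rcases hSV _ (hx1 u huS) with h1 | h1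
    · exact h1
    · exfalso
      set v' := t * (x * u * x⁻¹) with hv'
      have hv'K := hVK h1
      have e0 : x * u * x⁻¹ = t * v' := (tt_mul _).symm
      obtain ⟨g, hg⟩ : ∃ g : G, g * t * g⁻¹ = t * v' := by
        by_cases h2 : v' = 1
        · exact ⟨1, by rw [h2]; group⟩
        · obtain ⟨g, hg, e⟩ := hcK v (hVK hv) hvv hv1 v' hv'K (hVE _ h1) h2
          refine ⟨g * x, ?_⟩
          have e1 : g * x * t * (g * x)⁻¹ = g * (x * t * x⁻¹) * g⁻¹ := by group
          have e2 : g * (t * v) * g⁻¹ = (g * t) * v * g⁻¹ := by group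
          rw [e1, hxv, e2, h.Kt g hg]
          have e3 : t * g * v * g⁻¹ = t * (g * v * g⁻¹) := by group
          rw [e3, e]
      apply h.not_conj (x⁻¹ * g)
      have e1 : x⁻¹ * g * t * (x⁻¹ * g)⁻¹ = x⁻¹ * (g * t * g⁻¹) * x := by group
      have e2 : x⁻¹ * (x * u * x⁻¹) * x = u := by group
      rw [e1, hg, ← e0, e2]
      exact hVK hu
  · have hcfg : Cfg t x (r : G) S K f (MulAut.conj : K →* MulAut K).range P c m :=
      { t_sq := h.t_sq
        t_ne := h.t_ne
        tS := htS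
        comm := hcomm
        Kt := h.Kt
        nK := fun s hs => h.norm s (hcomm s hs)
        f_mul := by
          intro s hs s' hs'
          rw [hf _ (hSC s hs), hf _ (hSC s' hs'), hf _ (mul_mem (hSC s hs) (hSC s' hs')), ← map_mul]
          rfl
        ker := by
          intro s hs e
          rw [hf _ (hSC s hs)] at e
          exact h.act_eq_one_iff.1 e
        ft := by
          rw [hf _ htC, h.act_eq_one_iff]
          exact Or.inr rfl
        inn := hinn
        innK := by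
          intro s _ hsK
          have := hfK ⟨s, hsK⟩
          exact ⟨_, this.symm⟩
        out := fun a _ a' _ h1 h2 => h.rep.mul_mem_inn (h.mem_PGL a) h1 (h.mem_PGL a') h2
        bS := hKS r hrS
        bK := r.2
        dih := by rw [hfK]; exact hdih
        fP := hfP
        Pf := hPf
        ord := hm
        hm := by omega
        alt := halt.imp id fun h1 => h1.1
        conjK := hcK
        not_conj := h.not_conj
        x_two := by
          obtain ⟨k, hk⟩ := hQ2 ⟨x, hxQ⟩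
          exact ⟨k, congrArg Subtype.val hk⟩
        xS := hx1
        xS' := hx2
        xt := hxt
        syl := hS }
    exact hcfg.sw

end Cfsg.Agent.OddCyclic.B2SwOf
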