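import Cfsg.Agent.MinSimple.Geo
import Cfsg.Agent.OddCyclic.T1Defs

/-!
# The point-line geometry (E1) in groups with cyclic odd Sylow subgroups

`GeoC T V z`: the situation `MinSimple.Geo.Geo T V z` with solvability of the 2-local subgroups replaced by `OddCyc G`
and `N_G(T) ∩ C_G(z) ≤ N_G(V)`.  (Copy of the lemmas of `MinSimple/Geo.lean`.)
-/

set_option autoImplicit false
set_option linter.dupNamespace false

namespace Cfsg.Agent.OddCyclic.GeoC

open Subgroup Cfsg Cfsg.Agent.ZN Cfsg.Agent.MinSimple.Geo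
open Cfsg.Agent.OddCyclic.T1Defs (OddCyc)
open Cfsg.Agent.ZN.Block (conj_mem_of_normalizer conj_mem_of_normalizer' le_normalizer_of_forall
  mem_normalizer_of)

universe u

variable {G : Type u} [Group G]

/-! ### the situation (E1) with `|V| = 4` -/

/-- The situation (E1) with `|V| = 4`. -/
structure GeoC (T V : Subgroup G) (z : G) : Prop where
  charTwo : IsCharacteristicTwoType G
  cyc : OddCyc G
  two : IsPGroup 2 T
  T_le : T ≤ centralizer ({z} : Set G)
  T_syl : ¬ 2 ∣ T.relIndex (centralizer ({z} : Set G))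
  V_le : V ≤ T
  T_norm : T ≤ normalizer (V : Set G)
  T_syl' : ¬ 2 ∣ T.relIndex (normalizer (V : Set G))
  card_V : Nat.card V = 4
  sq : ∀ v ∈ V, v * v = 1
  z_mem : z ∈ V
  z_ne : z ≠ 1
  trans : ∀ v ∈ V, v ≠ 1 → ∃ g ∈ normalizer (V : Set G), g * z * g⁻¹ = v
  soc : ∀ t ∈ T, t * t = 1 → (∀ s ∈ T, s * t = t * s) → t = 1 ∨ t = z
  core : ∀ U : Subgroup G, IsPGroup 2 U → normalizer (V : Set G) ≤ normalizer (U : Set G) →
    centralizer ({z} : Set G) ≤ normalizer (U : Set G) → U = ⊥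
  /-- `N_G(T) ∩ C_G(z) ≤ N_G(V)` -/
  uniq : ∀ g ∈ normalizer (T : Set G), g * z = z * g → g ∈ normalizer (V : Set G)

namespace GeoC

variable {T V : Subgroup G} {z : G}

theorem zz (h : GeoC T V z) : z * z = 1 := h.sq z h.z_mem

theorem comm (h : GeoC T V z) {a b : G} (ha : a ∈ V) (hb : b ∈ V) : a * b = b * a := by
  have h1 := h.sq _ (mul_mem ha hb)
  have h2 := h.sq a ha
  have h3 := h.sq b hb
  calc a * b = (a * b) * (a * b * (a * b)) := by rw [h1, mul_one]
    _ = a * b * (a * b) * (a * b) := by group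
    _ = (b * a) := by
      rw [h1, one_mul]
      calc a * b = (a * b)⁻¹ := (inv_eq_self h1).symm
        _ = b⁻¹ * a⁻¹ := by group
        _ = b * a := by rw [inv_eq_self h2, inv_eq_self h3]

theorem inv_eq (h : GeoC T V z) {a : G} (ha : a ∈ V) : a⁻¹ = a := inv_eq_self (h.sq a ha)

theorem exists_y (h : GeoC T V z) : ∃ y ∈ V, y ≠ 1 ∧ y ≠ z := by
  by_contra hcon
  push Not at hcon
  have : (V : Set G) ⊆ {1, z} := by
    intro v hv
    by_cases h1 : v = 1
    · exact Or.inl h1
    · exact Or.inr (hcon v hv h1)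
  have h2 := Set.ncard_le_ncard this (Set.toFinite _)
  have h3 : (V : Set G).ncard = 4 := by rw [← h.card_V]; rfl
  have h4 : ({1, z} : Set G).ncard = 2 := Set.ncard_pair (Ne.symm h.z_ne)
  omega

/-- the four elements of `V` -/
theorem four (h : GeoC T V z) {p q : G} (hp : p ∈ V) (hq : q ∈ V) (hp1 : p ≠ 1) (hq1 : q ≠ 1)
    (hpq : p ≠ q) {v : G} (hv : v ∈ V) : v = 1 ∨ v = p ∨ v = q ∨ v = p * q := by
  have hfin : Finite V := Nat.finite_of_card_ne_zero (by rw [h.card_V]; norm_num)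
  have hpq1 : p * q ≠ 1 := fun e => hpq (by
    rw [mul_eq_one_iff_eq_inv.mp e, h.inv_eq hq])
  have hpqp : p * q ≠ p := fun e => hq1 (by simpa using e)
  have hpqq : p * q ≠ q := fun e => hp1 (by simpa using e)
  have h1 : ({1, p, q, p * q} : Set G) ⊆ (V : Set G) := by
    rintro x (rfl | rfl | rfl | rfl)
    · exact V.one_mem
    · exact hp
    · exact hq
    · exact V.mul_mem hp hq
  have h2 : ({1, p, q, p * q} : Set G).ncard = 4 := by
    rw [Set.ncard_insert_of_notMem, Set.ncard_insert_of_notMem, Set.ncard_pair (Ne.symm hpqq)]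
    · rintro (e | e)
      · exact hpq e
      · exact hpqp e.symm
    · rintro (e | e | e)
      · exact hp1 e.symm
      · exact hq1 e.symm
      · exact hpq1 e.symm
  have h3 : (V : Set G).ncard = 4 := by rw [← h.card_V]; rfl
  have h4 : ({1, p, q, p * q} : Set G) = V := Set.eq_of_subset_of_ncard_le h1 (by rw [h2, h3])
    (Set.toFinite _)
  have : v ∈ ({1, p, q, p * q} : Set G) := by rw [h4]; exact hv
  simpa using this

/-- conjugation by a centralizing-normalizing element -/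
theorem conj_cases (h : GeoC T V z) {p q g : G} (hp : p ∈ V) (hq : q ∈ V) (hp1 : p ≠ 1) (hgp : g * p = p * g)
    (hg : g ∈ normalizer (V : Set G)) : g * q * g⁻¹ = q ∨ g * q * g⁻¹ = p * q := by
  have hq' : g * q * g⁻¹ ∈ V := (mem_normalizer_iff.mp hg q).mp hq
  by_cases hq1 : q = 1
  · left; rw [hq1]; group
  by_cases hpq : q = p
  · left; rw [hpq, hgp]; group
  have hn1 : g * q * g⁻¹ ≠ 1 := fun e => hq1 (by
    have : q = g⁻¹ * (g * q * g⁻¹) * g := by group
    rw [this, e]; group)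
  have hnp : g * q * g⁻¹ ≠ p := fun e => hpq (by
    have : q = g⁻¹ * (g * q * g⁻¹) * g := by group
    rw [this, e, mul_assoc, ← hgp]; group)
  rcases h.four hp hq hp1 hq1 (Ne.symm hpq) hq' with e | e | e | e
  · exact absurd e hn1
  · exact absurd e hnp
  · exact Or.inl e
  · exact Or.inr e

theorem z_comm (_ : GeoC T V z) {c : G} (hc : c ∈ centralizer ({z} : Set G)) : c * z = z * c :=
  mem_centralizer_singleton_iff.mp hc

/-- conjugate situation -/
theorem conj (h : GeoC T V z) (g : G) : GeoC (cj g T) (cj g V) (g * z * g⁻¹) where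
  charTwo := h.charTwo
  cyc := h.cyc
  two := h.two.map _
  T_le := by rw [← cj_centralizer_singleton]; exact cj_mono h.T_le
  T_syl := by rw [← cj_centralizer_singleton, relIndex_cj]; exact h.T_syl
  V_le := cj_mono h.V_le
  T_norm := by rw [← cj_normalizer]; exact cj_mono h.T_norm
  T_syl' := by rw [← cj_normalizer, relIndex_cj]; exact h.T_syl'
  card_V := by rw [card_cj]; exact h.card_V
  sq := by
    intro v hv
    rw [mem_cj] at hv
    have := h.sq _ hv
    have e : v * v = g * (g⁻¹ * v * g * (g⁻¹ * v * g)) * g⁻¹ := by group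
    rw [e, this]; group
  z_mem := conj_mem_cj h.z_mem
  z_ne := fun e => h.z_ne (by
    have : z = g⁻¹ * (g * z * g⁻¹) * g := by group
    rw [this, e]; group)
  trans := by
    intro v hv hv1
    rw [mem_cj] at hv
    obtain ⟨k, hk, hk2⟩ := h.trans _ hv (fun e => hv1 (by
      have : v = g * (g⁻¹ * v * g) * g⁻¹ := by group
      rw [this, e]; group))
    refine ⟨g * k * g⁻¹, ?_, ?_⟩
    · rw [← cj_normalizer]; exact conj_mem_cj hk
    · calc g * k * g⁻¹ * (g * z * g⁻¹) * (g * k * g⁻¹)⁻¹ = g * (k * z * k⁻¹) * g⁻¹ := by group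
        _ = v := by rw [hk2]; group
  soc := by
    intro t ht ht2 htc
    rw [mem_cj] at ht
    have h1 : g⁻¹ * t * g * (g⁻¹ * t * g) = 1 := by
      calc g⁻¹ * t * g * (g⁻¹ * t * g) = g⁻¹ * (t * t) * g := by group
        _ = 1 := by rw [ht2]; group
    rcases h.soc _ ht h1 (fun s hs => by
      have := htc (g * s * g⁻¹) (conj_mem_cj hs)
      calc s * (g⁻¹ * t * g) = g⁻¹ * (g * s * g⁻¹ * t) * g := by group
        _ = g⁻¹ * (t * (g * s * g⁻¹)) * g := by rw [this]
        _ = g⁻¹ * t * g * s := by group) with e | e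
    · left
      have : t = g * (g⁻¹ * t * g) * g⁻¹ := by group
      rw [this, e]; group
    · right
      have : t = g * (g⁻¹ * t * g) * g⁻¹ := by group
      rw [this, e]
  core := by
    intro U hU h1 h2
    have h3 := h.core (cj g⁻¹ U) (hU.map _) (by
      rw [← cj_normalizer, ← cj_le_iff, cj_normalizer]; exact h1) (by
      rw [← cj_normalizer, ← cj_le_iff, cj_centralizer_singleton]; exact h2)
    have := congrArg (cj g) h3
    rw [cj_cj_inv] at this
    rw [this]
    exact Subgroup.map_bot _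
  uniq := by
    intro x hx hxz
    rw [← cj_normalizer, mem_cj] at hx ⊢
    refine h.uniq _ hx ?_
    calc g⁻¹ * x * g * z = g⁻¹ * (x * (g * z * g⁻¹)) * g := by group
      _ = g⁻¹ * ((g * z * g⁻¹) * x) * g := by rw [hxz]
      _ = z * (g⁻¹ * x * g) := by group

/-- each point of `V` is as good as `z` -/
theorem point (h : GeoC T V z) {p : G} (hp : p ∈ V) (hp1 : p ≠ 1) :
    ∃ g ∈ normalizer (V : Set G), g * z * g⁻¹ = p ∧ GeoC (cj g T) V p := by
  obtain ⟨g, hg, rfl⟩ := h.trans p hp hp1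
  refine ⟨g, hg, rfl, ?_⟩
  have := h.conj g
  rwa [cj_eq_of_mem_normalizer hg] at this

theorem V_mem_lines (h : GeoC T V z) : V ∈ lines V z := ⟨⟨1, (cj_one V).symm⟩, h.z_mem⟩

theorem V_le_ws (h : GeoC T V z) : V ≤ ws V z := le_ws h.V_mem_lines

/-- the lines through `z` are the `C_G(z)`-conjugates of `V` -/
theorem exists_of_mem_lines (h : GeoC T V z) {L : Subgroup G} (hL : L ∈ lines V z) :
    ∃ c ∈ centralizer ({z} : Set G), L = cj c V := by
  obtain ⟨⟨g, rfl⟩, hz⟩ := hL
  rw [mem_cj] at hz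
  obtain ⟨k, hk, hk2⟩ := h.trans _ hz (fun e => h.z_ne (by
    have : z = g * (g⁻¹ * z * g) * g⁻¹ := by group
    rw [this, e]; group))
  refine ⟨g * k, ?_, ?_⟩
  · rw [mem_centralizer_singleton_iff]
    calc g * k * z = g * (k * z * k⁻¹) * k := by group
      _ = z * (g * k) := by rw [hk2]; group
  · rw [← cj_cj, cj_eq_of_mem_normalizer hk]

theorem cj_mem_lines (h : GeoC T V z) {c : G} (hc : c ∈ centralizer ({z} : Set G)) : cj c V ∈ lines V z := by
  refine ⟨⟨c, rfl⟩, ?_⟩
  rw [mem_cj, mul_assoc, ← h.z_comm hc, inv_mul_cancel_left]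
  exact h.z_mem

theorem V_le_o2 [Finite G] (h : GeoC T V z) : V ≤ o2 (centralizer ({z} : Set G)) := by
  have hQT : o2 (centralizer ({z} : Set G)) ≤ T := o2_le_of_sylow h.T_le h.two h.T_syl
  intro v hv
  refine mem_o2_of_stab h.charTwo h.zz h.z_ne (h.T_le (h.V_le hv)) fun q hq => ?_
  have hqT := hQT hq
  rcases h.conj_cases h.z_mem (inv_mem hv) h.z_ne (h.z_comm (h.T_le hqT)) (h.T_norm hqT) with e | e
  · have : v * q * v⁻¹ * q⁻¹ = v * (q * v⁻¹ * q⁻¹) := by group
    rw [this, e, mul_inv_cancel]; exact one_mem _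
  · have : v * q * v⁻¹ * q⁻¹ = v * (q * v⁻¹ * q⁻¹) := by group
    rw [this, e, ← mul_assoc, h.comm hv h.z_mem, mul_assoc, mul_inv_cancel, mul_one]
    exact mem_zpowers z

theorem ws_le_o2 [Finite G] (h : GeoC T V z) : ws V z ≤ o2 (centralizer ({z} : Set G)) := by
  refine ws_le fun L hL => ?_
  obtain ⟨c, hc, rfl⟩ := h.exists_of_mem_lines hL
  have := cj_mono (g := c) h.V_le_o2
  rwa [cj_eq_of_mem_normalizer (le_normalizer_o2 _ hc)] at this

theorem o2_le_T [Finite G] (h : GeoC T V z) : o2 (centralizer ({z} : Set G)) ≤ T :=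
  o2_le_of_sylow h.T_le h.two h.T_syl

theorem ws_le_T [Finite G] (h : GeoC T V z) : ws V z ≤ T := h.ws_le_o2.trans h.o2_le_T

theorem ws_le_centralizer [Finite G] (h : GeoC T V z) : ws V z ≤ centralizer ({z} : Set G) :=
  h.ws_le_T.trans h.T_le

theorem ws_le_normalizer [Finite G] (h : GeoC T V z) : ws V z ≤ normalizer (V : Set G) :=
  h.ws_le_T.trans h.T_norm

/-- `[V, O₂(C_G(z))] ≤ ⟨z⟩` and the same for `ws V z`. -/
theorem comm_mem [Finite G] (h : GeoC T V z) {w q : G} (hw : w ∈ ws V z)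
    (hq : q ∈ o2 (centralizer ({z} : Set G))) : w * q * w⁻¹ * q⁻¹ ∈ zpowers z := by
  set C := centralizer ({z} : Set G) with hC
  have hzc : ∀ c ∈ C, ∀ y ∈ zpowers z, c * y * c⁻¹ = y := by
    intro c hc y hy
    obtain ⟨n, rfl⟩ := mem_zpowers_iff.mp hy
    have h : Commute c z := mem_centralizer_singleton_iff.mp hc
    rw [(h.zpow_right n).eq, mul_inv_cancel_right]
  let A : Subgroup G :=
    { carrier := {g | g ∈ C ∧ ∀ q ∈ o2 C, g * q * g⁻¹ * q⁻¹ ∈ zpowers z}
      mul_mem' := by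
        rintro a b ⟨ha, ha1⟩ ⟨hb, hb1⟩
        refine ⟨mul_mem ha hb, fun q hq => ?_⟩
        have e : a * b * q * (a * b)⁻¹ * q⁻¹ =
            a * (b * q * b⁻¹ * q⁻¹) * a⁻¹ * (a * q * a⁻¹ * q⁻¹) := by group
        rw [e, hzc a ha _ (hb1 q hq)]
        exact mul_mem (hb1 q hq) (ha1 q hq)
      one_mem' := ⟨one_mem _, fun q _ => by simp⟩
      inv_mem' := by
        rintro a ⟨ha, ha1⟩
        refine ⟨inv_mem ha, fun q hq => ?_⟩
        have h1 := ha1 (a⁻¹ * q * a) (conj_mem_of_normalizer' (le_normalizer_o2 C) ha hq)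
        have e : a * (a⁻¹ * q * a) * a⁻¹ * (a⁻¹ * q * a)⁻¹ = (a⁻¹ * q * a⁻¹⁻¹ * q⁻¹)⁻¹ := by group
        rw [e] at h1
        exact (inv_mem_iff).mp h1 }
  have hVA : ∀ L ∈ lines V z, L ≤ A := by
    intro L hL
    obtain ⟨c, hc, rfl⟩ := h.exists_of_mem_lines hL
    intro x hx
    rw [mem_cj] at hx
    set v := c⁻¹ * x * c with hv
    have hxv : x = c * v * c⁻¹ := by rw [hv]; group
    have hxC : x ∈ C := by
      rw [hxv]; exact mul_mem (mul_mem hc (h.T_le (h.V_le hx))) (inv_mem hc)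
    refine ⟨hxC, fun q hq => ?_⟩
    have hq' := conj_mem_of_normalizer' (le_normalizer_o2 C) hc hq
    have hqT := h.o2_le_T hq'
    have e1 : x * q * x⁻¹ * q⁻¹ = c * (v * (c⁻¹ * q * c) * v⁻¹ * (c⁻¹ * q * c)⁻¹) * c⁻¹ := by
      rw [hxv]; group
    have h2 : v * (c⁻¹ * q * c) * v⁻¹ * (c⁻¹ * q * c)⁻¹ ∈ zpowers z := by
      set r := c⁻¹ * q * c with hr
      have : v * r * v⁻¹ * r⁻¹ = v * (r * v⁻¹ * r⁻¹) := by group
      rw [this]
      rcases h.conj_cases h.z_mem (inv_mem hx) h.z_ne (h.z_comm (h.T_le hqT)) (h.T_norm hqT) with e | e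
      · rw [e, mul_inv_cancel]; exact one_mem _
      · rw [e, ← mul_assoc, h.comm hx h.z_mem, mul_assoc, mul_inv_cancel, mul_one]
        exact mem_zpowers z
    rw [e1, hzc c hc _ h2]
    exact h2
  exact (ws_le hVA hw).2 q hq

theorem comm_cases [Finite G] (h : GeoC T V z) {w q : G} (hw : w ∈ ws V z)
    (hq : q ∈ o2 (centralizer ({z} : Set G))) : w * q = q * w ∨ w * q = z * (q * w) := by
  rcases (mem_zpowers_iff_of_mul_self h.zz).mp (h.comm_mem hw hq) with e | e
  · left
    calc w * q = (w * q * w⁻¹ * q⁻¹) * (q * w) := by group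
      _ = q * w := by rw [e, one_mul]
  · right
    calc w * q = (w * q * w⁻¹ * q⁻¹) * (q * w) := by group
      _ = z * (q * w) := by rw [e]

/-- squares of elements of `ws V z` lie in `⟨z⟩` -/
theorem sq_cases [Finite G] (h : GeoC T V z) {w : G} (hw : w ∈ ws V z) : w * w = 1 ∨ w * w = z := by
  have hzw : ∀ w ∈ ws V z, z * w = w * z := fun w hw => (h.z_comm (h.ws_le_centralizer hw)).symm
  let A : Subgroup G :=
    { carrier := {w | w ∈ ws V z ∧ (w * w = 1 ∨ w * w = z)}
      mul_mem' := by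
        rintro a b ⟨ha, ha1⟩ ⟨hb, hb1⟩
        refine ⟨mul_mem ha hb, ?_⟩
        have e1 : a * b * (a * b) = a * (b * a) * b := by group
        rcases h.comm_cases hb (h.ws_le_o2 ha) with e | e
        · have e2 : a * b * (a * b) = (a * a) * (b * b) := by rw [e1, e]; group
          rw [e2]
          rcases ha1 with h1 | h1 <;> rcases hb1 with h2 | h2 <;> rw [h1, h2] <;> simp [h.zz]
        · have e2 : a * b * (a * b) = z * ((a * a) * (b * b)) := by
            rw [e1, e]
            calc a * (z * (a * b)) * b = (a * z) * (a * b) * b := by group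
              _ = (z * a) * (a * b) * b := by rw [hzw a ha]
              _ = z * ((a * a) * (b * b)) := by group
          rw [e2]
          rcases ha1 with h1 | h1 <;> rcases hb1 with h2 | h2 <;> rw [h1, h2] <;> simp [h.zz]
      one_mem' := ⟨one_mem _, Or.inl (one_mul 1)⟩
      inv_mem' := by
        rintro a ⟨ha, ha1⟩
        refine ⟨inv_mem ha, ?_⟩
        have : a⁻¹ * a⁻¹ = (a * a)⁻¹ := by group
        rw [this]
        rcases ha1 with h1 | h1 <;> rw [h1]
        · left; exact inv_one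
        · right; exact inv_eq_self h.zz }
  refine (ws_le (U := A) (fun L hL => ?_) hw).2
  intro x hx
  refine ⟨le_ws hL hx, Or.inl ?_⟩
  obtain ⟨c, hc, rfl⟩ := h.exists_of_mem_lines hL
  rw [mem_cj] at hx
  have := h.sq _ hx
  have e : x * x = c * (c⁻¹ * x * c * (c⁻¹ * x * c)) * c⁻¹ := by group
  rw [e, this]; group

end GeoC

end Cfsg.Agent.OddCyclic.GeoC
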