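import Mathlib
import Cfsg.Agent.OddCyclic.GeoC

/-!
# (E1) with `|V| = 4`: the case `b = 2` (`ws V z` nonabelian), part A

`BTwo T V z`: the situation `Geo T V z` with `ws V z` nonabelian. For the three points `p` of the line `V`:

* `us V p = C_{ws V p}(V)`, `dd V = ⋂ ws V p`, `rr V = ⟨us V p⟩`, `xx V = ⟨ws V p⟩`;
* `dd V` is elementary abelian, `[dd V, ws V p] ≤ ⟨p⟩`, `ws V p ∩ ws V q = dd V`, `[us V p, us V q] ≤ dd V`;
* `BTwo.exists_eq`, `BTwo.us_le_sup`: `rr V / dd V` is the sum of any two of the three `us V p / dd V`;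
* `BTwo.mem_V_of_comm`: an element of `dd V` centralizing one `us V p` is in `V`.
-/

set_option autoImplicit false
set_option linter.dupNamespace false
set_option linter.unusedSectionVars false

namespace Cfsg.Agent.OddCyclic.BTwoA

open Subgroup Cfsg Cfsg.Agent.ZN Cfsg.Agent.MinSimple.Geo Cfsg.Agent.OddCyclic.GeoC
open Cfsg.Agent.ZN.Block (conj_mem_of_normalizer conj_mem_of_normalizer' le_normalizer_of_forall
  mem_normalizer_of)

universe u

variable {G : Type u} [Group G]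

/-- `C_{ws V p}(V)` -/
def us (V : Subgroup G) (p : G) : Subgroup G := ws V p ⊓ centralizer (V : Set G)

/-- the intersection of the `ws V p`, `p` a point of `V` -/
def dd (V : Subgroup G) : Subgroup G := ⨅ p : {p : G // p ∈ V ∧ p ≠ 1}, ws V p

/-- the subgroup generated by the `us V p`, `p` a point of `V` -/
def rr (V : Subgroup G) : Subgroup G := ⨆ p : {p : G // p ∈ V ∧ p ≠ 1}, us V p

/-- the subgroup generated by the `ws V p`, `p` a point of `V` -/
def xx (V : Subgroup G) : Subgroup G := ⨆ p : {p : G // p ∈ V ∧ p ≠ 1}, ws V p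

theorem mem_dd {V : Subgroup G} {d : G} : d ∈ dd V ↔ ∀ p ∈ V, p ≠ 1 → d ∈ ws V p := by
  rw [dd, mem_iInf]
  exact ⟨fun h p hp hp1 => h ⟨p, hp, hp1⟩, fun h p => h p p.2.1 p.2.2⟩

theorem us_le_ws (V : Subgroup G) (p : G) : us V p ≤ ws V p := inf_le_left

theorem us_le_centralizer (V : Subgroup G) (p : G) : us V p ≤ centralizer (V : Set G) := inf_le_right

theorem us_le_rr {V : Subgroup G} {p : G} (hp : p ∈ V) (hp1 : p ≠ 1) : us V p ≤ rr V :=
  le_iSup (fun p : {p : G // p ∈ V ∧ p ≠ 1} => us V p) ⟨p, hp, hp1⟩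

theorem ws_le_xx {V : Subgroup G} {p : G} (hp : p ∈ V) (hp1 : p ≠ 1) : ws V p ≤ xx V :=
  le_iSup (fun p : {p : G // p ∈ V ∧ p ≠ 1} => ws V p) ⟨p, hp, hp1⟩

theorem rr_le_centralizer (V : Subgroup G) : rr V ≤ centralizer (V : Set G) :=
  iSup_le fun p => us_le_centralizer V p

theorem centralizer_le_of_mem {V : Subgroup G} {p : G} (hp : p ∈ V) :
    centralizer (V : Set G) ≤ centralizer ({p} : Set G) :=
  centralizer_le (by simpa using hp)

/-- `C_G(V)` normalizes each `ws V p` -/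
theorem centralizer_le_normalizer_ws {V : Subgroup G} {p : G} (hp : p ∈ V) :
    centralizer (V : Set G) ≤ normalizer ((ws V p : Subgroup G) : Set G) :=
  (centralizer_le_of_mem hp).trans (Cfsg.Agent.MinSimple.Geo.centralizer_le_normalizer_ws V p)

theorem comm_V {V : Subgroup G} {g v : G} (hg : g ∈ centralizer (V : Set G)) (hv : v ∈ V) :
    g * v = v * g := (mem_centralizer_iff.mp hg v hv).symm

theorem conj_mem_centralizer {V : Subgroup G} {g c : G} (hg : g ∈ normalizer (V : Set G))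
    (hc : c ∈ centralizer (V : Set G)) : g * c * g⁻¹ ∈ centralizer (V : Set G) := by
  rw [mem_centralizer_iff]
  intro v hv
  have hv' : g⁻¹ * v * g ∈ V := by
    have := (mem_normalizer_iff.mp (inv_mem hg) v).mp hv
    rwa [inv_inv] at this
  have h1 := comm_V hc hv'
  calc v * (g * c * g⁻¹) = g * ((g⁻¹ * v * g) * c) * g⁻¹ := by group
    _ = g * (c * (g⁻¹ * v * g)) * g⁻¹ := by rw [h1]
    _ = g * c * g⁻¹ * v := by group

theorem conj_mem_ws {V : Subgroup G} {g w p : G} (hw : w ∈ ws V p) :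
    g * w * g⁻¹ ∈ ws V (g * p * g⁻¹) := by
  rw [← cj_ws]; exact conj_mem_cj hw

theorem conj_mem_us {V : Subgroup G} {g w p : G} (hg : g ∈ normalizer (V : Set G)) (hw : w ∈ us V p) :
    g * w * g⁻¹ ∈ us V (g * p * g⁻¹) := ⟨conj_mem_ws hw.1, conj_mem_centralizer hg hw.2⟩

theorem cj_us {V : Subgroup G} {g : G} (hg : g ∈ normalizer (V : Set G)) (p : G) :
    cj g (us V p) = us V (g * p * g⁻¹) := by
  ext x
  rw [mem_cj]
  constructor
  · intro h
    have := conj_mem_us hg h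
    have e : g * (g⁻¹ * x * g) * g⁻¹ = x := by group
    rwa [e] at this
  · intro h
    have := conj_mem_us (inv_mem hg) h
    have e : g⁻¹ * (g * p * g⁻¹) * g⁻¹⁻¹ = p := by group
    rw [e, inv_inv] at this
    exact this

theorem conj_mem_dd {V : Subgroup G} {g d : G} (hg : g ∈ normalizer (V : Set G)) (hd : d ∈ dd V) :
    g * d * g⁻¹ ∈ dd V := by
  rw [mem_dd] at hd ⊢
  intro p hp hp1
  have hp' : g⁻¹ * p * g ∈ V := by
    have := (mem_normalizer_iff.mp (inv_mem hg) p).mp hp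
    rwa [inv_inv] at this
  have h1 := hd _ hp' (fun e => hp1 (by
    have : p = g * (g⁻¹ * p * g) * g⁻¹ := by group
    rw [this, e]; group))
  have h2 := conj_mem_ws (g := g) h1
  have e : g * (g⁻¹ * p * g) * g⁻¹ = p := by group
  rwa [e] at h2

theorem normalizer_le_normalizer_dd (V : Subgroup G) :
    normalizer (V : Set G) ≤ normalizer ((dd V : Subgroup G) : Set G) :=
  le_normalizer_of_forall fun _ hg _ hd => conj_mem_dd hg hd

/-- The case `b = 2`. -/
structure BTwo (T V : Subgroup G) (z : G) : Prop extends GeoC T V z where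
  nonab : ∃ a ∈ ws V z, ∃ b ∈ ws V z, a * b ≠ b * a

namespace BTwo

variable {T V : Subgroup G} {z : G}

theorem point (h : BTwo T V z) {p : G} (hp : p ∈ V) (hp1 : p ≠ 1) : ∃ T' : Subgroup G, BTwo T' V p := by
  obtain ⟨g, hg, rfl, h1⟩ := h.toGeoC.point hp hp1
  obtain ⟨a, ha, b, hb, hab⟩ := h.nonab
  refine ⟨cj g T, h1, g * a * g⁻¹, conj_mem_ws ha, g * b * g⁻¹, conj_mem_ws hb, fun e => hab ?_⟩
  calc a * b = g⁻¹ * (g * a * g⁻¹ * (g * b * g⁻¹)) * g := by group
    _ = g⁻¹ * (g * b * g⁻¹ * (g * a * g⁻¹)) * g := by rw [e]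
    _ = b * a := by group

section

variable [Finite G]

theorem exists_w (h : BTwo T V z) : ∃ w ∈ ws V z, w ∉ centralizer (V : Set G) := by
  by_contra hcon
  push Not at hcon
  obtain ⟨a, ha, b, hb, hab⟩ := h.nonab
  apply hab
  have h1 : ∀ L ∈ lines V z, ws V z ≤ centralizer (L : Set G) := by
    intro L hL w hw
    obtain ⟨c, hc, rfl⟩ := h.exists_of_mem_lines hL
    have hw' : c⁻¹ * w * c ∈ ws V z := by
      have := conj_mem_ws (g := c⁻¹) hw
      rw [inv_inv] at this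
      have e : c⁻¹ * z * c = z := by rw [mul_assoc, ← h.z_comm hc, inv_mul_cancel_left]
      rwa [e] at this
    rw [mem_centralizer_iff]
    intro x hx
    have hx' := mem_cj.mp hx
    have h2 := comm_V (hcon _ hw') hx'
    calc x * w = c * (c⁻¹ * x * c * (c⁻¹ * w * c)) * c⁻¹ := by group
      _ = c * (c⁻¹ * w * c * (c⁻¹ * x * c)) * c⁻¹ := by rw [h2]
      _ = w * x := by group
  have h2 : ws V z ≤ centralizer ({b} : Set G) := by
    refine ws_le fun L hL x hx => ?_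
    rw [mem_centralizer_singleton_iff]
    exact mem_centralizer_iff.mp (h1 L hL hb) x hx
  exact mem_centralizer_singleton_iff.mp (h2 ha)

theorem w_move (h : BTwo T V z) {w q : G} (hw : w ∈ ws V z) (hwV : w ∉ centralizer (V : Set G)) (hq : q ∈ V)
    (hq1 : q ≠ 1) (hqz : q ≠ z) : w * q * w⁻¹ = z * q := by
  rcases h.conj_cases h.z_mem hq h.z_ne (h.z_comm (h.ws_le_centralizer hw)) (h.ws_le_normalizer hw)
    with e | e
  · exfalso
    apply hwV
    rw [mem_centralizer_iff]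
    have hwq : q * w = w * q := by
      calc q * w = (w * q * w⁻¹) * w := by rw [e]
        _ = w * q := by group
    have hwz : z * w = w * z := (h.z_comm (h.ws_le_centralizer hw)).symm
    intro v hv
    rcases h.four h.z_mem hq h.z_ne hq1 (Ne.symm hqz) hv with rfl | rfl | rfl | rfl
    · simp
    · exact hwz
    · exact hwq
    · rw [mul_assoc, hwq, ← mul_assoc, hwz, mul_assoc]
  · exact e

theorem us_two (h : BTwo T V z) {w w' : G} (hw : w ∈ ws V z) (hwV : w ∉ centralizer (V : Set G))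
    (hw' : w' ∈ ws V z) (hwV' : w' ∉ centralizer (V : Set G)) : w * w' ∈ us V z := by
  refine ⟨mul_mem hw hw', ?_⟩
  obtain ⟨y, hy, hy1, hyz⟩ := h.exists_y
  have h1 := h.w_move hw hwV hy hy1 hyz
  have h2 := h.w_move hw' hwV' hy hy1 hyz
  have hwz : ∀ w ∈ ws V z, w * z = z * w := fun w hw => h.z_comm (h.ws_le_centralizer hw)
  have hwy : (w * w') * y = y * (w * w') := by
    calc (w * w') * y = w * (w' * y * w'⁻¹) * w' := by group
      _ = (w * z) * y * w' := by rw [h2]; group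
      _ = z * (w * y * w⁻¹) * w * w' := by rw [hwz w hw]; group
      _ = (z * z) * y * (w * w') := by rw [h1]; group
      _ = y * (w * w') := by rw [h.zz, one_mul]
  refine mem_centralizer_iff.mpr fun v hv => ?_
  have hz2 := hwz _ (mul_mem hw hw')
  rcases h.four h.z_mem hy h.z_ne hy1 (Ne.symm hyz) hv with rfl | rfl | rfl | rfl
  · simp
  · exact hz2.symm
  · exact hwy.symm
  · rw [mul_assoc, ← hwy, ← mul_assoc, ← hz2, mul_assoc]

theorem conj_z (h : BTwo T V z) {w : G} (hw : w ∈ ws V z) : w * z * w⁻¹ = z := by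
  rw [h.z_comm (h.ws_le_centralizer hw)]; group

/-- `ws V z ∩ ws V q ≤ dd V` -/
theorem inf_le_dd (h : BTwo T V z) {q : G} (hq : q ∈ V) (hq1 : q ≠ 1) (hqz : q ≠ z) :
    ws V z ⊓ ws V q ≤ dd V := by
  rintro d ⟨hdz, hdq⟩
  rw [mem_dd]
  intro p hp hp1
  rcases h.four h.z_mem hq h.z_ne hq1 (Ne.symm hqz) hp with rfl | rfl | rfl | rfl
  · exact absurd rfl hp1
  · exact hdz
  · exact hdq
  · obtain ⟨w, hw, hwV⟩ := h.exists_w
    have h1 : w * d * w⁻¹ ∈ ws V (z * q) := by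
      rw [← h.w_move hw hwV hq hq1 hqz]; exact conj_mem_ws hdq
    obtain ⟨T', h'⟩ := h.point hp hp1
    rcases h.comm_cases hw (h.ws_le_o2 hdz) with e | e
    · rwa [e, mul_inv_cancel_right] at h1
    · rw [e] at h1
      have h2 : z * (d * w) * w⁻¹ = z * d := by group
      rw [h2] at h1
      have h3 : z ∈ ws V (z * q) := h'.V_le_ws h.z_mem
      have h4 := mul_mem (inv_mem h3) h1
      rwa [inv_mul_cancel_left] at h4

theorem dd_le_ws (_ : BTwo T V z) {p : G} (hp : p ∈ V) (hp1 : p ≠ 1) : dd V ≤ ws V p :=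
  fun _ hd => mem_dd.mp hd p hp hp1

theorem V_le_dd (h : BTwo T V z) : V ≤ dd V := by
  intro v hv
  rw [mem_dd]
  intro p hp hp1
  obtain ⟨T', h'⟩ := h.point hp hp1
  exact h'.V_le_ws hv

theorem dd_le_centralizer (h : BTwo T V z) : dd V ≤ centralizer (V : Set G) := by
  intro d hd
  rw [mem_centralizer_iff]
  intro v hv
  by_cases hv1 : v = 1
  · rw [hv1]; simp
  · obtain ⟨T', h'⟩ := h.point hv hv1
    exact (h'.z_comm (h'.ws_le_centralizer (mem_dd.mp hd v hv hv1))).symm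

theorem dd_le_us (h : BTwo T V z) {p : G} (hp : p ∈ V) (hp1 : p ≠ 1) : dd V ≤ us V p :=
  le_inf (h.dd_le_ws hp hp1) h.dd_le_centralizer

theorem dd_comm (h : BTwo T V z) {a b : G} (ha : a ∈ dd V) (hb : b ∈ dd V) : a * b = b * a := by
  obtain ⟨y, hy, hy1, hyz⟩ := h.exists_y
  obtain ⟨T', h'⟩ := h.point hy hy1
  have ha1 := mem_dd.mp ha z h.z_mem h.z_ne
  have hb1 := mem_dd.mp hb z h.z_mem h.z_ne
  have ha2 := mem_dd.mp ha y hy hy1
  have hb2 := mem_dd.mp hb y hy hy1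
  rcases h.comm_cases ha1 (h.ws_le_o2 hb1) with e | e
  · exact e
  · rcases h'.comm_cases ha2 (h'.ws_le_o2 hb2) with e' | e'
    · exact e'
    · exfalso
      apply hyz
      rw [e] at e'
      exact (mul_right_cancel e').symm

theorem dd_sq (h : BTwo T V z) {a : G} (ha : a ∈ dd V) : a * a = 1 := by
  obtain ⟨y, hy, hy1, hyz⟩ := h.exists_y
  obtain ⟨T', h'⟩ := h.point hy hy1
  rcases h.sq_cases (mem_dd.mp ha z h.z_mem h.z_ne) with e | e
  · exact e
  · rcases h'.sq_cases (mem_dd.mp ha y hy hy1) with e' | e'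
    · exact e'
    · exfalso; apply hyz; rw [← e', e]

theorem dd_inv (h : BTwo T V z) {a : G} (ha : a ∈ dd V) : a⁻¹ = a := inv_eq_self (h.dd_sq ha)

/-- an element of `dd V` commutes with an element of `ws V z` up to `z` -/
theorem dd_ws (h : BTwo T V z) {d w : G} (hd : d ∈ dd V) (hw : w ∈ ws V z) :
    w * d * w⁻¹ = d ∨ w * d * w⁻¹ = z * d := by
  rcases h.comm_cases hw (h.ws_le_o2 (mem_dd.mp hd z h.z_mem h.z_ne)) with e | e
  · left; rw [e]; group
  · right; rw [e]; group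

/-- `[us V z, us V q] ≤ dd V` -/
theorem comm_us (h : BTwo T V z) {q a b : G} (hq : q ∈ V) (hq1 : q ≠ 1) (hqz : q ≠ z) (ha : a ∈ us V z)
    (hb : b ∈ us V q) : a * b * a⁻¹ * b⁻¹ ∈ dd V := by
  apply h.inf_le_dd hq hq1 hqz
  constructor
  · have h1 := conj_mem_of_normalizer (centralizer_le_normalizer_ws h.z_mem) hb.2 (inv_mem ha.1)
    have e : a * b * a⁻¹ * b⁻¹ = a * (b * a⁻¹ * b⁻¹) := by group
    rw [e]; exact mul_mem ha.1 h1
  · exact (ws V q).mul_mem (conj_mem_of_normalizer (centralizer_le_normalizer_ws hq) ha.2 hb.1)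
      (inv_mem hb.1)

/-- `[ws V z, us V q] ≤ us V z` -/
theorem comm_ws_us (h : BTwo T V z) {q w u : G} (hw : w ∈ ws V z) (hu : u ∈ us V q) :
    w * u * w⁻¹ * u⁻¹ ∈ us V z := by
  refine ⟨?_, ?_⟩
  · have h1 := conj_mem_of_normalizer (centralizer_le_normalizer_ws h.z_mem) hu.2 (inv_mem hw)
    have e : w * u * w⁻¹ * u⁻¹ = w * (u * w⁻¹ * u⁻¹) := by group
    rw [e]; exact mul_mem hw h1
  · exact (centralizer (V : Set G)).mul_mem (conj_mem_centralizer (h.ws_le_normalizer hw) hu.2)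
      ((centralizer (V : Set G)).inv_mem hu.2)

/-- injectivity of `us V q / dd V → us V z / dd V`, `u ↦ [w, u]` -/
theorem mem_dd_of_comm (h : BTwo T V z) {q w u : G} (hq : q ∈ V) (hq1 : q ≠ 1) (hqz : q ≠ z)
    (hw : w ∈ ws V z) (hwV : w ∉ centralizer (V : Set G)) (hu : u ∈ us V q)
    (hd : w * u * w⁻¹ * u⁻¹ ∈ dd V) : u ∈ dd V := by
  have hn := h.ws_le_normalizer hw
  have h1 : w * u * w⁻¹ ∈ us V (z * q) := by
    rw [← h.w_move hw hwV hq hq1 hqz]; exact conj_mem_us hn hu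
  have h2 : w * u * w⁻¹ ∈ ws V q := by
    have e : w * u * w⁻¹ = (w * u * w⁻¹ * u⁻¹) * u := by group
    rw [e]; exact mul_mem (h.dd_le_ws hq hq1 hd) hu.1
  obtain ⟨T', h'⟩ := h.point hq hq1
  have hzq1 : z * q ≠ 1 := fun e => hqz (by
    rw [mul_eq_one_iff_eq_inv.mp e, h.inv_eq hq])
  have hzqq : z * q ≠ q := fun e => h.z_ne (by simpa using e)
  have h3 := h'.inf_le_dd (mul_mem h.z_mem hq) hzq1 hzqq ⟨h2, h1.1⟩
  have h4 := conj_mem_dd (inv_mem hn) h3
  have e : w⁻¹ * (w * u * w⁻¹) * w⁻¹⁻¹ = u := by group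
  rwa [e] at h4

theorem card_us (h : BTwo T V z) {q : G} (hq : q ∈ V) (hq1 : q ≠ 1) :
    Nat.card (us V q) = Nat.card (us V z) := by
  obtain ⟨g, hg, rfl⟩ := h.trans q hq hq1
  rw [← cj_us hg, card_cj]

/-- surjectivity of `us V q / dd V → us V z / dd V`, `u ↦ [w, u]` -/
theorem exists_eq (h : BTwo T V z) {q w a : G} (hq : q ∈ V) (hq1 : q ≠ 1) (hqz : q ≠ z)
    (hw : w ∈ ws V z) (hwV : w ∉ centralizer (V : Set G)) (ha : a ∈ us V z) :
    ∃ u ∈ us V q, ∃ d ∈ dd V, a = w * u * w⁻¹ * u⁻¹ * d := by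
  have hn := h.ws_le_normalizer hw
  have hcomm : ∀ u ∈ us V q, ∀ v ∈ us V q, w * (u * v) * w⁻¹ * (u * v)⁻¹ =
      (w * u * w⁻¹ * u⁻¹) * (u * (w * v * w⁻¹ * v⁻¹) * u⁻¹) := by
    intro u _ v _; group
  have hcd : ∀ u ∈ us V q, ∀ d ∈ dd V, u * d * u⁻¹ ∈ dd V := fun u hu d hd =>
    conj_mem_dd (centralizer_le_normalizer _ hu.2) hd
  let φ : (us V q ⧸ (dd V).subgroupOf (us V q)) → (us V z ⧸ (dd V).subgroupOf (us V z)) :=
    Quotient.map' (fun u : us V q => (⟨w * u * w⁻¹ * (u : G)⁻¹, h.comm_ws_us hw u.2⟩ : us V z)) (by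
      intro u v huv
      rw [QuotientGroup.leftRel_apply] at huv ⊢
      rw [mem_subgroupOf] at huv ⊢
      change (w * u * w⁻¹ * (u : G)⁻¹)⁻¹ * (w * v * w⁻¹ * (v : G)⁻¹) ∈ dd V
      have hd : (u : G)⁻¹ * v ∈ dd V := huv
      have e1 : (v : G) = u * ((u : G)⁻¹ * v) := by group
      have h1 := hcomm u u.2 ((u : G)⁻¹ * v) (mul_mem (inv_mem u.2) v.2)
      rw [← e1] at h1
      rw [h1, inv_mul_cancel_left]
      exact hcd u u.2 _ (mul_mem (conj_mem_dd hn hd) (inv_mem hd)))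
  have hinj : Function.Injective φ := by
    intro x y
    refine Quotient.inductionOn₂' x y (fun u v huv => ?_)
    have h1 : QuotientGroup.leftRel ((dd V).subgroupOf (us V z))
        ⟨w * u * w⁻¹ * (u : G)⁻¹, h.comm_ws_us hw u.2⟩ ⟨w * v * w⁻¹ * (v : G)⁻¹, h.comm_ws_us hw v.2⟩ :=
      Quotient.eq''.mp huv
    rw [QuotientGroup.leftRel_apply, mem_subgroupOf] at h1
    refine Quotient.eq''.mpr ?_
    rw [QuotientGroup.leftRel_apply, mem_subgroupOf]
    change (u : G)⁻¹ * v ∈ dd V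
    change (w * u * w⁻¹ * (u : G)⁻¹)⁻¹ * (w * v * w⁻¹ * (v : G)⁻¹) ∈ dd V at h1
    have e1 : (v : G) = u * ((u : G)⁻¹ * v) := by group
    have h2 := hcomm u u.2 ((u : G)⁻¹ * v) (mul_mem (inv_mem u.2) v.2)
    rw [← e1] at h2
    rw [h2, inv_mul_cancel_left] at h1
    have h3 := hcd _ (inv_mem u.2) _ h1
    have e2 : (u : G)⁻¹ * (u * (w * ((u : G)⁻¹ * v) * w⁻¹ * ((u : G)⁻¹ * v)⁻¹) * (u : G)⁻¹) * (u : G)⁻¹⁻¹ =
        w * ((u : G)⁻¹ * v) * w⁻¹ * ((u : G)⁻¹ * v)⁻¹ := by group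
    rw [e2] at h3
    exact h.mem_dd_of_comm hq hq1 hqz hw hwV (mul_mem (inv_mem u.2) v.2) h3
  have hcard : Nat.card (us V q ⧸ (dd V).subgroupOf (us V q)) =
      Nat.card (us V z ⧸ (dd V).subgroupOf (us V z)) := by
    have h1 := Subgroup.card_mul_index ((dd V).subgroupOf (us V q))
    have h2 := Subgroup.card_mul_index ((dd V).subgroupOf (us V z))
    rw [Nat.card_congr (subgroupOfEquivOfLe (h.dd_le_us hq hq1)).toEquiv] at h1
    rw [Nat.card_congr (subgroupOfEquivOfLe (h.dd_le_us h.z_mem h.z_ne)).toEquiv] at h2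
    rw [h.card_us hq hq1, ← h2] at h1
    exact Nat.eq_of_mul_eq_mul_left Nat.card_pos h1
  have hsurj : Function.Surjective φ :=
    (hinj.bijective_of_nat_card_le hcard.ge).2
  obtain ⟨x, hx⟩ := hsurj (Quotient.mk'' ⟨a, ha⟩)
  obtain ⟨u, rfl⟩ := Quotient.mk''_surjective x
  have h1 : QuotientGroup.leftRel ((dd V).subgroupOf (us V z))
      ⟨w * u * w⁻¹ * (u : G)⁻¹, h.comm_ws_us hw u.2⟩ ⟨a, ha⟩ := Quotient.eq''.mp hx
  rw [QuotientGroup.leftRel_apply, mem_subgroupOf] at h1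
  refine ⟨u, u.2, _, h1, ?_⟩
  change a = w * u * w⁻¹ * (u : G)⁻¹ * ((w * u * w⁻¹ * (u : G)⁻¹)⁻¹ * a)
  group

end

end BTwo

end Cfsg.Agent.OddCyclic.BTwoA
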