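import Mathlib
import Cfsg.Agent.OddCyclic.BTwoB

/-!
# (E1) with `|V| = 4`: the case `b = 2`, part C

* `BTwo.us_inf_kq_le`, `BTwo.mem_zpowers_of_comm`, `BTwo.mem_V_of_comm_zpowers`;
* `BTwo.center_comm`: `[Z(ws V z), us V q] ≤ ⟨z⟩`;
* `BTwo.comm_o2_us`: `[O₂(C_G(z)), us V q] ≤ us V z`;
* `ax V z q = ⟨(us V q)^{C_G(z)}⟩`, `BTwo.ax_inf_kq_le`: `ax ∩ kq ≤ O₂(C_G(z))`;
* `BTwo.exists_transvection`;
* `Geo.odd_lines`: the number of lines through `z` is odd.
-/

set_option autoImplicit false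
set_option linter.dupNamespace false
set_option linter.unusedSectionVars false
set_option linter.style.haveILetI false

namespace Cfsg.Agent.OddCyclic.BTwoC

open Subgroup Cfsg Cfsg.Agent.ZN Cfsg.Agent.MinSimple.Geo Cfsg.Agent.OddCyclic.GeoC
  Cfsg.Agent.OddCyclic.BTwoA
open Cfsg.Agent.OddCyclic.BTwoB
open Cfsg.Agent.ZN.Block (conj_mem_of_normalizer conj_mem_of_normalizer' le_normalizer_of_forall
  mem_normalizer_of)

universe u

variable {G : Type u} [Group G] [Finite G] {T V : Subgroup G} {z : G}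

theorem zpowers_le_dd (h : BTwo T V z) {p : G} (hp : p ∈ V) : zpowers p ≤ dd V :=
  (zpowers_le).mpr (h.V_le_dd hp)

/-- the kernel of `us V q` on `ws V z / ⟨z⟩` is `dd V` -/
theorem us_inf_kq_le (h : BTwo T V z) {q : G} (hq : q ∈ V) (hq1 : q ≠ 1) (hqz : q ≠ z) :
    us V q ⊓ kq V z ≤ dd V := by
  rintro u ⟨hu, hk⟩
  obtain ⟨w, hw, hwV⟩ := h.exists_w
  refine h.mem_dd_of_comm hq hq1 hqz hw hwV hu ?_
  have h1 := (mem_kq.mp hk).2.1 w hw
  have e : w * u * w⁻¹ * u⁻¹ = (u * w * u⁻¹ * w⁻¹)⁻¹ := by group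
  rw [e]
  exact zpowers_le_dd h h.z_mem (inv_mem h1)

/-- `dd V ∩ Z(ws V z) = ⟨z⟩` -/
theorem mem_zpowers_of_comm (h : BTwo T V z) {d : G} (hd : d ∈ dd V) (hc : ∀ w ∈ ws V z, w * d = d * w) :
    d ∈ zpowers z := by
  have hdV := BTwo.mem_V_of_comm h hd (fun u hu => hc u hu.1)
  obtain ⟨w, hw, hwV⟩ := h.exists_w
  by_cases hd1 : d = 1
  · rw [hd1]; exact one_mem _
  by_cases hdz : d = z
  · rw [hdz]; exact mem_zpowers z
  exfalso
  have h1 := h.w_move hw hwV hdV hd1 hdz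
  rw [hc w hw, mul_inv_cancel_right] at h1
  exact h.z_ne (by simpa using h1.symm)

/-- `C_{dd V/⟨z⟩}(us V q) = V/⟨z⟩` -/
theorem mem_V_of_comm_zpowers (h : BTwo T V z) {d q : G} (hq : q ∈ V) (hq1 : q ≠ 1) (hqz : q ≠ z)
    (hd : d ∈ dd V) (hc : ∀ u ∈ us V q, u * d * u⁻¹ * d⁻¹ ∈ zpowers z) : d ∈ V := by
  refine BTwo.mem_V_of_comm' h hd hq hq1 (fun u hu => ?_)
  obtain ⟨T', h'⟩ := h.point hq hq1
  have h1 := (mem_zpowers_iff_of_mul_self h.zz).mp (hc u hu)
  rcases h'.dd_ws hd hu.1 with e | e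
  · calc u * d = (u * d * u⁻¹) * u := by group
      _ = d * u := by rw [e]
  · exfalso
    rw [e, mul_inv_cancel_right] at h1
    rcases h1 with h1 | h1
    · exact hq1 h1
    · exact hqz h1

/-- `[Z(ws V z), us V q] ≤ ⟨z⟩` -/
theorem center_comm (h : BTwo T V z) {q x u : G} (hq : q ∈ V) (hq1 : q ≠ 1) (hqz : q ≠ z)
    (hx : x ∈ ws V z) (hxc : ∀ w ∈ ws V z, w * x = x * w) (hu : u ∈ us V q) :
    x * u * x⁻¹ * u⁻¹ ∈ zpowers z := by
  have hxV : x ∈ centralizer (V : Set G) := by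
    rw [mem_centralizer_iff]
    exact fun v hv => hxc v (h.V_le_ws hv)
  have h1 := h.comm_us hq hq1 hqz ⟨hx, hxV⟩ hu
  refine mem_zpowers_of_comm h h1 (fun w hw => ?_)
  have hn := centralizer_le_normalizer_ws h.z_mem hu.2
  -- `u x⁻¹ u⁻¹` is central in `ws V z`
  have h2 : w * (u * x⁻¹ * u⁻¹) = (u * x⁻¹ * u⁻¹) * w := by
    have h3 := hxc _ (conj_mem_of_normalizer' le_rfl hn hw)
    have h4 : (u⁻¹ * w * u) * x⁻¹ = x⁻¹ * (u⁻¹ * w * u) := by
      calc (u⁻¹ * w * u) * x⁻¹ = x⁻¹ * (x * (u⁻¹ * w * u)) * x⁻¹ := by group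
        _ = x⁻¹ * ((u⁻¹ * w * u) * x) * x⁻¹ := by rw [h3]
        _ = x⁻¹ * (u⁻¹ * w * u) := by group
    calc w * (u * x⁻¹ * u⁻¹) = u * ((u⁻¹ * w * u) * x⁻¹) * u⁻¹ := by group
      _ = u * (x⁻¹ * (u⁻¹ * w * u)) * u⁻¹ := by rw [h4]
      _ = (u * x⁻¹ * u⁻¹) * w := by group
  calc w * (x * u * x⁻¹ * u⁻¹) = (w * x) * (u * x⁻¹ * u⁻¹) := by group
    _ = x * (w * (u * x⁻¹ * u⁻¹)) := by rw [hxc w hw]; group
    _ = x * u * x⁻¹ * u⁻¹ * w := by rw [h2]; group

/-- `us V z` normalizes `us V q` -/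
theorem us_le_normalizer_us {V : Subgroup G} {z q : G} (hq : q ∈ V) :
    us V z ≤ normalizer ((us V q : Subgroup G) : Set G) := by
  refine le_normalizer_of_forall fun a ha u hu => ?_
  have h1 := conj_mem_us (centralizer_le_normalizer _ ha.2) hu
  have e : a * q * a⁻¹ = q := by rw [comm_V ha.2 hq]; group
  rwa [e] at h1

/-- `[O₂(C_G(z)), us V q] ≤ us V z` -/
theorem comm_o2_us (h : BTwo T V z) {q g u : G} (hq : q ∈ V) (hq1 : q ≠ 1) (hqz : q ≠ z)
    (hg : g ∈ o2 (centralizer ({z} : Set G))) (hu : u ∈ us V q) : g * u * g⁻¹ * u⁻¹ ∈ us V z := by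
  have hgT := h.o2_le_T hg
  have hgn := h.T_norm hgT
  have h1 : g * u * g⁻¹ ∈ rr V := by
    have h2 := conj_mem_us hgn hu
    refine us_le_rr ((mem_normalizer_iff.mp hgn q).mp hq) (fun e => hq1 ?_) h2
    have : q = g⁻¹ * (g * q * g⁻¹) * g := by group
    rw [this, e]; group
  have h2 : g * u * g⁻¹ * u⁻¹ ∈ rr V := mul_mem h1 (inv_mem (us_le_rr hq hq1 hu))
  have huC : u ∈ centralizer ({z} : Set G) := centralizer_le_of_mem h.z_mem hu.2
  have h3 : g * u * g⁻¹ * u⁻¹ ∈ o2 (centralizer ({z} : Set G)) := by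
    have h4 := conj_mem_of_normalizer (ZN.le_normalizer_o2 _) huC (inv_mem hg)
    have e : g * u * g⁻¹ * u⁻¹ = g * (u * g⁻¹ * u⁻¹) := by group
    rw [e]; exact mul_mem hg h4
  rw [BTwo.rr_eq h hq hq1 hqz, ← SetLike.mem_coe,
    coe_mul_of_left_le_normalizer_right _ _ (us_le_normalizer_us hq)] at h2
  obtain ⟨a, ha, b, hb, hab⟩ := h2
  have hab' : a * b = g * u * g⁻¹ * u⁻¹ := hab
  have hbo : b ∈ o2 (centralizer ({z} : Set G)) := by
    have e : b = a⁻¹ * (a * b) := by group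
    rw [e, hab']
    exact mul_mem (inv_mem (h.ws_le_o2 ha.1)) h3
  have hbd : b ∈ dd V := BTwo.o2_inf_ws_le h hq hq1 hqz ⟨hbo, hb.1⟩
  rw [← hab']
  exact mul_mem ha (h.dd_le_us h.z_mem h.z_ne hbd)

/-- the normal closure of `us V q` in `C_G(z)` -/
def ax (V : Subgroup G) (z q : G) : Subgroup G := ⨆ c : centralizer ({z} : Set G), cj (c : G) (us V q)

theorem us_le_ax (V : Subgroup G) (z q : G) : us V q ≤ ax V z q := by
  have := le_iSup (fun c : centralizer ({z} : Set G) => cj (c : G) (us V q)) 1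
  rw [show ((1 : centralizer ({z} : Set G)) : G) = 1 from rfl, cj_one] at this
  exact this

theorem centralizer_le_normalizer_ax (V : Subgroup G) (z q : G) :
    centralizer ({z} : Set G) ≤ normalizer ((ax V z q : Subgroup G) : Set G) := by
  have key : ∀ g ∈ centralizer ({z} : Set G), cj g (ax V z q) ≤ ax V z q := by
    intro g hg
    rw [cj_le_iff]
    refine iSup_le fun c => ?_
    rw [← cj_le_iff, cj_cj]
    exact le_iSup (fun c : centralizer ({z} : Set G) => cj (c : G) (us V q)) (⟨g, hg⟩ * c)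
  intro g hg
  rw [mem_normalizer_iff_cj]
  refine le_antisymm (key g hg) ?_
  have := key g⁻¹ (inv_mem hg)
  rwa [cj_le_iff, inv_inv] at this

theorem us_le_C (h : BTwo T V z) (q : G) : us V q ≤ centralizer ({z} : Set G) :=
  (us_le_centralizer V q).trans (centralizer_le_of_mem h.z_mem)

theorem ax_le (h : BTwo T V z) (q : G) : ax V z q ≤ centralizer ({z} : Set G) := by
  refine iSup_le fun c => ?_
  have := cj_mono (g := (c : G)) (us_le_C h q)
  rwa [cj_eq_of_mem_normalizer (le_normalizer c.2)] at this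

/-- `[O₂(C_G(z)), ax V z q] ≤ ws V z` -/
theorem comm_o2_ax (h : BTwo T V z) {q : G} (hq : q ∈ V) (hq1 : q ≠ 1) (hqz : q ≠ z) :
    ∀ x ∈ ax V z q, ∀ g ∈ o2 (centralizer ({z} : Set G)), g * x * g⁻¹ * x⁻¹ ∈ ws V z := by
  set C := centralizer ({z} : Set G) with hC
  have hws : C ≤ normalizer ((ws V z : Subgroup G) : Set G) := Cfsg.Agent.MinSimple.Geo.centralizer_le_normalizer_ws V z
  have hoC : o2 C ≤ C := o2_le C
  let A : Subgroup G :=
    { carrier := {x | x ∈ C ∧ ∀ g ∈ o2 C, g * x * g⁻¹ * x⁻¹ ∈ ws V z}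
      mul_mem' := by
        rintro a b ⟨ha, ha1⟩ ⟨hb, hb1⟩
        refine ⟨mul_mem ha hb, fun g hg => ?_⟩
        have e : g * (a * b) * g⁻¹ * (a * b)⁻¹ =
            (g * a * g⁻¹ * a⁻¹) * (a * (g * b * g⁻¹ * b⁻¹) * a⁻¹) := by group
        rw [e]
        exact mul_mem (ha1 g hg) (conj_mem_of_normalizer hws ha (hb1 g hg))
      one_mem' := ⟨one_mem _, fun g _ => by simp⟩
      inv_mem' := by
        rintro a ⟨ha, ha1⟩
        refine ⟨inv_mem ha, fun g hg => ?_⟩
        have e3 : g * a⁻¹ * g⁻¹ * a⁻¹⁻¹ =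
            (g * (a⁻¹ * (g⁻¹ * a * g⁻¹⁻¹ * a⁻¹) * a) * g⁻¹) := by group
        rw [e3]
        have h3 := conj_mem_of_normalizer' hws ha (ha1 g⁻¹ (inv_mem hg))
        exact conj_mem_of_normalizer hws (hoC hg) h3 }
  have hA : ax V z q ≤ A := by
    refine iSup_le fun c x hx => ?_
    rw [mem_cj] at hx
    refine ⟨?_, fun g hg => ?_⟩
    · have := mul_mem (mul_mem c.2 (us_le_C h q hx)) (inv_mem c.2)
      have e : (c : G) * ((c : G)⁻¹ * x * c) * (c : G)⁻¹ = x := by group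
      rwa [e] at this
    · have hg' := conj_mem_of_normalizer' (ZN.le_normalizer_o2 C) c.2 hg
      have h1 := comm_o2_us h hq hq1 hqz hg' hx
      have h2 := conj_mem_of_normalizer hws c.2 h1.1
      have e : (c : G) * ((c : G)⁻¹ * g * c * ((c : G)⁻¹ * x * c) * ((c : G)⁻¹ * g * c)⁻¹ *
          ((c : G)⁻¹ * x * c)⁻¹) * (c : G)⁻¹ = g * x * g⁻¹ * x⁻¹ := by group
      rwa [e] at h2
  exact fun x hx => (hA hx).2

/-- `ax V z q ∩ kq V z ≤ O₂(C_G(z))` -/
theorem ax_inf_kq_le (h : BTwo T V z) {q : G} (hq : q ∈ V) (hq1 : q ≠ 1) (hqz : q ≠ z) :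
    ax V z q ⊓ kq V z ≤ o2 (centralizer ({z} : Set G)) := by
  set C := centralizer ({z} : Set G) with hC
  have hn : C ≤ normalizer ((ax V z q ⊓ kq V z : Subgroup G) : Set G) :=
    le_normalizer_of_forall fun c hc k hk =>
      ⟨conj_mem_of_normalizer (centralizer_le_normalizer_ax V z q) hc hk.1,
        conj_mem_of_normalizer (centralizer_le_normalizer_kq V z) hc hk.2⟩
  refine le_o2 (inf_le_left.trans (ax_le h q)) ?_ hn
  rintro ⟨x, hx1, hx2⟩
  have hxC : x ∈ C := ax_le h q hx1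
  have hxz : x * z = z * x := h.z_comm hxC
  -- `x ^ 4` centralizes `O₂(C)`
  have h2 : x * x * (x * x) ∈ o2 C := by
    refine inf_centralizer_o2_le h.charTwo (isTwoLocal_centralizer h.zz h.z_ne)
      ⟨mul_mem (mul_mem hxC hxC) (mul_mem hxC hxC), ?_⟩
    refine mem_centralizer_iff.mpr fun g hg => ?_
    -- conjugation by `x`
    have hw : x * g * x⁻¹ * g⁻¹ ∈ ws V z := by
      have := inv_mem (comm_o2_ax h hq hq1 hqz x hx1 g hg)
      have e : (g * x * g⁻¹ * x⁻¹)⁻¹ = x * g * x⁻¹ * g⁻¹ := by group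
      rwa [e] at this
    set w := x * g * x⁻¹ * g⁻¹ with hwdef
    have e1 : x * g * x⁻¹ = w * g := by rw [hwdef]; group
    have hwx := (mem_zpowers_iff_of_mul_self h.zz).mp ((mem_kq.mp hx2).2.1 w hw)
    -- `x² g x⁻² = (x w x⁻¹) w g`, and `(x w x⁻¹) w ∈ ⟨z⟩`
    have e2 : x * x * g * (x * x)⁻¹ = (x * w * x⁻¹) * w * g := by
      calc x * x * g * (x * x)⁻¹ = x * (x * g * x⁻¹) * x⁻¹ := by group
        _ = x * (w * g) * x⁻¹ := by rw [e1]
        _ = (x * w * x⁻¹) * (x * g * x⁻¹) := by group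
        _ = (x * w * x⁻¹) * (w * g) := by rw [e1]
        _ = (x * w * x⁻¹) * w * g := by group
    have e3 : (x * w * x⁻¹) * w = 1 ∨ (x * w * x⁻¹) * w = z := by
      have hww := h.sq_cases hw
      have e4 : x * w * x⁻¹ * w = (x * w * x⁻¹ * w⁻¹) * (w * w) := by group
      rw [e4]
      rcases hwx with a1 | a1 <;> rcases hww with a2 | a2 <;> rw [a1, a2] <;> simp [h.zz]
    have e5 : x * x * g * (x * x)⁻¹ = g ∨ x * x * g * (x * x)⁻¹ = z * g := by
      rw [e2]; rcases e3 with a | a <;> rw [a]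
      · left; rw [one_mul]
      · right; rfl
    have hxxz : x * x * z * (x * x)⁻¹ = z := by
      have : x * x * z = z * (x * x) := by
        rw [mul_assoc, hxz, ← mul_assoc, hxz, mul_assoc]
      rw [this]; group
    have e6 : x * x * (x * x) * g * (x * x * (x * x))⁻¹ = g := by
      have e7 : x * x * (x * x) * g * (x * x * (x * x))⁻¹ =
          x * x * (x * x * g * (x * x)⁻¹) * (x * x)⁻¹ := by group
      rw [e7]
      rcases e5 with a | a
      · rw [a, a]
      · rw [a]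
        have e8 : x * x * (z * g) * (x * x)⁻¹ = (x * x * z * (x * x)⁻¹) * (x * x * g * (x * x)⁻¹) := by
          group
        rw [e8, hxxz, a, ← mul_assoc, h.zz, one_mul]
    calc g * (x * x * (x * x)) = (x * x * (x * x) * g * (x * x * (x * x))⁻¹) * (x * x * (x * x)) := by
          rw [e6]
      _ = x * x * (x * x) * g := by group
  obtain ⟨n, hn'⟩ := (isPGroup_o2 C) ⟨_, h2⟩
  refine ⟨n + 2, ?_⟩
  have h3 : (x * x * (x * x)) ^ 2 ^ n = 1 := by simpa using congrArg Subtype.val hn'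
  have h4 : x * x * (x * x) = x ^ 4 := by
    rw [← pow_two, ← pow_two, ← pow_mul]
  ext
  change x ^ 2 ^ (n + 2) = 1
  rw [h4, ← pow_mul] at h3
  have : 2 ^ (n + 2) = 4 * 2 ^ n := by ring
  rw [this]; exact h3

/-- elements of `us V p` act on `⟨V, d⟩` as all transvections with axis `V` -/
theorem exists_transvection (h : BTwo T V z) {d p : G} (hd : d ∈ dd V) (hdV : d ∉ V) (hp : p ∈ V)
    (hp1 : p ≠ 1) : ∃ u ∈ us V p, u * d * u⁻¹ = p * d := by
  by_contra hcon
  push Not at hcon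
  obtain ⟨T', h'⟩ := h.point hp hp1
  apply hdV
  refine BTwo.mem_V_of_comm' h hd hp hp1 (fun u hu => ?_)
  rcases h'.dd_ws hd hu.1 with e | e
  · calc u * d = (u * d * u⁻¹) * u := by group
      _ = d * u := by rw [e]
  · exact absurd e (hcon u hu)

/-- The number of lines through `z` is odd. -/
theorem odd_lines (h : GeoC T V z) : Odd (lines V z).ncard := by
  set C := centralizer ({z} : Set G) with hC
  set H := (C ⊓ normalizer (V : Set G)).subgroupOf C with hH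
  let f : C ⧸ H → Subgroup G := fun x => Quotient.liftOn' x (fun c : C => cj (c : G) V) (by
    intro a b hab
    rw [QuotientGroup.leftRel_apply, mem_subgroupOf] at hab
    have h1 : ((a⁻¹ * b : C) : G) ∈ normalizer (V : Set G) := hab.2
    have h2 := cj_eq_of_mem_normalizer h1
    change cj (a : G) V = cj (b : G) V
    have e : (b : G) = a * ((a⁻¹ * b : C) : G) := by simp
    rw [e, ← cj_cj, h2])
  have hinj : Function.Injective f := by
    intro x y
    refine Quotient.inductionOn₂' x y (fun a b hab => ?_)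
    have hab' : cj (a : G) V = cj (b : G) V := hab
    refine Quotient.eq''.mpr ?_
    rw [QuotientGroup.leftRel_apply, mem_subgroupOf]
    refine ⟨(a⁻¹ * b).2, ?_⟩
    change (a : G)⁻¹ * b ∈ normalizer (V : Set G)
    rw [mem_normalizer_iff_cj, ← cj_cj, ← hab', cj_inv_cj]
  have hrange : Set.range f = lines V z := by
    ext L
    constructor
    · rintro ⟨x, rfl⟩
      refine Quotient.inductionOn' x (fun a => ?_)
      exact h.cj_mem_lines a.2
    · intro hL
      obtain ⟨c, hc, rfl⟩ := h.exists_of_mem_lines hL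
      exact ⟨Quotient.mk'' ⟨c, hc⟩, rfl⟩
  have hcard : (lines V z).ncard = H.index := by
    rw [← hrange, ← Set.image_univ, Set.ncard_image_of_injective _ hinj, Set.ncard_univ]
    rfl
  rw [hcard]
  have h1 : T.relIndex (C ⊓ normalizer (V : Set G)) * (C ⊓ normalizer (V : Set G)).relIndex C =
      T.relIndex C := relIndex_mul_relIndex _ _ _ (le_inf h.T_le h.T_norm) inf_le_left
  rw [← Nat.not_even_iff_odd, even_iff_two_dvd]
  intro h2
  apply h.T_syl
  rw [← hC, ← h1]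
  exact Dvd.dvd.mul_left h2 _

end Cfsg.Agent.OddCyclic.BTwoC
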