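import Mathlib
import Cfsg.Agent.OddCyclic.BTwoC

/-!
# (E1) with `|V| = 4`: the case `b = 2`, part D

* `BTwo.us_ne_dd`: `us V z ≠ dd V`;
* `BTwo.card_ws`: `|ws V z| = 2 |us V z|`;
* `pairing`: double counting for a `±1`-valued commutator pairing;
* `es V z = us V z ∩ C(dd V)`, `BTwo.card_es`, `BTwo.perp_perp`, `BTwo.exists_central`;
* `BTwo.centralizer_xx`: `C_G(xx V) = 1`;
* `Geo.inter_line`: (g4), two noncommuting mutually normalizing lines meet in a point.
-/

set_option autoImplicit false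
set_option linter.dupNamespace false
set_option linter.unusedSectionVars false
set_option linter.style.haveILetI false

namespace Cfsg.Agent.OddCyclic.BTwoD

open Subgroup Cfsg Cfsg.Agent.ZN Cfsg.Agent.MinSimple.Geo Cfsg.Agent.OddCyclic.GeoC
  Cfsg.Agent.OddCyclic.BTwoA
open Cfsg.Agent.OddCyclic.BTwoB Cfsg.Agent.OddCyclic.BTwoC
open Cfsg.Agent.ZN.Block (conj_mem_of_normalizer conj_mem_of_normalizer' le_normalizer_of_forall
  mem_normalizer_of)

universe u

/-! ### the pairing lemma -/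

section Pairing

variable {G : Type u} [Group G]

open Classical in
/-- the sign of a commutator -/
noncomputable def sg (a b : G) : ℤ := if a * b = b * a then 1 else -1

theorem sg_comm (a b : G) : sg a b = sg b a := by
  unfold sg
  by_cases h : a * b = b * a
  · rw [if_pos h, if_pos h.symm]
  · rw [if_neg h, if_neg (fun e => h e.symm)]

variable [Finite G]

open Classical in
theorem sum_sg {B : Subgroup G} [Fintype B] {z a : G} (hz : z * z = 1) (hz1 : z ≠ 1)
    (hzB : ∀ b ∈ B, z * b = b * z) (hab : ∀ b ∈ B, a * b = b * a ∨ a * b = z * (b * a)) :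
    ∑ b : B, sg a (b : G) = if a ∈ centralizer (B : Set G) then (Nat.card B : ℤ) else 0 := by
  by_cases ha : a ∈ centralizer (B : Set G)
  · rw [if_pos ha]
    have : ∀ b : B, sg a (b : G) = 1 := fun b => by
      unfold sg; rw [if_pos (mem_centralizer_iff.mp ha b b.2).symm]
    simp [this, Nat.card_eq_fintype_card]
  · rw [if_neg ha]
    have ha' : ∃ b ∈ B, ¬ a * b = b * a := by
      by_contra hcon
      push Not at hcon
      exact ha (mem_centralizer_iff.mpr fun b hb => (hcon b hb).symm)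
    obtain ⟨b₀, hb₀, hne⟩ := ha'
    have hb : a * b₀ = z * (b₀ * a) := (hab b₀ hb₀).resolve_left hne
    have key : ∀ b : B, sg a ((b₀ * b : G)) = - sg a (b : G) := by
      intro b
      have hzb := hzB b b.2
      have hzb₀ := hzB b₀ hb₀
      unfold sg
      rcases hab b b.2 with e | e
      · have e1 : a * (b₀ * b) = z * (b₀ * b * a) := by
          calc a * (b₀ * b) = (a * b₀) * b := by group
            _ = z * (b₀ * (a * b)) := by rw [hb]; group
            _ = z * (b₀ * b * a) := by rw [e]; group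
        rw [if_pos e, if_neg]
        rw [e1]
        intro e2
        exact hz1 (by simpa using e2)
      · have e1 : a * (b₀ * b) = b₀ * b * a := by
          calc a * (b₀ * b) = (a * b₀) * b := by group
            _ = z * (b₀ * (a * b)) := by rw [hb]; group
            _ = z * (b₀ * z) * (b * a) := by rw [e]; group
            _ = (z * z) * (b₀ * b * a) := by rw [← hzb₀]; group
            _ = b₀ * b * a := by rw [hz, one_mul]
        rw [if_pos e1, if_neg]
        · norm_num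
        · rw [e]
          intro e2
          exact hz1 (by simpa using e2)
    have h1 : ∑ b : B, sg a (b : G) = ∑ b : B, sg a ((b₀ * b : G)) := by
      symm
      exact Fintype.sum_equiv (Equiv.mulLeft (⟨b₀, hb₀⟩ : B)) _ _ (fun b => rfl)
    have h2 : ∑ b : B, sg a ((b₀ * b : G)) = - ∑ b : B, sg a (b : G) := by
      rw [← Finset.sum_neg_distrib]
      exact Finset.sum_congr rfl fun b _ => key b
    linarith

/-- If `[A, B] ≤ ⟨z⟩`, `z` an involution commuting with `A` and `B`, then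
`|C_A(B)| |B| = |A| |C_B(A)|`. -/
theorem pairing {A B : Subgroup G} {z : G} (hz : z * z = 1) (hz1 : z ≠ 1)
    (hzA : ∀ a ∈ A, z * a = a * z) (hzB : ∀ b ∈ B, z * b = b * z)
    (hab : ∀ a ∈ A, ∀ b ∈ B, a * b = b * a ∨ a * b = z * (b * a)) :
    Nat.card ↥(A ⊓ centralizer (B : Set G)) * Nat.card B =
      Nat.card A * Nat.card ↥(B ⊓ centralizer (A : Set G)) := by
  classical
  have := Fintype.ofFinite A
  have := Fintype.ofFinite B
  have hba : ∀ b ∈ B, ∀ a ∈ A, b * a = a * b ∨ b * a = z * (a * b) := by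
    intro b hb a ha
    rcases hab a ha b hb with e | e
    · exact Or.inl e.symm
    · right; rw [e, ← mul_assoc, hz, one_mul]
  have key : ∀ (A B : Subgroup G) (_ : Fintype A) (_ : Fintype B),
      ∑ a : A, (if (a : G) ∈ centralizer (B : Set G) then (Nat.card B : ℤ) else 0) =
      (Nat.card ↥(A ⊓ centralizer (B : Set G)) * Nat.card B : ℤ) := by
    intro A B _ _
    rw [← Finset.sum_filter, Finset.sum_const, nsmul_eq_mul]
    congr 2
    rw [← Nat.card_eq_finsetCard]
    exact (Nat.card_congr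
      { toFun := fun x => ⟨x.1.1, x.1.2, (Finset.mem_filter.mp x.2).2⟩
        invFun := fun x => ⟨⟨x.1, x.2.1⟩, Finset.mem_filter.mpr ⟨Finset.mem_univ _, x.2.2⟩⟩
        left_inv := fun x => rfl
        right_inv := fun x => rfl })
  have h1 : ∑ a : A, ∑ b : B, sg (a : G) (b : G) =
      (Nat.card ↥(A ⊓ centralizer (B : Set G)) * Nat.card B : ℤ) := by
    rw [← key A B ‹Fintype A› ‹Fintype B›]
    exact Finset.sum_congr rfl fun a _ => sum_sg hz hz1 hzB (hab a a.2)
  have h2 : ∑ a : A, ∑ b : B, sg (a : G) (b : G) =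
      (Nat.card ↥(B ⊓ centralizer (A : Set G)) * Nat.card A : ℤ) := by
    rw [Finset.sum_comm, ← key B A ‹Fintype B› ‹Fintype A›]
    refine Finset.sum_congr rfl fun b _ => ?_
    rw [← sum_sg hz hz1 hzA (hba b b.2)]
    exact Finset.sum_congr rfl fun a _ => sg_comm _ _
  rw [h1] at h2
  have h3 : Nat.card ↥(A ⊓ centralizer (B : Set G)) * Nat.card B =
      Nat.card ↥(B ⊓ centralizer (A : Set G)) * Nat.card A := by exact_mod_cast h2
  rw [h3, mul_comm]

/-- `B^⊥⊥ = B Z(A)` -/
theorem perp_perp {A B : Subgroup G} {z : G} (hz : z * z = 1) (hz1 : z ≠ 1)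
    (hzA : ∀ a ∈ A, z * a = a * z) (hBA : B ≤ A)
    (hab : ∀ a ∈ A, ∀ b ∈ A, a * b = b * a ∨ a * b = z * (b * a)) :
    A ⊓ centralizer ((A ⊓ centralizer (B : Set G) : Subgroup G) : Set G) =
      B ⊔ (A ⊓ centralizer (A : Set G)) := by
  set Z := A ⊓ centralizer (A : Set G) with hZ
  set B' := A ⊓ centralizer (B : Set G) with hB'
  symm
  have hle : B ⊔ Z ≤ A ⊓ centralizer (B' : Set G) := by
    refine sup_le (fun b hb => ⟨hBA hb, mem_centralizer_iff.mpr fun x hx => ?_⟩) (fun x hx => ⟨hx.1, ?_⟩)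
    · exact (mem_centralizer_iff.mp hx.2 b hb).symm
    · exact mem_centralizer_iff.mpr fun y hy => mem_centralizer_iff.mp hx.2 y hy.1
  have h1 := pairing hz hz1 hzA (fun b hb => hzA b (hBA hb)) (fun a ha b hb => hab a ha b (hBA hb))
    (B := B)
  have h2 := pairing hz hz1 hzA (fun b hb => hzA b hb.1) (fun a ha b hb => hab a ha b hb.1)
    (B := B')
  have h3 : B' ⊓ centralizer (A : Set G) = Z := by
    refine le_antisymm (fun x hx => ⟨hx.1.1, hx.2⟩) (fun x hx => ⟨⟨hx.1, ?_⟩, hx.2⟩)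
    exact mem_centralizer_iff.mpr fun y hy => mem_centralizer_iff.mp hx.2 y (hBA hy)
  have h4 : B ⊓ centralizer (A : Set G) = B ⊓ Z := by
    refine le_antisymm (fun x hx => ⟨hx.1, hBA hx.1, hx.2⟩) (fun x hx => ⟨hx.1, hx.2.2⟩)
  have h5 : B ≤ normalizer (Z : Set G) := by
    refine le_normalizer_of_forall fun b hb x hx => ?_
    rw [mem_centralizer_iff.mp hx.2 b (hBA hb), mul_inv_cancel_right]
    exact hx
  have h6 := Block.card_sup_mul_card_inf h5
  rw [h3] at h2
  rw [h4] at h1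
  have p1 : 0 < Nat.card A := Nat.card_pos
  have p2 : 0 < Nat.card B' := Nat.card_pos
  have p3 : 0 < Nat.card ↥(B ⊓ Z) := Nat.card_pos
  have p4 : 0 < Nat.card B := Nat.card_pos
  -- cards agree
  have h7 : Nat.card ↥(A ⊓ centralizer (B' : Set G)) = Nat.card ↥(B ⊔ Z) := by
    have e1 : Nat.card ↥(A ⊓ centralizer (B' : Set G)) * (Nat.card B' * Nat.card ↥(B ⊓ Z)) =
        Nat.card ↥(B ⊔ Z) * (Nat.card B' * Nat.card ↥(B ⊓ Z)) := by
      calc Nat.card ↥(A ⊓ centralizer (B' : Set G)) * (Nat.card B' * Nat.card ↥(B ⊓ Z))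
          = (Nat.card ↥(A ⊓ centralizer (B' : Set G)) * Nat.card B') * Nat.card ↥(B ⊓ Z) := by ring
        _ = (Nat.card A * Nat.card ↥(B ⊓ Z)) * Nat.card Z := by rw [h2]; ring
        _ = (Nat.card B' * Nat.card B) * Nat.card Z := by rw [← h1]
        _ = Nat.card B' * (Nat.card B * Nat.card Z) := by ring
        _ = Nat.card ↥(B ⊔ Z) * (Nat.card B' * Nat.card ↥(B ⊓ Z)) := by rw [← h6]; ring
    exact Nat.eq_of_mul_eq_mul_right (Nat.mul_pos p2 p3) e1
  exact Subgroup.eq_of_le_of_card_ge hle (le_of_eq h7)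

end Pairing

variable {G : Type u} [Group G] [Finite G] {T V : Subgroup G} {z : G}

/-! ### `c = 0` is impossible -/

/-- a nontrivial element of a line different from the point generates the line together with the point -/
theorem eq_of_mem_lines (h : GeoC T V z) {L L' : Subgroup G} (hL : L ∈ lines V z) (hL' : L' ∈ lines V z)
    {g : G} (hg : g ∈ L) (hg' : g ∈ L') (hg1 : g ≠ 1) (hgz : g ≠ z) : L = L' := by
  have hcard : ∀ L ∈ lines V z, Nat.card L = 4 := by
    intro L hL
    obtain ⟨⟨c, rfl⟩, -⟩ := hL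
    rw [card_cj, h.card_V]
  have h1 : ({1, z, g} : Set G) ⊆ ((L ⊓ L' : Subgroup G) : Set G) := by
    rintro x (rfl | rfl | rfl)
    · exact one_mem _
    · exact ⟨hL.2, hL'.2⟩
    · exact ⟨hg, hg'⟩
  have h2 : ({1, z, g} : Set G).ncard = 3 := by
    rw [Set.ncard_insert_of_notMem, Set.ncard_pair (Ne.symm hgz)]
    rintro (e | e)
    · exact h.z_ne e.symm
    · exact hg1 e.symm
  have h3 := Set.ncard_le_ncard h1 (Set.toFinite _)
  have h4 : ((L ⊓ L' : Subgroup G) : Set G).ncard = Nat.card ↥(L ⊓ L') := rfl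
  rw [h2, h4] at h3
  have h5 : Nat.card ↥(L ⊓ L') ∣ 4 := by
    rw [← hcard L hL]; exact card_dvd_of_le inf_le_left
  have h6 : Nat.card ↥(L ⊓ L') = 4 := by
    have h7 : Nat.card ↥(L ⊓ L') ≤ 4 := Nat.le_of_dvd (by norm_num) h5
    interval_cases hn : Nat.card ↥(L ⊓ L')
    · exact absurd h5 (by norm_num)
    · rfl
  have h7 : L ⊓ L' = L := Subgroup.eq_of_le_of_card_ge inf_le_left (by rw [h6, hcard L hL])
  have h8 : L ⊓ L' = L' := Subgroup.eq_of_le_of_card_ge inf_le_right (by rw [h6, hcard L' hL'])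
  rw [← h7, h8]

/-- `c = 0` is impossible -/
theorem us_ne_dd (h : BTwo T V z) : us V z ≠ dd V := by
  intro heq
  have hV : us V z = V := by
    refine le_antisymm (fun d hd => ?_) ((h.V_le_dd).trans (le_of_eq heq.symm))
    rw [heq] at hd
    refine BTwo.mem_V_of_comm h hd (fun u hu => ?_)
    rw [heq] at hu
    exact h.dd_comm hu hd
  have hodd := odd_lines h.toGeoC
  -- there are three lines
  have hne : ∃ L ∈ lines V z \ {V}, ∃ L' ∈ lines V z \ {V}, L ≠ L' := by
    have h1 : (lines V z \ {V}).ncard = (lines V z).ncard - 1 :=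
      Set.ncard_sdiff_singleton_of_mem h.V_mem_lines
    have h2 : (lines V z).ncard ≠ 1 := by
      intro e
      obtain ⟨L, hL⟩ := Set.ncard_eq_one.mp e
      have hVL : V = L := by
        have := h.V_mem_lines
        rw [hL] at this
        exact this
      obtain ⟨w, hw, hwV⟩ := h.exists_w
      apply hwV
      have : ws V z ≤ V := by
        refine ws_le fun L' hL' => ?_
        rw [hL] at hL'
        rw [Set.mem_singleton_iff.mp hL', ← hVL]
      refine mem_centralizer_iff.mpr fun v hv => ?_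
      exact h.comm hv (this hw)
    obtain ⟨k, hk⟩ := hodd
    have h3 : 1 < (lines V z \ {V}).ncard := by omega
    obtain ⟨L, L', hL, hL', hLL⟩ := (Set.one_lt_ncard_iff (Set.toFinite _)).mp h3
    exact ⟨L, hL, L', hL', hLL⟩
  obtain ⟨L, ⟨hL, hLV⟩, L', ⟨hL', hLV'⟩, hLL⟩ := hne
  have hpick : ∀ L ∈ lines V z, L ≠ V → ∃ g ∈ L, g ∉ V := by
    intro L hL hLV
    by_contra hcon
    push Not at hcon
    apply hLV
    obtain ⟨⟨c, rfl⟩, -⟩ := hL
    exact Subgroup.eq_of_le_of_card_ge hcon (by rw [card_cj])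
  obtain ⟨g, hg, hgV⟩ := hpick L hL hLV
  obtain ⟨g', hg', hgV'⟩ := hpick L' hL' hLV'
  have hsq : ∀ L ∈ lines V z, ∀ g ∈ L, g * g = 1 := by
    rintro L hL g hg
    obtain ⟨⟨c, rfl⟩, -⟩ := hL
    have h1 := h.sq _ (mem_cj.mp hg)
    have e : g * g = c * (c⁻¹ * g * c * (c⁻¹ * g * c)) * c⁻¹ := by group
    rw [e, h1]; group
  have hnc : ∀ g ∈ ws V z, g ∉ V → g ∉ centralizer (V : Set G) := by
    intro g hg hgV hgc
    exact hgV (by rw [← hV]; exact ⟨hg, hgc⟩)
  have hgw := le_ws hL hg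
  have hgw' := le_ws hL' hg'
  have h1 : g * g' ∈ V := by
    rw [← hV]
    exact h.us_two hgw (hnc g hgw hgV) hgw' (hnc g' hgw' hgV')
  set v := g * g' with hv
  have hgg := hsq L hL g hg
  have hgg' := hsq L' hL' g' hg'
  have e1 : g' = g * v := by rw [hv, ← mul_assoc, hgg, one_mul]
  have hgne : ∀ g : G, g ∉ V → g ≠ 1 ∧ g ≠ z := fun g hg =>
    ⟨fun e => hg (e ▸ one_mem _), fun e => hg (e ▸ h.z_mem)⟩
  have hv1 : v ≠ 1 := by
    intro e
    rw [e, mul_one] at e1
    exact hLL (eq_of_mem_lines h.toGeoC hL hL' hg (e1 ▸ hg') (hgne g hgV).1 (hgne g hgV).2)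
  have hvz : v ≠ z := by
    intro e
    rw [e] at e1
    exact hLL (eq_of_mem_lines h.toGeoC hL hL' (e1 ▸ mul_mem hg hL.2) hg' (hgne g' hgV').1
      (hgne g' hgV').2)
  have h2 := h.w_move hgw (hnc g hgw hgV) h1 hv1 hvz
  rw [e1] at hgg'
  have e2 : g * v * (g * v) = (g * v * g⁻¹) * (g * g) * v := by group
  rw [e2, hgg, h2, mul_one, mul_assoc, h.sq v h1, mul_one] at hgg'
  exact h.z_ne hgg'

/-! ### orders -/

theorem relIndex_us (h : BTwo T V z) : (us V z).relIndex (ws V z) = 2 := by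
  rw [relIndex_eq_two_iff]
  obtain ⟨w, hw, hwV⟩ := h.exists_w
  refine ⟨w, hw, fun b hb => ?_⟩
  by_cases hbV : b ∈ centralizer (V : Set G)
  · right
    refine ⟨⟨hb, hbV⟩, fun h1 => hwV ?_⟩
    have e : w = b⁻¹ * (b * w) := by group
    rw [e]
    exact mul_mem (inv_mem hbV) h1.2
  · left
    exact ⟨h.us_two hb hbV hw hwV, fun h1 => hbV h1.2⟩

theorem card_ws (h : BTwo T V z) : Nat.card (ws V z) = 2 * Nat.card (us V z) := by
  rw [← Block.card_mul_relIndex' (us_le_ws V z), relIndex_us h, mul_comm]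

/-- `dd V^⊥` -/
def es (V : Subgroup G) (p : G) : Subgroup G := us V p ⊓ centralizer (dd V : Set G)

theorem es_le_us (V : Subgroup G) (p : G) : es V p ≤ us V p := inf_le_left

theorem ws_cases (h : BTwo T V z) {a b : G} (ha : a ∈ ws V z) (hb : b ∈ ws V z) :
    a * b = b * a ∨ a * b = z * (b * a) := h.comm_cases ha (h.ws_le_o2 hb)

theorem z_ws (h : BTwo T V z) {a : G} (ha : a ∈ ws V z) : z * a = a * z :=
  (h.z_comm (h.ws_le_centralizer ha)).symm

theorem es_eq (h : BTwo T V z) : es V z = ws V z ⊓ centralizer (dd V : Set G) := by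
  refine le_antisymm (fun x hx => ⟨hx.1.1, hx.2⟩) (fun x hx => ⟨⟨hx.1, ?_⟩, hx.2⟩)
  exact mem_centralizer_iff.mpr fun v hv => mem_centralizer_iff.mp hx.2 v (h.V_le_dd hv)

theorem card_zpowers (h : GeoC T V z) : Nat.card (zpowers z) = 2 := by
  rw [Nat.card_zpowers]
  exact orderOf_eq_prime (by rw [pow_two]; exact h.zz) h.z_ne

theorem dd_inf_centralizer (h : BTwo T V z) : dd V ⊓ centralizer (ws V z : Set G) = zpowers z := by
  refine le_antisymm (fun d hd => ?_) (fun d hd => ?_)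
  · exact mem_zpowers_of_comm h hd.1 (fun w hw => mem_centralizer_iff.mp hd.2 w hw)
  · refine ⟨zpowers_le_dd h h.z_mem hd, mem_centralizer_iff.mpr fun w hw => ?_⟩
    rcases (mem_zpowers_iff_of_mul_self h.zz).mp hd with rfl | rfl
    · simp
    · exact (z_ws h hw).symm

/-- `|es V z| |dd V| = |us V z| |V|` -/
theorem card_es (h : BTwo T V z) :
    Nat.card (es V z) * Nat.card (dd V) = Nat.card (us V z) * 4 := by
  have hd := h.dd_le_ws h.z_mem h.z_ne
  have h1 := pairing h.zz h.z_ne (fun a ha => z_ws h ha) (fun b hb => z_ws h (hd hb))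
    (fun a ha b hb => ws_cases h ha (hd hb)) (B := dd V)
  rw [← es_eq h, dd_inf_centralizer h, card_zpowers h.toGeoC, card_ws h] at h1
  rw [h1]; ring

theorem dd_le_es (h : BTwo T V z) : dd V ≤ es V z := fun _ hd =>
  ⟨h.dd_le_us h.z_mem h.z_ne hd, mem_centralizer_iff.mpr fun _ hx => h.dd_comm hx hd⟩

/-- An element of `es V z` commuting with `es V z` is in `dd V * Z(ws V z)`. -/
theorem exists_central (h : BTwo T V z) {x : G} (hx : x ∈ es V z) (hc : ∀ y ∈ es V z, x * y = y * x) :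
    ∃ d ∈ dd V, ∀ w ∈ ws V z, w * (x * d) = (x * d) * w := by
  have hd := h.dd_le_ws h.z_mem h.z_ne
  have h1 := perp_perp h.zz h.z_ne (fun a ha => z_ws h ha) hd
    (fun a ha b hb => ws_cases h ha hb)
  rw [← es_eq h] at h1
  have h2 : x ∈ dd V ⊔ (ws V z ⊓ centralizer (ws V z : Set G)) := by
    rw [← h1]
    exact ⟨hx.1.1, mem_centralizer_iff.mpr fun y hy => (hc y hy).symm⟩
  have h5 : dd V ≤ normalizer ((ws V z ⊓ centralizer (ws V z : Set G) : Subgroup G) : Set G) := by
    refine le_normalizer_of_forall fun b hb x hx => ?_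
    rw [mem_centralizer_iff.mp hx.2 b (hd hb), mul_inv_cancel_right]
    exact hx
  rw [← SetLike.mem_coe, coe_mul_of_left_le_normalizer_right _ _ h5] at h2
  obtain ⟨d, hd', c, hc', hdc⟩ := h2
  have hdc' : d * c = x := hdc
  have hdc2 : d * c = c * d := mem_centralizer_iff.mp hc'.2 d (hd hd')
  refine ⟨d, hd', fun w hw => ?_⟩
  have e : x * d = c := by rw [← hdc', hdc2, mul_assoc, h.dd_sq hd', mul_one]
  rw [e]
  exact mem_centralizer_iff.mp hc'.2 w hw

/-- the centre of `ws V z` lies in `es V z` and commutes with it -/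
theorem center_le_es (h : BTwo T V z) : ws V z ⊓ centralizer (ws V z : Set G) ≤ es V z := by
  rw [es_eq h]
  exact fun x hx => ⟨hx.1, mem_centralizer_iff.mpr fun y hy =>
    mem_centralizer_iff.mp hx.2 y (h.dd_le_ws h.z_mem h.z_ne hy)⟩

theorem center_inf_dd (h : BTwo T V z) :
    (ws V z ⊓ centralizer (ws V z : Set G)) ⊓ dd V = zpowers z := by
  rw [← dd_inf_centralizer h]
  refine le_antisymm (fun x hx => ⟨hx.2, hx.1.2⟩) (fun x hx => ⟨⟨?_, hx.2⟩, hx.1⟩)
  exact h.dd_le_ws h.z_mem h.z_ne hx.1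

/-! ### `C_G(xx V) = 1` -/

theorem normalizer_le_normalizer_xx (V : Subgroup G) :
    normalizer (V : Set G) ≤ normalizer ((xx V : Subgroup G) : Set G) := by
  have key : ∀ g ∈ normalizer (V : Set G), cj g (xx V) ≤ xx V := by
    intro g hg
    rw [cj_le_iff]
    refine iSup_le fun p => ?_
    rw [← cj_le_iff, cj_ws]
    refine ws_le_xx ((mem_normalizer_iff.mp hg p).mp p.2.1) (fun e => p.2.2 ?_)
    have : (p : G) = g⁻¹ * (g * p * g⁻¹) * g := by group
    rw [this, e]; group
  intro g hg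
  rw [mem_normalizer_iff_cj]
  refine le_antisymm (key g hg) ?_
  have := key g⁻¹ (inv_mem hg)
  rwa [cj_le_iff, inv_inv] at this

theorem normalizer_le_normalizer_rr (V : Subgroup G) :
    normalizer (V : Set G) ≤ normalizer ((rr V : Subgroup G) : Set G) := by
  have key : ∀ g ∈ normalizer (V : Set G), cj g (rr V) ≤ rr V := by
    intro g hg
    rw [cj_le_iff]
    refine iSup_le fun p => ?_
    rw [← cj_le_iff, cj_us hg]
    refine us_le_rr ((mem_normalizer_iff.mp hg p).mp p.2.1) (fun e => p.2.2 ?_)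
    have : (p : G) = g⁻¹ * (g * p * g⁻¹) * g := by group
    rw [this, e]; group
  intro g hg
  rw [mem_normalizer_iff_cj]
  refine le_antisymm (key g hg) ?_
  have := key g⁻¹ (inv_mem hg)
  rwa [cj_le_iff, inv_inv] at this

theorem isTwoLocal_normalizer (h : GeoC T V z) : IsTwoLocal (normalizer (V : Set G)) := by
  refine ⟨V, h.two.to_le h.V_le, ?_, rfl⟩
  intro e
  have := h.card_V
  rw [e] at this
  simp at this

/-- `C_G(xx V) = 1` -/
theorem centralizer_xx (h : BTwo T V z) : centralizer (xx V : Set G) = ⊥ := by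
  set N := normalizer (V : Set G) with hN
  set X := centralizer (xx V : Set G) with hX
  have hVx : V ≤ xx V := (h.V_le_ws).trans (ws_le_xx h.z_mem h.z_ne)
  have hXN : X ≤ N := by
    refine le_trans ?_ (centralizer_le_normalizer (V : Set G))
    exact centralizer_le hVx
  have hoT : o2 N ≤ T := o2_le_of_sylow h.T_norm h.two h.T_syl'
  have hTX : T ⊓ X = ⊥ := BTwo.T_inf_centralizer_xx h
  have hXn : ∀ g ∈ N, ∀ x ∈ X, g * x * g⁻¹ ∈ X := by
    intro g hg x hx
    refine mem_centralizer_iff.mpr fun y hy => ?_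
    have h3 := conj_mem_of_normalizer' (normalizer_le_normalizer_xx V) hg hy
    have h4 := mem_centralizer_iff.mp hx _ h3
    calc y * (g * x * g⁻¹) = g * (g⁻¹ * y * g * x) * g⁻¹ := by group
      _ = g * (x * (g⁻¹ * y * g)) * g⁻¹ := by rw [h4]
      _ = g * x * g⁻¹ * y := by group
  rw [eq_bot_iff]
  intro x hx
  have h1 : x ∈ centralizer (o2 N : Set G) := by
    refine mem_centralizer_iff.mpr fun g hg => ?_
    have hg' : g ∈ o2 N := hg
    have h2 : g * x * g⁻¹ * x⁻¹ ∈ T ⊓ X := by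
      refine mem_inf.mpr ⟨?_, mul_mem (hXn g (ZN.o2_le N hg') x hx) (inv_mem hx)⟩
      have e : g * x * g⁻¹ * x⁻¹ = g * (x * g⁻¹ * x⁻¹) := by group
      rw [e]
      exact mul_mem (hoT hg') (hoT (conj_mem_of_normalizer (ZN.le_normalizer_o2 N) (hXN hx)
        (inv_mem hg')))
    rw [hTX, mem_bot] at h2
    calc g * x = (g * x * g⁻¹ * x⁻¹) * (x * g) := by group
      _ = x * g := by rw [h2, one_mul]
  have h2 := inf_centralizer_o2_le h.charTwo (isTwoLocal_normalizer h.toGeoC) ⟨hXN hx, h1⟩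
  rw [← hTX]
  exact ⟨hoT h2, hx⟩

/-! ### (g4) -/

/-- Two noncommuting mutually normalizing lines meet in a point `x`, and `[L, L'] = ⟨x⟩`. -/
theorem inter_line (h : GeoC T V z) {g g' : G} (hn : cj g V ≤ normalizer ((cj g' V : Subgroup G) : Set G))
    (hn' : cj g' V ≤ normalizer ((cj g V : Subgroup G) : Set G))
    (hne : ¬ cj g V ≤ centralizer ((cj g' V : Subgroup G) : Set G)) :
    ∃ x ∈ cj g V, x ∈ cj g' V ∧ x ≠ 1 ∧ cj g V ⊓ cj g' V = zpowers x ∧
      ∀ a ∈ cj g V, ∀ b ∈ cj g' V, a * b * a⁻¹ * b⁻¹ ∈ zpowers x := by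
  set L := cj g V with hL
  set L' := cj g' V with hL'
  have hI : ∀ a ∈ L, ∀ b ∈ L', a * b * a⁻¹ * b⁻¹ ∈ L ⊓ L' := by
    intro a ha b hb
    refine mem_inf.mpr ⟨?_, mul_mem (conj_mem_of_normalizer hn ha hb) (inv_mem hb)⟩
    have e : a * b * a⁻¹ * b⁻¹ = a * (b * a⁻¹ * b⁻¹) := by group
    rw [e]
    exact mul_mem ha (conj_mem_of_normalizer hn' hb (inv_mem ha))
  have hex : ∃ a ∈ L, ∃ b ∈ L', a * b * a⁻¹ * b⁻¹ ≠ 1 := by
    by_contra hcon
    push Not at hcon
    apply hne
    intro a ha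
    refine mem_centralizer_iff.mpr fun b hb => ?_
    have := hcon a ha b hb
    calc b * a = (a * b * a⁻¹ * b⁻¹) * (b * a) := by rw [this, one_mul]
      _ = a * b := by group
  obtain ⟨a, ha, b, hb, hab⟩ := hex
  have hx := hI a ha b hb
  set x := a * b * a⁻¹ * b⁻¹ with hxdef
  have hcL : Nat.card L = 4 := by rw [hL, card_cj, h.card_V]
  have hcL' : Nat.card L' = 4 := by rw [hL', card_cj, h.card_V]
  have hxx : x * x = 1 := by
    have h1 := h.sq _ (mem_cj.mp hx.1)
    have e : x * x = g * (g⁻¹ * x * g * (g⁻¹ * x * g)) * g⁻¹ := by group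
    rw [e, h1]; group
  have hI2 : L ⊓ L' = zpowers x := by
    symm
    have hle : zpowers x ≤ L ⊓ L' := (zpowers_le).mpr hx
    have h1 : Nat.card (zpowers x) = 2 := by
      rw [Nat.card_zpowers]
      exact orderOf_eq_prime (by rw [pow_two]; exact hxx) hab
    have h2 : Nat.card ↥(L ⊓ L') ∣ 4 := by rw [← hcL]; exact card_dvd_of_le inf_le_left
    have h3 : Nat.card ↥(L ⊓ L') ≠ 4 := by
      intro h4
      have e1 : L ⊓ L' = L := Subgroup.eq_of_le_of_card_ge inf_le_left (by rw [h4, hcL])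
      have e2 : L ⊓ L' = L' := Subgroup.eq_of_le_of_card_ge inf_le_right (by rw [h4, hcL'])
      have e3 : L = L' := by rw [← e1, e2]
      apply hne
      intro u hu
      refine mem_centralizer_iff.mpr fun v hv => ?_
      have hv' : v ∈ L := by rw [e3]; exact hv
      have h5 := h.comm (mem_cj.mp hv') (mem_cj.mp hu)
      calc v * u = g * (g⁻¹ * v * g * (g⁻¹ * u * g)) * g⁻¹ := by group
        _ = g * (g⁻¹ * u * g * (g⁻¹ * v * g)) * g⁻¹ := by rw [h5]
        _ = u * v := by group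
    have h4 : Nat.card ↥(L ⊓ L') ≤ 2 := by
      have h5 : Nat.card ↥(L ⊓ L') ≤ 4 := Nat.le_of_dvd (by norm_num) h2
      interval_cases hn : Nat.card ↥(L ⊓ L')
      · norm_num
      · norm_num
      · norm_num
      · exact absurd h2 (by norm_num)
      · exact absurd rfl h3
    exact Subgroup.eq_of_le_of_card_ge hle (by rw [h1]; exact h4)
  refine ⟨x, hx.1, hx.2, hab, hI2, fun a' ha' b' hb' => ?_⟩
  rw [← hI2]
  exact hI a' ha' b' hb'

end Cfsg.Agent.OddCyclic.BTwoD
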