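import Cfsg.Agent.OddCyclic.BTwoD
import Cfsg.Agent.OddCyclic.BTwoRep
import Cfsg.Agent.OddCyclic.CycConj
import Cfsg.Agent.OddCyclic.BTwoLin.Rep
import Cfsg.Agent.OddCyclic.BTwoLin.Three
import Cfsg.Agent.OddCyclic.BTwoLin.EightMod

/-!
# (E1), `b = 2`: the `³D₄(2)`-shape is impossible

blueprints/S0342-Ba-helper208.md, section 5.  `Eight T V z`: the module `ws V z / ⟨z⟩` has order `2 ^ 8`, there are nine
lines through `z`, no two of which commute, and `|dd V| = 2 ^ 5`.
-/

set_option autoImplicit false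
set_option linter.dupNamespace false
set_option linter.unusedSectionVars false

namespace Cfsg.Agent.OddCyclic.BTwoEight

open Subgroup Cfsg Cfsg.Agent.ZN Cfsg.Agent.MinSimple.Geo Cfsg.Agent.OddCyclic.GeoC
  Cfsg.Agent.OddCyclic.BTwoA Cfsg.Agent.OddCyclic.BTwoB Cfsg.Agent.OddCyclic.BTwoC Cfsg.Agent.OddCyclic.BTwoD
  Cfsg.Agent.OddCyclic.BTwoRep
open Cfsg.Agent.OddCyclic.BTwoLin.Rep
open Cfsg.Agent.OddCyclic.BTwoLin
open Cfsg.Agent.ZN.Block (conj_mem_of_normalizer conj_mem_of_normalizer' le_normalizer_of_forall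
  mem_normalizer_of)

universe u

variable {G : Type u} [Group G] {T V : Subgroup G} {z : G}

/-- The `³D₄(2)`-shape. -/
structure Eight (T V : Subgroup G) (z : G) : Prop extends BTwo T V z where
  card_ws : Nat.card (ws V z) = 2 ^ 9
  card_dd : Nat.card (dd V) = 2 ^ 5
  card_lines : (lines V z).ncard = 9
  /-- different lines do not commute -/
  nc : ∀ L ∈ lines V z, ∀ L' ∈ lines V z, L ≠ L' → ∀ a ∈ L, a ≠ 1 → a ≠ z → ∀ b ∈ L', b ≠ 1 → b ≠ z → a * b ≠ b * a
  /-- involutions commuting with elements of order three -/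
  inv : ∀ x ∈ centralizer ({z} : Set G), orderOf x = 3 → ∀ t ∈ centralizer ({z} : Set G), t * t = 1 →
    t * x = x * t → t ∈ kq V z

namespace Eight

variable [Finite G]

/-! ### `dd V` is a maximal isotropic subgroup -/

theorem es_eq_dd (h : Eight T V z) : es V z = dd V := by
  have h1 := card_es h.toBTwo
  have h2 := BTwoD.card_ws h.toBTwo
  rw [h.card_ws] at h2
  rw [h.card_dd] at h1
  refine (Subgroup.eq_of_le_of_card_ge (dd_le_es h.toBTwo) ?_).symm
  rw [h.card_dd]
  omega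

theorem mem_dd_of_comm (h : Eight T V z) {w : G} (hw : w ∈ ws V z) (hc : ∀ d ∈ dd V, w * d = d * w) : w ∈ dd V := by
  rw [← h.es_eq_dd, es_eq h.toBTwo]
  exact ⟨hw, mem_centralizer_iff.mpr fun d hd => (hc d hd).symm⟩

/-- the elements of the line `L` -/
theorem line_cases (h : Eight T V z) {L : Subgroup G} (hL : L ∈ lines V z) {u v : G} (hu : u ∈ L) (hu1 : u ≠ 1)
    (huz : u ≠ z) (hv : v ∈ L) : v = 1 ∨ v = z ∨ v = u ∨ v = z * u := by
  obtain ⟨T', h'⟩ := BTwoK.BTwo.line h.toBTwo hL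
  exact h'.four h'.z_mem hu h'.z_ne hu1 (Ne.symm huz) hv

theorem zs_comm (h : Eight T V z) {w : G} (hw : w ∈ ws V z) : w * z = z * w := h.z_comm (h.ws_le_centralizer hw)

theorem line_sq (h : Eight T V z) {L : Subgroup G} (hL : L ∈ lines V z) {u : G} (hu : u ∈ L) : u * u = 1 := by
  obtain ⟨T', h'⟩ := BTwoK.BTwo.line h.toBTwo hL
  exact h'.sq u hu

/-- **`C_{C_G(z)}(dd V / ⟨z⟩) ≤ kq V z`** -/
theorem mem_kq_of_dd (h : Eight T V z) {t : G} (ht : t ∈ centralizer ({z} : Set G))
    (hd : ∀ d ∈ dd V, t * d * t⁻¹ * d⁻¹ ∈ zpowers z) : t ∈ kq V z := by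
  set s := sec h.toBTwo with hs
  have hform := BTwoLin.Rep.form s h.z_ne
  have hzdd : z ∈ dd V := h.V_le_dd h.z_mem
  have hddws : ∀ d ∈ dd V, d ∈ ws V z := fun d hd => h.dd_le_ws h.z_mem h.z_ne hd
  -- `[t, w] ∈ dd V`
  have key : ∀ w ∈ ws V z, t * w * t⁻¹ * w⁻¹ ∈ dd V := by
    intro w hw
    have htw : t * w * t⁻¹ ∈ ws V z := s.CN t ht w hw
    have hcw : t * w * t⁻¹ * w⁻¹ ∈ ws V z := mul_mem htw (inv_mem hw)
    refine h.mem_dd_of_comm hcw fun d hd' => ?_
    have hdw := hddws d hd'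
    rw [← ff_cl_eq_zero (s := s) hcw hdw, cl_mul htw (inv_mem hw), cl_inv hw, hform.f_mul]
    have e1 : (cl s w hw)⁻¹ = cl s w hw := by
      rw [inv_eq_iff_mul_eq_one]; exact BTwoLin.Rep.mul_self _
    have e2 : cl s d hdw = rho s (im s t ht) (cl s d hdw) := by
      rw [rho_im ht hdw, cl_eq]
      have h1 := hd d hd'
      have h2 : d⁻¹ * (t * d * t⁻¹) = d⁻¹ * (t * d * t⁻¹ * d⁻¹) * d⁻¹⁻¹ := by group
      rw [h2, zpowers_conj (h.ws_le_centralizer (inv_mem hdw)) h1]
      exact h1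
    rw [e1, e2, ← rho_im ht hw, hform.f_inv, ← e2]
    exact CharTwo.add_self_eq_zero _
  -- the subgroup of the elements with `[t, w] ∈ ⟨z⟩`
  let A : Subgroup G :=
    { carrier := {w | w ∈ ws V z ∧ t * w * t⁻¹ * w⁻¹ ∈ zpowers z}
      mul_mem' := by
        rintro a b ⟨ha, ha1⟩ ⟨hb, hb1⟩
        refine ⟨mul_mem ha hb, ?_⟩
        have e : t * (a * b) * t⁻¹ * (a * b)⁻¹ =
            (t * a * t⁻¹ * a⁻¹) * (a * (t * b * t⁻¹ * b⁻¹) * a⁻¹) := by group
        rw [e, zpowers_conj (h.ws_le_centralizer ha) hb1]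
        exact mul_mem ha1 hb1
      one_mem' := ⟨one_mem _, by simp⟩
      inv_mem' := by
        rintro a ⟨ha, ha1⟩
        refine ⟨inv_mem ha, ?_⟩
        have h1 := inv_mem ha1
        have h2 := zpowers_conj (h.ws_le_centralizer (inv_mem ha)) h1
        have e : t * a⁻¹ * t⁻¹ * a⁻¹⁻¹ = a⁻¹ * (t * a * t⁻¹ * a⁻¹)⁻¹ * a⁻¹⁻¹ := by group
        rw [e, h2]; exact h1 }
  have hA : ws V z ≤ A := by
    refine ws_le fun L hL u hu => ?_
    have huw : u ∈ ws V z := le_ws hL hu
    refine ⟨huw, ?_⟩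
    by_cases hu1 : u = 1
    · rw [hu1]; simp
    by_cases huz : u = z
    · rw [huz, h.z_comm ht]
      simp
    have htu1 : t * u * t⁻¹ ≠ 1 := fun e => hu1 (by
      have : u = t⁻¹ * (t * u * t⁻¹) * t := by group
      rw [this, e]; group)
    have htuz : t * u * t⁻¹ ≠ z := fun e => huz (by
      have : u = t⁻¹ * (t * u * t⁻¹) * t := by group
      rw [this, e, mul_assoc, ← h.z_comm ht]; group)
    have hL' : cj t L ∈ lines V z := by
      have := mem_lines_cj (g := t) hL
      rwa [show t * z * t⁻¹ = z by rw [h.z_comm ht]; group] at this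
    have htu : t * u * t⁻¹ ∈ cj t L := conj_mem_cj hu
    have hc := key u huw
    have hcc := h.dd_sq hc
    have huu := h.line_sq hL hu
    have hcomm : (t * u * t⁻¹) * u = u * (t * u * t⁻¹) := by
      have e1 : (t * u * t⁻¹) * (t * u * t⁻¹) = 1 := by
        have : (t * u * t⁻¹) * (t * u * t⁻¹) = t * (u * u) * t⁻¹ := by group
        rw [this, huu]; group
      have e2 : u⁻¹ = u := inv_eq_self huu
      rw [e2] at hcc
      have e3 : ((t * u * t⁻¹) * u)⁻¹ = (t * u * t⁻¹) * u := inv_eq_self hcc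
      rw [← e3, mul_inv_rev, e2, inv_eq_self e1]
    have hLL : cj t L = L := by
      by_contra hne
      exact h.nc _ hL' _ hL hne _ htu htu1 htuz _ hu hu1 huz hcomm
    rw [hLL] at htu
    rcases h.line_cases hL hu hu1 huz htu with e | e | e | e
    · exact absurd e htu1
    · exact absurd e htuz
    · rw [e, mul_inv_cancel]; exact one_mem _
    · rw [e, mul_inv_cancel_right]; exact mem_zpowers z
  rw [← rep_eq_one_iff h.toBTwo ht, Cfsg.Agent.MinSimple.Sec.Mod.rep_eq_one]
  intro w hw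
  exact (hA hw).2

/-! ### `C_G(ws V z) = ⟨z⟩` -/

theorem centralizer_ws_point (h : Eight T V z) {q x : G} (hq : q ∈ V) (hq1 : q ≠ 1) (hqz : q ≠ z)
    (hx : x ∈ centralizer (ws V q : Set G)) : x ∈ zpowers q := by
  obtain ⟨Tq, hBq⟩ := h.point hq hq1
  have hVq : V ≤ ws V q := hBq.V_le_ws
  have hqq : q * q = 1 := h.sq q hq
  have hxw : ∀ w ∈ ws V q, w * x = x * w := fun w hw => mem_centralizer_iff.mp hx w hw
  have hxC : x ∈ centralizer ({z} : Set G) := by
    rw [mem_centralizer_singleton_iff]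
    exact (hxw z (hVq h.z_mem)).symm
  have hxk : x ∈ kq V z := by
    refine h.mem_kq_of_dd hxC fun d hd => ?_
    rw [← hxw d (h.dd_le_ws hq hq1 hd), mul_inv_cancel_right, mul_inv_cancel]
    exact one_mem _
  obtain ⟨w0, hw0, hw0V⟩ := h.exists_w
  have hmove : w0 * q * w0⁻¹ = z * q := h.w_move hw0 hw0V hq hq1 hqz
  have hzz := h.zz
  have hzx : x * z = z * x := mem_centralizer_singleton_iff.mp hxC
  -- an element of `x⟨q⟩` commuting with `w0`
  have main : ∀ y : G, (∀ w ∈ ws V q, w * y = y * w) → w0 * y * w0⁻¹ = y → y = 1 := by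
    intro y hy hy0
    have hy1 : ∀ w ∈ ws V (z * q), w * y = y * w := by
      intro w hw
      have hw' : w0⁻¹ * w * w0 ∈ ws V q := by
        rw [← hmove, ← cj_ws] at hw
        exact mem_cj.mp hw
      have h1 := hy _ hw'
      calc w * y = w0 * ((w0⁻¹ * w * w0) * (w0⁻¹ * y * w0)) * w0⁻¹ := by group
        _ = w0 * ((w0⁻¹ * w * w0) * y) * w0⁻¹ := by
          have : w0⁻¹ * y * w0 = y := by
            calc w0⁻¹ * y * w0 = w0⁻¹ * (w0 * y * w0⁻¹) * w0 := by rw [hy0]
              _ = y := by group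
          rw [this]
        _ = w0 * (y * (w0⁻¹ * w * w0)) * w0⁻¹ := by rw [h1]
        _ = (w0 * y * w0⁻¹) * w := by group
        _ = y * w := by rw [hy0]
    have hy2 : ∀ w ∈ ws V z, w * y = y * w := by
      obtain ⟨w1, hw1, e1, e2⟩ := BTwoK.BTwo.exists_move h.toBTwo h.z_mem (mul_mem h.z_mem hq) h.z_ne
        (fun e => hqz (by rw [← h.inv_eq h.z_mem]; exact (inv_eq_of_mul_eq_one_right e).symm))
        (fun e => hq1 (mul_left_cancel ((e.symm).trans (mul_one z).symm)))
      have e3 : z * (z * q) = q := by rw [← mul_assoc, hzz, one_mul]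
      rw [e3] at hw1
      intro w hw
      have hw' : w1 * w * w1⁻¹ ∈ ws V (z * q) := by
        rw [← e1]; exact conj_mem_ws hw
      have h1 := hy1 _ hw'
      have h2 := hy _ hw1
      calc w * y = w1⁻¹ * ((w1 * w * w1⁻¹) * (w1 * y * w1⁻¹)) * w1 := by group
        _ = w1⁻¹ * ((w1 * w * w1⁻¹) * y) * w1 := by rw [h2]; group
        _ = w1⁻¹ * (y * (w1 * w * w1⁻¹)) * w1 := by rw [h1]
        _ = w1⁻¹ * ((w1 * y * w1⁻¹) * (w1 * w * w1⁻¹)) * w1 := by rw [h2]; group
        _ = y * w := by group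
    have hy3 : y ∈ centralizer (xx V : Set G) := by
      have : xx V ≤ centralizer ({y} : Set G) := by
        refine iSup_le fun p => ?_
        intro w hw
        rw [mem_centralizer_singleton_iff]
        have hp := p.2.1
        have hp1 := p.2.2
        rcases h.four h.z_mem hq h.z_ne hq1 (Ne.symm hqz) hp with e | e | e | e
        · exact absurd e hp1
        · rw [e] at hw; exact hy2 w hw
        · rw [e] at hw; exact hy w hw
        · rw [e] at hw; exact hy1 w hw
      refine mem_centralizer_iff.mpr fun w hw => ?_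
      exact mem_centralizer_singleton_iff.mp (this hw)
    rw [centralizer_xx h.toBTwo, mem_bot] at hy3
    exact hy3
  have hcomm := (mem_kq.mp hxk).2.1 w0 hw0
  rcases (mem_zpowers_iff_of_mul_self hzz).mp hcomm with e | e
  · have h1 : w0 * x * w0⁻¹ = x := by
      have h2 : x * w0 * x⁻¹ = w0 := by
        calc x * w0 * x⁻¹ = (x * w0 * x⁻¹ * w0⁻¹) * w0 := by group
          _ = w0 := by rw [e, one_mul]
      calc w0 * x * w0⁻¹ = (x * w0 * x⁻¹) * x * w0⁻¹ := by rw [h2]
        _ = x := by group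
    rw [main x hxw h1]
    exact one_mem _
  · have h1 : w0 * (x * q) * w0⁻¹ = x * q := by
      have h2 : x * w0 * x⁻¹ = z * w0 := by
        calc x * w0 * x⁻¹ = (x * w0 * x⁻¹ * w0⁻¹) * w0 := by group
          _ = z * w0 := by rw [e]
      have h3 : w0 * x * w0⁻¹ = z * x := by
        have h4 : z * (w0 * x * w0⁻¹) = x := by
          calc z * (w0 * x * w0⁻¹) = (z * w0) * x * w0⁻¹ := by group
            _ = (x * w0 * x⁻¹) * x * w0⁻¹ := by rw [h2]
            _ = x := by group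
        calc w0 * x * w0⁻¹ = (z * z) * (w0 * x * w0⁻¹) := by rw [hzz, one_mul]
          _ = z * (z * (w0 * x * w0⁻¹)) := by group
          _ = z * x := by rw [h4]
      calc w0 * (x * q) * w0⁻¹ = (w0 * x * w0⁻¹) * (w0 * q * w0⁻¹) := by group
        _ = (z * x) * (z * q) := by rw [h3, hmove]
        _ = z * (x * z) * q := by group
        _ = (z * z) * (x * q) := by rw [hzx]; group
        _ = x * q := by rw [hzz, one_mul]
    have hxq : ∀ w ∈ ws V q, w * (x * q) = x * q * w := by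
      intro w hw
      have h2 : w * q = q * w := hBq.z_comm (hBq.ws_le_centralizer hw)
      calc w * (x * q) = (w * x) * q := by group
        _ = x * (w * q) := by rw [hxw w hw]; group
        _ = x * q * w := by rw [h2]; group
    have h2 := main _ hxq h1
    have h3 : x = q := by
      calc x = (x * q) * q := by rw [mul_assoc, hqq, mul_one]
        _ = q := by rw [h2, one_mul]
    rw [h3]
    exact mem_zpowers q

theorem centralizer_ws (h : Eight T V z) {x : G} (hx : x ∈ centralizer (ws V z : Set G)) : x ∈ zpowers z := by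
  obtain ⟨q, hq, hq1, hqz⟩ := h.exists_y
  obtain ⟨g, hg, hgq⟩ := h.trans q hq hq1
  have h1 : g * x * g⁻¹ ∈ centralizer (ws V q : Set G) := by
    refine mem_centralizer_iff.mpr fun w hw => ?_
    have hw' : g⁻¹ * w * g ∈ ws V z := by
      rw [← hgq, ← cj_ws] at hw
      exact mem_cj.mp hw
    have h2 := mem_centralizer_iff.mp hx _ hw'
    calc w * (g * x * g⁻¹) = g * ((g⁻¹ * w * g) * x) * g⁻¹ := by group
      _ = g * (x * (g⁻¹ * w * g)) * g⁻¹ := by rw [h2]
      _ = g * x * g⁻¹ * w := by group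
  have h2 := h.centralizer_ws_point hq hq1 hqz h1
  rcases (mem_zpowers_iff_of_mul_self (h.sq q hq)).mp h2 with e | e
  · have : x = 1 := by
      calc x = g⁻¹ * (g * x * g⁻¹) * g := by group
        _ = 1 := by rw [e]; group
    rw [this]; exact one_mem _
  · have : x = z := by
      calc x = g⁻¹ * (g * x * g⁻¹) * g := by group
        _ = z := by rw [e, ← hgq]; group
    rw [this]; exact mem_zpowers z

/-! ### `O₂(C_G(z)) = ws V z` -/

theorem z_mem_ws (h : Eight T V z) : z ∈ ws V z := h.V_le_ws h.z_mem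

theorem o2_eq (h : Eight T V z) : o2 (centralizer ({z} : Set G)) = ws V z := by
  have hQC : ∀ g ∈ o2 (centralizer ({z} : Set G)), g ∈ centralizer ({z} : Set G) := fun g hg => h.T_le (h.o2_le_T hg)
  have hzQ : ∀ a ∈ o2 (centralizer ({z} : Set G)), z * a = a * z := fun a ha => (h.z_comm (hQC a ha)).symm
  have hzW : ∀ b ∈ ws V z, z * b = b * z := fun b hb => z_ws h.toBTwo hb
  have h1 := pairing h.zz h.z_ne hzQ hzW (fun a ha b hb => by
    rcases h.comm_cases hb ha with e | e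
    · exact Or.inl e.symm
    · right
      rw [e, ← mul_assoc, h.zz, one_mul])
  have h2 : Nat.card ↥(o2 (centralizer ({z} : Set G)) ⊓ centralizer (ws V z : Set G)) ≤ 2 := by
    rw [← card_zpowers h.toGeoC]
    exact Subgroup.card_le_of_le (fun x hx => h.centralizer_ws hx.2)
  have h3 : 2 ≤ Nat.card ↥(ws V z ⊓ centralizer (o2 (centralizer ({z} : Set G)) : Set G)) := by
    rw [← card_zpowers h.toGeoC]
    refine Subgroup.card_le_of_le (zpowers_le.2 ⟨h.z_mem_ws, ?_⟩)
    exact mem_centralizer_iff.mpr fun x hx => (hzQ x hx).symm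
  symm
  refine Subgroup.eq_of_le_of_card_ge h.ws_le_o2 ?_
  have h4 : Nat.card ↥(o2 (centralizer ({z} : Set G))) * 2 ≤ 2 * Nat.card (ws V z) :=
    calc Nat.card ↥(o2 (centralizer ({z} : Set G))) * 2 ≤ Nat.card ↥(o2 (centralizer ({z} : Set G))) *
          Nat.card ↥(ws V z ⊓ centralizer (o2 (centralizer ({z} : Set G)) : Set G)) := Nat.mul_le_mul_left _ h3
      _ = _ := h1.symm
      _ ≤ 2 * Nat.card (ws V z) := Nat.mul_le_mul_right _ h2
  omega

theorem kq_le_ws (h : Eight T V z) : kq V z ≤ ws V z := by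
  rw [← h.o2_eq]
  refine Block.le_o2 ?_ (kq_le V z) (centralizer_le_normalizer_kq V z)
  intro k
  refine ⟨2, ?_⟩
  apply Subtype.ext
  have hk := mem_kq.mp k.2
  have h1 : (k : G) * k ∈ centralizer (ws V z : Set G) := by
    refine mem_centralizer_iff.mpr fun w hw => ?_
    have h2 := hk.2.1 w hw
    have h3 := zpowers_conj hk.1 h2
    rcases (mem_zpowers_iff_of_mul_self h.zz).mp h2 with e | e
    · have h4 : (k : G) * w = w * k := by
        calc (k : G) * w = (k * w * (k : G)⁻¹ * w⁻¹) * (w * k) := by group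
          _ = w * k := by rw [e, one_mul]
      symm
      calc (k : G) * k * w = k * (k * w) := by group
        _ = k * (w * k) := by rw [h4]
        _ = (k * w) * k := by group
        _ = (w * k) * k := by rw [h4]
        _ = w * (k * k) := by group
    · have h4 : (k : G) * w = z * (w * k) := by
        calc (k : G) * w = (k * w * (k : G)⁻¹ * w⁻¹) * (w * k) := by group
          _ = _ := by rw [e]
      have h5 : (k : G) * z = z * k := h.z_comm hk.1
      symm
      calc (k : G) * k * w = k * (k * w) := by group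
        _ = (k * z) * (w * k) := by rw [h4]; group
        _ = z * (k * w) * k := by rw [h5]; group
        _ = (z * z) * (w * (k * k)) := by rw [h4]; group
        _ = w * (k * k) := by rw [h.zz, one_mul]
  have h2 := h.centralizer_ws h1
  change ((k : G)) ^ 4 = 1
  have h3 : ((k : G)) ^ 4 = (k * k) * (k * k) := by
    simp only [pow_succ, pow_zero, one_mul, mul_assoc]
  rw [h3]
  rcases (mem_zpowers_iff_of_mul_self h.zz).mp h2 with e | e
  · rw [e, one_mul]
  · rw [e, h.zz]

/-! ### the nine vectors -/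

open Classical in
theorem exists_nine (h : Eight T V z) : ∃ Ω : Finset (MM (sec h.toBTwo)),
    EightMod.Nine (rho (sec h.toBTwo)) (ff (sec h.toBTwo)) (qq (sec h.toBTwo)) Ω ∧
    ∀ v, v ∈ Ω ↔ ∃ L ∈ lines V z, ∃ u ∈ L, u ≠ 1 ∧ u ≠ z ∧ ∃ hu : u ∈ ws V z, v = cl (sec h.toBTwo) u hu := by
  set s := sec h.toBTwo with hs
  have hex : ∀ L : lines V z, ∃ u ∈ (L : Subgroup G), u ≠ 1 ∧ u ≠ z := by
    intro L
    obtain ⟨T', h'⟩ := BTwoK.BTwo.line h.toBTwo L.2
    obtain ⟨y, hy, hy1, hyz⟩ := h'.exists_y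
    exact ⟨y, hy, hy1, hyz⟩
  choose u hu hu1 huz using hex
  have huw : ∀ L, u L ∈ ws V z := fun L => le_ws L.2 (hu L)
  let φ : lines V z → MM s := fun L => cl s (u L) (huw L)
  have hφinj : Function.Injective φ := by
    intro L L' e
    have e' : cl s (u L) (huw L) = cl s (u L') (huw L') := e
    apply Subtype.ext
    rcases eq_or_of_cl (huw L) (huw L') e' with e1 | e1
    · refine eq_of_mem_lines h.toGeoC L.2 L'.2 (hu L) ?_ (hu1 L) (huz L)
      rw [← e1]; exact hu L'
    · refine eq_of_mem_lines h.toGeoC L.2 L'.2 (hu L) ?_ (hu1 L) (huz L)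
      have h1 : u L = z * u L' := by rw [e1, ← mul_assoc, h.zz, one_mul]
      rw [h1]
      exact mul_mem L'.2.2 (hu L')
  have hfin : (Set.range φ).Finite := Set.toFinite _
  refine ⟨hfin.toFinset, ?_, ?_⟩
  · have hmem : ∀ v, v ∈ hfin.toFinset ↔ ∃ L : lines V z, cl s (u L) (huw L) = v := by
      intro v
      rw [Set.Finite.mem_toFinset]
      exact Set.mem_range
    refine ⟨BTwoLin.Rep.form s h.z_ne, ?_, ?_, ?_, ?_⟩
    · rw [← Set.ncard_eq_toFinset_card _ hfin, ← Set.image_univ, Set.ncard_image_of_injective _ hφinj, Set.ncard_univ]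
      exact h.card_lines
    · have h1 := card_MM (s := s) h.z_ne
      rw [h.card_ws] at h1
      omega
    · intro v hv w hw hvw
      obtain ⟨L, rfl⟩ := (hmem v).1 hv
      obtain ⟨L', rfl⟩ := (hmem w).1 hw
      have hLL : (L : Subgroup G) ≠ L' := by
        intro e
        exact hvw (by rw [Subtype.ext e])
      have h1 := h.nc L L.2 L' L'.2 hLL (u L) (hu L) (hu1 L) (huz L) (u L') (hu L') (hu1 L') (huz L')
      rw [ff_cl, if_neg h1]
    · intro v hv
      obtain ⟨L, rfl⟩ := (hmem v).1 hv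
      rw [qq_cl_eq_zero]
      exact h.line_sq L.2 (hu L)
  · intro v
    rw [Set.Finite.mem_toFinset, Set.mem_range]
    constructor
    · rintro ⟨L, rfl⟩
      exact ⟨L, L.2, u L, hu L, hu1 L, huz L, huw L, rfl⟩
    · rintro ⟨L, hL, w, hw, hw1, hwz, hww, rfl⟩
      refine ⟨⟨L, hL⟩, ?_⟩
      change cl s (u ⟨L, hL⟩) (huw ⟨L, hL⟩) = cl s w hww
      rw [cl_eq]
      rcases h.line_cases hL (hu ⟨L, hL⟩) (hu1 _) (huz _) hw with e | e | e | e
      · exact absurd e hw1
      · exact absurd e hwz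
      · rw [e, inv_mul_cancel]; exact one_mem _
      · rw [e, ← h.zs_comm (huw ⟨L, hL⟩), inv_mul_cancel_left]
        exact mem_zpowers z

/-- **`z` is the only involution in `C_G(z) ∩ C_G(x)`, `x` of order three** -/
theorem eq_z (h : Eight T V z) {x t : G} (hx : x ∈ centralizer ({z} : Set G)) (ho : orderOf x = 3)
    (ht : t ∈ centralizer ({z} : Set G)) (htt : t * t = 1) (ht1 : t ≠ 1) (hc : t * x = x * t) : t = z := by
  classical
  have hnine := h.exists_nine
  set s := sec h.toBTwo with hs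
  obtain ⟨Ω, hΩ, hmem⟩ := hnine
  have htw : t ∈ ws V z := h.kq_le_ws (h.inv x hx ho t ht htt hc)
  have hx3 : x ^ 3 = 1 := by rw [← ho]; exact pow_orderOf_eq_one x
  have hg3 : (im s x hx) ^ 3 = 1 := by
    have h1 : im s x hx ^ 3 = im s (x ^ 3) (pow_mem hx 3) := by
      rw [← imh_apply ⟨x, hx⟩, ← map_pow]; rfl
    rw [h1]
    have h2 : im s (x ^ 3) (pow_mem hx 3) = im s 1 (one_mem _) := by
      congr 1
    rw [h2, im_one]
  have hinv : ∀ v ∈ Ω, rho s (im s x hx) v ∈ Ω := by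
    intro v hv
    obtain ⟨L, hL, u, hu, hu1, huz, huw, rfl⟩ := (hmem v).1 hv
    rw [rho_im hx huw]
    refine (hmem _).2 ⟨cj x L, ?_, x * u * x⁻¹, conj_mem_cj hu, ?_, ?_, _, rfl⟩
    · have := mem_lines_cj (g := x) hL
      rwa [show x * z * x⁻¹ = z by rw [h.z_comm hx]; group] at this
    · intro e
      exact hu1 (by
        have : u = x⁻¹ * (x * u * x⁻¹) * x := by group
        rw [this, e]; group)
    · intro e
      exact huz (by
        have : u = x⁻¹ * (x * u * x⁻¹) * x := by group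
        rw [this, e, mul_assoc, ← h.z_comm hx]; group)
  have hfree : ∀ v ∈ Ω, rho s (im s x hx) v ≠ v := by
    intro v hv
    obtain ⟨L, hL, u, hu, hu1, huz, huw, rfl⟩ := (hmem v).1 hv
    intro e
    rw [rho_im hx huw] at e
    have hzx : x * z * x⁻¹ = z := by rw [h.z_comm hx]; group
    have hux : x * u * x⁻¹ = u := by
      rcases eq_or_of_cl _ huw e with e1 | e1
      · exact e1.symm
      · exfalso
        -- `x u x⁻¹ = z u`
        have e2 : x * u * x⁻¹ = z * u := by
          calc x * u * x⁻¹ = (z * z) * (x * u * x⁻¹) := by rw [h.zz, one_mul]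
            _ = z * (z * (x * u * x⁻¹)) := by group
            _ = z * u := by rw [← e1]
        have e3 : x * (z * u) * x⁻¹ = u := by
          calc x * (z * u) * x⁻¹ = (x * z * x⁻¹) * (x * u * x⁻¹) := by group
            _ = u := by rw [hzx, e2, ← mul_assoc, h.zz, one_mul]
        have e4 : x ^ 3 * u * (x ^ 3)⁻¹ = z * u := by
          calc x ^ 3 * u * (x ^ 3)⁻¹ = x * (x * (x * u * x⁻¹) * x⁻¹) * x⁻¹ := by
                rw [pow_succ, pow_two]; group
            _ = z * u := by rw [e2, e3, e2]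
        rw [hx3] at e4
        have e5 : u = z * u := by simpa using e4
        exact h.z_ne (by
          have : z * u = 1 * u := by rw [← e5, one_mul]
          exact mul_right_cancel this)
    obtain ⟨T', h'⟩ := BTwoK.BTwo.line h.toBTwo hL
    exact BTwoLin.Three.not_three h' (BTwoLin.Three.mem_centralizer_of_comm h'.toGeoC hu hu1 huz hzx hux) ho
  have hfix : rho s (im s x hx) (cl s t htw) = cl s t htw := by
    rw [rho_im hx htw, cl_eq]
    have : x * t * x⁻¹ = t := by rw [← hc]; group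
    rw [this, inv_mul_cancel]; exact one_mem _
  have h1 := hΩ.fixed hg3 hinv hfree hfix ((qq_cl_eq_zero htw).2 htt)
  rw [cl_eq_one] at h1
  rcases (mem_zpowers_iff_of_mul_self h.zz).mp h1 with e | e
  · exact absurd e ht1
  · exact e

/-! ### an element of order three in `C_G(z)` -/

theorem nine_dvd (h : Eight T V z) : 3 ∣ Nat.card (centralizer ({z} : Set G)) := by
  set C := centralizer ({z} : Set G) with hC
  set H := (C ⊓ normalizer (V : Set G)).subgroupOf C with hH
  let f : C ⧸ H → Subgroup G := fun x => Quotient.liftOn' x (fun c : C => cj (c : G) V) (by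
    intro a b hab
    rw [QuotientGroup.leftRel_apply, mem_subgroupOf] at hab
    have h1 : ((a⁻¹ * b : C) : G) ∈ normalizer (V : Set G) := hab.2
    have h2 := cj_eq_of_mem_normalizer h1
    change cj (a : G) V = cj (b : G) V
    have e : (b : G) = a * ((a⁻¹ * b : C) : G) := by simp
    rw [e, ← cj_cj, h2])
  have hinj : Function.Injective f := by
    intro x y
    refine Quotient.inductionOn₂' x y (fun a b hab => ?_)
    have hab' : cj (a : G) V = cj (b : G) V := hab
    refine Quotient.eq''.mpr ?_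
    rw [QuotientGroup.leftRel_apply, mem_subgroupOf]
    refine ⟨(a⁻¹ * b).2, ?_⟩
    change (a : G)⁻¹ * b ∈ normalizer (V : Set G)
    rw [mem_normalizer_iff_cj, ← cj_cj, ← hab', cj_inv_cj]
  have hrange : Set.range f = lines V z := by
    ext L
    constructor
    · rintro ⟨x, rfl⟩
      refine Quotient.inductionOn' x (fun a => ?_)
      exact h.cj_mem_lines a.2
    · intro hL
      obtain ⟨c, hc, rfl⟩ := h.exists_of_mem_lines hL
      exact ⟨Quotient.mk'' ⟨c, hc⟩, rfl⟩
  have hcard : (lines V z).ncard = H.index := by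
    rw [← hrange, ← Set.image_univ, Set.ncard_image_of_injective _ hinj, Set.ncard_univ]
    rfl
  have h1 : H.index ∣ Nat.card C := H.index_dvd_card
  rw [← hcard, h.card_lines] at h1
  exact dvd_trans ⟨3, rfl⟩ h1

theorem exists_x (h : Eight T V z) : ∃ x ∈ centralizer ({z} : Set G), orderOf x = 3 := by
  have : Fact (Nat.Prime 3) := ⟨Nat.prime_three⟩
  obtain ⟨x, hx⟩ := exists_prime_orderOf_dvd_card' 3 h.nine_dvd
  exact ⟨x, x.2, by rw [Subgroup.orderOf_coe]; exact hx⟩

/-! ### the element of order three in `⟨ws V z, ws V (zq)⟩` -/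

/-- the elements of `N_G(V)` centralising `dd V / V` -/
def uu (V : Subgroup G) : Subgroup G where
  carrier := {g | g ∈ normalizer (V : Set G) ∧ ∀ d ∈ dd V, g * d * g⁻¹ * d⁻¹ ∈ V}
  mul_mem' := by
    rintro a b ⟨ha, ha1⟩ ⟨hb, hb1⟩
    refine ⟨mul_mem ha hb, fun d hd => ?_⟩
    have e : a * b * d * (a * b)⁻¹ * d⁻¹ = a * (b * d * b⁻¹ * d⁻¹) * a⁻¹ * (a * d * a⁻¹ * d⁻¹) := by group
    rw [e]
    exact mul_mem ((mem_normalizer_iff.mp ha _).mp (hb1 d hd)) (ha1 d hd)
  one_mem' := ⟨one_mem _, fun d _ => by simp⟩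
  inv_mem' := by
    rintro a ⟨ha, ha1⟩
    refine ⟨inv_mem ha, fun d hd => ?_⟩
    have e : a⁻¹ * d * a⁻¹⁻¹ * d⁻¹ = a⁻¹ * (a * d * a⁻¹ * d⁻¹)⁻¹ * a⁻¹⁻¹ := by group
    rw [e]
    exact (mem_normalizer_iff.mp (inv_mem ha) _).mp (inv_mem (ha1 d hd))

theorem ws_le_uu (h : BTwo T V z) : ws V z ≤ uu V := by
  intro w hw
  refine ⟨h.ws_le_normalizer hw, fun d hd => ?_⟩
  rcases h.dd_ws hd hw with e | e
  · rw [e, mul_inv_cancel]; exact one_mem _
  · rw [e, mul_inv_cancel_right]; exact h.z_mem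

theorem exists_y3 (h : Eight T V z) : ∃ y ∈ uu V, orderOf y = 3 := by
  obtain ⟨q, hq, hq1, hqz⟩ := h.exists_y
  have hzq : z * q ≠ 1 := fun e => hqz (by rw [← h.inv_eq h.z_mem]; exact (inv_eq_of_mul_eq_one_right e).symm)
  obtain ⟨w0, hw0, hw0V⟩ := h.exists_w
  obtain ⟨w1, hw1, e1, e2⟩ := BTwoK.BTwo.exists_move h.toBTwo h.z_mem hq h.z_ne hq1 (Ne.symm hqz)
  obtain ⟨T', h'⟩ := h.point (mul_mem h.z_mem hq) hzq
  have f1 : w0 * z * w0⁻¹ = z := h.conj_z hw0
  have f2 : w0 * q * w0⁻¹ = z * q := h.w_move hw0 hw0V hq hq1 hqz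
  have hcomm := h.comm h.z_mem hq
  have y1 : (w0 * w1) * z * (w0 * w1)⁻¹ = z * q := BTwoLin.Three.cj_mul e1 f2
  have y2 : (w0 * w1) * q * (w0 * w1)⁻¹ = z := BTwoLin.Three.cj_mul e2 f1
  have y3 : (w0 * w1) * (z * q) * (w0 * w1)⁻¹ = q := by
    rw [BTwoLin.Three.cj_mul' y1 y2, hcomm, mul_assoc, h.zz, mul_one]
  set y0 := w0 * w1 with hy0
  have hy0U : y0 ∈ uu V := mul_mem (ws_le_uu h.toBTwo hw0) (ws_le_uu h' hw1)
  have hz3 : y0 ^ 3 * z * (y0 ^ 3)⁻¹ = z := by
    have e : y0 ^ 3 * z * (y0 ^ 3)⁻¹ = y0 * (y0 * (y0 * z * y0⁻¹) * y0⁻¹) * y0⁻¹ := by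
      rw [pow_succ, pow_two]; group
    rw [e, y1, y3, y2]
  have hq3 : y0 ^ 3 * q * (y0 ^ 3)⁻¹ = q := by
    have e : y0 ^ 3 * q * (y0 ^ 3)⁻¹ = y0 * (y0 * (y0 * q * y0⁻¹) * y0⁻¹) * y0⁻¹ := by
      rw [pow_succ, pow_two]; group
    rw [e, y2, y1, y3]
  have hcV : y0 ^ 3 ∈ centralizer (V : Set G) :=
    BTwoLin.Three.mem_centralizer_of_comm h.toGeoC hq hq1 hqz hz3 hq3
  set m := orderOf (y0 ^ 3) with hm
  have hm0 : 0 < m := orderOf_pos _
  have hm3 : ¬ 3 ∣ m := by
    rintro ⟨k, hk⟩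
    have hk0 : k ≠ 0 := by rintro rfl; omega
    have h1 : orderOf ((y0 ^ 3) ^ k) = 3 := by
      rw [orderOf_pow_of_dvd hk0 ⟨3, by rw [← hm, hk, mul_comm]⟩, ← hm, hk]
      exact Nat.mul_div_cancel _ (Nat.pos_of_ne_zero hk0)
    exact BTwoLin.Three.not_three h.toBTwo (pow_mem hcV k) h1
  refine ⟨y0 ^ m, pow_mem hy0U m, orderOf_eq_prime ?_ ?_⟩
  · rw [← pow_mul, mul_comm, pow_mul, hm]
    exact pow_orderOf_eq_one _
  · intro e
    have hco : Nat.Coprime m 3 := (Nat.Prime.coprime_iff_not_dvd Nat.prime_three).2 hm3 |>.symm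
    have h1 := CycConj.zpowers_eq_of_pow (x := y0) hco
    have h2 : y0 ∈ centralizer (V : Set G) := by
      have h3 : y0 ∈ zpowers (y0 ^ m) ⊔ zpowers (y0 ^ 3) := by
        rw [← h1]; exact mem_zpowers y0
      refine (sup_le ?_ ?_ : zpowers (y0 ^ m) ⊔ zpowers (y0 ^ 3) ≤ centralizer (V : Set G)) h3
      · rw [zpowers_le, e]; exact one_mem _
      · rw [zpowers_le]; exact hcV
    have h4 : y0 * z * y0⁻¹ = z := by
      have := mem_centralizer_iff.mp h2 z h.z_mem
      rw [← this]; group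
    rw [y1] at h4
    exact hq1 (mul_left_cancel (h4.trans (mul_one z).symm))

/-- `|C_{dd V}(y)| ≥ 8` -/
theorem card_fixed (h : Eight T V z) {y : G} (hyU : y ∈ uu V) (hy : y ^ 3 = 1) :
    8 ≤ Nat.card ↥(dd V ⊓ centralizer ({y} : Set G)) := by
  set E := dd V ⊓ centralizer ({y} : Set G) with hE
  have hyN : y ∈ normalizer ((dd V : Subgroup G) : Set G) := normalizer_le_normalizer_dd V hyU.1
  have hle : dd V ≤ E ⊔ V := by
    intro d hd
    have hd1 : y * d * y⁻¹ ∈ dd V := (mem_normalizer_iff.mp hyN _).mp hd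
    have hd2 : y * (y * d * y⁻¹) * y⁻¹ ∈ dd V := (mem_normalizer_iff.mp hyN _).mp hd1
    have hd3 : y * (y * (y * d * y⁻¹) * y⁻¹) * y⁻¹ = d := by
      have e : y * (y * (y * d * y⁻¹) * y⁻¹) * y⁻¹ = y ^ 3 * d * (y ^ 3)⁻¹ := by
        rw [pow_succ, pow_two]; group
      rw [e, hy]; simp
    have hv1 := hyU.2 d hd
    have hv2 := hyU.2 _ hd1
    set d1 := y * d * y⁻¹ with hd1'
    set d2 := y * d1 * y⁻¹ with hd2'
    have c01 := h.dd_comm hd hd1
    have c02 := h.dd_comm hd hd2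
    have c12 := h.dd_comm hd1 hd2
    have hN : d1 * d2 * d ∈ E := by
      refine ⟨mul_mem (mul_mem hd1 hd2) hd, mem_centralizer_singleton_iff.mpr ?_⟩
      have e : y * (d1 * d2 * d) * y⁻¹ = d1 * d2 * d := by
        calc y * (d1 * d2 * d) * y⁻¹ = (y * d1 * y⁻¹) * (y * d2 * y⁻¹) * (y * d * y⁻¹) := by group
          _ = d2 * d * d1 := by rw [hd3]
          _ = d1 * d2 * d := by
            rw [mul_assoc, c01, ← mul_assoc, ← c12]
      calc (d1 * d2 * d) * y = (y * (d1 * d2 * d) * y⁻¹) * y := by rw [e]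
        _ = y * (d1 * d2 * d) := by group
    -- `d = (d1 d2 d) (d1 d2)⁻¹`, `d1 d2 ∈ V` because `d d = 1`
    have hV : d1 * d2 ∈ V := by
      have e : d1 * d2 = (d1 * d⁻¹) * ((d2 * d1⁻¹) * (d1 * d⁻¹)) := by
        have h1 : d1 * d2 = (d1 * d⁻¹) * (d * d2) := by group
        have h2 : d * d2 = (d2 * d1⁻¹) * (d1 * d⁻¹) := by
          rw [h.dd_inv hd]
          calc d * d2 = d2 * d := c02
            _ = (d2 * d1⁻¹) * (d1 * d) := by group
        rw [h1, h2]
      rw [e]
      exact mul_mem hv1 (mul_mem hv2 hv1)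
    have e : d = (d1 * d2)⁻¹ * (d1 * d2 * d) := by group
    rw [e]
    exact mul_mem (mem_sup_right (inv_mem hV)) (mem_sup_left hN)
  have hEN : E ≤ normalizer (V : Set G) := by
    refine le_trans ?_ (centralizer_le_normalizer (V : Set G))
    exact inf_le_left.trans h.dd_le_centralizer
  have h1 := Block.card_sup_mul_card_inf hEN
  have h2 : Nat.card (dd V) ≤ Nat.card ↥(E ⊔ V) := Subgroup.card_le_of_le hle
  rw [h.card_dd] at h2
  rw [h.card_V] at h1
  have h3 : 0 < Nat.card ↥(E ⊓ V) := Nat.card_pos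
  nlinarith

/-- **the `³D₄(2)`-shape is impossible** -/
theorem false (h : Eight T V z) : False := by
  have _ : Fact (Nat.Prime 2) := ⟨Nat.prime_two⟩
  obtain ⟨x, hxC, hx⟩ := h.exists_x
  obtain ⟨y, hyU, hy⟩ := h.exists_y3
  have hy3 : y ^ 3 = 1 := by rw [← hy]; exact pow_orderOf_eq_one y
  obtain ⟨g, -, hg⟩ := CycConj.prime_power h.cyc (r := 3) (a := 1) Nat.prime_three (by norm_num) (H := (⊤ : Subgroup G))
    (x := x) (y := y) (mem_top _) (mem_top _) (by rw [hx, pow_one]) (by rw [hy, pow_one])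
  have hE := h.card_fixed hyU hy3
  set E := dd V ⊓ centralizer ({y} : Set G) with hEdef
  set D := centralizer ({x} : Set G) with hD
  have hzx : z * x = x * z := (h.z_comm hxC).symm
  have hzD : z ∈ D := mem_centralizer_singleton_iff.mpr hzx
  have hz2 : IsPGroup 2 (zpowers (⟨z, hzD⟩ : D)) := by
    refine IsPGroup.of_card (n := 1) ?_
    rw [Nat.card_zpowers, Subgroup.orderOf_mk, pow_one]
    exact orderOf_eq_prime (by rw [pow_two]; exact h.zz) h.z_ne
  obtain ⟨P, hP⟩ := hz2.exists_le_sylow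
  have hzP : (⟨z, hzD⟩ : D) ∈ P := hP (mem_zpowers _)
  -- `z` is central in `P`
  have hzc : ∀ t : D, t ∈ P → (t : G) * z = z * t := by
    have hnt : Nontrivial P := ⟨⟨⟨⟨z, hzD⟩, hzP⟩, 1, fun e => h.z_ne (by
      have := congrArg (fun t : P => ((t : D) : G)) e
      exact this)⟩⟩
    have hcen := P.isPGroup'.center_nontrivial
    have hcp : IsPGroup 2 (center P) := P.isPGroup'.to_subgroup _
    obtain ⟨k, hk, hk1⟩ := (IsPGroup.iff_card).1 hcp |>.elim (fun n hn => (⟨n, hn, by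
      rintro rfl
      rw [pow_zero] at hn
      exact not_subsingleton_iff_nontrivial.2 hcen (Nat.card_eq_one_iff_unique.1 hn).1⟩ : ∃ n, Nat.card (center P) = 2 ^ n ∧ n ≠ 0))
    have hdvd : 2 ∣ Nat.card (center P) := by rw [hk]; exact dvd_pow_self 2 hk1
    obtain ⟨c, hc⟩ := exists_prime_orderOf_dvd_card' 2 hdvd
    have hcc : ((((c : P) : D) : G)) * (((c : P) : D) : G) = 1 := by
      have h1 : c * c = 1 := by
        have h0 := pow_orderOf_eq_one c
        rw [hc, pow_two] at h0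
        exact h0
      exact congrArg (fun t : center P => (((t : P) : D) : G)) h1
    have hc1 : (((c : P) : D) : G) ≠ 1 := by
      intro e
      have h1 : c = 1 := Subtype.ext (Subtype.ext (Subtype.ext e))
      rw [h1, orderOf_one] at hc
      exact absurd hc (by norm_num)
    have hcomm : ∀ t : D, t ∈ P → (t : G) * ((c : P) : D) = (((c : P) : D) : G) * t := by
      intro t ht
      have h1 := mem_center_iff.1 c.2 ⟨t, ht⟩
      exact congrArg (fun t : P => ((t : D) : G)) h1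
    have hcz : (((c : P) : D) : G) = z := by
      refine h.eq_z hxC hx ?_ hcc hc1 ?_
      · rw [mem_centralizer_singleton_iff]
        exact (hcomm ⟨z, hzD⟩ hzP).symm
      · exact mem_centralizer_singleton_iff.mp ((c : P) : D).2
    intro t ht
    have := hcomm t ht
    rwa [hcz] at this
  have huniq : ∀ t : D, t ∈ P → (t : G) * t = 1 → (t : G) ≠ 1 → (t : G) = z := by
    intro t ht htt ht1
    refine h.eq_z hxC hx ?_ htt ht1 (mem_centralizer_singleton_iff.mp t.2)
    rw [mem_centralizer_singleton_iff]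
    exact hzc t ht
  -- `E` conjugated into `D`
  have hED : ∀ e ∈ E, g * e * g⁻¹ ∈ D := by
    intro e he
    rw [mem_centralizer_singleton_iff]
    have h1 : e * y = y * e := mem_centralizer_singleton_iff.mp he.2
    have h2 : x ∈ zpowers (g * y * g⁻¹) := by rw [hg]; exact mem_zpowers x
    obtain ⟨k, hk⟩ := mem_zpowers_iff.mp h2
    have h3 : Commute (g * e * g⁻¹) (g * y * g⁻¹) := by
      change g * e * g⁻¹ * (g * y * g⁻¹) = g * y * g⁻¹ * (g * e * g⁻¹)
      calc g * e * g⁻¹ * (g * y * g⁻¹) = g * (e * y) * g⁻¹ := by group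
        _ = g * (y * e) * g⁻¹ := by rw [h1]
        _ = _ := by group
    rw [← hk]
    exact (h3.zpow_right k).eq
  have hEsq : ∀ e ∈ E, e * e = 1 := fun e he => h.dd_sq he.1
  let E' : Subgroup D := (cj g E).subgroupOf D
  have hE'2 : IsPGroup 2 E' := by
    intro t
    refine ⟨1, ?_⟩
    apply Subtype.ext
    apply Subtype.ext
    have h1 : ((t : D) : G) ∈ cj g E := mem_subgroupOf.mp t.2
    have h2 := hEsq _ (mem_cj.mp h1)
    change (((t : D) : G)) ^ (2 ^ 1) = 1
    rw [pow_one, pow_two]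
    calc ((t : D) : G) * ((t : D) : G) = g * (g⁻¹ * (t : D) * g * (g⁻¹ * (t : D) * g)) * g⁻¹ := by group
      _ = 1 := by rw [h2]; group
  obtain ⟨P', hP'⟩ := hE'2.exists_le_sylow
  obtain ⟨c, hc⟩ := MulAction.exists_smul_eq D P' P
  have hfin : ∀ e ∈ E, e ≠ 1 → (c : G) * (g * e * g⁻¹) * (c : G)⁻¹ = z := by
    intro e he he1
    have h1 : (⟨g * e * g⁻¹, hED e he⟩ : D) ∈ P' := hP' (mem_subgroupOf.mpr (conj_mem_cj he))
    have h2 : c * ⟨g * e * g⁻¹, hED e he⟩ * c⁻¹ ∈ P := by
      rw [← hc]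
      change c * ⟨g * e * g⁻¹, hED e he⟩ * c⁻¹ ∈ ((c • P' : Sylow 2 D) : Subgroup D)
      rw [Sylow.coe_subgroup_smul]
      exact ⟨_, h1, rfl⟩
    refine huniq _ h2 ?_ ?_
    · change (c : G) * (g * e * g⁻¹) * (c : G)⁻¹ * ((c : G) * (g * e * g⁻¹) * (c : G)⁻¹) = 1
      calc (c : G) * (g * e * g⁻¹) * (c : G)⁻¹ * ((c : G) * (g * e * g⁻¹) * (c : G)⁻¹) =
          (c : G) * (g * (e * e) * g⁻¹) * (c : G)⁻¹ := by group
        _ = 1 := by rw [hEsq e he]; group
    · change (c : G) * (g * e * g⁻¹) * (c : G)⁻¹ ≠ 1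
      intro e1
      apply he1
      calc e = g⁻¹ * ((c : G)⁻¹ * ((c : G) * (g * e * g⁻¹) * (c : G)⁻¹) * c) * g := by group
        _ = 1 := by rw [e1]; group
  have hsub : (E : Set G) ⊆ {1, g⁻¹ * ((c : G)⁻¹ * z * c) * g} := by
    intro e he
    by_cases he1 : e = 1
    · exact Or.inl he1
    · right
      rw [Set.mem_singleton_iff, ← hfin e he he1]
      group
  have h1 : (E : Set G).ncard ≤ 2 := (Set.ncard_le_ncard hsub (Set.toFinite _)).trans (Set.ncard_insert_le _ _ |>.trans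
    (by rw [Set.ncard_singleton]))
  have h2 : (E : Set G).ncard = Nat.card E := rfl
  omega

end Eight

end Cfsg.Agent.OddCyclic.BTwoEight
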