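import Mathlib
import Cfsg.Agent.OddCyclic.BTwoB

/-!
# (E1) with `|V| = 4`, `b = 2`: the case `ws V z ≅ 4 ∘ Q₈`, part A

`One T V z`: the situation `BTwo T V z` with `dd V = V` and `|us V z : V| = 2`.

* `One.exists_frame`: `ws V z` is generated by `V`, an involution `t` (conjugate to `z`) and a central element `u`
  with `u * u = z`;
* `One.centralizer_xx`: `C_G(xx V) = 1`;
* `One.cent_cases`, `One.mem_centralizer_ws`: `C_G(ws V z) = ⟨u⟩`.
-/

set_option autoImplicit false
set_option linter.dupNamespace false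
set_option linter.unusedSectionVars false

namespace Cfsg.Agent.OddCyclic.BTwoEnd

open Subgroup Cfsg Cfsg.Agent.ZN Cfsg.Agent.MinSimple.Geo Cfsg.Agent.OddCyclic.GeoC
  Cfsg.Agent.OddCyclic.BTwoA
  Cfsg.Agent.OddCyclic.BTwoB
open Cfsg.Agent.ZN.Block (conj_mem_of_normalizer conj_mem_of_normalizer' le_normalizer_of_forall
  mem_normalizer_of)

universe u

variable {G : Type u} [Group G]

/-- The situation `BTwo T V z` with `dd V = V` and `|us V z : V| = 2`. -/
structure One (T V : Subgroup G) (z : G) : Prop extends BTwo T V z where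
  dd_le : dd V ≤ V
  idx : V.relIndex (us V z) = 2

namespace One

variable [Finite G] {T V : Subgroup G} {z : G}

theorem V_le_us (h : One T V z) : V ≤ us V z := h.V_le_dd.trans (h.dd_le_us h.z_mem h.z_ne)

theorem card_us_eq (h : One T V z) : Nat.card (us V z) = 8 := by
  have h1 := relIndex_mul_relIndex (⊥ : Subgroup G) V (us V z) bot_le h.V_le_us
  rw [relIndex_bot_left, relIndex_bot_left, h.idx, h.card_V] at h1
  exact h1.symm

theorem point (h : One T V z) {p : G} (hp : p ∈ V) (hp1 : p ≠ 1) : ∃ T' : Subgroup G, One T' V p := by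
  obtain ⟨T', h'⟩ := h.toBTwo.point hp hp1
  refine ⟨T', h', h.dd_le, ?_⟩
  have hle : V ≤ us V p := h'.V_le_dd.trans (h'.dd_le_us h'.z_mem h'.z_ne)
  have h1 := relIndex_mul_relIndex (⊥ : Subgroup G) V (us V p) bot_le hle
  rw [relIndex_bot_left, relIndex_bot_left, h.card_V, h.card_us hp hp1, h.card_us_eq] at h1
  omega

theorem mul_mem_V (h : One T V z) {a b : G} (ha : a ∈ us V z) (hb : b ∈ us V z) (haV : a ∉ V)
    (hbV : b ∉ V) : a * b ∈ V := by
  have hi : (V.subgroupOf (us V z)).index = 2 := h.idx
  have h1 := Subgroup.mul_mem_iff_of_index_two hi (a := ⟨a, ha⟩) (b := ⟨b, hb⟩)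
  rw [mem_subgroupOf, mem_subgroupOf, mem_subgroupOf] at h1
  exact h1.mpr ⟨fun h => absurd h haV, fun h => absurd h hbV⟩

theorem us_comm (h : One T V z) {a b : G} (ha : a ∈ us V z) (hb : b ∈ us V z) : a * b = b * a := by
  by_cases haV : a ∈ V
  · exact (comm_V hb.2 haV).symm
  by_cases hbV : b ∈ V
  · exact comm_V ha.2 hbV
  have h1 := h.mul_mem_V (inv_mem ha) hb (fun e => haV ((inv_mem_iff).mp e)) hbV
  have h2 := comm_V ha.2 h1
  calc a * b = a * (a * (a⁻¹ * b)) := by group
    _ = a * ((a⁻¹ * b) * a) := by rw [h2]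
    _ = b * a := by group

/-- a line of `us V z` has the same centralizer in `ws V z` as `V` -/
theorem cj_us_eq (h : One T V z) {c : G} (hc : c ∈ centralizer ({z} : Set G))
    (hcV : cj c V ≤ centralizer (V : Set G)) : cj c (us V z) = us V z := by
  have hL : cj c V ≤ us V z := le_inf (le_ws (h.cj_mem_lines hc)) hcV
  have hws := Cfsg.Agent.MinSimple.Geo.centralizer_le_normalizer_ws V z
  symm
  apply Subgroup.eq_of_le_of_card_ge
  · intro x hx
    rw [mem_cj]
    refine ⟨conj_mem_of_normalizer' hws hc hx.1, mem_centralizer_iff.mpr fun v hv => ?_⟩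
    have h1 : c * v * c⁻¹ ∈ us V z := hL (conj_mem_cj hv)
    have h2 := h.us_comm h1 hx
    calc v * (c⁻¹ * x * c) = c⁻¹ * ((c * v * c⁻¹) * x) * c := by group
      _ = c⁻¹ * (x * (c * v * c⁻¹)) * c := by rw [h2]
      _ = c⁻¹ * x * c * v := by group
  · rw [card_cj]

/-- three pairwise non-commuting lines through `z` -/
theorem exists_three (h : One T V z) : ∃ t ∈ ws V z, ∃ s ∈ ws V z, t * t = 1 ∧ s * s = 1 ∧
    t ∉ centralizer (V : Set G) ∧ s ∉ centralizer (V : Set G) ∧ t * s ≠ s * t ∧
    (∃ g : G, g * z * g⁻¹ = t) ∧ ∃ g : G, g * z * g⁻¹ = s := by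
  set C := centralizer ({z} : Set G) with hC
  have hws := Cfsg.Agent.MinSimple.Geo.centralizer_le_normalizer_ws V z
  -- a line not commuting with `V`
  obtain ⟨a, haC, ha⟩ : ∃ a ∈ C, ¬ cj a V ≤ centralizer (V : Set G) := by
    by_contra hcon
    push Not at hcon
    obtain ⟨w, hw, hwV⟩ := h.exists_w
    apply hwV
    refine (ws_le (U := centralizer (V : Set G)) fun L hL => ?_) hw
    obtain ⟨c, hc, rfl⟩ := h.exists_of_mem_lines hL
    exact hcon c hc
  -- elements of lines
  have hline : ∀ c ∈ C, ¬ cj c V ≤ centralizer (V : Set G) → ∃ t ∈ cj c V, t ∈ ws V z ∧ t * t = 1 ∧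
      t ∉ centralizer (V : Set G) ∧ ∃ g : G, g * z * g⁻¹ = t := by
    intro c hc hn
    obtain ⟨t, ht, htV⟩ := SetLike.not_le_iff_exists.mp hn
    have ht' := mem_cj.mp ht
    have ht1 : c⁻¹ * t * c ≠ 1 := by
      intro e
      apply htV
      have : t = c * (c⁻¹ * t * c) * c⁻¹ := by group
      rw [this, e]
      simp
    obtain ⟨g, hg, hg2⟩ := h.trans _ ht' ht1
    refine ⟨t, ht, le_ws (h.cj_mem_lines hc) ht, ?_, htV, c * g, ?_⟩
    · have h1 := h.sq _ ht'
      calc t * t = c * ((c⁻¹ * t * c) * (c⁻¹ * t * c)) * c⁻¹ := by group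
        _ = 1 := by rw [h1]; group
    · calc c * g * z * (c * g)⁻¹ = c * (g * z * g⁻¹) * c⁻¹ := by group
        _ = t := by rw [hg2]; group
  by_contra hcon
  -- otherwise every line commutes with `V` or with `cj a V`
  have hdich : ∀ c ∈ C, ¬ cj c V ≤ centralizer (V : Set G) →
      cj c V ≤ centralizer ((cj a V : Subgroup G) : Set G) := by
    intro c hc hn
    obtain ⟨t, ht, htw, ht2, htV, htg⟩ := hline a haC ha
    obtain ⟨s, hs, hsw, hs2, hsV, hsg⟩ := hline c hc hn
    have hts : t * s = s * t := by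
      by_contra hts
      exact hcon ⟨t, htw, s, hsw, ht2, hs2, htV, hsV, hts, htg, hsg⟩
    -- elements of `cj c V` are `1, z, s, z s`
    have hfour : ∀ c ∈ C, ∀ s ∈ cj c V, s ∉ centralizer (V : Set G) → ∀ x ∈ cj c V,
        x = 1 ∨ x = z ∨ x = s ∨ x = z * s := by
      intro c hc s hs hsV x hx
      have hz' : c⁻¹ * z * c = z := by
        rw [mul_assoc, ← h.z_comm hc, inv_mul_cancel_left]
      have hs1 : c⁻¹ * s * c ≠ 1 := by
        intro e
        apply hsV
        have : s = c * (c⁻¹ * s * c) * c⁻¹ := by group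
        rw [this, e]; simp
      have hsz : z ≠ c⁻¹ * s * c := by
        intro e
        apply hsV
        have : s = c * (c⁻¹ * s * c) * c⁻¹ := by group
        rw [this, ← e, h.z_comm hc, mul_inv_cancel_right, mem_centralizer_iff]
        intro v hv
        exact h.comm hv h.z_mem
      have hconj : ∀ y y' : G, c⁻¹ * y * c = y' → y = c * y' * c⁻¹ := by
        rintro y y' rfl; group
      rcases h.four h.z_mem (mem_cj.mp hs) h.z_ne hs1 hsz (mem_cj.mp hx) with e | e | e | e
      · left; rw [hconj _ _ e]; group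
      · right; left; rw [hconj _ _ e, h.z_comm hc]; group
      · right; right; left; rw [hconj _ _ e]; group
      · right; right; right
        rw [hconj _ _ e]
        calc c * (z * (c⁻¹ * s * c)) * c⁻¹ = (c * z) * c⁻¹ * s := by group
          _ = z * s := by rw [h.z_comm hc]; group
    have hzt : z * t = t * z := (h.z_comm (h.ws_le_centralizer htw)).symm
    have hzs : z * s = s * z := (h.z_comm (h.ws_le_centralizer hsw)).symm
    intro x hx
    rw [mem_centralizer_iff]
    intro y hy
    have cx : Commute y x := by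
      have c1 : Commute z t := hzt
      have c2 : Commute z s := hzs
      have c3 : Commute t s := hts
      rcases hfour c hc s hs hsV x hx with rfl | rfl | rfl | rfl <;>
        rcases hfour a haC t ht htV y hy with rfl | rfl | rfl | rfl
      · exact Commute.refl _
      · exact Commute.one_right _
      · exact Commute.one_right _
      · exact Commute.one_right _
      · exact Commute.one_left _
      · exact Commute.refl _
      · exact c1.symm
      · exact (Commute.refl _).mul_left c1.symm
      · exact Commute.one_left _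
      · exact c2
      · exact c3
      · exact c2.mul_left c3
      · exact Commute.one_left _
      · exact (Commute.refl _).mul_right c2
      · exact c1.symm.mul_right c3
      · exact ((Commute.refl _).mul_right c2).mul_left (c1.symm.mul_right c3)
    exact cx.eq
  -- the stabilizer of `us V z`
  set N : Subgroup G := C ⊓ normalizer ((us V z : Subgroup G) : Set G) with hN
  have hNiff : ∀ c ∈ C, (c ∈ N ↔ cj c V ≤ centralizer (V : Set G)) := by
    intro c hc
    constructor
    · rintro ⟨-, hcn⟩
      have h1 := cj_mono (g := c) h.V_le_us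
      rw [mem_normalizer_iff_cj.mp hcn] at h1
      exact h1.trans inf_le_right
    · intro h1
      exact ⟨hc, mem_normalizer_iff_cj.mpr (h.cj_us_eq hc h1)⟩
  have hkey : ∀ c ∈ C, c ∉ N → a⁻¹ * c ∈ N := by
    intro c hc hcN
    have h1 := hdich c hc (fun e => hcN ((hNiff c hc).mpr e))
    have hac : a⁻¹ * c ∈ C := mul_mem (inv_mem haC) hc
    rw [hNiff _ hac]
    intro x hx
    rw [mem_cj] at hx
    rw [mem_centralizer_iff]
    intro v hv
    have h2 : a * x * a⁻¹ ∈ cj c V := by
      rw [mem_cj]
      have : c⁻¹ * (a * x * a⁻¹) * c = (a⁻¹ * c)⁻¹ * x * (a⁻¹ * c) := by group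
      rw [this]; exact hx
    have h3 := mem_centralizer_iff.mp (h1 h2) (a * v * a⁻¹) (conj_mem_cj hv)
    calc v * x = a⁻¹ * ((a * v * a⁻¹) * (a * x * a⁻¹)) * a := by group
      _ = a⁻¹ * ((a * x * a⁻¹) * (a * v * a⁻¹)) * a := by rw [h3]
      _ = x * v := by group
  have hidx : N.relIndex C = 2 := by
    rw [relIndex_eq_two_iff_exists_notMem_and']
    refine ⟨a⁻¹, inv_mem haC, fun e => ha ((hNiff a haC).mp (inv_mem_iff.mp e)), fun b hb => ?_⟩
    by_cases hbN : b ∈ N
    · exact Or.inr hbN
    · exact Or.inl (hkey b hb hbN)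
  have hTN : T ≤ N := by
    intro x hx
    have hxC : x ∈ C := h.T_le hx
    rw [hNiff x hxC, cj_eq_of_mem_normalizer (h.T_norm hx)]
    intro v hv
    rw [mem_centralizer_iff]
    intro w hw
    exact h.comm hw hv
  apply h.T_syl
  have := relIndex_mul_relIndex T N C hTN inf_le_left
  rw [← hC, ← this, hidx]
  exact dvd_mul_left _ _

/-- a frame of `ws V z` -/
theorem exists_frame (h : One T V z) : ∃ t ∈ ws V z, ∃ u ∈ ws V z, t * t = 1 ∧
    t ∉ centralizer (V : Set G) ∧ (∃ g : G, g * z * g⁻¹ = t) ∧ u * u = z ∧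
    (∀ w ∈ ws V z, u * w = w * u) := by
  obtain ⟨t, ht, s, hs, ht2, hs2, htV, hsV, hts, htg, hsg⟩ := h.exists_three
  obtain ⟨v, hv, hv1, hvz⟩ := h.exists_y
  have hvw : v ∈ ws V z := h.V_le_ws hv
  have hz : ∀ w ∈ ws V z, Commute z w := fun w hw => (h.z_comm (h.ws_le_centralizer hw)).symm
  have hcase : ∀ a ∈ ws V z, ∀ b ∈ ws V z, a * b ≠ b * a → a * b = z * (b * a) := by
    intro a ha b hb hab
    exact (h.comm_cases ha (h.ws_le_o2 hb)).resolve_left hab
  have hnv : ∀ w ∈ ws V z, w ∉ centralizer (V : Set G) → w * v ≠ v * w := by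
    intro w hw hwV e
    have := h.w_move hw hwV hv hv1 hvz
    rw [e, mul_inv_cancel_right] at this
    exact h.z_ne (by simpa using this.symm)
  have e1 : t * v = z * (v * t) := hcase t ht v hvw (hnv t ht htV)
  have e2 : s * v = z * (v * s) := hcase s hs v hvw (hnv s hs hsV)
  have e3 : t * s = z * (s * t) := hcase t ht s hs hts
  have ez := h.zz
  have ev := h.sq v hv
  have cv := hz v hvw
  have ct := hz t ht
  have cs := hz s hs
  set u : G := v * t * s with hu
  have huw : u ∈ ws V z := mul_mem (mul_mem hvw ht) hs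
  have e1' : v * t = z * (t * v) := by rw [e1, ← mul_assoc, ez, one_mul]
  have e2' : v * s = z * (s * v) := by rw [e2, ← mul_assoc, ez, one_mul]
  have e3' : s * t = z * (t * s) := by rw [e3, ← mul_assoc, ez, one_mul]
  -- `u` commutes with `v`, `t`, `s`
  have cuv : Commute u v := by
    change v * t * s * v = v * (v * t * s)
    calc v * t * s * v = v * t * (s * v) := by group
      _ = v * t * (z * (v * s)) := by rw [e2]
      _ = v * (t * z) * v * s := by group
      _ = v * (z * t) * v * s := by rw [ct.eq]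
      _ = v * z * (t * v) * s := by group
      _ = v * z * (z * (v * t)) * s := by rw [e1]
      _ = v * (z * z) * (v * t) * s := by group
      _ = v * (v * t * s) := by rw [ez]; group
  have cut : Commute u t := by
    change v * t * s * t = t * (v * t * s)
    calc v * t * s * t = v * t * (s * t) := by group
      _ = v * t * (z * (t * s)) := by rw [e3']
      _ = v * (t * z) * t * s := by group
      _ = (v * z) * t * t * s := by rw [← ct.eq]; group
      _ = z * (v * t) * t * s := by rw [← cv.eq]; group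
      _ = z * (z * (t * v)) * t * s := by rw [e1']
      _ = (z * z) * (t * (v * t * s)) := by group
      _ = t * (v * t * s) := by rw [ez, one_mul]
  have cus : Commute u s := by
    change v * t * s * s = s * (v * t * s)
    have : s * (v * t * s) = v * t * s * s := by
      calc s * (v * t * s) = (s * v) * t * s := by group
        _ = z * (v * s) * t * s := by rw [e2]
        _ = z * v * (s * t) * s := by group
        _ = z * v * (z * (t * s)) * s := by rw [e3']
        _ = z * (v * z) * t * s * s := by group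
        _ = z * (z * v) * t * s * s := by rw [← cv.eq]
        _ = (z * z) * (v * t * s * s) := by group
        _ = v * t * s * s := by rw [ez, one_mul]
    exact this.symm
  have huu : u * u = z := by
    calc u * u = (u * v) * (t * s) := by rw [hu]; group
      _ = (v * u) * (t * s) := by rw [cuv.eq]
      _ = v * (u * t) * s := by group
      _ = v * (t * u) * s := by rw [cut.eq]
      _ = v * t * (v * t * s) * s := by rw [hu]; group
      _ = v * (t * v) * t * (s * s) := by group
      _ = v * (z * (v * t)) * t * 1 := by rw [e1, hs2]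
      _ = (v * z) * v * (t * t) := by group
      _ = (z * v) * v * 1 := by rw [← cv.eq, ht2]
      _ = z * (v * v) := by group
      _ = z := by rw [ev, mul_one]
  refine ⟨t, ht, u, huw, ht2, htV, htg, huu, ?_⟩
  -- `u` is central
  have huV : u ∈ us V z := by
    refine ⟨huw, mem_centralizer_iff.mpr fun x hx => ?_⟩
    rcases h.four h.z_mem hv h.z_ne hv1 (Ne.symm hvz) hx with rfl | rfl | rfl | rfl
    · simp
    · exact (hz _ huw).eq
    · exact cuv.symm.eq
    · exact ((hz _ huw).mul_left cuv.symm).eq
  have huus : ∀ a ∈ us V z, Commute u a := fun a ha => h.us_comm huV ha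
  intro w hw
  by_cases hwV : w ∈ centralizer (V : Set G)
  · exact (huus w ⟨hw, hwV⟩).eq
  · have h1 := h.us_two (inv_mem ht) (fun hh => htV ((inv_mem_iff).mp hh)) hw hwV
    have h2 := huus _ h1
    have : w = t * (t⁻¹ * w) := by group
    rw [this]
    exact (cut.mul_right h2).eq

/-- a normal subgroup of `N_G(V)` meeting `T` trivially is trivial -/
theorem eq_bot_of_normal (h : One T V z) {N : Subgroup G} (hN : N ≤ normalizer (V : Set G))
    (hn : normalizer (V : Set G) ≤ normalizer (N : Set G)) (hT : T ⊓ N = ⊥) : N = ⊥ := by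
  set M := normalizer (V : Set G) with hM
  have hVT : V ≤ T := h.V_le
  have hV2 : IsPGroup 2 V := h.two.to_le hVT
  have hV1 : V ≠ ⊥ := by
    intro e
    have := h.z_mem
    rw [e, mem_bot] at this
    exact h.z_ne this
  have hloc : IsTwoLocal M := ⟨V, hV2, hV1, rfl⟩
  have ho : o2 M ≤ T := o2_le_of_sylow h.T_norm h.two h.T_syl'
  have hNo : N ≤ M ⊓ centralizer (o2 M : Set G) := by
    intro n hn'
    refine mem_inf.mpr ⟨hN hn', mem_centralizer_iff.mpr fun q hq => ?_⟩
    have h1 : n * q * n⁻¹ * q⁻¹ ∈ T ⊓ N := by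
      refine ⟨ho ((o2 M).mul_mem (conj_mem_of_normalizer (le_normalizer_o2 M) (hN hn') hq)
        ((o2 M).inv_mem hq)), ?_⟩
      have h2 := conj_mem_of_normalizer hn (o2_le M hq) (N.inv_mem hn')
      have e : n * q * n⁻¹ * q⁻¹ = n * (q * n⁻¹ * q⁻¹) := by group
      rw [e]; exact N.mul_mem hn' h2
    rw [hT, mem_bot] at h1
    have : q * n = (n * q * n⁻¹ * q⁻¹)⁻¹ * (n * q) := by group
    rw [this, h1, inv_one, one_mul]
  have hNo2 := hNo.trans (inf_centralizer_o2_le h.charTwo hloc)
  rw [eq_bot_iff, ← hT]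
  exact le_inf (hNo2.trans ho) le_rfl

theorem normalizer_le_normalizer_xx (V : Subgroup G) :
    normalizer (V : Set G) ≤ normalizer ((xx V : Subgroup G) : Set G) := by
  intro g hg
  rw [mem_normalizer_iff_cj]
  have key : ∀ g ∈ normalizer (V : Set G), cj g (xx V) ≤ xx V := by
    intro g hg
    rw [cj_le_iff]
    refine iSup_le fun p => ?_
    rw [← cj_le_iff, cj_ws]
    refine ws_le_xx ((mem_normalizer_iff.mp hg _).mp p.2.1) (fun e => p.2.2 ?_)
    have : (p : G) = g⁻¹ * (g * p * g⁻¹) * g := by group
    rw [this, e]; group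
  refine le_antisymm (key g hg) ?_
  have := key g⁻¹ (inv_mem hg)
  rwa [cj_le_iff, inv_inv] at this

theorem V_le_xx (h : One T V z) : V ≤ xx V := h.V_le_ws.trans (ws_le_xx h.z_mem h.z_ne)

/-- `C_G(xx V) = 1` -/
theorem centralizer_xx (h : One T V z) : centralizer (xx V : Set G) = ⊥ := by
  apply h.eq_bot_of_normal
  · refine (centralizer_le h.V_le_xx).trans ?_
    exact centralizer_le_normalizer _
  · refine (normalizer_le_normalizer_xx V).trans ?_
    refine le_normalizer_of_forall fun g hg c hc => mem_centralizer_iff.mpr fun x hx => ?_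
    have h2 := mem_centralizer_iff.mp hc _ (conj_mem_of_normalizer' le_rfl hg hx)
    calc x * (g * c * g⁻¹) = g * ((g⁻¹ * x * g) * c) * g⁻¹ := by group
      _ = g * (c * (g⁻¹ * x * g)) * g⁻¹ := by rw [h2]
      _ = g * c * g⁻¹ * x := by group
  · exact BTwoB.BTwo.T_inf_centralizer_xx h.toBTwo

/-- an element centralizing `ws V q` and an element of `ws V z` outside `C(V)` is trivial -/
theorem eq_one_of_comm (h : One T V z) {q t x : G} (hq : q ∈ V) (hq1 : q ≠ 1) (hqz : q ≠ z)
    (ht : t ∈ ws V z) (htV : t ∉ centralizer (V : Set G))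
    (hx : ∀ w ∈ ws V q, x * w = w * x) (hxt : x * t = t * x) : x = 1 := by
  obtain ⟨T', h'⟩ := h.point hq hq1
  obtain ⟨w2, hw2, hw2V⟩ := h'.exists_w
  have m1 : t * q * t⁻¹ = z * q := h.w_move ht htV hq hq1 hqz
  have m2 : w2 * z * w2⁻¹ = q * z := h'.w_move hw2 hw2V h.z_mem h.z_ne (Ne.symm hqz)
  have ct : Commute x t := hxt
  have cw2 : Commute x w2 := hx w2 hw2
  -- `x` centralizes `ws V (z * q)`
  have c3 : ∀ w ∈ ws V (z * q), Commute x w := by
    intro w hw
    have h1 : t⁻¹ * w * t ∈ ws V q := by
      have h2 := conj_mem_ws (g := t⁻¹) hw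
      rw [← m1, inv_inv] at h2
      have e : t⁻¹ * (t * q * t⁻¹) * t = q := by group
      rwa [e] at h2
    have h2 : Commute x (t⁻¹ * w * t) := hx _ h1
    have e : w = t * (t⁻¹ * w * t) * t⁻¹ := by group
    rw [e]
    exact (ct.mul_right h2).mul_right ct.inv_right
  have c1 : ∀ w ∈ ws V z, Commute x w := by
    intro w hw
    have h1 : w2 * w * w2⁻¹ ∈ ws V (z * q) := by
      have h2 := conj_mem_ws (g := w2) hw
      rw [m2, h.comm hq h.z_mem] at h2
      exact h2
    have h2 := c3 _ h1
    have e : w = w2⁻¹ * (w2 * w * w2⁻¹) * w2 := by group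
    rw [e]
    exact (cw2.inv_right.mul_right h2).mul_right cw2
  have hxx : xx V ≤ centralizer ({x} : Set G) := by
    refine iSup_le fun p w hw => ?_
    rw [mem_centralizer_singleton_iff]
    rcases h.four h.z_mem hq h.z_ne hq1 (Ne.symm hqz) p.2.1 with h1 | h1 | h1 | h1
    · exact absurd h1 p.2.2
    · rw [h1] at hw; exact (c1 w hw).symm.eq
    · rw [h1] at hw; exact (hx w hw).symm
    · rw [h1] at hw; exact (c3 w hw).symm.eq
  have h1 : x ∈ centralizer (xx V : Set G) := mem_centralizer_iff.mpr fun y hy =>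
    mem_centralizer_singleton_iff.mp (hxx hy)
  rw [h.centralizer_xx, mem_bot] at h1
  exact h1

/-- an element centralizing `ws V q` and, modulo `z`, an element of `ws V z` outside `C(V)` is `1` or `q` -/
theorem eq_of_comm (h : One T V z) {q t x : G} (hq : q ∈ V) (hq1 : q ≠ 1) (hqz : q ≠ z)
    (ht : t ∈ ws V z) (htV : t ∉ centralizer (V : Set G))
    (hx : ∀ w ∈ ws V q, x * w = w * x) (hxt : x * t * x⁻¹ = t ∨ x * t * x⁻¹ = z * t) :
    x = 1 ∨ x = q := by
  rcases hxt with e | e
  · left
    refine h.eq_one_of_comm hq hq1 hqz ht htV hx ?_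
    calc x * t = (x * t * x⁻¹) * x := by group
      _ = t * x := by rw [e]
  · right
    obtain ⟨T', h'⟩ := h.point hq hq1
    have hqw : ∀ w ∈ ws V q, q * w = w * q := fun w hw =>
      (h'.z_comm (h'.ws_le_centralizer hw)).symm
    have m1 : t * q * t⁻¹ = z * q := h.w_move ht htV hq hq1 hqz
    have hzt : z * t = t * z := (h.z_comm (h.ws_le_centralizer ht)).symm
    have hqt : q * t = z * (t * q) := by
      have e1 : t * q = z * (q * t) := by
        calc t * q = (t * q * t⁻¹) * t := by group
          _ = z * (q * t) := by rw [m1, mul_assoc]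
      rw [e1, ← mul_assoc, h.zz, one_mul]
    have hxz : x * z = z * x := by
      obtain ⟨T', h'⟩ := h.point hq hq1
      exact hx z (h'.V_le_ws h.z_mem)
    have h1 : x * q = 1 := by
      refine h.eq_one_of_comm hq hq1 hqz ht htV ?_ ?_
      · intro w hw
        calc x * q * w = x * (q * w) := by group
          _ = (x * w) * q := by rw [hqw w hw]; group
          _ = w * (x * q) := by rw [hx w hw]; group
      · calc x * q * t = x * (q * t) := by group
          _ = (x * z) * t * q := by rw [hqt]; group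
          _ = z * (x * t * x⁻¹) * x * q := by rw [hxz]; group
          _ = (z * z) * t * x * q := by rw [e]; group
          _ = t * (x * q) := by rw [h.zz]; group
    have h2 : x = q⁻¹ := eq_inv_of_mul_eq_one_left h1
    rw [h2, h.inv_eq hq]

end One

end Cfsg.Agent.OddCyclic.BTwoEnd
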