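import Mathlib
import Cfsg.Agent.OddCyclic.BTwoEnd

/-!
# (E1) with `|V| = 4`, `b = 2`: the case `ws V z ≅ 4 ∘ Q₈`, part B

`Fr T V z q t u`: a frame for the situation `One T V z`: `V = {1, z, q, z q}`, `ws V z = ⟨V, t, u⟩` with an
involution `t` and a central element `u`, `u * u = z`.

* `Fr.cent`: `C_G(ws V z) = ⟨u⟩`;
* `Fr.rr_cases`: `rr V = ⟨u⟩ × ⟨u'⟩` for frames at `z` and `q`; its involutions are in `V`;
* `Fr.dichotomy`: `C_G(V) = rr V`, or there is `e ∈ C_G(V) ∩ kq V z` with `e u e⁻¹ = z u` and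
  `C_G(V) = rr V ∪ e rr V`.
-/

set_option autoImplicit false
set_option linter.dupNamespace false
set_option linter.unusedSectionVars false

namespace Cfsg.Agent.OddCyclic.BTwoEndB

open Subgroup Cfsg Cfsg.Agent.ZN Cfsg.Agent.MinSimple.Geo Cfsg.Agent.OddCyclic.GeoC
  Cfsg.Agent.OddCyclic.BTwoA
  Cfsg.Agent.OddCyclic.BTwoB Cfsg.Agent.OddCyclic.BTwoEnd
open Cfsg.Agent.ZN.Block (conj_mem_of_normalizer conj_mem_of_normalizer' le_normalizer_of_forall
  mem_normalizer_of)

universe u

variable {G : Type u} [Group G]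

/-- A frame for the situation `One T V z`. -/
structure Fr (T V : Subgroup G) (z q t u : G) : Prop extends One T V z where
  q_mem : q ∈ V
  q_ne : q ≠ 1
  q_nz : q ≠ z
  t_mem : t ∈ ws V z
  tt : t * t = 1
  tV : t ∉ centralizer (V : Set G)
  tz : ∃ g : G, g * z * g⁻¹ = t
  u_mem : u ∈ ws V z
  uu : u * u = z
  uc : ∀ w ∈ ws V z, u * w = w * u

variable [Finite G] {T V : Subgroup G} {z q t u : G}

theorem exists_fr (h : One T V z) {q : G} (hq : q ∈ V) (hq1 : q ≠ 1) (hqz : q ≠ z) :
    ∃ t u : G, Fr T V z q t u := by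
  obtain ⟨t, ht, u, hu, h1, h2, h3, h4, h5⟩ := h.exists_frame
  exact ⟨t, u, ⟨h, hq, hq1, hqz, ht, h1, h2, h3, hu, h4, h5⟩⟩

namespace Fr

/-- the frame at the other point -/
theorem other (h : Fr T V z q t u) : ∃ (T' : Subgroup G) (t' u' : G), Fr T' V q z t' u' := by
  obtain ⟨T', h'⟩ := h.point h.q_mem h.q_ne
  obtain ⟨t', u', h''⟩ := exists_fr h' h.z_mem h.z_ne (Ne.symm h.q_nz)
  exact ⟨T', t', u', h''⟩

theorem qq (h : Fr T V z q t u) : q * q = 1 := h.sq q h.q_mem

theorem zq (h : Fr T V z q t u) : z * q = q * z := h.comm h.z_mem h.q_mem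

theorem z_ws (h : Fr T V z q t u) {w : G} (hw : w ∈ ws V z) : Commute z w :=
  (h.z_comm (h.ws_le_centralizer hw)).symm

theorem cz (h : Fr T V z q t u) {g : G} (hg : g ∈ centralizer (V : Set G)) : Commute g z :=
  comm_V hg h.z_mem

theorem cq (h : Fr T V z q t u) {g : G} (hg : g ∈ centralizer (V : Set G)) : Commute g q :=
  comm_V hg h.q_mem

theorem four' (h : Fr T V z q t u) {v : G} (hv : v ∈ V) : v = 1 ∨ v = z ∨ v = q ∨ v = z * q :=
  h.four h.z_mem h.q_mem h.z_ne h.q_ne (Ne.symm h.q_nz) hv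

theorem mem_cent (h : Fr T V z q t u) {g : G} (h1 : Commute g z) (h2 : Commute g q) :
    g ∈ centralizer (V : Set G) := by
  rw [mem_centralizer_iff]
  intro v hv
  rcases h.four' hv with rfl | rfl | rfl | rfl
  · simp
  · exact h1.symm.eq
  · exact h2.symm.eq
  · exact (h1.mul_right h2).symm.eq

theorem t_ne (h : Fr T V z q t u) : t ≠ 1 := by
  intro e
  apply h.tV
  rw [e]; exact one_mem _

theorem tq (h : Fr T V z q t u) : t * q = z * (q * t) := by
  have m1 : t * q * t⁻¹ = z * q := h.w_move h.t_mem h.tV h.q_mem h.q_ne h.q_nz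
  calc t * q = (t * q * t⁻¹) * t := by group
    _ = z * (q * t) := by rw [m1, mul_assoc]

theorem qt (h : Fr T V z q t u) : q * t = z * (t * q) := by
  rw [h.tq, ← mul_assoc, h.zz, one_mul]

theorem ut (h : Fr T V z q t u) : Commute u t := h.uc t h.t_mem

theorem uz (h : Fr T V z q t u) : Commute u z := h.uc z (h.V_le_ws h.z_mem)

theorem uq (h : Fr T V z q t u) : Commute u q := h.uc q (h.V_le_ws h.q_mem)

theorem zt (h : Fr T V z q t u) : Commute z t := h.z_ws h.t_mem

theorem u_cent (h : Fr T V z q t u) : u ∈ centralizer (V : Set G) := h.mem_cent h.uz h.uq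

theorem u_us (h : Fr T V z q t u) : u ∈ us V z := ⟨h.u_mem, h.u_cent⟩

theorem u_inv (h : Fr T V z q t u) : u⁻¹ = z * u := by
  apply inv_eq_of_mul_eq_one_left
  rw [mul_assoc, h.uu, h.zz]

theorem u_notMem (h : Fr T V z q t u) : u ∉ V := by
  intro hu
  have := h.sq u hu
  rw [h.uu] at this
  exact h.z_ne this

theorem us_cases (h : Fr T V z q t u) {a : G} (ha : a ∈ us V z) :
    a ∈ V ∨ ∃ v ∈ V, a = u * v := by
  by_cases haV : a ∈ V
  · exact Or.inl haV
  · refine Or.inr ⟨u⁻¹ * a, h.mul_mem_V (inv_mem h.u_us) ha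
      (fun e => h.u_notMem (inv_mem_iff.mp e)) haV, by group⟩

/-- commuting with `t` inside `V` -/
theorem V_comm_t (h : Fr T V z q t u) {v : G} (hv : v ∈ V) (hvt : v * t = t * v) : v = 1 ∨ v = z := by
  rcases h.four' hv with rfl | rfl | rfl | rfl
  · exact Or.inl rfl
  · exact Or.inr rfl
  · exfalso
    rw [h.qt] at hvt
    exact h.z_ne (by simpa using hvt)
  · exfalso
    have h1 : z * q * t = z * (t * (z * q)) := by
      rw [mul_assoc, h.qt]
      calc z * (z * (t * q)) = z * ((z * t) * q) := by group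
        _ = z * ((t * z) * q) := by rw [h.zt.eq]
        _ = z * (t * (z * q)) := by group
    rw [h1] at hvt
    exact h.z_ne (by simpa using hvt)

theorem conj_u (h : Fr T V z q t u) {g : G} (hg : g ∈ centralizer (V : Set G)) :
    g * u * g⁻¹ = u ∨ g * u * g⁻¹ = z * u := by
  have hgz : g ∈ centralizer ({z} : Set G) := centralizer_le_of_mem h.z_mem hg
  have hws := Cfsg.Agent.MinSimple.Geo.centralizer_le_normalizer_ws V z
  have h1 : g * u * g⁻¹ ∈ us V z := by
    refine ⟨conj_mem_of_normalizer hws hgz h.u_mem, ?_⟩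
    exact (centralizer (V : Set G)).mul_mem ((centralizer (V : Set G)).mul_mem hg h.u_cent)
      ((centralizer (V : Set G)).inv_mem hg)
  have h2 : ∀ w ∈ ws V z, Commute (g * u * g⁻¹) w := by
    intro w hw
    have h3 := h.uc _ (conj_mem_of_normalizer' hws hgz hw)
    change g * u * g⁻¹ * w = w * (g * u * g⁻¹)
    calc g * u * g⁻¹ * w = g * (u * (g⁻¹ * w * g)) * g⁻¹ := by group
      _ = g * ((g⁻¹ * w * g) * u) * g⁻¹ := by rw [h3]
      _ = w * (g * u * g⁻¹) := by group
  rcases h.us_cases h1 with h3 | ⟨v, hv, e⟩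
  · exfalso
    have h4 := h.sq _ h3
    have h5 : g * u * g⁻¹ * (g * u * g⁻¹) = g * (u * u) * g⁻¹ := by group
    rw [h5, h.uu, (h.cz hg).eq, mul_inv_cancel_right] at h4
    exact h.z_ne h4
  · have h3 : Commute v t := by
      have e' : v = u⁻¹ * (g * u * g⁻¹) := by rw [e]; group
      rw [e']
      exact h.ut.inv_left.mul_left (h2 t h.t_mem)
    rcases h.V_comm_t hv h3.eq with rfl | rfl
    · left; rw [e, mul_one]
    · right; rw [e, h.uz.eq]

theorem conj_t (h : Fr T V z q t u) {g : G} (hg : g ∈ centralizer (V : Set G)) :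
    g * t * g⁻¹ = t ∨ g * t * g⁻¹ = z * t ∨ g * t * g⁻¹ = t * (u * q) ∨
      g * t * g⁻¹ = z * (t * (u * q)) := by
  have hgz : g ∈ centralizer ({z} : Set G) := centralizer_le_of_mem h.z_mem hg
  have hws := Cfsg.Agent.MinSimple.Geo.centralizer_le_normalizer_ws V z
  have h1 : g * t * g⁻¹ ∈ ws V z := conj_mem_of_normalizer hws hgz h.t_mem
  have h1V : g * t * g⁻¹ ∉ centralizer (V : Set G) := by
    intro e
    apply h.tV
    have := (centralizer (V : Set G)).mul_mem ((centralizer (V : Set G)).mul_mem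
      ((centralizer (V : Set G)).inv_mem hg) e) hg
    have e2 : g⁻¹ * (g * t * g⁻¹) * g = t := by group
    rwa [e2] at this
  have htV' : t⁻¹ ∉ centralizer (V : Set G) := fun e => h.tV (inv_mem_iff.mp e)
  have h2 : t⁻¹ * (g * t * g⁻¹) ∈ us V z :=
    h.us_two (inv_mem h.t_mem) htV' h1 h1V
  have h3 : g * t * g⁻¹ * (g * t * g⁻¹) = 1 := by
    have : g * t * g⁻¹ * (g * t * g⁻¹) = g * (t * t) * g⁻¹ := by group
    rw [this, h.tt]; group
  have hz := h.z_ne
  rcases h.us_cases h2 with h4 | ⟨v, hv, e⟩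
  · set v := t⁻¹ * (g * t * g⁻¹) with hv
    have e : g * t * g⁻¹ = t * v := by rw [hv]; group
    have h5 : v * t = t * v := by
      rw [e] at h3
      have h6 : t * v = (t * v)⁻¹ := eq_inv_of_mul_eq_one_left h3
      have h7 : (t * v)⁻¹ = v * t := by
        rw [mul_inv_rev, h.inv_eq h4, inv_eq_self h.tt]
      rw [← h7, ← h6]
    rcases h.V_comm_t h4 h5 with e1 | e1
    · left; rw [e, e1, mul_one]
    · right; left; rw [e, e1, h.zt.eq]
  · have e' : g * t * g⁻¹ = t * (u * v) := by rw [← e]; group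
    rcases h.four' hv with rfl | rfl | rfl | rfl
    · exfalso
      rw [e', mul_one] at h3
      have : t * u * (t * u) = t * (u * t) * u := by group
      rw [this, h.ut.eq] at h3
      have : t * (t * u) * u = (t * t) * (u * u) := by group
      rw [this, h.tt, h.uu, one_mul] at h3
      exact hz h3
    · exfalso
      rw [e'] at h3
      have c1 : Commute (t * (u * v)) (u * v) :=
        ((h.ut.symm.mul_right h.zt.symm)).mul_left (Commute.refl _)
      have : t * (u * v) * (t * (u * v)) = t * (t * (u * v)) * (u * v) := by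
        rw [mul_assoc t (u * v), ← c1.eq]; group
      rw [this] at h3
      have : t * (t * (u * v)) * (u * v) = (t * t) * (u * (v * u) * v) := by group
      rw [this, h.tt, one_mul, ← h.uz.eq] at h3
      have : u * (u * v) * v = (u * u) * (v * v) := by group
      rw [this, h.uu, h.zz, mul_one] at h3
      exact hz h3
    · right; right; left; exact e'
    · right; right; right
      rw [e']
      calc t * (u * (z * q)) = t * ((u * z) * q) := by group
        _ = (t * z) * (u * q) := by rw [h.uz.eq]; group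
        _ = z * (t * (u * q)) := by rw [← h.zt.eq]; group

/-- product of two elements of the second kind -/
theorem type_mul (h : Fr T V z q t u) {g g' : G} (hg : g ∈ centralizer (V : Set G))
    (hg' : g' ∈ centralizer (V : Set G)) (h1 : ¬ (g * t * g⁻¹ = t ∨ g * t * g⁻¹ = z * t))
    (h2 : ¬ (g' * t * g'⁻¹ = t ∨ g' * t * g'⁻¹ = z * t)) :
    g * g' * t * (g * g')⁻¹ = t ∨ g * g' * t * (g * g')⁻¹ = z * t := by
  push Not at h1 h2
  have c1 := h.cz hg
  have c2 := h.cq hg
  have cuq := h.uq
  have cuz := h.uz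
  have czt := h.zt
  have e0 : g * g' * t * (g * g')⁻¹ = g * (g' * t * g'⁻¹) * g⁻¹ := by group
  -- conjugates of `t * (u * q)`
  have e1 : g * (t * (u * q)) * g⁻¹ = t ∨ g * (t * (u * q)) * g⁻¹ = z * t := by
    have e2 : g * (t * (u * q)) * g⁻¹ = (g * t * g⁻¹) * ((g * u * g⁻¹) * (g * q * g⁻¹)) := by group
    have e3 : g * q * g⁻¹ = q := by rw [c2.eq, mul_inv_cancel_right]
    rw [e2, e3]
    have e4 : t * (u * q) * (u * q) = z * t := by
      calc t * (u * q) * (u * q) = t * (u * (q * u) * q) := by group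
        _ = t * (u * (u * q) * q) := by rw [cuq.eq]
        _ = t * ((u * u) * (q * q)) := by group
        _ = z * t := by rw [h.uu, h.qq, mul_one, ← czt.eq]
    have e5 : t * (u * q) * (z * u * q) = t := by
      have : z * u * q = u * q * z := by
        rw [mul_assoc, (h.uz.symm.mul_right h.zq).eq]
      rw [this, ← mul_assoc, e4, mul_assoc, ← czt.eq, ← mul_assoc, h.zz, one_mul]
    rcases h.conj_t hg with f | f | f | f
    · exact absurd f h1.1
    · exact absurd f h1.2
    · rcases h.conj_u hg with k | k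
      · right; rw [f, k, e4]
      · left; rw [f, k, e5]
    · rcases h.conj_u hg with k | k
      · left; rw [f, k, mul_assoc, e4, ← mul_assoc, h.zz, one_mul]
      · right; rw [f, k, mul_assoc, e5]
  rw [e0]
  rcases h.conj_t hg' with f | f | f | f
  · exact absurd f h2.1
  · exact absurd f h2.2
  · rw [f]; exact e1
  · rw [f]
    have e2 : g * (z * (t * (u * q))) * g⁻¹ = z * (g * (t * (u * q)) * g⁻¹) := by
      rw [← mul_assoc, c1.eq]; group
    rw [e2]
    rcases e1 with k | k
    · right; rw [k]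
    · left; rw [k, ← mul_assoc, h.zz, one_mul]

/-- `C_G(ws V z) = ⟨u⟩` -/
theorem cent (h : Fr T V z q t u) {x : G} (hx : ∀ w ∈ ws V z, x * w = w * x) :
    x = 1 ∨ x = z ∨ x = u ∨ x = z * u := by
  obtain ⟨T', t', u', h'⟩ := h.other
  have hxV : x ∈ centralizer (V : Set G) := mem_centralizer_iff.mpr fun v hv =>
    (hx v (h.V_le_ws hv)).symm
  have key : ∀ x : G, (∀ w ∈ ws V z, x * w = w * x) →
      (x * t' * x⁻¹ = t' ∨ x * t' * x⁻¹ = q * t') → x = 1 ∨ x = z := fun x hx hxt =>
    h'.eq_of_comm h.z_mem h.z_ne (Ne.symm h.q_nz) h'.t_mem h'.tV hx hxt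
  by_cases h1 : x * t' * x⁻¹ = t' ∨ x * t' * x⁻¹ = q * t'
  · rcases key x hx h1 with e | e
    · exact Or.inl e
    · exact Or.inr (Or.inl e)
  · have h2 : ¬ (u * t' * u⁻¹ = t' ∨ u * t' * u⁻¹ = q * t') := by
      intro h3
      rcases key u h.uc h3 with e | e
      · apply h.z_ne; rw [← h.uu, e, one_mul]
      · apply h.z_ne
        have := h.uu
        rw [e, h.zz] at this
        exact this.symm
    have h3 := h'.type_mul hxV h.u_cent h1 h2
    have h4 : ∀ w ∈ ws V z, x * u * w = w * (x * u) := fun w hw =>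
      (Commute.mul_left (hx w hw : Commute x w) (h.uc w hw)).eq
    rcases key _ h4 h3 with e | e
    · right; right; right
      rw [← h.u_inv]; exact eq_inv_of_mul_eq_one_left e
    · right; right; left
      have : x = z * u⁻¹ := by rw [← e]; group
      rw [this, h.u_inv, ← mul_assoc, h.zz, one_mul]

theorem centralizer_ws_le (h : Fr T V z q t u) {x : G} (hx : ∀ w ∈ ws V z, x * w = w * x) :
    x ∈ us V z := by
  have hz : z ∈ us V z := h.V_le_us h.z_mem
  rcases h.cent hx with rfl | rfl | rfl | rfl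
  · exact one_mem _
  · exact hz
  · exact h.u_us
  · exact mul_mem hz h.u_us

/-- an element centralizing `V`, `u`, and `t` modulo `z` is in `us V z` -/
theorem mem_us (h : Fr T V z q t u) {g : G} (hg : g ∈ centralizer (V : Set G)) (hgu : g * u = u * g)
    (h1 : g * t * g⁻¹ = t ∨ g * t * g⁻¹ = z * t) : g ∈ us V z := by
  have hq : q ∈ us V z := h.V_le_us h.q_mem
  have key : ∀ g : G, g ∈ centralizer (V : Set G) → Commute g u → Commute g t → g ∈ us V z := by
    intro g hg c1 c2
    apply h.centralizer_ws_le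
    have hus : ∀ a ∈ us V z, Commute g a := by
      intro a ha
      rcases h.us_cases ha with h3 | ⟨v, hv, rfl⟩
      · exact comm_V hg h3
      · exact c1.mul_right (comm_V hg hv)
    intro w hw
    by_cases hwV : w ∈ centralizer (V : Set G)
    · exact (hus w ⟨hw, hwV⟩).eq
    · have htV' : t⁻¹ ∉ centralizer (V : Set G) := fun e => h.tV (inv_mem_iff.mp e)
      have h3 := hus _ (h.us_two (inv_mem h.t_mem) htV' hw hwV)
      have : w = t * (t⁻¹ * w) := by group
      rw [this]
      exact (c2.mul_right h3).eq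
  rcases h1 with e | e
  · refine key g hg hgu ?_
    change g * t = t * g
    calc g * t = (g * t * g⁻¹) * g := by group
      _ = t * g := by rw [e]
  · have h2 : g * q ∈ us V z := by
      refine key _ ((centralizer (V : Set G)).mul_mem hg hq.2) ?_ ?_
      · exact Commute.mul_left hgu h.uq.symm
      · change g * q * t = t * (g * q)
        have c1 := h.cz hg
        calc g * q * t = g * (q * t) := by group
          _ = g * (z * (t * q)) := by rw [h.qt]
          _ = (g * z) * t * q := by group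
          _ = z * (g * t * g⁻¹) * g * q := by rw [c1.eq]; group
          _ = (z * z) * t * g * q := by rw [e]; group
          _ = t * (g * q) := by rw [h.zz]; group
    have : g = (g * q) * q⁻¹ := by group
    rw [this]
    exact mul_mem h2 (inv_mem hq)

/-- membership in `kq` -/
theorem mem_kq (h : Fr T V z q t u) {g : G} (hg : g ∈ centralizer (V : Set G))
    (h1 : g * t * g⁻¹ = t ∨ g * t * g⁻¹ = z * t) : g ∈ kq V z := by
  have key : ∀ g : G, g ∈ centralizer (V : Set G) → (g * t * g⁻¹ = t ∨ g * t * g⁻¹ = z * t) →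
      ∀ w ∈ ws V z, g * w * g⁻¹ * w⁻¹ ∈ zpowers z := by
    intro g hg h1
    have hgz : g ∈ centralizer ({z} : Set G) := centralizer_le_of_mem h.z_mem hg
    let A : Subgroup G :=
      { carrier := {w | w ∈ ws V z ∧ g * w * g⁻¹ * w⁻¹ ∈ zpowers z}
        mul_mem' := by
          rintro a b ⟨ha, ha1⟩ ⟨hb, hb1⟩
          refine ⟨mul_mem ha hb, ?_⟩
          have e : g * (a * b) * g⁻¹ * (a * b)⁻¹ =
              (g * a * g⁻¹ * a⁻¹) * (a * (g * b * g⁻¹ * b⁻¹) * a⁻¹) := by group
          rw [e, zpowers_conj (h.ws_le_centralizer ha) hb1]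
          exact mul_mem ha1 hb1
        one_mem' := ⟨one_mem _, by simp⟩
        inv_mem' := by
          rintro a ⟨ha, ha1⟩
          refine ⟨inv_mem ha, ?_⟩
          have h1 := inv_mem ha1
          have h2 := zpowers_conj (h.ws_le_centralizer (inv_mem ha)) h1
          have e : g * a⁻¹ * g⁻¹ * a⁻¹⁻¹ = a⁻¹ * (g * a * g⁻¹ * a⁻¹)⁻¹ * a⁻¹⁻¹ := by group
          rw [e, h2]; exact h1 }
    have hVA : ∀ v ∈ V, v ∈ A := by
      intro v hv
      refine ⟨h.V_le_ws hv, ?_⟩
      rw [comm_V hg hv, mul_inv_cancel_right, mul_inv_cancel]; exact one_mem _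
    have huA : u ∈ A := by
      refine ⟨h.u_mem, ?_⟩
      rcases h.conj_u hg with e | e
      · rw [e, mul_inv_cancel]; exact one_mem _
      · rw [e, mul_inv_cancel_right]; exact mem_zpowers z
    have htA : t ∈ A := by
      refine ⟨h.t_mem, ?_⟩
      rcases h1 with e | e
      · rw [e, mul_inv_cancel]; exact one_mem _
      · rw [e, mul_inv_cancel_right]; exact mem_zpowers z
    have husA : ∀ a ∈ us V z, a ∈ A := by
      intro a ha
      rcases h.us_cases ha with h3 | ⟨v, hv, rfl⟩
      · exact hVA a h3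
      · exact mul_mem huA (hVA v hv)
    intro w hw
    by_cases hwV : w ∈ centralizer (V : Set G)
    · exact (husA w ⟨hw, hwV⟩).2
    · have htV' : t⁻¹ ∉ centralizer (V : Set G) := fun e => h.tV (inv_mem_iff.mp e)
      have h3 := husA _ (h.us_two (inv_mem h.t_mem) htV' hw hwV)
      have : w = t * (t⁻¹ * w) := by group
      rw [this]
      exact (mul_mem htA h3).2
  have hginv : g⁻¹ * t * g⁻¹⁻¹ = t ∨ g⁻¹ * t * g⁻¹⁻¹ = z * t := by
    have c1 : Commute g⁻¹ z := (h.cz hg).inv_left
    rcases h1 with e | e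
    · left
      calc g⁻¹ * t * g⁻¹⁻¹ = g⁻¹ * (g * t * g⁻¹) * g := by rw [e]; group
        _ = t := by group
    · right
      have h2 : t = z * (g * t * g⁻¹) := by rw [e, ← mul_assoc, h.zz, one_mul]
      calc g⁻¹ * t * g⁻¹⁻¹ = g⁻¹ * (z * (g * t * g⁻¹)) * g := by rw [← h2]; group
        _ = (g⁻¹ * z) * g * t := by group
        _ = z * t := by rw [c1.eq]; group
  rw [BTwoB.mem_kq]
  refine ⟨centralizer_le_of_mem h.z_mem hg, key g hg h1, fun w hw => ?_⟩
  have := key g⁻¹ ((centralizer (V : Set G)).inv_mem hg) hginv w hw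
  rwa [inv_inv] at this

theorem type_of_mem_kq (h : Fr T V z q t u) {g : G} (hg : g ∈ kq V z) :
    g * t * g⁻¹ = t ∨ g * t * g⁻¹ = z * t := by
  have h1 := (BTwoB.mem_kq.mp hg).2.1 t h.t_mem
  rcases (mem_zpowers_iff_of_mul_self h.zz).mp h1 with e | e
  · left
    calc g * t * g⁻¹ = (g * t * g⁻¹ * t⁻¹) * t := by group
      _ = t := by rw [e, one_mul]
  · right
    calc g * t * g⁻¹ = (g * t * g⁻¹ * t⁻¹) * t := by group
      _ = z * t := by rw [e]

theorem comm_ws (h : Fr T V z q t u) {g : G} (hg : g ∈ centralizer (V : Set G)) (c1 : Commute g u)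
    (c2 : Commute g t) : ∀ w ∈ ws V z, g * w = w * g := by
  have hus : ∀ a ∈ us V z, Commute g a := by
    intro a ha
    rcases h.us_cases ha with h3 | ⟨v, hv, rfl⟩
    · exact comm_V hg h3
    · exact c1.mul_right (comm_V hg hv)
  intro w hw
  by_cases hwV : w ∈ centralizer (V : Set G)
  · exact (hus w ⟨hw, hwV⟩).eq
  · have htV' : t⁻¹ ∉ centralizer (V : Set G) := fun e => h.tV (inv_mem_iff.mp e)
    have h3 := hus _ (h.us_two (inv_mem h.t_mem) htV' hw hwV)
    have : w = t * (t⁻¹ * w) := by group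
    rw [this]
    exact (c2.mul_right h3).eq

theorem type_mul_type (h : Fr T V z q t u) {g g' : G} (hg : g ∈ centralizer (V : Set G))
    (h1 : g * t * g⁻¹ = t ∨ g * t * g⁻¹ = z * t) (h2 : g' * t * g'⁻¹ = t ∨ g' * t * g'⁻¹ = z * t) :
    g * g' * t * (g * g')⁻¹ = t ∨ g * g' * t * (g * g')⁻¹ = z * t := by
  have e0 : g * g' * t * (g * g')⁻¹ = g * (g' * t * g'⁻¹) * g⁻¹ := by group
  have c1 := h.cz hg
  rw [e0]
  rcases h2 with e | e
  · rw [e]; exact h1
  · rw [e]
    have e2 : g * (z * t) * g⁻¹ = z * (g * t * g⁻¹) := by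
      rw [← mul_assoc, c1.eq]; group
    rw [e2]
    rcases h1 with k | k
    · right; rw [k]
    · left; rw [k, ← mul_assoc, h.zz, one_mul]

/-- the element `u'` of the other frame is not of the first kind -/
theorem not_type (h : Fr T V z q t u) {T' : Subgroup G} {t' u' : G} (h' : Fr T' V q z t' u') :
    ¬ (u' * t * u'⁻¹ = t ∨ u' * t * u'⁻¹ = z * t) := by
  intro h3
  rcases h.eq_of_comm h.q_mem h.q_ne h.q_nz h.t_mem h.tV h'.uc h3 with e | e
  · apply h.q_ne; rw [← h'.uu, e, one_mul]
  · apply h.q_ne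
    have := h'.uu
    rw [e, h.qq] at this
    exact this.symm

theorem comm_uu (h : Fr T V z q t u) {T' : Subgroup G} {t' u' : G} (h' : Fr T' V q z t' u') :
    Commute u u' := by
  have cq := h.uq
  rcases h'.conj_u h.u_cent with e | e
  · change u * u' = u' * u
    calc u * u' = (u * u' * u⁻¹) * u := by group
      _ = u' * u := by rw [e]
  · exfalso
    have e1 : u * u' = q * (u' * u) := by
      calc u * u' = (u * u' * u⁻¹) * u := by group
        _ = q * (u' * u) := by rw [e]; group
    have e2 : u' * u * u'⁻¹ = q * u := by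
      have e3 : u' * u = q * (u * u') := by rw [e1, ← mul_assoc, h.qq, one_mul]
      rw [e3]; group
    rcases h.conj_u h'.u_cent with f | f
    · rw [e2] at f
      exact h.q_ne (by simpa using f)
    · rw [e2] at f
      exact h.q_nz (mul_right_cancel f)

theorem centralizer_le_normalizer_us {V : Subgroup G} {p : G} (hp : p ∈ V) :
    centralizer (V : Set G) ≤ normalizer ((us V p : Subgroup G) : Set G) := by
  refine le_normalizer_of_forall fun g hg a ha => ?_
  have h1 := conj_mem_us (centralizer_le_normalizer _ hg) ha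
  have h2 : g * p * g⁻¹ = p := by rw [comm_V hg hp, mul_inv_cancel_right]
  rwa [h2] at h1

/-- the elements of `rr V` -/
theorem rr_cases (h : Fr T V z q t u) {T' : Subgroup G} {t' u' : G} (h' : Fr T' V q z t' u') {x : G}
    (hx : x ∈ rr V) : ∃ v ∈ V, x = v ∨ x = u * v ∨ x = u' * v ∨ x = u * u' * v := by
  rw [BTwoB.BTwo.rr_eq h.toBTwo h.q_mem h.q_ne h.q_nz, ← SetLike.mem_coe,
    coe_mul_of_right_le_normalizer_left _ _
      ((us_le_centralizer V q).trans (centralizer_le_normalizer_us h.z_mem))] at hx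
  obtain ⟨a, ha, b, hb, rfl⟩ := hx
  simp only
  have hv : ∀ {v v' : G}, v ∈ V → v' ∈ V → v * v' ∈ V := fun hv hv' => mul_mem hv hv'
  rcases h.us_cases ha with h1 | ⟨v1, hv1, rfl⟩ <;> rcases h'.us_cases hb with h2 | ⟨v2, hv2, rfl⟩
  · exact ⟨a * b, hv h1 h2, Or.inl rfl⟩
  · refine ⟨a * v2, hv h1 hv2, Or.inr (Or.inr (Or.inl ?_))⟩
    rw [← mul_assoc, ← comm_V h'.u_cent h1, mul_assoc]
  · exact ⟨v1 * b, hv hv1 h2, Or.inr (Or.inl (mul_assoc _ _ _))⟩
  · refine ⟨v1 * v2, hv hv1 hv2, Or.inr (Or.inr (Or.inr ?_))⟩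
    have := comm_V h'.u_cent hv1
    calc u * v1 * (u' * v2) = u * (v1 * u') * v2 := by group
      _ = u * u' * (v1 * v2) := by rw [← this]; group

/-- squares of the elements `u v`, `u' v`, `u u' v` -/
theorem sq_uv (h : Fr T V z q t u) {v : G} (hv : v ∈ V) : u * v * (u * v) = z := by
  have := comm_V h.u_cent hv
  calc u * v * (u * v) = u * (v * u) * v := by group
    _ = (u * u) * (v * v) := by rw [← this]; group
    _ = z := by rw [h.uu, h.sq v hv, mul_one]

theorem sq_uuv (h : Fr T V z q t u) {T' : Subgroup G} {t' u' : G} (h' : Fr T' V q z t' u') {v : G}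
    (hv : v ∈ V) : u * u' * v * (u * u' * v) = z * q := by
  have c1 := comm_V h.u_cent hv
  have c2 := comm_V h'.u_cent hv
  have c3 := h.comm_uu h'
  calc u * u' * v * (u * u' * v) = u * u' * (v * u) * u' * v := by group
    _ = u * (u' * u) * (v * u') * v := by rw [← c1]; group
    _ = (u * u) * (u' * u') * (v * v) := by rw [← c2, ← c3.eq]; group
    _ = z * q := by rw [h.uu, h'.uu, h.sq v hv, mul_one]

theorem zq_ne (h : Fr T V z q t u) : z * q ≠ 1 := fun e => h.q_nz (by
  have := mul_eq_one_iff_eq_inv.mp e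
  rw [h.inv_eq h.q_mem] at this; exact this.symm)

/-- the involutions of `rr V` are in `V` -/
theorem mem_V_of_sq (h : Fr T V z q t u) {x : G} (hx : x ∈ rr V) (h2 : x * x = 1) : x ∈ V := by
  obtain ⟨T', t', u', h'⟩ := h.other
  obtain ⟨v, hv, rfl | rfl | rfl | rfl⟩ := h.rr_cases h' hx
  · exact hv
  · rw [h.sq_uv hv] at h2; exact absurd h2 h.z_ne
  · rw [h'.sq_uv hv] at h2; exact absurd h2 h.q_ne
  · rw [h.sq_uuv h' hv] at h2; exact absurd h2 h.zq_ne

/-- `C_G(V) = rr V ∪ …` -/
theorem type_cases (h : Fr T V z q t u) {T' : Subgroup G} {t' u' : G} (h' : Fr T' V q z t' u') {g : G}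
    (hg : g ∈ centralizer (V : Set G)) : (g * t * g⁻¹ = t ∨ g * t * g⁻¹ = z * t) ∨
      (g * u' * t * (g * u')⁻¹ = t ∨ g * u' * t * (g * u')⁻¹ = z * t) := by
  by_cases h1 : g * t * g⁻¹ = t ∨ g * t * g⁻¹ = z * t
  · exact Or.inl h1
  · exact Or.inr (h.type_mul hg h'.u_cent h1 (h.not_type h'))

theorem us_le_rr' (h : Fr T V z q t u) : us V z ≤ rr V := us_le_rr h.z_mem h.z_ne

theorem u_rr (h : Fr T V z q t u) : u ∈ rr V := h.us_le_rr' h.u_us

/-- either `C_G(V) = rr V` or there is an additional element `e` -/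
theorem dichotomy (h : Fr T V z q t u) : centralizer (V : Set G) ≤ rr V ∨
    ∃ e ∈ centralizer (V : Set G), (e * t * e⁻¹ = t ∨ e * t * e⁻¹ = z * t) ∧ e * u * e⁻¹ = z * u ∧
      (∀ g ∈ centralizer (V : Set G), g ∈ rr V ∨ e * g ∈ rr V) ∧
      ∀ g ∈ centralizer (V : Set G), (g * t * g⁻¹ = t ∨ g * t * g⁻¹ = z * t) →
        g ∈ us V z ∨ e * g ∈ us V z := by
  obtain ⟨T', t', u', h'⟩ := h.other
  by_cases hcon : ∀ g ∈ centralizer (V : Set G), (g * t * g⁻¹ = t ∨ g * t * g⁻¹ = z * t) →
      g * u = u * g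
  · left
    intro g hg
    rcases h.type_cases h' hg with h1 | h1
    · exact h.us_le_rr' (h.mem_us hg (hcon g hg h1) h1)
    · have hgu : g * u' ∈ centralizer (V : Set G) := (centralizer (V : Set G)).mul_mem hg h'.u_cent
      have h2 := h.us_le_rr' (h.mem_us hgu (hcon _ hgu h1) h1)
      have : g = g * u' * u'⁻¹ := by group
      rw [this]
      exact mul_mem h2 (inv_mem h'.u_rr)
  · right
    push Not at hcon
    obtain ⟨e, he, he1, he2⟩ := hcon
    have heu : e * u * e⁻¹ = z * u := by
      refine (h.conj_u he).resolve_left fun f => he2 ?_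
      calc e * u = (e * u * e⁻¹) * e := by group
        _ = u * e := by rw [f]
    have key : ∀ g ∈ centralizer (V : Set G), (g * t * g⁻¹ = t ∨ g * t * g⁻¹ = z * t) →
        g ∈ us V z ∨ e * g ∈ us V z := by
      intro g hg h1
      rcases h.conj_u hg with f | f
      · left
        refine h.mem_us hg ?_ h1
        calc g * u = (g * u * g⁻¹) * g := by group
          _ = u * g := by rw [f]
      · right
        have heg : e * g ∈ centralizer (V : Set G) := (centralizer (V : Set G)).mul_mem he hg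
        refine h.mem_us heg ?_ (h.type_mul_type he he1 h1)
        have c1 := h.cz he
        calc e * g * u = e * (g * u * g⁻¹) * g := by group
          _ = (e * z) * u * g := by rw [f]; group
          _ = z * (e * u * e⁻¹) * e * g := by rw [c1.eq]; group
          _ = (z * z) * (u * (e * g)) := by rw [heu]; group
          _ = u * (e * g) := by rw [h.zz, one_mul]
    refine ⟨e, he, he1, heu, ?_, key⟩
    intro g hg
    rcases h.type_cases h' hg with h1 | h1
    · rcases key g hg h1 with f | f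
      · exact Or.inl (h.us_le_rr' f)
      · exact Or.inr (h.us_le_rr' f)
    · have hgu : g * u' ∈ centralizer (V : Set G) := (centralizer (V : Set G)).mul_mem hg h'.u_cent
      rcases key _ hgu h1 with f | f
      · left
        have : g = g * u' * u'⁻¹ := by group
        rw [this]
        exact mul_mem (h.us_le_rr' f) (inv_mem h'.u_rr)
      · right
        have : e * g = e * (g * u') * u'⁻¹ := by group
        rw [this]
        exact mul_mem (h.us_le_rr' f) (inv_mem h'.u_rr)

/-- `rr V` is abelian -/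
theorem rr_comm (h : Fr T V z q t u) {x y : G} (hx : x ∈ rr V) (hy : y ∈ rr V) : Commute x y := by
  obtain ⟨T', t', u', h'⟩ := h.other
  have cV : ∀ v ∈ V, ∀ v' ∈ V, Commute v v' := fun v hv v' hv' => h.comm hv hv'
  have c1 : ∀ v ∈ V, Commute u v := fun v hv => comm_V h.u_cent hv
  have c2 : ∀ v ∈ V, Commute u' v := fun v hv => comm_V h'.u_cent hv
  have c3 := h.comm_uu h'
  obtain ⟨v, hv, hx'⟩ := h.rr_cases h' hx
  obtain ⟨v', hv', hy'⟩ := h.rr_cases h' hy
  have hu : ∀ y, (y = v' ∨ y = u * v' ∨ y = u' * v' ∨ y = u * u' * v') → Commute u y := by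
    rintro y (rfl | rfl | rfl | rfl)
    · exact c1 _ hv'
    · exact (Commute.refl u).mul_right (c1 _ hv')
    · exact c3.mul_right (c1 _ hv')
    · exact ((Commute.refl u).mul_right c3).mul_right (c1 _ hv')
  have hu' : ∀ y, (y = v' ∨ y = u * v' ∨ y = u' * v' ∨ y = u * u' * v') → Commute u' y := by
    rintro y (rfl | rfl | rfl | rfl)
    · exact c2 _ hv'
    · exact c3.symm.mul_right (c2 _ hv')
    · exact (Commute.refl u').mul_right (c2 _ hv')
    · exact (c3.symm.mul_right (Commute.refl u')).mul_right (c2 _ hv')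
  have hvy : ∀ y, (y = v' ∨ y = u * v' ∨ y = u' * v' ∨ y = u * u' * v') → Commute v y := by
    rintro y (rfl | rfl | rfl | rfl)
    · exact cV _ hv _ hv'
    · exact (c1 v hv).symm.mul_right (cV _ hv _ hv')
    · exact (c2 v hv).symm.mul_right (cV _ hv _ hv')
    · exact ((c1 v hv).symm.mul_right (c2 v hv).symm).mul_right (cV _ hv _ hv')
  rcases hx' with rfl | rfl | rfl | rfl
  · exact hvy y hy'
  · exact (hu y hy').mul_left (hvy y hy')
  · exact (hu' y hy').mul_left (hvy y hy')
  · exact ((hu y hy').mul_left (hu' y hy')).mul_left (hvy y hy')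

end Fr

end Cfsg.Agent.OddCyclic.BTwoEndB
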