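import Mathlib
import Cfsg.Agent.OddCyclic.BTwoD
import Cfsg.Agent.OddCyclic.BTwoEndB
import Cfsg.Agent.Transfer.ThompsonTransfer

/-!
# (E1) with `|V| = 4`, `b = 2`: the case `ws V z ≅ 4 ∘ Q₈`, part C

* `exists_sylow`: `T` is a Sylow 2-subgroup of `G`;
* `Fr.pRankLE`: if `C_G(V) = rr V`, then `G` has 2-rank at most 2;
* `Fr.exists_index_two`: if `C_G(V) ≠ rr V`, then `G` has a normal subgroup of index 2;
* `One.main`: the conclusion.
-/

set_option autoImplicit false
set_option linter.dupNamespace false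
set_option linter.unusedSectionVars false
set_option linter.style.haveILetI false

namespace Cfsg.Agent.OddCyclic.BTwoEndC

open Subgroup Cfsg Cfsg.Agent.ZN Cfsg.Agent.MinSimple.Geo Cfsg.Agent.OddCyclic.GeoC
  Cfsg.Agent.OddCyclic.BTwoA
  Cfsg.Agent.OddCyclic.BTwoB Cfsg.Agent.OddCyclic.BTwoEnd Cfsg.Agent.OddCyclic.BTwoEndB
open Cfsg.Agent.ZN.Block (conj_mem_of_normalizer conj_mem_of_normalizer' le_normalizer_of_forall
  mem_normalizer_of)

universe u

variable {G : Type u} [Group G] [Finite G] {T V : Subgroup G} {z q t u : G}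

/-- `T` is a Sylow 2-subgroup of `G` -/
theorem exists_sylow (h : GeoC T V z) : ∃ P : Sylow 2 G, (P : Subgroup G) = T := by
  haveI : Fact (Nat.Prime 2) := ⟨Nat.prime_two⟩
  obtain ⟨P, hP⟩ := h.two.exists_le_sylow
  refine ⟨P, ?_⟩
  set C := centralizer ({z} : Set G) with hC
  -- `P ∩ C_G(z) = T`
  have hPC : (P : Subgroup G) ⊓ C ≤ T := by
    have h1 : T ≤ (P : Subgroup G) ⊓ C := le_inf hP h.T_le
    have h2 := relIndex_mul_relIndex T ((P : Subgroup G) ⊓ C) C h1 inf_le_right
    have h3 : IsPGroup 2 ((P : Subgroup G) ⊓ C : Subgroup G) := P.isPGroup'.to_le inf_le_left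
    obtain ⟨n, hn⟩ := h3.index (T.subgroupOf ((P : Subgroup G) ⊓ C))
    have h4 : T.relIndex ((P : Subgroup G) ⊓ C) = 2 ^ n := hn
    have hn0 : n = 0 := by
      by_contra hn0
      apply h.T_syl
      rw [← hC, ← h2, h4]
      exact (dvd_pow_self 2 hn0).mul_right _
    rw [hn0, pow_zero, relIndex_eq_one] at h4
    exact h4
  by_contra hne
  have hlt : (T.subgroupOf (P : Subgroup G)) < ⊤ := by
    refine lt_of_le_of_ne le_top fun e => hne ?_
    rw [subgroupOf_eq_top] at e
    exact le_antisymm e hP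
  haveI : Group.IsNilpotent (P : Subgroup G) := P.isPGroup'.isNilpotent
  obtain ⟨g, hg, hgT⟩ := SetLike.exists_of_lt
    (Group.normalizerCondition_of_isNilpotent (G := (P : Subgroup G)) _ hlt)
  apply hgT
  rw [mem_subgroupOf]
  have hgn : ∀ s ∈ T, (g : G) * s * (g : G)⁻¹ ∈ T := by
    intro s hs
    have h1 := (mem_normalizer_iff.mp hg ⟨s, hP hs⟩).mp (mem_subgroupOf.mpr hs)
    exact mem_subgroupOf.mp h1
  have hgn' : ∀ s ∈ T, (g : G)⁻¹ * s * (g : G) ∈ T := by
    intro s hs
    have h1 := (mem_normalizer_iff.mp (inv_mem hg) ⟨s, hP hs⟩).mp (mem_subgroupOf.mpr hs)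
    rw [inv_inv] at h1
    exact mem_subgroupOf.mp h1
  have hzT : z ∈ T := h.V_le h.z_mem
  apply hPC
  refine ⟨g.2, ?_⟩
  have h1 : (g : G) * z * (g : G)⁻¹ * ((g : G) * z * (g : G)⁻¹) = 1 := by
    calc (g : G) * z * (g : G)⁻¹ * ((g : G) * z * (g : G)⁻¹) = g * (z * z) * (g : G)⁻¹ := by group
      _ = 1 := by rw [h.zz]; group
  rcases h.soc _ (hgn z hzT) h1 (fun s hs => by
    have h2 := h.T_le (hgn' s hs)
    have h3 : ((g : G)⁻¹ * s * g) * z = z * ((g : G)⁻¹ * s * g) := mem_centralizer_singleton_iff.mp h2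
    calc s * (g * z * (g : G)⁻¹) = g * (((g : G)⁻¹ * s * g) * z) * (g : G)⁻¹ := by group
      _ = g * (z * ((g : G)⁻¹ * s * g)) * (g : G)⁻¹ := by rw [h3]
      _ = g * z * (g : G)⁻¹ * s := by group) with e | e
  · exfalso
    apply h.z_ne
    have : z = (g : G)⁻¹ * (g * z * (g : G)⁻¹) * g := by group
    rw [this, e]; group
  · change (g : G) ∈ centralizer ({z} : Set G)
    rw [mem_centralizer_singleton_iff]
    calc (g : G) * z = (g * z * (g : G)⁻¹) * g := by group
      _ = z * g := by rw [e]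

/-- a 2-subgroup of `G` has a conjugate in `T` -/
theorem exists_cj_le (h : GeoC T V z) {A : Subgroup G} (hA : IsPGroup 2 A) : ∃ g : G, cj g A ≤ T := by
  haveI : Fact (Nat.Prime 2) := ⟨Nat.prime_two⟩
  obtain ⟨P, hP⟩ := exists_sylow h
  obtain ⟨Q, hQ⟩ := hA.exists_le_sylow
  obtain ⟨g, hg⟩ := MulAction.exists_smul_eq G Q P
  refine ⟨g, ?_⟩
  rw [← hP, ← hg]
  rintro _ ⟨x, hx, rfl⟩
  change (MulAut.conj g) x ∈ ((g • Q : Sylow 2 G) : Subgroup G)
  rw [Sylow.smul_def]
  exact Subgroup.smul_mem_pointwise_smul x (MulAut.conj g) _ (hQ hx)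

namespace Fr

/-- the elements of `T` -/
theorem T_cases (h : Fr T V z q t u) {g : G} (hg : g ∈ T) :
    g ∈ centralizer (V : Set G) ∨ t * g ∈ centralizer (V : Set G) := by
  have cz : Commute g z := h.z_comm (h.T_le hg)
  rcases h.conj_cases h.z_mem h.q_mem h.z_ne (h.z_comm (h.T_le hg)) (h.T_norm hg) with e | e
  · left
    refine h.mem_cent cz ?_
    change g * q = q * g
    calc g * q = (g * q * g⁻¹) * g := by group
      _ = q * g := by rw [e]
  · right
    refine h.mem_cent (h.zt.symm.mul_left cz) ?_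
    have e1 : g * q = z * q * g := by
      calc g * q = (g * q * g⁻¹) * g := by group
        _ = z * q * g := by rw [e]
    change t * g * q = q * (t * g)
    calc t * g * q = t * (g * q) := by group
      _ = (t * z) * q * g := by rw [e1]; group
      _ = z * (t * q) * g := by rw [← h.zt.eq]; group
      _ = z * (z * (q * t)) * g := by rw [h.tq]
      _ = (z * z) * (q * (t * g)) := by group
      _ = q * (t * g) := by rw [h.zz, one_mul]

/-- **the case `C_G(V) = rr V`** -/
theorem pRankLE (h : Fr T V z q t u) (hr : centralizer (V : Set G) ≤ rr V) : PRankLE 2 2 G := by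
  -- subgroups of `T`
  have key : ∀ A : Subgroup G, A ≤ T → (∀ a ∈ A, ∀ b ∈ A, a * b = b * a) → (∀ a ∈ A, a * a = 1) →
      Nat.card A ≤ 4 := by
    intro A hAT hc hs
    have hcV : ∀ a ∈ A, a ∈ centralizer (V : Set G) → a ∈ V := fun a ha haV =>
      h.mem_V_of_sq (hr haV) (hs a ha)
    by_cases hAV : A ≤ centralizer (V : Set G)
    · have h1 : A ≤ V := fun a ha => hcV a ha (hAV ha)
      rw [← h.card_V]
      exact Nat.card_le_card_of_injective (inclusion h1) (inclusion_injective h1)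
    · obtain ⟨a, ha, haV⟩ := SetLike.not_le_iff_exists.mp hAV
      have hta : t * a ∈ centralizer (V : Set G) := (T_cases h (hAT ha)).resolve_left haV
      -- `a` moves `q`
      have haq : a * q = z * (q * a) := by
        have c1 := h.cq hta
        have c2 : t * (a * q) = t * (z * (q * a)) := by
          calc t * (a * q) = t * a * q := by group
            _ = q * (t * a) := c1.eq
            _ = (q * t) * a := by group
            _ = z * (t * q) * a := by rw [h.qt]
            _ = (z * t) * (q * a) := by group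
            _ = t * (z * (q * a)) := by rw [h.zt.eq]; group
        exact mul_left_cancel c2
      have hsub : ∀ b ∈ A, b ∈ centralizer (V : Set G) → b = 1 ∨ b = z := by
        intro b hb hbV
        have hab := hc a ha b hb
        rcases h.four' (hcV b hb hbV) with rfl | rfl | rfl | rfl
        · exact Or.inl rfl
        · exact Or.inr rfl
        · exfalso
          rw [haq] at hab
          exact h.z_ne (by simpa using hab)
        · exfalso
          have h1 : a * (z * q) = z * (z * q * a) := by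
            have : a * z = z * a := h.z_comm (h.T_le (hAT ha))
            calc a * (z * q) = (a * z) * q := by group
              _ = z * (a * q) := by rw [this]; group
              _ = z * (z * q * a) := by rw [haq]; group
          rw [h1] at hab
          exact h.z_ne (by simpa using hab)
      have hset : (A : Set G) ⊆ {1, z, a⁻¹ * 1, a⁻¹ * z} := by
        intro b hb
        rcases T_cases h (hAT hb) with hbV | hbV
        · rcases hsub b hb hbV with e | e
          · exact Or.inl e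
          · exact Or.inr (Or.inl e)
        · have h1 : a * b ∈ centralizer (V : Set G) := by
            have h2 := (centralizer (V : Set G)).mul_mem ((centralizer (V : Set G)).inv_mem hta) hbV
            have h3 : (t * a)⁻¹ * (t * b) = a * b := by
              rw [show (t * a)⁻¹ * (t * b) = a⁻¹ * b by group, inv_eq_self (hs a ha)]
            rwa [h3] at h2
          rcases hsub _ (mul_mem ha hb) h1 with e | e
          · right; right; left
            rw [← e]; group
          · right; right; right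
            change b = a⁻¹ * z
            rw [← e]; group
      have h1 := Set.ncard_le_ncard hset (Set.toFinite _)
      have h2 : ({1, z, a⁻¹ * 1, a⁻¹ * z} : Set G).ncard ≤ 4 := by
        refine (Set.ncard_insert_le _ _).trans ?_
        refine Nat.succ_le_succ ((Set.ncard_insert_le _ _).trans ?_)
        refine Nat.succ_le_succ ((Set.ncard_insert_le _ _).trans ?_)
        rw [Set.ncard_singleton]
      exact h1.trans h2
  intro A hc hs
  have hs' : ∀ a ∈ A, a * a = 1 := fun a ha => by rw [← pow_two]; exact hs a ha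
  have hA2 : IsPGroup 2 A := by
    intro a
    exact ⟨1, Subtype.ext (by simpa using hs a a.2)⟩
  obtain ⟨g, hg⟩ := exists_cj_le h.toGeoC hA2
  rw [← card_cj g A]
  refine key _ hg ?_ ?_
  · rintro _ ⟨a, ha, rfl⟩ _ ⟨b, hb, rfl⟩
    rw [← map_mul, ← map_mul]
    congr 1
    have := hc.is_comm.comm ⟨a, ha⟩ ⟨b, hb⟩
    exact congrArg Subtype.val this
  · rintro _ ⟨a, ha, rfl⟩
    rw [← map_mul, hs' a ha, map_one]

end Fr

/-! ### the case `C_G(V) ≠ rr V` -/

/-- an additional element `e` of `C_G(V)` -/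
structure Ex (T V : Subgroup G) (z q t u e : G) : Prop extends Fr T V z q t u where
  e_cent : e ∈ centralizer (V : Set G)
  e_t : e * t * e⁻¹ = t ∨ e * t * e⁻¹ = z * t
  e_u : e * u * e⁻¹ = z * u
  cover : ∀ g ∈ centralizer (V : Set G), g ∈ rr V ∨ e * g ∈ rr V
  cover' : ∀ g ∈ centralizer (V : Set G), (g * t * g⁻¹ = t ∨ g * t * g⁻¹ = z * t) →
    g ∈ us V z ∨ e * g ∈ us V z

namespace Ex

variable {e : G}

theorem e_notMem (h : Ex T V z q t u e) : e ∉ rr V := by
  intro he
  have h1 := h.e_u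
  rw [(h.rr_comm he h.u_rr).eq, mul_inv_cancel_right] at h1
  exact h.z_ne (by simpa using h1.symm)

/-- the element at the other point -/
theorem other' (h : Ex T V z q t u e) : ∃ (T' : Subgroup G) (t' u' e' : G), Ex T' V q z t' u' e' := by
  obtain ⟨T', t', u', h'⟩ := h.other
  rcases h'.dichotomy with h1 | ⟨e', a1, a2, a3, a4, a5⟩
  · exact absurd (h1 h.e_cent) h.e_notMem
  · exact ⟨T', t', u', e', ⟨h', a1, a2, a3, a4, a5⟩⟩

/-- `e²` is `1` or `z` -/
theorem e_sq (h : Ex T V z q t u e) : e * e = 1 ∨ e * e = z := by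
  have c1 := h.cz h.e_cent
  have h1 : Commute (e * e) u := by
    change e * e * u = u * (e * e)
    calc e * e * u = e * (e * u * e⁻¹) * e := by group
      _ = (e * z) * u * e := by rw [h.e_u]; group
      _ = z * (e * u * e⁻¹) * e * e := by rw [c1.eq]; group
      _ = (z * z) * (u * (e * e)) := by rw [h.e_u]; group
      _ = u * (e * e) := by rw [h.zz, one_mul]
  have h2 : Commute (e * e) t := by
    change e * e * t = t * (e * e)
    rcases h.e_t with f | f
    · calc e * e * t = e * (e * t * e⁻¹) * e := by group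
        _ = e * t * e := by rw [f]
        _ = (e * t * e⁻¹) * (e * e) := by group
        _ = t * (e * e) := by rw [f]
    · calc e * e * t = e * (e * t * e⁻¹) * e := by group
        _ = (e * z) * t * e := by rw [f]; group
        _ = z * (e * t * e⁻¹) * e * e := by rw [c1.eq]; group
        _ = (z * z) * (t * (e * e)) := by rw [f]; group
        _ = t * (e * e) := by rw [h.zz, one_mul]
  have h3 := h.comm_ws ((centralizer (V : Set G)).mul_mem h.e_cent h.e_cent) h1 h2
  have hne : ¬ Commute e u := by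
    intro hc
    have h4 := h.e_u
    rw [hc.eq, mul_inv_cancel_right] at h4
    exact h.z_ne (by simpa using h4.symm)
  rcases h.cent h3 with f | f | f | f
  · exact Or.inl f
  · exact Or.inr f
  · exfalso
    apply hne
    rw [← f]
    exact (Commute.refl e).mul_right (Commute.refl e)
  · exfalso
    apply hne
    have h4 : u = z * (e * e) := by rw [f, ← mul_assoc, h.zz, one_mul]
    rw [h4]
    exact c1.mul_right ((Commute.refl e).mul_right (Commute.refl e))

/-- `e` inverts the element `u'` of the other frame -/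
theorem conj_u' (h : Ex T V z q t u e) {T' : Subgroup G} {t' u' : G} (h' : Fr T' V q z t' u') :
    e * u' * e⁻¹ = q * u' := by
  refine (h'.conj_u h.e_cent).resolve_left fun f => ?_
  have htn : t ∈ normalizer (V : Set G) := h.ws_le_normalizer h.t_mem
  have m1 : t * q * t⁻¹ = z * q := h.w_move h.t_mem h.tV h.q_mem h.q_ne h.q_nz
  -- the element `t u' t⁻¹` of the third point
  have hr : t * u' * t⁻¹ ∈ rr V :=
    conj_mem_of_normalizer (BTwoD.normalizer_le_normalizer_rr V) htn h'.u_rr
  have hrr : t * u' * t⁻¹ * (t * u' * t⁻¹) = z * q := by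
    calc t * u' * t⁻¹ * (t * u' * t⁻¹) = t * (u' * u') * t⁻¹ := by group
      _ = z * q := by rw [h'.uu, m1]
  obtain ⟨v, hv, k⟩ := h.rr_cases h' hr
  have hform : t * u' * t⁻¹ = u * u' * v := by
    rcases k with k | k | k | k
    · exfalso
      rw [k, h.sq v hv] at hrr
      exact h.zq_ne hrr.symm
    · exfalso
      rw [k, h.sq_uv hv] at hrr
      exact h.q_ne (by simpa using hrr.symm)
    · exfalso
      rw [k, h'.sq_uv hv] at hrr
      exact h.z_ne (by simpa using hrr.symm)
    · exact k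
  -- conjugation by `e`
  have hte : t⁻¹ * e * t ∈ centralizer (V : Set G) := by
    have := conj_mem_centralizer (inv_mem htn) h.e_cent
    rwa [inv_inv] at this
  have h1 : e * (t * u' * t⁻¹) * e⁻¹ = t * ((t⁻¹ * e * t) * u' * (t⁻¹ * e * t)⁻¹) * t⁻¹ := by group
  have h2 : e * (t * u' * t⁻¹) * e⁻¹ = t * u' * t⁻¹ ∨
      e * (t * u' * t⁻¹) * e⁻¹ = z * q * (t * u' * t⁻¹) := by
    rw [h1]
    rcases h'.conj_u hte with g | g
    · left; rw [g]
    · right; rw [g, ← m1]; group
  have h3 : e * (t * u' * t⁻¹) * e⁻¹ = z * (t * u' * t⁻¹) := by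
    rw [hform]
    have : e * (u * u' * v) * e⁻¹ = (e * u * e⁻¹) * (e * u' * e⁻¹) * (e * v * e⁻¹) := by group
    rw [this, h.e_u, f, comm_V h.e_cent hv]
    group
  rcases h2 with g | g
  · rw [g] at h3
    exact h.z_ne (by simpa using h3.symm)
  · rw [h3] at g
    have := mul_right_cancel g
    exact h.q_ne (by simpa using this.symm)

/-- `e` inverts `rr V` -/
theorem conj_rr (h : Ex T V z q t u e) {w : G} (hw : w ∈ rr V) : e * w * e⁻¹ = w⁻¹ := by
  obtain ⟨T', t', u', h'⟩ := h.other
  have hc := h.conj_u' h'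
  have hcV : ∀ v ∈ V, e * v * e⁻¹ = v := fun v hv => by
    rw [comm_V h.e_cent hv, mul_inv_cancel_right]
  have hcomm : ∀ x ∈ rr V, ∀ y ∈ rr V, e * x * e⁻¹ = x⁻¹ → e * y * e⁻¹ = y⁻¹ →
      e * (x * y) * e⁻¹ = (x * y)⁻¹ := by
    intro x hx y hy h1 h2
    have : e * (x * y) * e⁻¹ = (e * x * e⁻¹) * (e * y * e⁻¹) := by group
    rw [this, h1, h2, mul_inv_rev]
    have c : Commute x y := h.rr_comm hx hy
    exact c.inv_inv.eq
  have hVr : ∀ v ∈ V, v ∈ rr V := fun v hv => h.us_le_rr' (h.V_le_us hv)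
  have hV : ∀ v ∈ V, e * v * e⁻¹ = v⁻¹ := fun v hv => by rw [hcV v hv, h.inv_eq hv]
  have hu : e * u * e⁻¹ = u⁻¹ := by rw [h.e_u, h.u_inv]
  have hu' : e * u' * e⁻¹ = u'⁻¹ := by rw [hc, h'.u_inv]
  obtain ⟨v, hv, rfl | rfl | rfl | rfl⟩ := h.rr_cases h' hw
  · exact hV _ hv
  · exact hcomm _ h.u_rr _ (hVr v hv) hu (hV v hv)
  · exact hcomm _ h'.u_rr _ (hVr v hv) hu' (hV v hv)
  · exact hcomm _ (mul_mem h.u_rr h'.u_rr) _ (hVr v hv) (hcomm _ h.u_rr _ h'.u_rr hu hu') (hV v hv)

/-- all elements of `C_G(V)` outside `rr V` have the same square -/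
theorem sq_eq (h : Ex T V z q t u e) {g : G} (hg : g ∈ centralizer (V : Set G)) (hgr : g ∉ rr V) :
    g * g = e * e := by
  have h1 := (h.cover g hg).resolve_left hgr
  set w := e * g with hw
  have h2 : e * w * e⁻¹ = w⁻¹ := h.conj_rr h1
  have h3 : e⁻¹ * w * e = w⁻¹ := by
    calc e⁻¹ * w * e = (e⁻¹ * w⁻¹ * e)⁻¹ := by group
      _ = (e⁻¹ * (e * w * e⁻¹) * e)⁻¹ := by rw [h2]
      _ = w⁻¹ := by group
  have hg' : g = e⁻¹ * w := by rw [hw]; group
  have h4 : g * g = w⁻¹ * (e * e)⁻¹ * w := by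
    rw [hg', ← h3]; group
  rw [h4]
  rcases h.e_sq with f | f
  · rw [f]; group
  · rw [f, inv_eq_self h.zz]
    have c : Commute w z := h.cz (rr_le_centralizer V h1)
    rw [mul_assoc, ← c.eq]; group

/-- all elements of `C_G(V)` outside `rr V` are involutions -/
theorem sq_one (h : Ex T V z q t u e) {g : G} (hg : g ∈ centralizer (V : Set G)) (hgr : g ∉ rr V) :
    g * g = 1 := by
  obtain ⟨T', t', u', e', h'⟩ := h.other'
  have h1 := h.sq_eq h'.e_cent h'.e_notMem
  rw [h.sq_eq hg hgr]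
  rcases h.e_sq with f | f
  · exact f
  · rcases h'.e_sq with f' | f'
    · rw [← h1]; exact f'
    · exfalso
      apply h.q_nz
      rw [← f', h1, f]

/-- `C_G(V)` is a 2-group -/
theorem isPGroup_centralizer (h : Ex T V z q t u e) : IsPGroup 2 (centralizer (V : Set G)) := by
  obtain ⟨T', t', u', h'⟩ := h.other
  intro g
  refine ⟨2, ?_⟩
  have key : ∀ g ∈ centralizer (V : Set G), g ^ 4 = 1 := by
    intro g hg
    have e4 : g ^ 4 = (g * g) * (g * g) := by rw [show (4 : ℕ) = 2 * 2 from rfl, pow_mul, pow_two, pow_two]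
    rw [e4]
    by_cases hgr : g ∈ rr V
    · obtain ⟨v, hv, rfl | rfl | rfl | rfl⟩ := h.rr_cases h' hgr
      · rw [h.sq _ hv, mul_one]
      · rw [h.sq_uv hv, h.zz]
      · rw [h'.sq_uv hv, h.qq]
      · rw [h.sq_uuv h' hv]; exact h.sq _ (mul_mem h.z_mem h.q_mem)
    · rw [h.sq_one hg hgr, mul_one]
  ext
  simpa using key g g.2

theorem centralizer_le_T (h : Ex T V z q t u e) : centralizer (V : Set G) ≤ T := by
  have h1 : centralizer (V : Set G) ≤ o2 (normalizer (V : Set G)) := by
    refine Block.le_o2 h.isPGroup_centralizer (centralizer_le_normalizer _) ?_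
    exact le_normalizer_of_forall fun g hg c hc => conj_mem_centralizer hg hc
  exact h1.trans (o2_le_of_sylow h.T_norm h.two h.T_syl')

/-- the subgroup `rr V ∪ t rr V` of index 2 of `T` -/
def sub (h : Ex T V z q t u e) : Subgroup G where
  carrier := {x | x ∈ rr V ∨ t * x ∈ rr V}
  mul_mem' := by
    have htn : t ∈ normalizer (V : Set G) := h.ws_le_normalizer h.t_mem
    have hrn := BTwoD.normalizer_le_normalizer_rr V htn
    rintro a b (ha | ha) (hb | hb)
    · exact Or.inl (mul_mem ha hb)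
    · right
      have : t * (a * b) = (t * a * t⁻¹) * (t * b) := by group
      rw [this]
      exact mul_mem ((mem_normalizer_iff.mp hrn a).mp ha) hb
    · right
      rw [← mul_assoc]; exact mul_mem ha hb
    · left
      have h1 : a * b = (t⁻¹ * (t * a) * t) * (t⁻¹ * t⁻¹ * (t * b)) := by group
      have h2 : t⁻¹ * t⁻¹ = 1 := by rw [← mul_inv_rev, h.tt, inv_one]
      rw [h1, h2, one_mul]
      refine mul_mem ?_ hb
      have := (mem_normalizer_iff.mp (inv_mem hrn) _).mp ha
      rwa [inv_inv] at this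
  one_mem' := Or.inl (one_mem _)
  inv_mem' := by
    have htn : t ∈ normalizer (V : Set G) := h.ws_le_normalizer h.t_mem
    have hrn := BTwoD.normalizer_le_normalizer_rr V htn
    rintro a (ha | ha)
    · exact Or.inl (inv_mem ha)
    · right
      have h1 : t * a⁻¹ = t * (t * a)⁻¹ * t⁻¹ * (t * t) := by group
      rw [h1, h.tt, mul_one]
      exact (mem_normalizer_iff.mp hrn _).mp (inv_mem ha)

theorem mem_sub (h : Ex T V z q t u e) {x : G} : x ∈ h.sub ↔ x ∈ rr V ∨ t * x ∈ rr V := Iff.rfl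

theorem sub_le_T (h : Ex T V z q t u e) : h.sub ≤ T := by
  have hr : rr V ≤ T := (rr_le_centralizer V).trans h.centralizer_le_T
  rintro x (hx | hx)
  · exact hr hx
  · have : x = t⁻¹ * (t * x) := by group
    rw [this]
    exact mul_mem (inv_mem (h.ws_le_T h.t_mem)) (hr hx)

theorem notMem_sub (h : Ex T V z q t u e) {g : G} (hg : g ∈ centralizer (V : Set G)) (hgr : g ∉ rr V) :
    g ∉ h.sub := by
  rintro (hx | hx)
  · exact hgr hx
  · apply h.tV
    have := (centralizer (V : Set G)).mul_mem (rr_le_centralizer V hx)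
      ((centralizer (V : Set G)).inv_mem hg)
    rwa [mul_inv_cancel_right] at this

theorem relIndex_sub (h : Ex T V z q t u e) : h.sub.relIndex T = 2 := by
  rw [relIndex_eq_two_iff_exists_notMem_and']
  refine ⟨e, h.centralizer_le_T h.e_cent, h.notMem_sub h.e_cent h.e_notMem, fun b hb => ?_⟩
  rcases BTwoEndC.Fr.T_cases h.toFr hb with h1 | h1
  · rcases h.cover b h1 with h2 | h2
    · exact Or.inr (Or.inl h2)
    · exact Or.inl (Or.inl h2)
  · rcases h.cover _ h1 with h2 | h2
    · exact Or.inr (Or.inr h2)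
    · left; right
      have hzr : z ∈ rr V := h.us_le_rr' (h.V_le_us h.z_mem)
      rcases h.e_t with f | f
      · have : t * (e * b) = e * (t * b) := by
          calc t * (e * b) = (e * t * e⁻¹) * (e * b) := by rw [f]
            _ = e * (t * b) := by group
        rw [this]; exact h2
      · have h3 : t = z * (e * t * e⁻¹) := by rw [f, ← mul_assoc, h.zz, one_mul]
        have : t * (e * b) = z * (e * (t * b)) := by
          calc t * (e * b) = (z * (e * t * e⁻¹)) * (e * b) := by rw [← h3]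
            _ = z * (e * (t * b)) := by group
        rw [this]; exact mul_mem hzr h2

/-- the involutions of `sub` are conjugate to `z` -/
theorem exists_conj_of_mem_sub (h : Ex T V z q t u e) {x : G} (hx : x ∈ h.sub) (hx2 : x * x = 1)
    (hx1 : x ≠ 1) : ∃ g : G, g * z * g⁻¹ = x := by
  rcases hx with hx | hx
  · obtain ⟨g, -, hg⟩ := h.trans x (h.mem_V_of_sq hx hx2) hx1
    exact ⟨g, hg⟩
  · obtain ⟨T', t', u', h'⟩ := h.other
    have htn : t ∈ normalizer (V : Set G) := h.ws_le_normalizer h.t_mem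
    have m1 : t * q * t⁻¹ = z * q := h.w_move h.t_mem h.tV h.q_mem h.q_ne h.q_nz
    obtain ⟨g0, hg0⟩ := h.tz
    have hq1 : q * t * q⁻¹ = z * t := by rw [h.qt]; group
    -- it is enough to find `x` in a list
    have hlist : x = t ∨ x = z * t ∨ x = u' * t * u'⁻¹ ∨ x = z * (u' * t * u'⁻¹) →
        ∃ g : G, g * z * g⁻¹ = x := by
      rintro (rfl | rfl | rfl | rfl)
      · exact ⟨g0, hg0⟩
      · refine ⟨q * g0, ?_⟩
        rw [← hq1, ← hg0]; group
      · refine ⟨u' * g0, ?_⟩
        rw [← hg0]; group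
      · refine ⟨q * u' * g0, ?_⟩
        have c1 : Commute q u' := h'.uz.symm
        have c2 : Commute z u' := (h'.uq).symm
        calc q * u' * g0 * z * (q * u' * g0)⁻¹ = (q * u') * (g0 * z * g0⁻¹) * (q * u')⁻¹ := by group
          _ = (u' * q) * t * (u' * q)⁻¹ := by rw [hg0, c1.eq]
          _ = u' * (q * t * q⁻¹) * u'⁻¹ := by group
          _ = (u' * z) * t * u'⁻¹ := by rw [hq1]; group
          _ = z * (u' * t * u'⁻¹) := by rw [← c2.eq]; group
    apply hlist
    have hxw : x = t * (t * x) := by rw [← mul_assoc, h.tt, one_mul]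
    set w := t * x with hw
    have h3 : t * w * t⁻¹ = w⁻¹ := by
      rw [hxw] at hx2
      have : t * w * t⁻¹ = (t * w * (t * w)) * w⁻¹ * (t * t)⁻¹ := by group
      rw [this, hx2, h.tt]; group
    -- `t u' t⁻¹`
    have hr : t * u' * t⁻¹ ∈ rr V :=
      conj_mem_of_normalizer (BTwoD.normalizer_le_normalizer_rr V) htn h'.u_rr
    have hrr : t * u' * t⁻¹ * (t * u' * t⁻¹) = z * q := by
      calc t * u' * t⁻¹ * (t * u' * t⁻¹) = t * (u' * u') * t⁻¹ := by group
        _ = z * q := by rw [h'.uu, m1]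
    have hzV : z ∈ V := h.z_mem
    have cV : ∀ v ∈ V, ∀ v' ∈ V, v * v' = v' * v := fun v hv v' hv' => h.comm hv hv'
    have htw : t * w * t⁻¹ * w = 1 := by rw [h3, inv_mul_cancel]
    obtain ⟨v, hv, k⟩ := h.rr_cases h' hx
    have hvt : t * v * t⁻¹ ∈ V := (mem_normalizer_iff.mp htn v).mp hv
    rcases k with k | k | k | k
    · -- `w = v`
      have h4 : v * t = t * v := by
        rw [← k]
        have h5 : w⁻¹ = w := by rw [k]; exact h.inv_eq hv
        calc w * t = w⁻¹ * t := by rw [h5]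
          _ = t * w := by rw [← h3]; group
      rcases h.V_comm_t hv h4 with f | f
      · left; rw [hxw, k, f, mul_one]
      · right; left; rw [hxw, k, f, h.zt.eq]
    · -- `w = u v`
      have h4 : t * w * t⁻¹ = u * (t * v * t⁻¹) := by
        rw [k]
        calc t * (u * v) * t⁻¹ = (t * u) * v * t⁻¹ := by group
          _ = u * (t * v * t⁻¹) := by rw [← h.ut.eq]; group
      rw [h4, k] at htw
      have h5 : (t * v * t⁻¹) * v = z := by
        have h6 : u * (t * v * t⁻¹) * (u * v) = (u * u) * ((t * v * t⁻¹) * v) := by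
          have := comm_V h.u_cent hvt
          calc u * (t * v * t⁻¹) * (u * v) = u * ((t * v * t⁻¹) * u) * v := by group
            _ = (u * u) * ((t * v * t⁻¹) * v) := by rw [← this]; group
        rw [h6, h.uu] at htw
        have := eq_inv_of_mul_eq_one_right htw
        rw [this, h.inv_eq hzV]
      have hvq : v = q ∨ v = z * q := by
        rcases h.four' hv with f | f | f | f
        · exfalso; rw [f] at h5
          apply h.z_ne; rw [← h5]; group
        · exfalso
          rw [f, ← h.zt.eq, mul_inv_cancel_right, h.zz] at h5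
          exact h.z_ne h5.symm
        · exact Or.inl f
        · exact Or.inr f
      have hxx : x = t * (u * q) ∨ x = z * (t * (u * q)) := by
        rcases hvq with f | f
        · left; rw [hxw, k, f]
        · right
          rw [hxw, k, f]
          calc t * (u * (z * q)) = t * (u * z) * q := by group
            _ = (t * z) * (u * q) := by rw [h.uz.eq]; group
            _ = z * (t * (u * q)) := by rw [← h.zt.eq]; group
      -- compare with `u' t u'⁻¹`
      have hnt := h.not_type h'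
      rcases h.conj_t h'.u_cent with f | f | f | f
      · exact absurd (Or.inl f) hnt
      · exact absurd (Or.inr f) hnt
      · rcases hxx with g | g
        · right; right; left; rw [f, g]
        · right; right; right; rw [f, g]
      · rcases hxx with g | g
        · right; right; right; rw [f, g, ← mul_assoc z z, h.zz, one_mul]
        · right; right; left; rw [f, g]
    · -- `w = u' v`
      exfalso
      obtain ⟨v0, hv0, k0⟩ := h.rr_cases h' hr
      have h4 : t * w * t⁻¹ = (t * u' * t⁻¹) * (t * v * t⁻¹) := by rw [k]; group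
      rw [h4, k] at htw
      have h5 : (t * u' * t⁻¹) = (u' * v)⁻¹ * (t * v * t⁻¹)⁻¹ := by
        have := eq_inv_of_mul_eq_one_left htw
        rw [← this]; group
      have h6 : (t * u' * t⁻¹) * (t * u' * t⁻¹) = q := by
        rw [h5]
        have c1 : Commute (u' * v)⁻¹ (t * v * t⁻¹)⁻¹ := by
          have : Commute (u' * v) (t * v * t⁻¹) :=
            Commute.mul_left (comm_V h'.u_cent hvt) (cV _ hv _ hvt)
          exact this.inv_inv
        have : (u' * v)⁻¹ * (t * v * t⁻¹)⁻¹ * ((u' * v)⁻¹ * (t * v * t⁻¹)⁻¹) =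
            ((u' * v) * (u' * v))⁻¹ * ((t * v * t⁻¹) * (t * v * t⁻¹))⁻¹ := by
          calc (u' * v)⁻¹ * (t * v * t⁻¹)⁻¹ * ((u' * v)⁻¹ * (t * v * t⁻¹)⁻¹) =
              (u' * v)⁻¹ * ((t * v * t⁻¹)⁻¹ * (u' * v)⁻¹) * (t * v * t⁻¹)⁻¹ := by group
            _ = (u' * v)⁻¹ * ((u' * v)⁻¹ * (t * v * t⁻¹)⁻¹) * (t * v * t⁻¹)⁻¹ := by rw [c1.eq]
            _ = _ := by group
        rw [this, h'.sq_uv hv, h.sq _ hvt, inv_one, mul_one, h.inv_eq h.q_mem]
      rw [hrr] at h6
      exact h.z_ne (by simpa using h6)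
    · -- `w = u u' v`
      exfalso
      have h4 : t * w * t⁻¹ = u * (t * u' * t⁻¹) * (t * v * t⁻¹) := by
        rw [k]
        calc t * (u * u' * v) * t⁻¹ = (t * u) * u' * v * t⁻¹ := by group
          _ = u * (t * u' * t⁻¹) * (t * v * t⁻¹) := by rw [← h.ut.eq]; group
      have hVr : ∀ v ∈ V, v ∈ rr V := fun v hv => h.us_le_rr' (h.V_le_us hv)
      -- squares: `(t w t⁻¹)² = t w² t⁻¹ = t (z q) t⁻¹ = q`, `w⁻² = z q`
      have h5 : t * w * t⁻¹ * (t * w * t⁻¹) = q := by
        have : t * w * t⁻¹ * (t * w * t⁻¹) = t * (w * w) * t⁻¹ := by group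
        rw [this, k, h.sq_uuv h' hv]
        calc t * (z * q) * t⁻¹ = (t * z) * q * t⁻¹ := by group
          _ = z * (t * q * t⁻¹) := by rw [← h.zt.eq]; group
          _ = q := by rw [m1, ← mul_assoc, h.zz, one_mul]
      rw [h3] at h5
      have h6 : w⁻¹ * w⁻¹ = (w * w)⁻¹ := by group
      rw [h6, k, h.sq_uuv h' hv, h.inv_eq (mul_mem h.z_mem h.q_mem)] at h5
      exact h.z_ne (by simpa using h5)

theorem ws_le_kq (h : Fr T V z q t u) : ws V z ≤ kq V z := by
  intro w hw
  have key : ∀ w ∈ ws V z, ∀ w' ∈ ws V z, w * w' * w⁻¹ * w'⁻¹ ∈ zpowers z := fun w hw w' hw' =>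
    h.comm_mem hw (h.ws_le_o2 hw')
  rw [BTwoB.mem_kq]
  refine ⟨h.ws_le_centralizer hw, key w hw, fun w' hw' => ?_⟩
  have := key w⁻¹ (inv_mem hw) w' hw'
  rwa [inv_inv] at this

theorem T_kq (h : Fr T V z q t u) {T' : Subgroup G} {t' u' : G} (h' : Fr T' V q z t' u') {g : G}
    (hg : g ∈ T) : g ∈ kq V z ∨ g * u' ∈ kq V z := by
  have ht := ws_le_kq h h.t_mem
  have key : ∀ g ∈ centralizer (V : Set G), g ∈ kq V z ∨ g * u' ∈ kq V z := by
    intro g hg
    rcases h.type_cases h' hg with h1 | h1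
    · exact Or.inl (h.mem_kq hg h1)
    · exact Or.inr (h.mem_kq ((centralizer (V : Set G)).mul_mem hg h'.u_cent) h1)
  rcases Fr.T_cases h hg with h1 | h1
  · exact key g h1
  · have e1 : g = t⁻¹ * (t * g) := by group
    have e2 : g * u' = t⁻¹ * (t * g * u') := by group
    rcases key _ h1 with h2 | h2
    · left; rw [e1]; exact mul_mem (inv_mem ht) h2
    · right; rw [e2]; exact mul_mem (inv_mem ht) h2

theorem kq_cases (h : Ex T V z q t u e) {g : G} (hg : g ∈ kq V z) : g ∈ ws V z ∨ e * g ∈ ws V z := by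
  have ht := ws_le_kq h.toFr h.t_mem
  have hus : us V z ≤ ws V z := us_le_ws V z
  have key : ∀ g ∈ kq V z, g ∈ centralizer (V : Set G) → g ∈ us V z ∨ e * g ∈ us V z := fun g hg hgV =>
    h.cover' g hgV (h.type_of_mem_kq hg)
  -- `g` centralizes `V` or `t * g` does
  have hgq := (BTwoB.mem_kq.mp hg).2.1 q (h.V_le_ws h.q_mem)
  have hgz : Commute g z := h.z_comm (BTwoB.mem_kq.mp hg).1
  rcases (mem_zpowers_iff_of_mul_self h.zz).mp hgq with f | f
  · have hgV : g ∈ centralizer (V : Set G) := by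
      refine h.mem_cent hgz ?_
      change g * q = q * g
      calc g * q = (g * q * g⁻¹ * q⁻¹) * (q * g) := by group
        _ = q * g := by rw [f, one_mul]
    rcases key g hg hgV with k | k
    · exact Or.inl (hus k)
    · exact Or.inr (hus k)
  · have hgV : t * g ∈ centralizer (V : Set G) := by
      refine h.mem_cent (h.zt.symm.mul_left hgz) ?_
      change t * g * q = q * (t * g)
      calc t * g * q = t * ((g * q * g⁻¹ * q⁻¹) * (q * g)) := by group
        _ = (t * z) * q * g := by rw [f]; group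
        _ = z * (t * q) * g := by rw [← h.zt.eq]; group
        _ = (z * z) * (q * (t * g)) := by rw [h.tq]; group
        _ = q * (t * g) := by rw [h.zz, one_mul]
    rcases key _ (mul_mem ht hg) hgV with k | k
    · left
      have e1 : g = t⁻¹ * (t * g) := by group
      rw [e1]; exact mul_mem (inv_mem h.t_mem) (hus k)
    · right
      have hzw : z ∈ ws V z := h.V_le_ws h.z_mem
      have e1 : e * g = (e * t⁻¹ * e⁻¹) * (e * (t * g)) := by group
      have e2 : e * t⁻¹ * e⁻¹ ∈ ws V z := by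
        have e3 : e * t⁻¹ * e⁻¹ = (e * t * e⁻¹)⁻¹ := by group
        rw [e3]
        rcases h.e_t with f | f
        · rw [f]; exact inv_mem h.t_mem
        · rw [f]; exact inv_mem (mul_mem hzw h.t_mem)
      rw [e1]; exact mul_mem e2 (hus k)

/-- a conjugate in a Sylow 2-subgroup -/
theorem exists_cj_le_of_sylow {C T A : Subgroup G} (_ : T ≤ C) (hT : IsPGroup 2 T)
    (hs : ¬ 2 ∣ T.relIndex C) (hAC : A ≤ C) (hA : IsPGroup 2 A) : ∃ c ∈ C, cj c A ≤ T := by
  haveI : Fact (Nat.Prime 2) := ⟨Nat.prime_two⟩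
  have hT' : IsPGroup 2 (T.subgroupOf C) := hT.comap_of_injective _ C.subtype_injective
  have hA' : IsPGroup 2 (A.subgroupOf C) := hA.comap_of_injective _ C.subtype_injective
  obtain ⟨Q, hQ⟩ := hA'.exists_le_sylow
  obtain ⟨g, hg⟩ := MulAction.exists_smul_eq C Q (hT'.toSylow hs)
  refine ⟨g, g.2, ?_⟩
  rintro _ ⟨x, hx, rfl⟩
  have h1 : (⟨x, hAC hx⟩ : C) ∈ (Q : Subgroup C) := hQ (mem_subgroupOf.mpr hx)
  have h2 : (MulAut.conj g) ⟨x, hAC hx⟩ ∈ ((g • Q : Sylow 2 C) : Subgroup C) := by
    rw [Sylow.smul_def]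
    exact Subgroup.smul_mem_pointwise_smul _ (MulAut.conj g) _ h1
  rw [hg] at h2
  exact mem_subgroupOf.mp h2

/-- the group `C_G(z)` has no four-subgroup on which an element of `C_G(z)` acts fixed-point-freely -/
theorem no_four (h : Ex T V z q t u e) {F : Subgroup G} {y : G} (hF : F ≤ centralizer ({z} : Set G))
    (hF4 : Nat.card F = 4) (hF2 : ∀ f ∈ F, f * f = 1) (hy : y ∈ centralizer ({z} : Set G))
    (hyF : ∀ f ∈ F, y * f * y⁻¹ ∈ F) (hfix : ∀ f ∈ F, f ≠ 1 → y * f * y⁻¹ ≠ f) : False := by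
  -- reduce to `F ≤ T`
  have key : ∀ (F : Subgroup G) (y : G), F ≤ T → Nat.card F = 4 → (∀ f ∈ F, f * f = 1) →
      y ∈ centralizer ({z} : Set G) → (∀ f ∈ F, y * f * y⁻¹ ∈ F) →
      (∀ f ∈ F, f ≠ 1 → y * f * y⁻¹ ≠ f) → False := by
    clear hF hF4 hF2 hy hyF hfix y F
    intro F y hF hF4 hF2 hy hyF hfix
    have hcomm : ∀ f ∈ F, ∀ f' ∈ F, f * f' = f' * f := by
      intro f hf f' hf'
      have h1 := hF2 _ (mul_mem hf hf')
      calc f * f' = (f * f')⁻¹ := (inv_eq_self h1).symm
        _ = f'⁻¹ * f⁻¹ := by group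
        _ = f' * f := by rw [inv_eq_self (hF2 f hf), inv_eq_self (hF2 f' hf')]
    have hy1 : ∀ f : G, f ≠ 1 → y * f * y⁻¹ ≠ 1 := by
      intro f hf e1
      apply hf
      have : f = y⁻¹ * (y * f * y⁻¹) * y := by group
      rw [this, e1]; group
    have hne : ∃ f ∈ F, f ≠ 1 := by
      by_contra hcon
      push Not at hcon
      have : F = ⊥ := by
        rw [eq_bot_iff]; intro f hf; exact mem_bot.mpr (hcon f hf)
      rw [this, card_bot] at hF4
      omega
    -- a subgroup covering `F` up to index 2 contains a nontrivial element of `F`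
    have hex : ∀ K : Subgroup G, (∀ f ∈ F, ∀ f' ∈ F, f ∉ K → f' ∉ K → f * f' ∈ K) →
        ∃ f ∈ F, f ≠ 1 ∧ f ∈ K := by
      intro K hK
      obtain ⟨f, hf, hf1⟩ := hne
      by_cases h1 : f ∈ K
      · exact ⟨f, hf, hf1, h1⟩
      by_cases h2 : y * f * y⁻¹ ∈ K
      · exact ⟨_, hyF f hf, hy1 f hf1, h2⟩
      · refine ⟨f * (y * f * y⁻¹), mul_mem hf (hyF f hf), ?_, hK f hf _ (hyF f hf) h1 h2⟩
        intro e1
        apply hfix f hf hf1
        have := eq_inv_of_mul_eq_one_right e1
        rw [this, inv_eq_self (hF2 f hf)]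
    have hle : ∀ K : Subgroup G, (∀ k ∈ K, y * k * y⁻¹ ∈ K) →
        (∀ f ∈ F, ∀ f' ∈ F, f ∉ K → f' ∉ K → f * f' ∈ K) → F ≤ K := by
      intro K hyK hK
      obtain ⟨f, hf, hf1, hfK⟩ := hex K hK
      have hsub : ({1, f, y * f * y⁻¹} : Set G) ⊆ ((F ⊓ K : Subgroup G) : Set G) := by
        rintro x (rfl | rfl | rfl)
        · exact one_mem _
        · exact ⟨hf, hfK⟩
        · exact ⟨hyF f hf, hyK f hfK⟩
      have h3 : ({1, f, y * f * y⁻¹} : Set G).ncard = 3 := by
        rw [Set.ncard_insert_of_notMem, Set.ncard_pair]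
        · exact Ne.symm (hfix f hf hf1)
        · rintro (e1 | e1)
          · exact hf1 e1.symm
          · exact hy1 f hf1 e1.symm
      have h4 := Set.ncard_le_ncard hsub (Set.toFinite _)
      rw [h3] at h4
      have h5 : ((F ⊓ K : Subgroup G) : Set G).ncard = Nat.card (F ⊓ K : Subgroup G) := rfl
      have h6 : Nat.card (F ⊓ K : Subgroup G) ∣ Nat.card F := card_dvd_of_le inf_le_left
      rw [hF4] at h6
      have h7 := Nat.le_of_dvd (by norm_num) h6
      have h8 : Nat.card (F ⊓ K : Subgroup G) = Nat.card F := by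
        rw [hF4]
        rw [h5] at h4
        interval_cases hc : Nat.card (F ⊓ K : Subgroup G)
        · norm_num at h6
        · rfl
      have h9 := Subgroup.eq_of_le_of_card_ge (inf_le_left : F ⊓ K ≤ F) h8.ge
      rw [← h9]; exact inf_le_right
    obtain ⟨T', t', u', h'⟩ := h.other
    -- `F ≤ kq V z`
    have hkq : F ≤ kq V z := by
      refine hle _ (fun k hk => conj_mem_of_normalizer (centralizer_le_normalizer_kq V z) hy hk) ?_
      intro f hf f' hf' h1 h2
      have h3 := (T_kq h.toFr h' (hF hf)).resolve_left h1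
      have h4 := (T_kq h.toFr h' (hF hf')).resolve_left h2
      have h5 := mul_mem h3 (inv_mem h4)
      have h6 : f * u' * (f' * u')⁻¹ = f * f'⁻¹ := by group
      rwa [h6, inv_eq_self (hF2 f' hf')] at h5
    have hws : F ≤ ws V z := by
      refine hle _ (fun k hk => conj_mem_of_normalizer (Cfsg.Agent.MinSimple.Geo.centralizer_le_normalizer_ws V z) hy hk) ?_
      intro f hf f' hf' h1 h2
      have h3 := (h.kq_cases (hkq hf)).resolve_left h1
      have h4 := (h.kq_cases (hkq hf')).resolve_left h2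
      have h5 := mul_mem (inv_mem h3) h4
      have h6 : (e * f)⁻¹ * (e * f') = f⁻¹ * f' := by group
      rwa [h6, inv_eq_self (hF2 f hf)] at h5
    obtain ⟨f1, hf1, hf11, hf1u⟩ := hex (us V z) (fun f hf f' hf' h1 h2 =>
      h.us_two (hws hf) (fun h3 => h1 ⟨hws hf, h3⟩) (hws hf') (fun h3 => h2 ⟨hws hf', h3⟩))
    have hf1V : f1 ∈ V := h.mem_V_of_sq (h.us_le_rr' hf1u) (hF2 _ hf1)
    have hyz : y * z * y⁻¹ = z := by rw [h.z_comm hy, mul_inv_cancel_right]
    have hzF : z ∉ F := fun hz => hfix z hz h.z_ne hyz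
    have hf1z : f1 ≠ z := fun e1 => hzF (e1 ▸ hf1)
    set f2 := y * f1 * y⁻¹ with hf2
    have hf2F : f2 ∈ F := hyF _ hf1
    have hf2z : f2 ≠ z := fun e1 => hzF (e1 ▸ hf2F)
    have hf21 : f2 ≠ 1 := hy1 _ hf11
    have hf2f1 : f2 ≠ f1 := hfix _ hf1 hf11
    have hf2c : f2 ∈ centralizer (V : Set G) := by
      have c1 : Commute f2 z := (h.z_comm (h.ws_le_centralizer (hws hf2F)))
      have c2 : Commute f2 f1 := hcomm _ hf2F _ hf1
      refine h.mem_cent c1 ?_
      rcases h.four' hf1V with k | k | k | k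
      · exact absurd k hf11
      · exact absurd k hf1z
      · rw [← k]; exact c2
      · have : q = z * f1 := by rw [k, ← mul_assoc, h.zz, one_mul]
        rw [this]; exact c1.mul_right c2
    have hf2V : f2 ∈ V := h.mem_V_of_sq (h.us_le_rr' ⟨hws hf2F, hf2c⟩) (hF2 _ hf2F)
    apply hzF
    have hz12 : f1 * f2 = z := by
      rcases h.four' hf1V with k | k | k | k <;> rcases h.four' hf2V with l | l | l | l
      · exact absurd k hf11
      · exact absurd k hf11
      · exact absurd k hf11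
      · exact absurd k hf11
      · exact absurd k hf1z
      · exact absurd k hf1z
      · exact absurd k hf1z
      · exact absurd k hf1z
      · exact absurd l hf21
      · exact absurd l hf2z
      · exact absurd (l.trans k.symm) hf2f1
      · rw [k, l, h.zq, ← mul_assoc, h.qq, one_mul]
      · exact absurd l hf21
      · exact absurd l hf2z
      · rw [k, l, mul_assoc, h.qq, mul_one]
      · exact absurd (l.trans k.symm) hf2f1
    rw [← hz12]
    exact mul_mem hf1 hf2F
  have hFp : IsPGroup 2 F := by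
    intro f
    exact ⟨1, Subtype.ext (by simpa [pow_two] using hF2 f f.2)⟩
  obtain ⟨c, hc, hcT⟩ := exists_cj_le_of_sylow h.T_le h.two h.T_syl hF hFp
  refine key (cj c F) (c * y * c⁻¹) hcT (by rw [card_cj, hF4]) ?_
    (mul_mem (mul_mem hc hy) (inv_mem hc)) ?_ ?_
  · rintro _ ⟨f, hf, rfl⟩
    rw [← map_mul, hF2 f hf, map_one]
  · intro f hf
    rw [mem_cj] at hf ⊢
    have := hyF _ hf
    have e1 : c⁻¹ * (c * y * c⁻¹ * f * (c * y * c⁻¹)⁻¹) * c = y * (c⁻¹ * f * c) * y⁻¹ := by group
    rw [e1]; exact this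
  · intro f hf hf1 e1
    rw [mem_cj] at hf
    refine hfix _ hf (fun e2 => hf1 ?_) ?_
    · have : f = c * (c⁻¹ * f * c) * c⁻¹ := by group
      rw [this, e2]; group
    · calc y * (c⁻¹ * f * c) * y⁻¹ = c⁻¹ * (c * y * c⁻¹ * f * (c * y * c⁻¹)⁻¹) * c := by group
        _ = c⁻¹ * f * c := by rw [e1]

/-- an element of `N_G(V)` acting fixed-point-freely on `V` with cube 1 -/
theorem exists_three (h : Ex T V z q t u e) : ∃ x ∈ normalizer (V : Set G), x ^ 3 = 1 ∧
    ∀ v ∈ V, v ≠ 1 → x * v * x⁻¹ ≠ v := by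
  obtain ⟨T', t', u', h'⟩ := h.other
  -- a 3-cycle on the points
  obtain ⟨a, ha, ha1, ha2⟩ : ∃ a ∈ normalizer (V : Set G), a * z * a⁻¹ = q ∧ a * q * a⁻¹ = z * q := by
    have htn : t ∈ normalizer (V : Set G) := h.ws_le_normalizer h.t_mem
    have htn' : t' ∈ normalizer (V : Set G) := h'.ws_le_normalizer h'.t_mem
    have m1 : t * q * t⁻¹ = z * q := h.w_move h.t_mem h.tV h.q_mem h.q_ne h.q_nz
    have m2 : t' * z * t'⁻¹ = q * z := h'.w_move h'.t_mem h'.tV h.z_mem h.z_ne (Ne.symm h.q_nz)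
    have n1 : t * z * t⁻¹ = z := by rw [← h.zt.eq, mul_inv_cancel_right]
    have n2 : t' * q * t'⁻¹ = q := by rw [← h'.zt.eq, mul_inv_cancel_right]
    -- `t * t'`: `z ↦ q z ↦ (z q) z = q`, `q ↦ q ↦ z q`
    refine ⟨t * t', mul_mem htn htn', ?_, ?_⟩
    · calc t * t' * z * (t * t')⁻¹ = t * (t' * z * t'⁻¹) * t⁻¹ := by group
        _ = (t * q * t⁻¹) * (t * z * t⁻¹) := by rw [m2]; group
        _ = z * (q * z) := by rw [m1, n1]; group
        _ = q := by rw [← h.zq, ← mul_assoc, h.zz, one_mul]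
    · calc t * t' * q * (t * t')⁻¹ = t * (t' * q * t'⁻¹) * t⁻¹ := by group
        _ = z * q := by rw [n2, m1]
  have ha3 : a * (z * q) * a⁻¹ = z := by
    calc a * (z * q) * a⁻¹ = (a * z * a⁻¹) * (a * q * a⁻¹) := by group
      _ = q * (z * q) := by rw [ha1, ha2]
      _ = z := by rw [h.zq, ← mul_assoc, h.qq, one_mul]
  -- `a ^ 3` centralizes `V`
  have ha4 : a ^ 3 ∈ centralizer (V : Set G) := by
    refine h.mem_cent ?_ ?_
    · change a ^ 3 * z = z * a ^ 3
      have : a ^ 3 * z = (a * (a * (a * z * a⁻¹) * a⁻¹) * a⁻¹) * a ^ 3 := by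
        simp only [pow_succ, pow_zero]; group
      rw [this, ha1, ha2, ha3]
    · change a ^ 3 * q = q * a ^ 3
      have : a ^ 3 * q = (a * (a * (a * q * a⁻¹) * a⁻¹) * a⁻¹) * a ^ 3 := by
        simp only [pow_succ, pow_zero]; group
      rw [this, ha2, ha3, ha1]
  obtain ⟨n, hn⟩ := h.isPGroup_centralizer ⟨_, ha4⟩
  have hn' : (a ^ 3) ^ 2 ^ n = 1 := by simpa using congrArg Subtype.val hn
  -- a power of `a` congruent to `± a` modulo `a ^ 3`
  have hpow : ∀ k : ℕ, a ^ (3 * k) ∈ centralizer (V : Set G) := by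
    intro k; rw [pow_mul]; exact pow_mem ha4 k
  have hne3 : ∀ c ∈ centralizer (V : Set G), ∀ v ∈ V, v ≠ 1 →
      (a * c) * v * (a * c)⁻¹ ≠ v ∧ (a * a * c) * v * (a * a * c)⁻¹ ≠ v := by
    intro c hc v hv hv1
    have e1 : c * v * c⁻¹ = v := by rw [comm_V hc hv, mul_inv_cancel_right]
    have e2 : (a * c) * v * (a * c)⁻¹ = a * v * a⁻¹ := by
      calc (a * c) * v * (a * c)⁻¹ = a * (c * v * c⁻¹) * a⁻¹ := by group
        _ = a * v * a⁻¹ := by rw [e1]
    have e3 : (a * a * c) * v * (a * a * c)⁻¹ = a * (a * v * a⁻¹) * a⁻¹ := by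
      calc (a * a * c) * v * (a * a * c)⁻¹ = a * (a * (c * v * c⁻¹) * a⁻¹) * a⁻¹ := by group
        _ = _ := by rw [e1]
    rw [e2, e3]
    have hzq1 : z * q ≠ q := fun e => h.z_ne (by simpa using e)
    have hzqz : z * q ≠ z := fun e => h.q_ne (by simpa using e)
    rcases h.four' hv with k | k | k | k
    · exact absurd k hv1
    · rw [k, ha1, ha2]; exact ⟨h.q_nz, hzqz⟩
    · rw [k, ha2, ha3]; exact ⟨hzq1, Ne.symm h.q_nz⟩
    · rw [k, ha3, ha1]; exact ⟨Ne.symm hzqz, Ne.symm hzq1⟩
  refine ⟨a ^ 2 ^ n, pow_mem ha _, ?_, ?_⟩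
  · rw [← pow_mul, mul_comm, pow_mul]; exact hn'
  · intro v hv hv1
    -- `2 ^ n` is `1` or `2` modulo `3`
    have hmod : 2 ^ n % 3 = 1 ∨ 2 ^ n % 3 = 2 := by
      have h3 : ¬ 3 ∣ 2 ^ n := fun hd => by
        have := (Nat.prime_three).dvd_of_dvd_pow hd
        omega
      omega
    have hdm := Nat.div_add_mod (2 ^ n) 3
    rcases hmod with h3 | h3
    · have e1 : a ^ 2 ^ n = a * a ^ (3 * (2 ^ n / 3)) := by
        rw [← pow_succ', ← h3, hdm]
      rw [e1]
      exact (hne3 _ (hpow _) v hv hv1).1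
    · have e1 : a ^ 2 ^ n = a * a * a ^ (3 * (2 ^ n / 3)) := by
        rw [mul_assoc, ← pow_succ', ← pow_succ']
        congr 1
        omega
      rw [e1]
      exact (hne3 _ (hpow _) v hv hv1).2

/-- **the case `C_G(V) ≠ rr V`** -/
theorem exists_index_two (h : Ex T V z q t u e) : ∃ M : Subgroup G, M.Normal ∧ M.index = 2 := by
  classical
  haveI : Fact (Nat.Prime 2) := ⟨Nat.prime_two⟩
  haveI : Fact (Nat.Prime 3) := ⟨Nat.prime_three⟩
  obtain ⟨x, hx, hx3, hxf⟩ := h.exists_three
  have hrn := BTwoD.normalizer_le_normalizer_rr V hx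
  have hcn : x ∈ normalizer ((centralizer (V : Set G) : Subgroup G) : Set G) :=
    mem_normalizer_of (fun c hc => conj_mem_centralizer hx hc) (fun c hc => by
      have := conj_mem_centralizer (inv_mem hx) hc
      rwa [inv_inv] at this)
  -- a fixed point `j` outside `rr V`
  obtain ⟨j, hj, hjr, hjx⟩ : ∃ j ∈ centralizer (V : Set G), j ∉ rr V ∧ x * j * x⁻¹ = j := by
    let Ω : Type u := {g : G // g ∈ centralizer (V : Set G) ∧ g ∉ rr V}
    haveI : Fintype Ω := Fintype.ofFinite _
    have hp : ∀ g : G, (g ∈ centralizer (V : Set G) ∧ g ∉ rr V) ↔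
        ((MulAut.conj x).toEquiv g ∈ centralizer (V : Set G) ∧ (MulAut.conj x).toEquiv g ∉ rr V) := by
      intro g
      have h1 := mem_normalizer_iff.mp hcn g
      have h2 := mem_normalizer_iff.mp hrn g
      exact and_congr h1 (not_congr h2)
    let σ : Equiv.Perm Ω := Equiv.Perm.subtypePerm (MulAut.conj x).toEquiv (fun g => (hp g).symm)
    have hσ : ∀ g : Ω, ((σ g : Ω) : G) = x * (g : G) * x⁻¹ := fun g => rfl
    have hσ3 : σ ^ 3 ^ 1 = 1 := by
      ext g
      change ((σ (σ (σ g)) : Ω) : G) = g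
      rw [hσ, hσ, hσ]
      have : x * (x * (x * (g : G) * x⁻¹) * x⁻¹) * x⁻¹ = x ^ 3 * g * (x ^ 3)⁻¹ := by
        simp only [pow_succ, pow_zero]; group
      rw [this, hx3]; simp
    have hcard : ¬ 3 ∣ Fintype.card Ω := by
      have h1 : Nat.card Ω = Nat.card (rr V) := by
        refine Nat.card_congr ⟨fun g => ⟨e * g.1, (h.cover g.1 g.2.1).resolve_left g.2.2⟩,
          fun w => ⟨e⁻¹ * w.1, ?_, ?_⟩, ?_, ?_⟩
        · exact (centralizer (V : Set G)).mul_mem ((centralizer (V : Set G)).inv_mem h.e_cent)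
            (rr_le_centralizer V w.2)
        · intro hw
          apply h.e_notMem
          have h2 := mul_mem w.2 (inv_mem hw)
          have h3 : (w : G) * (e⁻¹ * w)⁻¹ = e := by group
          rwa [h3] at h2
        · intro g
          apply Subtype.ext
          change e⁻¹ * (e * (g : G)) = g
          group
        · intro w
          apply Subtype.ext
          change e * (e⁻¹ * (w : G)) = w
          group
      rw [← Nat.card_eq_fintype_card, h1]
      obtain ⟨n, hn⟩ := IsPGroup.iff_card.mp (h.isPGroup_centralizer.to_le (rr_le_centralizer V))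
      rw [hn]
      intro hd
      have := (Nat.prime_three).dvd_of_dvd_pow hd
      omega
    obtain ⟨g, hg⟩ := Equiv.Perm.exists_fixed_point_of_prime hcard hσ3
    exact ⟨g, g.2.1, g.2.2, congrArg Subtype.val hg⟩
  have hjj := h.sq_one hj hjr
  have hj1 : j ≠ 1 := fun e1 => hjr (by rw [e1]; exact one_mem _)
  obtain ⟨P, hP⟩ := exists_sylow h.toGeoC
  rcases Transfer.ThompsonTransfer.thompson_transfer P h.sub (by rw [hP]; exact h.sub_le_T)
    (by rw [hP]; exact h.relIndex_sub) j (by rw [pow_two]; exact hjj) with ⟨M, h1, h2, -⟩ | ⟨g, hg⟩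
  · exact ⟨M, h1, h2⟩
  · exfalso
    have h1 : g * j * g⁻¹ * (g * j * g⁻¹) = 1 := by
      calc g * j * g⁻¹ * (g * j * g⁻¹) = g * (j * j) * g⁻¹ := by group
        _ = 1 := by rw [hjj]; group
    have h2 : g * j * g⁻¹ ≠ 1 := by
      intro e1
      apply hj1
      have : j = g⁻¹ * (g * j * g⁻¹) * g := by group
      rw [this, e1]; group
    obtain ⟨k0, hk0⟩ := h.exists_conj_of_mem_sub hg h1 h2
    set k := g⁻¹ * k0 with hk
    have hkz : k * z * k⁻¹ = j := by
      calc k * z * k⁻¹ = g⁻¹ * (k0 * z * k0⁻¹) * g := by rw [hk]; group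
        _ = j := by rw [hk0]; group
    have hzk : k⁻¹ * j * k = z := by rw [← hkz]; group
    have hconj : ∀ c : G, c * j = j * c → k⁻¹ * c * k ∈ centralizer ({z} : Set G) := by
      intro c hc
      rw [mem_centralizer_singleton_iff]
      calc k⁻¹ * c * k * z = k⁻¹ * c * (k * z * k⁻¹) * k := by group
        _ = k⁻¹ * (c * j) * k := by rw [hkz]; group
        _ = k⁻¹ * (j * c) * k := by rw [hc]
        _ = (k⁻¹ * j * k) * (k⁻¹ * c * k) := by group
        _ = z * (k⁻¹ * c * k) := by rw [hzk]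
    refine h.no_four (F := cj k⁻¹ V) (y := k⁻¹ * x * k) ?_ (by rw [card_cj, h.card_V]) ?_ ?_ ?_ ?_
    · intro f hf
      rw [mem_cj, inv_inv] at hf
      have h3 := hconj _ (comm_V hj hf).symm
      have h4 : k⁻¹ * (k * f * k⁻¹) * k = f := by group
      rwa [h4] at h3
    · rintro _ ⟨f, hf, rfl⟩
      rw [← map_mul, h.sq f hf, map_one]
    · refine hconj x ?_
      calc x * j = (x * j * x⁻¹) * x := by group
        _ = j * x := by rw [hjx]
    · intro f hf
      rw [mem_cj, inv_inv] at hf ⊢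
      have h3 := (mem_normalizer_iff.mp hx _).mp hf
      have h4 : k * (k⁻¹ * x * k * f * (k⁻¹ * x * k)⁻¹) * k⁻¹ = x * (k * f * k⁻¹) * x⁻¹ := by group
      rw [h4]; exact h3
    · intro f hf hf1 e1
      rw [mem_cj, inv_inv] at hf
      refine hxf _ hf (fun e2 => hf1 ?_) ?_
      · have : f = k⁻¹ * (k * f * k⁻¹) * k := by group
        rw [this, e2]; group
      · calc x * (k * f * k⁻¹) * x⁻¹ = k * (k⁻¹ * x * k * f * (k⁻¹ * x * k)⁻¹) * k⁻¹ := by group
          _ = k * f * k⁻¹ := by rw [e1]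

end Ex

/-- **The case `ws V z ≅ 4 ∘ Q₈`.** -/
theorem One.main (h : One T V z) : PRankLE 2 2 G ∨ ∃ M : Subgroup G, M.Normal ∧ M.index = 2 := by
  obtain ⟨q, hq, hq1, hqz⟩ := h.exists_y
  obtain ⟨t, u, hf⟩ := exists_fr h hq hq1 hqz
  rcases hf.dichotomy with h1 | ⟨e, a1, a2, a3, a4, a5⟩
  · exact Or.inl (Fr.pRankLE hf h1)
  · exact Or.inr (Ex.exists_index_two ⟨hf, a1, a2, a3, a4, a5⟩)

end Cfsg.Agent.OddCyclic.BTwoEndC
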