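import Cfsg.Agent.OddCyclic.BTwoA

/-!
# (E1), `b = 2`: the HS-shape (definition)

blueprints/S0342-Ba-helper208.md, end of section 4 (4.2); blueprints/S0342-E1-S5-helper794.md, section B.
`ws V z` has order `64`, `C_G(z)/kq V z ≅ S₅`; modulo the centre `⟨ζ⟩` (cyclic of order four) of `ws V z` it is the natural
module: elements of order three act fixed-point-freely on it.
-/

set_option autoImplicit false

namespace Cfsg.Agent.OddCyclic.BTwoHS

open Subgroup Cfsg Cfsg.Agent.ZN Cfsg.Agent.MinSimple.Geo Cfsg.Agent.OddCyclic.GeoC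
  Cfsg.Agent.OddCyclic.BTwoA

universe u

variable {G : Type u} [Group G]

/-- The HS-shape. -/
structure HS (T V : Subgroup G) (z : G) : Prop extends BTwo T V z where
  card_ws : Nat.card (ws V z) = 2 ^ 6
  card_dd : Nat.card (dd V) = 2 ^ 3
  card_lines : (lines V z).ncard = 15
  /-- the centre of `ws V z` -/
  cen : ∃ ζ ∈ ws V z, ζ * ζ = z ∧
    ∀ w ∈ ws V z, (∀ w' ∈ ws V z, w * w' = w' * w) → w ∈ Subgroup.zpowers ζ
  /-- the action of `C_G(z)` -/
  rep : ∃ φ : centralizer ({z} : Set G) →* Equiv.Perm (Fin 5), Function.Surjective φ ∧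
    (∀ c, φ c = 1 ↔ (c : G) ∈ kq V z) ∧
    (∀ c, φ c ≠ 1 → φ c * φ c * φ c = 1 → ∀ w ∈ ws V z, (c : G) * w * (c : G)⁻¹ * w⁻¹ ∈ zpowers z →
      ∀ w' ∈ ws V z, w * w' = w' * w) ∧
    (∀ q ∈ V, q ≠ 1 → q ≠ z → ∃ c : centralizer ({z} : Set G), (c : G) ∈ us V q ∧ Equiv.Perm.sign (φ c) = -1)

end Cfsg.Agent.OddCyclic.BTwoHS
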