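import Mathlib
import Cfsg.Agent.OddCyclic.GamFar

/-!
# `Gam`: planes

* `cx_eq_inf`, `plane_eq`: `ws V x ⊓ ws V u` is the `F₄`-point of `ws V x/⟨x⟩` which contains `u`;
* `Pl V z E`: planes; `Pl.eq_inf`, `Pl.card`, `Pl.comm`, `Pl.exists_rot`;
* `cent_three`: `[C_G(ws V x), y] ≤ ws V x` for `y ∈ C_G(x)` of order three.
-/

set_option autoImplicit false
set_option linter.dupNamespace false
set_option linter.unusedSectionVars false

namespace Cfsg.Agent.OddCyclic.GamBase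

open Subgroup Cfsg Cfsg.Agent.ZN Cfsg.Agent.MinSimple.Geo Cfsg.Agent.MinSimple.OddBase
open Cfsg.Agent.OddCyclic.T1Defs GamPerm GamMod GamLoc
open Cfsg.Agent.ZN.Block (conj_mem_of_normalizer conj_mem_of_normalizer' le_normalizer_of_forall
  mem_normalizer_of)

universe u

variable {G : Type u} [Group G]

namespace Gam

variable {V : Subgroup G} {z : G} [Finite G]

/-- elements of `ws V u` centralise `x` for collinear `x`, `u` -/
theorem comm_x (h : Gam V z) {x u : G} (hx : Pt z x) (hu : u ∈ ws V x) (hu1 : u ≠ 1) {b : G}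
    (hb : b ∈ ws V u) : b * x = x * b :=
  h.comm (h.pt hx hu hu1) hb (h.mem_symm hx hu hu1)

/-- elements of `ws V u` as elements of `C_G(x)` -/
def el' (h : Gam V z) {x u : G} (hx : Pt z x) (hu : u ∈ ws V x) (hu1 : u ≠ 1) {b : G}
    (hb : b ∈ ws V u) : centralizer ({x} : Set G) :=
  ⟨b, mem_centralizer_singleton_iff.mpr (h.comm_x hx hu hu1 hb)⟩

theorem el'_sq (h : Gam V z) {x u : G} (hx : Pt z x) (hu : u ∈ ws V x) (hu1 : u ≠ 1) {b : G}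
    (hb : b ∈ ws V u) (ρ : centralizer ({x} : Set G) →* S5) :
    ρ (h.el' hx hu hu1 hb) * ρ (h.el' hx hu hu1 hb) = 1 := by
  rw [← map_mul]
  have : h.el' hx hu hu1 hb * h.el' hx hu hu1 hb = 1 := Subtype.ext (h.sq_ws (h.pt hx hu hu1) hb)
  rw [this, map_one]

/-- commutators of `ws V u` and `ws V x` -/
theorem comm_mem_inf (h : Gam V z) {x u : G} (hx : Pt z x) (hu : u ∈ ws V x) (hu1 : u ≠ 1) {b w : G}
    (hb : b ∈ ws V u) (hw : w ∈ ws V x) : b * w * b⁻¹ * w ∈ ws V x ⊓ ws V u := by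
  have hup := h.pt hx hu hu1
  refine ⟨mul_mem (h.norm hx (h.comm_x hx hu hu1 hb) hw) hw, ?_⟩
  have h1 : w * b⁻¹ * w⁻¹ ∈ ws V u := h.norm hup (h.comm hx hw hu) (inv_mem hb)
  rw [h.inv_ws hx hw] at h1
  have e : b * w * b⁻¹ * w = b * (w * b⁻¹ * w) := by group
  rw [e]; exact mul_mem hb h1

theorem cx_eq_inf (h : Gam V z) {x u : G} (hx : Pt z x) {ρ : centralizer ({x} : Set G) →* S5}
    (hρ : Loc (ws V x) x ρ) (hu : u ∈ ws V x) (hu1 : u ≠ 1) {b : G}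
    (hb : b ∈ ws V u) (hne : ρ (h.el' hx hu hu1 hb) ≠ 1) :
    hρ.cx (h.el' hx hu hu1 hb) = ws V x ⊓ ws V u := by
  have hup := h.pt hx hu hu1
  have hxu := h.mem_symm hx hu hu1
  set c := h.el' hx hu hu1 hb with hc
  have hcb : (c : G) = b := rfl
  have hcc : ρ c * ρ c = 1 := h.el'_sq hx hu hu1 hb ρ
  apply le_antisymm
  · intro w hw
    obtain ⟨v, hv, hwv⟩ := hρ.exists_comm hcc hne hw
    have h1 := h.comm_mem_inf hx hu hu1 hb hv
    rw [hcb] at hwv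
    rcases hwv with e | e
    · rw [e]; exact h1
    · rw [e]; exact mul_mem h1 ⟨hρ.x_mem, hxu⟩
  · rintro w ⟨hw, hw'⟩
    rw [hρ.mem_cx]
    refine ⟨hw, Or.inl ?_⟩
    rw [hcb, h.comm hup hb hw', mul_inv_cancel_right]

/-- lifts fixing `u` -/
theorem fix_lift (h : Gam V z) {x u : G} (hx : Pt z x) {ρ : centralizer ({x} : Set G) →* S5}
    (hρ : Loc (ws V x) x ρ) (hu : u ∈ ws V x) (hu1 : u ≠ 1) (hux : u ≠ x)
    {c : centralizer ({x} : Set G)} (hc : Cg x ((c : G) * u * (c : G)⁻¹) u) :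
    ∃ d, ρ d = ρ c ∧ (d : G) * u = u * d := by
  rcases hc with e | e
  · exact ⟨c, rfl, mul_inv_eq_iff_eq_mul.mp e⟩
  · obtain ⟨k, hk, hk2⟩ := h.exists_neg hx hρ hu hu1 hux
    refine ⟨k * c, by rw [map_mul, hk, one_mul], ?_⟩
    have hxk : (k : G) * x * (k : G)⁻¹ = x := by
      rw [mem_centralizer_singleton_iff.mp k.2, mul_inv_cancel_right]
    apply mul_inv_eq_iff_eq_mul.mp
    change (k : G) * c * u * ((k : G) * c)⁻¹ = u
    calc (k : G) * c * u * ((k : G) * c)⁻¹ = (k : G) * ((c : G) * u * (c : G)⁻¹) * (k : G)⁻¹ := by group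
      _ = ((k : G) * u * (k : G)⁻¹) * ((k : G) * x * (k : G)⁻¹) := by rw [e]; group
      _ = u := by rw [hk2, hxk, mul_assoc, hρ.xx, mul_one]

theorem exists_act (h : Gam V z) {x u : G} (hx : Pt z x) {ρ : centralizer ({x} : Set G) →* S5}
    (hρ : Loc (ws V x) x ρ) (hu : u ∈ ws V x) (hu1 : u ≠ 1) (hux : u ≠ x) :
    ∃ b, ∃ hb : b ∈ ws V u, ρ (h.el' hx hu hu1 hb) ≠ 1 := by
  obtain ⟨b, hb, w, hw, hn⟩ := h.act_ne hx hu hu1 hux
  exact ⟨b, hb, fun e => hn ((hρ.ker _).mp e w hw)⟩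

theorem plane_eq (h : Gam V z) {x u : G} (hx : Pt z x) {ρ : centralizer ({x} : Set G) →* S5}
    (hρ : Loc (ws V x) x ρ) (hu1 : u ≠ 1) (hux : u ≠ x) {i : Fin 5} (hi : u ∈ hρ.pg i) :
    ws V x ⊓ ws V u = hρ.pg i := by
  have hu : u ∈ ws V x := hρ.pg_le i hi
  have hup := h.pt hx hu hu1
  have hxu := h.mem_symm hx hu hu1
  obtain ⟨b, hb, hne⟩ := h.exists_act hx hρ hu hu1 hux
  by_cases hK : K4 i (ρ (h.el' hx hu hu1 hb))
  · rw [← h.cx_eq_inf hx hρ hu hu1 hb hne, hρ.cx_eq_pg hK hne]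
  · have hbu : Cg x (((h.el' hx hu hu1 hb : centralizer ({x} : Set G)) : G) * u *
        ((h.el' hx hu hu1 hb : centralizer ({x} : Set G)) : G)⁻¹) u := by
      left
      change b * u * b⁻¹ = u
      rw [h.comm hup hb (h.self_mem hup), mul_inv_cancel_right]
    have hfix := hρ.idx_fix hi hu1 hux hbu
    obtain ⟨g, hg, hg2, hg3⟩ := exists_comm_k4 i _ hfix (h.el'_sq hx hu hu1 hb ρ) hK
    obtain ⟨d, rfl⟩ := hρ.even g hg.2.1
    obtain ⟨d', hd', hd'u⟩ := h.fix_lift hx hρ hu hu1 hux (hρ.fix_of_k4 hg hi)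
    have hb' : b * ((d' : G) * b⁻¹ * (d' : G)⁻¹) ∈ ws V u := mul_mem hb (h.norm hup hd'u (inv_mem hb))
    have e : h.el' hx hu hu1 hb' = h.el' hx hu hu1 hb * d' * (h.el' hx hu hu1 hb)⁻¹ * d'⁻¹ := by
      apply Subtype.ext
      change b * ((d' : G) * b⁻¹ * (d' : G)⁻¹) = b * d' * b⁻¹ * (d' : G)⁻¹
      group
    have e2 : ρ (h.el' hx hu hu1 hb') = ρ (h.el' hx hu hu1 hb) * ρ d * (ρ (h.el' hx hu hu1 hb))⁻¹ * (ρ d)⁻¹ := by
      rw [e, map_mul, map_mul, map_mul, map_inv, map_inv, hd']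
    have hne' : ρ (h.el' hx hu hu1 hb') ≠ 1 := by rw [e2]; exact hg3
    rw [← h.cx_eq_inf hx hρ hu hu1 hb' hne', hρ.cx_eq_pg (by rw [e2]; exact hg2) hne']

theorem plane_same (h : Gam V z) {x u u' : G} (hx : Pt z x) (hu : u ∈ ws V x) (hu1 : u ≠ 1)
    (hux : u ≠ x) (hu' : u' ∈ ws V x ⊓ ws V u) (hu1' : u' ≠ 1) (hux' : u' ≠ x) :
    ws V x ⊓ ws V u' = ws V x ⊓ ws V u := by
  obtain ⟨ρ, hρ⟩ := h.loc_pt hx
  obtain ⟨i, hi⟩ := hρ.exists_pg hu
  have h1 := h.plane_eq hx hρ hu1 hux hi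
  rw [h1] at hu' ⊢
  exact h.plane_eq hx hρ hu1' hux' hu'

end Gam

/-- planes -/
def Pl (V : Subgroup G) (z : G) (E : Subgroup G) : Prop :=
  ∃ x u, Pt z x ∧ u ∈ ws V x ∧ u ≠ 1 ∧ u ≠ x ∧ E = ws V x ⊓ ws V u

namespace Pl

variable {V : Subgroup G} {z : G} [Finite G] {E : Subgroup G}

theorem conj (hE : Pl V z E) (g : G) : Pl V z (cj g E) := by
  obtain ⟨x, u, hx, hu, hu1, hux, rfl⟩ := hE
  refine ⟨g * x * g⁻¹, g * u * g⁻¹, hx.conj g, ?_, conj_ne_one hu1, fun e => hux (conj_inj e), ?_⟩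
  · rw [← cj_ws]; exact conj_mem_cj hu
  · rw [cj_inf, cj_ws, cj_ws]

theorem pt (hE : Pl V z E) (h : Gam V z) {a : G} (ha : a ∈ E) (ha1 : a ≠ 1) : Pt z a := by
  obtain ⟨x, u, hx, hu, hu1, hux, rfl⟩ := hE
  exact h.pt hx ha.1 ha1

theorem eq_inf (hE : Pl V z E) (h : Gam V z) {a b : G} (ha : a ∈ E) (ha1 : a ≠ 1) (hb : b ∈ E)
    (hb1 : b ≠ 1) (hab : a ≠ b) : E = ws V a ⊓ ws V b := by
  obtain ⟨x, u, hx, hu, hu1, hux, rfl⟩ := hE
  by_cases hax : a = x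
  · subst hax
    exact (h.plane_same hx hu hu1 hux hb hb1 hab.symm).symm
  by_cases hbx : b = x
  · subst hbx
    rw [inf_comm (ws V a) (ws V b)]
    exact (h.plane_same hx hu hu1 hux ha ha1 hax).symm
  · have h1 := h.plane_same hx hu hu1 hux ha ha1 hax
    rw [← h1, inf_comm (ws V x) (ws V a)] at hb ⊢
    have hap := h.pt hx ha.1 ha1
    have hxa := h.mem_symm hx ha.1 ha1
    exact (h.plane_same hap hxa (h.ne_one hx) (fun e => hax e.symm) hb hb1 (fun e => hab e.symm)).symm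

theorem le_ws (hE : Pl V z E) (h : Gam V z) {a : G} (ha : a ∈ E) (ha1 : a ≠ 1) : E ≤ ws V a := by
  obtain ⟨x, u, hx, hu, hu1, hux, hEE⟩ := hE
  have hE : Pl V z E := ⟨x, u, hx, hu, hu1, hux, hEE⟩
  by_cases hax : a = x
  · rw [hEE, hax]; exact inf_le_left
  · have hxE : x ∈ E := by rw [hEE]; exact ⟨h.self_mem hx, h.mem_symm hx hu hu1⟩
    rw [hE.eq_inf h ha ha1 hxE (h.ne_one hx) hax]
    exact inf_le_left

theorem comm (hE : Pl V z E) (h : Gam V z) {a b : G} (ha : a ∈ E) (hb : b ∈ E) : a * b = b * a := by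
  obtain ⟨x, u, hx, hu, hu1, hux, rfl⟩ := hE
  exact h.comm hx ha.1 hb.1

theorem sq (hE : Pl V z E) (h : Gam V z) {a : G} (ha : a ∈ E) : a * a = 1 := by
  obtain ⟨x, u, hx, hu, hu1, hux, rfl⟩ := hE
  exact h.sq_ws hx ha.1

theorem inv (hE : Pl V z E) (h : Gam V z) {a : G} (ha : a ∈ E) : a⁻¹ = a :=
  inv_eq_of_mul_eq_one_left (hE.sq h ha)

theorem card (hE : Pl V z E) (h : Gam V z) : Nat.card E = 8 := by
  obtain ⟨x, u, hx, hu, hu1, hux, rfl⟩ := hE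
  obtain ⟨ρ, hρ⟩ := h.loc_pt hx
  obtain ⟨i, hi⟩ := hρ.exists_pg hu
  rw [h.plane_eq hx hρ hu1 hux hi, hρ.card_pg]

/-- the plane as an `F₄`-point of one of its points -/
theorem exists_pg (hE : Pl V z E) (h : Gam V z) {a : G} (ha : a ∈ E) (ha1 : a ≠ 1)
    {ρ : centralizer ({a} : Set G) →* S5} (hρ : Loc (ws V a) a ρ) : ∃ i, E = hρ.pg i := by
  have : ∃ b ∈ E, b ≠ 1 ∧ b ≠ a := by
    by_contra hcon
    push Not at hcon
    have h1 : (E : Set G) ⊆ {1, a} := by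
      intro t ht
      by_cases ht1 : t = 1
      · exact Or.inl ht1
      · exact Or.inr (hcon t ht ht1)
    have h2 := Set.ncard_le_ncard h1 (Set.toFinite _)
    have h3 : (E : Set G).ncard = 8 := by rw [← hE.card h]; rfl
    rw [h3, Set.ncard_pair ha1.symm] at h2
    omega
  obtain ⟨b, hb, hb1, hba⟩ := this
  have hbW := hE.le_ws h ha ha1 hb
  obtain ⟨i, hi⟩ := hρ.exists_pg hbW
  exact ⟨i, by rw [← h.plane_eq (hE.pt h ha ha1) hρ hb1 hba hi]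
               exact hE.eq_inf h ha ha1 hb hb1 hba.symm⟩

/-- `[ws V a, C_G(E)] ≤ E` -/
theorem comm_mem (hE : Pl V z E) (h : Gam V z) {a : G} (ha : a ∈ E) (ha1 : a ≠ 1) {c : G}
    (hc : ∀ e ∈ E, c * e = e * c) {w : G} (hw : w ∈ ws V a) : c * w * c⁻¹ * w ∈ E := by
  have hap := hE.pt h ha ha1
  obtain ⟨ρ, hρ⟩ := h.loc_pt hap
  obtain ⟨i, rfl⟩ := hE.exists_pg h ha ha1 hρ
  have hca : c ∈ centralizer ({a} : Set G) := mem_centralizer_singleton_iff.mpr (hc a ha)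
  have hK : K4 i (ρ ⟨c, hca⟩) := hρ.k4_of_pg fun w hw => Or.inl (by
    change c * w * c⁻¹ = w
    rw [hc w hw, mul_inv_cancel_right])
  exact hρ.quot_of_k4 hK hw

/-- elements of `ws V b`, `b ∈ E`, centralise `E` -/
theorem ws_comm (hE : Pl V z E) (h : Gam V z) {b : G} (hb : b ∈ E) (hb1 : b ≠ 1) {w : G}
    (hw : w ∈ ws V b) {e : G} (he : e ∈ E) : w * e = e * w :=
  h.comm (hE.pt h hb hb1) hw (hE.le_ws h hb hb1 he)

/-- an element which rotates a line of `E` normalises `E` -/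
theorem cj_eq (hE : Pl V z E) (h : Gam V z) {a b c : G} (ha : a ∈ E) (ha1 : a ≠ 1) (hb : b ∈ E)
    (hb1 : b ≠ 1) (hab : a ≠ b) (ha' : c * a * c⁻¹ ∈ E) (hb' : c * b * c⁻¹ ∈ E) : cj c E = E := by
  conv_lhs => rw [hE.eq_inf h ha ha1 hb hb1 hab]
  rw [cj_inf, cj_ws, cj_ws]
  exact (hE.eq_inf h ha' (conj_ne_one ha1) hb' (conj_ne_one hb1) (fun e => hab (conj_inj e))).symm

end Pl

namespace Gam

variable {V : Subgroup G} {z : G} [Finite G]

theorem pl (_ : Gam V z) {x u : G} (hx : Pt z x) (hu : u ∈ ws V x) (hu1 : u ≠ 1) (hux : u ≠ x) :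
    Pl V z (ws V x ⊓ ws V u) := ⟨x, u, hx, hu, hu1, hux, rfl⟩

/-- `[C_G(ws V x), y] ≤ ws V x` for `y ∈ C_G(x)` of order three -/
theorem cent_three (h : Gam V z) {x : G} (hx : Pt z x) {c y : G} (hc : ∀ w ∈ ws V x, c * w = w * c)
    (hy : y * x = x * y) (hy3 : y ^ 3 = 1) : c * y * c⁻¹ * y⁻¹ ∈ ws V x := by
  by_cases hy1 : y = 1
  · rw [hy1]; simp [one_mem]
  obtain ⟨ρ, hρ⟩ := h.loc_pt hx
  -- the subgroup of all `g` with `[C0, g] ≤ ws V x`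
  let L : Subgroup (centralizer ({x} : Set G)) :=
    { carrier := {g | ∀ c : G, (∀ w ∈ ws V x, c * w = w * c) → c * (g : G) * c⁻¹ * (g : G)⁻¹ ∈ ws V x}
      one_mem' := fun c _ => by simp [one_mem]
      mul_mem' := by
        intro a b ha hb c hc
        change c * ((a : G) * b) * c⁻¹ * ((a : G) * b)⁻¹ ∈ _
        have e : c * ((a : G) * b) * c⁻¹ * ((a : G) * b)⁻¹ =
            (c * (a : G) * c⁻¹ * (a : G)⁻¹) * ((a : G) * (c * (b : G) * c⁻¹ * (b : G)⁻¹) * (a : G)⁻¹) := by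
          group
        rw [e]
        exact mul_mem (ha c hc) (hρ.norm a a.2 _ (hb c hc))
      inv_mem' := by
        intro a ha c hc
        change c * (a : G)⁻¹ * c⁻¹ * (a : G)⁻¹⁻¹ ∈ _
        have e : c * (a : G)⁻¹ * c⁻¹ * (a : G)⁻¹⁻¹ =
            (a : G)⁻¹ * (a * (c * (a : G)⁻¹ * c⁻¹ * (a : G)⁻¹⁻¹) * (a : G)⁻¹) * (a : G)⁻¹⁻¹ := by group
        rw [e]
        refine hρ.norm _ (inv_mem a.2) _ ?_
        have e2 : (a : G) * (c * (a : G)⁻¹ * c⁻¹ * (a : G)⁻¹⁻¹) * (a : G)⁻¹ =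
            (c * (a : G) * c⁻¹ * (a : G)⁻¹)⁻¹ := by group
        rw [e2]
        exact inv_mem (ha c hc) }
  have hL : ∀ {g : centralizer ({x} : Set G)}, g ∈ L ↔ ∀ c : G, (∀ w ∈ ws V x, c * w = w * c) →
      c * (g : G) * c⁻¹ * (g : G)⁻¹ ∈ ws V x := Iff.rfl
  have hLn : L.Normal := by
    constructor
    intro g hg t
    rw [hL] at hg ⊢
    intro c hc
    have hc' : ∀ w ∈ ws V x, (t : G)⁻¹ * c * t * w = w * ((t : G)⁻¹ * c * t) := by
      intro w hw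
      have h1 := hc _ (hρ.norm t t.2 w hw)
      calc (t : G)⁻¹ * c * t * w = (t : G)⁻¹ * (c * (t * w * (t : G)⁻¹)) * t := by group
        _ = (t : G)⁻¹ * (t * w * (t : G)⁻¹ * c) * t := by rw [h1]
        _ = w * ((t : G)⁻¹ * c * t) := by group
    have h1 := hρ.norm t t.2 _ (hg _ hc')
    have e : c * ((t * g * t⁻¹ : centralizer ({x} : Set G)) : G) * c⁻¹ * ((t * g * t⁻¹ : centralizer ({x} : Set G)) : G)⁻¹ =
        (t : G) * ((t : G)⁻¹ * c * t * g * ((t : G)⁻¹ * c * t)⁻¹ * (g : G)⁻¹) * (t : G)⁻¹ := by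
      change c * ((t : G) * g * (t : G)⁻¹) * c⁻¹ * ((t : G) * g * (t : G)⁻¹)⁻¹ = _
      group
    rw [e]; exact h1
  -- a point `u` of `ws V x`
  have hex : ∃ u ∈ ws V x, u ≠ 1 ∧ u ≠ x := by
    obtain ⟨g, hg, hG⟩ := h.exists_gam hx
    obtain ⟨t, _, v, hv, _, hv1, hvx⟩ := hG.move
    exact ⟨v, le_ws (⟨⟨g, rfl⟩, hG.z_mem⟩ : cj g V ∈ lines V x) hv, hv1, hvx⟩
  obtain ⟨u, hu, hu1, hux⟩ := hex
  obtain ⟨b, hb, hne⟩ := h.exists_act hx hρ hu hu1 hux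
  have hup := h.pt hx hu hu1
  have hbL : h.el' hx hu hu1 hb ∈ L := by
    rw [hL]
    intro c hc
    have h1 := (h.pl hx hu hu1 hux).comm_mem h (a := u) ⟨hu, h.self_mem hup⟩ hu1 (c := c)
      (fun e he => hc e he.1) hb
    change c * b * c⁻¹ * b⁻¹ ∈ _
    rw [h.inv_ws hup hb]
    exact h1.1
  obtain ⟨g, hg, h3⟩ := exists_conj_o3 _ (h.el'_sq hx hu hu1 hb ρ) hne
  obtain ⟨d, rfl⟩ := hρ.even g hg
  have hmL : h.el' hx hu hu1 hb * (d * h.el' hx hu hu1 hb * d⁻¹) ∈ L := mul_mem hbL (hLn.conj_mem _ hbL d)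
  have h3' : O3 (ρ (h.el' hx hu hu1 hb * (d * h.el' hx hu hu1 hb * d⁻¹))) := by
    rw [map_mul, map_mul, map_mul, map_inv]; exact h3
  obtain ⟨m, hm, hm2⟩ := h.exists_three hx hρ h3'
  have hpL := pow_mem hmL (3 * m + 1)
  set q := (h.el' hx hu hu1 hb * (d * h.el' hx hu hu1 hb * d⁻¹)) ^ (3 * m + 1) with hq
  have hq3 : q ^ 3 = 1 := by
    rw [hq, ← pow_mul]
    exact Subtype.ext hm
  have hq1 : q ≠ 1 := by
    intro e
    rw [e, map_one] at hm2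
    exact h3'.2 hm2.symm
  have hpr : Fact (Nat.Prime 3) := ⟨Nat.prime_three⟩
  have hdvd : 3 ∣ Nat.card L := by
    have h4 : orderOf (⟨q, hpL⟩ : L) = 3 := by
      rw [Subgroup.orderOf_mk]; exact orderOf_eq_prime hq3 hq1
    rw [← h4]; exact orderOf_dvd_natCard _
  have hyZ : y ∈ centralizer ({x} : Set G) := mem_centralizer_singleton_iff.mpr hy
  have h5 := CompBasic.mem_of_orderOf (CompBasic.oddCyc_subgroup h.cyc _) Nat.prime_three (by norm_num)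
    hLn hdvd (x := ⟨y, hyZ⟩) (by rw [Subgroup.orderOf_mk]; exact orderOf_eq_prime hy3 hy1)
  exact hL.mp h5 c hc

end Gam

end Cfsg.Agent.OddCyclic.GamBase
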