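import Mathlib
import Cfsg.Agent.OddCyclic.GamMod

/-!
# The section `N / Z` as a module for a group `C`

`SecZ N C Z`: `Z ≤ N ≤ C`, `C` normalizes `N` and `Z` and the squares of elements of `N` are in `Z`. Then `N / Z` is an
additive group of exponent two (`MZ s`) with an action of `C`.  (Compare `MinSimple/Sec.lean`.)
-/

set_option autoImplicit false
set_option linter.dupNamespace false
set_option linter.unusedTactic false

namespace Cfsg.Agent.OddCyclic.GamNSec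

open Subgroup

universe u

variable {G : Type u} [Group G]

/-- The section `N / Z` with the action of `C`. -/
structure SecZ (N C Z : Subgroup G) : Prop where
  ZN : Z ≤ N
  NC : N ≤ C
  CZ : ∀ c ∈ C, ∀ n ∈ Z, c * n * c⁻¹ ∈ Z
  CN : ∀ c ∈ C, ∀ n ∈ N, c * n * c⁻¹ ∈ N
  sq : ∀ n ∈ N, n * n ∈ Z

variable {N C Z : Subgroup G}

namespace SecZ

theorem comm_mem (s : SecZ N C Z) {a b : G} (ha : a ∈ N) (hb : b ∈ N) : a * b * a⁻¹ * b⁻¹ ∈ Z := by
  have h1 := s.sq _ (mul_mem ha hb)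
  have h2 := s.sq _ ha
  have h3 := s.sq _ hb
  have e : a * b * a⁻¹ * b⁻¹ = (a * b * (a * b)) * (b⁻¹ * (a * a)⁻¹ * b⁻¹⁻¹) * (b * b)⁻¹ := by group
  rw [e]
  exact mul_mem (mul_mem h1 (s.CZ _ (inv_mem (s.NC hb)) _ (inv_mem h2))) (inv_mem h3)

theorem normal (s : SecZ N C Z) : (Z.subgroupOf N).Normal := by
  constructor
  intro n hn g
  rw [mem_subgroupOf] at hn ⊢
  exact s.CZ _ (s.NC g.2) _ hn

end SecZ

/-- `N / Z` -/
def MZ (_ : SecZ N C Z) : Type u := Additive (↥N ⧸ Z.subgroupOf N)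

namespace MZ

variable (s : SecZ N C Z)

instance : AddCommGroup (MZ s) := by
  letI : (Z.subgroupOf N).Normal := s.normal
  letI : CommGroup (↥N ⧸ Z.subgroupOf N) :=
    { (inferInstance : Group (↥N ⧸ Z.subgroupOf N)) with
      mul_comm := by
        intro x y
        obtain ⟨a, rfl⟩ := QuotientGroup.mk_surjective x
        obtain ⟨b, rfl⟩ := QuotientGroup.mk_surjective y
        rw [← QuotientGroup.mk_mul, ← QuotientGroup.mk_mul, QuotientGroup.eq, mem_subgroupOf]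
        have h1 := s.comm_mem (inv_mem b.2) (inv_mem a.2)
        have h2 : (((a * b)⁻¹ * (b * a) : N) : G) = (b : G)⁻¹ * (a : G)⁻¹ * (b : G)⁻¹⁻¹ * (a : G)⁻¹⁻¹ := by
          simp [mul_assoc]
        rw [h2]; exact h1 }
  exact inferInstanceAs (AddCommGroup (Additive (↥N ⧸ Z.subgroupOf N)))

instance [Finite G] : Finite (MZ s) := inferInstanceAs (Finite (↥N ⧸ Z.subgroupOf N))

variable {s}

/-- the class of an element of `N` -/
def mk (s : SecZ N C Z) (n : G) (hn : n ∈ N) : MZ s :=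
  Additive.ofMul (QuotientGroup.mk (⟨n, hn⟩ : N) : ↥N ⧸ Z.subgroupOf N)

theorem mk_surj (x : MZ s) : ∃ n, ∃ hn : n ∈ N, mk s n hn = x := by
  obtain ⟨⟨n, hn⟩, h⟩ := QuotientGroup.mk_surjective (s := Z.subgroupOf N) (Additive.toMul x)
  exact ⟨n, hn, h⟩

theorem mk_mul {a b : G} (ha : a ∈ N) (hb : b ∈ N) :
    mk s (a * b) (mul_mem ha hb) = mk s a ha + mk s b hb := rfl

theorem mk_one : mk s 1 (one_mem N) = 0 := rfl

theorem mk_eq {a b : G} (ha : a ∈ N) (hb : b ∈ N) : mk s a ha = mk s b hb ↔ a⁻¹ * b ∈ Z := by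
  have h1 : mk s a ha = mk s b hb ↔ (QuotientGroup.mk (⟨a, ha⟩ : N) : ↥N ⧸ Z.subgroupOf N) =
    QuotientGroup.mk (⟨b, hb⟩ : N) := Iff.rfl
  rw [h1, QuotientGroup.eq, mem_subgroupOf]
  rfl

theorem mk_eq_zero {a : G} (ha : a ∈ N) : mk s a ha = 0 ↔ a ∈ Z := by
  rw [← mk_one, eq_comm, mk_eq, inv_one, one_mul]

theorem add_self (x : MZ s) : x + x = 0 := by
  obtain ⟨a, ha, rfl⟩ := mk_surj x
  rw [← mk_mul, mk_eq_zero]
  exact s.sq _ ha

theorem neg_eq (x : MZ s) : -x = x := neg_eq_of_add_eq_zero_left (add_self x)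

theorem mk_inv {a : G} (ha : a ∈ N) : mk s a⁻¹ (inv_mem ha) = mk s a ha := by
  have h1 : mk s (a⁻¹ * a) (mul_mem (inv_mem ha) ha) = 0 := by
    rw [mk_eq_zero, inv_mul_cancel]; exact one_mem _
  rw [mk_mul] at h1
  have := eq_neg_of_add_eq_zero_left h1
  rwa [neg_eq] at this

/-- the action of `C` -/
instance : DistribMulAction C (MZ s) where
  smul c x := Quotient.liftOn' (Additive.toMul x)
    (fun n : N => (mk s ((c : G) * n * (c : G)⁻¹) (s.CN c c.2 n n.2)))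
    (by
      intro a b hab
      rw [QuotientGroup.leftRel_apply, mem_subgroupOf] at hab
      change mk s _ _ = mk s _ _
      rw [mk_eq]
      have hab' : (a : G)⁻¹ * b ∈ Z := hab
      have e : ((c : G) * a * (c : G)⁻¹)⁻¹ * (c * b * (c : G)⁻¹) = c * ((a : G)⁻¹ * b) * (c : G)⁻¹ := by group
      rw [e]
      exact s.CZ c c.2 _ hab')
  one_smul := by
    intro x
    obtain ⟨a, ha, rfl⟩ := mk_surj x
    change mk s _ _ = mk s _ _
    rw [mk_eq]
    have e : (((1 : C) : G) * a * ((1 : C) : G)⁻¹)⁻¹ * a = 1 := by simp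
    change (((1 : C) : G) * a * ((1 : C) : G)⁻¹)⁻¹ * a ∈ _
    rw [e]; exact one_mem _
  mul_smul := by
    intro c d x
    obtain ⟨a, ha, rfl⟩ := mk_surj x
    change mk s _ _ = mk s _ _
    rw [mk_eq]
    change (((c * d : C) : G) * a * ((c * d : C) : G)⁻¹)⁻¹ * (c * (d * a * (d : G)⁻¹) * (c : G)⁻¹) ∈ _
    have e : (((c * d : C) : G) * a * ((c * d : C) : G)⁻¹)⁻¹ * (c * (d * a * (d : G)⁻¹) * (c : G)⁻¹) = 1 := by
      have : ((c * d : C) : G) = c * d := rfl
      rw [this]; group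
    rw [e]; exact one_mem _
  smul_zero := by
    intro c
    change mk s _ _ = 0
    rw [mk_eq_zero]
    change (c : G) * 1 * (c : G)⁻¹ ∈ _
    rw [mul_one, mul_inv_cancel]; exact one_mem _
  smul_add := by
    intro c x y
    obtain ⟨a, ha, rfl⟩ := mk_surj x
    obtain ⟨b, hb, rfl⟩ := mk_surj y
    change mk s _ _ = mk s _ _ + mk s _ _
    rw [← mk_mul, mk_eq]
    change (c * (a * b) * (c : G)⁻¹)⁻¹ * (c * a * (c : G)⁻¹ * (c * b * (c : G)⁻¹)) ∈ _
    have e : (c * (a * b) * (c : G)⁻¹)⁻¹ * (c * a * (c : G)⁻¹ * (c * b * (c : G)⁻¹)) = 1 := by group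
    rw [e]; exact one_mem _

theorem smul_mk (c : C) {a : G} (ha : a ∈ N) : c • mk s a ha = mk s ((c : G) * a * (c : G)⁻¹) (s.CN c c.2 a ha) := rfl

/-- the cardinality of the section -/
theorem card_mul (s : SecZ N C Z) : Nat.card (MZ s) * Nat.card Z = Nat.card N := by
  have h1 := Subgroup.card_eq_card_quotient_mul_card_subgroup (Z.subgroupOf N)
  rw [h1]
  congr 1
  exact (Nat.card_congr (subgroupOfEquivOfLe s.ZN).toEquiv).symm

end MZ

end Cfsg.Agent.OddCyclic.GamNSec
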