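import Mathlib
import Cfsg.Agent.OddCyclic.GamNSec
import Cfsg.Agent.OddCyclic.GamLoc

/-!
# A nonabelian group `W` of order 64 with `W' = Φ(W) = ⟨x⟩`, `|Z(W)| = 4` and `ΓL₂(4)` on `W/Z(W)`

`NLoc W x ρ`; all consequences of `GamMod` are transferred to statements on elements of `G`.
-/

set_option autoImplicit false
set_option linter.dupNamespace false
set_option linter.unusedSectionVars false

namespace Cfsg.Agent.OddCyclic.GamNLoc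

open Subgroup GamPerm GamMod GamLoc GamNSec

universe u

variable {G : Type u} [Group G]

/-- the centre of `W` -/
def zz (W : Subgroup G) : Subgroup G := W ⊓ centralizer (W : Set G)

theorem mem_zz {W : Subgroup G} {a : G} : a ∈ zz W ↔ a ∈ W ∧ ∀ w ∈ W, w * a = a * w := by
  unfold zz
  rw [mem_inf, mem_centralizer_iff]
  rfl

theorem zz_comm {W : Subgroup G} {a w : G} (ha : a ∈ zz W) (hw : w ∈ W) : a * w = w * a :=
  ((mem_zz.mp ha).2 w hw).symm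

structure NLoc (W : Subgroup G) (x : G) (ρ : centralizer ({x} : Set G) →* S5) : Prop where
  x_ne : x ≠ 1
  xx : x * x = 1
  x_mem : x ∈ W
  le : W ≤ centralizer ({x} : Set G)
  norm : ∀ c ∈ centralizer ({x} : Set G), ∀ w ∈ W, c * w * c⁻¹ ∈ W
  sq : ∀ a ∈ W, a * a = 1 ∨ a * a = x
  card : Nat.card W = 64
  cardZ : Nat.card (zz W) = 4
  even : ∀ g : S5, Equiv.Perm.sign g = 1 → ∃ c, ρ c = g
  ker : ∀ c, ρ c = 1 ↔ ∀ w ∈ W, Cg x ((c : G) * w * (c : G)⁻¹) w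
  fpf : ∀ c, O3 (ρ c) → ∀ w ∈ W, (c : G) * w * (c : G)⁻¹ * w⁻¹ ∈ zz W → w ∈ zz W
  inv : ∃ v ∈ W, v ∉ zz W ∧ v * v = 1

namespace NLoc

variable {W : Subgroup G} {x : G} {ρ : centralizer ({x} : Set G) →* S5}

theorem x_comm (h : NLoc W x ρ) {w : G} (hw : w ∈ W) : w * x = x * w :=
  mem_centralizer_singleton_iff.mp (h.le hw)

theorem x_inv (h : NLoc W x ρ) : x⁻¹ = x := inv_eq_of_mul_eq_one_left h.xx

theorem conj_x (_ : NLoc W x ρ) (c : centralizer ({x} : Set G)) : (c : G) * x * (c : G)⁻¹ = x := by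
  rw [mem_centralizer_singleton_iff.mp c.2, mul_inv_cancel_right]

theorem x_zz (h : NLoc W x ρ) : x ∈ zz W := mem_zz.mpr ⟨h.x_mem, fun _ hw => h.x_comm hw⟩

theorem sq_zz (h : NLoc W x ρ) {a : G} (ha : a ∈ W) : a * a ∈ zz W := by
  rcases h.sq a ha with e | e
  · rw [e]; exact one_mem _
  · rw [e]; exact h.x_zz

theorem mem_centralizer_of_comm {c : G} (hc : c * x = x * c) : c ∈ centralizer ({x} : Set G) :=
  mem_centralizer_singleton_iff.mpr hc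

theorem conj_zz (h : NLoc W x ρ) {c : G} (hc : c ∈ centralizer ({x} : Set G)) {a : G} (ha : a ∈ zz W) :
    c * a * c⁻¹ ∈ zz W := by
  rw [mem_zz] at ha ⊢
  refine ⟨h.norm c hc a ha.1, fun w hw => ?_⟩
  have h1 := h.norm c⁻¹ (inv_mem hc) w hw
  rw [inv_inv] at h1
  have h2 := ha.2 _ h1
  calc w * (c * a * c⁻¹) = c * (c⁻¹ * w * c * a) * c⁻¹ := by group
    _ = c * (a * (c⁻¹ * w * c)) * c⁻¹ := by rw [h2]
    _ = c * a * c⁻¹ * w := by group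

theorem sec (h : NLoc W x ρ) : SecZ W (centralizer ({x} : Set G)) (zz W) where
  ZN := inf_le_left
  NC := h.le
  CZ := fun _ hc _ ha => h.conj_zz hc ha
  CN := h.norm
  sq := fun _ ha => h.sq_zz ha

/-- commutators are in `⟨x⟩` -/
theorem comm_cases (h : NLoc W x ρ) {a b : G} (ha : a ∈ W) (hb : b ∈ W) :
    a * b * a⁻¹ = b ∨ a * b * a⁻¹ = b * x := by
  have hx : ∀ {t : G}, (t = 1 ∨ t = x) → t⁻¹ = 1 ∨ t⁻¹ = x := by
    rintro t (rfl | rfl)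
    · left; simp
    · right; exact h.x_inv
  have hm : ∀ {s t : G}, (s = 1 ∨ s = x) → (t = 1 ∨ t = x) → s * t = 1 ∨ s * t = x := by
    rintro s t (rfl | rfl) (rfl | rfl) <;> simp [h.xx]
  have hcj : ∀ {t : G}, (t = 1 ∨ t = x) → b⁻¹ * t * b = 1 ∨ b⁻¹ * t * b = x := by
    rintro t (rfl | rfl)
    · left; simp
    · right
      have : t * b = b * t := (h.x_comm hb).symm
      rw [mul_assoc, this, inv_mul_cancel_left]
  have h1 := h.sq _ (mul_mem ha hb)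
  have h2 := h.sq _ ha
  have h3 := h.sq _ hb
  have e : a * b * a⁻¹ * b⁻¹ = (a * b * (a * b)) * (b⁻¹ * (a * a)⁻¹ * b) * (b * b)⁻¹ := by group
  have h4 : a * b * a⁻¹ * b⁻¹ = 1 ∨ a * b * a⁻¹ * b⁻¹ = x := by
    rw [e]; exact hm (hm h1 (hcj (hx h2))) (hx h3)
  rcases h4 with e1 | e1
  · left
    calc a * b * a⁻¹ = (a * b * a⁻¹ * b⁻¹) * b := by group
      _ = b := by rw [e1, one_mul]
  · right
    calc a * b * a⁻¹ = (a * b * a⁻¹ * b⁻¹) * b := by group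
      _ = b * x := by rw [e1, h.x_comm hb]

theorem finite_W (h : NLoc W x ρ) : Finite W := Nat.finite_of_card_ne_zero (by rw [h.card]; norm_num)

theorem finite_Z (h : NLoc W x ρ) : Finite (zz W) := Nat.finite_of_card_ne_zero (by rw [h.cardZ]; norm_num)

theorem mk_eq_iff (h : NLoc W x ρ) {a b : G} (ha : a ∈ W) (hb : b ∈ W) :
    MZ.mk h.sec a ha = MZ.mk h.sec b hb ↔ a⁻¹ * b ∈ zz W := MZ.mk_eq ha hb

theorem mk_eq_iff' (h : NLoc W x ρ) {a b : G} (ha : a ∈ W) (hb : b ∈ W) :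
    MZ.mk h.sec a ha = MZ.mk h.sec b hb ↔ ∃ ζ ∈ zz W, a = b * ζ := by
  rw [h.mk_eq_iff ha hb]
  constructor
  · intro h1
    exact ⟨(a⁻¹ * b)⁻¹, inv_mem h1, by group⟩
  · rintro ⟨ζ, hζ, rfl⟩
    have e : (b * ζ)⁻¹ * b = ζ⁻¹ := by
      calc (b * ζ)⁻¹ * b = ζ⁻¹ * (b⁻¹ * b) := by group
        _ = ζ⁻¹ := by rw [inv_mul_cancel, mul_one]
    rw [e]; exact inv_mem hζ

theorem mk_eq_zero_iff (h : NLoc W x ρ) {a : G} (ha : a ∈ W) :
    MZ.mk h.sec a ha = 0 ↔ a ∈ zz W := MZ.mk_eq_zero ha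

theorem card_mod (h : NLoc W x ρ) : Nat.card (MZ h.sec) = 16 := by
  have h1 := MZ.card_mul h.sec
  rw [h.card, h.cardZ] at h1
  omega

theorem nat5 (h : NLoc W x ρ) : Nat5 ρ (MZ h.sec) where
  even := h.even
  ker := by
    intro c hc m
    obtain ⟨n, hn, rfl⟩ := MZ.mk_surj m
    rw [MZ.smul_mk, h.mk_eq_iff']
    rcases (h.ker c).mp hc n hn with e | e
    · exact ⟨1, one_mem _, by rw [e, mul_one]⟩
    · exact ⟨x, h.x_zz, e⟩
  card := h.card_mod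
  add_self := MZ.add_self
  fpf := by
    intro c hc m hm
    obtain ⟨n, hn, rfl⟩ := MZ.mk_surj m
    rw [MZ.smul_mk, h.mk_eq_iff'] at hm
    rw [h.mk_eq_zero_iff]
    obtain ⟨ζ, hζ, e⟩ := hm
    refine h.fpf c hc n hn ?_
    rw [e]
    have : n * ζ * n⁻¹ = ζ := by rw [← zz_comm hζ hn, mul_inv_cancel_right]
    rw [this]; exact hζ

/-! ### consequences -/

theorem trans (h : NLoc W x ρ) {p q : G} (hp : p ∈ W) (hq : q ∈ W) (hp1 : p ∉ zz W) (hq1 : q ∉ zz W) :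
    ∃ c : centralizer ({x} : Set G), ∃ ζ ∈ zz W, (c : G) * p * (c : G)⁻¹ = q * ζ := by
  obtain ⟨c, _, h1⟩ := h.nat5.trans (m := MZ.mk h.sec p hp) (n := MZ.mk h.sec q hq)
    (by rwa [Ne, h.mk_eq_zero_iff]) (by rwa [Ne, h.mk_eq_zero_iff])
  rw [MZ.smul_mk, h.mk_eq_iff'] at h1
  exact ⟨c, h1⟩

theorem exists_cyc (h : NLoc W x ρ) {p q : G} (hp : p ∈ W) (hq : q ∈ W) (hp1 : p ∉ zz W) (hq1 : q ∉ zz W)
    (hpq : p * q ∉ zz W) :
    ∃ c, O3 (ρ c) ∧ (∃ ζ ∈ zz W, (c : G) * p * (c : G)⁻¹ = q * ζ) ∧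
      ∃ ζ ∈ zz W, (c : G) * q * (c : G)⁻¹ = p * q * ζ := by
  have hne : MZ.mk h.sec p hp ≠ MZ.mk h.sec q hq := by
    intro e
    apply hpq
    rw [← h.mk_eq_zero_iff (mul_mem hp hq), MZ.mk_mul hp hq, e, MZ.add_self]
  obtain ⟨c, hc, h1, h2⟩ := h.nat5.exists_cyc (by rwa [Ne, h.mk_eq_zero_iff]) (by rwa [Ne, h.mk_eq_zero_iff]) hne
  rw [MZ.smul_mk, h.mk_eq_iff'] at h1
  rw [MZ.smul_mk, ← MZ.mk_mul, h.mk_eq_iff'] at h2
  exact ⟨c, hc, h1, h2⟩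

/-- `m · m^c · m^(cc) ∈ Z(W)` -/
theorem three_sum (h : NLoc W x ρ) {c : centralizer ({x} : Set G)} (hc : O3 (ρ c)) {w : G} (hw : w ∈ W) :
    w * ((c : G) * w * (c : G)⁻¹) * ((c : G) * ((c : G) * w * (c : G)⁻¹) * (c : G)⁻¹) ∈ zz W := by
  have h1 := h.nat5.three_sum hc (MZ.mk h.sec w hw)
  have hcw := h.norm c c.2 w hw
  have hccw := h.norm c c.2 _ hcw
  rw [MZ.smul_mk, MZ.smul_mk, ← MZ.mk_mul, ← MZ.mk_mul, h.mk_eq_zero_iff] at h1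
  exact h1

/-- involutions: `C_{W/Z}(c) = [W/Z, c]` -/
theorem exists_comm (h : NLoc W x ρ) {c : centralizer ({x} : Set G)} (hc : ρ c * ρ c = 1) (hc1 : ρ c ≠ 1)
    {w : G} (hw : w ∈ W) (hcw : (c : G) * w * (c : G)⁻¹ * w⁻¹ ∈ zz W) :
    ∃ n ∈ W, w⁻¹ * ((c : G) * n * (c : G)⁻¹ * n⁻¹) ∈ zz W := by
  have h0 : c • MZ.mk h.sec w hw = MZ.mk h.sec w hw := by
    rw [MZ.smul_mk, h.mk_eq_iff']
    refine ⟨(c : G) * w * (c : G)⁻¹ * w⁻¹, hcw, ?_⟩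
    rw [← zz_comm hcw hw]; group
  obtain ⟨m, hm⟩ := (h.nat5.mem_fx_iff hc hc1).mp h0
  obtain ⟨n, hn, rfl⟩ := MZ.mk_surj m
  have h2 := MZ.mk_inv (s := h.sec) hn
  rw [MZ.smul_mk, ← h2, ← MZ.mk_mul, h.mk_eq_iff] at hm
  exact ⟨n, hn, hm⟩

theorem congr (h : NLoc W x ρ) {c d : centralizer ({x} : Set G)} (hcd : ρ c = ρ d) {w : G} (hw : w ∈ W) :
    ∃ ζ ∈ zz W, (c : G) * w * (c : G)⁻¹ = (d : G) * w * (d : G)⁻¹ * ζ := by
  have h1 := h.nat5.congr hcd (MZ.mk h.sec w hw)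
  rwa [MZ.smul_mk, MZ.smul_mk, h.mk_eq_iff'] at h1

/-- some element of `Z(W)` has square `x` -/
theorem exists_four (h : NLoc W x ρ) : ∃ ζ ∈ zz W, ζ * ζ = x := by
  by_contra hcon
  push Not at hcon
  have hZ : ∀ ζ ∈ zz W, ζ * ζ = 1 := by
    intro ζ hζ
    rcases h.sq ζ hζ.1 with e | e
    · exact e
    · exact absurd e (hcon ζ hζ)
  obtain ⟨v, hv, hvZ, hv2⟩ := h.inv
  have hall : ∀ w ∈ W, w * w = 1 := by
    intro w hw
    by_cases hwZ : w ∈ zz W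
    · exact hZ w hwZ
    · obtain ⟨c, ζ, hζ, e⟩ := h.trans hv hw hvZ hwZ
      have e1 : w = (c : G) * v * (c : G)⁻¹ * ζ⁻¹ := by rw [e]; group
      have hζ' : ζ⁻¹ ∈ zz W := inv_mem hζ
      have hcv := h.norm c c.2 v hv
      calc w * w = ((c : G) * v * (c : G)⁻¹) * (ζ⁻¹ * ((c : G) * v * (c : G)⁻¹)) * ζ⁻¹ := by rw [e1]; group
        _ = ((c : G) * v * (c : G)⁻¹) * (((c : G) * v * (c : G)⁻¹) * ζ⁻¹) * ζ⁻¹ := by rw [zz_comm hζ' hcv]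
        _ = (c : G) * (v * v) * (c : G)⁻¹ * (ζ⁻¹ * ζ⁻¹) := by group
        _ = 1 := by rw [hv2, hZ _ hζ']; group
  apply hvZ
  rw [mem_zz]
  refine ⟨hv, fun w hw => ?_⟩
  have h1 := hall w hw
  have h2 := hall v hv
  have h3 := hall _ (mul_mem hw hv)
  calc w * v = (w * v)⁻¹ := (inv_eq_of_mul_eq_one_left h3).symm
    _ = v⁻¹ * w⁻¹ := by group
    _ = v * w := by rw [inv_eq_of_mul_eq_one_left h1, inv_eq_of_mul_eq_one_left h2]

end NLoc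

end Cfsg.Agent.OddCyclic.GamNLoc
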