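import Mathlib
import Cfsg.Agent.OddCyclic.GamNLoc
import Cfsg.Agent.OddCyclic.GamBase
import Cfsg.Agent.OddCyclic.BTwoK

/-!
# (E1), case `b = 2` (`ws V z` nonabelian): `C_G(z)` acting as (a group containing `A₅` in) `S₅ = ΓL₂(4)` on the natural
module `W / Z(W)`, `W = ws V z`, `|W| = 64` (the `HS` shape)

* structure `HS T V z` (extends `BTwo T V z`), `HS.loc`, `HS.point`;
* `ker_three`, `exists_three`: lifts of order three.
-/

set_option autoImplicit false
set_option linter.dupNamespace false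
set_option linter.unusedSectionVars false

namespace Cfsg.Agent.OddCyclic.GamNBase

open Subgroup Cfsg Cfsg.Agent.ZN Cfsg.Agent.MinSimple.Geo Cfsg.Agent.OddCyclic.GeoC Cfsg.Agent.OddCyclic.BTwoA
  Cfsg.Agent.OddCyclic.BTwoB
open Cfsg.Agent.OddCyclic.T1Defs GamPerm GamMod GamLoc GamNLoc
open Cfsg.Agent.OddCyclic.GamBase (cc cc_surj cg_conj)

universe u

variable {G : Type u} [Group G]

theorem zz_cj (g : G) (W : Subgroup G) {a : G} : a ∈ zz (cj g W) ↔ g⁻¹ * a * g ∈ zz W := by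
  rw [mem_zz, mem_zz, mem_cj]
  constructor
  · rintro ⟨h1, h2⟩
    refine ⟨h1, fun w hw => ?_⟩
    have h3 := h2 _ (conj_mem_cj (g := g) hw)
    calc w * (g⁻¹ * a * g) = g⁻¹ * (g * w * g⁻¹ * a) * g := by group
      _ = g⁻¹ * (a * (g * w * g⁻¹)) * g := by rw [h3]
      _ = g⁻¹ * a * g * w := by group
  · rintro ⟨h1, h2⟩
    refine ⟨h1, fun w hw => ?_⟩
    have h3 := h2 _ (mem_cj.mp hw)
    calc w * a = g * (g⁻¹ * w * g * (g⁻¹ * a * g)) * g⁻¹ := by group
      _ = g * (g⁻¹ * a * g * (g⁻¹ * w * g)) * g⁻¹ := by rw [h3]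
      _ = a * w := by group

theorem zz_cj_eq (g : G) (W : Subgroup G) : zz (cj g W) = cj g (zz W) := by
  ext a; rw [zz_cj, mem_cj]

theorem nloc_conj {W : Subgroup G} {x : G} {ρ : centralizer ({x} : Set G) →* S5} (h : NLoc W x ρ) (g : G) :
    NLoc (cj g W) (g * x * g⁻¹) (ρ.comp (cc g x)) where
  x_ne := fun e => h.x_ne (by
    have : x = g⁻¹ * (g * x * g⁻¹) * g := by group
    rw [this, e]; group)
  xx := by
    have : g * x * g⁻¹ * (g * x * g⁻¹) = g * (x * x) * g⁻¹ := by group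
    rw [this, h.xx]; group
  x_mem := conj_mem_cj h.x_mem
  le := by rw [← cj_centralizer_singleton]; exact cj_mono h.le
  norm := by
    intro c hc w hw
    rw [mem_cj] at hw ⊢
    have := h.norm _ (cc g x ⟨c, hc⟩).2 _ hw
    have e : ((cc g x ⟨c, hc⟩ : centralizer ({x} : Set G)) : G) = g⁻¹ * c * g := rfl
    rw [e] at this
    convert this using 1; group
  sq := by
    intro a ha
    rw [mem_cj] at ha
    rcases h.sq _ ha with e | e
    · left
      calc a * a = g * (g⁻¹ * a * g * (g⁻¹ * a * g)) * g⁻¹ := by group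
        _ = 1 := by rw [e]; group
    · right
      calc a * a = g * (g⁻¹ * a * g * (g⁻¹ * a * g)) * g⁻¹ := by group
        _ = g * x * g⁻¹ := by rw [e]
  card := by rw [card_cj]; exact h.card
  cardZ := by rw [zz_cj_eq, card_cj]; exact h.cardZ
  even := by
    intro k hk
    obtain ⟨c, rfl⟩ := h.even k hk
    obtain ⟨d, rfl⟩ := cc_surj g x c
    exact ⟨d, rfl⟩
  ker := by
    intro c
    have h1 := h.ker (cc g x c)
    rw [MonoidHom.comp_apply, h1]
    constructor
    · intro h2 w hw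
      rw [mem_cj] at hw
      rw [cg_conj]
      have h3 := h2 _ hw
      have e : ((cc g x c : centralizer ({x} : Set G)) : G) = g⁻¹ * c * g := rfl
      rw [e] at h3
      convert h3 using 1; group
    · intro h2 w hw
      have h3 := h2 (g * w * g⁻¹) (conj_mem_cj hw)
      rw [cg_conj] at h3
      have e : ((cc g x c : centralizer ({x} : Set G)) : G) = g⁻¹ * c * g := rfl
      rw [e]
      convert h3 using 1 <;> group
  fpf := by
    intro c hc w hw hcg
    rw [mem_cj] at hw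
    rw [zz_cj] at hcg ⊢
    have e : ((cc g x c : centralizer ({x} : Set G)) : G) = g⁻¹ * c * g := rfl
    refine h.fpf (cc g x c) hc _ hw ?_
    rw [e]
    convert hcg using 1; group
  inv := by
    obtain ⟨v, hv, hvZ, hv2⟩ := h.inv
    refine ⟨g * v * g⁻¹, conj_mem_cj hv, ?_, ?_⟩
    · rw [zz_cj]
      have : g⁻¹ * (g * v * g⁻¹) * g = v := by group
      rwa [this]
    · have : g * v * g⁻¹ * (g * v * g⁻¹) = g * (v * v) * g⁻¹ := by group
      rw [this, hv2]; group

/-- The situation (E1), `|V| = 4`, `W = ws V z` nonabelian of order 64 with centre of order 4, `|dd V| = 8`, `C_G(z)`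
induces `A₅` or `S₅ = ΓL₂(4)` on the natural module `W/Z(W)`. -/
structure HS (T V : Subgroup G) (z : G) : Prop extends BTwo T V z where
  c64 : Nat.card (ws V z) = 64
  c8 : Nat.card (dd V) = 8
  c4 : Nat.card (zz (ws V z)) = 4
  nat : ∃ ρ : centralizer ({z} : Set G) →* S5, (∀ g : S5, Equiv.Perm.sign g = 1 → ∃ c, ρ c = g) ∧
    (∀ c, ρ c = 1 ↔ (c : G) ∈ kq V z) ∧
    ∀ c, O3 (ρ c) → ∀ w ∈ ws V z, (c : G) * w * (c : G)⁻¹ * w⁻¹ ∈ zz (ws V z) → w ∈ zz (ws V z)
  three : ∀ g ∈ centralizer (V : Set G), orderOf g ≠ 3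

theorem cg_iff {x a w : G} (hx : x * x = 1) (hwx : w * x = x * w) :
    Cg x a w ↔ a * w⁻¹ ∈ zpowers x := by
  rw [mem_zpowers_iff_of_mul_self hx]
  unfold Cg
  constructor
  · rintro (e | e)
    · left; rw [e, mul_inv_cancel]
    · right; rw [e, hwx, mul_inv_cancel_right]
  · rintro (e | e)
    · left; exact mul_inv_eq_one.mp e
    · right
      rw [mul_inv_eq_iff_eq_mul] at e
      rw [e, hwx]

section

variable [Finite G] {T V : Subgroup G} {z : G}

theorem mem_kq_iff (h : BTwo T V z) (c : centralizer ({z} : Set G)) :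
    (c : G) ∈ kq V z ↔ ∀ w ∈ ws V z, Cg z ((c : G) * w * (c : G)⁻¹) w := by
  have hwz : ∀ w ∈ ws V z, w * z = z * w := fun w hw => h.z_comm (h.ws_le_centralizer hw)
  rw [mem_kq]
  constructor
  · rintro ⟨_, h1, _⟩ w hw
    rw [cg_iff h.zz (hwz w hw)]
    exact h1 w hw
  · intro h1
    have hn := Cfsg.Agent.MinSimple.Geo.centralizer_le_normalizer_ws V z
    refine ⟨c.2, fun w hw => ?_, fun w hw => ?_⟩
    · rw [← cg_iff h.zz (hwz w hw)]; exact h1 w hw
    · have hw' : (c : G)⁻¹ * w * c ∈ ws V z := by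
        have := (mem_normalizer_iff.mp (inv_mem (hn c.2)) w).mp hw
        rwa [inv_inv] at this
      have h2 := h1 _ hw'
      have e : (c : G) * ((c : G)⁻¹ * w * c) * (c : G)⁻¹ = w := by group
      rw [e] at h2
      rw [← cg_iff h.zz (hwz w hw)]
      rcases h2 with e2 | e2
      · left; exact e2.symm
      · right
        have e4 : ∀ a : G, a = a * z * z := fun a => by rw [mul_assoc, h.zz, mul_one]
        have e3 := e4 ((c : G)⁻¹ * w * c)
        rwa [← e2] at e3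

namespace HS

theorem V_not_zz (h : BTwo T V z) {v : G} (hv : v ∈ V) (hv1 : v ≠ 1) (hvz : v ≠ z) : v ∉ zz (ws V z) := by
  intro hZ
  obtain ⟨w, hw, hwV⟩ := h.exists_w
  have h1 := h.w_move hw hwV hv hv1 hvz
  have h2 := (mem_zz.mp hZ).2 w hw
  rw [h2, mul_inv_cancel_right] at h1
  exact h.z_ne (by simpa using h1.symm)

theorem loc (h : HS T V z) : ∃ ρ, NLoc (ws V z) z ρ := by
  obtain ⟨ρ, h1, h2, h3⟩ := h.nat
  refine ⟨ρ, h.z_ne, h.zz, h.V_le_ws h.z_mem, h.ws_le_centralizer, ?_, ?_, h.c64, h.c4, h1, ?_, h3, ?_⟩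
  · intro c hc w hw
    exact (mem_normalizer_iff.mp (Cfsg.Agent.MinSimple.Geo.centralizer_le_normalizer_ws V z hc) w).mp hw
  · intro a ha
    exact h.sq_cases ha
  · intro c
    rw [h2, mem_kq_iff h.toBTwo]
  · obtain ⟨y, hy, hy1, hyz⟩ := h.exists_y
    exact ⟨y, h.V_le_ws hy, V_not_zz h.toBTwo hy hy1 hyz, h.sq y hy⟩

theorem point (h : HS T V z) {p : G} (hp : p ∈ V) (hp1 : p ≠ 1) :
    (∃ T', BTwo T' V p) ∧ ∃ ρ, NLoc (ws V p) p ρ := by
  refine ⟨h.toBTwo.point hp hp1, ?_⟩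
  obtain ⟨g, hg, rfl⟩ := h.trans p hp hp1
  obtain ⟨ρ, hρ⟩ := h.loc
  refine ⟨ρ.comp (cc g z), ?_⟩
  have := nloc_conj hρ g
  rwa [cj_ws] at this

end HS

/-! ### the kernel has no elements of order three -/

theorem ker_three (h : BTwo T V z) (h3 : ∀ g ∈ centralizer (V : Set G), orderOf g ≠ 3)
    {ρ : centralizer ({z} : Set G) →* S5} (hρ : NLoc (ws V z) z ρ)
    {k : centralizer ({z} : Set G)} (hk : ρ k = 1) (hk3 : (k : G) ^ 3 = 1) : (k : G) = 1 := by
  have hfix : ∀ w ∈ ws V z, (k : G) * w * (k : G)⁻¹ = w := by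
    intro w hw
    rcases (hρ.ker k).mp hk w hw with e | e
    · exact e
    · exfalso
      have hxk := hρ.conj_x k
      have e2 : (k : G) * ((k : G) * w * (k : G)⁻¹) * (k : G)⁻¹ = w := by
        rw [e]
        calc (k : G) * (w * z) * (k : G)⁻¹ = ((k : G) * w * (k : G)⁻¹) * ((k : G) * z * (k : G)⁻¹) := by group
          _ = w := by rw [e, hxk, mul_assoc, hρ.xx, mul_one]
      have e3 : (k : G) * ((k : G) * ((k : G) * w * (k : G)⁻¹) * (k : G)⁻¹) * (k : G)⁻¹ = w := by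
        calc (k : G) * ((k : G) * ((k : G) * w * (k : G)⁻¹) * (k : G)⁻¹) * (k : G)⁻¹ =
            (k : G) ^ 3 * w * ((k : G) ^ 3)⁻¹ := by simp only [pow_succ, pow_zero, one_mul]; group
          _ = w := by rw [hk3]; group
      rw [e2, e] at e3
      exact hρ.x_ne (by simpa using e3)
  by_contra hne
  refine h3 k ?_ (orderOf_eq_prime hk3 hne)
  rw [mem_centralizer_iff]
  intro v hv
  have := hfix v (h.V_le_ws hv)
  calc v * (k : G) = ((k : G) * v * (k : G)⁻¹) * k := by rw [this]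
    _ = k * v := by group

/-- lifts of order three -/
theorem exists_three (h : BTwo T V z) (h3 : ∀ g ∈ centralizer (V : Set G), orderOf g ≠ 3)
    {ρ : centralizer ({z} : Set G) →* S5} (hρ : NLoc (ws V z) z ρ)
    {c : centralizer ({z} : Set G)} (hc : O3 (ρ c)) :
    ∃ m : ℕ, (c : G) ^ ((3 * m + 1) * 3) = 1 ∧ ρ (c ^ (3 * m + 1)) = ρ c := by
  have hcop : Nat.Coprime (Nat.card ρ.ker) 3 := by
    rw [Nat.coprime_comm, Nat.Prime.coprime_iff_not_dvd Nat.prime_three]
    intro hd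
    have : Fact (Nat.Prime 3) := ⟨Nat.prime_three⟩
    obtain ⟨k, hk⟩ := exists_prime_orderOf_dvd_card' (G := ρ.ker) 3 hd
    have h1 : ((k : centralizer ({z} : Set G)) : G) ^ 3 = 1 := by
      have := pow_orderOf_eq_one k
      rw [hk] at this
      exact congrArg (fun t : ρ.ker => ((t : centralizer ({z} : Set G)) : G)) this
    have h2 := ker_three h h3 hρ (k := k.1) k.2 h1
    have h3 : k = 1 := Subtype.ext (Subtype.ext h2)
    rw [h3, orderOf_one] at hk
    exact absurd hk (by norm_num)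
  obtain ⟨e, he1, he2⟩ := Nat.chineseRemainder hcop 0 1
  obtain ⟨m, rfl⟩ : ∃ m, e = 3 * m + 1 := by
    have : e % 3 = 1 := he2
    exact ⟨e / 3, by omega⟩
  have hc3 : ρ c ^ 3 = 1 := by rw [pow_succ, pow_two]; exact hc.1
  refine ⟨m, ?_, ?_⟩
  · have h1 : c ^ 3 ∈ ρ.ker := by rw [MonoidHom.mem_ker, map_pow, hc3]
    have h2 : Nat.card ρ.ker ∣ 3 * m + 1 := (Nat.modEq_zero_iff_dvd.mp he1)
    have h3 : (⟨c ^ 3, h1⟩ : ρ.ker) ^ (3 * m + 1) = 1 := by
      obtain ⟨k, hk⟩ := h2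
      rw [hk, pow_mul, pow_card_eq_one', one_pow]
    have h4 : (c ^ 3) ^ (3 * m + 1) = 1 := congrArg Subtype.val h3
    have h5 : ((c : G) ^ 3) ^ (3 * m + 1) = 1 := congrArg Subtype.val h4
    rw [mul_comm, pow_mul]; exact h5
  · rw [map_pow, pow_succ, pow_mul, hc3, one_pow, one_mul]

end

end Cfsg.Agent.OddCyclic.GamNBase
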