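import Mathlib
import Cfsg.Agent.OddCyclic.GamNBase
import Cfsg.Agent.OddCyclic.BTwoD

/-!
# Tools for `NLoc`: the centre, inner automorphisms, `exists_hom`
-/

set_option autoImplicit false
set_option linter.dupNamespace false
set_option linter.unusedSectionVars false

namespace Cfsg.Agent.OddCyclic.GamNLoc

open Subgroup Cfsg Cfsg.Agent.ZN Cfsg.Agent.MinSimple.Geo
open Cfsg.Agent.OddCyclic.T1Defs GamPerm GamMod GamLoc GamNSec

universe u

variable {G : Type u} [Group G]

theorem exists_commute_o3' : ∀ g : S5, Equiv.Perm.sign g = -1 → g * g = 1 → ∃ h : S5, O3 h ∧ g * h = h * g := by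
  decide +kernel

namespace NLoc

variable {W : Subgroup G} {x : G} {ρ : centralizer ({x} : Set G) →* S5}

theorem ker_of_mem (h : NLoc W x ρ) {a : G} (ha : a ∈ W) : ρ ⟨a, h.le ha⟩ = 1 := by
  rw [h.ker]
  intro w hw
  exact h.comm_cases ha hw

/-- the centre is cyclic of order four -/
theorem zz_cases (h : NLoc W x ρ) {ζ : G} (hζ : ζ ∈ zz W) (hζ2 : ζ * ζ = x) {a : G} (ha : a ∈ zz W) :
    a = 1 ∨ a = x ∨ a = ζ ∨ a = ζ * x := by
  have hfin := h.finite_Z
  have hζ1 : ζ ≠ 1 := by rintro rfl; exact h.x_ne (by rw [← hζ2, one_mul])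
  have hζx : ζ ≠ x := by
    rintro e
    rw [e, h.xx] at hζ2
    exact h.x_ne hζ2.symm
  have h1 : ({1, x, ζ, ζ * x} : Set G) ⊆ (zz W : Set G) := by
    rintro t (rfl | rfl | rfl | rfl)
    · exact one_mem _
    · exact h.x_zz
    · exact hζ
    · exact mul_mem hζ h.x_zz
  have h2 : ({1, x, ζ, ζ * x} : Set G).ncard = 4 := by
    rw [Set.ncard_insert_of_notMem, Set.ncard_insert_of_notMem, Set.ncard_pair]
    · intro e; exact h.x_ne (by simpa using e.symm)
    · rintro (e | e)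
      · exact hζx e.symm
      · exact hζ1 (by simpa using e.symm)
    · rintro (e | e | e)
      · exact h.x_ne e.symm
      · exact hζ1 e.symm
      · have e2 : ζ = x := by rw [mul_eq_one_iff_eq_inv.mp e.symm, h.x_inv]
        exact hζx e2
  have h3 : (zz W : Set G).ncard = 4 := by rw [← h.cardZ]; rfl
  have h4 : ({1, x, ζ, ζ * x} : Set G) = zz W := Set.eq_of_subset_of_ncard_le h1 (by rw [h2, h3])
    (Set.toFinite _)
  have : a ∈ ({1, x, ζ, ζ * x} : Set G) := by rw [h4]; exact ha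
  simpa using this

/-- central elements of square one are in `⟨x⟩` -/
theorem eq_of_sq (h : NLoc W x ρ) {a : G} (ha : a ∈ zz W) (ha2 : a * a = 1) : a = 1 ∨ a = x := by
  obtain ⟨ζ, hζ, hζ2⟩ := h.exists_four
  rcases h.zz_cases hζ hζ2 ha with e | e | e | e
  · exact Or.inl e
  · exact Or.inr e
  · exfalso
    rw [e, hζ2] at ha2
    exact h.x_ne ha2
  · exfalso
    have e2 : a * a = x := by
      rw [e]
      calc ζ * x * (ζ * x) = ζ * (x * ζ) * x := by group
        _ = ζ * (ζ * x) * x := by rw [h.x_comm hζ.1]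
        _ = (ζ * ζ) * (x * x) := by group
        _ = x := by rw [hζ2, h.xx, mul_one]
    rw [e2] at ha2
    exact h.x_ne ha2

/-- elements of order three of `C_G(x)` centralise `Z(W)` -/
theorem three_zz (h : NLoc W x ρ) {y : G} (hy : y ∈ centralizer ({x} : Set G)) (hy3 : y ^ 3 = 1) {a : G}
    (ha : a ∈ zz W) : y * a * y⁻¹ = a := by
  obtain ⟨ζ, hζ, hζ2⟩ := h.exists_four
  have hyx : y * x * y⁻¹ = x := h.conj_x ⟨y, hy⟩
  have hζ1 : ζ ≠ 1 := by rintro rfl; exact h.x_ne (by rw [← hζ2, one_mul])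
  have hζx : ζ ≠ x := by
    rintro e
    rw [e, h.xx] at hζ2
    exact h.x_ne hζ2.symm
  have key : y * ζ * y⁻¹ = ζ := by
    rcases h.zz_cases hζ hζ2 (h.conj_zz hy hζ) with e | e | e | e
    · exfalso
      apply hζ1
      have : ζ = y⁻¹ * (y * ζ * y⁻¹) * y := by group
      rw [this, e]; group
    · exfalso
      apply hζx
      have : ζ = y⁻¹ * (y * ζ * y⁻¹) * y := by group
      rw [this, e]
      have e2 : x = y⁻¹ * (y * x * y⁻¹) * y := by group
      conv_rhs => rw [e2, hyx]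
    · exact e
    · exfalso
      have e2 : y * (y * ζ * y⁻¹) * y⁻¹ = ζ := by
        rw [e]
        calc y * (ζ * x) * y⁻¹ = (y * ζ * y⁻¹) * (y * x * y⁻¹) := by group
          _ = ζ := by rw [e, hyx, mul_assoc, h.xx, mul_one]
      have e3 : y * (y * (y * ζ * y⁻¹) * y⁻¹) * y⁻¹ = ζ := by
        calc y * (y * (y * ζ * y⁻¹) * y⁻¹) * y⁻¹ = y ^ 3 * ζ * (y ^ 3)⁻¹ := by
              simp only [pow_succ, pow_zero, one_mul]; group
          _ = ζ := by rw [hy3]; group
      rw [e2, e] at e3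
      exact h.x_ne (by simpa using e3)
  rcases h.zz_cases hζ hζ2 ha with e | e | e | e
  · rw [e]; group
  · rw [e]; exact hyx
  · rw [e]; exact key
  · rw [e]
    calc y * (ζ * x) * y⁻¹ = (y * ζ * y⁻¹) * (y * x * y⁻¹) := by group
      _ = ζ * x := by rw [key, hyx]

/-- an element outside the centre is moved -/
theorem exists_neg (h : NLoc W x ρ) {p : G} (hp : p ∈ W) (hpZ : p ∉ zz W) : ∃ k ∈ W, k * p * k⁻¹ = p * x := by
  by_contra hcon
  push Not at hcon
  apply hpZ
  rw [mem_zz]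
  refine ⟨hp, fun w hw => ?_⟩
  rcases h.comm_cases hw hp with e | e
  · exact mul_inv_eq_iff_eq_mul.mp e
  · exact absurd e (hcon w hw)

theorem hom_aux (h : NLoc W x ρ) {p q : G} (hp : p ∈ W) (hq : q ∈ W) (hp1 : p ∉ zz W)
    (hpq : p * q ∉ zz W) :
    ∃ k ∈ W, k * p * k⁻¹ = p * x ∧ k * q * k⁻¹ = q := by
  obtain ⟨k, hk, h1⟩ := exists_neg h hp hp1
  rcases h.comm_cases hk hq with h2 | h2
  · exact ⟨k, hk, h1, h2⟩
  · obtain ⟨l, hl, h3⟩ := exists_neg h (mul_mem hp hq) hpq
    have h3' : l * p * l⁻¹ * (l * q * l⁻¹) = p * q * x := by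
      rw [← h3]; group
    rcases h.comm_cases hl hp with h4 | h4
    · rw [h4] at h3'
      have h5 : l * q * l⁻¹ = q * x := by
        have := congrArg (fun t => p⁻¹ * t) h3'
        simpa [mul_assoc] using this
      refine ⟨k * l, mul_mem hk hl, ?_, ?_⟩
      · calc k * l * p * (k * l)⁻¹ = k * (l * p * l⁻¹) * k⁻¹ := by group
          _ = p * x := by rw [h4, h1]
      · have hkx : k * x * k⁻¹ = x := by rw [h.x_comm hk, mul_inv_cancel_right]
        calc k * l * q * (k * l)⁻¹ = k * (l * q * l⁻¹) * k⁻¹ := by group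
          _ = (k * q * k⁻¹) * (k * x * k⁻¹) := by rw [h5]; group
          _ = q := by rw [h2, hkx, mul_assoc, h.xx, mul_one]
    · rw [h4] at h3'
      have h5 : l * q * l⁻¹ = q := by
        have h6 : p * x * (l * q * l⁻¹) = p * x * q := by
          rw [h3', mul_assoc, mul_assoc, h.x_comm hq]
        exact mul_left_cancel h6
      exact ⟨l, hl, h4, h5⟩

/-- `W` induces all of `Hom` on two-dimensional subspaces of `W/Z(W)` -/
theorem exists_hom (h : NLoc W x ρ) {p q : G} (hp : p ∈ W) (hq : q ∈ W) (hp1 : p ∉ zz W) (hq1 : q ∉ zz W)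
    (hpq : p * q ∉ zz W) {e f : G} (he : e = 1 ∨ e = x) (hf : f = 1 ∨ f = x) :
    ∃ k ∈ W, k * p * k⁻¹ = p * e ∧ k * q * k⁻¹ = q * f := by
  have hqp : q * p ∉ zz W := by
    intro hqp
    apply hpq
    have h1 := MZ.mk_mul (s := h.sec) hq hp
    rw [(h.mk_eq_zero_iff (mul_mem hq hp)).mpr hqp, add_comm, ← MZ.mk_mul hp hq] at h1
    exact (h.mk_eq_zero_iff (mul_mem hp hq)).mp h1.symm
  obtain ⟨k, hk, h1, h2⟩ := hom_aux h hp hq hp1 hpq
  obtain ⟨l, hl, h3, h4⟩ := hom_aux h hq hp hq1 hqp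
  rcases he with rfl | rfl
  · rcases hf with rfl | rfl
    · exact ⟨1, one_mem _, by simp, by simp⟩
    · exact ⟨l, hl, by rw [h4, mul_one], h3⟩
  · rcases hf with rfl | hf
    · exact ⟨k, hk, h1, by rw [h2, mul_one]⟩
    · rw [hf]
      refine ⟨k * l, mul_mem hk hl, ?_, ?_⟩
      · calc k * l * p * (k * l)⁻¹ = k * (l * p * l⁻¹) * k⁻¹ := by group
          _ = _ := by rw [h4, h1]
      · have hkx : k * e * k⁻¹ = e := by rw [h.x_comm hk, mul_inv_cancel_right]
        calc k * l * q * (k * l)⁻¹ = k * (l * q * l⁻¹) * k⁻¹ := by group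
          _ = (k * q * k⁻¹) * (k * e * k⁻¹) := by rw [h3]; group
          _ = _ := by rw [h2, hkx]

variable [Finite G]

/-- elements of the kernel centralising `Z(W)` act as inner automorphisms on `W` -/
theorem exists_inner (h : NLoc W x ρ) {q : G} (hq : q ∈ centralizer ({x} : Set G)) (hq1 : ρ ⟨q, hq⟩ = 1)
    (hqZ : ∀ a ∈ zz W, q * a * q⁻¹ = a) : ∃ m ∈ W, ∀ w ∈ W, q * w * q⁻¹ = m * w * m⁻¹ := by
  have hcase : ∀ w ∈ W, q * w * q⁻¹ = w ∨ q * w * q⁻¹ = w * x := (h.ker ⟨q, hq⟩).mp hq1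
  have hqx : q * x * q⁻¹ = x := h.conj_x ⟨q, hq⟩
  by_cases hall : ∀ w ∈ W, q * w * q⁻¹ = w
  · exact ⟨1, one_mem _, fun w hw => by rw [hall w hw]; group⟩
  push Not at hall
  obtain ⟨w1, hw1, hw1q⟩ := hall
  -- the fixed points
  let B : Subgroup G := W ⊓ centralizer ({q} : Set G)
  have hB : ∀ {b : G}, b ∈ B ↔ b ∈ W ∧ q * b * q⁻¹ = b := by
    intro b
    change b ∈ W ∧ b ∈ centralizer ({q} : Set G) ↔ _
    rw [mem_centralizer_singleton_iff, mul_inv_eq_iff_eq_mul]
    constructor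
    · rintro ⟨h1, h2⟩; exact ⟨h1, h2.symm⟩
    · rintro ⟨h1, h2⟩; exact ⟨h1, h2.symm⟩
  have hBW : B ≤ W := inf_le_left
  have hlt : Nat.card B < 64 := by
    rw [← h.card]
    by_contra hcon
    push Not at hcon
    have e := Subgroup.eq_of_le_of_card_ge hBW hcon
    rw [← e] at hw1
    exact hw1q (hB.mp hw1).2
  have hpair := BTwoD.pairing (A := W) (B := B) h.xx h.x_ne (fun a ha => (h.x_comm ha).symm)
    (fun b hb => (h.x_comm (hBW hb)).symm) (fun a ha b hb => by
      rcases h.comm_cases ha (hBW hb) with e | e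
      · left; exact mul_inv_eq_iff_eq_mul.mp e
      · right
        rw [mul_inv_eq_iff_eq_mul.mp e, h.x_comm (hBW hb), mul_assoc])
  have hBZ : B ⊓ centralizer (W : Set G) = zz W := by
    apply le_antisymm
    · exact inf_le_inf_right _ hBW
    · intro a ha
      exact ⟨hB.mpr ⟨ha.1, hqZ a ha⟩, ha.2⟩
  rw [hBZ, h.card, h.cardZ] at hpair
  have hgt : 4 < Nat.card (W ⊓ centralizer (B : Set G) : Subgroup G) := by
    by_contra hcon
    push Not at hcon
    have := Nat.mul_le_mul hcon hlt.le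
    have h2 : Nat.card (W ⊓ centralizer (B : Set G) : Subgroup G) * Nat.card B ≤ 4 * Nat.card B :=
      Nat.mul_le_mul_right _ hcon
    omega
  have hex : ∃ m ∈ W ⊓ centralizer (B : Set G), m ∉ zz W := by
    by_contra hcon
    push Not at hcon
    have := Subgroup.card_le_of_le (show W ⊓ centralizer (B : Set G) ≤ zz W from hcon)
    rw [h.cardZ] at this
    omega
  obtain ⟨m, ⟨hm, hmB⟩, hmZ⟩ := hex
  have hmB' : ∀ b ∈ W, q * b * q⁻¹ = b → m * b * m⁻¹ = b := by
    intro b hb hqb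
    have := mem_centralizer_iff.mp hmB b (hB.mpr ⟨hb, hqb⟩)
    rw [← this, mul_inv_cancel_right]
  have hmx : m * x * m⁻¹ = x := by rw [h.x_comm hm, mul_inv_cancel_right]
  refine ⟨m, hm, fun w hw => ?_⟩
  rcases hcase w hw with e | e
  · rw [e, hmB' w hw e]
  · rw [e]
    rcases h.comm_cases hm hw with e1 | e1
    · exfalso
      apply hmZ
      rw [mem_zz]
      refine ⟨hm, fun w2 hw2 => ?_⟩
      rcases hcase w2 hw2 with e2 | e2
      · have := hmB' w2 hw2 e2
        exact (mul_inv_eq_iff_eq_mul.mp this).symm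
      · -- `w * w2` is fixed
        have e3 : q * (w * w2) * q⁻¹ = w * w2 := by
          calc q * (w * w2) * q⁻¹ = (q * w * q⁻¹) * (q * w2 * q⁻¹) := by group
            _ = w * x * (w2 * x) := by rw [e, e2]
            _ = w * (x * w2) * x := by group
            _ = w * (w2 * x) * x := by rw [h.x_comm hw2]
            _ = w * w2 := by rw [← mul_assoc, mul_assoc, h.xx, mul_one]
        have e4 := hmB' _ (mul_mem hw hw2) e3
        have e5 : m * (w * w2) * m⁻¹ = w * (m * w2 * m⁻¹) := by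
          calc m * (w * w2) * m⁻¹ = (m * w * m⁻¹) * (m * w2 * m⁻¹) := by group
            _ = _ := by rw [e1]
        rw [e5] at e4
        exact (mul_inv_eq_iff_eq_mul.mp (mul_left_cancel e4)).symm
    · exact e1.symm

end NLoc

end Cfsg.Agent.OddCyclic.GamNLoc
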