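import Mathlib
import Cfsg.Agent.OddCyclic.GamNTools

/-!
# The `HS` shape (E1), `b = 2`, `C_G(z)` induces `A₅` or `S₅` on the natural module `W/Z(W)`, is impossible

* `exists_p`: an involution `p ∈ us V u` acting on `ws V z` as a transposition and moving `dd V`;
* `cent_comm`: `C_G(ws V z)` commutes with the elements of order three of `C_G(z)`;
* `exists_y`: an element of order three commuting with `z` and `p`;
* `HS.false`.
-/

set_option autoImplicit false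
set_option linter.dupNamespace false
set_option linter.unusedSectionVars false

namespace Cfsg.Agent.OddCyclic.GamNBase

open Subgroup Cfsg Cfsg.Agent.ZN Cfsg.Agent.MinSimple.Geo Cfsg.Agent.OddCyclic.GeoC Cfsg.Agent.OddCyclic.BTwoA
  Cfsg.Agent.OddCyclic.BTwoB Cfsg.Agent.OddCyclic.BTwoC Cfsg.Agent.OddCyclic.BTwoD
open Cfsg.Agent.OddCyclic.T1Defs GamPerm GamMod GamLoc GamNLoc GamNSec
open Cfsg.Agent.OddCyclic.GamBase (cc cc_surj cg_conj)
open Cfsg.Agent.ZN.Block (conj_mem_of_normalizer conj_mem_of_normalizer')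

universe u

variable {G : Type u} [Group G] [Finite G]

theorem noThree' (hcyc : OddCyc G) {c p q g : G} (hc3 : c ^ 3 = 1) (h1 : c * p * c⁻¹ = q)
    (h2 : c * q * c⁻¹ = p * q) (hpq : p ≠ q) (hg3 : g ^ 3 = 1) (hgp : g * p = p * g) (hgq : g * q = q * g) :
    g = 1 := by
  by_contra hg1
  have hc1 : c ≠ 1 := by
    rintro rfl
    apply hpq; rw [← h1]; group
  set A : Subgroup G := closure {p, q} with hA
  have hpA : p ∈ A := subset_closure (Or.inl rfl)
  have hqA : q ∈ A := subset_closure (Or.inr rfl)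
  have hcA : c ∈ normalizer (A : Set G) := by
    rw [mem_normalizer_iff_cj]
    have hle : cj c A ≤ A := by
      rw [cj_le_iff, hA, closure_le]
      rintro t (rfl | ht)
      · rw [SetLike.mem_coe, mem_cj, inv_inv, h1]; exact hqA
      · rw [Set.mem_singleton_iff] at ht
        rw [ht, SetLike.mem_coe, mem_cj, inv_inv, h2]; exact mul_mem hpA hqA
    exact Subgroup.eq_of_le_of_card_ge hle (by rw [card_cj])
  have hgA : g ∈ centralizer (A : Set G) := by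
    rw [hA, centralizer_closure, mem_centralizer_iff]
    rintro t (rfl | ht)
    · exact hgp.symm
    · rw [Set.mem_singleton_iff] at ht; rw [ht]; exact hgq.symm
  have hCN : centralizer (A : Set G) ≤ normalizer (A : Set G) := centralizer_le_normalizer _
  have hpr : Fact (Nat.Prime 3) := ⟨Nat.prime_three⟩
  have hor : orderOf g = 3 := orderOf_eq_prime hg3 hg1
  have hor' : orderOf c = 3 := orderOf_eq_prime hc3 hc1
  have hcyc := CompBasic.oddCyc_subgroup hcyc (normalizer (A : Set G))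
  have hdvd : 3 ∣ Nat.card ((centralizer (A : Set G)).subgroupOf (normalizer (A : Set G))) := by
    have h3 : (⟨g, hCN hgA⟩ : normalizer (A : Set G)) ∈
        (centralizer (A : Set G)).subgroupOf (normalizer (A : Set G)) := mem_subgroupOf.mpr hgA
    have h4 : orderOf (⟨⟨g, hCN hgA⟩, h3⟩ :
        (centralizer (A : Set G)).subgroupOf (normalizer (A : Set G))) = 3 := by
      rw [Subgroup.orderOf_mk, Subgroup.orderOf_mk, hor]
    rw [← h4]; exact orderOf_dvd_natCard _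
  have hn : ((centralizer (A : Set G)).subgroupOf (normalizer (A : Set G))).Normal := by
    constructor
    rintro ⟨t, ht⟩ ht' ⟨n, hn⟩
    rw [mem_subgroupOf] at ht' ⊢
    change n * t * n⁻¹ ∈ centralizer (A : Set G)
    change t ∈ centralizer (A : Set G) at ht'
    rw [mem_centralizer_iff] at ht' ⊢
    intro a ha
    have h3 := ht' (n⁻¹ * a * n) (conj_mem_of_normalizer' le_rfl hn ha)
    calc a * (n * t * n⁻¹) = n * (n⁻¹ * a * n * t) * n⁻¹ := by group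
      _ = n * (t * (n⁻¹ * a * n)) * n⁻¹ := by rw [h3]
      _ = n * t * n⁻¹ * a := by group
  have h4 := CompBasic.mem_of_orderOf hcyc Nat.prime_three (by norm_num) hn hdvd
    (x := ⟨c, hcA⟩) (by rw [Subgroup.orderOf_mk, hor'])
  rw [mem_subgroupOf] at h4
  have h5 := mem_centralizer_iff.mp h4 p hpA
  apply hpq
  have h6 : p * c = c * p := h5
  rw [← h1, ← h6]; group

variable {T V : Subgroup G} {z : G}

section

variable {ρ : centralizer ({z} : Set G) →* S5}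

/-- an element of `us V u` as an element of `C_G(z)` -/
def eu (h : BTwo T V z) {u w : G} (hw : w ∈ us V u) : centralizer ({z} : Set G) := ⟨w, us_le_C h u hw⟩

theorem ker_iff (h : BTwo T V z) (hρ : NLoc (ws V z) z ρ) (c : centralizer ({z} : Set G)) :
    ρ c = 1 ↔ (c : G) ∈ kq V z := by
  rw [hρ.ker, mem_kq_iff h]

theorem V_mem_ws' (h : BTwo T V z) {v : G} (hv : v ∈ V) : v ∈ ws V z := h.V_le_ws hv

/-- squares of elements of `us V u` are in the kernel -/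
theorem eu_sq (h : BTwo T V z) (hρ : NLoc (ws V z) z ρ) {u : G} (hu : u ∈ V) (hu1 : u ≠ 1) {w : G}
    (hw : w ∈ us V u) : ρ (eu h hw) * ρ (eu h hw) = 1 := by
  rw [← map_mul]
  obtain ⟨T', h'⟩ := h.point hu hu1
  rcases h'.sq_cases hw.1 with e | e
  · have : eu h hw * eu h hw = 1 := Subtype.ext e
    rw [this, map_one]
  · have : eu h hw * eu h hw = ⟨u, hρ.le (h.V_le_ws hu)⟩ := Subtype.ext e
    rw [this, hρ.ker_of_mem]
    exact h.V_le_ws hu

theorem eu_dd (h : BTwo T V z) (hρ : NLoc (ws V z) z ρ) {u : G} (hu : u ∈ V) (hu1 : u ≠ 1) (huz : u ≠ z) {w : G}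
    (hw : w ∈ us V u) : ρ (eu h hw) = 1 ↔ w ∈ dd V := by
  rw [ker_iff h hρ]
  constructor
  · intro h1
    exact us_inf_kq_le h hu hu1 huz ⟨hw, h1⟩
  · intro h1
    have h2 := hρ.ker_of_mem (h.dd_le_ws h.z_mem h.z_ne h1)
    rw [ker_iff h hρ] at h2
    exact h2

theorem card_us' (h : HS T V z) {u : G} (hu : u ∈ V) (hu1 : u ≠ 1) : Nat.card (us V u) = 32 := by
  rw [h.toBTwo.card_us hu hu1]
  have := BTwoD.card_ws h.toBTwo
  rw [h.c64] at this
  omega

theorem card_es' (h : HS T V z) {u : G} (hu : u ∈ V) (hu1 : u ≠ 1) : Nat.card (es V u) = 16 := by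
  obtain ⟨T', h'⟩ := h.toBTwo.point hu hu1
  have := BTwoD.card_es h'
  rw [card_us' h hu hu1, h.c8] at this
  omega

/-- an involution `p ∈ us V u` which acts as a transposition and moves `dd V` -/
theorem exists_p (h : HS T V z) (hρ : NLoc (ws V z) z ρ) {u : G} (hu : u ∈ V) (hu1 : u ≠ 1) (huz : u ≠ z) :
    ∃ p, ∃ hp : p ∈ us V u, p * p = 1 ∧ Equiv.Perm.sign (ρ (eu h.toBTwo hp)) = -1 ∧
      ∃ d ∈ dd V, p * d * p⁻¹ = u * d := by
  have hB := h.toBTwo
  obtain ⟨T', h'⟩ := hB.point hu hu1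
  have hsign : ∀ σ : S5, Equiv.Perm.sign σ ≠ 1 → Equiv.Perm.sign σ = -1 := fun σ hσ =>
    (Int.units_eq_one_or _).resolve_left hσ
  -- `d0`
  obtain ⟨d0, hd0, hd0V⟩ : ∃ d ∈ dd V, d ∉ V := by
    by_contra hcon
    push Not at hcon
    have := Subgroup.card_le_of_le (show dd V ≤ V from hcon)
    rw [h.c8, h.card_V] at this
    omega
  obtain ⟨w0, hw0, hw0d⟩ := exists_transvection hB hd0 hd0V hu hu1
  have huW : u ∈ ws V z := hB.V_le_ws hu
  have huZ : u ∉ zz (ws V z) := HS.V_not_zz hB hu hu1 huz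
  have hd0W : d0 ∈ ws V z := hB.dd_le_ws hB.z_mem hB.z_ne hd0
  -- an odd element
  have hodd : ∃ w, ∃ hw : w ∈ us V u, Equiv.Perm.sign (ρ (eu hB hw)) ≠ 1 := by
    by_contra hcon
    push Not at hcon
    obtain ⟨i, hi⟩ := hρ.nat5.exists_P (MZ.mk hρ.sec u huW)
    have hK : ∀ w, ∀ hw : w ∈ us V u, K4 i (ρ (eu hB hw)) := by
      intro w hw
      refine hρ.nat5.k4_of_fix hi (by rwa [Ne, hρ.mk_eq_zero_iff]) ?_ (hcon w hw)
      rw [MZ.smul_mk, hρ.mk_eq_iff']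
      refine ⟨1, one_mem _, ?_⟩
      have h1 : w * u = u * w := comm_V hw.2 hu
      change w * u * w⁻¹ = u * 1
      rw [h1, mul_inv_cancel_right, mul_one]
    obtain ⟨w1, hw1, hw1d⟩ : ∃ w ∈ es V u, w ∉ dd V := by
      by_contra hcon
      push Not at hcon
      have := Subgroup.card_le_of_le (show es V u ≤ dd V from hcon)
      rw [h.c8, card_es' h hu hu1] at this
      omega
    have hw1u : w1 ∈ us V u := hw1.1
    have h1 : ρ (eu hB hw1u) ≠ 1 := fun e => hw1d ((eu_dd hB hρ hu hu1 huz hw1u).mp e)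
    have h2 := hρ.nat5.fx_eq_P (hK w1 hw1u) h1
    have h3 : MZ.mk hρ.sec d0 hd0W ∈ P ρ (MZ hρ.sec) i := by
      rw [← h2, mem_fx, MZ.smul_mk, hρ.mk_eq_iff']
      refine ⟨1, one_mem _, ?_⟩
      have h4 := mem_centralizer_iff.mp hw1.2 d0 hd0
      change w1 * d0 * w1⁻¹ = d0 * 1
      rw [← h4, mul_inv_cancel_right, mul_one]
    have h4 := h3 _ (hK w0 hw0)
    rw [MZ.smul_mk, hρ.mk_eq_iff] at h4
    change (w0 * d0 * w0⁻¹)⁻¹ * d0 ∈ zz (ws V z) at h4
    rw [hw0d] at h4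
    apply huZ
    have e : (u * d0)⁻¹ * d0 = d0⁻¹ * u⁻¹ * d0 := by group
    have e2 : u * d0 = d0 * u := (comm_V (hB.dd_le_centralizer hd0) hu).symm
    have e3 : (u * d0)⁻¹ * d0 = u⁻¹ := by rw [e2]; group
    rw [e3] at h4
    exact (inv_mem_iff).mp h4
  -- an odd element moving `d0`
  have hodd2 : ∃ w, ∃ hw : w ∈ us V u, Equiv.Perm.sign (ρ (eu hB hw)) = -1 ∧ w * d0 * w⁻¹ = u * d0 := by
    obtain ⟨w', hw', hs⟩ := hodd
    have hs' := hsign _ hs
    rcases h'.dd_ws hd0 hw'.1 with e | e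
    · by_cases h0 : Equiv.Perm.sign (ρ (eu hB hw0)) = 1
      · refine ⟨w0 * w', mul_mem hw0 hw', ?_, ?_⟩
        · have : eu hB (mul_mem hw0 hw') = eu hB hw0 * eu hB hw' := rfl
          rw [this, map_mul, Equiv.Perm.sign_mul, h0, hs', one_mul]
        · calc w0 * w' * d0 * (w0 * w')⁻¹ = w0 * (w' * d0 * w'⁻¹) * w0⁻¹ := by group
            _ = u * d0 := by rw [e, hw0d]
      · exact ⟨w0, hw0, hsign _ h0, hw0d⟩
    · exact ⟨w', hw', hs', e⟩
  obtain ⟨w, hw, hs, hwd⟩ := hodd2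
  rcases h'.sq_cases hw.1 with e | e
  · exact ⟨w, hw, e, hs, d0, hd0, hwd⟩
  · have hd0u : d0 ∈ us V u := hB.dd_le_us hu hu1 hd0
    have e2 : u * d0 = d0 * u := (comm_V (hB.dd_le_centralizer hd0) hu).symm
    have hd2 : d0 * d0 = 1 := hB.dd_sq hd0
    have hu2 : u * u = 1 := h.sq u hu
    refine ⟨w * d0, mul_mem hw hd0u, ?_, ?_, d0, hd0, ?_⟩
    · calc w * d0 * (w * d0) = (w * d0 * w⁻¹) * (w * w) * d0 := by group
        _ = (u * d0) * u * d0 := by rw [hwd, e]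
        _ = (d0 * u) * u * d0 := by rw [e2]
        _ = d0 * (u * u) * d0 := by group
        _ = 1 := by rw [hu2, mul_one, hd2]
    · have h1 : eu hB (mul_mem hw hd0u) = eu hB hw * eu hB hd0u := rfl
      rw [h1, map_mul, (eu_dd hB hρ hu hu1 huz hd0u).mpr hd0, mul_one]
      exact hs
    · calc w * d0 * d0 * (w * d0)⁻¹ = w * d0 * w⁻¹ := by group
        _ = u * d0 := hwd

/-- `C_G(ws V z)` commutes with the elements of order three of `C_G(z)` -/
theorem cent_comm (h : HS T V z) (hρ : NLoc (ws V z) z ρ) {u : G} (hu : u ∈ V) (hu1 : u ≠ 1) (huz : u ≠ z)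
    {p : G} (hp : p ∈ us V u) (hne : ρ (eu h.toBTwo hp) ≠ 1) {c y : G}
    (hc : ∀ w ∈ ws V z, c * w = w * c) (hy : y ∈ centralizer ({z} : Set G)) (hy3 : y ^ 3 = 1) :
    c * y = y * c := by
  have hB := h.toBTwo
  by_cases hy1 : y = 1
  · rw [hy1]; group
  have hzz := hB.zz
  have hxc : ∀ k ∈ centralizer ({z} : Set G), k * z * k⁻¹ = z := fun k hk => by
    rw [mem_centralizer_singleton_iff.mp hk, mul_inv_cancel_right]
  have hzp : ∀ k ∈ centralizer ({z} : Set G), ∀ t ∈ zpowers z, k * t * k⁻¹ ∈ zpowers z := by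
    intro k hk t ht
    rw [zpowers_conj hk ht]; exact ht
  -- the subgroup of all `g` with `[C0, g] ≤ ⟨z⟩`
  let L : Subgroup (centralizer ({z} : Set G)) :=
    { carrier := {g | ∀ c : G, (∀ w ∈ ws V z, c * w = w * c) → c * (g : G) * c⁻¹ * (g : G)⁻¹ ∈ zpowers z}
      one_mem' := fun c _ => by simp [one_mem]
      mul_mem' := by
        intro a b ha hb c hc
        change c * ((a : G) * b) * c⁻¹ * ((a : G) * b)⁻¹ ∈ _
        have e : c * ((a : G) * b) * c⁻¹ * ((a : G) * b)⁻¹ =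
            (c * (a : G) * c⁻¹ * (a : G)⁻¹) * ((a : G) * (c * (b : G) * c⁻¹ * (b : G)⁻¹) * (a : G)⁻¹) := by
          group
        rw [e]
        exact mul_mem (ha c hc) (hzp a a.2 _ (hb c hc))
      inv_mem' := by
        intro a ha c hc
        change c * (a : G)⁻¹ * c⁻¹ * (a : G)⁻¹⁻¹ ∈ _
        have e : c * (a : G)⁻¹ * c⁻¹ * (a : G)⁻¹⁻¹ =
            (a : G)⁻¹ * (a * (c * (a : G)⁻¹ * c⁻¹ * (a : G)⁻¹⁻¹) * (a : G)⁻¹) * (a : G)⁻¹⁻¹ := by group
        rw [e]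
        refine hzp _ (inv_mem a.2) _ ?_
        have e2 : (a : G) * (c * (a : G)⁻¹ * c⁻¹ * (a : G)⁻¹⁻¹) * (a : G)⁻¹ =
            (c * (a : G) * c⁻¹ * (a : G)⁻¹)⁻¹ := by group
        rw [e2]
        exact inv_mem (ha c hc) }
  have hL : ∀ {g : centralizer ({z} : Set G)}, g ∈ L ↔ ∀ c : G, (∀ w ∈ ws V z, c * w = w * c) →
      c * (g : G) * c⁻¹ * (g : G)⁻¹ ∈ zpowers z := Iff.rfl
  have hLn : L.Normal := by
    constructor
    intro g hg t
    rw [hL] at hg ⊢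
    intro c hc
    have hc' : ∀ w ∈ ws V z, (t : G)⁻¹ * c * t * w = w * ((t : G)⁻¹ * c * t) := by
      intro w hw
      have h1 := hc _ (hρ.norm t t.2 w hw)
      calc (t : G)⁻¹ * c * t * w = (t : G)⁻¹ * (c * (t * w * (t : G)⁻¹)) * t := by group
        _ = (t : G)⁻¹ * (t * w * (t : G)⁻¹ * c) * t := by rw [h1]
        _ = w * ((t : G)⁻¹ * c * t) := by group
    have h1 := hzp t t.2 _ (hg _ hc')
    have e : c * ((t * g * t⁻¹ : centralizer ({z} : Set G)) : G) * c⁻¹ * ((t * g * t⁻¹ : centralizer ({z} : Set G)) : G)⁻¹ =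
        (t : G) * ((t : G)⁻¹ * c * t * g * ((t : G)⁻¹ * c * t)⁻¹ * (g : G)⁻¹) * (t : G)⁻¹ := by
      change c * ((t : G) * g * (t : G)⁻¹) * c⁻¹ * ((t : G) * g * (t : G)⁻¹)⁻¹ = _
      group
    rw [e]; exact h1
  -- `p ∈ L`
  have hpL : eu hB hp ∈ L := by
    rw [hL]
    intro c hc
    change c * p * c⁻¹ * p⁻¹ ∈ zpowers z
    have hcV : c ∈ centralizer (V : Set G) := by
      rw [mem_centralizer_iff]
      intro v hv
      exact (hc v (hB.V_le_ws hv)).symm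
    have hcz : c ∈ centralizer ({z} : Set G) := centralizer_le_of_mem hB.z_mem hcV
    have hcN : c ∈ normalizer ((us V u : Subgroup G) : Set G) := by
      have h1 := BTwoA.centralizer_le_normalizer_ws (V := V) hu hcV
      rw [mem_normalizer_iff_cj] at h1 ⊢
      have h2 : c ∈ normalizer (V : Set G) := by
        exact (centralizer_le_normalizer _) hcV
      have h3 := cj_us h2 u
      rw [h3]
      have h4 : c * u * c⁻¹ = u := by rw [comm_V hcV hu, mul_inv_cancel_right]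
      rw [h4]
    have hcp : c * p * c⁻¹ ∈ us V u := (mem_normalizer_iff.mp hcN p).mp hp
    set t := c * p * c⁻¹ * p⁻¹ with ht
    have htu : t ∈ us V u := mul_mem hcp (inv_mem hp)
    -- `t` centralises `ws V z`
    have hpz : p ∈ centralizer ({z} : Set G) := us_le_C hB u hp
    have htc : ∀ w ∈ ws V z, w * t = t * w := by
      intro w hw
      have h1 := hρ.norm p⁻¹ (inv_mem hpz) w hw
      rw [inv_inv] at h1
      have h2 := hc _ h1
      have h3 := hc _ hw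
      -- `c` and `p c⁻¹ p⁻¹` commute with `w`
      have h4 : Commute c w := h3
      have h5 : Commute (p * c⁻¹ * p⁻¹) w := by
        have h6 : Commute c (p⁻¹ * w * p) := h2
        have h7 : c⁻¹ * (p⁻¹ * w * p) = (p⁻¹ * w * p) * c⁻¹ := h6.inv_left
        change p * c⁻¹ * p⁻¹ * w = w * (p * c⁻¹ * p⁻¹)
        calc p * c⁻¹ * p⁻¹ * w = p * (c⁻¹ * (p⁻¹ * w * p)) * p⁻¹ := by group
          _ = p * ((p⁻¹ * w * p) * c⁻¹) * p⁻¹ := by rw [h7]
          _ = w * (p * c⁻¹ * p⁻¹) := by group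
      have h6 : Commute t w := by
        have e : t = c * (p * c⁻¹ * p⁻¹) := by rw [ht]; group
        rw [e]; exact h4.mul_left h5
      exact h6.symm
    have htk : ρ (eu hB htu) = 1 := by
      rw [hρ.ker]
      intro w hw
      left
      change t * w * t⁻¹ = w
      rw [← htc w hw, mul_inv_cancel_right]
    have htd : t ∈ dd V := (eu_dd hB hρ hu hu1 huz htu).mp htk
    exact mem_zpowers_of_comm hB htd htc
  have hsq := eu_sq hB hρ hu hu1 hp
  obtain ⟨g, hg, h3⟩ := exists_conj_o3 _ hsq hne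
  obtain ⟨d, rfl⟩ := hρ.even g hg
  have hmL : eu hB hp * (d * eu hB hp * d⁻¹) ∈ L := mul_mem hpL (hLn.conj_mem _ hpL d)
  have h3' : O3 (ρ (eu hB hp * (d * eu hB hp * d⁻¹))) := by
    rw [map_mul, map_mul, map_mul, map_inv]; exact h3
  obtain ⟨m, hm, hm2⟩ := exists_three hB h.three hρ h3'
  have hpL' := pow_mem hmL (3 * m + 1)
  set q := (eu hB hp * (d * eu hB hp * d⁻¹)) ^ (3 * m + 1) with hq
  have hq3 : q ^ 3 = 1 := by
    rw [hq, ← pow_mul]
    exact Subtype.ext hm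
  have hq1 : q ≠ 1 := by
    intro e
    rw [e, map_one] at hm2
    exact h3'.2 hm2.symm
  have hpr : Fact (Nat.Prime 3) := ⟨Nat.prime_three⟩
  have hdvd : 3 ∣ Nat.card L := by
    have h4 : orderOf (⟨q, hpL'⟩ : L) = 3 := by
      rw [Subgroup.orderOf_mk]; exact orderOf_eq_prime hq3 hq1
    rw [← h4]; exact orderOf_dvd_natCard _
  have h5 := CompBasic.mem_of_orderOf (CompBasic.oddCyc_subgroup h.cyc _) Nat.prime_three (by norm_num)
    hLn hdvd (x := ⟨y, hy⟩) (by rw [Subgroup.orderOf_mk]; exact orderOf_eq_prime hy3 hy1)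
  have h6 := hL.mp h5 c hc
  change c * y * c⁻¹ * y⁻¹ ∈ zpowers z at h6
  rw [mem_zpowers_iff_of_mul_self hzz] at h6
  rcases h6 with e | e
  · have : c * y * c⁻¹ = y := mul_inv_eq_one.mp e
    exact mul_inv_eq_iff_eq_mul.mp this
  · exfalso
    have e2 : c * y * c⁻¹ = z * y := by
      rw [mul_inv_eq_iff_eq_mul] at e; exact e
    have e3 : (z * y) ^ 3 = 1 := by
      rw [← e2]
      have : (c * y * c⁻¹) ^ 3 = c * y ^ 3 * c⁻¹ := by simp only [pow_succ, pow_zero, one_mul]; group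
      rw [this, hy3]; group
    have hcm : Commute z y := (mem_centralizer_singleton_iff.mp hy).symm
    rw [hcm.mul_pow, hy3, mul_one, pow_succ, pow_two, hzz, one_mul] at e3
    exact hB.z_ne e3

/-- an element of order three commuting with `z` and `p` -/
theorem exists_y (h : HS T V z) (hρ : NLoc (ws V z) z ρ)
    (hcc : ∀ c y : G, (∀ w ∈ ws V z, c * w = w * c) → y ∈ centralizer ({z} : Set G) → y ^ 3 = 1 → c * y = y * c)
    {p : G} (hpz : p ∈ centralizer ({z} : Set G)) (hp2 : p * p = 1)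
    (hs : Equiv.Perm.sign (ρ ⟨p, hpz⟩) = -1) :
    ∃ y : G, y ^ 3 = 1 ∧ y ≠ 1 ∧ y * z = z * y ∧ y * p = p * y := by
  have hB := h.toBTwo
  have hpi : p⁻¹ = p := inv_eq_of_mul_eq_one_left hp2
  have hρp : ρ ⟨p, hpz⟩ * ρ ⟨p, hpz⟩ = 1 := by
    rw [← map_mul]
    have : (⟨p, hpz⟩ * ⟨p, hpz⟩ : centralizer ({z} : Set G)) = 1 := Subtype.ext hp2
    rw [this, map_one]
  have hρp1 : ρ ⟨p, hpz⟩ ≠ 1 := by
    intro e
    rw [e, map_one] at hs
    exact absurd hs (by decide)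
  obtain ⟨g, hg, hpg⟩ := exists_commute_o3' _ hs hρp
  obtain ⟨y00, hy00⟩ := hρ.even g hg.sign
  have hO : O3 (ρ y00) := by rw [hy00]; exact hg
  obtain ⟨m, hm, hm2⟩ := exists_three hB h.three hρ hO
  set yc : centralizer ({z} : Set G) := y00 ^ (3 * m + 1) with hyc
  set y0 : G := (yc : G) with hy0
  have hy0z : y0 ∈ centralizer ({z} : Set G) := yc.2
  have hy03 : y0 ^ 3 = 1 := by
    have : ((y00 : G) ^ (3 * m + 1)) ^ 3 = 1 := by rw [← pow_mul]; exact hm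
    exact this
  have hρy : ρ yc = g := by rw [hm2, hy00]
  have hOy : O3 (ρ yc) := by rw [hρy]; exact hg
  have hy01 : y0 ≠ 1 := by
    intro e
    have : yc = 1 := Subtype.ext e
    rw [this, map_one] at hOy
    exact hOy.2 rfl
  -- `q = [p, y0]`
  set q : G := p * y0 * p⁻¹ * y0⁻¹ with hq
  have hqz : q ∈ centralizer ({z} : Set G) :=
    mul_mem (mul_mem (mul_mem hpz hy0z) (inv_mem hpz)) (inv_mem hy0z)
  have hρq : ρ ⟨q, hqz⟩ = 1 := by
    have e : (⟨q, hqz⟩ : centralizer ({z} : Set G)) = ⟨p, hpz⟩ * yc * ⟨p, hpz⟩⁻¹ * yc⁻¹ := rfl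
    rw [e, map_mul, map_mul, map_mul, map_inv, map_inv, hρy, hpg]
    group
  have hzz3 : ∀ a ∈ zz (ws V z), y0 * a * y0⁻¹ = a := fun a ha => hρ.three_zz hy0z hy03 ha
  have hqZ : ∀ a ∈ zz (ws V z), q * a * q⁻¹ = a := by
    intro a ha
    have h1 : y0⁻¹ * a * y0 = a := by
      have := hzz3 a ha
      calc y0⁻¹ * a * y0 = y0⁻¹ * (y0 * a * y0⁻¹) * y0 := by rw [this]
        _ = a := by group
    have h2 : p⁻¹ * a * p ∈ zz (ws V z) := by
      have := hρ.conj_zz (inv_mem hpz) ha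
      rwa [inv_inv] at this
    have h3 := hzz3 _ h2
    calc q * a * q⁻¹ = p * (y0 * (p⁻¹ * (y0⁻¹ * a * y0) * p) * y0⁻¹) * p⁻¹ := by rw [hq]; group
      _ = p * (y0 * (p⁻¹ * a * p) * y0⁻¹) * p⁻¹ := by rw [h1]
      _ = a := by rw [h3]; group
  obtain ⟨m0, hm0, hm0q⟩ := hρ.exists_inner hqz hρq hqZ
  set m1 : G := y0 * m0 * y0⁻¹ with hm1
  set m2 : G := y0 * m1 * y0⁻¹ with hm2'
  have hm1W : m1 ∈ ws V z := hρ.norm y0 hy0z m0 hm0
  have hm2W : m2 ∈ ws V z := hρ.norm y0 hy0z m1 hm1W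
  have hsum : m0 * m1 * m2 ∈ zz (ws V z) := hρ.three_sum hOy hm0
  -- classes modulo the centre
  have hcl : ∀ {a : G} (ha : a ∈ ws V z), a ∈ zz (ws V z) ↔ MZ.mk hρ.sec a ha = 0 :=
    fun ha => (hρ.mk_eq_zero_iff ha).symm
  set ζ : G := m0⁻¹ * m1 * m2⁻¹ with hζ
  have hζZ : ζ ∈ zz (ws V z) := by
    have h1 : ζ ∈ ws V z := mul_mem (mul_mem (inv_mem hm0) hm1W) (inv_mem hm2W)
    rw [hcl h1]
    rw [hcl (mul_mem (mul_mem hm0 hm1W) hm2W), MZ.mk_mul (mul_mem hm0 hm1W) hm2W, MZ.mk_mul hm0 hm1W] at hsum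
    have e : MZ.mk hρ.sec ζ h1 = MZ.mk hρ.sec m0⁻¹ (inv_mem hm0) + MZ.mk hρ.sec m1 hm1W +
        MZ.mk hρ.sec m2⁻¹ (inv_mem hm2W) := by
      rw [← MZ.mk_mul, ← MZ.mk_mul]
    rw [e, MZ.mk_inv hm0, MZ.mk_inv hm2W, hsum]
  set c0 : G := m0⁻¹ * q with hc0
  have hc0W : ∀ w ∈ ws V z, c0 * w = w * c0 := by
    intro w hw
    apply mul_inv_eq_iff_eq_mul.mp
    calc c0 * w * c0⁻¹ = m0⁻¹ * (q * w * q⁻¹) * m0 := by rw [hc0]; group
      _ = w := by rw [hm0q w hw]; group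
  set c1 : G := ζ⁻¹ * c0 with hc1
  have hc1W : ∀ w ∈ ws V z, c1 * w = w * c1 := by
    intro w hw
    have h1 : Commute ζ⁻¹ w := (zz_comm (inv_mem hζZ) hw)
    have h2 : Commute c0 w := hc0W w hw
    exact h1.mul_left h2
  have hc1y := hcc c1 y0 hc1W hy0z hy03
  -- `p y0 p⁻¹ = m1 y0 m1⁻¹ c1`
  have hpy : p * y0 * p⁻¹ = m1 * y0 * m1⁻¹ * c1 := by
    have e1 : m1 * y0 * m1⁻¹ = m1 * m2⁻¹ * y0 := by rw [hm2']; group
    have e2 : p * y0 * p⁻¹ = m0 * c0 * y0 := by rw [hc0, hq]; group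
    rw [e1, e2]
    calc m0 * c0 * y0 = m0 * ζ * (c1 * y0) := by rw [hc1]; group
      _ = m0 * ζ * (y0 * c1) := by rw [hc1y]
      _ = m1 * m2⁻¹ * y0 * c1 := by rw [hζ]; group
  have hm1z : m1 ∈ centralizer ({z} : Set G) := hρ.le hm1W
  set t : G := m1 * y0 * m1⁻¹ with ht
  have htz : t ∈ centralizer ({z} : Set G) := mul_mem (mul_mem hm1z hy0z) (inv_mem hm1z)
  have ht3 : t ^ 3 = 1 := by
    have : t ^ 3 = m1 * y0 ^ 3 * m1⁻¹ := by
      rw [ht]; simp only [pow_succ, pow_zero, one_mul]; group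
    rw [this, hy03]; group
  have hc1t : Commute t c1 := (hcc c1 t hc1W htz ht3).symm
  have hc13 : c1 ^ 3 = 1 := by
    have h1 : (p * y0 * p⁻¹) ^ 3 = 1 := by
      have : (p * y0 * p⁻¹) ^ 3 = p * y0 ^ 3 * p⁻¹ := by simp only [pow_succ, pow_zero, one_mul]; group
      rw [this, hy03]; group
    rw [hpy, hc1t.mul_pow, ht3, one_mul] at h1
    exact h1
  have hc11 : c1 = 1 := by
    by_contra hne
    have hpr : Fact (Nat.Prime 3) := ⟨Nat.prime_three⟩
    refine h.three c1 ?_ (orderOf_eq_prime hc13 hne)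
    rw [mem_centralizer_iff]
    intro v hv
    exact (hc1W v (hB.V_le_ws hv)).symm
  rw [hc11, mul_one] at hpy
  -- `s = m1⁻¹ p` commutes with `y0`
  set s : G := m1⁻¹ * p with hsdef
  have hsy : s * y0 * s⁻¹ = y0 := by
    calc s * y0 * s⁻¹ = m1⁻¹ * (p * y0 * p⁻¹) * m1 := by rw [hsdef]; group
      _ = y0 := by rw [hpy, ht]; group
  have hpm1 : p * m1⁻¹ * p⁻¹ ∈ ws V z := hρ.norm p hpz _ (inv_mem hm1W)
  have hpm1' : p * m1 * p⁻¹ ∈ ws V z := hρ.norm p hpz _ hm1W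
  have hss : s * s = m1⁻¹ * (p * m1⁻¹ * p⁻¹) := by
    rw [hsdef]
    calc m1⁻¹ * p * (m1⁻¹ * p) = m1⁻¹ * (p * m1⁻¹ * p⁻¹) * (p * p) := by group
      _ = _ := by rw [hp2, mul_one]
  have hssW : s * s ∈ ws V z := by rw [hss]; exact mul_mem (inv_mem hm1W) hpm1
  have hssZ : s * s ∈ zz (ws V z) := by
    refine hρ.fpf yc hOy _ hssW ?_
    change y0 * (s * s) * y0⁻¹ * (s * s)⁻¹ ∈ _
    have h1 : s * y0 = y0 * s := mul_inv_eq_iff_eq_mul.mp hsy
    have h2 : y0 * (s * s) * y0⁻¹ * (s * s)⁻¹ = 1 := by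
      have h3 : Commute y0 s := h1.symm
      have h4 : Commute y0 (s * s) := h3.mul_right h3
      have h5 : y0 * (s * s) = s * s * y0 := h4
      rw [h5]; group
    rw [h2]; exact one_mem _
  have hpm : p * m1 * p⁻¹ * m1⁻¹ ∈ zz (ws V z) := by
    have h1 : p * m1 * p⁻¹ * m1⁻¹ ∈ ws V z := mul_mem hpm1' (inv_mem hm1W)
    rw [hcl h1]
    rw [hss, hcl (mul_mem (inv_mem hm1W) hpm1), MZ.mk_mul (inv_mem hm1W) hpm1, MZ.mk_inv hm1W] at hssZ
    have e1 : MZ.mk hρ.sec (p * m1⁻¹ * p⁻¹) hpm1 = MZ.mk hρ.sec (p * m1 * p⁻¹) hpm1' := by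
      have e2 : MZ.mk hρ.sec (p * m1 * p⁻¹)⁻¹ (inv_mem hpm1') = MZ.mk hρ.sec (p * m1 * p⁻¹) hpm1' := MZ.mk_inv hpm1'
      rw [← e2]
      congr 1
      group
    rw [e1] at hssZ
    rw [MZ.mk_mul hpm1' (inv_mem hm1W), MZ.mk_inv hm1W, add_comm]
    exact hssZ
  obtain ⟨n, hn, hnZ⟩ := hρ.exists_comm (c := ⟨p, hpz⟩) hρp hρp1 hm1W hpm
  change m1⁻¹ * (p * n * p⁻¹ * n⁻¹) ∈ zz (ws V z) at hnZ
  have hpn : p * n * p⁻¹ ∈ ws V z := hρ.norm p hpz n hn
  set ζ3 : G := n⁻¹ * (p * n * p⁻¹) * m1 with hζ3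
  have hζ3Z : ζ3 ∈ zz (ws V z) := by
    have h1 : ζ3 ∈ ws V z := mul_mem (mul_mem (inv_mem hn) hpn) hm1W
    rw [hcl h1]
    rw [hcl (mul_mem (inv_mem hm1W) (mul_mem hpn (inv_mem hn))), MZ.mk_mul (inv_mem hm1W) (mul_mem hpn (inv_mem hn)),
      MZ.mk_mul hpn (inv_mem hn), MZ.mk_inv hm1W, MZ.mk_inv hn] at hnZ
    have e : MZ.mk hρ.sec ζ3 h1 = MZ.mk hρ.sec n⁻¹ (inv_mem hn) + MZ.mk hρ.sec (p * n * p⁻¹) hpn +
        MZ.mk hρ.sec m1 hm1W := by
      rw [← MZ.mk_mul, ← MZ.mk_mul]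
    rw [e, MZ.mk_inv hn, ← hnZ]
    abel
  have hnz : n ∈ centralizer ({z} : Set G) := hρ.le hn
  refine ⟨n * y0 * n⁻¹, ?_, ?_, ?_, ?_⟩
  · have : (n * y0 * n⁻¹) ^ 3 = n * y0 ^ 3 * n⁻¹ := by simp only [pow_succ, pow_zero, one_mul]; group
    rw [this, hy03]; group
  · intro e
    apply hy01
    have : y0 = n⁻¹ * (n * y0 * n⁻¹) * n := by group
    rw [this, e]; group
  · exact mem_centralizer_singleton_iff.mp (mul_mem (mul_mem hnz hy0z) (inv_mem hnz))
  · have h1 : ζ3 * y0 * ζ3⁻¹ = y0 := by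
      have := hzz3 ζ3 hζ3Z
      have h2 : y0 * ζ3 = ζ3 * y0 := mul_inv_eq_iff_eq_mul.mp this
      rw [← h2, mul_inv_cancel_right]
    have h2 : p * n * p⁻¹ * m1 = n * ζ3 := by rw [hζ3]; group
    have h3 : p * (n * y0 * n⁻¹) * p⁻¹ = n * y0 * n⁻¹ := by
      calc p * (n * y0 * n⁻¹) * p⁻¹ = (p * n * p⁻¹) * (p * y0 * p⁻¹) * (p * n * p⁻¹)⁻¹ := by group
        _ = (p * n * p⁻¹ * m1) * y0 * (p * n * p⁻¹ * m1)⁻¹ := by rw [hpy, ht]; group
        _ = n * (ζ3 * y0 * ζ3⁻¹) * n⁻¹ := by rw [h2]; group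
        _ = n * y0 * n⁻¹ := by rw [h1]
    exact (mul_inv_eq_iff_eq_mul.mp h3).symm

end

/-- **The HS shape is impossible.** -/
theorem HS.false (h : HS T V z) : False := by
  have hB := h.toBTwo
  obtain ⟨u, hu, hu1, huz⟩ := h.exists_y
  obtain ⟨ρ, hρ⟩ := h.loc
  obtain ⟨p, hp, hp2, hs, d, hd, hpd⟩ := exists_p h hρ hu hu1 huz
  have hne : ρ (eu hB hp) ≠ 1 := by
    intro e
    rw [e, map_one] at hs
    exact absurd hs (by decide)
  obtain ⟨y, hy3, hy1, hyz, hyp⟩ := exists_y h hρ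
    (fun c y hc hy hy3 => cent_comm h hρ hu hu1 huz hp hne hc hy hy3) (us_le_C hB u hp) hp2 hs
  obtain ⟨⟨T', h'⟩, ρu, hρu⟩ := h.point hu hu1
  -- `z, p` in `ws V u`
  have hzW : z ∈ ws V u := h'.V_le_ws h.z_mem
  have hpW : p ∈ ws V u := hp.1
  have hdW : d ∈ ws V u := hB.dd_le_ws hu hu1 hd
  have hpz : p * z = z * p := comm_V hp.2 h.z_mem
  have hzZ : z ∉ zz (ws V u) := HS.V_not_zz h' h.z_mem h.z_ne (Ne.symm huz)
  have hpZ : p ∉ zz (ws V u) := by
    intro hpZ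
    have h1 := zz_comm hpZ hdW
    rw [h1, mul_inv_cancel_right] at hpd
    exact hu1 (by simpa using hpd.symm)
  have hdz : z * d = d * z := (comm_V (hB.dd_le_centralizer hd) h.z_mem).symm
  have hdu : u * d = d * u := (comm_V (hB.dd_le_centralizer hd) hu).symm
  have hzu : z * u = u * z := h.comm h.z_mem hu
  have hzpZ : z * p ∉ zz (ws V u) := by
    intro hzpZ
    have h1 := zz_comm hzpZ hdW
    have h2 : z * p * d * (z * p)⁻¹ = u * d := by
      calc z * p * d * (z * p)⁻¹ = z * (p * d * p⁻¹) * z⁻¹ := by group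
        _ = z * (u * d) * z⁻¹ := by rw [hpd]
        _ = (z * u) * d * z⁻¹ := by group
        _ = u * (z * d) * z⁻¹ := by rw [hzu]; group
        _ = u * d := by rw [hdz]; group
    rw [h1, mul_inv_cancel_right] at h2
    exact hu1 (by simpa using h2.symm)
  obtain ⟨c, hc, ⟨ζ1, hζ1, e1⟩, ζ2, hζ2, e2⟩ := hρu.exists_cyc hzW hpW hzZ hpZ hzpZ
  have hzz := h.zz
  have hζ1' : ζ1 = 1 ∨ ζ1 = u := by
    apply hρu.eq_of_sq hζ1
    have h1 : p * ζ1 * (p * ζ1) = 1 := by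
      rw [← e1]
      have : (c : G) * z * (c : G)⁻¹ * ((c : G) * z * (c : G)⁻¹) = c * (z * z) * (c : G)⁻¹ := by group
      rw [this, hzz]; group
    calc ζ1 * ζ1 = (p * p) * (ζ1 * ζ1) := by rw [hp2, one_mul]
      _ = p * (p * ζ1) * ζ1 := by group
      _ = p * (ζ1 * p) * ζ1 := by rw [zz_comm hζ1 hpW]
      _ = p * ζ1 * (p * ζ1) := by group
      _ = 1 := h1
  have hzpW : z * p ∈ ws V u := mul_mem hzW hpW
  have hzp2 : z * p * (z * p) = 1 := by
    calc z * p * (z * p) = z * (p * z) * p := by group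
      _ = (z * z) * (p * p) := by rw [hpz]; group
      _ = 1 := by rw [hzz, hp2, one_mul]
  have hζ2' : ζ2 = 1 ∨ ζ2 = u := by
    apply hρu.eq_of_sq hζ2
    have h1 : z * p * ζ2 * (z * p * ζ2) = 1 := by
      rw [← e2]
      have : (c : G) * p * (c : G)⁻¹ * ((c : G) * p * (c : G)⁻¹) = c * (p * p) * (c : G)⁻¹ := by group
      rw [this, hp2]; group
    calc ζ2 * ζ2 = (z * p * (z * p)) * (ζ2 * ζ2) := by rw [hzp2, one_mul]
      _ = z * p * ((z * p) * ζ2) * ζ2 := by group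
      _ = z * p * (ζ2 * (z * p)) * ζ2 := by rw [zz_comm hζ2 hzpW]
      _ = z * p * ζ2 * (z * p * ζ2) := by group
      _ = 1 := h1
  have hpzpZ : p * (z * p) ∉ zz (ws V u) := by
    have : p * (z * p) = z := by
      rw [← mul_assoc, hpz, mul_assoc, hp2, mul_one]
    rw [this]; exact hzZ
  obtain ⟨k, hk, hk1, hk2⟩ := hρu.exists_hom hpW hzpW hpZ hzpZ hpzpZ hζ1' hζ2'
  have hku : k * u = u * k := hρu.x_comm hk
  have hee : ∀ {e : G}, (e = 1 ∨ e = u) → e * e = 1 ∧ k * e * k⁻¹ = e := by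
    rintro e (rfl | rfl)
    · simp
    · exact ⟨h'.zz, by rw [hku, mul_inv_cancel_right]⟩
  set kc : centralizer ({u} : Set G) := ⟨k, hρu.le hk⟩ with hkc
  have hρd : ρu (kc * c) = ρu c := by rw [map_mul, hkc, hρu.ker_of_mem hk, one_mul]
  have hOd : O3 (ρu (kc * c)) := by rw [hρd]; exact hc
  set D : G := k * (c : G) with hD
  have a1 : D * z * D⁻¹ = p := by
    calc D * z * D⁻¹ = k * ((c : G) * z * (c : G)⁻¹) * k⁻¹ := by rw [hD]; group
      _ = (k * p * k⁻¹) * (k * ζ1 * k⁻¹) := by rw [e1]; group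
      _ = p := by rw [hk1, (hee hζ1').2, mul_assoc, (hee hζ1').1, mul_one]
  have a2 : D * p * D⁻¹ = z * p := by
    calc D * p * D⁻¹ = k * ((c : G) * p * (c : G)⁻¹) * k⁻¹ := by rw [hD]; group
      _ = (k * (z * p) * k⁻¹) * (k * ζ2 * k⁻¹) := by rw [e2]; group
      _ = z * p := by rw [hk2, (hee hζ2').2, mul_assoc, (hee hζ2').1, mul_one]
  have a3 : D * (z * p) * D⁻¹ = z := by
    calc D * (z * p) * D⁻¹ = (D * z * D⁻¹) * (D * p * D⁻¹) := by group
      _ = p * (z * p) := by rw [a1, a2]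
      _ = z := by rw [← mul_assoc, hpz, mul_assoc, hp2, mul_one]
  have d3 : ∀ t : G, D ^ 3 * t * (D ^ 3)⁻¹ = D * (D * (D * t * D⁻¹) * D⁻¹) * D⁻¹ := fun t => by
    simp only [pow_succ, pow_zero, one_mul]; group
  have b1 : D ^ 3 * z = z * D ^ 3 := by
    have := d3 z
    rw [a1, a2, a3] at this
    exact mul_inv_eq_iff_eq_mul.mp this
  have b2 : D ^ 3 * p = p * D ^ 3 := by
    have := d3 p
    rw [a2, a3, a1] at this
    exact mul_inv_eq_iff_eq_mul.mp this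
  obtain ⟨m, hm, _⟩ := exists_three h' h.three hρu hOd
  have hm' : (D ^ (3 * m + 1)) ^ 3 = 1 := by rw [← pow_mul]; exact hm
  have hzp : z ≠ p := by
    rintro rfl
    exact hzpZ (by rw [hzz]; exact one_mem _)
  exact hy1 (noThree' h.cyc (c := D ^ (3 * m + 1)) (p := z) (q := p) (g := y) hm'
    (by rw [GamBase.Gam.conj_pow b1, a1]) (by rw [GamBase.Gam.conj_pow b2, a2]) hzp hy3 hyz hyp)

end Cfsg.Agent.OddCyclic.GamNBase
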