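import Mathlib
import Cfsg.Agent.OddCyclic.GamNEnd
import Cfsg.Agent.OddCyclic.GamFlag
import Cfsg.Agent.OddCyclic.BTwoHS
import Cfsg.Agent.OddCyclic.BTwoLin.Three

/-!
# The HS shape of `BTwoHS.lean` is impossible
-/

set_option autoImplicit false
set_option linter.dupNamespace false
set_option linter.unusedSectionVars false

namespace Cfsg.Agent.OddCyclic.BTwoHS

open Subgroup Cfsg Cfsg.Agent.ZN Cfsg.Agent.MinSimple.Geo Cfsg.Agent.OddCyclic.GeoC Cfsg.Agent.OddCyclic.BTwoA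
  Cfsg.Agent.OddCyclic.BTwoB Cfsg.Agent.OddCyclic.BTwoC Cfsg.Agent.OddCyclic.BTwoD
open Cfsg.Agent.OddCyclic.T1Defs GamPerm GamNLoc

universe u

variable {G : Type u} [Group G] [Finite G] {T V : Subgroup G} {z : G}

theorem HS.toHS (h : HS T V z) : GamNBase.HS T V z := by
  have hB := h.toBTwo
  have hcard : Nat.card (ws V z) = 64 := by rw [h.card_ws]; norm_num
  have hcd : Nat.card (dd V) = 8 := by rw [h.card_dd]; norm_num
  have hzzc : ∀ {w : G}, w ∈ zz (ws V z) ↔ w ∈ ws V z ∧ ∀ w' ∈ ws V z, w * w' = w' * w := by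
    intro w
    rw [mem_zz]
    constructor
    · rintro ⟨h1, h2⟩; exact ⟨h1, fun a ha => (h2 a ha).symm⟩
    · rintro ⟨h1, h2⟩; exact ⟨h1, fun a ha => (h2 a ha).symm⟩
  obtain ⟨ζ, hζW, hζ2, hζ⟩ := h.cen
  have hzz := hB.zz
  have hz1 := hB.z_ne
  have hordζ : orderOf ζ = 4 := by
    have : Fact (Nat.Prime 2) := ⟨Nat.prime_two⟩
    have h1 : orderOf ζ = 2 ^ (1 + 1) := by
      apply orderOf_eq_prime_pow
      · rw [pow_one, pow_two, hζ2]; exact hz1
      · have : ζ ^ 2 ^ (1 + 1) = (ζ * ζ) * (ζ * ζ) := by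
          rw [show 2 ^ (1 + 1) = 2 + 2 by norm_num, pow_add, pow_two]
        rw [this, hζ2, hzz]
    rw [h1]; norm_num
  have hzzle : zz (ws V z) ≤ zpowers ζ := by
    intro w hw
    have h1 := hzzc.mp hw
    exact hζ w h1.1 h1.2
  have hc4' : Nat.card (zpowers ζ) = 4 := by rw [Nat.card_zpowers, hordζ]
  have hz_zz : z ∈ zz (ws V z) := hzzc.mpr ⟨hB.V_le_ws hB.z_mem, fun w hw =>
    (hB.z_comm (hB.ws_le_centralizer hw)).symm⟩
  have hle : zpowers z ≤ zz (ws V z) := zpowers_le.mpr hz_zz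
  -- the centre is not `⟨z⟩`
  have hus : Nat.card (us V z) = 32 := by
    have := BTwoD.card_ws hB
    omega
  have hes : Nat.card (es V z) = 16 := by
    have := BTwoD.card_es hB
    rw [hus, hcd] at this
    omega
  have hgt : ∃ a ∈ zz (ws V z), a ∉ zpowers z := by
    obtain ⟨a, ha, had⟩ : ∃ a ∈ es V z, a ∉ dd V := by
      by_contra hcon
      push Not at hcon
      have := Subgroup.card_le_of_le (show es V z ≤ dd V from hcon)
      omega
    have hdes := BTwoD.dd_le_es hB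
    -- `es V z = dd V ∪ a dd V`
    have hex : ∀ y ∈ es V z, y ∈ dd V ∨ a⁻¹ * y ∈ dd V := by
      intro y hy
      by_cases hyd : y ∈ dd V
      · exact Or.inl hyd
      right
      exact GamBase.mul_mem_of_two hdes (by rw [hcd, hes]) (by rw [hcd]; norm_num) (inv_mem ha) hy
        (fun e => had ((inv_mem_iff).mp e)) hyd
    have hcomm : ∀ y ∈ es V z, a * y = y * a := by
      intro y hy
      rcases hex y hy with h1 | h1
      · exact (mem_centralizer_iff.mp ha.2 y h1).symm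
      · have h2 := mem_centralizer_iff.mp ha.2 _ h1
        have e : y = a * (a⁻¹ * y) := by group
        calc a * y = a * (a * (a⁻¹ * y)) := by rw [← e]
          _ = a * ((a⁻¹ * y) * a) := by rw [h2]
          _ = (a * (a⁻¹ * y)) * a := by group
          _ = y * a := by rw [← e]
    obtain ⟨d, hd, hdc⟩ := exists_central hB ha hcomm
    refine ⟨a * d, hzzc.mpr ⟨mul_mem ha.1.1 (hB.dd_le_ws hB.z_mem hB.z_ne hd), fun w hw => (hdc w hw).symm⟩, ?_⟩
    intro e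
    apply had
    have h1 : a * d ∈ dd V := zpowers_le_dd hB hB.z_mem e
    have := mul_mem h1 (inv_mem hd)
    rwa [mul_inv_cancel_right] at this
  have hc4 : Nat.card (zz (ws V z)) = 4 := by
    have h1 : Nat.card (zz (ws V z)) ∣ 4 := by rw [← hc4']; exact Subgroup.card_dvd_of_le hzzle
    have h2 : Nat.card (zpowers z) < Nat.card (zz (ws V z)) := by
      obtain ⟨a, ha, haz⟩ := hgt
      by_contra hcon
      push Not at hcon
      have := Subgroup.eq_of_le_of_card_ge hle hcon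
      rw [← this] at ha
      exact haz ha
    rw [BTwoD.card_zpowers hB.toGeoC] at h2
    have h3 : Nat.card (zz (ws V z)) ≤ 4 := Nat.le_of_dvd (by norm_num) h1
    interval_cases (Nat.card (zz (ws V z))) <;> omega
  refine ⟨hB, hcard, hcd, hc4, ?_, fun g hg => BTwoLin.Three.not_three hB hg⟩
  obtain ⟨φ, hφ, hker, hfpf, _⟩ := h.rep
  refine ⟨φ, fun g _ => hφ g, hker, ?_⟩
  have hsq1 : ∀ a ∈ zz (ws V z), a * a = 1 → a ∈ zpowers z := by
    intro a ha ha2
    obtain ⟨n, rfl⟩ := mem_zpowers_iff.mp (hzzle ha)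
    rw [← zpow_add] at ha2
    have h1 : (orderOf ζ : ℤ) ∣ n + n := orderOf_dvd_iff_zpow_eq_one.mpr ha2
    rw [hordζ] at h1
    obtain ⟨k, hk⟩ : ∃ k : ℤ, n = 2 * k := ⟨n / 2, by omega⟩
    rw [hk, zpow_mul, zpow_two, hζ2]
    exact zpow_mem (mem_zpowers z) k
  have hzc : ∀ {a w : G}, a ∈ zz (ws V z) → w ∈ ws V z → a * w = w * a := fun ha hw => zz_comm ha hw
  have hnorm : ∀ {c : G}, c ∈ centralizer ({z} : Set G) → ∀ {a : G}, a ∈ zz (ws V z) → c * a * c⁻¹ ∈ zz (ws V z) := by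
    intro c hc a ha
    have hn := Cfsg.Agent.MinSimple.Geo.centralizer_le_normalizer_ws V z
    rw [hzzc] at ha ⊢
    refine ⟨(mem_normalizer_iff.mp (hn hc) a).mp ha.1, fun w hw => ?_⟩
    have h1 : c⁻¹ * w * c ∈ ws V z := by
      have := (mem_normalizer_iff.mp (inv_mem (hn hc)) w).mp hw
      rwa [inv_inv] at this
    have h2 := ha.2 _ h1
    calc c * a * c⁻¹ * w = c * (a * (c⁻¹ * w * c)) * c⁻¹ := by group
      _ = c * (c⁻¹ * w * c * a) * c⁻¹ := by rw [h2]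
      _ = w * (c * a * c⁻¹) := by group
  -- conjugates of central elements
  have hcj : ∀ {c : G}, c ∈ centralizer ({z} : Set G) → ∀ {a : G}, a ∈ zz (ws V z) →
      ∃ e ∈ zpowers z, c * a * c⁻¹ = a * e := by
    intro c hc a ha
    have hca := hnorm hc ha
    refine ⟨a⁻¹ * (c * a * c⁻¹), ?_, by group⟩
    apply hsq1 _ (mul_mem (inv_mem ha) hca)
    have h1 : a⁻¹ * (c * a * c⁻¹) = (c * a * c⁻¹) * a⁻¹ := (hzc (inv_mem ha) (hca.1))
    have h2 : a⁻¹ * (c * a * c⁻¹) * (a⁻¹ * (c * a * c⁻¹)) = (c * (a * a) * c⁻¹) * (a * a)⁻¹ := by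
      have h3 : Commute a⁻¹ (c * a * c⁻¹) := h1
      calc a⁻¹ * (c * a * c⁻¹) * (a⁻¹ * (c * a * c⁻¹)) = (c * a * c⁻¹) * a⁻¹ * ((c * a * c⁻¹) * a⁻¹) := by rw [h1]
        _ = (c * a * c⁻¹) * (a⁻¹ * (c * a * c⁻¹)) * a⁻¹ := by group
        _ = (c * a * c⁻¹) * ((c * a * c⁻¹) * a⁻¹) * a⁻¹ := by rw [h1]
        _ = _ := by group
    rw [h2]
    rcases hB.sq_cases ha.1 with e | e
    · rw [e]; group
    · rw [e]
      have : c * z * c⁻¹ = z := by rw [hB.z_comm hc, mul_inv_cancel_right]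
      rw [this, mul_inv_cancel]
  intro c hc w hw hcw
  have hcomm_z : ∀ {e : G}, e ∈ zpowers z → e ∈ zz (ws V z) := fun he => hle he
  set κ : G := (c : G) * w * (c : G)⁻¹ * w⁻¹ with hκ
  have hcwκ : (c : G) * w * (c : G)⁻¹ = κ * w := by rw [hκ]; group
  obtain ⟨e1, he1, hκ1⟩ := hcj c.2 hcw
  have hκ1' : (c : G) * κ * (c : G)⁻¹ ∈ zz (ws V z) := hnorm c.2 hcw
  obtain ⟨e2, he2, hκ2⟩ := hcj c.2 hκ1'
  -- `c ^ 3` acts trivially modulo `z`
  have hc3 : (c * c * c : centralizer ({z} : Set G)).1 ∈ kq V z := by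
    rw [← hker, map_mul, map_mul]; exact hc.1
  have h3 := (mem_kq.mp hc3).2.1 w hw
  have e3 : ((c * c * c : centralizer ({z} : Set G)) : G) = (c : G) * c * c := rfl
  rw [e3] at h3
  have e4 : (c : G) * c * c * w * ((c : G) * c * c)⁻¹ * w⁻¹ =
      ((c : G) * ((c : G) * κ * (c : G)⁻¹) * (c : G)⁻¹) * ((c : G) * κ * (c : G)⁻¹) * κ := by
    calc (c : G) * c * c * w * ((c : G) * c * c)⁻¹ * w⁻¹ =
        (c : G) * ((c : G) * ((c : G) * w * (c : G)⁻¹) * (c : G)⁻¹) * (c : G)⁻¹ * w⁻¹ := by group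
      _ = (c : G) * ((c : G) * (κ * w) * (c : G)⁻¹) * (c : G)⁻¹ * w⁻¹ := by rw [hcwκ]
      _ = (c : G) * (((c : G) * κ * (c : G)⁻¹) * ((c : G) * w * (c : G)⁻¹)) * (c : G)⁻¹ * w⁻¹ := by group
      _ = (c : G) * (((c : G) * κ * (c : G)⁻¹) * (κ * w)) * (c : G)⁻¹ * w⁻¹ := by rw [hcwκ]
      _ = ((c : G) * ((c : G) * κ * (c : G)⁻¹) * (c : G)⁻¹) * ((c : G) * κ * (c : G)⁻¹) *
          ((c : G) * w * (c : G)⁻¹) * w⁻¹ := by group
      _ = ((c : G) * ((c : G) * κ * (c : G)⁻¹) * (c : G)⁻¹) * ((c : G) * κ * (c : G)⁻¹) * (κ * w) * w⁻¹ := by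
          rw [hcwκ]
      _ = _ := by group
  rw [e4, hκ2, hκ1] at h3
  have hκz : κ * κ ∈ zpowers z := by
    rcases hB.sq_cases hcw.1 with e | e
    · rw [e]; exact one_mem _
    · rw [e]; exact mem_zpowers z
  have hκmem : κ ∈ zpowers z := by
    have c1 : κ * e1 = e1 * κ := hzc hcw (hcomm_z he1).1
    have c2 : κ * e2 = e2 * κ := hzc hcw (hcomm_z he2).1
    have e5 : κ * e1 * e2 * (κ * e1) * κ = (e1 * e2 * e1) * (κ * κ) * κ := by
      calc κ * e1 * e2 * (κ * e1) * κ = (κ * e1) * e2 * (κ * e1) * κ := by group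
        _ = (e1 * κ) * e2 * (e1 * κ) * κ := by rw [c1]
        _ = e1 * (κ * e2) * e1 * κ * κ := by group
        _ = e1 * (e2 * κ) * e1 * κ * κ := by rw [c2]
        _ = e1 * e2 * (κ * e1) * κ * κ := by group
        _ = e1 * e2 * (e1 * κ) * κ * κ := by rw [c1]
        _ = _ := by group
    rw [e5] at h3
    have h4 : e1 * e2 * e1 * (κ * κ) ∈ zpowers z := mul_mem (mul_mem (mul_mem he1 he2) he1) hκz
    have h5 := mul_mem (inv_mem h4) h3
    rwa [inv_mul_cancel_left] at h5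
  rw [hzzc]
  refine ⟨hw, hfpf c hc.2 ?_ w hw hκmem⟩
  exact hc.1

/-- **The HS shape is impossible.** -/
theorem HS.false (h : HS T V z) : False := h.toHS.false

end Cfsg.Agent.OddCyclic.BTwoHS
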