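import Cfsg.Agent.OddCyclic.FFRed

/-!
# Best offenders in `SL₂(q)`, `q = 2^f ≥ 4`: the natural module

A best offender `A ≠ 1` in `SL₂(q)` on a nontrivial elementary abelian 2-group `V` is a Sylow 2-subgroup and
`V/C_V(SL₂(q))` is natural: `|V : C_V(L)| = q²`, `|V : C_V(A)| = q`, `C_V(a) = C_V(A)` for `a ∈ A`, `a ≠ 1`, every vector
is fixed by a Sylow 2-subgroup.
-/

set_option autoImplicit false
set_option linter.unusedSectionVars false

namespace Cfsg.Agent.OddCyclic.FFSl2

open Matrix Cfsg.Agent.OddCyclic.T1Sl2 Cfsg.Agent.OddCyclic.T1Module Cfsg.Agent.OddCyclic.FFBasic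
  Cfsg.Agent.OddCyclic.FFRed

section general

variable {X : Type*} [Group X] {V : Type*} [CommGroup V] {ρ : X →* MulAut V}

theorem eq_of_index_le {V : Type*} [Group V] [Finite V] {C D : Subgroup V} (h : C ≤ D) (hi : C.index ≤ D.index) :
    C = D := by
  have h1 := C.card_mul_index
  have h2 := D.card_mul_index
  have h3 : 0 < D.index := Nat.pos_of_ne_zero Subgroup.index_ne_zero_of_finite
  apply Subgroup.eq_of_le_of_card_ge h
  rw [← h1] at h2
  by_contra hcon
  push Not at hcon
  have h4 : Nat.card C * C.index < Nat.card D * D.index := Nat.mul_lt_mul_of_lt_of_le hcon hi h3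
  omega

theorem index_le_of_le {V : Type*} [Group V] [Finite V] {C D : Subgroup V} (h : C ≤ D) : D.index ≤ C.index := by
  have h1 : D.index ∣ C.index := Subgroup.index_dvd_of_le h
  exact Nat.le_of_dvd (Nat.pos_of_ne_zero Subgroup.index_ne_zero_of_finite) h1

theorem CS_le_fx {A : Subgroup X} {a : X} (ha : a ∈ A) : CS ρ A ≤ fx ρ a := fun _ hv => hv a ha

/-- the stabiliser of a vector -/
def stb (ρ : X →* MulAut V) (v : V) : Subgroup X where
  carrier := {x | ρ x v = v}
  mul_mem' := fun {a b} ha hb => by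
    show ρ (a * b) v = v
    rw [map_mul, MulAut.mul_apply, show ρ b v = v from hb, show ρ a v = v from ha]
  one_mem' := by show ρ 1 v = v; rw [map_one]; rfl
  inv_mem' := fun {a} ha => fx_inv (ρ := ρ) (v := v) ha

theorem mem_stb {v : V} {x : X} : x ∈ stb ρ v ↔ ρ x v = v := Iff.rfl

theorem mem_CS_iff {A : Subgroup X} {v : V} : v ∈ CS ρ A ↔ A ≤ stb ρ v := Iff.rfl

theorem CS_sup (A B : Subgroup X) : CS ρ (A ⊔ B) = CS ρ A ⊓ CS ρ B := by
  ext v
  rw [Subgroup.mem_inf, mem_CS_iff, mem_CS_iff, mem_CS_iff, sup_le_iff]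

end general

variable {F : Type*} [Field F] [Fintype F] [CharP F 2] {V : Type*} [CommGroup V] [Finite V]
  {ρ : SpecialLinearGroup (Fin 2) F →* MulAut V}

/-- `V/C_V(L)` is a natural module for `L = SL₂(q)` -/
structure IsNat (ρ : SpecialLinearGroup (Fin 2) F →* MulAut V) : Prop where
  top : (CS ρ ⊤).index = Fintype.card F ^ 2
  index : ∀ U : Sylow 2 (SpecialLinearGroup (Fin 2) F), (CS ρ (U : Subgroup _)).index = Fintype.card F
  fix : ∀ U : Sylow 2 (SpecialLinearGroup (Fin 2) F), ∀ a ∈ U, a ≠ 1 → fx ρ a = CS ρ (U : Subgroup _)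
  /-- every vector is fixed by a Sylow 2-subgroup -/
  cover : ∀ v : V, ∃ U : Sylow 2 (SpecialLinearGroup (Fin 2) F), v ∈ CS ρ (U : Subgroup _)

/-- `q + 1` Sylow 2-subgroups -/
noncomputable def syl (F : Type*) [Field F] [Fintype F] [CharP F 2] : Option F → Sylow 2 (SpecialLinearGroup (Fin 2) F)
  | none => SU F
  | some t => up t • ww F • SU F

theorem syl_injective : Function.Injective (syl F) := by
  have hw : ∀ t : F, (up t * ww F) 0 0 = t ∧ (up t * ww F) 1 0 = 1 := by
    intro t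
    constructor
    · rw [mul00]; simp [ww, up00, up01]
    · rw [mul10]; simp [ww, up10, up11]
  have h1 : ∀ t : F, up t • ww F • SU F ≠ SU F := by
    intro t h
    rw [smul_smul, smul_SU_eq, (hw t).2] at h
    exact one_ne_zero h
  rintro (_ | t) (_ | s) h
  · rfl
  · exact absurd h.symm (h1 s)
  · exact absurd h (h1 t)
  · change up t • ww F • SU F = up s • ww F • SU F at h
    rw [smul_smul, smul_smul, smul_SU_eq_iff, (hw t).1, (hw t).2, (hw s).1, (hw s).2] at h
    congr 1
    linear_combination h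

theorem isNat_of (h4 : 4 ≤ Fintype.card F) (hV : ∀ v : V, v * v = 1) (hρ : ∃ g v, ρ g v ≠ v)
    (U₀ : Sylow 2 (SpecialLinearGroup (Fin 2) F)) (hU₀ : (CS ρ (U₀ : Subgroup _)).index ≤ Fintype.card F) :
    IsNat ρ := by
  have hi : ∀ U : Sylow 2 (SpecialLinearGroup (Fin 2) F), (CS ρ (U : Subgroup _)).index = Fintype.card F := by
    intro U
    have h1 := card_CS_eq ρ U₀ U
    have h2 := (CS ρ (U₀ : Subgroup _)).card_mul_index
    have h3 := (CS ρ (U : Subgroup _)).card_mul_index
    rw [← h3, h1] at h2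
    have h5 : (CS ρ (U₀ : Subgroup _)).index = (CS ρ (U : Subgroup _)).index := Nat.eq_of_mul_eq_mul_left Nat.card_pos h2
    rw [h5] at hU₀
    apply le_antisymm hU₀
    obtain ⟨a, ha, ha1⟩ := exists_ne_one U
    exact (sl2_index h4 hV ρ hρ (sylow_elem U a ha) ha1).trans (index_le_of_le (CS_le_fx ha))
  have hf : ∀ U : Sylow 2 (SpecialLinearGroup (Fin 2) F), ∀ a ∈ U, a ≠ 1 → fx ρ a = CS ρ (U : Subgroup _) := by
    intro U a ha ha1
    refine (eq_of_index_le (CS_le_fx ha) ?_).symm
    rw [hi U]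
    exact sl2_index h4 hV ρ hρ (sylow_elem U a ha) ha1
  have htop : (CS ρ ⊤).index = Fintype.card F ^ 2 := by
    apply le_antisymm
    · obtain ⟨U', hU'⟩ := exists_ne_sylow U₀
      rw [← sylow_sup hU', CS_sup, sq]
      refine Subgroup.index_inf_le.trans ?_
      rw [hi, hi]
    · obtain ⟨a, ha, ha1⟩ := exists_ne_one U₀
      obtain ⟨y, -, -, hy⟩ := sl2_exists h4 hV ρ hρ (sylow_elem U₀ a ha) ha1
      exact hy.trans (index_le_of_le (CS_le_fx (Subgroup.mem_top y)))
  refine ⟨htop, hi, hf, ?_⟩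
  set C := CS ρ (⊤ : Subgroup (SpecialLinearGroup (Fin 2) F)) with hC
  set q := Fintype.card F with hq
  have hle : ∀ U : Sylow 2 (SpecialLinearGroup (Fin 2) F), C ≤ CS ρ (U : Subgroup _) := fun U => CS_anti le_top
  have hc : ∀ U : Sylow 2 (SpecialLinearGroup (Fin 2) F), Nat.card (CS ρ (U : Subgroup _)) = q * Nat.card C := by
    intro U
    have h1 := (CS ρ (U : Subgroup _)).card_mul_index
    have h2 := C.card_mul_index
    rw [hi U] at h1
    rw [htop] at h2
    have h3 : 0 < q := by omega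
    apply Nat.eq_of_mul_eq_mul_right h3
    rw [h1, ← h2]; ring
  let S := Σ t : Option F, {v : V // v ∈ CS ρ (syl F t : Subgroup _) ∧ v ∉ C}
  let Φ : S → {v : V // v ∉ C} := fun s => ⟨s.2.1, s.2.2.2⟩
  have hinj : Function.Injective Φ := by
    rintro ⟨t, v, hv, hv'⟩ ⟨s, w, hw, hw'⟩ h
    have h1 : v = w := congrArg Subtype.val h
    subst h1
    have h2 : t = s := by
      by_contra hne
      apply hv'
      have h3 : syl F t ≠ syl F s := fun h => hne (syl_injective h)
      rw [hC, ← sylow_sup h3, CS_sup]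
      exact ⟨hv, hw⟩
    subst h2
    rfl
  have hcardC : ∀ D : Subgroup V, C ≤ D → Nat.card {v : V // v ∈ D ∧ v ∉ C} + Nat.card C = Nat.card D := by
    intro D hD
    classical
    have h1 : Nat.card ({v : V // v ∈ D ∧ v ∉ C} ⊕ C) = Nat.card D := by
      apply Nat.card_congr
      refine Equiv.ofBijective (Sum.elim (fun v => ⟨v.1, v.2.1⟩) (fun v => ⟨v.1, hD v.2⟩)) ⟨?_, ?_⟩
      · rintro (⟨v, hv⟩ | ⟨v, hv⟩) (⟨w, hw⟩ | ⟨w, hw⟩) h
        · have : v = w := congrArg Subtype.val h
          subst this; rfl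
        · have : v = w := congrArg Subtype.val h
          subst this; exact absurd hw hv.2
        · have : v = w := congrArg Subtype.val h
          subst this; exact absurd hv hw.2
        · have : v = w := congrArg Subtype.val h
          subst this; rfl
      · rintro ⟨v, hv⟩
        by_cases h : v ∈ C
        · exact ⟨Sum.inr ⟨v, h⟩, rfl⟩
        · exact ⟨Sum.inl ⟨v, hv, h⟩, rfl⟩
    rw [← h1, Nat.card_sum]
  have hcS : Nat.card S = (q + 1) * (q * Nat.card C - Nat.card C) := by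
    rw [Nat.card_sigma]
    have h1 : ∀ t : Option F, Nat.card {v : V // v ∈ CS ρ (syl F t : Subgroup _) ∧ v ∉ C} =
        q * Nat.card C - Nat.card C := by
      intro t
      have := hcardC _ (hle (syl F t))
      rw [hc] at this
      omega
    rw [Finset.sum_congr rfl (fun t _ => h1 t), Finset.sum_const, Finset.card_univ, Fintype.card_option, smul_eq_mul]
  have hcT : Nat.card {v : V // v ∉ C} + Nat.card C = Nat.card V := by
    have := hcardC ⊤ le_top
    rw [Subgroup.card_top] at this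
    rw [← this]
    congr 1
    apply Nat.card_congr
    exact Equiv.subtypeEquivRight (fun v => by simp)
  have hcV : Nat.card V = Nat.card C * q ^ 2 := by rw [← htop, C.card_mul_index]
  have hcc : Nat.card {v : V // v ∉ C} ≤ Nat.card S := by
    rw [hcS]
    obtain ⟨r, hr⟩ : ∃ r, q = r + 1 := ⟨q - 1, by omega⟩
    rw [hr] at hcV ⊢
    have e1 : (r + 1) * Nat.card C - Nat.card C = r * Nat.card C := by
      rw [Nat.succ_mul]; omega
    rw [e1]
    nlinarith
  have hbij := hinj.bijective_of_nat_card_le hcc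
  intro v
  by_cases hv : v ∈ C
  · exact ⟨SU F, hle _ hv⟩
  · obtain ⟨s, hs⟩ := hbij.2 ⟨v, hv⟩
    refine ⟨syl F s.1, ?_⟩
    have h1 : s.2.1 = v := congrArg Subtype.val hs
    rw [← h1]
    exact s.2.2.1

/-- **best offenders in `SL₂(q)`** -/
theorem main (h4 : 4 ≤ Fintype.card F) (hV : ∀ v : V, v * v = 1) (hρ : ∃ g v, ρ g v ≠ v)
    {A : Subgroup (SpecialLinearGroup (Fin 2) F)} (hA : BO ρ A) (hA1 : A ≠ ⊥) :
    IsNat ρ ∧ ∃ U : Sylow 2 (SpecialLinearGroup (Fin 2) F), A = (U : Subgroup _) := by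
  have h2 : IsPGroup 2 A := fun a => ⟨1, by
    rw [pow_one, pow_two]; exact Subtype.ext (hA.sq a a.2)⟩
  obtain ⟨U, hU⟩ := h2.exists_le_sylow
  obtain ⟨⟨a, ha⟩, ha1'⟩ := Subgroup.ne_bot_iff_exists_ne_one.1 hA1
  have ha1 : a ≠ 1 := fun h => ha1' (Subtype.ext h)
  have h5 := sl2_index h4 hV ρ hρ (hA.sq a ha) ha1
  have h6 := index_le_of_le (CS_le_fx (ρ := ρ) ha)
  have h7 := hA.index_le
  have h8 : Nat.card A ≤ Fintype.card F := by
    rw [← card_sylow U]
    exact Nat.card_le_card_of_injective _ (Subgroup.inclusion_injective hU)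
  have h9 : A = U := by
    apply Subgroup.eq_of_le_of_card_ge hU
    show Nat.card U ≤ _
    rw [card_sylow U]
    omega
  subst h9
  exact ⟨isNat_of h4 hV hρ U (by omega), U, rfl⟩

end Cfsg.Agent.OddCyclic.FFSl2
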