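import Cfsg.Agent.OddCyclic.PumpMain

/-!
# `KZero` is invariant under isomorphisms

* `local_congr`, `kZero_congr`;
* `KS G`: every nonabelian simple section of a proper subgroup of `G` satisfies `KZero`;
* `KS.of_surj`: a nonabelian simple image of a proper subgroup satisfies `KZero`.
-/

set_option autoImplicit false

namespace Cfsg.Agent.OddCyclic.KZeroCongr

open Subgroup Cfsg.Agent.OddCyclic.PumpMain
open Cfsg.Agent.SporRec.J1.Defs (Local F)

universe u v

variable {K : Type u} {L : Type v} [Group K] [Group L]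

theorem map_centralizer (e : K ≃* L) (x : K) :
    (centralizer ({x} : Set K)).map e.toMonoidHom = centralizer ({e x} : Set L) := by
  ext y
  rw [mem_centralizer_singleton_iff]
  constructor
  · rintro ⟨k, hk, rfl⟩
    have h1 := mem_centralizer_singleton_iff.1 hk
    change e k * e x = e x * e k
    rw [← map_mul, ← map_mul, h1]
  · intro h
    refine ⟨e.symm y, ?_, e.apply_symm_apply y⟩
    refine mem_centralizer_singleton_iff.2 ?_
    apply e.injective
    rw [map_mul, map_mul, e.apply_symm_apply]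
    exact h

/-- the centralizers of `x` and `e x` are isomorphic -/
noncomputable def centEquiv (e : K ≃* L) (x : K) :
    centralizer ({x} : Set K) ≃* centralizer ({e x} : Set L) :=
  (e.subgroupMap (centralizer ({x} : Set K))).trans (MulEquiv.subgroupCongr (map_centralizer e x))

theorem map_F (e : K ≃* L) (x : K) : (F x).map e.toMonoidHom = F (e x) := by
  rw [F, F, Subgroup.map_commutator, map_centralizer]

theorem mem_F (e : K ≃* L) (x y : K) : e y ∈ F (e x) ↔ y ∈ F x := by
  rw [← map_F]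
  constructor
  · rintro ⟨k, hk, h⟩
    have : k = y := e.injective h
    rwa [this] at hk
  · intro h
    exact ⟨y, h, rfl⟩

theorem local_congr (e : K ≃* L) (h : Local K) : Local L where
  conj := by
    intro x y hx hy
    obtain ⟨g, hg⟩ := h.conj (e.symm x) (e.symm y) (by rw [MulEquiv.orderOf_eq]; exact hx)
      (by rw [MulEquiv.orderOf_eq]; exact hy)
    refine ⟨e g, e.symm.injective ?_⟩
    rw [map_mul, map_mul, map_inv, e.symm_apply_apply]
    exact hg
  cent := by
    intro x hx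
    obtain ⟨f⟩ := h.cent (e.symm x) (by rw [MulEquiv.orderOf_eq]; exact hx)
    exact ⟨(centEquiv e.symm x).trans f⟩
  two := by
    rw [← Nat.card_congr e.toEquiv]; exact h.two
  typeRule := by
    intro x y hx hy hxy hc
    have h1 := h.typeRule (e.symm x) (e.symm y) (by rw [MulEquiv.orderOf_eq]; exact hx)
      (by rw [MulEquiv.orderOf_eq]; exact hy) (fun e' => hxy (e.symm.injective e'))
      (by rw [← map_mul, ← map_mul, hc])
    rwa [mem_F e.symm, mem_F e.symm] at h1
  cent3 := by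
    intro x hx
    rw [Nat.card_congr (centEquiv e.symm x).toEquiv]
    exact h.cent3 _ (by rw [MulEquiv.orderOf_eq]; exact hx)
  cent5 := by
    intro x hx
    rw [Nat.card_congr (centEquiv e.symm x).toEquiv]
    exact h.cent5 _ (by rw [MulEquiv.orderOf_eq]; exact hx)

theorem kZero_congr (e : K ≃* L) (h : KZero K) : KZero L := by
  rcases h with ⟨F, i1, i2, h1, h2, ⟨f⟩⟩ | ⟨F, i1, i2, n, h1, h2, ⟨f⟩⟩ | ⟨F, i1, i2, m, h1, h2, ⟨f⟩⟩ | ⟨hl, g, hg⟩
  · exact Or.inl ⟨F, i1, i2, h1, h2, ⟨e.symm.trans f⟩⟩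
  · exact Or.inr (Or.inl ⟨F, i1, i2, n, h1, h2, ⟨e.symm.trans f⟩⟩)
  · exact Or.inr (Or.inr (Or.inl ⟨F, i1, i2, m, h1, h2, ⟨e.symm.trans f⟩⟩))
  · exact Or.inr (Or.inr (Or.inr ⟨local_congr e hl, e g, by rw [MulEquiv.orderOf_eq]; exact hg⟩))

/-- every nonabelian simple section of a proper subgroup satisfies `KZero` -/
def KS (G : Type u) [Group G] : Prop :=
  ∀ (A : Subgroup G), A ≠ ⊤ → ∀ (N : Subgroup A) [N.Normal], IsSimpleGroup (A ⧸ N) →
    (∃ a b : A ⧸ N, a * b ≠ b * a) → KZero (A ⧸ N)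

theorem KS.of_surj {G : Type u} [Group G] (hK : KS G) {A : Subgroup G} (hA : A ≠ ⊤) {K : Type v} [Group K]
    (hs : IsSimpleGroup K) (hn : ∃ a b : K, a * b ≠ b * a) (φ : A →* K) (hφ : Function.Surjective φ) : KZero K := by
  have e : A ⧸ φ.ker ≃* K := QuotientGroup.quotientKerEquivOfSurjective φ hφ
  refine kZero_congr e (hK A hA φ.ker ?_ ?_)
  · exact MulEquiv.isSimpleGroup e
  · obtain ⟨a, b, hab⟩ := hn
    refine ⟨e.symm a, e.symm b, fun h => hab ?_⟩
    apply e.symm.injective
    rw [map_mul, map_mul, h]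

/-- quasisimple subgroups of an image of a proper subgroup -/
theorem KS.comps {G : Type u} [Group G] (hK : KS G) {A : Subgroup G} (hA : A ≠ ⊤) {X : Type v} [Group X]
    (π : A →* X) (hπ : Function.Surjective π) {J : Subgroup X} (hJ : IsQuasisimple J) :
    KZero (J ⧸ center J) := by
  have hs : IsSimpleGroup (J ⧸ center J) := hJ.2
  -- the preimage of `J` in `G`
  let B : Subgroup G := (J.comap π).map A.subtype
  have hBA : B ≤ A := by
    rintro _ ⟨b, -, rfl⟩
    exact b.2
  have hB : B ≠ ⊤ := fun h => hA (top_le_iff.1 (h ▸ hBA))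
  have hBJ : ∀ b : B, π ⟨b, hBA b.2⟩ ∈ J := by
    rintro ⟨_, a, ha, rfl⟩
    exact ha
  let ψ : B →* J :=
    { toFun := fun b => ⟨π ⟨b, hBA b.2⟩, hBJ b⟩
      map_one' := by
        apply Subtype.ext
        exact map_one π
      map_mul' := fun a b => by
        apply Subtype.ext
        exact map_mul π ⟨a, hBA a.2⟩ ⟨b, hBA b.2⟩ }
  have hψ : Function.Surjective ψ := by
    rintro ⟨j, hj⟩
    obtain ⟨a, rfl⟩ := hπ j
    exact ⟨⟨a, a, hj, rfl⟩, rfl⟩
  refine hK.of_surj hB hs ?_ ((QuotientGroup.mk' (center J)).comp ψ)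
    ((QuotientGroup.mk'_surjective _).comp hψ)
  -- nonabelian
  by_contra hcon
  push Not at hcon
  have hab : ∀ a b : J, a * b * a⁻¹ * b⁻¹ ∈ center J := by
    intro a b
    have h1 := hcon a b
    rw [← QuotientGroup.mk_mul, ← QuotientGroup.mk_mul, QuotientGroup.eq] at h1
    have h2 : (center J).Normal := inferInstance
    have h3 := h2.conj_mem _ (inv_mem h1) (a * b)
    have e : a * b * ((a * b)⁻¹ * (b * a))⁻¹ * (a * b)⁻¹ = a * b * a⁻¹ * b⁻¹ := by group
    rwa [e] at h3
  have h4 : ⁅(⊤ : Subgroup J), ⊤⁆ ≤ center J := by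
    rw [commutator_le]
    intro a _ b _
    exact hab a b
  have h5 : ⁅(⊤ : Subgroup J), ⊤⁆ = ⊤ := hJ.1.commutator_eq_top
  rw [h5] at h4
  have h6 : ∀ x : J ⧸ center J, x = 1 := by
    intro x
    obtain ⟨a, rfl⟩ := QuotientGroup.mk_surjective x
    exact (QuotientGroup.eq_one_iff a).2 (h4 (mem_top a))
  obtain ⟨x, hx⟩ := exists_ne (1 : J ⧸ center J)
  exact hx (h6 x)

end Cfsg.Agent.OddCyclic.KZeroCongr
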