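import Cfsg.Agent.OddCyclic.CompPsl
import Cfsg.Agent.OddCyclic.CompJOneTools

/-!
# S0342, component type, case B: `K ≅ PSL₂(p)`; (4.2)

* `isCyclic_A`, `isCyclic_A'` : `A`, `A'` are cyclic (`p ≥ 7`);
* `isCyclic_of_inner` : if an involution of `C(K)^g ∩ N(K)` is inner on `K`, then the Sylow 2-subgroups
  of `C(K)` are cyclic;
* `card_two_of_cyclic` : if `R ∈ Syl₂(C(K))` is cyclic and its involution is moved by some element of
  `N(S)`, then `|R| = 2`.
-/

set_option autoImplicit false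

namespace Cfsg.Agent.OddCyclic.CompPsl

open Subgroup Cfsg Cfsg.Agent.LieExceptional
open Cfsg.Agent.OddCyclic.T1Defs Cfsg.Agent.OddCyclic.CompBasic
open Cfsg.Agent.OddCyclic.CompStandard
open Cfsg.Agent.LieExceptional.CITDefs
open Cfsg.Agent.LieExceptional.CITBasic
open Cfsg.Agent.OddCyclic.PGLTorus

variable {G : Type*} [Group G] [Finite G] {K : Subgroup G}
variable {F : Type*} [Field F] [Finite F]

omit [Finite G] in
/-- the data for a conjugate -/
noncomputable def Data.conj (D : Data K F) (g : G) : Data (cj g K) F where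
  e := (K.equivMapOfInjective _ (MulAut.conj g).injective).symm.trans D.e
  prime := D.prime
  five := D.five

/-- (4.1) `A` is cyclic. -/
theorem isCyclic_A {p₀ : ℕ} (h : Std p₀ K) (D : Data K F) (hq7 : 7 ≤ Nat.card F) {g : G}
    (hg : g ∉ normalizer (K : Set G)) {A : Subgroup G} (hA2 : IsPGroup 2 A)
    (hAY : A ≤ cj g (centralizer (K : Set G))) (hAM : A ≤ normalizer (K : Set G)) : IsCyclic A := by
  by_cases hA1 : A = ⊥
  · rw [hA1]; infer_instance
  obtain ⟨γ, hγ, hT⟩ := exists_gl h D hq7 hg hA2 hAY hAM hA1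
  have hc := isCyclic_Tor D.R hγ
  let f : A →* Tor D.R γ :=
    { toFun := fun a => ⟨ac K (hAM a.2), hT a a.2⟩
      map_one' := Subtype.ext ((ac_eq_one _).2 (one_mem _))
      map_mul' := fun a b => Subtype.ext (ac_mul _ _) }
  refine isCyclic_of_injective f ?_
  rw [injective_iff_map_eq_one]
  intro a ha
  have h1 : ac K (hAM a.2) = 1 := congrArg Subtype.val ha
  rw [ac_eq_one] at h1
  have h2 : (a : G) ∈ A ⊓ centralizer (K : Set G) := ⟨a.2, h1⟩
  rw [h.inf_eq_bot hg hA2 hAY, mem_bot] at h2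
  exact Subtype.ext h2

theorem inv_notMem_normalizer_cj {g : G} (hg : g ∉ normalizer (K : Set G)) :
    g⁻¹ ∉ normalizer (cj g K : Set G) := by
  intro h
  rw [← cj_eq_iff, ← cj_mul, inv_mul_cancel, cj_one] at h
  exact hg (cj_eq_iff.1 h.symm)

/-- (4.1) `A'` is cyclic. -/
theorem isCyclic_A' {p₀ : ℕ} (h : Std p₀ K) (D : Data K F) (hq7 : 7 ≤ Nat.card F) {g : G}
    (hg : g ∉ normalizer (K : Set G)) {A : Subgroup G} (hA2 : IsPGroup 2 A)
    (hAY : A ≤ centralizer (K : Set G)) (hAM : A ≤ cj g (normalizer (K : Set G))) : IsCyclic A := by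
  refine isCyclic_A (h.conj g) (D.conj g) hq7 (g := g⁻¹) (inv_notMem_normalizer_cj hg) hA2 ?_ ?_
  · rw [← cj_centralizer, cj_inv_cj]; exact hAY
  · rw [← cj_normalizer]; exact hAM

omit [Finite G] in
/-- A 2-element of `C(K)` normalizing the Sylow 2-subgroup `R` of `C(K)` lies in `R`. -/
theorem mem_of_normalizes {Y R : Subgroup G} (hR : IsSyl2 Y R) {y : G} (hy : y ∈ Y)
    (hy2 : ∃ n : ℕ, orderOf y = 2 ^ n) (hyR : y ∈ normalizer (R : Set G)) : y ∈ R := by
  obtain ⟨n, hn⟩ := hy2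
  have hz : IsPGroup 2 (zpowers y) := IsPGroup.of_card (n := n) (by rw [Nat.card_zpowers, hn])
  have h1 : IsPGroup 2 (R ⊔ zpowers y : Subgroup G) := by
    refine IsPGroup.to_sup_of_normal_left' hR.two hz ?_
    rwa [zpowers_le]
  have h2 := hR.max _ (sup_le hR.le (zpowers_le.2 hy)) h1 le_sup_left
  rw [← h2]
  exact mem_sup_right (mem_zpowers y)

omit [Finite G] in
theorem inf_centralizer_eq_bot (D : Data K F) {x : G} (hx : x ∈ K)
    (hxK : x ∈ centralizer (K : Set G)) : x = 1 := by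
  have h1 : (⟨x, hx⟩ : K) ∈ center K := by
    rw [Subgroup.mem_center_iff]
    intro y
    exact Subtype.ext (mem_centralizer_iff.1 hxK y y.2)
  rw [D.R.center_eq_bot, mem_bot] at h1
  exact congrArg Subtype.val h1

omit [Finite G] in
/-- the decomposition of an involution acting as an inner automorphism -/
theorem exists_decomp (D : Data K F) {a : G} (haM : a ∈ normalizer (K : Set G)) (ha2 : a * a = 1)
    (hi : ac K haM ∈ (MulAut.conj : K →* MulAut K).range) :
    ∃ k ∈ K, ∃ y ∈ centralizer (K : Set G), a = k * y ∧ k * k = 1 ∧ y * y = 1 := by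
  obtain ⟨k, hk, hky⟩ := (ac_inn haM).1 hi
  refine ⟨k, hk, k⁻¹ * a, hky, by group, ?_⟩
  set y := k⁻¹ * a with hy
  have hcomm : k * y = y * k := mem_centralizer_iff.1 hky k hk
  have hay : a = k * y := by rw [hy]; group
  have h1 : (k * k) * (y * y) = 1 := by
    calc (k * k) * (y * y) = k * (k * y) * y := by group
      _ = k * (y * k) * y := by rw [hcomm]
      _ = (k * y) * (k * y) := by group
      _ = 1 := by rw [← hay, ha2]
  have h2 : k * k = (y * y)⁻¹ := eq_inv_of_mul_eq_one_left h1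
  have h3 : k * k = 1 := by
    refine inf_centralizer_eq_bot D (mul_mem hk hk) ?_
    rw [h2]
    exact inv_mem (mul_mem hky hky)
  refine ⟨h3, ?_⟩
  rw [h3, one_mul] at h1
  exact h1

omit [Finite G] in
theorem exists_pow_of_sq {y : G} (hy : y * y = 1) : ∃ n : ℕ, orderOf y = 2 ^ n := by
  by_cases h1 : y = 1
  · exact ⟨0, by rw [h1, orderOf_one, pow_zero]⟩
  · exact ⟨1, by rw [orderOf_eq_two h1 hy, pow_one]⟩

omit [Finite G] in
/-- in a cyclic group of 2-power order the involution is unique -/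
theorem eq_of_cyclic [Finite G] {A : Subgroup G} (hA : IsCyclic A) {x y : G} (hx : x ∈ A)
    (hy : y ∈ A) (hx2 : orderOf x = 2) (hy2 : orderOf y = 2) : x = y := by
  have h1 : zpowers (⟨x, hx⟩ : A) = zpowers (⟨y, hy⟩ : A) :=
    zpowers_eq_of_cyclic (by rw [Subgroup.orderOf_mk, Subgroup.orderOf_mk, hx2, hy2])
  have h2 : (⟨x, hx⟩ : A) ∈ zpowers (⟨y, hy⟩ : A) := by rw [← h1]; exact mem_zpowers _
  obtain ⟨n, hn⟩ := h2
  have h3 : y ^ n = x := congrArg Subtype.val hn
  have hyy : y * y = 1 := mul_self_of_orderOf hy2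
  rcases Int.even_or_odd n with ⟨k, hk⟩ | ⟨k, hk⟩
  · exfalso
    rw [hk, zpow_add, ← (Commute.refl y).mul_zpow, hyy, one_zpow] at h3
    exact ne_one_of_orderOf hx2 h3.symm
  · rw [hk, zpow_add, zpow_mul, zpow_ofNat, pow_two, hyy, one_zpow, one_mul, zpow_one] at h3
    exact h3.symm

/-- (4.2a) -/
theorem isCyclic_of_inner {p₀ : ℕ} (h : Std p₀ K) (D : Data K F) (hq7 : 7 ≤ Nat.card F) {g : G}
    (hg : g ∉ normalizer (K : Set G)) {a : G} (haY : a ∈ cj g (centralizer (K : Set G)))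
    (haM : a ∈ normalizer (K : Set G)) (ha2 : orderOf a = 2)
    (hi : ac K haM ∈ (MulAut.conj : K →* MulAut K).range) {R : Subgroup G}
    (hR : IsSyl2 (centralizer (K : Set G)) R) : IsCyclic R := by
  have hpf : Fact (Nat.Prime 2) := ⟨Nat.prime_two⟩
  obtain ⟨S, P, hP, haP⟩ := exists_pairAt K g (isPGroup_zpowers ha2)
    (zpowers_le.mpr ⟨haM, cj_centralizer_le_normalizer g K haY⟩)
  have haP' : a ∈ P := haP (mem_zpowers a)
  have haS : a ∈ S := hP.le haP'
  set R₀ := S ⊓ centralizer (K : Set G) with hR₀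
  have hR₀s : IsSyl2 (centralizer (K : Set G)) R₀ := hP.sylR
  -- it is enough to treat `R₀`
  suffices hc : IsCyclic R₀ by
    obtain ⟨m, -, hm⟩ := CITBasic.IsSyl2.conj hR₀s hR
    rw [hm]
    exact isCyclic_of_surjective
      (R₀.equivMapOfInjective (MulAut.conj m).toMonoidHom (MulAut.conj m).injective).toMonoidHom
      (R₀.equivMapOfInjective _ (MulAut.conj m).injective).surjective
  -- `A'` is cyclic
  have hA'c : IsCyclic (P ⊓ centralizer (K : Set G) : Subgroup G) :=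
    isCyclic_A' h D hq7 hg hP.sylA'.two inf_le_right (inf_le_left.trans (hP.sylD.le.trans inf_le_right))
  obtain ⟨k, hk, y, hy, hay, hk2, hy2⟩ := exists_decomp D haM (mul_self_of_orderOf ha2) hi
  have hkr : ∀ r ∈ centralizer (K : Set G), k * r = r * k := fun r hr => mem_centralizer_iff.1 hr k hk
  -- `a` and `y` act equally on `R₀`
  have hact : ∀ r ∈ centralizer (K : Set G), a * r * a⁻¹ = y * r * y⁻¹ := by
    intro r hr
    have h1 : y * r * y⁻¹ ∈ centralizer (K : Set G) := mul_mem (mul_mem hy hr) (inv_mem hy)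
    calc a * r * a⁻¹ = k * (y * r * y⁻¹) * k⁻¹ := by rw [hay]; group
      _ = y * r * y⁻¹ := by rw [hkr _ h1, mul_inv_cancel_right]
  have hyR : y ∈ R₀ := by
    refine mem_of_normalizes hR₀s hy (exists_pow_of_sq hy2) (mem_normalizer_of_forall ?_)
    intro r hr
    rw [← hact r hr.2]
    refine Subgroup.mem_inf.mpr ⟨mul_mem (mul_mem haS hr.1) (inv_mem haS), ?_⟩
    exact normal_cent K a haM r hr.2
  have hiff : ∀ r ∈ R₀, y * r = r * y ↔ r ∈ P := by
    intro r hr
    rw [← hP.mem_iff h hg ⟨haP', haY⟩ ha2 hr.1 hr.2]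
    have h1 := hact r hr.2
    constructor
    · intro h2
      have h3 : a * r * a⁻¹ = r := by rw [h1, h2, mul_inv_cancel_right]
      exact mul_inv_eq_iff_eq_mul.1 h3
    · intro h2
      have h3 : y * r * y⁻¹ = r := by rw [← h1, h2, mul_inv_cancel_right]
      exact mul_inv_eq_iff_eq_mul.1 h3
  suffices hle : R₀ ≤ P ⊓ centralizer (K : Set G) by
    exact isCyclic_of_injective (Subgroup.inclusion hle) (Subgroup.inclusion_injective hle)
  by_cases hy1 : y = 1
  · intro r hr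
    refine ⟨(hiff r hr).1 ?_, hr.2⟩
    rw [hy1, one_mul, mul_one]
  · have hyo : orderOf y = 2 := orderOf_eq_two hy1 hy2
    have hyP : y ∈ P := (hiff y hyR).1 rfl
    -- a central involution of `R₀`
    have hR1 : Nontrivial R₀ := ⟨⟨⟨y, hyR⟩, 1, fun h' => hy1 (congrArg Subtype.val h')⟩⟩
    obtain ⟨z, hzR, hz2, hzc⟩ : ∃ z ∈ R₀, orderOf z = 2 ∧ ∀ w ∈ R₀, z * w = w * z := by
      have h1 := hR₀s.two.bot_lt_center
      have h2 : Nontrivial (center R₀) := (Subgroup.nontrivial_iff_ne_bot _).mpr h1.ne'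
      have h3 : IsPGroup 2 (center R₀) := hR₀s.two.to_subgroup _
      obtain ⟨n, hn0, hn⟩ := h3.nontrivial_iff_card.mp h2
      obtain ⟨⟨⟨z, hzR⟩, hzc⟩, hz2⟩ := exists_prime_orderOf_dvd_card' (G := center R₀) 2
        (by rw [hn]; exact dvd_pow_self 2 (Nat.pos_iff_ne_zero.mp hn0))
      rw [Subgroup.orderOf_mk, Subgroup.orderOf_mk] at hz2
      refine ⟨z, hzR, hz2, fun y hy => ?_⟩
      exact (congrArg Subtype.val (mem_center_iff.mp hzc ⟨y, hy⟩)).symm
    have hzP : z ∈ P := (hiff z hzR).1 (hzc y hyR).symm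
    have hzy : z = y := eq_of_cyclic hA'c ⟨hzP, hzR.2⟩ ⟨hyP, hy⟩ hz2 hyo
    intro r hr
    refine ⟨(hiff r hr).1 ?_, hr.2⟩
    rw [← hzy]; exact hzc r hr

/-! ### (4.2b) -/

omit [Finite G] in
/-- the fixed 2-groups of an outer involution have order at most two -/
theorem card_fix_le_two (D : Data K F) {γ : GL (Fin 2) F} (hγ : γ.1.trace = 0)
    (hni : D.R.gl γ ∉ (MulAut.conj : K →* MulAut K).range) {Q : Subgroup K} [Finite K]
    (hQ2 : IsPGroup 2 Q) (hQ : ∀ y ∈ Q, D.R.gl γ y = y) : Nat.card Q ≤ 2 := by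
  have hodd : Odd (Nat.card (Cp D.R γ)) := by
    have h1 := card_Cp_not_inn D.R hγ hni
    rw [Nat.odd_iff]
    have := mu_mod _ D.odd
    omega
  have hbot : Q ⊓ Cp D.R γ = ⊥ := by
    rw [← Subgroup.card_eq_one]
    obtain ⟨n, hn⟩ := IsPGroup.iff_card.mp (hQ2.to_le (inf_le_left : Q ⊓ Cp D.R γ ≤ Q))
    have h3 : Odd (Nat.card (Q ⊓ Cp D.R γ : Subgroup K)) :=
      Odd.of_dvd_nat hodd (Subgroup.card_dvd_of_le inf_le_right)
    rw [hn] at h3 ⊢
    rcases Nat.eq_zero_or_pos n with h4 | h4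
    · rw [h4, pow_zero]
    · exact absurd (Nat.even_pow.mpr ⟨even_two, h4.ne'⟩) (Nat.not_even_iff_odd.mpr h3)
  have key : ∀ x ∈ Q, ∀ y ∈ Q, x ≠ 1 → y ≠ 1 → x * y = 1 := by
    intro x hx y hy hx1 hy1
    have hxC : x ∉ Cp D.R γ := fun h' => hx1 (by
      have : x ∈ Q ⊓ Cp D.R γ := ⟨hx, h'⟩
      rwa [hbot, mem_bot] at this)
    have hyC : y ∉ Cp D.R γ := fun h' => hy1 (by
      have : y ∈ Q ⊓ Cp D.R γ := ⟨hy, h'⟩
      rwa [hbot, mem_bot] at this)
    have h1 := mul_mem_Cp D.R (hQ x hx) (hQ y hy) hxC hyC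
    have : x * y ∈ Q ⊓ Cp D.R γ := ⟨mul_mem hx hy, h1⟩
    rwa [hbot, mem_bot] at this
  by_cases h1 : ∃ x ∈ Q, x ≠ 1
  · obtain ⟨x, hx, hx1⟩ := h1
    have hsub : (Q : Set K) ⊆ {1, x} := by
      intro y hy
      by_cases hy1 : y = 1
      · exact Or.inl hy1
      · right
        have h2 := key x hx y hy hx1 hy1
        have h3 := key x hx x hx hx1 hx1
        exact mul_left_cancel (h2.trans h3.symm)
    calc Nat.card Q = (Q : Set K).ncard := rfl
      _ ≤ ({1, x} : Set K).ncard := Set.ncard_le_ncard hsub (Set.toFinite _)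
      _ ≤ ({x} : Set K).ncard + 1 := Set.ncard_insert_le _ _
      _ = 2 := by rw [Set.ncard_singleton]
  · push Not at h1
    have : Q = ⊥ := by
      rw [eq_bot_iff]
      intro y hy
      exact h1 y hy
    rw [this, Subgroup.card_bot]
    omega

omit [Finite G] in
theorem index_inn_le_two (D : Data K F) [Finite K] (B : Subgroup (MulAut K)) :
    (((MulAut.conj : K →* MulAut K).range).subgroupOf B).index ≤ 2 := by
  set I := (MulAut.conj : K →* MulAut K).range with hI
  by_cases hB : B ≤ I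
  · have h1 : I.subgroupOf B = ⊤ := Subgroup.subgroupOf_eq_top.2 hB
    rw [h1, Subgroup.index_top]
    omega
  · obtain ⟨b, hb, hbI⟩ := SetLike.not_le_iff_exists.1 hB
    have h1 : (I.subgroupOf B).index = 2 := by
      rw [Subgroup.index_eq_two_iff]
      refine ⟨⟨b, hb⟩, fun c => ?_⟩
      by_cases hc : c.1 ∈ I
      · right
        refine ⟨hc, fun h3 => hbI ?_⟩
        have h4 : c.1 * b ∈ I := h3
        exact (Subgroup.mul_mem_cancel_left I hc).1 h4
      · left
        exact ⟨mul_mem_inn D.R (D.mem_PGL _) (D.mem_PGL _) hc hbI, hc⟩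
    omega

/-- A 2-group acting on `K` and commuting with an outer involution induces a group of order at most
4. -/
theorem card_le_of_outer (D : Data K F) {e : G} (heM : e ∈ normalizer (K : Set G))
    (hni : ac K heM ∉ (MulAut.conj : K →* MulAut K).range) (he2 : ac K heM * ac K heM = 1)
    {Q : Subgroup G} (hQ2 : IsPGroup 2 Q) (hQM : Q ≤ normalizer (K : Set G))
    (hQe : ∀ x ∈ Q, x * e = e * x) :
    Nat.card Q ≤ 4 * Nat.card (Q ⊓ centralizer (K : Set G) : Subgroup G) := by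
  have he1 : ac K heM ≠ 1 := fun h1 => hni (by rw [h1]; exact one_mem _)
  obtain ⟨γ, hγ, hγe⟩ := D.exists_gl_of_sq he1 he2
  rw [← hγe] at hni
  let f : Q →* MulAut K := K.normalizerMonoidHom.comp (Subgroup.inclusion hQM)
  have hf : ∀ x : Q, f x = ac K (hQM x.2) := fun x => rfl
  have hker : Nat.card f.ker = Nat.card (Q ⊓ centralizer (K : Set G) : Subgroup G) := by
    have h1 : f.ker = (centralizer (K : Set G)).subgroupOf Q := by
      ext x
      rw [MonoidHom.mem_ker, hf, ac_eq_one, mem_subgroupOf]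
    rw [h1, ← Subgroup.card_map_of_injective Q.subtype_injective, Subgroup.subgroupOf_map_subtype,
      inf_comm]
  have hcard : Nat.card Q = Nat.card f.ker * Nat.card f.range := by
    rw [← Subgroup.card_mul_index f.ker, Subgroup.index_ker]
  have hrange : Nat.card f.range ≤ 4 := by
    have hB2 : IsPGroup 2 f.range := hQ2.of_surjective f.rangeRestrict f.rangeRestrict_surjective
    set I := (MulAut.conj : K →* MulAut K).range with hI
    have h1 := index_inn_le_two D f.range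
    have h2 : Nat.card (I.subgroupOf f.range) ≤ 2 := by
      have h3 : Nat.card (I.subgroupOf f.range) = Nat.card (f.range.comap MulAut.conj : Subgroup K) := by
        symm
        refine Nat.card_congr (Equiv.ofBijective
          (fun y : (f.range.comap MulAut.conj : Subgroup K) =>
            (⟨⟨MulAut.conj y.1, y.2⟩, ⟨y.1, rfl⟩⟩ : I.subgroupOf f.range)) ⟨?_, ?_⟩)
        · intro x y h
          apply Subtype.ext
          apply D.R.conj_injective
          exact congrArg (fun z => z.1.1) h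
        · rintro ⟨⟨β, hβ⟩, ⟨y, hy⟩⟩
          have hy' : MulAut.conj y = β := hy
          exact ⟨⟨y, by rw [Subgroup.mem_comap, hy']; exact hβ⟩, Subtype.ext (Subtype.ext hy')⟩
      rw [h3]
      refine card_fix_le_two D hγ hni (hB2.comap_of_injective _ D.R.conj_injective) ?_
      rintro y ⟨x, hx⟩
      rw [fix_iff D.R]
      rw [← hx, hγe, hf, ← ac_mul, ← ac_mul]
      exact ac_congr (hQe x x.2).symm _ _
    have h3 := Subgroup.card_mul_index (I.subgroupOf f.range)
    rw [← h3]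
    calc _ ≤ 2 * 2 := Nat.mul_le_mul h2 h1
      _ = 4 := rfl
  rw [hcard, hker, mul_comm]
  exact Nat.mul_le_mul hrange le_rfl

omit [Finite G] in
theorem four_le_card {L : Type*} [Group L] {a b : L} (h : Cfsg.Agent.GH.L2Aut.Four a b)
    {H : Subgroup L} [Finite H] (ha : a ∈ H) (hb : b ∈ H) : 4 ≤ Nat.card H := by
  classical
  have hab : a * b ≠ 1 := by
    intro h1
    apply h.ne
    have h2 : a * (a * b) = a := by rw [h1, mul_one]
    rw [← mul_assoc, h.aa, one_mul] at h2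
    exact h2.symm
  have ha' : a ≠ a * b := by
    intro h1
    apply h.b1
    have h2 : a * b = a * 1 := by rw [mul_one]; exact h1.symm
    exact mul_left_cancel h2
  have hb' : b ≠ a * b := by
    intro h1
    apply h.a1
    have h2 : a * b = 1 * b := by rw [one_mul]; exact h1.symm
    exact mul_right_cancel h2
  have h1 : ({1, a, b, a * b} : Finset L).card = 4 := by
    rw [Finset.card_insert_of_notMem, Finset.card_insert_of_notMem, Finset.card_insert_of_notMem,
      Finset.card_singleton]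
    · simp only [Finset.mem_singleton]; exact hb'
    · simp only [Finset.mem_insert, Finset.mem_singleton, not_or]; exact ⟨h.ne, ha'⟩
    · simp only [Finset.mem_insert, Finset.mem_singleton, not_or]
      exact ⟨fun h' => h.a1 h'.symm, fun h' => h.b1 h'.symm, fun h' => hab h'.symm⟩
  have h2 : (({1, a, b, a * b} : Finset L) : Set L) ⊆ (H : Set L) := by
    intro x hx
    simp only [Finset.coe_insert, Finset.coe_singleton, Set.mem_insert_iff,
      Set.mem_singleton_iff] at hx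
    rcases hx with rfl | rfl | rfl | rfl
    · exact one_mem H
    · exact ha
    · exact hb
    · exact mul_mem ha hb
  have hfin : (H : Set L).Finite := Set.toFinite _
  calc 4 = (({1, a, b, a * b} : Finset L) : Set L).ncard := by rw [Set.ncard_coe_finset, h1]
    _ ≤ (H : Set L).ncard := Set.ncard_le_ncard h2 hfin
    _ = Nat.card H := rfl

/-- involutions of `S` acting as inner automorphisms commute with `S ∩ C(K)`, if this group is
cyclic. -/
theorem comm_of_inner_cyclic (D : Data K F) {S : Subgroup G}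
    (hS : IsSyl2 (normalizer (K : Set G)) S)
    (hc : IsCyclic (S ⊓ centralizer (K : Set G) : Subgroup G)) {e : G} (heS : e ∈ S)
    (he2 : e * e = 1) (hi : ac K (hS.le heS) ∈ (MulAut.conj : K →* MulAut K).range) :
    ∀ r ∈ S ⊓ centralizer (K : Set G), r * e = e * r := by
  have hR : IsSyl2 (centralizer (K : Set G)) (S ⊓ centralizer (K : Set G)) :=
    isSyl2_inf hS (centralizer_le_normalizer _) (normal_cent K)
  obtain ⟨k, hk, y, hy, hay, hk2, hy2⟩ := exists_decomp D (hS.le heS) he2 hi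
  have hkr : ∀ r ∈ centralizer (K : Set G), k * r = r * k := fun r hr => mem_centralizer_iff.1 hr k hk
  have hact : ∀ r ∈ centralizer (K : Set G), e * r * e⁻¹ = y * r * y⁻¹ := by
    intro r hr
    have h1 : y * r * y⁻¹ ∈ centralizer (K : Set G) := mul_mem (mul_mem hy hr) (inv_mem hy)
    calc e * r * e⁻¹ = k * (y * r * y⁻¹) * k⁻¹ := by rw [hay]; group
      _ = y * r * y⁻¹ := by rw [hkr _ h1, mul_inv_cancel_right]
  have hyR : y ∈ S ⊓ centralizer (K : Set G) := by
    refine mem_of_normalizes hR hy (exists_pow_of_sq hy2) (mem_normalizer_of_forall ?_)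
    intro r hr
    rw [← hact r hr.2]
    refine Subgroup.mem_inf.mpr ⟨mul_mem (mul_mem heS hr.1) (inv_mem heS), ?_⟩
    exact normal_cent K e (hS.le heS) r hr.2
  intro r hr
  have hcomm : y * r = r * y := by
    obtain ⟨g, hg⟩ := hc.exists_generator
    obtain ⟨m, hm⟩ := Subgroup.mem_zpowers_iff.mp (hg ⟨y, hyR⟩)
    obtain ⟨n, hn⟩ := Subgroup.mem_zpowers_iff.mp (hg ⟨r, hr⟩)
    have h1 : (⟨y, hyR⟩ : (S ⊓ centralizer (K : Set G) : Subgroup G)) * ⟨r, hr⟩ =
        ⟨r, hr⟩ * ⟨y, hyR⟩ := by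
      rw [← hm, ← hn, ← zpow_add, ← zpow_add, add_comm]
    exact congrArg Subtype.val h1
  have h1 := hact r hr.2
  rw [hcomm, mul_inv_cancel_right] at h1
  exact (mul_inv_eq_iff_eq_mul.1 h1).symm

/-- a four-group in `S ∩ K` -/
theorem exists_four (D : Data K F) {S : Subgroup G} (hS : IsSyl2 (normalizer (K : Set G)) S) :
    ∃ v₁ v₂ : K, (v₁ : G) ∈ S ∧ (v₂ : G) ∈ S ∧ Cfsg.Agent.GH.L2Aut.Four v₁ v₂ := by
  have hpf : Fact (Nat.Prime 2) := ⟨Nat.prime_two⟩
  have hSK : IsSyl2 K (S ⊓ K) := isSyl2_inf hS Subgroup.le_normalizer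
    (fun d hd w hw => forall_of_mem_normalizer hd w hw)
  -- an involution of `K`
  have h2K : 2 ∣ Nat.card K := by
    have h1 := D.card_K
    have h2 := nu_mod _ D.odd
    have h3 : 4 ∣ 2 * Nat.card K := by
      rw [h1]
      exact Dvd.dvd.mul_left (Dvd.dvd.mul_left (Nat.dvd_of_mod_eq_zero h2) _) _
    omega
  obtain ⟨k, hk⟩ := exists_prime_orderOf_dvd_card' (G := K) 2 h2K
  have hk1 := ne_one_of_orderOf hk
  have hk2 := mul_self_of_orderOf hk
  obtain ⟨T, m, hT, -⟩ := D.exists_torusAt hk1 hk2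
  obtain ⟨u, hu, huT⟩ := hT.ex
  obtain ⟨hu1, hu2, -⟩ := hT.out u hu huT
  have hku : k ≠ u := by
    rintro rfl
    exact huT hT.mem
  have hkG : orderOf (k : G) = 2 := by rw [← hk]; exact Subgroup.orderOf_coe k
  have huG : orderOf (u : G) = 2 := by
    rw [← orderOf_eq_two hu1 hu2]; exact Subgroup.orderOf_coe u
  have hQ : IsPGroup 2 (zpowers (k : G) ⊔ zpowers (u : G) : Subgroup G) := by
    refine IsPGroup.to_sup_of_normal_left' (isPGroup_zpowers hkG) (isPGroup_zpowers huG) ?_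
    rw [zpowers_le]
    refine centralizer_le_normalizer _ ?_
    rw [mem_centralizer_iff]
    rintro _ ⟨n, rfl⟩
    have h1 : Commute (u : G) (k : G) := congrArg Subtype.val hu
    exact (h1.zpow_right n).symm
  obtain ⟨Q', hQ', hle⟩ := exists_isSyl2 K _
    (sup_le (zpowers_le.2 k.2) (zpowers_le.2 u.2)) hQ
  obtain ⟨c, hc, hcQ⟩ := CITBasic.IsSyl2.conj hQ' hSK
  have hmem : ∀ z : K, (z : G) ∈ Q' → ((⟨c, hc⟩ * z * ⟨c, hc⟩⁻¹ : K) : G) ∈ S := by
    intro z hz
    have h1 : c * z * c⁻¹ ∈ S ⊓ K := by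
      rw [hcQ]
      exact ⟨z, hz, rfl⟩
    exact h1.1
  have hconj : Cfsg.Agent.GH.L2Aut.Four (MulAut.conj (⟨c, hc⟩ : K) k) (MulAut.conj (⟨c, hc⟩ : K) u) :=
    Cfsg.Agent.GH.L2Aut.Four.map ⟨hk2, hu2, hk1, hu1, hku, hu.symm⟩ _
  exact ⟨_, _, hmem k (hle (mem_sup_left (mem_zpowers _))),
    hmem u (hle (mem_sup_right (mem_zpowers _))), hconj⟩

/-- (4.2b) If `S ∩ C(K)` is cyclic and its involution is not centralized by `N(S)`, then
`|S ∩ C(K)| = 2`. -/
theorem card_two_of_cyclic (D : Data K F) {S : Subgroup G}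
    (hS : IsSyl2 (normalizer (K : Set G)) S)
    (hc : IsCyclic (S ⊓ centralizer (K : Set G) : Subgroup G)) {t x : G}
    (ht : t ∈ S ⊓ centralizer (K : Set G)) (ht2 : orderOf t = 2)
    (hx : x ∈ normalizer (S : Set G)) (hxt : x * t ≠ t * x) :
    Nat.card (S ⊓ centralizer (K : Set G) : Subgroup G) = 2 := by
  have hpf : Fact (Nat.Prime 2) := ⟨Nat.prime_two⟩
  set R := S ⊓ centralizer (K : Set G) with hR
  have hR2 : IsPGroup 2 R := hS.two.to_le inf_le_left
  by_contra hcard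
  -- an element `w` with `w² = t`
  obtain ⟨w, hwR, hww⟩ : ∃ w ∈ R, w * w = t := by
    obtain ⟨n, hn⟩ := IsPGroup.iff_card.mp hR2
    have hdvd : 2 ∣ Nat.card R := by rw [← ht2]; exact R.orderOf_dvd_natCard ht
    have h4 : 4 ∣ Nat.card R := by
      rw [hn] at hdvd hcard ⊢
      have h0 : n ≠ 0 := by
        rintro rfl
        norm_num at hdvd
      have h1 : n ≠ 1 := by
        rintro rfl
        exact hcard (pow_one 2)
      have h2 : (2 : ℕ) ^ 2 ∣ 2 ^ n := pow_dvd_pow 2 (by omega)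
      exact h2
    obtain ⟨g, hg⟩ := hc.exists_generator
    have hgo : orderOf g = Nat.card R := orderOf_eq_card_of_forall_mem_zpowers hg
    have hw : orderOf (g ^ (Nat.card R / 4)) = 4 := by
      have hpos : 0 < Nat.card R := Nat.card_pos
      rw [orderOf_pow_of_dvd, hgo]
      · exact Nat.div_div_self h4 hpos.ne'
      · exact (Nat.div_pos (Nat.le_of_dvd hpos h4) (by norm_num)).ne'
      · rw [hgo]; exact Nat.div_dvd_of_dvd h4
    refine ⟨(g ^ (Nat.card R / 4) : R), (g ^ (Nat.card R / 4)).2, ?_⟩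
    set w := g ^ (Nat.card R / 4) with hwdef
    have h5 : orderOf (w * w) = 2 := by
      rw [← pow_two, orderOf_pow, hw]
      norm_num
    have h6 : orderOf ((w * w : R) : G) = 2 := by rw [← h5]; exact Subgroup.orderOf_coe _
    exact eq_of_cyclic hc (w * w).2 ht h6 ht2
  -- the four-group
  obtain ⟨v₁, v₂, hv₁S, hv₂S, hv⟩ := exists_four D hS
  have hv₁₂ : Cfsg.Agent.GH.L2Aut.Four v₁ (v₁ * v₂) := hv.right
  -- `Q = C_S(V)`
  set Q : Subgroup G := S ⊓ centralizer ({(v₁ : G)} : Set G) ⊓ centralizer ({(v₂ : G)} : Set G) with hQ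
  have hQmem : ∀ s, s ∈ Q ↔ s ∈ S ∧ s * v₁ = v₁ * s ∧ s * v₂ = v₂ * s := by
    intro s
    rw [hQ, Subgroup.mem_inf, Subgroup.mem_inf, mem_centralizer_singleton_iff,
      mem_centralizer_singleton_iff, and_assoc]
  have hKR : ∀ v : K, ∀ r ∈ R, r * v = v * r := fun v r hr =>
    (mem_centralizer_iff.1 hr.2 v v.2).symm
  have hQdec : ∀ s ∈ Q, ∃ v : K, (v : G) ∈ S ∧ v * v = 1 ∧ ∃ r ∈ R, s = v * r := by
    intro s hs
    obtain ⟨hsS, h1, h2⟩ := (hQmem s).1 hs
    have key : ∀ v : K, (v : G) ∈ S → v * v = 1 → ac K (hS.le hsS) = MulAut.conj v →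
        ∃ v : K, (v : G) ∈ S ∧ v * v = 1 ∧ ∃ r ∈ R, s = v * r := by
      intro v hvS hvv hac
      refine ⟨v, hvS, hvv, (v : G)⁻¹ * s, ?_, by group⟩
      refine Subgroup.mem_inf.mpr ⟨mul_mem (inv_mem hvS) hsS, ?_⟩
      have hvn : (v : G)⁻¹ ∈ normalizer (K : Set G) := inv_mem (le_normalizer v.2)
      rw [← ac_eq_one (mul_mem hvn (hS.le hsS)), ac_mul hvn (hS.le hsS), hac,
        ac_of_mem (K.inv_mem v.2) hvn, ← map_mul]
      have : (⟨(v : G)⁻¹, K.inv_mem v.2⟩ : K) * v = 1 := Subtype.ext (inv_mul_cancel (v : G))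
      rw [this, map_one]
    rcases D.R.fix_four hv (D.mem_PGL _) ((ac_fix (hS.le hsS) v₁.2).2 h1)
      ((ac_fix (hS.le hsS) v₂.2).2 h2) with h3 | h3 | h3 | h3
    · exact key 1 S.one_mem (mul_one 1) (by rw [h3, map_one])
    · exact key v₁ hv₁S hv.aa h3
    · exact key v₂ hv₂S hv.bb h3
    · exact key (v₁ * v₂) (mul_mem hv₁S hv₂S) hv₁₂.bb h3
  have hRQ : R ≤ Q := by
    intro r hr
    exact (hQmem r).2 ⟨hr.1, hKR v₁ r hr, hKR v₂ r hr⟩
  have hQS : Q ≤ S := fun s hs => ((hQmem s).1 hs).1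
  have hQ2 : IsPGroup 2 Q := hS.two.to_le hQS
  have hQK : Q ⊓ centralizer (K : Set G) = R := by
    apply le_antisymm
    · exact inf_le_inf_right _ hQS
    · exact le_inf hRQ inf_le_right
  have hv₁Q : (v₁ : G) ∈ Q := (hQmem _).2 ⟨hv₁S, rfl, congrArg Subtype.val hv.comm⟩
  have hv₂Q : (v₂ : G) ∈ Q := (hQmem _).2 ⟨hv₂S, congrArg Subtype.val hv.comm.symm, rfl⟩
  have hQcard : 4 * Nat.card R ≤ Nat.card Q := by
    let f : Q →* MulAut K := K.normalizerMonoidHom.comp (Subgroup.inclusion (hQS.trans hS.le))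
    have hf : ∀ x : Q, f x = ac K ((hQS.trans hS.le) x.2) := fun x => rfl
    have hker : Nat.card f.ker = Nat.card R := by
      have h1 : f.ker = (centralizer (K : Set G)).subgroupOf Q := by
        ext x
        rw [MonoidHom.mem_ker, hf, ac_eq_one, mem_subgroupOf]
      rw [h1, ← Subgroup.card_map_of_injective Q.subtype_injective,
        Subgroup.subgroupOf_map_subtype, inf_comm, hQK]
    have hrange : 4 ≤ Nat.card f.range := by
      refine four_le_card (a := MulAut.conj v₁) (b := MulAut.conj v₂) ?_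
        ⟨⟨v₁, hv₁Q⟩, ac_of_mem v₁.2 _⟩ ⟨⟨v₂, hv₂Q⟩, ac_of_mem v₂.2 _⟩
      refine ⟨by rw [← map_mul, hv.aa, map_one], by rw [← map_mul, hv.bb, map_one], ?_, ?_, ?_, ?_⟩
      · exact fun h' => hv.a1 (D.R.conj_injective (by rw [h', map_one]))
      · exact fun h' => hv.b1 (D.R.conj_injective (by rw [h', map_one]))
      · exact fun h' => hv.ne (D.R.conj_injective h')
      · rw [← map_mul, hv.comm, map_mul]
    rw [← Subgroup.card_mul_index f.ker, Subgroup.index_ker, hker, mul_comm]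
    exact Nat.mul_le_mul le_rfl hrange
  -- `R ≤ Q^x`
  have hxS : ∀ s ∈ S, x * s * x⁻¹ ∈ S := forall_of_mem_normalizer hx
  have hxS' : ∀ s ∈ S, x⁻¹ * s * x ∈ S := by
    intro s hs
    have := forall_of_mem_normalizer (inv_mem hx) s hs
    rwa [inv_inv] at this
  have hRx : ∀ r ∈ R, x⁻¹ * r * x ∈ Q := by
    by_cases hout : ∃ v : K, ∃ hvS : (v : G) ∈ S, v * v = 1 ∧ (∀ s ∈ Q, s * v = v * s) ∧
        ac K (hS.le (hxS v hvS)) ∉ (MulAut.conj : K →* MulAut K).range
    · obtain ⟨v, hvS, hvv, hvQ, hni⟩ := hout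
      have hvv' : (v : G) * v = 1 := congrArg Subtype.val hvv
      have he2 : ac K (hS.le (hxS v hvS)) * ac K (hS.le (hxS v hvS)) = 1 := by
        rw [← ac_mul, ac_eq_one]
        have : x * v * x⁻¹ * (x * v * x⁻¹) = 1 := by
          calc x * v * x⁻¹ * (x * v * x⁻¹) = x * (v * v) * x⁻¹ := by group
            _ = 1 := by rw [hvv']; group
        rw [this]; exact one_mem _
      have hQxS : cj x Q ≤ S := by
        rintro _ ⟨q, hq, rfl⟩
        exact hxS q (hQS hq)
      have h1 := card_le_of_outer D (hS.le (hxS v hvS)) hni he2 (Q := cj x Q)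
        (hS.two.to_le hQxS) (hQxS.trans hS.le) (by
          rintro _ ⟨q, hq, rfl⟩
          have h2 := hvQ q hq
          change x * q * x⁻¹ * (x * v * x⁻¹) = x * v * x⁻¹ * (x * q * x⁻¹)
          calc x * q * x⁻¹ * (x * v * x⁻¹) = x * (q * v) * x⁻¹ := by group
            _ = x * (v * q) * x⁻¹ := by rw [h2]
            _ = x * v * x⁻¹ * (x * q * x⁻¹) := by group)
      rw [card_cj] at h1
      have h2 : cj x Q ⊓ centralizer (K : Set G) ≤ R := inf_le_inf_right _ hQxS
      have h3 : cj x Q ⊓ centralizer (K : Set G) = R :=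
        Subgroup.eq_of_le_of_card_ge h2 (by omega)
      intro r hr
      rw [← h3] at hr
      exact mem_cj.1 hr.1
    · push Not at hout
      intro r hr
      have key : ∀ v : K, (v : G) ∈ S → v * v = 1 → (∀ s ∈ Q, s * v = v * s) →
          (x⁻¹ * r * x) * v = v * (x⁻¹ * r * x) := by
        intro v hvS hvv hvQ
        have hvv' : (v : G) * v = 1 := congrArg Subtype.val hvv
        have h1 := comm_of_inner_cyclic D hS hc (hxS v hvS) (by
          calc x * v * x⁻¹ * (x * v * x⁻¹) = x * (v * v) * x⁻¹ := by group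
            _ = 1 := by rw [hvv']; group) (hout v hvS hvv hvQ) r hr
        calc (x⁻¹ * r * x) * v = x⁻¹ * (r * (x * v * x⁻¹)) * x := by group
          _ = x⁻¹ * ((x * v * x⁻¹) * r) * x := by rw [h1]
          _ = v * (x⁻¹ * r * x) := by group
      refine (hQmem _).2 ⟨hxS' r hr.1, key v₁ hv₁S hv.aa fun s hs => ((hQmem s).1 hs).2.1,
        key v₂ hv₂S hv.bb fun s hs => ((hQmem s).1 hs).2.2⟩
  -- the end
  obtain ⟨v, hvS, hvv, r, hr, hdec⟩ := hQdec _ (hRx w hwR)
  have hvv' : (v : G) * v = 1 := congrArg Subtype.val hvv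
  have h1 : x⁻¹ * t * x = r * r := by
    calc x⁻¹ * t * x = (x⁻¹ * w * x) * (x⁻¹ * w * x) := by rw [← hww]; group
      _ = (v * r) * (v * r) := by rw [hdec]
      _ = v * (r * v) * r := by group
      _ = v * (v * r) * r := by rw [hKR v r hr]
      _ = (v * v) * (r * r) := by group
      _ = r * r := by rw [hvv', one_mul]
  have h2 : orderOf (r * r) = 2 := by
    rw [← h1]
    have := orderOf_conj x⁻¹ t
    rw [inv_inv] at this
    rw [this, ht2]
  have h3 : r * r = t := eq_of_cyclic hc (mul_mem hr hr) ht h2 ht2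
  apply hxt
  rw [h3] at h1
  calc x * t = x * (x⁻¹ * t * x) := by rw [h1]
    _ = t * x := by group

/-- A central involution of `S` in `S ∩ K`. -/
theorem exists_central (D : Data K F) {S : Subgroup G} (hS : IsSyl2 (normalizer (K : Set G)) S) :
    ∃ i ∈ K, i ∈ S ∧ orderOf i = 2 ∧ ∀ s ∈ S, i * s = s * i := by
  have hpf : Fact (Nat.Prime 2) := ⟨Nat.prime_two⟩
  obtain ⟨v₁, v₂, hv₁S, hv₂S, hv⟩ := exists_four D hS
  have h1 : ((S ⊓ K).subgroupOf S).Normal := by
    refine Subgroup.normal_subgroupOf_of_le_normalizer ?_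
    intro s hs
    refine mem_normalizer_of_forall fun x hx => Subgroup.mem_inf.mpr ⟨?_, ?_⟩
    · exact S.mul_mem (S.mul_mem hs hx.1) (S.inv_mem hs)
    · exact forall_of_mem_normalizer (hS.le hs) x hx.2
  have h2 : (S ⊓ K).subgroupOf S ≠ ⊥ := by
    intro hb
    have h3 : (⟨v₁, hv₁S⟩ : S) ∈ (S ⊓ K).subgroupOf S := ⟨hv₁S, v₁.2⟩
    rw [hb, mem_bot] at h3
    have h4 : (v₁ : G) = 1 := congrArg Subtype.val h3
    exact hv.a1 (Subtype.ext h4)
  have h4 : Group.IsNilpotent S := hS.two.isNilpotent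
  have h3 := Cfsg.Agent.Lib.NormalAbelian.normal_inf_center_ne_bot ((S ⊓ K).subgroupOf S) h2
  have h5 : IsPGroup 2 ((S ⊓ K).subgroupOf S ⊓ center S : Subgroup S) :=
    hS.two.to_subgroup _
  have h6 := (Subgroup.nontrivial_iff_ne_bot _).mpr h3
  obtain ⟨n, hn0, hn⟩ := h5.nontrivial_iff_card.mp h6
  obtain ⟨⟨z, hzS⟩, hz, hz2⟩ := exists_involution
    (H := ((S ⊓ K).subgroupOf S ⊓ center S : Subgroup S))
    (by rw [hn]; exact (Nat.even_pow.mpr ⟨even_two, Nat.pos_iff_ne_zero.mp hn0⟩))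
  rw [Subgroup.orderOf_mk] at hz2
  exact ⟨z, hz.1.2, hzS, hz2, fun y hy =>
    (congrArg Subtype.val (mem_center_iff.mp hz.2 ⟨y, hy⟩)).symm⟩

/-- In the inner case the involution `t` of `S ∩ C(K)` is moved by `N(S)`. -/
theorem exists_moves [IsSimpleGroup G] {p₀ : ℕ} (h : Std p₀ K) (D : Data K F) {g : G}
    (hg : g ∉ normalizer (K : Set G)) {a : G} (haY : a ∈ cj g (centralizer (K : Set G)))
    (haM : a ∈ normalizer (K : Set G)) (ha2 : orderOf a = 2)
    (hi : ac K haM ∈ (MulAut.conj : K →* MulAut K).range) {S : Subgroup G}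
    (hS : IsSyl2 (normalizer (K : Set G)) S)
    (hc : IsCyclic (S ⊓ centralizer (K : Set G) : Subgroup G)) {t : G}
    (ht : t ∈ S ⊓ centralizer (K : Set G)) (ht2 : orderOf t = 2) :
    ∃ x ∈ normalizer (S : Set G), x * t ≠ t * x := by
  have hpf : Fact (Nat.Prime 2) := ⟨Nat.prime_two⟩
  have hR : IsSyl2 (centralizer (K : Set G)) (S ⊓ centralizer (K : Set G)) :=
    isSyl2_inf hS (centralizer_le_normalizer _) (normal_cent K)
  have hne : normalizer (S : Set G) ≤ normalizer (K : Set G) → IsSyl2 (⊤ : Subgroup G) S := by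
    intro hle
    refine ⟨le_top, hS.two, fun P _ hP2 hSP => ?_⟩
    refine Cfsg.Agent.Blocks.SylowIn.eq_of_normalizer_inf_le (p := 2) hP2 hSP ?_
    have h3 := hS.max _ (inf_le_left.trans hle) (hP2.to_le inf_le_right)
      (le_inf Subgroup.le_normalizer hSP)
    exact h3.le
  by_contra hno
  push Not at hno
  have hNM : normalizer (S : Set G) ≤ normalizer (K : Set G) := by
    intro x hx
    refine h.le_normalizer ht2 ht.2 ?_
    rw [mem_centralizer_singleton_iff]
    exact hno x hx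
  have hST := hne hNM
  -- `S` is a Sylow 2-subgroup of `G`
  obtain ⟨P, hSP⟩ := hS.two.exists_le_sylow
  have hPS : (P : Subgroup G) = S := hST.max _ le_top P.isPGroup' hSP
  -- `a` is conjugate in `N(K)` to an element of `Z(S)`
  obtain ⟨k, hk, y, hy, hay, hk2, hy2⟩ := exists_decomp D haM (mul_self_of_orderOf ha2) hi
  have hk1 : k ≠ 1 := by
    rintro rfl
    rw [one_mul] at hay
    have h1 := h.inf_eq_bot hg (isPGroup_zpowers ha2) (zpowers_le.2 haY)
    have h2 : a ∈ zpowers a ⊓ centralizer (K : Set G) := ⟨mem_zpowers a, by rw [hay]; exact hy⟩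
    rw [h1, mem_bot] at h2
    exact ne_one_of_orderOf ha2 h2
  obtain ⟨i, hiK, hiS, hi2, hic⟩ := exists_central D hS
  -- `k` is `K`-conjugate to `i`
  obtain ⟨c, hcK, hck⟩ : ∃ c ∈ K, c * k * c⁻¹ = i := by
    have h1 : (⟨k, hk⟩ : K) ≠ 1 := fun h' => hk1 (congrArg Subtype.val h')
    have h2 : (⟨k, hk⟩ : K) * ⟨k, hk⟩ = 1 := Subtype.ext hk2
    have h3 : (⟨i, hiK⟩ : K) ≠ 1 := fun h' => ne_one_of_orderOf hi2 (congrArg Subtype.val h')
    have h4 : (⟨i, hiK⟩ : K) * ⟨i, hiK⟩ = 1 := Subtype.ext (mul_self_of_orderOf hi2)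
    obtain ⟨c, hc⟩ := Cfsg.Agent.Lib.PSL2Torus.conj_inv D.two D.e h1 h2 h3 h4
    exact ⟨c, c.2, congrArg Subtype.val hc⟩
  -- `y` is `C(K)`-conjugate to `1` or `t`
  obtain ⟨d, hdY, hdy⟩ : ∃ d ∈ centralizer (K : Set G), d * y * d⁻¹ = 1 ∨ d * y * d⁻¹ = t := by
    by_cases hy1 : y = 1
    · exact ⟨1, one_mem _, Or.inl (by rw [hy1]; group)⟩
    · have hyo := orderOf_eq_two hy1 hy2
      obtain ⟨R', hR', hyR'⟩ := exists_isSyl2 (centralizer (K : Set G)) (zpowers y)
        (zpowers_le.2 hy) (isPGroup_zpowers hyo)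
      obtain ⟨d, hd, hdR⟩ := CITBasic.IsSyl2.conj hR' hR
      have h1 : d * y * d⁻¹ ∈ S ⊓ centralizer (K : Set G) := by
        rw [hdR]; exact ⟨y, hyR' (mem_zpowers y), rfl⟩
      exact ⟨d, hd, Or.inr (eq_of_cyclic hc h1 ht (by rw [orderOf_conj, hyo]) ht2)⟩
  -- the conjugate `z` of `a`
  have hconj : (c * d) * a * (c * d)⁻¹ = i * (d * y * d⁻¹) := by
    have h1 : d * k = k * d := (mem_centralizer_iff.1 hdY k hk).symm
    have h2 : c * (d * y * d⁻¹) = (d * y * d⁻¹) * c :=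
      mem_centralizer_iff.1 (mul_mem (mul_mem hdY hy) (inv_mem hdY)) c hcK
    calc (c * d) * a * (c * d)⁻¹ = c * (d * k) * y * d⁻¹ * c⁻¹ := by rw [hay]; group
      _ = c * (k * d) * y * d⁻¹ * c⁻¹ := by rw [h1]
      _ = (c * k) * (d * y * d⁻¹) * c⁻¹ := by group
      _ = (c * k * c⁻¹) * (c * (d * y * d⁻¹)) * c⁻¹ := by group
      _ = i * (d * y * d⁻¹) := by rw [h2, hck]; group
  set z := i * (d * y * d⁻¹) with hz
  -- `t` is central in `S`
  have htc : ∀ s ∈ S, s * t = t * s := by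
    intro s hs
    have h1 : s * t * s⁻¹ ∈ S ⊓ centralizer (K : Set G) :=
      Subgroup.mem_inf.mpr ⟨mul_mem (mul_mem hs ht.1) (inv_mem hs), normal_cent K s (hS.le hs) t ht.2⟩
    have h2 := eq_of_cyclic hc h1 ht (by rw [orderOf_conj, ht2]) ht2
    exact mul_inv_eq_iff_eq_mul.1 h2
  have hzc : ∀ s ∈ S, s * z = z * s := by
    intro s hs
    rcases hdy with h1 | h1
    · rw [hz, h1, mul_one]; exact (hic s hs).symm
    · rw [hz, h1, ← mul_assoc, ← hic s hs, mul_assoc, htc s hs, mul_assoc]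
  have hzt : z ≠ t := by
    intro h1
    rcases hdy with h2 | h2
    · rw [hz, h2, mul_one] at h1
      have h3 := inf_centralizer_eq_bot D hiK (by rw [h1]; exact ht.2)
      exact ne_one_of_orderOf hi2 h3
    · rw [hz, h2] at h1
      have h3 : i = 1 := by
        have : i * t = 1 * t := by rw [one_mul]; exact h1
        exact mul_right_cancel this
      exact ne_one_of_orderOf hi2 h3
  -- `a` is conjugate to `t`
  obtain ⟨w, hw⟩ : ∃ w : G, w * a * w⁻¹ = t := by
    have h1 : g⁻¹ * a * g ∈ centralizer (K : Set G) := mem_cj.1 haY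
    have h2 : orderOf (g⁻¹ * a * g) = 2 := by
      have := orderOf_conj g⁻¹ a
      rw [inv_inv] at this
      rw [this, ha2]
    obtain ⟨R', hR', hyR'⟩ := exists_isSyl2 (centralizer (K : Set G)) (zpowers (g⁻¹ * a * g))
      (zpowers_le.2 h1) (isPGroup_zpowers h2)
    obtain ⟨e, he, heR⟩ := CITBasic.IsSyl2.conj hR' hR
    have h3 : e * (g⁻¹ * a * g) * e⁻¹ ∈ S ⊓ centralizer (K : Set G) := by
      rw [heR]; exact ⟨_, hyR' (mem_zpowers _), rfl⟩
    refine ⟨e * g⁻¹, ?_⟩
    rw [← eq_of_cyclic hc h3 ht (by rw [orderOf_conj, h2]) ht2]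
    group
  -- Burnside
  have hPc : ∀ x : G, (∀ s ∈ S, s * x = x * s) → x ∈ centralizer ((P : Subgroup G) : Set G) := by
    intro x hx
    rw [mem_centralizer_iff]
    intro s hs
    rw [SetLike.mem_coe, hPS] at hs
    exact hx s hs
  have hzw : ((c * d) * w⁻¹)⁻¹ * z * ((c * d) * w⁻¹) = t := by
    rw [← hconj, ← hw]; group
  obtain ⟨n, hn, hnt⟩ := P.conj_eq_normalizer_conj_of_mem_centralizer z ((c * d) * w⁻¹) (hPc z hzc)
    (by rw [hzw]; exact hPc t htc)
  rw [hzw] at hnt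
  have hnS : n ∈ normalizer (S : Set G) := by
    have : n ∈ normalizer ((P : Subgroup G) : Set G) := hn
    rwa [hPS] at this
  have h1 := hno n hnS
  apply hzt
  have h2 : n * t * n⁻¹ = z := by rw [hnt]; group
  rw [← h2, h1, mul_inv_cancel_right]

/-- (4.2a,b) If some involution of `C(K)^g ∩ N(K)`, `g ∉ N(K)`, is inner on `K`, then the Sylow
2-subgroups of `C(K)` have order 2 (`q ≥ 7`). -/
theorem card_two_of_inner [IsSimpleGroup G] {p₀ : ℕ} (h : Std p₀ K) (D : Data K F)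
    (hq7 : 7 ≤ Nat.card F) {g : G} (hg : g ∉ normalizer (K : Set G)) {a : G}
    (haY : a ∈ cj g (centralizer (K : Set G))) (haM : a ∈ normalizer (K : Set G))
    (ha2 : orderOf a = 2) (hi : ac K haM ∈ (MulAut.conj : K →* MulAut K).range) {S : Subgroup G}
    (hS : IsSyl2 (normalizer (K : Set G)) S) :
    Nat.card (S ⊓ centralizer (K : Set G) : Subgroup G) = 2 := by
  have hR : IsSyl2 (centralizer (K : Set G)) (S ⊓ centralizer (K : Set G)) :=
    isSyl2_inf hS (centralizer_le_normalizer _) (normal_cent K)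
  have hc := isCyclic_of_inner h D hq7 hg haY haM ha2 hi hR
  obtain ⟨t, ht, ht2⟩ : ∃ t ∈ S ⊓ centralizer (K : Set G), orderOf t = 2 := by
    obtain ⟨t, ht, hKt⟩ := h.ex
    obtain ⟨R', hR', htR'⟩ := exists_isSyl2 (centralizer (K : Set G)) (zpowers t)
      (zpowers_le.mpr (mem_centralizer_of_cmp hKt)) (isPGroup_zpowers ht)
    obtain ⟨m, -, hm⟩ := CITBasic.IsSyl2.conj hR' hR
    exact ⟨m * t * m⁻¹, by rw [hm]; exact ⟨t, htR' (mem_zpowers t), rfl⟩, by rw [orderOf_conj, ht]⟩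
  obtain ⟨x, hx, hxt⟩ := exists_moves h D hg haY haM ha2 hi hS hc ht ht2
  exact card_two_of_cyclic D hS hc ht ht2 hx hxt

end Cfsg.Agent.OddCyclic.CompPsl
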