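import Cfsg.Agent.OddCyclic.CompSL2Amb

/-!
# S0342, case C: tools

Orders of Sylow 2-subgroups, the fixed point lemma on `P/⟨z⟩`, inner and outer elements, numbers.
-/

set_option autoImplicit false

namespace Cfsg.Agent.OddCyclic.CompSL2Amb

open Subgroup Cfsg
open Cfsg.Agent.OddCyclic.T1Defs Cfsg.Agent.OddCyclic.CompBasic
open Cfsg.Agent.OddCyclic.CompStandard Cfsg.Agent.OddCyclic.CompSL2Facts
open Cfsg.Agent.LieExceptional Cfsg.Agent.LieExceptional.CITDefs
open Cfsg.Agent.LieExceptional.CITBasic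

variable {G : Type*} [Group G]

section gen

variable [Finite G]

theorem card_isSyl2 {H Q : Subgroup G} (h : IsSyl2 H Q) {a b : ℕ} (hH : Nat.card H = 2 ^ a * b)
    (hb : Odd b) : Nat.card Q = 2 ^ a := by
  have hpf : Fact (Nat.Prime 2) := ⟨Nat.prime_two⟩
  have h1 := Sylow.card_eq_multiplicity (IsSyl2.toSylow h)
  have h2 : Nat.card (IsSyl2.toSylow h) = Nat.card Q :=
    Nat.card_congr (subgroupOfEquivOfLe h.le).toEquiv
  rw [h2, hH] at h1
  have hb0 : b ≠ 0 := by rintro rfl; simp at hb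
  have h3 : (2 ^ a * b).factorization 2 = a := by
    rw [Nat.factorization_mul (by positivity) hb0, Finsupp.add_apply,
      Nat.prime_two.factorization_pow, Finsupp.single_eq_same,
      Nat.factorization_eq_zero_of_not_dvd (by
        rw [← even_iff_two_dvd, Nat.not_even_iff_odd]; exact hb), add_zero]
  rw [h3] at h1
  exact h1

/-- central 2-elements lie in all Sylow 2-subgroups -/
theorem mem_of_central {H Q : Subgroup G} (h : IsSyl2 H Q) {x : G} (hx : x ∈ H)
    (hc : ∀ y ∈ H, x * y = y * x) (h2 : IsPGroup 2 (zpowers x)) : x ∈ Q := by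
  obtain ⟨Q', hQ', hxQ'⟩ := exists_isSyl2 H (zpowers x) (zpowers_le.mpr hx) h2
  obtain ⟨m, hm, hmQ⟩ := CITBasic.IsSyl2.conj hQ' h
  rw [hmQ]
  refine ⟨x, hxQ' (mem_zpowers x), ?_⟩
  change m * x * m⁻¹ = x
  rw [mul_inv_eq_iff_eq_mul]
  exact (hc m hm).symm

omit [Finite G] in
theorem isPGroup_of_mem {P : Subgroup G} (hP : IsPGroup 2 P) {x : G} (hx : x ∈ P) :
    IsPGroup 2 (zpowers x) := hP.to_le (zpowers_le.mpr hx)

omit [Finite G] in
theorem isPGroup_of_pow {x : G} {j : ℕ} (hx : x ^ 2 ^ j = 1) : IsPGroup 2 (zpowers x) := by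
  have hpf : Fact (Nat.Prime 2) := ⟨Nat.prime_two⟩
  obtain ⟨i, -, hi⟩ := (Nat.dvd_prime_pow Nat.prime_two).mp (orderOf_dvd_of_pow_eq_one hx)
  exact IsPGroup.of_card (n := i) (by rw [Nat.card_zpowers, hi])

omit [Finite G] in
theorem exists_pow_eq_one {P : Subgroup G} (hP : IsPGroup 2 P) {x : G} (hx : x ∈ P) :
    ∃ j, x ^ 2 ^ j = 1 := by
  obtain ⟨j, hj⟩ := hP ⟨x, hx⟩
  exact ⟨j, congrArg Subtype.val hj⟩

omit [Finite G] in
/-- In a nontrivial 2-subgroup there are involutions. -/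
theorem exists_inv {P : Subgroup G} (hP : IsPGroup 2 P) {x : G} (hx : x ∈ P) (h1 : x ≠ 1) :
    ∃ j : ℕ, orderOf (x ^ j) = 2 := by
  obtain ⟨j, hj⟩ := exists_pow_eq_one hP hx
  obtain ⟨i, hi⟩ := CITCommute.exists_involution hj h1
  exact ⟨_, hi⟩

/-- `u` acts on the 2-group `P` centralizing `z ∈ Z(P)`; if `P ≠ ⟨z⟩` then `u` fixes a nontrivial
element of `P/⟨z⟩`. -/
theorem exists_twist {P : Subgroup G} (hP : IsPGroup 2 P) {z u : G} (hz : z ∈ P) (hzz : z * z = 1)
    (hz1 : z ≠ 1) (hzc : ∀ x ∈ P, z * x = x * z) (hcard : Nat.card P ≠ 2)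
    (hu : ∀ x ∈ P, u * x * u⁻¹ ∈ P) (huz : u * z = z * u) {j : ℕ} (hu2 : u ^ 2 ^ j = 1) :
    ∃ x ∈ P, x ≠ 1 ∧ x ≠ z ∧ (u * x * u⁻¹ = x ∨ u * x * u⁻¹ = x * z) := by
  classical
  have hpf : Fact (Nat.Prime 2) := ⟨Nat.prime_two⟩
  set N : Subgroup P := zpowers (⟨z, hz⟩ : P) with hN
  have hNmem : ∀ x : P, x ∈ N ↔ (x : G) = 1 ∨ (x : G) = z := by
    intro x
    constructor
    · rintro ⟨i, rfl⟩
      have h1 : (⟨z, hz⟩ : P) ^ (2 : ℕ) = 1 := Subtype.ext (by
        change z ^ 2 = 1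
        rw [sq, hzz])
      rcases Int.even_or_odd' i with ⟨l, hl | hl⟩
      · left
        change (((⟨z, hz⟩ : P) ^ i : P) : G) = 1
        rw [hl, zpow_mul, zpow_ofNat, h1, one_zpow]; rfl
      · right
        change (((⟨z, hz⟩ : P) ^ i : P) : G) = z
        rw [hl, zpow_add, zpow_mul, zpow_ofNat, h1, one_zpow, one_mul, zpow_one]
    · rintro (h1 | h1)
      · have : x = 1 := Subtype.ext h1
        rw [this]; exact one_mem _
      · have : x = ⟨z, hz⟩ := Subtype.ext h1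
        rw [this]; exact mem_zpowers _
  have hNn : N.Normal := by
    refine ⟨fun x hx g => ?_⟩
    rw [hNmem] at hx ⊢
    rcases hx with h1 | h1
    · left
      change (g : G) * x * (g : G)⁻¹ = 1
      rw [h1]; group
    · right
      change (g : G) * x * (g : G)⁻¹ = z
      rw [h1, ← hzc g g.2]; group
  have hun : u ∈ normalizer (P : Set G) := mem_normalizer_of_forall hu
  set α : MulAut P := P.normalizerMonoidHom ⟨u, hun⟩ with hα
  have hαv : ∀ x : P, ((α x : P) : G) = u * x * u⁻¹ := fun _ => rfl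
  have hmap : N.map α.toMonoidHom = N := by
    apply Subgroup.eq_of_le_of_card_ge
    · rintro _ ⟨x, hx, rfl⟩
      have hx' := (hNmem x).mp hx
      rw [hNmem]
      change ((α x : P) : G) = 1 ∨ ((α x : P) : G) = z
      rw [hαv]
      rcases hx' with h1 | h1
      · left; rw [h1]; group
      · right; rw [h1, huz]; group
    · exact (Subgroup.card_map_of_injective (f := α.toMonoidHom) α.injective).ge
  set β : (P ⧸ N) ≃* (P ⧸ N) := QuotientGroup.congr N N α hmap with hβ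
  have hβmk : ∀ x : P, β (QuotientGroup.mk x) = QuotientGroup.mk (α x) := fun _ => rfl
  set σ : Equiv.Perm (P ⧸ N) := β.toEquiv with hσ
  have hσi : ∀ i : ℕ, ∀ x : P, (σ ^ i) (QuotientGroup.mk x) = QuotientGroup.mk ((α ^ i) x) := by
    intro i
    induction i with
    | zero => intro x; rfl
    | succ i ih =>
      intro x
      rw [pow_succ', Equiv.Perm.mul_apply, ih, pow_succ']
      exact hβmk _
  have hαj : α ^ 2 ^ j = 1 := by
    rw [hα, ← map_pow]
    have : (⟨u, hun⟩ : normalizer (P : Set G)) ^ 2 ^ j = 1 := Subtype.ext hu2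
    rw [this, map_one]
  have hσj : σ ^ 2 ^ j = 1 := by
    ext x
    obtain ⟨x, rfl⟩ := QuotientGroup.mk_surjective x
    rw [hσi, hαj]; rfl
  have hfin : Fintype (P ⧸ N) := Fintype.ofFinite _
  have hN2 : Nat.card N = 2 := by
    rw [hN, Nat.card_zpowers]
    refine orderOf_eq_two ?_ (Subtype.ext hzz)
    intro h1
    exact hz1 (congrArg Subtype.val h1)
  have hcardq : 2 ∣ Fintype.card (P ⧸ N) := by
    rw [← Nat.card_eq_fintype_card]
    have h1 := N.card_mul_index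
    rw [hN2, Subgroup.index] at h1
    obtain ⟨a, ha⟩ := IsPGroup.iff_card.mp hP
    rw [ha] at h1 hcard
    rcases a with _ | _ | a
    · rw [pow_zero] at h1; omega
    · exact absurd (by norm_num) hcard
    · rw [pow_succ, pow_succ] at h1
      exact ⟨2 ^ a, by omega⟩
  obtain ⟨b, hb, hb1⟩ := Equiv.Perm.exists_fixed_point_of_prime' hcardq hσj
    (a := ((1 : P) : P ⧸ N)) (by
      have := hσi 1 1
      rw [pow_one, pow_one, map_one] at this
      exact this)
  obtain ⟨x, rfl⟩ := QuotientGroup.mk_surjective b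
  have hb' : (QuotientGroup.mk (α x) : P ⧸ N) = QuotientGroup.mk x := hb
  rw [eq_comm, QuotientGroup.eq, hNmem] at hb'
  have hxN : x ∉ N := fun h1 => hb1 ((QuotientGroup.eq_one_iff x).mpr h1)
  rw [hNmem] at hxN
  push Not at hxN
  refine ⟨x, x.2, hxN.1, hxN.2, ?_⟩
  have h1 : ((x⁻¹ * α x : P) : G) = (x : G)⁻¹ * (u * x * u⁻¹) := rfl
  rw [h1] at hb'
  rcases hb' with h2 | h2
  · left; exact (inv_mul_eq_one.mp h2).symm
  · right; exact inv_mul_eq_iff_eq_mul.mp h2

end gen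

section

variable {K : Subgroup G} {z : G} {p m n : ℕ}

theorem inn_iff {g : G} (hg : g ∈ normalizer (K : Set G)) : Inn K g ↔
    K.normalizerMonoidHom ⟨g, hg⟩ ∈ (MulAut.conj : K →* MulAut K).range := by
  constructor
  · rintro ⟨k, hk, y, hy, rfl⟩
    refine ⟨⟨k, hk⟩, ?_⟩
    apply MulEquiv.ext
    intro x
    apply Subtype.ext
    change k * x * k⁻¹ = k * y * x * (k * y)⁻¹
    have h1 := comm x.2 hy
    calc k * (x : G) * k⁻¹ = k * (x * y) * y⁻¹ * k⁻¹ := by group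
      _ = k * (y * x) * y⁻¹ * k⁻¹ := by rw [h1]
      _ = k * y * x * (k * y)⁻¹ := by group
  · rintro ⟨k, hk⟩
    refine ⟨k.1, k.2, k.1⁻¹ * g, ?_, by group⟩
    rw [mem_centralizer_iff]
    intro x hx
    have h1 := congrArg (fun β : MulAut K => ((β ⟨x, hx⟩ : K) : G)) hk
    change k.1 * x * k.1⁻¹ = g * x * g⁻¹ at h1
    have h2 : x = k.1⁻¹ * (g * x * g⁻¹) * k.1 := by rw [← h1]; group
    nth_rw 1 [h2]
    group

theorem Inn.mem {g : G} (h : Inn K g) : g ∈ normalizer (K : Set G) := by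
  obtain ⟨k, hk, y, hy, rfl⟩ := h
  exact Subgroup.mul_mem _ (le_normalizer hk) (centralizer_le_normalizer _ hy)

variable [Finite G]

theorem index_range (h : Hyp K z p m n) : (MulAut.conj : K →* MulAut K).range.index = 2 := by
  have h1 := (MulAut.conj : K →* MulAut K).ker.card_mul_index
  rw [Subgroup.index_ker] at h1
  have h2 := (MulAut.conj : K →* MulAut K).range.card_mul_index
  rw [h.dat.cardAut, ← h1] at h2
  have h3 : Nat.card (MulAut.conj : K →* MulAut K).ker = 2 := by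
    rw [Nat.card_eq_two_iff]
    have hz : (⟨z, h.zK⟩ : K) ∈ (MulAut.conj : K →* MulAut K).ker := by
      rw [MonoidHom.mem_ker]
      apply MulEquiv.ext
      intro x
      apply Subtype.ext
      change z * x * z⁻¹ = x
      rw [mul_inv_eq_iff_eq_mul]
      exact (comm x.2 h.zY).symm
    refine ⟨1, ⟨⟨z, h.zK⟩, hz⟩, ?_, ?_⟩
    · intro h4
      exact h.z_ne (congrArg (fun x => x.1.1) h4).symm
    · ext ⟨x, hx⟩
      simp only [Set.mem_insert_iff, Set.mem_singleton_iff, Set.mem_univ, iff_true]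
      rw [MonoidHom.mem_ker] at hx
      rcases h.dat.cen x (fun y => by
        have := DFunLike.congr_fun hx y
        rw [MulAut.conj_apply] at this
        exact mul_inv_eq_iff_eq_mul.mp this) with h4 | h4
      · left; exact Subtype.ext h4
      · right; exact Subtype.ext h4
  rw [h3, mul_comm 2] at h2
  exact Nat.eq_of_mul_eq_mul_left Nat.card_pos h2

/-- the product of two outer elements is inner -/
theorem inn_mul_iff (h : Hyp K z p m n) {g g' : G} (hg : g ∈ normalizer (K : Set G))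
    (hg' : g' ∈ normalizer (K : Set G)) : Inn K (g * g') ↔ (Inn K g ↔ Inn K g') := by
  rw [inn_iff hg, inn_iff hg', inn_iff (Subgroup.mul_mem _ hg hg')]
  have h1 : K.normalizerMonoidHom ⟨g * g', Subgroup.mul_mem _ hg hg'⟩ =
      K.normalizerMonoidHom ⟨g, hg⟩ * K.normalizerMonoidHom ⟨g', hg'⟩ := by
    rw [← map_mul]; rfl
  rw [h1]
  exact Subgroup.mul_mem_iff_of_index_two (index_range h)

theorem inn_sq (h : Hyp K z p m n) {g : G} (hg : g ∈ normalizer (K : Set G)) : Inn K (g * g) :=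
  (inn_mul_iff h hg hg).mpr Iff.rfl

/-- elements of odd order are inner -/
theorem inn_of_odd (h : Hyp K z p m n) {g : G} (hg : g ∈ normalizer (K : Set G))
    (hodd : Odd (orderOf g)) : Inn K g := by
  obtain ⟨j, hj⟩ := hodd
  have h1 : g = (g * g) ^ (j + 1) := by
    rw [← sq, ← pow_mul]
    have : 2 * (j + 1) = (2 * j + 1) + 1 := by ring
    rw [this, ← hj, pow_succ, pow_orderOf_eq_one, one_mul]
  rw [h1]
  have hgg := Subgroup.mul_mem _ hg hg
  rw [inn_iff (Subgroup.pow_mem _ hgg _)]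
  have h2 : K.normalizerMonoidHom ⟨(g * g) ^ (j + 1), Subgroup.pow_mem _ hgg _⟩ =
      (K.normalizerMonoidHom ⟨g * g, hgg⟩) ^ (j + 1) := by
    rw [← map_pow]; rfl
  rw [h2]
  exact Subgroup.pow_mem _ ((inn_iff hgg).mp (inn_sq h hg)) _

/-! ### numbers -/

omit [Finite G] in
theorem Hyp.nums (h : Hyp K z p m n) : ∃ d m' n', 2 ≤ d ∧ Odd m' ∧ Odd n' ∧ m = 2 ^ d * m' ∧
    n = 2 * n' ∧ 1 < n' ∧ Odd p := by
  have h5 := h.dat.p5
  have hm0 : m ≠ 0 := by rcases h.dat.mn with ⟨_, h2, _⟩ | ⟨_, h2, _⟩ <;> omega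
  obtain ⟨d, m', hm', hd⟩ := Nat.exists_eq_two_pow_mul_odd hm0
  obtain ⟨n', hn'⟩ : ∃ n', n = 2 * n' := by
    rcases h.dat.mn with ⟨_, _, h2⟩ | ⟨_, _, h2⟩
    · exact ⟨(p + 1) / 2, by omega⟩
    · exact ⟨(p - 1) / 2, by omega⟩
  refine ⟨d, m', n', ?_, hm', ?_, hd, hn', ?_, ?_⟩
  · by_contra hd2
    have h4 : m % 4 = 0 := by rcases h.dat.mn with ⟨_, h2, _⟩ | ⟨_, h2, _⟩ <;> omega
    obtain ⟨i, hi⟩ := hm'
    have : d = 0 ∨ d = 1 := by omega
    rcases this with rfl | rfl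
    · rw [pow_zero] at hd; omega
    · rw [pow_one] at hd; omega
  · rw [Nat.odd_iff]
    rcases h.dat.mn with ⟨_, _, h2⟩ | ⟨_, _, h2⟩ <;> omega
  · rcases h.dat.mn with ⟨_, _, h2⟩ | ⟨_, _, h2⟩ <;> omega
  · rw [Nat.odd_iff]
    rcases h.dat.mn with ⟨_, _, h2⟩ | ⟨_, _, h2⟩ <;> omega

omit [Finite G] in
theorem Hyp.three (h : Hyp K z p m n) : 3 ∣ m ∨ 3 ∣ n := by
  have h5 := h.dat.p5
  have h3 : ¬ 3 ∣ p := by
    intro h3
    have := (Nat.prime_dvd_prime_iff_eq Nat.prime_three h.dat.prime).mp h3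
    omega
  have h4 : p % 3 = 1 ∨ p % 3 = 2 := by omega
  rcases h.dat.mn with ⟨_, h1, h2⟩ | ⟨_, h1, h2⟩ <;> rcases h4 with h4 | h4
  · left; omega
  · right; omega
  · right; omega
  · left; omega

omit [Finite G] in
theorem Hyp.not_both (h : Hyp K z p m n) {r : ℕ} (hr : r.Prime) (hr2 : r ≠ 2) (h1 : r ∣ m)
    (h2 : r ∣ n) : False := by
  have h5 := h.dat.p5
  have h3 : r ∣ 2 := by
    rcases h.dat.mn with ⟨_, h3, h4⟩ | ⟨_, h3, h4⟩
    · have : n - m = 2 := by omega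
      rw [← this]; exact Nat.dvd_sub h2 h1
    · have : m - n = 2 := by omega
      rw [← this]; exact Nat.dvd_sub h1 h2
  exact hr2 ((Nat.prime_dvd_prime_iff_eq hr Nat.prime_two).mp h3)

omit [Finite G] in
theorem Hyp.dvd_m (h : Hyp K z p m n) {r : ℕ} (hr : r ∣ m) : r ∣ Nat.card K := by
  rw [h.dat.card, mul_assoc]
  exact Dvd.dvd.mul_left (Dvd.dvd.mul_right hr n) p

omit [Finite G] in
theorem Hyp.dvd_n (h : Hyp K z p m n) {r : ℕ} (hr : r ∣ n) : r ∣ Nat.card K := by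
  rw [h.dat.card]
  exact Dvd.dvd.mul_left hr _

omit [Finite G] in
theorem Hyp.three_dvd (h : Hyp K z p m n) : 3 ∣ Nat.card K := by
  rcases h.three with h1 | h1
  · exact h.dvd_m h1
  · exact h.dvd_n h1

/-- 3-elements of `N(K)` lie in `K` -/
theorem Hyp.mem_of_three (h : Hyp K z p m n) {x : G} (hx : x ∈ normalizer (K : Set G)) {s : ℕ}
    (hs : orderOf x = 3 ^ s) : x ∈ K := by
  obtain ⟨k, hk, y, hy, rfl⟩ := inn_of_odd h hx (by rw [hs]; exact Odd.pow (by decide))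
  refine K.mul_mem hk ?_
  have hky : Commute k y := comm hk hy
  have h1 : k ^ 3 ^ s * y ^ 3 ^ s = 1 := by
    rw [← hky.mul_pow, ← hs, pow_orderOf_eq_one]
  have h2 : y ^ 3 ^ s ∈ K := by
    have : y ^ 3 ^ s = (k ^ 3 ^ s)⁻¹ := (inv_eq_of_mul_eq_one_right h1).symm
    rw [this]
    exact K.inv_mem (K.pow_mem hk _)
  have h3 : ¬ 3 ∣ orderOf y := by
    intro h3
    have h4 : orderOf (y ^ (orderOf y / 3)) = 3 := by
      rw [orderOf_pow_orderOf_div (orderOf_pos y).ne' h3]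
    have h5 : y ^ (orderOf y / 3) ∈ centralizer (K : Set G) := Subgroup.pow_mem _ hy _
    have h6 := h.mem 3 Nat.prime_three (by decide) h.three_dvd _
      (centralizer_le_normalizer _ h5) h4
    rcases h.inter h6 h5 with h7 | h7
    · rw [h7, orderOf_one] at h4; omega
    · rw [h7, h.z2] at h4; omega
  have h4 : (3 ^ s).Coprime (orderOf y) :=
    Nat.Coprime.pow_left s ((Nat.Prime.coprime_iff_not_dvd Nat.prime_three).mpr h3)
  obtain ⟨j, hj⟩ := exists_pow_eq_self_of_coprime h4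
  rw [← hj]
  exact K.pow_mem h2 j

end

end Cfsg.Agent.OddCyclic.CompSL2Amb
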