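import Mathlib
import Cfsg.Agent.OddCyclic.BTwoK
import Cfsg.Agent.OddCyclic.BTwoEndC

/-!
# (E1) with `|V| = 4`, `b = 2`: the case `|us V z : dd V| = 2`

* `dd_le_V`: `|us V z : dd V| = 2` implies `dd V = V` (the case `ws V z ≅ 2^{1+4}_+` does not occur);
* `main`: if `|us V z : dd V| = 2`, then `G` has 2-rank at most 2 or a normal subgroup of index 2.
-/

set_option autoImplicit false
set_option linter.dupNamespace false
set_option linter.unusedSectionVars false

namespace Cfsg.Agent.OddCyclic.BTwoOne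

open Subgroup Cfsg Cfsg.Agent.ZN Cfsg.Agent.MinSimple.Geo Cfsg.Agent.OddCyclic.GeoC
  Cfsg.Agent.OddCyclic.BTwoA
  Cfsg.Agent.OddCyclic.BTwoB Cfsg.Agent.OddCyclic.BTwoC Cfsg.Agent.OddCyclic.BTwoD
open Cfsg.Agent.ZN.Block (conj_mem_of_normalizer conj_mem_of_normalizer' le_normalizer_of_forall
  mem_normalizer_of)

universe u

variable {G : Type u} [Group G] [Finite G] {T V : Subgroup G} {z : G}

theorem mul_mem_of_relIndex {K H : Subgroup G} (hi : K.relIndex H = 2) {a b : G} (ha : a ∈ H)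
    (hb : b ∈ H) (haK : a ∉ K) (hbK : b ∉ K) : a * b ∈ K := by
  have hi' : (K.subgroupOf H).index = 2 := hi
  have h1 := Subgroup.mul_mem_iff_of_index_two hi' (a := ⟨a, ha⟩) (b := ⟨b, hb⟩)
  rw [mem_subgroupOf, mem_subgroupOf, mem_subgroupOf] at h1
  exact h1.mpr ⟨fun h => absurd h haK, fun h => absurd h hbK⟩

/-- a line is contained in each subgroup containing `z` and another of its elements -/
theorem line_le (h : BTwo T V z) {L U : Subgroup G} (hL : L ∈ lines V z) {y : G} (hy : y ∈ L)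
    (hy1 : y ≠ 1) (hyz : y ≠ z) (hzU : z ∈ U) (hyU : y ∈ U) : L ≤ U := by
  obtain ⟨T', h'⟩ := BTwoK.BTwo.line h hL
  intro x hx
  rcases h'.four h'.z_mem hy h'.z_ne hy1 (Ne.symm hyz) hx with rfl | rfl | rfl | rfl
  · exact one_mem _
  · exact hzU
  · exact hyU
  · exact mul_mem hzU hyU

theorem dd_cj_mem {c d : G} (hd : d ∈ dd V) : c * d * c⁻¹ ∈ dd (cj c V) := by
  rw [mem_dd] at hd ⊢
  intro p hp hp1
  rw [mem_cj] at hp
  have h1 := hd _ hp (fun e => hp1 (by
    have : p = c * (c⁻¹ * p * c) * c⁻¹ := by group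
    rw [this, e]; group))
  have h2 := conj_mem_ws (g := c) h1
  have e : c * (c⁻¹ * p * c) * c⁻¹ = p := by group
  rw [e] at h2
  rw [BTwoK.ws_cj]
  exact h2

/-- **The case `|us V z : dd V| = 2`.** -/
theorem main (h : BTwo T V z) (hi : (dd V).relIndex (us V z) = 2) (h1 : dd V ≤ V) :
    PRankLE 2 2 G ∨ ∃ M : Subgroup G, M.Normal ∧ M.index = 2 := by
  have h2 : dd V = V := le_antisymm h1 h.V_le_dd
  rw [h2] at hi
  exact BTwoEndC.One.main (T := T) (V := V) (z := z) ⟨h, h1, hi⟩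

end Cfsg.Agent.OddCyclic.BTwoOne
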