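import Mathlib
import Cfsg.Agent.GH.Cov.SzCover

/-!
# Perfect central extensions of Suzuki groups `Sz(q)`, `q > 8`, by 2-groups are trivial

* `two_pow_add_ne'`: `2^i + 2^j (1 + 2^(m+1))` is not divisible by `2^(2m+1) - 1`, `m ≥ 2`;
* `center_eq_bot`: `X` perfect, `Z(X)` a 2-group, `X / Z(X) ≅ Sz(q)`, `q > 8` implies `Z(X) = 1`.
-/

set_option autoImplicit false
set_option linter.unusedSectionVars false
set_option linter.style.haveILetI false

namespace Cfsg.Agent.OddCyclic.CoverSz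

open scoped commutatorElement
open Cfsg.Agent.StdSz Cfsg.Agent.StdSz.FormAlg Cfsg.Agent.StdSz.BorelCoord Cfsg.Agent.StdSz.CoverA
open Cfsg.Agent.StdSz.EquivMaps Cfsg.Agent.StdSz.SzMaps Cfsg.Agent.GH.Cov.SzCover

/-- sums of three powers of two (exponents `< n`, `n ≥ 5`) are not divisible by `2 ^ n - 1`. -/
theorem three_pow_ne {n i j k : ℕ} (hn : 5 ≤ n) (hi : i < n) (hj : j < n) (hk : k < n) :
    ¬ (2 ^ n - 1) ∣ 2 ^ i + 2 ^ j + 2 ^ k := by
  rintro ⟨c, hc⟩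
  have h2 : 2 ^ n = 2 * 2 ^ (n - 1) := by
    rw [← pow_succ']; congr 1; omega
  have h4 : 2 ^ (n - 1) = 2 * 2 ^ (n - 2) := by
    rw [← pow_succ']; congr 1; omega
  have h5 : 2 ^ (n - 2) = 2 * 2 ^ (n - 3) := by
    rw [← pow_succ']; congr 1; omega
  have h8 : 4 ≤ 2 ^ (n - 3) := by
    calc 4 = 2 ^ 2 := by norm_num
      _ ≤ 2 ^ (n - 3) := Nat.pow_le_pow_right (by norm_num) (by omega)
  have hi' : 2 ^ i ≤ 2 ^ (n - 1) := Nat.pow_le_pow_right (by norm_num) (by omega)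
  have hj' : 2 ^ j ≤ 2 ^ (n - 1) := Nat.pow_le_pow_right (by norm_num) (by omega)
  have hk' : 2 ^ k ≤ 2 ^ (n - 1) := Nat.pow_le_pow_right (by norm_num) (by omega)
  have pi : 1 ≤ 2 ^ i := Nat.one_le_two_pow
  have pj : 1 ≤ 2 ^ j := Nat.one_le_two_pow
  have pk : 1 ≤ 2 ^ k := Nat.one_le_two_pow
  have hc1 : c = 1 := by
    rcases c with _ | _ | c
    · omega
    · rfl
    · exfalso
      have : (2 ^ n - 1) * 2 ≤ (2 ^ n - 1) * (c + 1 + 1) := Nat.mul_le_mul_left _ (by omega)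
      omega
  rw [hc1, mul_one] at hc
  -- two exponents: `2 ^ a + 2 ^ b + 1 = 2 ^ n - 1`
  have key : ∀ a b : ℕ, 1 ≤ a → a ≤ b → b < n → 2 ^ a + 2 ^ b + 1 = 2 ^ n - 1 → False := by
    intro a b ha hab hb he
    have hb' : 2 ^ b ≤ 2 ^ (n - 1) := Nat.pow_le_pow_right (by norm_num) (by omega)
    have hab' : 2 ^ a ≤ 2 ^ b := Nat.pow_le_pow_right (by norm_num) hab
    rcases Nat.lt_or_ge b (n - 1) with hb2 | hb2
    · have : 2 ^ b ≤ 2 ^ (n - 2) := Nat.pow_le_pow_right (by norm_num) (by omega)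
      omega
    · have hbn : b = n - 1 := by omega
      rw [hbn] at he
      -- 2 ^ a = 2 ^ (n-1) - 2
      rcases Nat.lt_or_ge a (n - 1) with ha2 | ha2
      · have : 2 ^ a ≤ 2 ^ (n - 2) := Nat.pow_le_pow_right (by norm_num) (by omega)
        omega
      · have : a = n - 1 := by omega
        rw [this] at he
        omega
  have key' : ∀ a b : ℕ, 1 ≤ a → 1 ≤ b → a < n → b < n → 2 ^ a + 2 ^ b + 1 = 2 ^ n - 1 → False := by
    intro a b ha hb han hbn he
    rcases le_total a b with h | h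
    · exact key a b ha h hbn he
    · exact key b a hb h han (by omega)
  have ev : ∀ a : ℕ, 1 ≤ a → 2 ^ a = 2 * 2 ^ (a - 1) := by
    intro a ha
    rw [← pow_succ']; congr 1; omega
  rcases Nat.eq_zero_or_pos i with rfl | hi0 <;> rcases Nat.eq_zero_or_pos j with rfl | hj0 <;>
    rcases Nat.eq_zero_or_pos k with rfl | hk0
  · rw [pow_zero] at hc; omega
  · have := ev k hk0; rw [pow_zero] at hc; omega
  · have := ev j hj0; rw [pow_zero] at hc; omega
  · rw [pow_zero] at hc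
    exact key' j k hj0 hk0 hj hk (by omega)
  · have := ev i hi0; rw [pow_zero] at hc; omega
  · rw [pow_zero] at hc
    exact key' i k hi0 hk0 hi hk (by omega)
  · rw [pow_zero] at hc
    exact key' i j hi0 hj0 hi hj (by omega)
  · have := ev i hi0
    have := ev j hj0
    have := ev k hk0
    omega

theorem two_pow_add_ne' {m i j : ℕ} (hm : 2 ≤ m) (hi : i < 2 * m + 1) (hj : j < 2 * m + 1) :
    ¬ 1 * 2 ^ i + (1 + 2 ^ (m + 1)) * 2 ^ j ≡ 0 [MOD 2 ^ (2 * m + 1) - 1] := by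
  intro h
  have hd : (2 ^ (2 * m + 1) - 1) ∣ 1 * 2 ^ i + (1 + 2 ^ (m + 1)) * 2 ^ j := (Nat.modEq_zero_iff_dvd).mp h
  have h1 : 1 * 2 ^ i + (1 + 2 ^ (m + 1)) * 2 ^ j = 2 ^ i + 2 ^ j + 2 ^ (m + 1 + j) := by ring
  rw [h1] at hd
  rcases Nat.lt_or_ge (m + 1 + j) (2 * m + 1) with hlt | hge
  · exact three_pow_ne (n := 2 * m + 1) (by omega) hi hj hlt hd
  · obtain ⟨k, hk⟩ : ∃ k, m + 1 + j = (2 * m + 1) + k := ⟨m + 1 + j - (2 * m + 1), by omega⟩
    have hkn : k < 2 * m + 1 := by omega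
    apply three_pow_ne (n := 2 * m + 1) (by omega) hi hj hkn
    have h2 : 2 ^ i + 2 ^ j + 2 ^ (m + 1 + j) = (2 ^ i + 2 ^ j + 2 ^ k) + (2 ^ (2 * m + 1) - 1) * 2 ^ k := by
      rw [hk, pow_add 2 (2 * m + 1) k]
      have : 1 ≤ 2 ^ (2 * m + 1) := Nat.one_le_two_pow
      obtain ⟨N, hN⟩ : ∃ N, 2 ^ (2 * m + 1) = N + 1 := ⟨2 ^ (2 * m + 1) - 1, by omega⟩
      rw [hN, Nat.add_sub_cancel]
      ring
    rw [h2] at hd
    exact (Nat.dvd_add_left (dvd_mul_right _ _)).mp hd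

/-- biadditive maps with weights `μ`, `μ ^ (1 + θ)` vanish for `q > 8`. -/
theorem zero_of_invariant' {F : Type*} [Field F] [Fintype F] {m : ℕ} (hm : 2 ≤ m)
    (hF : Fintype.card F = 2 ^ (2 * m + 1)) (f : F → F → F)
    (h1 : ∀ x x' y, f (x + x') y = f x y + f x' y)
    (h2 : ∀ x y y', f x (y + y') = f x y + f x y')
    (h : ∀ l x y : F, l ≠ 0 → f (l * x) (l ^ (1 + 2 ^ (m + 1)) * y) = f x y) (x y : F) : f x y = 0 := by
  obtain ⟨c, hc⟩ := exists_coeff₂ hF (by omega) f h1 h2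
  have hz : ∀ i j : Fin (2 * m + 1), c i j = 0 := by
    intro i j
    apply coeff₂_eq_zero_of_equivariant hF (by omega) c 1 (1 + 2 ^ (m + 1)) 0
    · intro μ x y hμ
      rw [← hc, ← hc, pow_one, pow_zero, one_mul]
      exact h μ x y hμ
    · exact two_pow_add_ne' hm i.2 j.2
  rw [hc]
  simp [hz]

section cov

variable {m : ℕ} {F : Type*} [Field F] {S : Type*} [Group S] {A : Type*} [Group A]
variable {C : Data m F S} {π : A →* S} {P : Subgroup A} {t : A}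

/-- No cover with an involution in the derived group of `P` for `q > 8`. -/
theorem false_of_cov [Fintype F] [CharP F 2] (K : Cov C π P t) (hm : 2 ≤ m) (hF : Fintype.card F = 2 ^ (2 * m + 1))
    (hcom : (⟨t, K.t_mem⟩ : P) ∈ commutator P) : False := by
  obtain ⟨zh, Z, hval, hleft, hright⟩ := K.main (by omega) hF hcom
  choose xl hxP hxl using fun a => K.from_p a 0
  have hkey : ∀ x ∈ P, ∀ x' ∈ P, ∀ a b b', π x = C.p a b → π x' = C.p a b' → ∀ c,
      ⁅x, zh c⁆ = ⁅x', zh c⁆ := by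
    intro x hx x' hx' a b b' hab hab' c
    have h1 : x' = x * (x⁻¹ * x') := by group
    have hy : π (x⁻¹ * x') = C.p 0 (b + a ^ (1 + 2 ^ (m + 1)) + b' + a ^ (2 ^ (m + 1)) * a) := by
      rw [map_mul, map_inv, hab, hab', C.p_inv, C.p_mul, CharTwo.add_self_eq_zero]
    have h2 : ⁅x⁻¹ * x', zh c⁆ = 1 :=
      K.comm_z (by omega) hF (P.mul_mem (P.inv_mem hx) hx') (Z.mem c) hy (Z.pi c)
    rw [h1, K.cl (by rw [h2, map_one]), h2, mul_one]
  have h0 := zero_of_invariant' hm hF (fun a c => Cov.io F ⁅xl a, zh c⁆)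
    (by
      intro a a' c
      show Cov.io F ⁅xl (a + a'), zh c⁆ = Cov.io F ⁅xl a, zh c⁆ + Cov.io F ⁅xl a', zh c⁆
      rw [← K.io_mul (hval _ (hxP _) _) (hval _ (hxP _) _), ← K.cl (Cov.pi_comm_zh Z (hxl a') c)]
      congr 1
      apply hkey _ (hxP _) _ (P.mul_mem (hxP _) (hxP _)) (a + a') 0 (0 + 0 + a ^ (2 ^ (m + 1)) * a') (hxl _)
      rw [map_mul, hxl, hxl, C.p_mul])
    (by
      intro a c c'
      show Cov.io F ⁅xl a, zh (c + c')⁆ = Cov.io F ⁅xl a, zh c⁆ + Cov.io F ⁅xl a, zh c'⁆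
      rw [← K.io_mul (hval _ (hxP _) _) (hval _ (hxP _) _), ← K.cr (Cov.pi_comm_zh Z (hxl a) c'), Z.add])
    (by
      intro l a c hl
      show Cov.io F ⁅xl (l * a), zh (l ^ (1 + 2 ^ (m + 1)) * c)⁆ = Cov.io F ⁅xl a, zh c⁆
      congr 1
      obtain ⟨g, hg⟩ := K.tor (Units.mk0 l hl)
      have h3 := Z.conj g _ hg c
      rw [Units.val_mk0] at h3
      have h4 := K.pi_conj hg (hxl a)
      rw [Units.val_mk0] at h4
      rw [hkey _ (hxP (l * a)) _ (K.tor_P g _ hg _ (hxP a)) (l * a) 0 _ (hxl _) h4, ← h3, ← Cov.conj_comm,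
        ← K.cen _ (Cov.pi_comm_zh Z (hxl a) c) g, mul_inv_cancel_right])
  obtain ⟨c, hc⟩ := hleft (xl 1) (hxP 1) 1 0 (hxl 1) one_ne_zero
  have h3 := h0 1 c
  have h4 : ⁅xl 1, zh c⁆ = 1 := Cov.io_eq_zero h3
  rw [hc] at h4
  exact K.t_one h4

end cov

/-- A nontrivial finite abelian 2-group has a subgroup of index 2. -/
theorem exists_index_two {Z : Type*} [Group Z] [Finite Z] (hZ : IsPGroup 2 Z) (h1 : Nat.card Z ≠ 1) :
    ∃ N : Subgroup Z, N.index = 2 := by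
  have : Fact (Nat.Prime 2) := ⟨Nat.prime_two⟩
  obtain ⟨k, hk⟩ := (IsPGroup.iff_card).mp hZ
  have hk0 : k ≠ 0 := by
    rintro rfl
    exact h1 (by rw [hk, pow_zero])
  obtain ⟨j, rfl⟩ := Nat.exists_eq_succ_of_ne_zero hk0
  obtain ⟨N, hN⟩ := Sylow.exists_subgroup_card_pow_prime (G := Z) 2 (n := j) (by
    rw [hk]; exact pow_dvd_pow _ (Nat.le_succ j))
  refine ⟨N, ?_⟩
  have h2 := N.card_mul_index
  rw [hN, hk, Nat.succ_eq_add_one, pow_succ] at h2
  exact Nat.eq_of_mul_eq_mul_left (by positivity) h2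

/-- `X` perfect, `Z(X)` a 2-group, `X / Z(X) ≅ Sz(q)`, `q > 8`: `Z(X) = 1`. -/
theorem center_eq_bot {X : Type*} [Group X] [Finite X] (hX : commutator X = ⊤) (hZ : IsPGroup 2 (Subgroup.center X))
    {F : Type*} [Field F] [Fintype F] {m : ℕ} (hm : 2 ≤ m) (hF : Fintype.card F = 2 ^ (2 * m + 1))
    (e : X ⧸ Subgroup.center X ≃* ↥(Cfsg.Lie.Sz F (2 ^ (m + 1)))) : Subgroup.center X = ⊥ := by
  by_contra hne
  have hchar := EquivMaps.charP_two hF
  obtain ⟨π, P, B⟩ := exists_base (by omega) hF e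
  obtain ⟨N₀, hN₀⟩ := exists_index_two hZ (fun h => hne (Subgroup.eq_bot_of_card_eq _ h))
  let N : Subgroup X := N₀.map (Subgroup.center X).subtype
  have hNZ : N ≤ Subgroup.center X := Subgroup.map_subtype_le _
  have hNn : N.Normal := by
    refine ⟨fun n hn g => ?_⟩
    rw [Subgroup.mem_center_iff.mp (hNZ hn) g, mul_inv_cancel_right]
    exact hn
  have hN2 : ∀ a ∈ Subgroup.center X, ∀ b ∈ Subgroup.center X, a ∉ N → b ∉ N → a * b ∈ N := by
    intro a ha b hb haN hbN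
    have h1 : (⟨a, ha⟩ : Subgroup.center X) ∉ N₀ := fun h => haN ⟨_, h, rfl⟩
    have h2 : (⟨b, hb⟩ : Subgroup.center X) ∉ N₀ := fun h => hbN ⟨_, h, rfl⟩
    have h3 := (Subgroup.mul_mem_iff_of_index_two hN₀ (a := ⟨a, ha⟩) (b := ⟨b, hb⟩)).mpr
      (iff_of_false h1 h2)
    exact ⟨_, h3, rfl⟩
  obtain ⟨c, hcZ, hcN⟩ : ∃ c ∈ Subgroup.center X, c ∉ N := by
    by_contra hcon
    push Not at hcon
    have : N₀ = ⊤ := by
      rw [Subgroup.eq_top_iff']
      intro x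
      obtain ⟨y, hy, hyx⟩ := hcon x x.2
      have : y = x := Subtype.ext hyx
      rwa [← this]
    rw [this, Subgroup.index_top] at hN₀
    omega
  let ρ : X →* X ⧸ N := QuotientGroup.mk' N
  have hρ : Function.Surjective ρ := QuotientGroup.mk'_surjective N
  have hρ1 : ∀ x, ρ x = 1 ↔ x ∈ N := fun x => QuotientGroup.eq_one_iff x
  let π' : X ⧸ N →* ↥(Cfsg.Lie.Sz F (2 ^ (m + 1))) := QuotientGroup.lift N π
    (fun x hx => (B.ker x).mpr (hNZ hx))
  have hπ' : ∀ x, π' (ρ x) = π x := fun x => rfl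
  have hcP : ∀ z ∈ Subgroup.center X, z ∈ P := by
    intro z hz
    refine (B.mem z).mpr ⟨⟨0, 0, by rw [(B.ker z).mpr hz, (szData hF).p_zero]⟩, ?_⟩
    obtain ⟨k, hk⟩ := hZ ⟨z, hz⟩
    exact ⟨k, congrArg Subtype.val hk⟩
  have hcen' : ∀ z ∈ Subgroup.center X, ∀ y, ρ z * y = y * ρ z := by
    intro z hz y
    obtain ⟨y, rfl⟩ := hρ y
    rw [← map_mul, ← map_mul, Subgroup.mem_center_iff.mp hz y]
  have K : Cov (szData hF) π' (P.map ρ) (ρ c) :=
    { cen := by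
        intro x hx y
        obtain ⟨x, rfl⟩ := hρ x
        exact hcen' x ((B.ker x).mp hx) y
      to_p := by
        rintro _ ⟨x, hx, rfl⟩
        exact ((B.mem x).mp hx).1
      from_p := by
        intro a b
        obtain ⟨x, hx, hxab⟩ := B.lift a b
        exact ⟨ρ x, ⟨x, hx, rfl⟩, hxab⟩
      tor := by
        intro l
        obtain ⟨g, hg⟩ := B.surj ((szData hF).h l)
        exact ⟨ρ g, hg⟩
      tor_P := by
        rintro g l hg _ ⟨x, hx, rfl⟩
        obtain ⟨g, rfl⟩ := hρ g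
        exact ⟨g * x * g⁻¹, B.tor_P g l hg x hx, by rw [map_mul, map_mul, map_inv]⟩
      t_mem := ⟨c, hcP c hcZ, rfl⟩
      t_one := fun h => hcN ((hρ1 c).mp h)
      t_sq := by
        rw [← map_mul, hρ1]
        exact hN2 c hcZ c hcZ hcN hcN
      t_ker := (B.ker c).mpr hcZ
      uniq := by
        rintro _ ⟨x, hx, rfl⟩ hx1 -
        have hxZ : x ∈ Subgroup.center X := (B.ker x).mp hx1
        by_cases hxN : x ∈ N
        · exact Or.inl ((hρ1 x).mpr hxN)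
        · right
          have h3 : x * c⁻¹ ∈ N := hN2 x hxZ c⁻¹ (inv_mem hcZ) hxN (fun h => hcN (by simpa using N.inv_mem h))
          rw [← mul_inv_eq_one, ← map_inv, ← map_mul, hρ1]
          exact h3 }
  have hodd : Odd (P.map ρ).index := B.odd.of_dvd_nat (P.index_map_dvd hρ)
  have htop : commutator (X ⧸ N) = ⊤ := by
    rw [_root_.commutator_def, ← Subgroup.map_top_of_surjective ρ hρ, ← Subgroup.map_commutator, ← _root_.commutator_def, hX]
  have hcom : (⟨ρ c, K.t_mem⟩ : P.map ρ) ∈ commutator (P.map ρ) :=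
    mem_commutator_of_central (P.map ρ) hodd (ρ c) K.t_mem (hcen' c hcZ) K.t_sq (by rw [htop]; exact Subgroup.mem_top _)
  exact false_of_cov K hm hF hcom

end Cfsg.Agent.OddCyclic.CoverSz
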