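import Mathlib
import Cfsg.Agent.Solvable.UniqueOrderP
import Cfsg.Agent.TwoFusion.QuatCoverSL
import Cfsg.Agent.S0261
import Cfsg.Agent.Lib.PSL2Torus
import Cfsg.Agent.OddCyclic.CompBasic

/-!
# Central extensions of groups with dihedral Sylow 2-subgroups, `PSL(2,q)`, `q` odd

* `mem_commutator_of_center`: a central `p`-element of a perfect group lies in the derived group of a Sylow
  `p`-subgroup;
* `Dih`: data of a Sylow 2-subgroup generated (modulo the centre) by `r`, `s`, `s r s⁻¹ = r⁻¹`;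
* `sl_two_of_perfect`: a perfect central extension of `PSL(2,F)`, `|F|` odd, by a 2-group is `PSL(2,F)` or `SL(2,F)`.
-/

set_option autoImplicit false

namespace Cfsg.Agent.OddCyclic.CoverTrans

open Subgroup
open scoped commutatorElement Pointwise

/-- A central element of `p`-power order of a perfect group lies in the derived group of a Sylow `p`-subgroup. -/
theorem mem_commutator_of_center {X : Type*} [Group X] [Finite X] (hX : commutator X = ⊤) {p : ℕ}
    [hp : Fact p.Prime] (P : Sylow p X) {z : X} (hz : z ∈ center X) {k : ℕ} (hzp : z ^ p ^ k = 1) :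
    z ∈ ⁅(P : Subgroup X), (P : Subgroup X)⁆ := by
  have hzP : z ∈ (P : Subgroup X) := by
    have h1 : IsPGroup p (zpowers z) := by
      rintro ⟨_, j, rfl⟩
      refine ⟨k, Subtype.ext ?_⟩
      show (z ^ j) ^ p ^ k = 1
      rw [← zpow_natCast, ← zpow_mul, mul_comm, zpow_mul, zpow_natCast, hzp, one_zpow]
    obtain ⟨Q, hQ⟩ := h1.exists_le_sylow
    obtain ⟨g, hg⟩ := MulAction.exists_smul_eq X Q P
    have h2 : z ∈ (Q : Subgroup X) := hQ (mem_zpowers z)
    have h3 : MulAut.conj g • z ∈ MulAut.conj g • (Q : Subgroup X) :=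
      Subgroup.smul_mem_pointwise_smul _ _ _ h2
    have h4 : MulAut.conj g • z = z := by
      show g * z * g⁻¹ = z
      rw [mem_center_iff.mp hz g, mul_inv_cancel_right]
    rw [h4] at h3
    rw [← hg]
    exact h3
  have key : ∀ (k : ℕ) (g₀ : X), g₀⁻¹ * z ^ k * g₀ ∈ (P : Subgroup X) →
      g₀⁻¹ * z ^ k * g₀ = z ^ k := by
    intro k g₀ _
    have h1 : g₀ * z ^ k = z ^ k * g₀ :=
      (mem_center_iff.mp ((center X).pow_mem hz k) g₀)
    rw [mul_assoc, ← h1, inv_mul_cancel_left]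
  have h2 := MonoidHom.transfer_eq_pow (Abelianization.of (G := (P : Subgroup X))) z key
  have h3 : z ∈ (MonoidHom.transfer (Abelianization.of (G := (P : Subgroup X)))).ker := by
    have h4 : (MonoidHom.transfer (Abelianization.of (G := (P : Subgroup X)))).ker = ⊤ := by
      rw [eq_top_iff, ← hX]
      exact Abelianization.commutator_subset_ker _
    rw [h4]; exact mem_top z
  rw [MonoidHom.mem_ker, h2] at h3
  have h5 : (⟨z ^ (P : Subgroup X).index, (P : Subgroup X).pow_mem hzP _⟩ : (P : Subgroup X)) ∈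
      commutator (P : Subgroup X) := (QuotientGroup.eq_one_iff _).mp h3
  have h6 : z ^ (P : Subgroup X).index ∈ ⁅(P : Subgroup X), (P : Subgroup X)⁆ := by
    have h7 : (commutator (P : Subgroup X)).map (P : Subgroup X).subtype =
        ⁅(P : Subgroup X), (P : Subgroup X)⁆ := by
      rw [_root_.commutator_def, Subgroup.map_commutator, ← MonoidHom.range_eq_map, Subgroup.range_subtype]
    rw [← h7]
    exact ⟨_, h5, rfl⟩
  have h7 : (P : Subgroup X).index.Coprime (p ^ k) :=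
    Nat.Coprime.pow_right _ ((Nat.Prime.coprime_iff_not_dvd hp.out).mpr P.not_dvd_index).symm
  have h8 : z ∈ zpowers (z ^ (P : Subgroup X).index) := by
    have h9 : orderOf z ∣ p ^ k := orderOf_dvd_of_pow_eq_one hzp
    have h10 : (P : Subgroup X).index.Coprime (orderOf z) := h7.coprime_dvd_right h9
    obtain ⟨m, hm⟩ := exists_pow_eq_self_of_coprime h10
    exact ⟨m, by simpa using hm⟩
  exact (zpowers_le.mpr h6) h8

section dihedral

variable {K : Type*} [Group K]

theorem commElt_mul_center {a b z : K} (hz : z ∈ center K) : ⁅a * z, b⁆ = ⁅a, b⁆ := by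
  have h := mem_center_iff.mp hz
  rw [commutatorElement_def, commutatorElement_def, mul_inv_rev, mul_assoc a z b, ← h b]
  group

theorem commElt_center_mul {a b z : K} (hz : z ∈ center K) : ⁅a, b * z⁆ = ⁅a, b⁆ := by
  rw [← commutatorElement_inv, commElt_mul_center hz, commutatorElement_inv]

/-- `T` is covered by `⟨R, S⟩ Z(K)`, `S R S⁻¹ = R⁻¹ z` -/
structure Dih (T : Subgroup K) (R S z : K) : Prop where
  z_mem : z ∈ center K
  conj : S * R * S⁻¹ = R⁻¹ * z
  sq : S * S ∈ center K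
  mem : ∀ x ∈ T, ∃ (i : ℤ) (w : K), w ∈ center K ∧ (x = R ^ i * w ∨ x = R ^ i * S * w)

theorem Dih.conj_zpow {T : Subgroup K} {R S z : K} (h : Dih T R S z) (i : ℤ) :
    S * R ^ i * S⁻¹ = R ^ (-i) * z ^ i := by
  rw [← _root_.conj_zpow, h.conj, (show Commute R⁻¹ z from mem_center_iff.mp h.z_mem R⁻¹).mul_zpow, inv_zpow,
    zpow_neg]

theorem Dih.y_zpow {T : Subgroup K} {R S z : K} (h : Dih T R S z) (i : ℤ) :
    (R * R * z⁻¹) ^ i = R ^ i * R ^ i * z ^ (-i) := by
  have h1 : Commute (R * R) z⁻¹ := mem_center_iff.mp (inv_mem h.z_mem) (R * R)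
  rw [h1.mul_zpow, (Commute.refl R).mul_zpow, inv_zpow, zpow_neg]

theorem Dih.commutator_le {T : Subgroup K} {R S z : K} (h : Dih T R S z) :
    ⁅T, T⁆ ≤ zpowers (R * R * z⁻¹) := by
  have hzc : ∀ (k : ℤ) (x : K), x * z ^ k = z ^ k * x := fun k x =>
    mem_center_iff.mp ((center K).zpow_mem h.z_mem k) x
  have key : ∀ i j : ℤ, R ^ i * (R ^ j * S) * (R ^ i)⁻¹ * (R ^ j * S)⁻¹ = (R * R * z⁻¹) ^ i := by
    intro i j
    have h1 := h.conj_zpow (-i)
    rw [neg_neg] at h1
    calc R ^ i * (R ^ j * S) * (R ^ i)⁻¹ * (R ^ j * S)⁻¹ 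
        = R ^ i * R ^ j * (S * R ^ (-i) * S⁻¹) * R ^ (-j) := by
          simp only [zpow_neg, mul_inv_rev]; group
      _ = R ^ i * R ^ j * (R ^ i * z ^ (-i)) * R ^ (-j) := by rw [h1]
      _ = R ^ i * R ^ j * R ^ i * (z ^ (-i) * R ^ (-j)) := by group
      _ = R ^ i * R ^ j * R ^ i * (R ^ (-j) * z ^ (-i)) := by rw [hzc (-i) (R ^ (-j))]
      _ = R ^ i * R ^ i * z ^ (-i) := by
          have : R ^ i * R ^ j * R ^ i * (R ^ (-j) * z ^ (-i)) = R ^ i * R ^ (j + i + -j) * z ^ (-i) := by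
            simp only [zpow_add, mul_assoc]
          rw [this]
          congr 3
          ring
      _ = (R * R * z⁻¹) ^ i := (h.y_zpow i).symm
  rw [Subgroup.commutator_le]
  intro a ha b hb
  obtain ⟨i, w, hw, ha⟩ := h.mem a ha
  obtain ⟨j, v, hv, hb⟩ := h.mem b hb
  rcases ha with rfl | rfl <;> rcases hb with rfl | rfl <;>
    rw [commElt_mul_center hw, commElt_center_mul hv]
  · have : ⁅R ^ i, R ^ j⁆ = 1 := by
      rw [commutatorElement_eq_one_iff_mul_comm, ← zpow_add, ← zpow_add, add_comm]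
    rw [this]
    exact one_mem _
  · exact ⟨i, (key i j).symm⟩
  · rw [← commutatorElement_inv]
    exact inv_mem ⟨j, (key j i).symm⟩
  · refine ⟨i - j, ?_⟩
    have h1 := h.conj_zpow (-(i - j))
    rw [neg_neg] at h1
    symm
    calc ⁅R ^ i * S, R ^ j * S⁆ = R ^ i * (S * R ^ (-(i - j)) * S⁻¹) * R ^ (-j) := by
          rw [commutatorElement_def]; simp only [mul_inv_rev]; group
      _ = R ^ i * (R ^ (i - j) * z ^ (-(i - j))) * R ^ (-j) := by rw [h1]
      _ = R ^ i * R ^ (i - j) * (z ^ (-(i - j)) * R ^ (-j)) := by group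
      _ = R ^ i * R ^ (i - j) * (R ^ (-j) * z ^ (-(i - j))) := by rw [hzc _ (R ^ (-j))]
      _ = R ^ (i - j) * R ^ (i - j) * z ^ (-(i - j)) := by
          rw [← mul_assoc, ← zpow_add, ← zpow_add, ← zpow_add]
          congr 2
          ring
      _ = (R * R * z⁻¹) ^ (i - j) := (h.y_zpow (i - j)).symm

/-- central elements of the derived group have square 1 -/
theorem Dih.sq_eq_one {T : Subgroup K} {R S z : K} (h : Dih T R S z) {c : K} (hc : c ∈ center K)
    (hcT : c ∈ ⁅T, T⁆) : c * c = 1 := by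
  obtain ⟨k, hk⟩ := h.commutator_le hcT
  have hk : (R * R * z⁻¹) ^ k = c := hk
  have hy : S * (R * R * z⁻¹) * S⁻¹ = (R * R * z⁻¹)⁻¹ := by
    have hz := mem_center_iff.mp h.z_mem
    have hz' := mem_center_iff.mp (inv_mem h.z_mem)
    calc S * (R * R * z⁻¹) * S⁻¹ = (S * R * S⁻¹) * (S * R * S⁻¹) * (S * z⁻¹ * S⁻¹) := by group
      _ = (R⁻¹ * z) * (R⁻¹ * z) * z⁻¹ := by rw [h.conj, hz' S, mul_inv_cancel_right]
      _ = R⁻¹ * (z * R⁻¹) := by group
      _ = R⁻¹ * (R⁻¹ * z) := by rw [hz]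
      _ = (R * R)⁻¹ * z := by group
      _ = z * (R * R)⁻¹ := hz _
      _ = (R * R * z⁻¹)⁻¹ := by group
  have h1 : S * c * S⁻¹ = c⁻¹ := by
    rw [← hk, ← _root_.conj_zpow, hy, inv_zpow]
  rw [mem_center_iff.mp hc S, mul_inv_cancel_right] at h1
  rw [mul_eq_one_iff_eq_inv]
  exact h1

end dihedral

/-- In a cyclic group an element of square 1 is determined. -/
theorem eq_of_sq_of_mem_zpowers {K : Type*} [Group K] [Finite K] {y a b : K} (ha : a ∈ zpowers y) (hb : b ∈ zpowers y)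
    (ha1 : a ≠ 1) (hb1 : b ≠ 1) (ha2 : a * a = 1) (hb2 : b * b = 1) : a = b := by
  have h1 : orderOf (⟨a, ha⟩ : zpowers y) = 2 := by
    rw [Subgroup.orderOf_mk]; exact orderOf_eq_prime (by rw [sq, ha2]) ha1
  have h2 : orderOf (⟨b, hb⟩ : zpowers y) = 2 := by
    rw [Subgroup.orderOf_mk]; exact orderOf_eq_prime (by rw [sq, hb2]) hb1
  have hy : IsCyclic (zpowers y) := inferInstance
  have h3 := CompBasic.zpowers_eq_of_cyclic (h1.trans h2.symm)
  have h4 : (⟨a, ha⟩ : zpowers y) ∈ zpowers (⟨b, hb⟩ : zpowers y) := h3 ▸ mem_zpowers _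
  obtain ⟨k, hk⟩ := h4
  have hk : b ^ k = a := congrArg Subtype.val hk
  rcases Int.even_or_odd' k with ⟨m, rfl | rfl⟩
  · exfalso
    apply ha1
    rw [← hk, zpow_mul, zpow_two, hb2, one_zpow]
  · rw [← hk, zpow_add, zpow_mul, zpow_two, hb2, one_zpow, one_mul, zpow_one]

section psl

/-- `QuaternionGroup n` is generated by `r = a 1`, `s = xa 0`. -/
theorem quat_mem {n : ℕ} (x : QuaternionGroup n) : ∃ i : ℤ,
    x = (QuaternionGroup.a 1) ^ i ∨ x = (QuaternionGroup.a 1) ^ i * QuaternionGroup.xa 0 := by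
  have h1 : ∀ k : ℤ, (QuaternionGroup.a 1 : QuaternionGroup n) ^ k = QuaternionGroup.a (k : ZMod (2 * n)) := by
    intro k
    have h2 : ∀ m : ℕ, (QuaternionGroup.a 1 : QuaternionGroup n) ^ m = QuaternionGroup.a (m : ZMod (2 * n)) :=
      fun m => by rw [QuaternionGroup.a_one_pow]
    obtain ⟨m, rfl | rfl⟩ := Int.eq_nat_or_neg k
    · rw [zpow_natCast, h2]; simp
    · rw [zpow_neg, zpow_natCast, h2]
      simp only [Int.cast_neg, Int.cast_natCast]
      rfl
  rcases x with i | i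
  · obtain ⟨k, hk⟩ := ZMod.intCast_surjective i
    exact ⟨k, Or.inl (by rw [h1, hk])⟩
  · obtain ⟨k, hk⟩ := ZMod.intCast_surjective (-i)
    exact ⟨k, Or.inr (by rw [h1, hk, QuaternionGroup.a_mul_xa, zero_sub, neg_neg])⟩

variable {K : Type*} [Group K] [Finite K] {F : Type*} [Field F] [Finite F]

/-- The Sylow 2-subgroups of `PSL(2,F)`, `|F|` odd, are dihedral. -/
theorem exists_dihedral {L : Type*} [Group L] (hF : Odd (Nat.card F))
    (e : L ≃* Matrix.ProjectiveSpecialLinearGroup (Fin 2) F) :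
    ∃ (P : Sylow 2 L) (r s : L), s ≠ 1 ∧ s * s = 1 ∧ r * s ≠ 1 ∧
      s * r * s⁻¹ = r⁻¹ ∧
      ∀ x ∈ (P : Subgroup L), ∃ i : ℤ, x = r ^ i ∨ x = r ^ i * s := by
  classical
  have := Fintype.ofFinite F
  have hF' : Odd (Fintype.card F) := by rwa [← Nat.card_eq_fintype_card]
  have h2 := TwoFusion.QuatCoverSL.two_ne_zero_of_odd hF'
  obtain ⟨π, hπ, hk⟩ := Lib.PSL2Torus.exists_hom h2 e
  obtain ⟨Q⟩ : Nonempty (Sylow 2 (Matrix.SpecialLinearGroup (Fin 2) F)) := inferInstance
  obtain ⟨k, hk1, ⟨f⟩⟩ := S0261.result hF' Q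
  obtain ⟨n, hn⟩ : ∃ n : ℕ, n = 2 ^ k := ⟨_, rfl⟩
  rw [← hn] at f
  have hn0 : n ≠ 0 := by rw [hn]; positivity
  have : NeZero n := ⟨hn0⟩
  let g : QuaternionGroup n →* Matrix.SpecialLinearGroup (Fin 2) F := (Subgroup.subtype _).comp f.symm.toMonoidHom
  have hg : Function.Injective g := (Subgroup.subtype_injective _).comp f.symm.injective
  -- squares of the elements `xa i`
  have hsq : ∀ i : ZMod (2 * n), g (QuaternionGroup.xa i) * g (QuaternionGroup.xa i) = -1 := by
    intro i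
    have h3 : (QuaternionGroup.xa i : QuaternionGroup n) * QuaternionGroup.xa i = QuaternionGroup.a n := by
      rw [QuaternionGroup.xa_mul_xa, add_sub_cancel_right]
    rw [← map_mul, h3]
    apply TwoFusion.QuatCoverSL.eq_neg_one_of_orderOf_two hF'
    rw [orderOf_injective g hg]
    have h4 : (QuaternionGroup.a (n : ZMod (2 * n)) : QuaternionGroup n) = (QuaternionGroup.a 1) ^ n := by
      rw [QuaternionGroup.a_one_pow]
    rw [h4, orderOf_pow, QuaternionGroup.orderOf_a_one]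
    rw [Nat.gcd_mul_left_left, Nat.mul_div_cancel _ (Nat.pos_of_ne_zero hn0)]
  have hne : ∀ i : ZMod (2 * n), π (g (QuaternionGroup.xa i)) ≠ 1 := by
    intro i h3
    rcases (hk _).mp h3 with h4 | h4
    · have h5 := hsq i
      rw [h4, one_mul] at h5
      exact TwoFusion.QuatCoverSL.neg_one_ne_one hF' h5.symm
    · have h5 := hsq i
      rw [h4, neg_mul_neg, one_mul] at h5
      exact TwoFusion.QuatCoverSL.neg_one_ne_one hF' h5.symm
  have hsq' : ∀ i : ZMod (2 * n), π (g (QuaternionGroup.xa i)) * π (g (QuaternionGroup.xa i)) = 1 := by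
    intro i
    rw [← map_mul, hsq, hk]
    exact Or.inr rfl
  refine ⟨Q.mapSurjective hπ, π (g (QuaternionGroup.a 1)), π (g (QuaternionGroup.xa 0)), hne 0, hsq' 0, ?_, ?_, ?_⟩
  · rw [← map_mul, ← map_mul, QuaternionGroup.a_mul_xa]
    exact hne _
  · rw [← map_inv, ← map_mul, ← map_mul, ← map_inv, ← map_inv, ← map_mul, ← map_mul, ← map_inv]
    congr 2
    rw [mul_inv_eq_iff_eq_mul, QuaternionGroup.xa_mul_a]
    show _ = QuaternionGroup.a (-1) * QuaternionGroup.xa 0
    rw [QuaternionGroup.a_mul_xa]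
    congr 1
    ring
  · intro x hx
    rw [Sylow.coe_mapSurjective] at hx
    obtain ⟨y, hy, rfl⟩ := hx
    obtain ⟨i, h | h⟩ := quat_mem (f ⟨y, hy⟩)
    · refine ⟨i, Or.inl ?_⟩
      have h5 : y = g (f ⟨y, hy⟩) := (congrArg Subtype.val (f.symm_apply_apply ⟨y, hy⟩)).symm
      rw [h5, h, map_zpow, map_zpow]
    · refine ⟨i, Or.inr ?_⟩
      have h5 : y = g (f ⟨y, hy⟩) := (congrArg Subtype.val (f.symm_apply_apply ⟨y, hy⟩)).symm
      rw [h5, h, map_mul, map_mul, map_zpow, map_zpow]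

/-- A perfect central extension of `PSL(2,F)`, `|F|` odd, by a 2-group is `PSL(2,F)` or `SL(2,F)`. -/
theorem sl_two_of_perfect (hK : commutator K = ⊤) (hZ : IsPGroup 2 (center K)) (hF : Odd (Nat.card F))
    (e : K ⧸ center K ≃* Matrix.ProjectiveSpecialLinearGroup (Fin 2) F) :
    center K = ⊥ ∨ Nonempty (K ≃* Matrix.SpecialLinearGroup (Fin 2) F) := by
  classical
  have := Fintype.ofFinite F
  have hF' : Odd (Fintype.card F) := by rwa [← Nat.card_eq_fintype_card]
  have h2 := TwoFusion.QuatCoverSL.two_ne_zero_of_odd hF'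
  by_cases hbot : center K = ⊥
  · exact Or.inl hbot
  right
  obtain ⟨P₀, r, s, hs1, hs2, hrs1, hrs, hP₀⟩ := exists_dihedral hF e
  let π : K →* K ⧸ center K := QuotientGroup.mk' (center K)
  have hπ : Function.Surjective π := QuotientGroup.mk'_surjective _
  have hk : ∀ x, π x = 1 ↔ x ∈ center K := fun x => QuotientGroup.eq_one_iff x
  obtain ⟨R, hR⟩ := hπ r
  obtain ⟨S, hS⟩ := hπ s
  obtain ⟨P, hP⟩ := Sylow.mapSurjective_surjective hπ 2 P₀
  have hPmem : ∀ x ∈ (P : Subgroup K), π x ∈ (P₀ : Subgroup (K ⧸ center K)) := by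
    intro x hx
    rw [← hP, Sylow.coe_mapSurjective]
    exact ⟨x, hx, rfl⟩
  obtain ⟨z, hz⟩ : ∃ z, z = R * (S * R * S⁻¹) := ⟨_, rfl⟩
  have hzc : z ∈ center K := by
    rw [← hk, hz, map_mul, map_mul, map_mul, map_inv, hR, hS, hrs, mul_inv_cancel]
  have hSS : S * S ∈ center K := by rw [← hk, map_mul, hS, hs2]
  have hD : Dih (P : Subgroup K) R S z := by
    refine ⟨hzc, ?_, hSS, ?_⟩
    · rw [hz, inv_mul_cancel_left]
    · intro x hx
      obtain ⟨i, h | h⟩ := hP₀ _ (hPmem x hx)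
      · refine ⟨i, (R ^ i)⁻¹ * x, ?_, Or.inl (by group)⟩
        rw [← hk, map_mul, map_inv, map_zpow, hR, h, inv_mul_cancel]
      · refine ⟨i, (R ^ i * S)⁻¹ * x, ?_, Or.inr (by group)⟩
        rw [← hk, map_mul, map_inv, map_mul, map_zpow, hR, hS, h, inv_mul_cancel]
  have hZP : ∀ c ∈ center K, c ∈ ⁅(P : Subgroup K), (P : Subgroup K)⁆ := by
    intro c hc
    obtain ⟨j, hj⟩ := hZ ⟨c, hc⟩
    exact mem_commutator_of_center hK P hc (congrArg Subtype.val hj)
  have hsqc : ∀ c ∈ center K, c * c = 1 := fun c hc => hD.sq_eq_one hc (hZP c hc)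
  obtain ⟨z₀, hz₀, hz₀1⟩ : ∃ z₀ ∈ center K, z₀ ≠ 1 := by
    by_contra hcon
    push Not at hcon
    exact hbot ((eq_bot_iff_forall _).mpr hcon)
  have hZ0 : ∀ c ∈ center K, c = 1 ∨ c = z₀ := by
    intro c hc
    by_cases hc1 : c = 1
    · exact Or.inl hc1
    · exact Or.inr (eq_of_sq_of_mem_zpowers (hD.commutator_le (hZP c hc)) (hD.commutator_le (hZP z₀ hz₀)) hc1 hz₀1
        (hsqc c hc) (hsqc z₀ hz₀))
  -- the only involution
  have huniq : ∀ u : K, u ≠ 1 → u * u = 1 → u = z₀ := by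
    intro u hu1 hu2
    by_contra hu3
    have huZ : u ∉ center K := fun h => (hZ0 u h).elim hu1 hu3
    have hπu : π u ≠ 1 := fun h => huZ ((hk u).mp h)
    have hπu2 : π u * π u = 1 := by rw [← map_mul, hu2, map_one]
    have hall : ∀ v : K, π v ≠ 1 → π v * π v = 1 → v * v = 1 := by
      intro v hv1 hv2
      obtain ⟨g, hg⟩ := Lib.PSL2Torus.conj_inv h2 e hπu hπu2 hv1 hv2
      obtain ⟨g, rfl⟩ := hπ g
      obtain ⟨w, hw⟩ : ∃ w, w = (g * u * g⁻¹)⁻¹ * v := ⟨_, rfl⟩
      have hwc : w ∈ center K := by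
        rw [← hk, hw, map_mul, map_inv, map_mul, map_mul, map_inv, hg, inv_mul_cancel]
      have hv : v = g * u * g⁻¹ * w := by rw [hw, mul_inv_cancel_left]
      calc v * v = (g * u * g⁻¹) * (w * (g * u * g⁻¹)) * w := by rw [hv]; group
        _ = (g * u * g⁻¹) * ((g * u * g⁻¹) * w) * w := by rw [mem_center_iff.mp hwc (g * u * g⁻¹)]
        _ = g * (u * u) * g⁻¹ * (w * w) := by group
        _ = 1 := by rw [hu2, hsqc w hwc]; group
    have hS2 : S * S = 1 := hall S (by rw [hS]; exact hs1) (by rw [hS]; exact hs2)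
    have hRS2 : (R * S) * (R * S) = 1 := by
      apply hall
      · rw [map_mul, hR, hS]; exact hrs1
      · rw [map_mul, hR, hS]
        have : s * r = r⁻¹ * s := by rw [← hrs]; group
        calc r * s * (r * s) = r * (s * r) * s := by group
          _ = r * (r⁻¹ * s) * s := by rw [this]
          _ = s * s := by group
          _ = 1 := hs2
    have hz1 : z = 1 := by
      calc z = (R * S) * (R * S) * (S * S)⁻¹ := by rw [hz]; group
        _ = 1 := by rw [hRS2, hS2]; group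
    obtain ⟨k, hk'⟩ := hD.commutator_le (hZP z₀ hz₀)
    have hk' : (R * R * z⁻¹) ^ k = z₀ := hk'
    rw [hD.y_zpow, hz1, one_zpow, mul_one] at hk'
    by_cases hRk : π (R ^ k) = 1
    · exact hz₀1 (by rw [← hk']; exact hsqc _ ((hk _).mp hRk))
    · apply hz₀1
      rw [← hk']
      apply hall _ hRk
      rw [← map_mul, hk']
      exact (hk _).mpr hz₀
  -- the Sylow 2-subgroup is quaternion
  have hU : Solvable.UniqueOrderP.UniqueP 2 (P : Subgroup K) := by
    rw [Solvable.UniqueOrderP.uniqueP_def]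
    intro x y hx1 hx2 hy2
    have hx : (x : K) = z₀ := huniq x (fun h => hx1 (Subtype.ext h)) (by rw [← sq]; exact congrArg Subtype.val hx2)
    by_cases hy1 : y = 1
    · rw [hy1]; exact one_mem _
    have hy : (y : K) = z₀ := huniq y (fun h => hy1 (Subtype.ext h)) (by rw [← sq]; exact congrArg Subtype.val hy2)
    rw [show y = x from Subtype.ext (hy.trans hx.symm)]
    exact mem_zpowers x
  rcases Solvable.UniqueOrderP.cyclic_or_quaternion P.isPGroup' hU with hcyc | ⟨-, m, hm, ⟨f⟩⟩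
  · exfalso
    apply hz₀1
    have h5 : ⁅(P : Subgroup K), (P : Subgroup K)⁆ = ⊥ := by
      rw [commutator_eq_bot_iff_le_centralizer]
      intro x hx
      rw [mem_centralizer_iff]
      intro y hy
      obtain ⟨g, hg⟩ := hcyc.exists_generator
      obtain ⟨i, hi⟩ := hg ⟨x, hx⟩
      obtain ⟨j, hj⟩ := hg ⟨y, hy⟩
      have hi : (g : K) ^ i = x := congrArg Subtype.val hi
      have hj : (g : K) ^ j = y := congrArg Subtype.val hj
      rw [← hi, ← hj, ← zpow_add, ← zpow_add, add_comm]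
    have h6 := hZP z₀ hz₀
    rw [h5] at h6
    exact h6
  · have hZeq : center K = zpowers z₀ := by
      apply le_antisymm
      · intro c hc
        rcases hZ0 c hc with rfl | rfl
        · exact one_mem _
        · exact mem_zpowers _
      · rwa [zpowers_le]
    have hord : orderOf z₀ = 2 := orderOf_eq_prime (by rw [sq]; exact hsqc z₀ hz₀) hz₀1
    have hn : (zpowers z₀).Normal := hZeq ▸ inferInstance
    exact TwoFusion.QuatCoverSL.mulEquiv_sl_two z₀ hz₀ hord P m (Nat.one_le_iff_ne_zero.mpr hm) f hF'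
      ((QuotientGroup.quotientMulEquivOfEq hZeq).symm.trans e)

end psl

end Cfsg.Agent.OddCyclic.CoverTrans
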