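import Mathlib
import Cfsg.Agent.OddCyclic.PumpMain
import Cfsg.Agent.OddCyclic.CoverTrans
import Cfsg.Agent.OddCyclic.CoverSz
import Cfsg.Agent.OddCyclic.T1Socle

/-!
# The quasisimple groups over the list `KZero`

`cover`: `K` quasisimple with cyclic odd Sylow subgroups, `K / Z(K)` in the list `KZero`: `K` is `PSL(2,p)`, `SL(2,p)`,
`PSL(2,2^f)`, `Sz(q)`, `J₁` or a proper cover of `Sz(8)`.
-/

set_option autoImplicit false

namespace Cfsg.Agent.OddCyclic.CompCovers

open Subgroup Cfsg.Agent.OddCyclic.T1Defs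
open Cfsg.Agent.OddCyclic.CompBasic Cfsg.Agent.OddCyclic.PumpMain
open Cfsg.Agent.SporRec.J1.Defs (Local)
open scoped commutatorElement

section transport

variable {K : Type*} [Group K] {L : Type*} [Group L]

theorem map_centralizer (e : K ≃* L) (x : K) :
    (centralizer ({x} : Set K)).map e.toMonoidHom = centralizer ({e x} : Set L) := by
  ext y
  rw [mem_centralizer_singleton_iff]
  constructor
  · rintro ⟨z, hz, rfl⟩
    have hz := mem_centralizer_singleton_iff.mp hz
    show e z * e x = e x * e z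
    rw [← map_mul, ← map_mul, hz]
  · intro hy
    refine ⟨e.symm y, ?_, e.apply_symm_apply y⟩
    rw [SetLike.mem_coe, mem_centralizer_singleton_iff]
    apply e.injective
    rw [map_mul, map_mul, e.apply_symm_apply, hy]

/-- the isomorphism of centralizers -/
noncomputable def centEquiv (e : K ≃* L) (x : K) :
    centralizer ({x} : Set K) ≃* centralizer ({e x} : Set L) :=
  (e.subgroupMap (centralizer ({x} : Set K))).trans (MulEquiv.subgroupCongr (map_centralizer e x))

theorem mem_F (e : K ≃* L) (x y : K) : y ∈ SporRec.J1.Defs.F x ↔ e y ∈ SporRec.J1.Defs.F (e x) := by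
  have h1 : SporRec.J1.Defs.F (e x) = (SporRec.J1.Defs.F x).map e.toMonoidHom := by
    rw [SporRec.J1.Defs.F, SporRec.J1.Defs.F, Subgroup.map_commutator, map_centralizer]
  rw [h1]
  constructor
  · intro h
    exact ⟨y, h, rfl⟩
  · rintro ⟨z, hz, hzy⟩
    have : z = y := e.injective hzy
    rwa [← this]

theorem local_of_equiv (e : K ≃* L) (h : Local L) : Local K where
  conj := by
    intro x y hx hy
    obtain ⟨g, hg⟩ := h.conj (e x) (e y) (by rw [e.orderOf_eq, hx]) (by rw [e.orderOf_eq, hy])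
    refine ⟨e.symm g, e.injective ?_⟩
    rw [map_mul, map_mul, map_inv, e.apply_symm_apply, hg]
  cent := by
    intro x hx
    obtain ⟨f⟩ := h.cent (e x) (by rw [e.orderOf_eq, hx])
    exact ⟨(centEquiv e x).trans f⟩
  two := by rw [Nat.card_congr e.toEquiv]; exact h.two
  typeRule := by
    intro x y hx hy hxy hc
    rw [mem_F e, mem_F e]
    exact h.typeRule (e x) (e y) (by rw [e.orderOf_eq, hx]) (by rw [e.orderOf_eq, hy])
      (fun h => hxy (e.injective h)) (by rw [← map_mul, ← map_mul, hc])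
  cent3 := by
    intro w hw
    rw [Nat.card_congr (centEquiv e w).toEquiv]
    exact h.cent3 (e w) (by rw [e.orderOf_eq, hw])
  cent5 := by
    intro w hw
    rw [Nat.card_congr (centEquiv e w).toEquiv]
    exact h.cent5 (e w) (by rw [e.orderOf_eq, hw])

end transport

/-- `PSL(2,4) ≅ PSL(2,5)` -/
theorem psl_four_equiv {F : Type*} [Field F] [Fintype F] (hF : Fintype.card F = 4) :
    Nonempty (Matrix.ProjectiveSpecialLinearGroup (Fin 2) F ≃*
      Matrix.ProjectiveSpecialLinearGroup (Fin 2) (ZMod 5)) := by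
  have c1 : Nat.card (Matrix.ProjectiveSpecialLinearGroup (Fin 2) F) = 60 := by
    rw [ClassicalGeometry.PSL2Basic.card_PSL2_even F (by rw [hF]; decide), hF]
    norm_num
  have : Fact (Nat.Prime 5) := ⟨by norm_num⟩
  have c2 : Nat.card (Matrix.ProjectiveSpecialLinearGroup (Fin 2) (ZMod 5)) = 60 := by
    have h := ClassicalGeometry.PSL2Basic.card_PSL2_odd (ZMod 5) (by rw [ZMod.card]; decide)
    rw [ZMod.card] at h
    omega
  obtain ⟨e1⟩ := T1Socle.equiv_alternating (F' := F) (by rw [hF]; norm_num) c1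
  obtain ⟨e2⟩ := T1Socle.equiv_alternating (F' := ZMod 5) (by rw [ZMod.card]; norm_num) c2
  exact ⟨e1.trans e2.symm⟩

variable {K : Type*} [Group K] [Finite K]

/-- the centre is a 2-group -/
theorem isPGroup_center (hG : OddCyc K) (hK : Group.IsPerfect K) : IsPGroup 2 (center K) := by
  rw [IsPGroup.iff_card]
  have h1 : ∀ p : ℕ, p.Prime → p ∣ Nat.card (center K) → p = 2 := by
    intro p hp hd
    by_contra h2
    have : Fact p.Prime := ⟨hp⟩
    obtain ⟨z, hz⟩ := exists_prime_orderOf_dvd_card' p hd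
    exact false_of_center hG hK hp h2 (z := (z : K)) z.2 (by rw [Subgroup.orderOf_coe]; exact hz)
  exact ⟨_, Nat.eq_prime_pow_of_unique_prime_dvd Nat.card_pos.ne' (fun {d} hd hdd => h1 d hd hdd)⟩

omit [Finite K] in
theorem equiv_of_center (h : center K = ⊥) : Nonempty (K ≃* K ⧸ center K) :=
  ⟨QuotientGroup.quotientBot.symm.trans (QuotientGroup.quotientMulEquivOfEq h.symm)⟩

/-- **The quasisimple groups over the list.** -/
theorem cover (hG : OddCyc K) (hK : IsQuasisimple K) (h : KZero (K ⧸ center K)) :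
    (∃ (F : Type) (_ : Field F) (_ : Fintype F), (Fintype.card F).Prime ∧ 5 ≤ Fintype.card F ∧
      Nonempty (K ≃* Matrix.ProjectiveSpecialLinearGroup (Fin 2) F)) ∨
    (∃ (F : Type) (_ : Field F) (_ : Fintype F), (Fintype.card F).Prime ∧ 5 ≤ Fintype.card F ∧
      Nonempty (K ≃* Matrix.SpecialLinearGroup (Fin 2) F)) ∨
    IsL2Two K ∨ Cfsg.Lie.IsoSuzuki K ∨ (Local K ∧ ∃ k : K, orderOf k = 2) ∨
    (center K ≠ ⊥ ∧ ∃ (F : Type) (_ : Field F) (_ : Fintype F), Fintype.card F = 8 ∧
      Nonempty (K ⧸ center K ≃* ↥(Cfsg.Lie.Sz F 4))) := by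
  have hp : commutator K = ⊤ := hK.1.commutator_eq_top
  have h2 : IsPGroup 2 (center K) := isPGroup_center hG hK.1
  have hodd : ∀ (F : Type) [Field F] [Fintype F], (Fintype.card F).Prime → 5 ≤ Fintype.card F →
      (K ⧸ center K ≃* Matrix.ProjectiveSpecialLinearGroup (Fin 2) F) →
      Nonempty (K ≃* Matrix.ProjectiveSpecialLinearGroup (Fin 2) F) ∨
      Nonempty (K ≃* Matrix.SpecialLinearGroup (Fin 2) F) := by
    intro F _ _ hF h5 e
    rcases CoverTrans.sl_two_of_perfect hp h2 (by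
      rw [Nat.card_eq_fintype_card]; exact hF.odd_of_ne_two (by omega)) e with hb | hs
    · obtain ⟨f⟩ := equiv_of_center hb
      exact Or.inl ⟨f.trans e⟩
    · exact Or.inr hs
  rcases h with ⟨F, i1, i2, hF, h5, ⟨e⟩⟩ | ⟨F, i1, i2, f, hf, hF, ⟨e⟩⟩ | h | ⟨h, k, hk⟩
  · rcases hodd F hF h5 e with h | h
    · exact Or.inl ⟨F, i1, i2, hF, h5, h⟩
    · exact Or.inr (Or.inl ⟨F, i1, i2, hF, h5, h⟩)
  · have h4 : 4 ≤ Fintype.card F := by
      rw [hF]
      calc 4 = 2 ^ 2 := by norm_num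
        _ ≤ 2 ^ f := Nat.pow_le_pow_right (by norm_num) hf
    rcases h4.eq_or_lt with h5 | h5
    · obtain ⟨e'⟩ := psl_four_equiv h5.symm
      have : Fact (Nat.Prime 5) := ⟨by norm_num⟩
      have hc : Fintype.card (ZMod 5) = 5 := ZMod.card 5
      rcases hodd (ZMod 5) (by rw [hc]; norm_num) (by rw [hc]) (e.trans e') with h | h
      · exact Or.inl ⟨ZMod 5, inferInstance, inferInstance, by rw [hc]; norm_num, by rw [hc], h⟩
      · exact Or.inr (Or.inl ⟨ZMod 5, inferInstance, inferInstance, by rw [hc]; norm_num, by rw [hc], h⟩)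
    · obtain ⟨g⟩ := equiv_of_center (center_eq_bot_of_two hG hK.1 hF h5 e)
      exact Or.inr (Or.inr (Or.inl ⟨F, i1, i2, f, hf, hF, ⟨g.trans e⟩⟩))
  · obtain ⟨F, i1, i2, m, hm, hF, ⟨e⟩⟩ := h
    by_cases hb : center K = ⊥
    · obtain ⟨g⟩ := equiv_of_center hb
      exact Or.inr (Or.inr (Or.inr (Or.inl ⟨F, i1, i2, m, hm, hF, ⟨g.trans e⟩⟩)))
    · rcases hm.eq_or_lt with h1 | h1
      · subst h1
        exact Or.inr (Or.inr (Or.inr (Or.inr (Or.inr ⟨hb, F, i1, i2, hF, ⟨e⟩⟩))))
      · exact absurd (CoverSz.center_eq_bot hp h2 h1 hF e) hb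
  · obtain ⟨g⟩ := equiv_of_center (center_eq_bot_of_local hG hK.1 h hk)
    exact Or.inr (Or.inr (Or.inr (Or.inr (Or.inl ⟨local_of_equiv g h, g.symm k, by rw [g.symm.orderOf_eq, hk]⟩))))

end Cfsg.Agent.OddCyclic.CompCovers
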