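import Cfsg.Agent.OddCyclic.CaseAFive
import Cfsg.Agent.OddCyclic.CaseATools
import Cfsg.Agent.OddCyclic.CaseASinger

/-!
# S0342, component type, case A: A4 (vi)

`N_G(E) = C_G(E) (M ∩ N_G(E))`, by the Singer lemma.
-/

set_option autoImplicit false

namespace Cfsg.Agent.OddCyclic.CaseASix

open Subgroup
open scoped Pointwise
open Cfsg.Agent.LieExceptional Cfsg.Agent.LieExceptional.CITDefs
open Cfsg.Agent.LieExceptional.CITBasic
open Cfsg.Agent.OddCyclic.T1Tools Cfsg.Agent.OddCyclic.T1Defs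
open Cfsg.Agent.OddCyclic.CompBasic Cfsg.Agent.OddCyclic.CompStandard
open Cfsg.Agent.OddCyclic.CaseADefs Cfsg.Agent.OddCyclic.CaseABase
open Cfsg.Agent.OddCyclic.CaseACount Cfsg.Agent.OddCyclic.CaseAFour
open Cfsg.Agent.OddCyclic.CaseADelta Cfsg.Agent.OddCyclic.CaseAKer
open Cfsg.Agent.OddCyclic.CaseAFive Cfsg.Agent.OddCyclic.CaseATools
open Cfsg.Agent.OddCyclic.CaseASinger

/-! ### the class `KZ` -/

theorem kz_congr {A B : Type*} [Group A] [Group B] (e : A ≃* B) (h : KZ A) : KZ B := by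
  rcases h with ⟨F, i, j, h1, h2, ⟨f⟩⟩ | ⟨F, i, j, n, h1, h2, ⟨f⟩⟩ | h | ⟨h1, h2⟩
  · exact Or.inl ⟨F, i, j, h1, h2, ⟨e.symm.trans f⟩⟩
  · exact Or.inr (Or.inl ⟨F, i, j, n, h1, h2, ⟨e.symm.trans f⟩⟩)
  · obtain ⟨F, i, j, m, h1, h2, ⟨f⟩⟩ := h
    exact Or.inr (Or.inr (Or.inl ⟨F, i, j, m, h1, h2, ⟨e.symm.trans f⟩⟩))
  · refine Or.inr (Or.inr (Or.inr ⟨by rw [← h1]; exact Nat.card_congr e.symm.toEquiv, ?_⟩))
    intro r s hr hs hr2 hrs x y hx hy hxy
    refine h2 r s hr hs hr2 hrs (e.symm x) (e.symm y) ?_ ?_ ?_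
    · rw [← hx]; exact orderOf_injective e.symm.toMonoidHom e.symm.injective x
    · rw [← hy]; exact orderOf_injective e.symm.toMonoidHom e.symm.injective y
    · rw [← map_mul, hxy, map_mul]

/-- every simple nonabelian section of a proper subgroup is in the class -/
def SecKZ (G : Type*) [Group G] : Prop :=
  ∀ L : Subgroup G, L ≠ ⊤ → ∀ (N : Subgroup L) [N.Normal], IsSimpleGroup (L ⧸ N) →
    (∃ a b : L ⧸ N, a * b ≠ b * a) → KZ (L ⧸ N)

variable {G : Type*} [Group G] [Finite G] {p : ℕ} {K R E H : Subgroup G} {q : ℕ}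

/-- subgroups of odd prime order of `L` are conjugate in `L` -/
theorem conj_zpowers (hG : OddCyc G) {L : Subgroup G} {r : ℕ} (hr : r.Prime) (hr2 : r ≠ 2)
    {x y : G} (hx : x ∈ L) (hy : y ∈ L) (hxr : orderOf x = r) (hyr : orderOf y = r) :
    ∃ l ∈ L, l * y * l⁻¹ ∈ zpowers x := by
  have hrf : Fact r.Prime := ⟨hr⟩
  have hxo : orderOf (⟨x, hx⟩ : L) = r := by rw [Subgroup.orderOf_mk, hxr]
  have hyo : orderOf (⟨y, hy⟩ : L) = r := by rw [Subgroup.orderOf_mk, hyr]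
  have hxp : IsPGroup r (zpowers (⟨x, hx⟩ : L)) := IsPGroup.of_card (n := 1) (by
    rw [Nat.card_zpowers, hxo, pow_one])
  have hyp : IsPGroup r (zpowers (⟨y, hy⟩ : L)) := IsPGroup.of_card (n := 1) (by
    rw [Nat.card_zpowers, hyo, pow_one])
  obtain ⟨P, hP⟩ := hxp.exists_le_sylow
  obtain ⟨Q, hQ⟩ := hyp.exists_le_sylow
  obtain ⟨g, hg⟩ := MulAction.exists_smul_eq L Q P
  have hxP : (⟨x, hx⟩ : L) ∈ (P : Subgroup L) := hP (mem_zpowers _)
  have hyP : g * ⟨y, hy⟩ * g⁻¹ ∈ (P : Subgroup L) := by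
    rw [← hg]
    exact ⟨⟨y, hy⟩, hQ (mem_zpowers _), rfl⟩
  have := oddCyc_subgroup hG L r P hr hr2
  have h1 : zpowers (⟨⟨x, hx⟩, hxP⟩ : P) = zpowers (⟨g * ⟨y, hy⟩ * g⁻¹, hyP⟩ : P) := by
    apply zpowers_eq_of_cyclic
    rw [Subgroup.orderOf_mk, hxo, Subgroup.orderOf_mk, orderOf_conj, hyo]
  have h2 : (⟨g * ⟨y, hy⟩ * g⁻¹, hyP⟩ : P) ∈ zpowers (⟨⟨x, hx⟩, hxP⟩ : P) := by
    rw [h1]; exact mem_zpowers _
  obtain ⟨n, hn⟩ := h2
  refine ⟨g, g.2, n, ?_⟩
  have h3 : (⟨x, hx⟩ : L) ^ n = g * ⟨y, hy⟩ * g⁻¹ := congrArg Subtype.val hn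
  exact congrArg Subtype.val h3

/-- `C_G(E) (M ∩ N_G(E))` -/
def TT (K E : Subgroup G) : Subgroup G :=
  centralizer (E : Set G) ⊔ (normalizer (K : Set G) ⊓ normalizer (E : Set G))

theorem H_le_ME (b : Beta K R E H q) :
    H ≤ normalizer (K : Set G) ⊓ normalizer (E : Set G) := fun x hx =>
  ⟨Subgroup.le_normalizer (b.bor.leH hx), mem_normalizer_of_forall (b.bor.norm x hx)⟩

omit [Finite G] in
theorem norm_C {n : G} (hn : n ∈ normalizer (E : Set G)) :
    ∀ c ∈ centralizer (E : Set G), n * c * n⁻¹ ∈ centralizer (E : Set G) :=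
  forall_of_mem_normalizer (normalizer_le_centralizer E hn)

/-- an element `n` of `N_G(E)` which normalizes `⟨x⟩`, `x ∈ H`, modulo `C_G(E)`, is in
`C_G(E) (M ∩ N_G(E))` -/
theorem mem_TT (h : Std p K) (b : Beta K R E H q) {n x : G} (hn : n ∈ normalizer (E : Set G))
    {r : ℕ} (hr : r.Prime) (hx : x ∈ H) (hxr : orderOf x = r) {k : ℤ}
    (hk : n * x * n⁻¹ * (x ^ k)⁻¹ ∈ centralizer (E : Set G)) : n ∈ TT K E := by
  have hr2 : r ≠ 2 := by
    rintro rfl
    have h1 : 2 ∣ q - 1 := by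
      rw [← b.bor.cardH, ← hxr]
      have := finite_H b
      exact H.orderOf_dvd_natCard hx
    exact (Nat.not_even_iff_odd.mpr (odd_card_H b.l2)) (even_iff_two_dvd.mpr h1)
  have hx1 : x ≠ 1 := by
    rintro rfl
    rw [orderOf_one] at hxr
    exact hr.one_lt.ne hxr
  have hxME := H_le_ME b hx
  set C := centralizer (E : Set G) with hC
  set L : Subgroup G := C ⊔ zpowers x with hL
  have hLT : L ≤ TT K E := sup_le_sup_left (zpowers_le.mpr hxME) _
  have hyL : n * x * n⁻¹ ∈ L := by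
    have : n * x * n⁻¹ = (n * x * n⁻¹ * (x ^ k)⁻¹) * x ^ k := by group
    rw [this]
    exact Subgroup.mul_mem _ (mem_sup_left hk) (mem_sup_right ⟨k, rfl⟩)
  obtain ⟨l, hl, hlx⟩ := conj_zpowers h.cyc hr hr2 (L := L) (mem_sup_right (mem_zpowers x)) hyL hxr
    (by rw [orderOf_conj, hxr])
  have hlT := hLT hl
  have hCN : C ≤ normalizer (E : Set G) := centralizer_le_normalizer _
  have hlN : l ∈ normalizer (E : Set G) := by
    have : L ≤ normalizer (E : Set G) := sup_le hCN (zpowers_le.mpr hxME.2)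
    exact this hl
  -- `n₁ = l n` normalizes `⟨x⟩`
  set n₁ := l * n with hn₁
  have hn₁N : n₁ ∈ normalizer (E : Set G) := Subgroup.mul_mem _ hlN hn
  have hn₁x : n₁ * x * n₁⁻¹ ∈ zpowers x := by
    have : n₁ * x * n₁⁻¹ = l * (n * x * n⁻¹) * l⁻¹ := by rw [hn₁]; group
    rw [this]; exact hlx
  -- `D = C_C(x)`
  set D : Subgroup G := C ⊓ centralizer ({x} : Set G) with hD
  have hgen : ∀ d : G, d * (n₁ * x * n₁⁻¹) = (n₁ * x * n₁⁻¹) * d → d * x = x * d := by
    intro d hd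
    have h1 : zpowers (n₁ * x * n₁⁻¹) = zpowers x := by
      apply Subgroup.eq_of_le_of_card_ge (zpowers_le.mpr hn₁x)
      rw [Nat.card_zpowers, Nat.card_zpowers, orderOf_conj]
    have h2 : x ∈ zpowers (n₁ * x * n₁⁻¹) := by rw [h1]; exact mem_zpowers x
    obtain ⟨m, hm⟩ := h2
    have h3 : Commute d ((n₁ * x * n₁⁻¹) ^ m) := (show Commute d _ from hd).zpow_right m
    rw [show (n₁ * x * n₁⁻¹) ^ m = x from hm] at h3
    exact h3
  have hDn : cj n₁ D = D := by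
    apply Subgroup.eq_of_le_of_card_ge
    · rintro _ ⟨d, hd, rfl⟩
      refine ⟨norm_C hn₁N d hd.1, ?_⟩
      refine mem_centralizer_singleton_iff.mpr (hgen _ ?_)
      have h1 : d * x = x * d := mem_centralizer_singleton_iff.mp hd.2
      simp only [MulEquiv.coe_toMonoidHom, MulAut.conj_apply]
      calc n₁ * d * n₁⁻¹ * (n₁ * x * n₁⁻¹) = n₁ * (d * x) * n₁⁻¹ := by group
        _ = n₁ * (x * d) * n₁⁻¹ := by rw [h1]
        _ = n₁ * x * n₁⁻¹ * (n₁ * d * n₁⁻¹) := by group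
    · rw [card_cj]
  have hRC : R ≤ C := le_sup_left.trans (V_le_C b)
  have hRD : IsSyl2 D R := by
    refine ⟨le_inf hRC ?_, b.sylR.two, fun U hU hU2 hle => ?_⟩
    · intro r hr
      exact mem_centralizer_singleton_iff.mpr (comm_KY x (b.bor.leH hx) r (b.sylR.le hr)).symm
    · exact eq_R h b hU2 hle (hU.trans inf_le_left) hx hx1
        (fun u hu => mem_centralizer_singleton_iff.mp (hU hu).2)
  have hRD' : IsSyl2 D (cj n₁ R) := by
    have := isSyl2_cj n₁ hRD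
    rwa [hDn] at this
  obtain ⟨d, hd, hdR⟩ := isSyl2_conj hRD' hRD
  rw [← cj_mul] at hdR
  have h1 : d * n₁ ∈ normalizer (R : Set G) := cj_eq_iff.mp hdR.symm
  have h2 : d * n₁ ∈ normalizer (K : Set G) ⊓ normalizer (E : Set G) :=
    ⟨normR_le h b h1, Subgroup.mul_mem _ (hCN hd.1) hn₁N⟩
  have h3 : d * n₁ ∈ TT K E := mem_sup_right h2
  have h4 : d ∈ TT K E := mem_sup_left hd.1
  have h5 : n = l⁻¹ * (d⁻¹ * (d * n₁)) := by rw [hn₁]; group
  rw [h5]
  exact Subgroup.mul_mem _ (Subgroup.inv_mem _ hlT)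
    (Subgroup.mul_mem _ (Subgroup.inv_mem _ h4) h3)

theorem mem_TT_iff {x : G} : x ∈ TT K E ↔ ∃ c ∈ centralizer (E : Set G),
    ∃ m ∈ normalizer (K : Set G) ⊓ normalizer (E : Set G), x = c * m :=
  mem_sup_iff fun _ hs => norm_C (Subgroup.mem_inf.mp hs).2

/-! ### the Singer lemma -/

omit [Finite G] in
theorem normE_ne_top [IsSimpleGroup G] (b : Beta K R E H q) : normalizer (E : Set G) ≠ ⊤ := by
  intro htop
  have hn : E.Normal := Subgroup.normalizer_eq_top_iff.mp htop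
  obtain ⟨e, he, he1⟩ := exists_E_ne b
  rcases hn.eq_bot_or_eq_top with h1 | h1
  · rw [h1, Subgroup.mem_bot] at he
    exact he1 he
  · have h4 := b.l2.four
    have h2 : H = ⊥ := by
      rw [eq_bot_iff]
      intro x hx
      rw [Subgroup.mem_bot]
      exact H_inf b.l2 b.bor hx (by rw [h1]; exact Subgroup.mem_top _)
    have h3 := b.bor.cardH
    rw [h2, Subgroup.card_bot] at h3
    omega

/-- the action of `N_G(E)` on `E` -/
noncomputable abbrev act (E : Subgroup G) : normalizer (E : Set G) →* MulAut E :=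
  E.normalizerMonoidHom

omit [Finite G] in
theorem act_apply (n : normalizer (E : Set G)) (e : E) :
    ((act E n e : E) : G) = (n : G) * e * (n : G)⁻¹ := rfl

omit [Finite G] in
theorem act_eq_one_iff (n : normalizer (E : Set G)) :
    act E n = 1 ↔ (n : G) ∈ centralizer (E : Set G) := by
  rw [← MonoidHom.mem_ker, normalizerMonoidHom_ker, Subgroup.mem_subgroupOf]

/-- the image of `H` -/
noncomputable def HX (E H : Subgroup G) : Subgroup (act E).range :=
  (H.subgroupOf (normalizer (E : Set G))).map (act E).rangeRestrict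

omit [Finite G] in
theorem mem_HX {x : (act E).range} : x ∈ HX E H ↔ ∃ h : normalizer (E : Set G), (h : G) ∈ H ∧
    (act E).rangeRestrict h = x := by
  constructor
  · rintro ⟨y, hy, rfl⟩
    exact ⟨y, Subgroup.mem_subgroupOf.mp hy, rfl⟩
  · rintro ⟨y, hy, rfl⟩
    exact ⟨y, Subgroup.mem_subgroupOf.mpr hy, rfl⟩

omit [Finite G] in
theorem rangeRestrict_surj (x : (act E).range) :
    ∃ n : normalizer (E : Set G), (act E).rangeRestrict n = x :=
  MonoidHom.rangeRestrict_surjective _ x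

/-- the image of an element of `M ∩ N_G(E)` normalizes `HX` -/
theorem norm_HX (b : Beta K R E H q) {n : normalizer (E : Set G)}
    (hn : (n : G) ∈ normalizer (K : Set G)) :
    (act E).rangeRestrict n ∈ normalizer (HX E H : Set (act E).range) := by
  refine mem_normalizer_of_forall fun x hx => ?_
  obtain ⟨h₁, hh₁, rfl⟩ := mem_HX.mp hx
  have h1 : (n : G) * h₁ * (n : G)⁻¹ ∈ K := forall_of_mem_normalizer hn _ (b.bor.leH hh₁)
  have h2 : ∀ e ∈ E, ((n : G) * h₁ * (n : G)⁻¹) * e * ((n : G) * h₁ * (n : G)⁻¹)⁻¹ ∈ E :=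
    forall_of_mem_normalizer (n * h₁ * n⁻¹).2
  obtain ⟨e, he, x₁, hx₁, hex⟩ := b.bor.nK _ h1 h2
  refine mem_HX.mpr ⟨⟨x₁, (H_le_ME b hx₁).2⟩, hx₁, ?_⟩
  have h3 : (act E).rangeRestrict ⟨e, Subgroup.le_normalizer he⟩ = 1 := by
    apply Subtype.ext
    show act E ⟨e, _⟩ = 1
    rw [act_eq_one_iff]
    exact V_le_C b (mem_sup_right he)
  have h4 : n * h₁ * n⁻¹ = (⟨e, Subgroup.le_normalizer he⟩ : normalizer (E : Set G)) *
      ⟨x₁, (H_le_ME b hx₁).2⟩ := Subtype.ext hex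
  rw [← map_mul, ← map_inv, ← map_mul, h4, map_mul, h3, one_mul]

omit [Finite G] in
theorem inj_HX (b : Beta K R E H q) {x y : normalizer (E : Set G)} (hx : (x : G) ∈ H)
    (hy : (y : G) ∈ H) (hxy : (act E).rangeRestrict x = (act E).rangeRestrict y) : x = y := by
  have h1 : act E (x⁻¹ * y) = 1 := by
    have h2 : act E x = act E y := congrArg Subtype.val hxy
    rw [map_mul, map_inv, h2, inv_mul_cancel]
  rw [act_eq_one_iff] at h1
  have h2 : (x : G)⁻¹ * y = 1 := H_comm_E b (H.mul_mem (H.inv_mem hx) hy)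
    (fun e he => (mem_centralizer_iff.mp h1 e he).symm)
  exact Subtype.ext (inv_mul_eq_one.mp h2)

omit [Finite G] in
theorem rr_one {c : G} (hc : c ∈ centralizer (E : Set G)) (hcN : c ∈ normalizer (E : Set G)) :
    (act E).rangeRestrict ⟨c, hcN⟩ = 1 := by
  apply Subtype.ext
  show act E ⟨c, _⟩ = 1
  rw [act_eq_one_iff]; exact hc

omit [Finite G] in
theorem order_rr (b : Beta K R E H q) {x : normalizer (E : Set G)} (hx : (x : G) ∈ H) :
    orderOf ((act E).rangeRestrict x) = orderOf (x : G) := by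
  rw [orderOf_eq_orderOf_iff]
  intro n
  rw [← map_pow]
  constructor
  · intro hn
    have h1 : act E (x ^ n) = 1 := congrArg Subtype.val hn
    rw [act_eq_one_iff] at h1
    exact H_comm_E b (H.pow_mem hx n) (fun e he => (mem_centralizer_iff.mp h1 e he).symm)
  · intro hn
    have h1 : x ^ n = 1 := Subtype.ext hn
    rw [h1, map_one]

theorem mem_TT_rr (h : Std p K) (b : Beta K R E H q) {n x : normalizer (E : Set G)} {r : ℕ}
    (hr : r.Prime) (hx : (x : G) ∈ H) (hxr : orderOf (x : G) = r) {k : ℤ}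
    (hk : (act E).rangeRestrict n * (act E).rangeRestrict x * ((act E).rangeRestrict n)⁻¹ =
      (act E).rangeRestrict x ^ k) : (n : G) ∈ TT K E := by
  refine mem_TT h b n.2 hr hx hxr (k := k) ?_
  have h1 : act E (n * x * n⁻¹ * (x ^ k)⁻¹) = 1 := by
    have h2 : act E n * act E x * (act E n)⁻¹ = (act E x) ^ k := congrArg Subtype.val hk
    rw [map_mul, map_mul, map_mul, map_inv, map_inv, map_zpow, h2, mul_inv_cancel]
  rw [act_eq_one_iff] at h1
  exact h1

/-- **(vi)** -/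
theorem normal_HX [IsSimpleGroup G] (h : Std p K) (b : Beta K R E H q) (hsec : SecKZ G)
    (h8 : q = 8 → normalizer (K : Set G) ≤ K ⊔ centralizer (K : Set G)) :
    (HX E H).Normal := by
  have hfH := finite_H b
  have hcyc := b.bor.cyc
  have hcX : IsCyclic (HX E H) := by
    have h1 : IsCyclic (H.subgroupOf (normalizer (E : Set G))) := by
      have hle : H ≤ normalizer (E : Set G) := fun x hx => (H_le_ME b hx).2
      exact isCyclic_of_surjective (Subgroup.subgroupOfEquivOfLe hle).symm.toMonoidHom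
        (Subgroup.subgroupOfEquivOfLe hle).symm.surjective
    exact isCyclic_of_surjective ((act E).rangeRestrict.subgroupMap _)
      ((act E).rangeRestrict.subgroupMap_surjective _)
  have hodc : OddCyc (act E).range := by
    have h1 := oddCyc_quotient (oddCyc_subgroup h.cyc (normalizer (E : Set G))) (act E).ker
    exact oddCyc_of_injective h1 (QuotientGroup.quotientKerEquivRange (act E)).symm.toMonoidHom
      (QuotientGroup.quotientKerEquivRange (act E)).symm.injective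
  refine singer (X := (act E).range) (E := E) ?_ ?_ hodc ?_ (HX E H) ?_ ?_ ?_
  · intro v
    exact Subtype.ext (b.bor.elem v v.2)
  · rw [b.bor.cardE]; exact b.l2.four
  · -- simple normal subgroups are sections of `N_G(E)`
    intro B hB hBs hBn
    set N := normalizer (E : Set G) with hN
    have hNtop := normE_ne_top b
    set L₀ : Subgroup N := B.comap (act E).rangeRestrict with hL₀
    set L : Subgroup G := L₀.map N.subtype with hL
    have hLN : L ≤ N := Subgroup.map_subtype_le _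
    have hLtop : L ≠ ⊤ := fun hh => hNtop (top_le_iff.mp (hh ▸ hLN))
    let ψ₀ : L₀ →* B := ((act E).rangeRestrict.comp L₀.subtype).codRestrict B (fun x => x.2)
    have hψ₀ : Function.Surjective ψ₀ := by
      rintro ⟨x, hx⟩
      obtain ⟨n, hn⟩ := rangeRestrict_surj x
      exact ⟨⟨n, by rw [hL₀, Subgroup.mem_comap, hn]; exact hx⟩, Subtype.ext hn⟩
    let ψ : L →* B :=
      ψ₀.comp (L₀.equivMapOfInjective N.subtype N.subtype_injective).symm.toMonoidHom
    have hψ : Function.Surjective ψ :=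
      hψ₀.comp (L₀.equivMapOfInjective N.subtype N.subtype_injective).symm.surjective
    have e := QuotientGroup.quotientKerEquivOfSurjective ψ hψ
    refine kz_congr e (hsec L hLtop ψ.ker ?_ ?_)
    · exact e.isSimpleGroup
    · obtain ⟨a, c, hac⟩ := hBn
      refine ⟨e.symm a, e.symm c, fun hh => hac ?_⟩
      rw [← map_mul, ← map_mul] at hh
      exact e.symm.injective hh
  · -- regularity
    intro v w hv hw
    have hv1 : (v : G) ≠ 1 := fun hh => hv (Subtype.ext hh)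
    have hw1 : (w : G) ≠ 1 := fun hh => hw (Subtype.ext hh)
    obtain ⟨x, hx, hxe⟩ := H_trans_E b v.2 hv1 w.2 hw1
    have hxN : x ∈ normalizer (E : Set G) := (H_le_ME b hx).2
    refine ⟨⟨(act E).rangeRestrict ⟨x, hxN⟩, mem_HX.mpr ⟨⟨x, hxN⟩, hx, rfl⟩⟩,
      Subtype.ext hxe, ?_⟩
    rintro ⟨y, hy⟩ hyv
    obtain ⟨z, hz, rfl⟩ := mem_HX.mp hy
    apply Subtype.ext
    have h1 : (z : G) * v * (z : G)⁻¹ = w := congrArg Subtype.val hyv
    have h2 : ((z : G)⁻¹ * x) * v = v * ((z : G)⁻¹ * x) := by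
      calc ((z : G)⁻¹ * x) * v = (z : G)⁻¹ * (x * v * x⁻¹) * x := by group
        _ = (z : G)⁻¹ * ((z : G) * v * (z : G)⁻¹) * x := by rw [hxe, h1]
        _ = v * ((z : G)⁻¹ * x) := by group
    have hzx := H.mul_mem (H.inv_mem hz) hx
    have h3 := H_inf b.l2 b.bor hzx (b.bor.cent v v.2 hv1 _ (b.bor.leH hzx) h2)
    have h4 : (z : G) = x := inv_mul_eq_one.mp h3
    have h5 : z = ⟨x, hxN⟩ := Subtype.ext h4
    show (act E).rangeRestrict z = (act E).rangeRestrict ⟨x, hxN⟩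
    rw [h5]
  · -- `N_X(X_r) ≤ N_X(HX)`
    intro r hr x hx hxr n hn
    obtain ⟨x₁, hx₁, rfl⟩ := mem_HX.mp hx
    obtain ⟨n₁, rfl⟩ := rangeRestrict_surj n
    rw [order_rr b hx₁] at hxr
    obtain ⟨k, hk⟩ := hn
    have h1 := mem_TT_rr h b hr hx₁ hxr (n := n₁) (k := k) hk.symm
    obtain ⟨c, hc, m, hm, hcm⟩ := mem_TT_iff.mp h1
    have hcN : c ∈ normalizer (E : Set G) := centralizer_le_normalizer _ hc
    have h2 : n₁ = (⟨c, hcN⟩ : normalizer (E : Set G)) * ⟨m, hm.2⟩ := Subtype.ext hcm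
    rw [h2, map_mul, rr_one hc, one_mul]
    exact norm_HX b hm.1
  · -- `q = 8`
    intro hE8 n hn
    rw [b.bor.cardE] at hE8
    obtain ⟨n₁, rfl⟩ := rangeRestrict_surj n
    have hr7 : Nat.Prime 7 := by norm_num
    have hf7 : Fact (Nat.Prime 7) := ⟨hr7⟩
    have hcH : Nat.card H = 7 := by rw [b.bor.cardH, hE8]
    obtain ⟨⟨x, hxH⟩, hx7⟩ := exists_prime_orderOf_dvd_card' (G := H) 7 (by rw [hcH])
    rw [Subgroup.orderOf_mk] at hx7
    have hxN : x ∈ normalizer (E : Set G) := (H_le_ME b hxH).2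
    have hgen : zpowers x = H := by
      apply Subgroup.eq_of_le_of_card_ge (zpowers_le.mpr hxH)
      rw [Nat.card_zpowers, hx7, hcH]
    have h1 := forall_of_mem_normalizer hn ((act E).rangeRestrict ⟨x, hxN⟩)
      (mem_HX.mpr ⟨⟨x, hxN⟩, hxH, rfl⟩)
    obtain ⟨z, hz, hzx⟩ := mem_HX.mp h1
    have hz' := hz
    rw [← hgen] at hz'
    obtain ⟨k, hk⟩ := hz'
    have hzk : z = (⟨x, hxN⟩ : normalizer (E : Set G)) ^ k := Subtype.ext hk.symm
    have h2 := mem_TT_rr h b hr7 hxH hx7 (n := n₁) (x := ⟨x, hxN⟩) (k := k) (by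
      rw [← hzx, hzk, map_zpow])
    obtain ⟨c, hc, m, hm, hcm⟩ := mem_TT_iff.mp h2
    have hcN : c ∈ normalizer (E : Set G) := centralizer_le_normalizer _ hc
    have h3 : n₁ = (⟨c, hcN⟩ : normalizer (E : Set G)) * ⟨m, hm.2⟩ := Subtype.ext hcm
    rw [h3, map_mul, rr_one hc, one_mul]
    obtain ⟨k₁, hk₁, y, hy, hmk⟩ := mem_KY.mp (h8 hE8 hm.1)
    have hyC : y ∈ centralizer (E : Set G) := by
      rw [mem_centralizer_iff]
      intro e he
      exact comm_KY e (b.sylE.le he) y hy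
    have hyN : y ∈ normalizer (E : Set G) := centralizer_le_normalizer _ hyC
    have hkN : k₁ ∈ normalizer (E : Set G) := by
      have : k₁ = m * y⁻¹ := by rw [hmk]; group
      rw [this]
      exact Subgroup.mul_mem _ hm.2 (Subgroup.inv_mem _ hyN)
    obtain ⟨e, he, x₂, hx₂, hke⟩ := b.bor.nK k₁ hk₁ (forall_of_mem_normalizer hkN)
    have h4 : (⟨m, hm.2⟩ : normalizer (E : Set G)) = ⟨e, Subgroup.le_normalizer he⟩ *
        ⟨x₂, (H_le_ME b hx₂).2⟩ * ⟨y, hyN⟩ := Subtype.ext (by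
          show m = e * x₂ * y
          rw [hmk, hke])
    rw [h4, map_mul, map_mul, rr_one hyC, rr_one (V_le_C b (mem_sup_right he)), one_mul, mul_one]
    exact mem_HX.mpr ⟨_, hx₂, rfl⟩

/-- **(vi)** `N_G(E) = C_G(E) (M ∩ N_G(E))` -/
theorem normE_eq [IsSimpleGroup G] (h : Std p K) (b : Beta K R E H q) (hsec : SecKZ G)
    (h8 : q = 8 → normalizer (K : Set G) ≤ K ⊔ centralizer (K : Set G)) :
    TT K E = normalizer (E : Set G) := by
  apply le_antisymm (sup_le (centralizer_le_normalizer _) inf_le_right)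
  intro n hn
  have hnor := normal_HX h b hsec h8
  have h4 := b.l2.four
  have hfH := finite_H b
  obtain ⟨r, hr, hrH⟩ := Nat.exists_prime_and_dvd (n := Nat.card H) (by rw [b.bor.cardH]; omega)
  have hrf : Fact r.Prime := ⟨hr⟩
  obtain ⟨⟨x, hxH⟩, hxr⟩ := exists_prime_orderOf_dvd_card' (G := H) r hrH
  rw [Subgroup.orderOf_mk] at hxr
  have hxN : x ∈ normalizer (E : Set G) := (H_le_ME b hxH).2
  have h1 := hnor.conj_mem _ (mem_HX.mpr ⟨⟨x, hxN⟩, hxH, rfl⟩) ((act E).rangeRestrict ⟨n, hn⟩)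
  obtain ⟨z, hz, hzx⟩ := mem_HX.mp h1
  -- `z ∈ ⟨x⟩` since `H` is cyclic
  have hzr : orderOf (z : G) = r := by
    rw [← order_rr b hz, hzx, orderOf_conj, order_rr b (x := ⟨x, hxN⟩) hxH, ← hxr]
  have hcyc := b.bor.cyc
  have h2 : zpowers (⟨x, hxH⟩ : H) = zpowers (⟨z, hz⟩ : H) :=
    zpowers_eq_of_cyclic (by rw [Subgroup.orderOf_mk, Subgroup.orderOf_mk, hxr, hzr])
  have h3 : (⟨z, hz⟩ : H) ∈ zpowers (⟨x, hxH⟩ : H) := by rw [h2]; exact mem_zpowers _
  obtain ⟨k, hk⟩ := h3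
  have hzk : z = (⟨x, hxN⟩ : normalizer (E : Set G)) ^ k := Subtype.ext (by
    have := congrArg Subtype.val hk
    exact this.symm)
  exact mem_TT_rr h b hr hxH hxr (n := ⟨n, hn⟩) (x := ⟨x, hxN⟩) (k := k) (by
    rw [← hzx, hzk, map_zpow])

/-! ### orders -/

theorem card_eq_mul_odd {M S : Subgroup G} (hS : IsSyl2 M S) :
    ∃ m, Odd m ∧ Nat.card M = Nat.card S * m := by
  obtain ⟨m, hm⟩ := Subgroup.card_dvd_of_le hS.le
  refine ⟨m, ?_, hm⟩
  by_contra hodd
  rw [Nat.not_odd_iff_even] at hodd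
  have hpf : Fact (Nat.Prime 2) := ⟨Nat.prime_two⟩
  obtain ⟨a, ha⟩ := IsPGroup.iff_card.mp hS.two
  have h1 : 2 ^ (a + 1) ∣ Nat.card M := by
    rw [hm, ha, pow_succ]
    exact mul_dvd_mul_left _ (even_iff_two_dvd.mp hodd)
  have h2 := pow_le_of_dvd hS h1
  rw [ha, pow_succ] at h2
  have : 0 < 2 ^ a := by positivity
  omega

omit [Finite G] in
theorem pow_mul_odd {a b m n : ℕ} (hm : Odd m) (hn : Odd n) (h : 2 ^ a * m = 2 ^ b * n) :
    2 ^ a = 2 ^ b := by
  have h1 : 2 ^ a ∣ 2 ^ b := by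
    have h3 : Nat.Coprime (2 ^ a) n := Nat.Coprime.pow_left a (Nat.coprime_two_left.mpr hn)
    exact h3.dvd_of_dvd_mul_right (by rw [← h]; exact Dvd.intro _ rfl)
  have h2 : 2 ^ b ∣ 2 ^ a := by
    have h3 : Nat.Coprime (2 ^ b) m := Nat.Coprime.pow_left b (Nat.coprime_two_left.mpr hm)
    exact h3.dvd_of_dvd_mul_right (by rw [h]; exact Dvd.intro _ rfl)
  exact Nat.dvd_antisymm h1 h2

omit [Finite G] in
/-- `V` is a Sylow 2-subgroup of `C_M(E)` -/
theorem sylV (b : Beta K R E H q) :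
    IsSyl2 (centralizer (E : Set G) ⊓ (normalizer (K : Set G) ⊓ normalizer (E : Set G)))
      (R ⊔ E) := by
  refine ⟨le_inf (V_le_C b) (le_inf b.V_le ((V_le_C b).trans (centralizer_le_normalizer _))),
    isPGroup_of_elem b.elemV, fun U hU hU2 hle => le_antisymm ?_ hle⟩
  intro u hu
  obtain ⟨y, hy, e, he, hye⟩ := C_inf_M b (hU hu).1 (hU hu).2.1
  have hyU : y ∈ U := by
    have : y = u * e⁻¹ := by rw [hye]; group
    rw [this]
    exact U.mul_mem hu (U.inv_mem (hle (mem_sup_right he)))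
  have hUY : U ⊓ centralizer (K : Set G) = R :=
    b.sylR.max _ inf_le_right (hU2.to_le inf_le_left) (le_inf (le_sup_left.trans hle) b.sylR.le)
  have hyR : y ∈ R := by rw [← hUY]; exact ⟨hyU, hy⟩
  rw [hye]
  exact Subgroup.mul_mem _ (mem_sup_left hyR) (mem_sup_right he)

theorem sylS (b : Beta K R E H q) {S : Subgroup G} (hS : IsSyl2 (normalizer (K : Set G)) S)
    (hV : R ⊔ E ≤ S) : IsSyl2 (normalizer (K : Set G) ⊓ normalizer (E : Set G)) S :=
  ⟨le_inf hS.le (fun s hs => mem_normalizer_of_forall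
    (S_norm_E b hS (le_sup_right.trans hV) s hs)), hS.two,
    fun _ hU hU2 hle => hS.max _ (hU.trans inf_le_left) hU2 hle⟩

/-- `|N_G(E)|₂ |V| = |P| |S|` -/
theorem card_syl [IsSimpleGroup G] (h : Std p K) (b : Beta K R E H q) (hsec : SecKZ G)
    (h8 : q = 8 → normalizer (K : Set G) ≤ K ⊔ centralizer (K : Set G)) {S P W : Subgroup G}
    (hS : IsSyl2 (normalizer (K : Set G)) S) (hV : R ⊔ E ≤ S)
    (hP : IsSyl2 (centralizer (E : Set G)) P) (hW : IsSyl2 (normalizer (E : Set G)) W) :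
    Nat.card W * Nat.card (R ⊔ E : Subgroup G) = Nat.card P * Nat.card S := by
  have hpf : Fact (Nat.Prime 2) := ⟨Nat.prime_two⟩
  have h1 := card_sup_mul (K := centralizer (E : Set G))
    (H := normalizer (K : Set G) ⊓ normalizer (E : Set G))
    (inf_le_right.trans (normalizer_le_centralizer E))
  have h2 : centralizer (E : Set G) ⊔ (normalizer (K : Set G) ⊓ normalizer (E : Set G)) =
    normalizer (E : Set G) := normE_eq h b hsec h8
  rw [h2] at h1
  obtain ⟨m₁, hm₁, e₁⟩ := card_eq_mul_odd hW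
  obtain ⟨m₂, hm₂, e₂⟩ := card_eq_mul_odd (sylV b)
  obtain ⟨m₃, hm₃, e₃⟩ := card_eq_mul_odd hP
  obtain ⟨m₄, hm₄, e₄⟩ := card_eq_mul_odd (sylS b hS hV)
  obtain ⟨a₁, ha₁⟩ := IsPGroup.iff_card.mp hW.two
  obtain ⟨a₂, ha₂⟩ := IsPGroup.iff_card.mp (isPGroup_of_elem b.elemV)
  obtain ⟨a₃, ha₃⟩ := IsPGroup.iff_card.mp hP.two
  obtain ⟨a₄, ha₄⟩ := IsPGroup.iff_card.mp hS.two
  rw [e₁, e₂, e₃, e₄, ha₁, ha₂, ha₃, ha₄] at h1
  rw [ha₁, ha₂, ha₃, ha₄, ← pow_add, ← pow_add]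
  refine pow_mul_odd (hm₁.mul hm₂) (hm₃.mul hm₄) ?_
  rw [pow_add, pow_add]
  calc 2 ^ a₁ * 2 ^ a₂ * (m₁ * m₂) = 2 ^ a₁ * m₁ * (2 ^ a₂ * m₂) := by ring
    _ = 2 ^ a₃ * m₃ * (2 ^ a₄ * m₄) := h1
    _ = 2 ^ a₃ * 2 ^ a₄ * (m₃ * m₄) := by ring

/-- **(vi)** `P > V` if `N_G(V)` contains a 2-group larger than `S` -/
theorem card_lt [IsSimpleGroup G] (h : Std p K) (b : Beta K R E H q) (hsec : SecKZ G)
    (h8 : q = 8 → normalizer (K : Set G) ≤ K ⊔ centralizer (K : Set G)) {S P W : Subgroup G}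
    (hS : IsSyl2 (normalizer (K : Set G)) S) (hV : R ⊔ E ≤ S)
    (hP : IsSyl2 (centralizer (E : Set G)) P) (hW : W ≤ normalizer (E : Set G))
    (hW2 : IsPGroup 2 W) (hlt : Nat.card S < Nat.card W) :
    Nat.card (R ⊔ E : Subgroup G) < Nat.card P := by
  obtain ⟨W', hW', hWW'⟩ := exists_isSyl2 _ W hW hW2
  have h1 := card_syl h b hsec h8 hS hV hP hW'
  have h2 : Nat.card S < Nat.card W' := hlt.trans_le (Subgroup.card_le_of_le hWW')
  by_contra hcon
  push Not at hcon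
  have h3 : Nat.card P * Nat.card S ≤ Nat.card (R ⊔ E : Subgroup G) * Nat.card S :=
    Nat.mul_le_mul_right _ hcon
  have h4 : Nat.card (R ⊔ E : Subgroup G) * Nat.card S <
      Nat.card (R ⊔ E : Subgroup G) * Nat.card W' :=
    Nat.mul_lt_mul_of_pos_left h2 Nat.card_pos
  rw [mul_comm (Nat.card W')] at h1
  omega

end Cfsg.Agent.OddCyclic.CaseASix
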