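import Mathlib
import Cfsg.Agent.OddCyclic.CompStandard
import Cfsg.Agent.OddCyclic.PumpMain
import Cfsg.Agent.OddCyclic.JFacts
import Cfsg.Agent.OddCyclic.T1SzComp
import Cfsg.Agent.OddCyclic.CaseASix

/-!
# S0342, component type: the choice of the standard component

`SecZero G`: every simple non-abelian section of a proper subgroup of `G` is in the list `KZero`.

* `exists_cmp`: a group of component type with cyclic odd Sylow subgroups has a component of the
  centralizer of an involution.
* `kzero_of_quasi`: for such a component `J`, `J/Z(J)` is in the list.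
* `exists_std`: there is a standard component `K` for `p = 3`, or all the components are covers of Suzuki
  groups and there is a standard component for `p = 5`.
-/

set_option autoImplicit false

namespace Cfsg.Agent.OddCyclic.CompStart

open Subgroup Cfsg
open Cfsg.Agent.OddCyclic.T1Defs Cfsg.Agent.OddCyclic.CompBasic Cfsg.Agent.OddCyclic.CompStandard
open Cfsg.Agent.OddCyclic.PumpMain

universe u

/-- every simple non-abelian section of a proper subgroup is in the list -/
def SecZero (G : Type u) [Group G] : Prop :=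
  ∀ L : Subgroup G, L ≠ ⊤ → ∀ (N : Subgroup L) [N.Normal], IsSimpleGroup (L ⧸ N) →
    (∃ a b : L ⧸ N, a * b ≠ b * a) → KZero (L ⧸ N)

/-- the hypothesis of Aschbacher's criterion for strongly embedded subgroups (S1175) -/
def Crit (G : Type u) [Group G] : Prop :=
  ∀ M : Subgroup G, M ≠ ⊤ → ∀ z : G, orderOf z = 2 → z ∈ M →
      (∃ S : Sylow 2 G, z ∈ S ∧ ∀ s ∈ S, Commute s z) → (∀ g : G, g * z * g⁻¹ ∈ M → g ∈ M) →
      (∀ g : G, Commute z (g * z * g⁻¹) → g * z * g⁻¹ ≠ z →
        centralizer ({z * (g * z * g⁻¹)} : Set G) ≤ M) → ∃ H : Subgroup G, IsStronglyEmbedded H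

/-- the Sylow 2-subgroups are not abelian -/
def NonAb (G : Type u) [Group G] : Prop :=
  ∀ S : Subgroup G, Cfsg.Agent.LieExceptional.CITDefs.IsSyl2 ⊤ S → ∃ a ∈ S, ∃ b ∈ S, a * b ≠ b * a

variable {G : Type u} [Group G]

theorem SecZero.secKZ [Finite G] (h : SecZero G) : CaseASix.SecKZ G := fun L hL N _ hN hab => by
  have := hN
  exact JFacts.kz_of_kzero (h L hL N hN hab)

theorem quasi_nonab {J : Type*} [Group J] (hJ : IsQuasisimple J) :
    ∃ a b : J ⧸ center J, a * b ≠ b * a := by
  by_contra hcon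
  push Not at hcon
  have := hJ.2
  have := hJ.1
  exact Group.IsPerfect.not_isMulCommutative (J ⧸ center J) ⟨⟨hcon⟩⟩

theorem kzero_of_quasi (hsec : SecZero G) {J : Subgroup G} (hJ : IsQuasisimple J) (hJt : J ≠ ⊤) :
    KZero (J ⧸ center J) :=
  hsec J hJt (center J) hJ.2 (quasi_nonab hJ)

theorem cmp_ne_top [IsSimpleGroup G] {t : G} (ht : orderOf t = 2) {J : Subgroup G}
    (hJ : Cmp (centralizer {t}) J) : J ≠ ⊤ := by
  rintro rfl
  have h1 : Group.IsPerfect G := Group.IsPerfect.top_iff.mp hJ.quasi.1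
  have h2 : t ∈ center G := by
    rw [mem_center_iff]
    intro g
    exact mem_centralizer_singleton_iff.mp (hJ.le (mem_top g))
  rcases (inferInstance : (center G).Normal).eq_bot_or_eq_top with h3 | h3
  · rw [h3, mem_bot] at h2
    rw [h2, orderOf_one] at ht
    omega
  · refine Group.IsPerfect.not_isMulCommutative G ⟨⟨fun a b => ?_⟩⟩
    have h4 : a ∈ center G := by rw [h3]; exact mem_top a
    exact (mem_center_iff.mp h4 b).symm

variable [Finite G]

theorem exists_cmp (hG : OddCyc G) (hct : IsComponentType G) :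
    ∃ t : G, orderOf t = 2 ∧ ∃ J : Subgroup G, Cmp (centralizer {t}) J := by
  have hpf : Fact (Nat.Prime 2) := ⟨Nat.prime_two⟩
  obtain ⟨t, ht, C, hC⟩ := hct
  refine ⟨t, ht, ?_⟩
  obtain ⟨K, hK, -⟩ := Cfsg.Agent.Lib.PComponents.exists_pcomp (p := 2) hC
  have h1 := isComponent_of_isPComponent (oddCyc_subgroup hG _) hK
  refine ⟨K.map (centralizer ({t} : Set G)).subtype, Subgroup.map_subtype_le _, ?_⟩
  have e : (K.map (centralizer ({t} : Set G)).subtype).subgroupOf (centralizer ({t} : Set G)) = K :=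
    Subgroup.comap_map_eq_self_of_injective (Subgroup.subtype_injective _) K
  rw [e]
  exact h1

/-- the order of a simple group of the list is divisible by 3, or it is a Suzuki group -/
theorem three_dvd_or {K : Type*} [Group K] [Finite K] (h : KZero K) :
    3 ∣ Nat.card K ∨ Cfsg.Lie.IsoSuzuki K := by
  rcases h with ⟨F, iF, iF', hp, h5, ⟨e⟩⟩ | ⟨F, iF, iF', f, hf, hF, ⟨e⟩⟩ | h | ⟨h, k, hk⟩
  · left
    rw [Nat.card_congr e.toEquiv]
    exact Cfsg.Agent.ThreePrime.OrderThree.three_dvd_card_psl F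
  · left
    rw [Nat.card_congr e.toEquiv]
    exact Cfsg.Agent.ThreePrime.OrderThree.three_dvd_card_psl F
  · exact Or.inr h
  · left
    rw [JFacts.card_of_local h hk]
    norm_num

/-- No component of the centralizer of an involution has order divisible by 3. -/
def NoThree (G : Type u) [Group G] : Prop :=
  ∀ t : G, orderOf t = 2 → ∀ J : Subgroup G, Cmp (centralizer {t}) J → ¬ 3 ∣ Nat.card J

theorem exists_std [IsSimpleGroup G] (hG : OddCyc G) (hsec : SecZero G) (hct : IsComponentType G) :
    ∃ K : Subgroup G, Std 3 K ∨ (Std 5 K ∧ NoThree G) := by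
  by_cases h3 : NoThree G
  · obtain ⟨t, ht, J, hJ⟩ := exists_cmp hG hct
    have h1 := kzero_of_quasi hsec hJ.quasi (cmp_ne_top ht hJ)
    rcases three_dvd_or h1 with h2 | h2
    · exact absurd (h2.trans (Subgroup.card_quotient_dvd_card _)) (h3 t ht J hJ)
    · obtain ⟨K, hK⟩ := CompStandard.exists_std hG Nat.prime_five (by norm_num) ht hJ
        ((T1SzComp.five_dvd h2).trans (Subgroup.card_quotient_dvd_card _))
      exact ⟨K, Or.inr ⟨hK, h3⟩⟩
  · unfold NoThree at h3
    push Not at h3
    obtain ⟨t, ht, J, hJ, hd⟩ := h3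
    obtain ⟨K, hK⟩ := CompStandard.exists_std hG Nat.prime_three (by norm_num) ht hJ hd
    exact ⟨K, Or.inl hK⟩

/-- all components of centralizers of involutions are covers of Suzuki groups -/
theorem NoThree.suzuki [IsSimpleGroup G] (h3 : NoThree G) (hsec : SecZero G) {t : G}
    (ht : orderOf t = 2) {J : Subgroup G} (hJ : Cmp (centralizer {t}) J) :
    Cfsg.Lie.IsoSuzuki (J ⧸ center J) := by
  rcases three_dvd_or (kzero_of_quasi hsec hJ.quasi (cmp_ne_top ht hJ)) with h2 | h2
  · exact absurd (h2.trans (Subgroup.card_quotient_dvd_card _)) (h3 t ht J hJ)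
  · exact h2

/-- an elementary abelian subgroup of order 8 -/
theorem exists_elem_eight (hr : ¬ Cfsg.PRankLE 2 2 G) :
    ∃ V : Subgroup G, Cfsg.Agent.LieExceptional.CITDefs.Elem V ∧ Nat.card V = 8 := by
  have hpf : Fact (Nat.Prime 2) := ⟨Nat.prime_two⟩
  unfold Cfsg.PRankLE at hr
  push Not at hr
  obtain ⟨A, -, hA2, hA⟩ := hr
  have hAp : IsPGroup 2 A := fun a => ⟨1, Subtype.ext (by
    rw [pow_one]
    exact hA2 a a.2)⟩
  obtain ⟨n, hn⟩ := IsPGroup.iff_card.mp hAp
  have hn3 : 3 ≤ n := by
    rw [hn] at hA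
    exact (Nat.pow_lt_pow_iff_right (by norm_num)).mp hA
  obtain ⟨B, hB⟩ := Sylow.exists_subgroup_card_pow_prime (G := A) 2 (n := 3)
    (by rw [hn]; exact pow_dvd_pow 2 hn3)
  refine ⟨B.map A.subtype, ?_, ?_⟩
  · rintro _ ⟨x, -, rfl⟩
    have := hA2 x x.2
    rwa [pow_two] at this
  · rw [Subgroup.card_map_of_injective A.subtype_injective, hB]
    norm_num

end Cfsg.Agent.OddCyclic.CompStart
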