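import Mathlib
import Cfsg.Agent.OddCyclic.T1Defs

/-!
S0342, piece F3 (1.4 of blueprints/S0342-T0eq1.md): `PSL₂(p)`, `p ≥ 7` prime, has no non-trivial module over `𝔽₂` on
which the elements of order 3 act fixed point freely.

Proof. `w = (0 1; -1 0)`, `S α β = (α β; β -α)` with `α² + β² = -1`: quaternion group modulo `±1`, so every vector fixed
by `w` is fixed by all `S α β`, by all `R a b = (a b; -b a)` and by all `T c d = c + d S α β`.  If `-1` is not a square,
then by the pigeon hole principle some product `R a b * T c d` has trace 1; otherwise a unipotent element is such a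
product and the prime field does the rest.
-/

set_option autoImplicit false

namespace Cfsg.Agent.OddCyclic.T1PslPrime

open Cfsg.Agent.OddCyclic.T1Defs

section Mk
variable {F : Type*} [Field F]

/-- elements of `SL₂` by entries -/
def mk2 (a b c d : F) (h : a * d - b * c = 1) : Matrix.SpecialLinearGroup (Fin 2) F :=
  ⟨!![a, b; c, d], by rw [Matrix.det_fin_two_of]; exact h⟩

lemma mk2_congr {a b c d a' b' c' d' : F} {h : a * d - b * c = 1} {h' : a' * d' - b' * c' = 1}
    (h1 : a = a') (h2 : b = b') (h3 : c = c') (h4 : d = d') : mk2 a b c d h = mk2 a' b' c' d' h' := by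
  subst h1 h2 h3 h4; rfl

lemma mul_det {a b c d a' b' c' d' : F} (h : a * d - b * c = 1) (h' : a' * d' - b' * c' = 1) :
    (a * a' + b * c') * (c * b' + d * d') - (a * b' + b * d') * (c * a' + d * c') = 1 := by
  linear_combination (a' * d' - b' * c') * h + h'

lemma mk2_mul {a b c d a' b' c' d' : F} (h : a * d - b * c = 1) (h' : a' * d' - b' * c' = 1) :
    mk2 a b c d h * mk2 a' b' c' d' h' =
      mk2 (a * a' + b * c') (a * b' + b * d') (c * a' + d * c') (c * b' + d * d') (mul_det h h') := by
  apply Subtype.ext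
  change (!![a, b; c, d] * !![a', b'; c', d'] : Matrix (Fin 2) (Fin 2) F) =
    !![a * a' + b * c', a * b' + b * d'; c * a' + d * c', c * b' + d * d']
  rw [Matrix.mul_fin_two]

lemma mk2_one (h : (1 : F) * 1 - 0 * 0 = 1) : mk2 1 0 0 1 h = 1 := by
  apply Subtype.ext
  simp [mk2, Matrix.one_fin_two]

end Mk

section Aut
variable {V : Type*} [CommGroup V]

lemma triple {g : MulAut V} (h : g * g * g = 1) (hf : ∀ v, g v = v → v = 1) (v : V) : v * g v * g (g v) = 1 := by
  apply hf
  have h' : g (g (g v)) = v := by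
    have := congrArg (fun f : MulAut V => f v) h
    simpa using this
  rw [map_mul, map_mul, h']
  rw [mul_comm (g v * g (g v)) v, mul_assoc]

lemma fix_of_four {g e e' : MulAut V} (he' : e' * e' = 1) (hc : e * e' = e' * e)
    (h1 : g * e = e' * g) (h2 : g * e' = e * e' * g) (hg : ∀ v, v * g v * g (g v) = 1)
    (hh : ∀ v, v * (e * g) v * (e * g) ((e * g) v) = 1) {w : V} (hw : e w = w) : e' w = w := by
  have k1 := hg (g⁻¹ w)
  have k2 := hh (g⁻¹ w)
  have k0 : g (g⁻¹ w) = w := by simp
  rw [k0] at k1
  rw [MulAut.mul_apply, k0, hw, MulAut.mul_apply] at k2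
  have k3 : g w = e (g w) := mul_left_cancel (k1.trans k2.symm)
  -- g * (e * e') = e * g
  have k4 : g * (e * e') = e * g := by
    rw [← mul_assoc, h1, mul_assoc, h2, ← mul_assoc, ← mul_assoc, ← hc, mul_assoc e, he', mul_one]
  have k5 : g ((e * e') w) = g w := by
    rw [← MulAut.mul_apply, k4, MulAut.mul_apply, ← k3]
  have k6 : (e * e') w = w := g.injective k5
  rw [hc, MulAut.mul_apply, hw] at k6
  exact k6

end Aut

section Act
variable {F : Type*} [Field F] {V : Type*} [CommGroup V]
  (φ : Matrix.SpecialLinearGroup (Fin 2) F →* MulAut V)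

/-- the standing situation -/
structure Act : Prop where
  two : (2 : F) ≠ 0
  sq : ∀ v : V, v * v = 1
  neg : ∀ h, φ (mk2 (-1) 0 0 (-1) h) = 1
  fpf : ∀ a b c d h, a + d = 1 → ∀ v, φ (mk2 a b c d h) v = v → v = 1

variable {φ}

lemma Act.cube (A : Act φ) {a b c d : F} (h : a * d - b * c = 1) (ht : a + d = 1) :
    φ (mk2 a b c d h) * φ (mk2 a b c d h) * φ (mk2 a b c d h) = 1 := by
  rw [← map_mul, ← map_mul, mk2_mul, mk2_mul, ← A.neg (by ring)]
  congr 1
  have hd : d = 1 - a := by linear_combination ht
  subst hd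
  apply mk2_congr
  · linear_combination (-a - 1) * h
  · linear_combination (-b) * h
  · linear_combination (-c) * h
  · linear_combination (a - 2) * h

lemma Act.triple (A : Act φ) {a b c d : F} (h : a * d - b * c = 1) (ht : a + d = 1) (v : V) :
    v * φ (mk2 a b c d h) v * φ (mk2 a b c d h) (φ (mk2 a b c d h) v) = 1 :=
  T1PslPrime.triple (A.cube h ht) (A.fpf a b c d h ht) v

/-- `w` -/
def W (F : Type*) [Field F] : Matrix.SpecialLinearGroup (Fin 2) F := mk2 0 1 (-1) 0 (by ring)

/-- `S α β` -/
def S (α β : F) (h : α * α + β * β = -1) : Matrix.SpecialLinearGroup (Fin 2) F :=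
  mk2 α β β (-α) (by linear_combination -h)

/-- `R a b` -/
def R (a b : F) (h : a * a + b * b = 1) : Matrix.SpecialLinearGroup (Fin 2) F :=
  mk2 a b (-b) a (by linear_combination h)

/-- `T c d = c + d S α β` -/
def T (α β : F) (h : α * α + β * β = -1) (c d : F) (h' : c * c + d * d = 1) : Matrix.SpecialLinearGroup (Fin 2) F :=
  mk2 (c + d * α) (d * β) (d * β) (c - d * α) (by linear_combination h' - d * d * h)

/-- the element `g = (1 + w + S + wS)/2`, `2 t = 1` -/
def Q (α β : F) (h : α * α + β * β = -1) (t : F) (ht : 2 * t = 1) : Matrix.SpecialLinearGroup (Fin 2) F :=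
  mk2 (t * (1 + α + β)) (t * (1 + β - α)) (t * (-1 + β - α)) (t * (1 - α - β))
    (by linear_combination (2 * t + 1) * ht - 2 * t * t * h)

lemma W_mul_W : W F * W F = mk2 (-1) 0 0 (-1) (by ring) := by
  rw [W, mk2_mul]; apply mk2_congr <;> ring

lemma S_mul_S (α β : F) (h : α * α + β * β = -1) : S α β h * S α β h = mk2 (-1) 0 0 (-1) (by ring) := by
  rw [S, mk2_mul]; apply mk2_congr
  · linear_combination h
  · ring
  · ring
  · linear_combination h

lemma S_mul_W (α β : F) (h : α * α + β * β = -1) :
    S α β h * W F = mk2 (-1) 0 0 (-1) (by ring) * (W F * S α β h) := by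
  rw [S, W, mk2_mul, mk2_mul, mk2_mul]; apply mk2_congr <;> ring

lemma Q_mul_W (α β : F) (h : α * α + β * β = -1) (t : F) (ht : 2 * t = 1) :
    Q α β h t ht * W F = S α β h * Q α β h t ht := by
  rw [Q, W, S, mk2_mul, mk2_mul]; apply mk2_congr
  · linear_combination (-t) * h
  · linear_combination t * h
  · linear_combination (-t) * h
  · linear_combination (-t) * h

lemma Q_mul_S (α β : F) (h : α * α + β * β = -1) (t : F) (ht : 2 * t = 1) :
    Q α β h t ht * S α β h = W F * S α β h * Q α β h t ht := by
  rw [Q, W, S, mk2_mul, mk2_mul, mk2_mul]; apply mk2_congr <;> ring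

lemma Act.W_sq (A : Act φ) : φ (W F) * φ (W F) = 1 := by rw [← map_mul, W_mul_W, A.neg]

lemma Act.S_sq (A : Act φ) (α β : F) (h : α * α + β * β = -1) : φ (S α β h) * φ (S α β h) = 1 := by
  rw [← map_mul, S_mul_S, A.neg]

lemma Act.comm (A : Act φ) (α β : F) (h : α * α + β * β = -1) : φ (W F) * φ (S α β h) = φ (S α β h) * φ (W F) := by
  rw [← map_mul, ← map_mul, S_mul_W, map_mul φ (mk2 _ _ _ _ _), A.neg, one_mul]

/-- every vector fixed by `w` is fixed by all `S α β` -/
lemma Act.fixS (A : Act φ) (α β : F) (h : α * α + β * β = -1) {v : V} (hv : φ (W F) v = v) : φ (S α β h) v = v := by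
  obtain ⟨t, ht⟩ : ∃ t : F, 2 * t = 1 := ⟨2⁻¹, mul_inv_cancel₀ A.two⟩
  have hQ : t * (1 + α + β) + t * (1 - α - β) = 1 := by linear_combination ht
  refine fix_of_four (g := φ (Q α β h t ht)) (A.S_sq α β h) (A.comm α β h) ?_ ?_ ?_ ?_ hv
  · rw [← map_mul, ← map_mul, Q_mul_W]
  · rw [← map_mul, ← map_mul, ← map_mul, Q_mul_S]
  · intro v
    exact A.triple _ hQ v
  · -- `φ (w * g) = φ (-w g)`, trace 1
    have key : φ (W F) * φ (Q α β h t ht) =
        φ (mk2 (-(t * (-1 + β - α))) (-(t * (1 - α - β))) (t * (1 + α + β)) (t * (1 + β - α))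
          (by linear_combination (2 * t + 1) * ht - 2 * t * t * h)) := by
      rw [← one_mul (φ (W F)), ← A.neg (by ring), ← map_mul, ← map_mul]
      congr 1
      rw [W, Q, mk2_mul, mk2_mul]; apply mk2_congr <;> ring
    intro v
    rw [key]
    exact A.triple _ (by linear_combination ht) v

lemma Act.fixR (A : Act φ) {α β : F} (h : α * α + β * β = -1) (a b : F) (h' : a * a + b * b = 1) {v : V}
    (hv : φ (W F) v = v) : φ (R a b h') v = v := by
  have k : (a * α + b * β) * (a * α + b * β) + (a * β - b * α) * (a * β - b * α) = -1 := by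
    linear_combination (α * α + β * β) * h' + h
  have e : R a b h' * S α β h = S (a * α + b * β) (a * β - b * α) k := by
    rw [R, S, S, mk2_mul]; apply mk2_congr <;> ring
  have k1 := A.fixS _ _ k hv
  rw [← e, map_mul, MulAut.mul_apply, A.fixS α β h hv] at k1
  exact k1

lemma Act.fixT (A : Act φ) {α β : F} (h : α * α + β * β = -1) (c d : F) (h' : c * c + d * d = 1) {v : V}
    (hv : φ (W F) v = v) : φ (T α β h c d h') v = v := by
  obtain ⟨t, ht⟩ : ∃ t : F, 2 * t = 1 := ⟨2⁻¹, mul_inv_cancel₀ A.two⟩
  have e : T α β h c d h' * Q α β h t ht = Q α β h t ht * R c d h' := by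
    rw [R, T, Q, mk2_mul, mk2_mul]; apply mk2_congr
    · linear_combination (t * d) * h
    · linear_combination (-t * d) * h
    · linear_combination (t * d) * h
    · linear_combination (t * d) * h
  set u := (φ (Q α β h t ht))⁻¹ v with hu
  have hu' : φ (Q α β h t ht) u = v := by rw [hu]; simp
  have k : φ (W F) u = u := by
    apply (φ (Q α β h t ht)).injective
    rw [← MulAut.mul_apply, ← map_mul, Q_mul_W, map_mul, MulAut.mul_apply, hu']
    exact A.fixS α β h hv
  have k2 := A.fixR h c d h' k
  conv_lhs => rw [← hu']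
  rw [← MulAut.mul_apply, ← map_mul, e, map_mul, MulAut.mul_apply, k2, hu']

lemma Act.exists_fixed [Nontrivial V] (A : Act φ) : ∃ v : V, v ≠ 1 ∧ φ (W F) v = v := by
  obtain ⟨v, hv⟩ := exists_ne (1 : V)
  by_cases h : φ (W F) v = v
  · exact ⟨v, hv, h⟩
  · refine ⟨v * φ (W F) v, fun h' => h ?_, ?_⟩
    · have := mul_left_cancel (h'.trans (A.sq v).symm)
      exact this
    · have k : φ (W F) (φ (W F) v) = v := by
        rw [← MulAut.mul_apply, A.W_sq]; rfl
      rw [map_mul, k, mul_comm]

/-- no product of elements `R a b`, `T c d` has trace 1 -/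
lemma Act.false_of_trace [Nontrivial V] (A : Act φ)
    (h : ∃ a b c d h, a + d = 1 ∧ ∀ v, φ (W F) v = v → φ (mk2 a b c d h) v = v) : False := by
  obtain ⟨a, b, c, d, h, ht, hf⟩ := h
  obtain ⟨v, hv1, hv⟩ := A.exists_fixed
  exact hv1 (A.fpf a b c d h ht v (hf v hv))

end Act

section Field
variable {F : Type*} [Field F] [Fintype F]

/-- pigeon hole on the circle -/
lemma exists_circle (h2 : (2 : F) ≠ 0) (h1 : ∀ x : F, x * x ≠ -1) :
    ∃ a b c d : F, a * a + b * b = 1 ∧ c * c + d * d = 1 ∧ 2 * (a * c) = 1 := by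
  classical
  set A : Finset F := Finset.univ.filter (fun a => a ≠ 0 ∧ ∃ b, a * a + b * b = 1) with hA
  have hden : ∀ t : F, 1 + t * t ≠ 0 := fun t ht => h1 t (by linear_combination ht)
  set s : Finset F := Finset.univ.filter (fun t : F => t * t ≠ 1) with hs
  set f : F → F := fun t => (1 - t * t) / (1 + t * t) with hf
  have hfA : ∀ t ∈ s, f t ∈ A.erase (-1) := by
    intro t ht
    rw [hs, Finset.mem_filter] at ht
    rw [Finset.mem_erase, hA, Finset.mem_filter]
    refine ⟨fun h => h2 ?_, Finset.mem_univ _, ?_, 2 * t / (1 + t * t), ?_⟩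
    · rw [hf] at h
      simp only at h
      rw [div_eq_iff (hden t)] at h
      linear_combination h
    · rw [hf]
      exact div_ne_zero (fun h => ht.2 (by linear_combination -h)) (hden t)
    · rw [hf]
      simp only
      rw [div_mul_div_comm, div_mul_div_comm, ← add_div,
        div_eq_one_iff_eq (mul_ne_zero (hden t) (hden t))]
      ring
  have hcard : s.card ≤ 2 * (s.image f).card := by
    apply Finset.card_le_mul_card_image
    intro b hb
    obtain ⟨t, ht, rfl⟩ := Finset.mem_image.mp hb
    have : (s.filter (fun x => f x = f t)) ⊆ {t, -t} := by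
      intro x hx
      rw [Finset.mem_filter] at hx
      have h3 := hx.2
      rw [hf] at h3
      simp only at h3
      rw [div_eq_div_iff (hden x) (hden t)] at h3
      have h4 : (2 : F) * ((x - t) * (x + t)) = 0 := by linear_combination -h3
      rcases mul_eq_zero.mp h4 with h4 | h4
      · exact absurd h4 h2
      · rcases mul_eq_zero.mp h4 with h4 | h4
        · rw [Finset.mem_insert]; left; linear_combination h4
        · rw [Finset.mem_insert, Finset.mem_singleton]; right; linear_combination h4
    exact (Finset.card_le_card this).trans Finset.card_le_two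
  have hcs : Fintype.card F ≤ s.card + 2 := by
    have : (Finset.univ : Finset F) = s ∪ {1, -1} := by
      ext x
      simp only [Finset.mem_univ, Finset.mem_union, hs, Finset.mem_filter, true_and, Finset.mem_insert,
        Finset.mem_singleton, true_iff]
      by_cases hx : x * x = 1
      · right
        have : (x - 1) * (x + 1) = 0 := by linear_combination hx
        rcases mul_eq_zero.mp this with h | h
        · left; linear_combination h
        · right; linear_combination h
      · left; exact hx
    rw [← Finset.card_univ, this]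
    exact (Finset.card_union_le _ _).trans (Nat.add_le_add_left Finset.card_le_two _)
  have hodd : Fintype.card F % 2 = 1 := by
    have := FiniteField.odd_card_of_char_ne_two (F := F) ?_
    · exact this
    · intro hc
      apply h2
      have : ((2 : ℕ) : F) = 0 := by rw [← hc]; exact CharP.cast_eq_zero F (ringChar F)
      exact_mod_cast this
  have hm1 : (-1 : F) ∈ A := by
    rw [hA, Finset.mem_filter]
    exact ⟨Finset.mem_univ _, neg_ne_zero.mpr one_ne_zero, 0, by ring⟩
  have hAc : Fintype.card F + 1 ≤ 2 * A.card := by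
    have h3 : (s.image f).card ≤ (A.erase (-1)).card := by
      apply Finset.card_le_card
      intro x hx
      obtain ⟨t, ht, rfl⟩ := Finset.mem_image.mp hx
      exact hfA t ht
    rw [Finset.card_erase_of_mem hm1] at h3
    have h4 : 0 < A.card := Finset.card_pos.mpr ⟨_, hm1⟩
    omega
  -- pigeon hole
  set B : Finset F := A.image (fun a => (2 * a)⁻¹) with hB
  have hBc : B.card = A.card := by
    apply Finset.card_image_of_injective
    intro x y hxy
    exact mul_left_cancel₀ h2 (inv_injective hxy)
  have hnd : ¬ Disjoint A B := by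
    intro hd
    have h5 : A ∪ B ⊆ Finset.univ.erase 0 := by
      intro x hx
      rw [Finset.mem_erase]
      refine ⟨?_, Finset.mem_univ _⟩
      rcases Finset.mem_union.mp hx with hx | hx
      · rw [hA, Finset.mem_filter] at hx
        exact hx.2.1
      · obtain ⟨a, ha, rfl⟩ := Finset.mem_image.mp hx
        rw [hA, Finset.mem_filter] at ha
        exact inv_ne_zero (mul_ne_zero h2 ha.2.1)
    have h6 := Finset.card_le_card h5
    rw [Finset.card_union_of_disjoint hd, Finset.card_erase_of_mem (Finset.mem_univ _), Finset.card_univ, hBc] at h6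
    omega
  rw [Finset.not_disjoint_iff] at hnd
  obtain ⟨c, hc, hcB⟩ := hnd
  obtain ⟨a, ha, rfl⟩ := Finset.mem_image.mp hcB
  rw [hA, Finset.mem_filter] at ha hc
  obtain ⟨_, ha0, b, hb⟩ := ha
  obtain ⟨_, _, d, hd⟩ := hc
  refine ⟨a, b, (2 * a)⁻¹, d, hb, hd, ?_⟩
  field_simp

/-- a subset of a prime field containing `κ ≠ 0` and closed under addition -/
lemma forall_of_add (hp : (Fintype.card F).Prime) {P : F → Prop} {κ : F} (hκ : κ ≠ 0) (h1 : P κ)
    (h0 : P 0) (ha : ∀ x y, P x → P y → P (x + y)) (x : F) : P x := by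
  have key : ∀ n : ℕ, P (n * κ) := by
    intro n
    induction n with
    | zero => simpa using h0
    | succ n ih => rw [Nat.cast_succ, add_mul, one_mul]; exact ha _ _ ih h1
  let e := ZMod.ringEquivOfPrime F hp rfl
  have : NeZero (Fintype.card F) := ⟨hp.ne_zero⟩
  have h3 : x = ((ZMod.val (e.symm (x / κ)) : ℕ) : F) * κ := by
    have : ((ZMod.val (e.symm (x / κ)) : ℕ) : F) = x / κ := by
      rw [← map_natCast e, ZMod.natCast_zmod_val, RingEquiv.apply_symm_apply]
    rw [this, div_mul_cancel₀ _ hκ]
  rw [h3]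
  exact key _

end Field

theorem not_act {F : Type*} [Field F] [Fintype F] (hp : (Fintype.card F).Prime) (h7 : 7 ≤ Fintype.card F)
    {V : Type*} [CommGroup V] [Nontrivial V] (φ : Matrix.SpecialLinearGroup (Fin 2) F →* MulAut V) (A : Act φ) :
    False := by
  have : Fact (Fintype.card F).Prime := ⟨hp⟩
  have : CharP F (Fintype.card F) := charP_of_card_eq_prime rfl
  have h3 : (3 : F) ≠ 0 := by
    intro h
    have : ((3 : ℕ) : F) = 0 := by exact_mod_cast h
    rw [CharP.cast_eq_zero_iff F (Fintype.card F)] at this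
    exact absurd (Nat.le_of_dvd (by norm_num) this) (by omega)
  have h5 : (5 : F) ≠ 0 := by
    intro h
    have : ((5 : ℕ) : F) = 0 := by exact_mod_cast h
    rw [CharP.cast_eq_zero_iff F (Fintype.card F)] at this
    exact absurd (Nat.le_of_dvd (by norm_num) this) (by omega)
  have h2 := A.two
  by_cases hi : ∃ i : F, i * i = -1
  · obtain ⟨i, hi⟩ := hi
    have hi' : i * i + 0 * 0 = -1 := by linear_combination hi
    have hi0 : i ≠ 0 := by
      rintro rfl
      exact one_ne_zero (α := F) (by linear_combination hi)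
    -- the diagonal element `diag(2, 1/2)`
    have hD : (5 / 4 : F) * (5 / 4) + (-3 * i / 4) * (-3 * i / 4) = 1 := by
      have h4 : (4 : F) ≠ 0 := by
        have : (4 : F) = 2 * 2 := by norm_num
        rw [this]; exact mul_ne_zero h2 h2
      field_simp
      linear_combination 9 * hi
    have hR : (4 / 5 : F) * (4 / 5) + (3 / 5) * (3 / 5) = 1 := by
      field_simp
      norm_num
    have hDe : ∀ h, T i 0 hi' (5 / 4) (-3 * i / 4) hD = mk2 (2 : F) 0 0 (1 / 2) h := by
      intro h
      have h4 : (4 : F) = 2 * 2 := by norm_num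
      rw [T]; apply mk2_congr
      · rw [h4]; field_simp
        linear_combination (-3) * hi
      · ring
      · ring
      · rw [h4]; field_simp
        linear_combination (3) * hi
    have hd : (2 : F) * (1 / 2) - 0 * 0 = 1 := by field_simp; ring
    -- the unipotent elements
    have hU : ∀ l : F, (1 + l) * (1 - l) - (2 * l) * (-l / 2) = 1 := by intro l; field_simp; ring
    have hall : ∀ l : F, ∀ v, φ (W F) v = v → φ (mk2 (1 + l) (2 * l) (-l / 2) (1 - l) (hU l)) v = v := by
      intro l v hv
      refine forall_of_add (F := F) hp (P := fun l => φ (mk2 (1 + l) (2 * l) (-l / 2) (1 - l) (hU l)) v = v)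
        (κ := 3 / 5) (div_ne_zero h3 h5) ?_ ?_ ?_ l
      · have e : mk2 (1 + 3 / 5 : F) (2 * (3 / 5)) (-(3 / 5) / 2) (1 - 3 / 5) (hU _) =
            T i 0 hi' (5 / 4) (-3 * i / 4) hD * R (4 / 5) (3 / 5) hR := by
          rw [hDe hd, R, mk2_mul]; apply mk2_congr <;> field_simp <;> norm_num
        rw [e, map_mul, MulAut.mul_apply, A.fixR hi' _ _ hR hv, A.fixT hi' _ _ hD hv]
      · have e : mk2 (1 + 0 : F) (2 * 0) (-0 / 2) (1 - 0) (hU 0) = 1 := by
          rw [← mk2_one (by ring)]; apply mk2_congr <;> ring
        rw [e, map_one]; rfl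
      · intro x y hx hy
        have e : mk2 (1 + (x + y) : F) (2 * (x + y)) (-(x + y) / 2) (1 - (x + y)) (hU _) =
            mk2 (1 + x) (2 * x) (-x / 2) (1 - x) (hU x) * mk2 (1 + y) (2 * y) (-y / 2) (1 - y) (hU y) := by
          rw [mk2_mul]; apply mk2_congr <;> field_simp <;> ring
        rw [e, map_mul, MulAut.mul_apply, hy, hx]
    refine A.false_of_trace ⟨0, -1, 1, 1, by ring, by ring, fun v hv => ?_⟩
    have e : mk2 (0 : F) (-1) 1 1 (by ring) =
        mk2 (1 + (-1)) (2 * (-1)) (-(-1) / 2) (1 - (-1)) (hU (-1)) * T i 0 hi' (5 / 4) (-3 * i / 4) hD := by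
      rw [hDe hd, mk2_mul]; apply mk2_congr <;> field_simp <;> ring
    rw [e, map_mul, MulAut.mul_apply, A.fixT hi' _ _ hD hv, hall (-1) v hv]
  · push Not at hi
    obtain ⟨a, b, c, d, hab, hcd, hac⟩ := exists_circle h2 hi
    have : NeZero (Fintype.card F) := ⟨hp.ne_zero⟩
    obtain ⟨m, n, hmn⟩ := CharP.sq_add_sq F (Fintype.card F) (-1)
    have h : (m : F) * m + n * n = -1 := by
      have : ((-1 : ℤ) : F) = -1 := by norm_num
      rw [this] at hmn
      linear_combination hmn
    refine A.false_of_trace ⟨a * (c + d * m) + b * (d * n), a * (d * n) + b * (c - d * m),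
      -b * (c + d * m) + a * (d * n), -b * (d * n) + a * (c - d * m),
      mul_det (by linear_combination hab) (by linear_combination hcd - d * d * h), ?_, fun v hv => ?_⟩
    · linear_combination hac
    · have e := congrArg φ (mk2_mul (a := a) (b := b) (c := -b) (d := a) (a' := c + d * m) (b' := d * n)
        (c' := d * n) (d' := c - d * m) (by linear_combination hab) (by linear_combination hcd - d * d * h))
      rw [← e, map_mul, MulAut.mul_apply]
      have k1 := A.fixT h c d hcd hv
      have k2 := A.fixR h a b hab hv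
      rw [T] at k1
      rw [R] at k2
      rw [k1, k2]

set_option linter.unusedVariables false in
/-- F3 (1.4) -/
theorem not_psl_prime {F : Type} [Field F] [Fintype F] (hp : (Fintype.card F).Prime) (h7 : 7 ≤ Fintype.card F)
    {V : Type*} [CommGroup V] [Finite V] (hV : ∀ v : V, v * v = 1) (hV1 : Nontrivial V)
    (ρ : Matrix.ProjectiveSpecialLinearGroup (Fin 2) F →* MulAut V)
    (hfpf : ∀ x, orderOf x = 3 → ∀ v, ρ x v = v → v = 1)
    (hc : OddCyc (Matrix.ProjectiveSpecialLinearGroup (Fin 2) F))
    (hsix : NoSix (Matrix.ProjectiveSpecialLinearGroup (Fin 2) F)) : False := by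
  have : Fact (Fintype.card F).Prime := ⟨hp⟩
  have : CharP F (Fintype.card F) := charP_of_card_eq_prime rfl
  have hne : ∀ n : ℕ, 0 < n → n < 7 → (n : F) ≠ 0 := by
    intro n h0 hn h
    rw [CharP.cast_eq_zero_iff F (Fintype.card F)] at h
    exact absurd (Nat.le_of_dvd h0 h) (by omega)
  have h2 : (2 : F) ≠ 0 := by exact_mod_cast hne 2 (by norm_num) (by norm_num)
  have h3 : (3 : F) ≠ 0 := by exact_mod_cast hne 3 (by norm_num) (by norm_num)
  let π : Matrix.SpecialLinearGroup (Fin 2) F →* Matrix.ProjectiveSpecialLinearGroup (Fin 2) F :=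
    QuotientGroup.mk' _
  have hneg : ∀ h, π (mk2 (-1) 0 0 (-1) h) = 1 := by
    intro h
    apply (QuotientGroup.eq_one_iff _).mpr
    rw [Matrix.SpecialLinearGroup.mem_center_iff]
    refine ⟨-1, by simp, ?_⟩
    ext i j
    fin_cases i <;> fin_cases j <;> simp [mk2]
  refine not_act hp h7 (ρ.comp π) ⟨h2, hV, ?_, ?_⟩
  · intro h
    rw [MonoidHom.comp_apply, hneg, map_one]
  · intro a b c d h ht v hv
    refine hfpf (π (mk2 a b c d h)) ?_ v hv
    apply orderOf_eq_prime
    · rw [pow_succ, pow_two, ← map_mul, ← map_mul, mk2_mul, mk2_mul]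
      rw [← hneg (by ring)]
      congr 1
      have hd : d = 1 - a := by linear_combination ht
      subst hd
      apply mk2_congr
      · linear_combination (-a - 1) * h
      · linear_combination (-b) * h
      · linear_combination (-c) * h
      · linear_combination (a - 2) * h
    · intro h1
      have h4 := (QuotientGroup.eq_one_iff _).mp h1
      rw [Matrix.SpecialLinearGroup.mem_center_iff] at h4
      obtain ⟨r, _, hr⟩ := h4
      have e00 := congrFun (congrFun hr 0) 0
      have e11 := congrFun (congrFun hr 1) 1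
      have e01 := congrFun (congrFun hr 0) 1
      simp [mk2] at e00 e11 e01
      apply h3
      have hda : d = a := by rw [← e11, ← e00]
      subst hda
      rw [← e01] at h
      linear_combination (-4 : F) * h + (2 * d + 1) * ht

end Cfsg.Agent.OddCyclic.T1PslPrime
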