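import Mathlib
import Cfsg.Agent.OddCyclic.T1Defs
import Cfsg.Agent.OddCyclic.T1Sl2
import Cfsg.Agent.OddCyclic.T1Core
import Cfsg.Agent.OddCyclic.T1Socle
import Cfsg.Agent.OddCyclic.T1PslPrime
import Cfsg.Agent.SporadicB.DihedralLift
import Cfsg.Agent.LieClassical.SLTwoTwo

/-!
# S0342, T0 = 1, piece F4 (1.3 - 1.5 of blueprints/S0342-T0eq1.md): the structure of `M / O₂(M)`
-/

set_option autoImplicit false
universe u v w

namespace Cfsg.Agent.OddCyclic.T1StructQ

open Subgroup Cfsg.Agent.LieExceptional.CITDefs Cfsg.Agent.OddCyclic.T1Defs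

/-! ### inheritance of the hypotheses -/

theorem K1.congr {K : Type u} {L : Type v} [Group K] [Group L] (e : K ≃* L) (h : K1 K) : K1 L := by
  rcases h with ⟨F, i1, i2, h1, h2, ⟨f⟩⟩ | ⟨F, i1, i2, n, h1, h2, ⟨f⟩⟩ | ⟨F, i1, i2, m, h1, h2, ⟨f⟩⟩ | ⟨g, hg⟩
  · exact Or.inl ⟨F, i1, i2, h1, h2, ⟨e.symm.trans f⟩⟩
  · exact Or.inr (Or.inl ⟨F, i1, i2, n, h1, h2, ⟨e.symm.trans f⟩⟩)
  · exact Or.inr (Or.inr (Or.inl ⟨F, i1, i2, m, h1, h2, ⟨e.symm.trans f⟩⟩))
  · exact Or.inr (Or.inr (Or.inr ⟨e g, by rw [MulEquiv.orderOf_eq]; exact hg⟩))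

theorem NoSix.of_injective {A : Type u} {H : Type v} [Group A] [Group H] {f : A →* H} (hf : Function.Injective f)
    (h : NoSix H) : NoSix A := fun g hg => h (f g) (by rw [orderOf_injective f hf]; exact hg)

theorem OddCyc.of_injective {A : Type u} {H : Type v} [Group A] [Group H] {f : A →* H} (hf : Function.Injective f)
    (h : OddCyc H) : OddCyc A := by
  intro p P hp h2
  have : Fact p.Prime := ⟨hp⟩
  have hP : IsPGroup p ((P : Subgroup A).map f) := P.2.map _
  obtain ⟨Q, hQ⟩ := hP.exists_le_sylow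
  have := h p Q hp h2
  have hmem : ∀ a : (P : Subgroup A), f a ∈ (Q : Subgroup H) := fun a => hQ ⟨a, a.2, rfl⟩
  let g : (P : Subgroup A) →* (Q : Subgroup H) := (f.comp (P : Subgroup A).subtype).codRestrict _ hmem
  refine isCyclic_of_injective g fun a b hab => ?_
  exact Subtype.ext (hf (congrArg Subtype.val hab))

section quot

variable {H : Type u} [Group H] [Finite H] {N : Subgroup H} [N.Normal]

theorem oddCyc_quot (hc : OddCyc H) : OddCyc (H ⧸ N) := by
  intro p P hp h2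
  have : Fact p.Prime := ⟨hp⟩
  obtain ⟨P', rfl⟩ := Sylow.mapSurjective_surjective (QuotientGroup.mk'_surjective N) p P
  have := hc p P' hp h2
  change IsCyclic ↥((P' : Subgroup H).map (QuotientGroup.mk' N))
  exact isCyclic_of_surjective _ ((QuotientGroup.mk' N).subgroupMap_surjective (P' : Subgroup H))

omit [Finite H] in
theorem kSec_quot (hK : KSec H) : KSec (H ⧸ N) := by
  intro A B hB hs hab
  let A' : Subgroup H := A.comap (QuotientGroup.mk' N)
  let φ : A' →* A := ((QuotientGroup.mk' N).comp A'.subtype).codRestrict A fun a => a.2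
  have hφ : Function.Surjective φ := by
    rintro ⟨a, ha⟩
    obtain ⟨g, rfl⟩ := QuotientGroup.mk'_surjective N a
    exact ⟨⟨g, ha⟩, rfl⟩
  let ψ : A' →* A ⧸ B := (QuotientGroup.mk' B).comp φ
  have hψ : Function.Surjective ψ := (QuotientGroup.mk'_surjective B).comp hφ
  let e : A' ⧸ ψ.ker ≃* A ⧸ B := QuotientGroup.quotientKerEquivOfSurjective ψ hψ
  have hs' : IsSimpleGroup (A' ⧸ ψ.ker) := e.isSimpleGroup
  have hab' : ∃ a b : A' ⧸ ψ.ker, a * b ≠ b * a := by
    obtain ⟨a, b, hab⟩ := hab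
    refine ⟨e.symm a, e.symm b, fun h => hab ?_⟩
    rw [← map_mul, ← map_mul] at h
    exact e.symm.injective h
  exact K1.congr e (hK A' ψ.ker hs' hab')

omit [Finite H] in
theorem exists_lift_three (hN : ¬ 3 ∣ Nat.card N) {xb : H ⧸ N} (hx : orderOf xb = 3) :
    ∃ x : H, orderOf x = 3 ∧ (x : H ⧸ N) = xb := by
  obtain ⟨g, rfl⟩ := QuotientGroup.mk_surjective xb
  have hg3 : g ^ 3 ∈ N := (QuotientGroup.eq_one_iff _).mp (by rw [QuotientGroup.mk_pow, ← hx, pow_orderOf_eq_one])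
  obtain ⟨m, hm⟩ : ∃ m, m = Nat.card N := ⟨_, rfl⟩
  rw [← hm] at hN
  have h1 : (g ^ 3) ^ m = 1 := by
    have := pow_card_eq_one' (G := N) (x := ⟨g ^ 3, hg3⟩)
    rw [← hm] at this
    exact congrArg Subtype.val this
  have hm3 : m * m % 3 = 1 := by
    have : m % 3 = 1 ∨ m % 3 = 2 := by omega
    rcases this with h | h <;> rw [Nat.mul_mod, h]
  have hmk : ((g ^ (m * m) : H) : H ⧸ N) = g := by
    rw [QuotientGroup.mk_pow, ← pow_mod_orderOf, hx, hm3, pow_one]
  refine ⟨g ^ (m * m), orderOf_eq_prime ?_ ?_, hmk⟩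
  · rw [← pow_mul, show m * m * 3 = 3 * m * m by ring, pow_mul, pow_mul, h1, one_pow]
  · intro h
    rw [h, QuotientGroup.mk_one] at hmk
    rw [← hmk, orderOf_one] at hx
    omega

omit [Finite H] [N.Normal] in
theorem eq_of_mk_eq (hN : ¬ 3 ∣ Nat.card N) (hcen : ∀ x : H, orderOf x = 3 → ∀ y ∈ N, x * y = y * x)
    {x x' : H} (hx : orderOf x = 3) (hx' : orderOf x' = 3) (h : (x : H ⧸ N) = x') : x = x' := by
  have hy : x⁻¹ * x' ∈ N := QuotientGroup.eq.mp h
  have hc : Commute x (x⁻¹ * x') := hcen x hx _ hy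
  have h1 : x ^ 3 = 1 := by rw [← hx, pow_orderOf_eq_one]
  have h2 : x' ^ 3 = 1 := by rw [← hx', pow_orderOf_eq_one]
  have h3 : (x⁻¹ * x') ^ 3 = 1 := by
    have h4 := hc.mul_pow 3
    rwa [mul_inv_cancel_left, h1, h2, one_mul, eq_comm] at h4
  have h5 : orderOf (x⁻¹ * x') ∣ 3 := orderOf_dvd_of_pow_eq_one h3
  have h6 : orderOf (x⁻¹ * x') ∣ Nat.card N := by
    have := orderOf_dvd_natCard (⟨x⁻¹ * x', hy⟩ : N)
    rwa [Subgroup.orderOf_mk] at this
  rcases (Nat.dvd_prime Nat.prime_three).mp h5 with h7 | h7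
  · rw [orderOf_eq_one_iff] at h7
    exact (inv_mul_eq_one.mp h7)
  · rw [h7] at h6
    exact absurd h6 hN

omit [Finite H] in
theorem orderOf_mk_three (hN : ¬ 3 ∣ Nat.card N) {x : H} (hx : orderOf x = 3) : orderOf (x : H ⧸ N) = 3 := by
  refine orderOf_eq_prime ?_ ?_
  · rw [← QuotientGroup.mk_pow, ← hx, pow_orderOf_eq_one, QuotientGroup.mk_one]
  · intro h
    have hxN := (QuotientGroup.eq_one_iff _).mp h
    have := orderOf_dvd_natCard (⟨x, hxN⟩ : N)
    rw [Subgroup.orderOf_mk, hx] at this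
    exact hN this

theorem noSix_quot (hN : ¬ 3 ∣ Nat.card N) (hodd : Odd (Nat.card N))
    (hcen : ∀ x : H, orderOf x = 3 → ∀ y ∈ N, x * y = y * x) (hsix : NoSix H) : NoSix (H ⧸ N) := by
  intro g hg
  have hg2 : orderOf (g ^ 2) = 3 := by rw [orderOf_pow, hg]; decide
  have hg3 : orderOf (g ^ 3) = 2 := by rw [orderOf_pow, hg]; decide
  obtain ⟨x, hx, hxg⟩ := exists_lift_three hN hg2
  obtain ⟨s, rfl⟩ := QuotientGroup.mk_surjective g
  obtain ⟨m, hm⟩ : ∃ m, m = Nat.card N := ⟨_, rfl⟩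
  rw [← hm] at hodd
  have hs6 : s ^ 6 ∈ N := (QuotientGroup.eq_one_iff _).mp (by rw [QuotientGroup.mk_pow, ← hg, pow_orderOf_eq_one])
  have h1 : (s ^ 6) ^ m = 1 := by
    have := pow_card_eq_one' (G := N) (x := ⟨s ^ 6, hs6⟩)
    rw [← hm] at this
    exact congrArg Subtype.val this
  have hmk : ((s ^ (3 * m) : H) : H ⧸ N) = (s : H ⧸ N) ^ 3 := by
    rw [QuotientGroup.mk_pow, pow_mul, ← pow_mod_orderOf, hg3, Nat.odd_iff.mp hodd, pow_one]
  have ht : orderOf (s ^ (3 * m)) = 2 := by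
    refine orderOf_eq_prime ?_ ?_
    · rw [← pow_mul, show 3 * m * 2 = 6 * m by ring, pow_mul, h1]
    · intro h
      rw [h, QuotientGroup.mk_one] at hmk
      rw [← hmk, orderOf_one] at hg3
      omega
  have hconj : s ^ (3 * m) * x * (s ^ (3 * m))⁻¹ = x := by
    refine eq_of_mk_eq hN hcen ?_ hx ?_
    · exact ((MulAut.conj (s ^ (3 * m))).orderOf_eq x).trans hx
    · rw [QuotientGroup.mk_mul, QuotientGroup.mk_mul, QuotientGroup.mk_inv, hxg, hmk]
      group
  have hcomm : Commute (s ^ (3 * m)) x := mul_inv_eq_iff_eq_mul.mp hconj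
  have h6 := hcomm.orderOf_mul_eq_mul_orderOf_of_coprime (by rw [ht, hx]; decide)
  rw [ht, hx] at h6
  exact hsix _ h6

end quot

/-! ### the two cases -/

/-- in a cyclic 3-group any two elements of order 3 are equal or inverse -/
theorem eq_or_eq_inv_of_cyclic {H : Type u} [Group H] [Finite H] {P : Subgroup H} (hP : IsCyclic P) {a b : H} (ha : a ∈ P)
    (hb : b ∈ P) (ha3 : orderOf a = 3) (hb3 : orderOf b = 3) : b = a ∨ b = a⁻¹ := by
  classical
  have : Fintype P := Fintype.ofFinite P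
  by_contra hcon
  push Not at hcon
  obtain ⟨h1, h2⟩ := hcon
  have hcard := IsCyclic.card_pow_eq_one_le (α := P) (n := 3) (by norm_num)
  have ha1 : a ^ 3 = 1 := by rw [← ha3, pow_orderOf_eq_one]
  have hb1 : b ^ 3 = 1 := by rw [← hb3, pow_orderOf_eq_one]
  have hsub : ({1, ⟨a, ha⟩, ⟨a, ha⟩⁻¹, ⟨b, hb⟩} : Finset P) ⊆ Finset.univ.filter fun g : P => g ^ 3 = 1 := by
    intro g hg
    simp only [Finset.mem_insert, Finset.mem_singleton] at hg
    rw [Finset.mem_filter]
    refine ⟨Finset.mem_univ _, ?_⟩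
    rcases hg with rfl | rfl | rfl | rfl
    · exact one_pow _
    · exact Subtype.ext ha1
    · rw [inv_pow, inv_eq_one]; exact Subtype.ext ha1
    · exact Subtype.ext hb1
  have ha0 : a ≠ 1 := by rintro rfl; rw [orderOf_one] at ha3; omega
  have hb0 : b ≠ 1 := by rintro rfl; rw [orderOf_one] at hb3; omega
  have haa : a ≠ a⁻¹ := by
    intro h
    have h3 : a ^ 2 = 1 := by rw [pow_two]; nth_rw 1 [h]; exact inv_mul_cancel a
    have := orderOf_dvd_of_pow_eq_one h3
    rw [ha3] at this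
    omega
  have h4 : ({1, ⟨a, ha⟩, ⟨a, ha⟩⁻¹, ⟨b, hb⟩} : Finset P).card = 4 := by
    have e1 : (⟨a, ha⟩⁻¹ : P) ≠ ⟨b, hb⟩ := fun h => h2 (congrArg Subtype.val h).symm
    have e2 : (⟨a, ha⟩ : P) ≠ ⟨b, hb⟩ := fun h => h1 (congrArg Subtype.val h).symm
    have e3 : (⟨a, ha⟩ : P) ≠ ⟨a, ha⟩⁻¹ := fun h => haa (congrArg Subtype.val h)
    have e4 : (1 : P) ≠ ⟨a, ha⟩ := fun h => ha0 (congrArg Subtype.val h).symm
    have e5 : (1 : P) ≠ ⟨a, ha⟩⁻¹ := fun h => ha0 (by
      have := congrArg Subtype.val h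
      exact inv_eq_one.mp this.symm)
    have e6 : (1 : P) ≠ ⟨b, hb⟩ := fun h => hb0 (congrArg Subtype.val h).symm
    rw [Finset.card_insert_of_notMem (by simp [e4, e5, e6]), Finset.card_insert_of_notMem (by simp [e2, e3]),
      Finset.card_insert_of_notMem (by simpa using e1), Finset.card_singleton]
  have := (Finset.card_le_card hsub).trans hcard
  omega

section main

variable {H : Type u} [Group H] [Finite H]

omit [Finite H] in
/-- elements of order 2 do not commute with elements of order 3 -/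
theorem not_commute (hsix : NoSix H) {t x : H} (ht : orderOf t = 2) (hx : orderOf x = 3) : ¬ t * x = x * t := by
  intro h
  have h6 := (show Commute t x from h).orderOf_mul_eq_mul_orderOf_of_coprime (by rw [ht, hx]; decide)
  rw [ht, hx] at h6
  exact hsix _ h6

theorem odd_centralizer (hsix : NoSix H) {x : H} (hx : orderOf x = 3) : Odd (Nat.card (centralizer ({x} : Set H))) := by
  rw [← Nat.not_even_iff_odd, even_iff_two_dvd]
  intro h
  have : Fact (Nat.Prime 2) := ⟨Nat.prime_two⟩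
  obtain ⟨t, ht⟩ := exists_prime_orderOf_dvd_card' 2 h
  rw [← Subgroup.orderOf_coe] at ht
  exact not_commute hsix ht hx (mem_centralizer_singleton_iff.mp t.2)

/-- the case of a normal Sylow 3-subgroup -/
theorem caseA (hsix : NoSix H) (hodd : ¬ Odd (Nat.card H)) (h3 : 3 ∣ Nat.card H) {Y : Subgroup H} [Y.Normal]
    (hY3 : ¬ 3 ∣ Nat.card Y) (hYodd : Odd (Nat.card Y)) (hYc : ∀ x : H, orderOf x = 3 → ∀ y ∈ Y, x * y = y * x)
    (hcq : OddCyc (H ⧸ Y)) (P : Sylow 3 (H ⧸ Y)) (hPn : (P : Subgroup (H ⧸ Y)).Normal)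
    (hPi : (P : Subgroup (H ⧸ Y)).index ∣ 2) (T : Sylow 2 H) :
    ∃ L : Subgroup H, L = (T : Subgroup H) ⊔ Subgroup.closure {x : H | orderOf x = 3} ∧
      (∃ (F : Type) (_ : Field F) (_ : Fintype F) (_ : CharP F 2), Nonempty (L ≃* Matrix.SpecialLinearGroup (Fin 2) F) ∧
        (Fintype.card F ≠ 2 → L.Normal)) ∧
      ∀ T' : Sylow 2 H, T' ≠ T → (T : Subgroup H) ⊓ T' = ⊥ := by
  have : Fact (Nat.Prime 2) := ⟨Nat.prime_two⟩
  have : Fact (Nat.Prime 3) := ⟨Nat.prime_three⟩
  obtain ⟨x, hx⟩ := exists_prime_orderOf_dvd_card' 3 h3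
  have hPcyc : IsCyclic (P : Subgroup (H ⧸ Y)) := hcq 3 P Nat.prime_three (by norm_num)
  have hPuniq : ∀ Q : Sylow 3 (H ⧸ Y), Q = P := fun Q => by
    have := Sylow.unique_of_normal P hPn
    exact Subsingleton.elim _ _
  have hmemP : ∀ a : H ⧸ Y, orderOf a = 3 → a ∈ (P : Subgroup (H ⧸ Y)) := by
    intro a ha
    have hz : IsPGroup 3 (zpowers a) := IsPGroup.of_card (n := 1) (by rw [Nat.card_zpowers, ha, pow_one])
    obtain ⟨Q, hQ⟩ := hz.exists_le_sylow
    rw [hPuniq Q] at hQ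
    exact hQ (mem_zpowers a)
  have hxx : ∀ x' : H, orderOf x' = 3 → x' = x ∨ x' = x⁻¹ := by
    intro x' hx'
    have h1 := orderOf_mk_three hY3 hx
    have h2 := orderOf_mk_three hY3 hx'
    rcases eq_or_eq_inv_of_cyclic hPcyc (hmemP _ h1) (hmemP _ h2) h1 h2 with h | h
    · exact Or.inl (eq_of_mk_eq hY3 hYc hx' hx h)
    · right
      refine eq_of_mk_eq hY3 hYc hx' (by rw [orderOf_inv, hx]) ?_
      rw [h, QuotientGroup.mk_inv]
  -- the order of `T` is 2
  have hcardH : Nat.card H = Nat.card Y * (Nat.card (P : Subgroup (H ⧸ Y)) * (P : Subgroup (H ⧸ Y)).index) := by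
    rw [Subgroup.card_mul_index, ← Subgroup.index_eq_card, Subgroup.card_mul_index]
  have hPodd : Odd (Nat.card (P : Subgroup (H ⧸ Y))) := by
    obtain ⟨n, hn⟩ := IsPGroup.iff_card.mp P.2
    rw [hn]
    exact Odd.pow (by decide)
  have hidx : (P : Subgroup (H ⧸ Y)).index = 2 := by
    rcases (Nat.dvd_prime Nat.prime_two).mp hPi with h | h
    · exfalso
      apply hodd
      rw [hcardH, h, mul_one]
      exact hYodd.mul hPodd
    · exact h
  rw [hidx] at hcardH
  have h4 : ¬ 4 ∣ Nat.card H := by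
    rw [hcardH, ← mul_assoc]
    have ho := hYodd.mul hPodd
    rw [Nat.odd_iff] at ho
    omega
  have hT2 : ∀ T : Sylow 2 H, Nat.card (T : Subgroup H) = 2 := by
    intro T
    obtain ⟨n, hn⟩ := IsPGroup.iff_card.mp T.2
    have h2 : 2 ∣ Nat.card (T : Subgroup H) := T.dvd_card_of_dvd_card (by
      rw [hcardH, ← mul_assoc]; exact Dvd.intro_left _ rfl)
    have hd : Nat.card (T : Subgroup H) ∣ Nat.card H := Subgroup.card_subgroup_dvd_card _
    rw [hn] at h2 hd ⊢
    have hn2 : n < 2 := by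
      by_contra hcon
      push Not at hcon
      exact h4 ((Nat.pow_dvd_pow 2 hcon).trans hd)
    interval_cases n
    · omega
    · rfl
  obtain ⟨t0, ht0⟩ := exists_prime_orderOf_dvd_card' 2 (show 2 ∣ Nat.card (T : Subgroup H) by rw [hT2])
  obtain ⟨t, htT⟩ := t0
  rw [Subgroup.orderOf_mk] at ht0
  have ht : orderOf t = 2 := ht0
  have hTz : (T : Subgroup H) = zpowers t :=
    (eq_of_le_of_card_ge (by rwa [zpowers_le]) (by rw [hT2, Nat.card_zpowers, ht])).symm
  have htt : t * t = 1 := by rw [← pow_two, ← ht, pow_orderOf_eq_one]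
  have htinv : t⁻¹ = t := inv_eq_of_mul_eq_one_left htt
  have hconj : t * x * t⁻¹ = x⁻¹ := by
    rcases hxx (t * x * t⁻¹) (((MulAut.conj t).orderOf_eq x).trans hx) with h | h
    · exact absurd (mul_inv_eq_iff_eq_mul.mp h) (not_commute hsix ht hx)
    · exact h
  have hs : orderOf (t * x) = 2 := by
    refine orderOf_eq_prime ?_ ?_
    · rw [pow_two]
      calc t * x * (t * x) = t * x * t⁻¹ * x := by rw [htinv]; group
        _ = 1 := by rw [hconj, inv_mul_cancel]
    · intro h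
      have : x = t := by rw [← htinv]; exact (inv_eq_of_mul_eq_one_right h).symm
      rw [this, ht] at hx
      omega
  have hts : orderOf (t * (t * x)) = 3 := by rw [← mul_assoc, htt, one_mul, hx]
  obtain ⟨e⟩ := SporadicB.DihedralLift.closure_pair_equiv_dihedral' ht hs hts
  obtain ⟨e1⟩ := SporadicB.DihedralLift.dihedral_three_equiv_perm
  obtain ⟨e2⟩ := LieClassical.SLTwoTwo.nonempty_mulEquiv (F := ZMod 2) (ZMod.card 2)
  have hL : (T : Subgroup H) ⊔ closure {x : H | orderOf x = 3} = closure {t, t * x} := by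
    apply le_antisymm
    · refine sup_le ?_ ?_
      · rw [hTz, zpowers_le]
        exact subset_closure (Or.inl rfl)
      · rw [closure_le]
        have hxm : x ∈ closure {t, t * x} := by
          have e0 : t * (t * x) = x := by rw [← mul_assoc, htt, one_mul]
          have e1 := mul_mem (subset_closure (Or.inl rfl) : t ∈ closure {t, t * x})
            (subset_closure (Or.inr rfl) : t * x ∈ closure {t, t * x})
          rwa [e0] at e1
        intro x' hx'
        rcases hxx x' hx' with rfl | rfl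
        · exact hxm
        · exact inv_mem hxm
    · rw [closure_le]
      have h1 : t ∈ (T : Subgroup H) ⊔ closure {x : H | orderOf x = 3} := mem_sup_left htT
      rintro z (rfl | rfl)
      · exact h1
      · exact mul_mem h1 (mem_sup_right (subset_closure hx))
  refine ⟨_, rfl, ⟨ZMod 2, inferInstance, inferInstance, inferInstance, ?_, fun h => absurd (ZMod.card 2) h⟩, ?_⟩
  · exact ⟨(MulEquiv.subgroupCongr hL).trans (e.trans (e1.trans e2.symm))⟩
  · intro T' hT'
    rw [eq_bot_iff]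
    intro z hz
    rw [mem_bot]
    by_contra hz1
    apply hT'
    have hc2 : ∀ T : Sylow 2 H, z ∈ (T : Subgroup H) → zpowers z = (T : Subgroup H) := by
      intro T hzT
      refine eq_of_le_of_card_ge (by rwa [zpowers_le]) ?_
      rw [hT2, Nat.card_zpowers]
      have : orderOf z ≠ 1 := by rwa [Ne, orderOf_eq_one_iff]
      have := orderOf_pos z
      omega
    exact Sylow.ext ((hc2 T' hz.2).symm.trans (hc2 T hz.1))

/-- `⟨elements of order 3⟩` -/
def XX (H : Type u) [Group H] : Subgroup H := closure {x : H | orderOf x = 3}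

omit [Finite H] in
theorem mem_XX {x : H} (hx : orderOf x = 3) : x ∈ XX H := subset_closure hx

omit [Finite H] in
theorem XX_normal : (XX H).Normal := by
  refine ⟨fun n hn g => ?_⟩
  have hle : XX H ≤ (XX H).comap (MulAut.conj g).toMonoidHom := by
    unfold XX
    rw [closure_le]
    intro x hx
    rw [SetLike.mem_coe, mem_comap]
    refine subset_closure ?_
    exact ((MulAut.conj g).orderOf_eq x).trans hx
  exact hle hn

/-- `X ∩ Y = 1` if `Y` is a central 3'-group with cyclic Sylow subgroups -/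
theorem XX_inf {Y : Subgroup H} (hc : OddCyc H) (hY3 : ¬ 3 ∣ Nat.card Y) (hYodd : Odd (Nat.card Y))
    (hYc : ∀ x : H, orderOf x = 3 → ∀ y ∈ Y, x * y = y * x) : XX H ⊓ Y = ⊥ := by
  by_contra hne
  have h1 : Nat.card ↥(XX H ⊓ Y) ≠ 1 := fun h => hne (card_eq_one.mp h)
  obtain ⟨r, hr, hrd⟩ := Nat.exists_prime_and_dvd h1
  have : Fact r.Prime := ⟨hr⟩
  obtain ⟨z, hzX, hzY, hz⟩ : ∃ z : H, z ∈ XX H ∧ z ∈ Y ∧ orderOf z = r := by
    obtain ⟨z, hz⟩ := exists_prime_orderOf_dvd_card' r hrd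
    exact ⟨z, (mem_inf.mp z.2).1, (mem_inf.mp z.2).2, by rw [Subgroup.orderOf_coe]; exact hz⟩
  have hrY : r ∣ Nat.card Y := hrd.trans (card_dvd_of_le inf_le_right)
  have hr2 : r ≠ 2 := by
    rintro rfl
    rw [← Nat.not_even_iff_odd, even_iff_two_dvd] at hYodd
    exact hYodd hrY
  have hr3 : r ≠ 3 := by
    rintro rfl
    exact hY3 hrY
  -- `z` is central in `X`
  have hcent : ∀ g ∈ XX H, g * z = z * g := by
    intro g hg
    refine closure_induction (p := fun g _ => g * z = z * g) ?_ ?_ ?_ ?_ hg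
    · intro x hx; exact hYc x hx z hzY
    · simp
    · intro a b _ _ ha hb
      exact (show Commute z a from ha.symm).mul_right (show Commute z b from hb.symm) |>.symm
    · intro a _ ha
      exact ((show Commute z a from ha.symm).inv_right).symm
  have hzz : IsPGroup r (zpowers (⟨z, hzX⟩ : XX H)) :=
    IsPGroup.of_card (n := 1) (by rw [Nat.card_zpowers, Subgroup.orderOf_mk, hz, pow_one])
  obtain ⟨R, hR⟩ := hzz.exists_le_sylow
  have hRc : IsCyclic (R : Subgroup (XX H)) :=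
    OddCyc.of_injective (f := (XX H).subtype) (XX H).subtype_injective hc r R hr hr2
  let _ : CommGroup (R : Subgroup (XX H)) := hRc.commGroup
  let τ : XX H →* (R : Subgroup (XX H)) := MonoidHom.transfer (MonoidHom.id (R : Subgroup (XX H)))
  have hτ : ∀ g : H, ∀ hg : g ∈ XX H, τ ⟨g, hg⟩ = 1 := by
    intro g hg
    refine closure_induction (p := fun g hg => τ ⟨g, hg⟩ = 1) ?_ ?_ ?_ ?_ hg
    · intro x hx
      have h3 : (τ ⟨x, mem_XX hx⟩) ^ 3 = 1 := by
        rw [← map_pow]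
        have : (⟨x, mem_XX hx⟩ : XX H) ^ 3 = 1 := Subtype.ext (by
          change x ^ 3 = 1
          rw [← show orderOf x = 3 from hx, pow_orderOf_eq_one])
        rw [this, map_one]
      obtain ⟨n, hn⟩ := R.2 (τ ⟨x, mem_XX hx⟩)
      have h4 : orderOf (τ ⟨x, mem_XX hx⟩) ∣ Nat.gcd 3 (r ^ n) :=
        Nat.dvd_gcd (orderOf_dvd_of_pow_eq_one h3) (orderOf_dvd_of_pow_eq_one hn)
      have h5 : Nat.gcd 3 (r ^ n) = 1 :=
        Nat.Coprime.pow_right _ ((Nat.coprime_primes Nat.prime_three hr).mpr (Ne.symm hr3))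
      rw [h5, Nat.dvd_one, orderOf_eq_one_iff] at h4
      exact h4
    · exact map_one τ
    · intro a b ha hb h1 h2
      have : (⟨a * b, mul_mem ha hb⟩ : XX H) = ⟨a, ha⟩ * ⟨b, hb⟩ := rfl
      rw [this, map_mul, h1, h2, one_mul]
    · intro a ha h1
      have : (⟨a⁻¹, inv_mem ha⟩ : XX H) = ⟨a, ha⟩⁻¹ := rfl
      rw [this, map_inv, h1, inv_one]
  have hkey : ∀ (k : ℕ) (g₀ : XX H), g₀⁻¹ * (⟨z, hzX⟩ : XX H) ^ k * g₀ ∈ (R : Subgroup (XX H)) →
      g₀⁻¹ * (⟨z, hzX⟩ : XX H) ^ k * g₀ = (⟨z, hzX⟩ : XX H) ^ k := by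
    intro k g₀ _
    have : Commute g₀ (⟨z, hzX⟩ : XX H) := Subtype.ext (hcent g₀ g₀.2)
    rw [mul_assoc, ← (this.pow_right k).eq, inv_mul_cancel_left]
  have h6 := MonoidHom.transfer_eq_pow (MonoidHom.id (R : Subgroup (XX H))) (⟨z, hzX⟩ : XX H) hkey
  have h7 : τ ⟨z, hzX⟩ = 1 := hτ z hzX
  have h8 : (⟨z, hzX⟩ : XX H) ^ (R : Subgroup (XX H)).index = 1 := by
    have h9 : τ ⟨z, hzX⟩ = _ := h6
    rw [h7] at h9
    exact (congrArg Subtype.val h9).symm
  have h10 : r ∣ (R : Subgroup (XX H)).index := by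
    have := orderOf_dvd_of_pow_eq_one h8
    rwa [Subgroup.orderOf_mk, hz] at this
  exact R.not_dvd_index h10

/-- the case `⟨elements of order 3⟩ ≃ SL₂(F)` -/
theorem caseB (hc : OddCyc H) (hsix : NoSix H) {F : Type} [Field F] [Fintype F] [CharP F 2]
    (e : XX H ≃* Matrix.SpecialLinearGroup (Fin 2) F) (T : Sylow 2 H) :
    ∃ L : Subgroup H, L = (T : Subgroup H) ⊔ Subgroup.closure {x : H | orderOf x = 3} ∧
      (∃ (F : Type) (_ : Field F) (_ : Fintype F) (_ : CharP F 2), Nonempty (L ≃* Matrix.SpecialLinearGroup (Fin 2) F) ∧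
        (Fintype.card F ≠ 2 → L.Normal)) ∧
      ∀ T' : Sylow 2 H, T' ≠ T → (T : Subgroup H) ⊓ T' = ⊥ := by
  have : Fact (Nat.Prime 2) := ⟨Nat.prime_two⟩
  have : Fact (Nat.Prime 3) := ⟨Nat.prime_three⟩
  have hXn : (XX H).Normal := XX_normal
  -- an involution of `X` inverting an element of order 3
  obtain ⟨a, x, hx, hax⟩ : ∃ a x : XX H, orderOf x = 3 ∧ a * x * a⁻¹ = x⁻¹ := by
    let a0 : Matrix.SpecialLinearGroup (Fin 2) F := ⟨!![1, 1; 0, 1], by simp⟩
    have h1 : a0 * a0 = 1 := by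
      apply Subtype.ext
      change (!![1, 1; 0, 1] : Matrix (Fin 2) (Fin 2) F) * !![1, 1; 0, 1] = 1
      ext i j
      fin_cases i <;> fin_cases j <;> simp [CharTwo.add_self_eq_zero]
    have h2 : a0 ≠ 1 := by
      intro h
      have := congrFun (congrFun (congrArg Subtype.val h) 0) 1
      simp [a0] at this
    obtain ⟨x0, hx0, hinv⟩ := T1Sl2.inverts_three h1 h2
    refine ⟨e.symm a0, e.symm x0, by rw [MulEquiv.orderOf_eq]; exact hx0, ?_⟩
    rw [← map_inv, ← map_inv, ← map_mul, ← map_mul, hinv]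
  have hx' : orderOf (x : H) = 3 := by rw [Subgroup.orderOf_coe]; exact hx
  -- Frattini argument
  have hfr : centralizer ({(x : H)} : Set H) ⊔ XX H = ⊤ := by
    rw [eq_top_iff]
    intro g _
    have hgx : orderOf (g * x * g⁻¹) = 3 := ((MulAut.conj g).orderOf_eq (x : H)).trans hx'
    have hz : ∀ y : XX H, orderOf y = 3 → ∃ P : Sylow 3 (XX H), y ∈ (P : Subgroup (XX H)) := by
      intro y hy
      have hz : IsPGroup 3 (zpowers y) := IsPGroup.of_card (n := 1) (by rw [Nat.card_zpowers, hy, pow_one])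
      obtain ⟨Q, hQ⟩ := hz.exists_le_sylow
      exact ⟨Q, hQ (mem_zpowers y)⟩
    obtain ⟨P, hP⟩ := hz x hx
    obtain ⟨P', hP'⟩ := hz ⟨g * x * g⁻¹, mem_XX hgx⟩ (by rw [Subgroup.orderOf_mk]; exact hgx)
    obtain ⟨c, hc'⟩ := MulAction.exists_smul_eq (XX H) P' P
    have hcyc : IsCyclic (P : Subgroup (XX H)) :=
      OddCyc.of_injective (f := (XX H).subtype) (XX H).subtype_injective hc 3 P Nat.prime_three (by norm_num)
    have hcm : c * ⟨g * x * g⁻¹, mem_XX hgx⟩ * c⁻¹ ∈ (P : Subgroup (XX H)) := by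
      rw [← hc']
      exact ⟨_, hP', rfl⟩
    have hord : orderOf (c * (⟨g * x * g⁻¹, mem_XX hgx⟩ : XX H) * c⁻¹) = 3 :=
      ((MulAut.conj c).orderOf_eq _).trans (by rw [Subgroup.orderOf_mk]; exact hgx)
    have hkey : ∃ d : XX H, (d : H) * g ∈ centralizer ({(x : H)} : Set H) := by
      rcases eq_or_eq_inv_of_cyclic hcyc hP hcm hx hord with h | h
      · refine ⟨c, mem_centralizer_singleton_iff.mpr ?_⟩
        have h' : (c : H) * (g * x * g⁻¹) * (c : H)⁻¹ = x := congrArg Subtype.val h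
        calc (c : H) * g * x = (c * (g * x * g⁻¹) * (c : H)⁻¹) * (c * g) := by group
          _ = x * (c * g) := by rw [h']
      · refine ⟨a * c, mem_centralizer_singleton_iff.mpr ?_⟩
        have h' : (c : H) * (g * x * g⁻¹) * (c : H)⁻¹ = (x : H)⁻¹ := congrArg Subtype.val h
        have h'' : (a : H) * (x : H) * (a : H)⁻¹ = (x : H)⁻¹ := congrArg Subtype.val hax
        have h3 : (a : H) * (x : H)⁻¹ * (a : H)⁻¹ = x := by
          have := congrArg (·⁻¹) h''
          simpa [mul_assoc] using this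
        change (a : H) * c * g * x = x * (a * c * g)
        calc (a : H) * c * g * x = a * (c * (g * x * g⁻¹) * (c : H)⁻¹) * (a : H)⁻¹ * (a * c * g) := by group
          _ = x * (a * c * g) := by rw [h', h3]
    obtain ⟨d, hd⟩ := hkey
    have : g = (d : H)⁻¹ * (d * g) := by group
    rw [this]
    exact mul_mem (mem_sup_right (inv_mem d.2)) (mem_sup_left hd)
  -- the index of `X` is odd
  have hidx : Odd (XX H).index := by
    have h1 : (XX H).index = (XX H).relIndex (centralizer ({(x : H)} : Set H)) := by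
      rw [← relIndex_sup_right, hfr, relIndex_top_right]
    rw [h1]
    exact (odd_centralizer hsix hx').of_dvd_nat (relIndex_dvd_card _ _)
  have hTX : ∀ T : Sylow 2 H, (T : Subgroup H) ≤ XX H := by
    intro T t ht
    obtain ⟨n, hn⟩ := T.2 ⟨t, ht⟩
    have hn' : t ^ 2 ^ n = 1 := congrArg Subtype.val hn
    have h1 : orderOf (t : H ⧸ XX H) ∣ Nat.gcd (2 ^ n) (XX H).index :=
      Nat.dvd_gcd (orderOf_dvd_of_pow_eq_one (by rw [← QuotientGroup.mk_pow, hn', QuotientGroup.mk_one]))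
        (by rw [index_eq_card]; exact orderOf_dvd_natCard _)
    have h2 : Nat.gcd (2 ^ n) (XX H).index = 1 := Nat.Coprime.pow_left _ (Nat.coprime_two_left.mpr hidx)
    rw [h2, Nat.dvd_one, orderOf_eq_one_iff] at h1
    exact (QuotientGroup.eq_one_iff _).mp h1
  have hL : (T : Subgroup H) ⊔ closure {x : H | orderOf x = 3} = XX H := sup_eq_right.mpr (hTX T)
  refine ⟨_, rfl, ⟨F, inferInstance, inferInstance, inferInstance, ⟨(MulEquiv.subgroupCongr hL).trans e⟩, fun _ => ?_⟩, ?_⟩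
  · rw [hL]; exact hXn
  · intro T' hT'
    rw [eq_bot_iff]
    intro z hz
    rw [mem_bot]
    by_contra hz1
    let U : Sylow 2 H → Sylow 2 (Matrix.SpecialLinearGroup (Fin 2) F) := fun T =>
      Sylow.mapSurjective (f := e.toMonoidHom) e.surjective (T.subtype (hTX T))
    have hU : ∀ T : Sylow 2 H, ∀ w : XX H, e w ∈ (U T : Subgroup _) ↔ (w : H) ∈ (T : Subgroup H) := by
      intro T w
      change e w ∈ ((T : Subgroup H).subgroupOf (XX H)).map e.toMonoidHom ↔ _
      rw [show e w = e.toMonoidHom w from rfl, mem_map_iff_mem e.injective, mem_subgroupOf]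
    have hne : U T ≠ U T' := by
      intro h
      apply hT'
      refine Sylow.ext (le_antisymm (fun y hy => ?_) (fun y hy => ?_))
      · have := (hU T ⟨y, hTX T' hy⟩)
        rw [h] at this
        exact this.mp ((hU T' ⟨y, hTX T' hy⟩).mpr hy)
      · have := (hU T' ⟨y, hTX T hy⟩)
        rw [← h] at this
        exact this.mp ((hU T ⟨y, hTX T hy⟩).mpr hy)
    have h1 := T1Sl2.sylow_ti hne ((hU T ⟨z, hTX T hz.1⟩).mpr hz.1) ((hU T' ⟨z, hTX T hz.1⟩).mpr hz.2)
    exact hz1 (congrArg Subtype.val (e.injective (h1.trans (map_one e).symm)))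

/-- F4 (1.3-1.5), abstract -/
theorem structure_quotient {V : Type u} [CommGroup V] [Finite V]
    (hV : ∀ v : V, v * v = 1) (hV1 : Nontrivial V) (ρ : H →* MulAut V) (hρ : Function.Injective ρ)
    (hO2 : ∀ N : Subgroup H, N.Normal → IsPGroup 2 N → N = ⊥) (hfpf : ∀ x, orderOf x = 3 → ∀ v, ρ x v = v → v = 1)
    (hc : OddCyc H) (hK : KSec H) (hsix : NoSix H) (h3 : 3 ∣ Nat.card H) :
    Odd (Nat.card H) ∨ ∀ T : Sylow 2 H, ∃ L : Subgroup H, L = (T : Subgroup H) ⊔ Subgroup.closure {x : H | orderOf x = 3} ∧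
      (∃ (F : Type) (_ : Field F) (_ : Fintype F) (_ : CharP F 2), Nonempty (L ≃* Matrix.SpecialLinearGroup (Fin 2) F) ∧
        (Fintype.card F ≠ 2 → L.Normal)) ∧
      ∀ T' : Sylow 2 H, T' ≠ T → (T : Subgroup H) ⊓ T' = ⊥ := by
  by_cases hodd : Odd (Nat.card H)
  · exact Or.inl hodd
  right
  intro T
  -- the largest normal 3'-subgroup
  obtain ⟨Y, hYn, hY3, hYmax⟩ : ∃ Y : Subgroup H, Y.Normal ∧ ¬ 3 ∣ Nat.card Y ∧
      ∀ Y' : Subgroup H, Y'.Normal → ¬ 3 ∣ Nat.card Y' → Nat.card Y' ≤ Nat.card Y := by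
    have : Nonempty {Y : Subgroup H // Y.Normal ∧ ¬ 3 ∣ Nat.card Y} :=
      ⟨⟨⊥, inferInstance, by rw [card_bot]; omega⟩⟩
    obtain ⟨Y, hY⟩ := Finite.exists_max fun Y : {Y : Subgroup H // Y.Normal ∧ ¬ 3 ∣ Nat.card Y} => Nat.card Y.1
    exact ⟨Y.1, Y.2.1, Y.2.2, fun Y' h1 h2 => hY ⟨Y', h1, h2⟩⟩
  obtain ⟨hYodd, hYc'⟩ := T1Core.core_centralised hV hV1 ρ hρ hO2 hfpf hc hK hsix Y hYn hY3 h3
  have hYc : ∀ x : H, orderOf x = 3 → ∀ y ∈ Y, x * y = y * x := hYc'
  have hO : ∀ N : Subgroup (H ⧸ Y), N.Normal → ¬ 3 ∣ Nat.card N → N = ⊥ := by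
    intro N hN hN3
    have h1 : Nat.card (N.comap (QuotientGroup.mk' Y)) = Nat.card Y * Nat.card N := by
      have h2 := Subgroup.card_mul_index (N.comap (QuotientGroup.mk' Y))
      have h4 := Subgroup.card_mul_index N
      rw [index_comap_of_surjective _ (QuotientGroup.mk'_surjective Y)] at h2
      rw [← Subgroup.index_eq_card] at h4
      have h5 := Subgroup.card_mul_index Y
      rw [← h4, ← h2, ← mul_assoc] at h5
      exact (Nat.eq_of_mul_eq_mul_right (Nat.pos_of_ne_zero index_ne_zero_of_finite) h5).symm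
    have h2 := hYmax (N.comap (QuotientGroup.mk' Y)) (hN.comap _) (by
      rw [h1]
      intro h
      rcases (Nat.Prime.dvd_mul Nat.prime_three).mp h with h | h
      · exact hY3 h
      · exact hN3 h)
    rw [h1] at h2
    have h6 : 0 < Nat.card Y := Nat.card_pos
    have h7 : 0 < Nat.card N := Nat.card_pos
    have h8 : Nat.card N = 1 := by
      have : Nat.card N ≤ 1 := by
        by_contra hcon
        push Not at hcon
        nlinarith
      omega
    exact card_eq_one.mp h8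
  have h3q : 3 ∣ Nat.card (H ⧸ Y) := by
    have h5 := Subgroup.card_mul_index Y
    rw [Subgroup.index_eq_card] at h5
    rw [← h5] at h3
    rcases (Nat.Prime.dvd_mul Nat.prime_three).mp h3 with h | h
    · exact absurd h hY3
    · exact h
  have hsixq := noSix_quot hY3 hYodd hYc hsix
  have hcq := oddCyc_quot (N := Y) hc
  rcases T1Socle.socle hcq (kSec_quot hK) hsixq h3q hO with ⟨P, hPn, hPi, -⟩ | ⟨L, hLn, hLs, -, hL3, hLiso⟩
  · exact caseA hsix hodd h3 hY3 hYodd hYc hcq P hPn hPi T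
  · -- the simple case
    have hXn : (XX H).Normal := XX_normal
    have hinf := XX_inf hc hY3 hYodd hYc
    have : Fact (Nat.Prime 3) := ⟨Nat.prime_three⟩
    have hXL : (XX H).map (QuotientGroup.mk' Y) = L := by
      have hle : (XX H).map (QuotientGroup.mk' Y) ≤ L := by
        rw [map_le_iff_le_comap]
        unfold XX
        rw [closure_le]
        intro x hx
        exact hL3 _ (orderOf_mk_three hY3 hx)
      have hn : ((XX H).map (QuotientGroup.mk' Y)).Normal := hXn.map _ (QuotientGroup.mk'_surjective Y)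
      have hn' : (((XX H).map (QuotientGroup.mk' Y)).subgroupOf L).Normal := inferInstance
      rcases hn'.eq_bot_or_eq_top with h | h
      · exfalso
        obtain ⟨x, hx⟩ := exists_prime_orderOf_dvd_card' 3 h3
        have h1 : (x : H ⧸ Y) ∈ (XX H).map (QuotientGroup.mk' Y) := ⟨x, mem_XX hx, rfl⟩
        have h2 : (⟨(x : H ⧸ Y), hle h1⟩ : L) ∈ ((XX H).map (QuotientGroup.mk' Y)).subgroupOf L :=
          mem_subgroupOf.mpr h1
        rw [h, mem_bot] at h2
        have h4 := orderOf_mk_three hY3 hx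
        have h5 : (x : H ⧸ Y) = 1 := congrArg Subtype.val h2
        rw [h5, orderOf_one] at h4
        omega
      · exact le_antisymm hle (subgroupOf_eq_top.mp h)
    have hinj : Function.Injective ((QuotientGroup.mk' Y).comp (XX H).subtype) := by
      rw [injective_iff_map_eq_one]
      intro z hz
      have hzY : (z : H) ∈ Y := (QuotientGroup.eq_one_iff _).mp hz
      have : (z : H) ∈ XX H ⊓ Y := mem_inf.mpr ⟨z.2, hzY⟩
      rw [hinf, mem_bot] at this
      exact Subtype.ext this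
    have hrange : ((QuotientGroup.mk' Y).comp (XX H).subtype).range = L := by
      rw [MonoidHom.range_comp, range_subtype, hXL]
    let e : XX H ≃* L := (MonoidHom.ofInjective hinj).trans (MulEquiv.subgroupCongr hrange)
    rcases hLiso with ⟨F, _, _, hp, h7, ⟨e'⟩⟩ | ⟨F, _, _, _, h4, ⟨e'⟩⟩
    · exfalso
      let j : Matrix.ProjectiveSpecialLinearGroup (Fin 2) F →* H := (XX H).subtype.comp (e.trans e').symm.toMonoidHom
      have hj : Function.Injective j := (XX H).subtype_injective.comp (e.trans e').symm.injective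
      exact T1PslPrime.not_psl_prime hp h7 hV hV1 (ρ.comp j)
        (fun x hx v hv => hfpf (j x) (by rw [orderOf_injective j hj]; exact hx) v hv)
        (OddCyc.of_injective hj hc) (NoSix.of_injective hj hsix)
    · exact caseB hc hsix (e.trans e') T

end main

end Cfsg.Agent.OddCyclic.T1StructQ
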