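import Mathlib
import Cfsg.Prelude.Def_CaseTheorems
import Cfsg.Agent.OddCyclic.T1Defs
import Cfsg.Agent.OddCyclic.T1Sl2
import Cfsg.Agent.OddCyclic.T1StructQ
import Cfsg.Agent.S0029
import Cfsg.Agent.Lib.CoprimeCommutator
import Cfsg.Agent.Lib.FrattiniPGroup
import Cfsg.Agent.Characters.CNBasic
import Cfsg.Agent.LieExceptional.CITGlobal
import Cfsg.Agent.LieExceptional.CITBasic

/-!
# S0342, no elements of order 6: types of the maximal local subgroups (piece F5, section 1.5)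
-/

set_option autoImplicit false
set_option maxHeartbeats 400000
universe u

namespace Cfsg.Agent.OddCyclic.T1Structure

open Cfsg.Agent.LieExceptional.CITDefs Cfsg.Agent.OddCyclic.T1Defs

section Abs

variable {M : Type u} [Group M] [Finite M]

/-- `M/Q` acts faithfully on `Q/Φ(Q)` -/
theorem exists_action (Q : Subgroup M) [hQn : Q.Normal] (hQ : IsPGroup 2 Q)
    (hc : ∀ m : M, (∀ x ∈ Q, m * x = x * m) → m ∈ Q)
    (hO2 : ∀ N : Subgroup M, N.Normal → IsPGroup 2 N → N ≤ Q) (h1 : Q ≠ ⊥)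
    (hfpf : ∀ x : M, orderOf x = 3 → ∀ u ∈ Q, x * u = u * x → u = 1) :
    ∃ (V : Type u) (_ : CommGroup V) (_ : Finite V) (ρ : M ⧸ Q →* MulAut V),
      (∀ v : V, v * v = 1) ∧ Nontrivial V ∧ Function.Injective ρ ∧
      (∀ x, orderOf x = 3 → ∀ v, ρ x v = v → v = 1) := by
  classical
  have : Fact (Nat.Prime 2) := ⟨Nat.prime_two⟩
  have : Fact (Nat.Prime 3) := ⟨Nat.prime_three⟩
  obtain ⟨Φ, hΦ⟩ : ∃ Φ : Subgroup M, Φ = (frattini Q).map Q.subtype := ⟨_, rfl⟩
  have hΦn : Φ.Normal := by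
    rw [hΦ]
    exact ConjAct.normal_of_characteristic_of_normal
  have hΦQ : Φ ≤ Q := by
    rw [hΦ]
    rintro _ ⟨y, -, rfl⟩
    exact y.2
  have hcomm : ∀ x ∈ Q, ∀ y ∈ Q, x * y * x⁻¹ * y⁻¹ ∈ Φ := by
    intro x hx y hy
    rw [hΦ]
    exact ⟨(⟨x, hx⟩ : Q) * ⟨y, hy⟩ * (⟨x, hx⟩ : Q)⁻¹ * (⟨y, hy⟩ : Q)⁻¹,
      Lib.FrattiniPGroup.commutator_mem_frattini hQ ⟨x, hx⟩ ⟨y, hy⟩, rfl⟩
  have hsq : ∀ x ∈ Q, x ^ 2 ∈ Φ := by
    intro x hx
    rw [hΦ]
    exact ⟨(⟨x, hx⟩ : Q) ^ 2, Lib.FrattiniPGroup.pow_mem_frattini hQ _, rfl⟩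
  have hodd : (Nat.card (frattini Q)).Coprime 3 := by
    obtain ⟨k, hk⟩ := (hQ.to_subgroup (frattini Q)).exists_card_eq
    rw [hk]
    exact Nat.Coprime.pow_left k (by norm_num)
  obtain ⟨W, hW⟩ : ∃ W : Subgroup (M ⧸ Φ), W = Q.map (QuotientGroup.mk' Φ) := ⟨_, rfl⟩
  have hWn : W.Normal := by
    rw [hW]
    exact hQn.map _ (QuotientGroup.mk'_surjective Φ)
  have hWmem : ∀ w : W, ∃ q ∈ Q, (QuotientGroup.mk' Φ) q = (w : M ⧸ Φ) := fun w => by
    obtain ⟨q, hq, h⟩ := hW.le w.2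
    exact ⟨q, hq, h⟩
  have hmem : ∀ q ∈ Q, (QuotientGroup.mk' Φ) q ∈ W := fun q hq => by
    rw [hW]
    exact ⟨q, hq, rfl⟩
  have hmk : ∀ x y : M, (QuotientGroup.mk' Φ) x = (QuotientGroup.mk' Φ) y ↔ x⁻¹ * y ∈ Φ := fun x y =>
    QuotientGroup.eq
  have hWc : ∀ a b : W, a * b = b * a := by
    intro a b
    obtain ⟨x, hx, hxa⟩ := hWmem a
    obtain ⟨y, hy, hyb⟩ := hWmem b
    apply Subtype.ext
    rw [Subgroup.coe_mul, Subgroup.coe_mul, ← hxa, ← hyb, ← map_mul, ← map_mul, hmk]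
    have h := hcomm _ (Q.inv_mem hy) _ (Q.inv_mem hx)
    have h2 : (x * y)⁻¹ * (y * x) = y⁻¹ * x⁻¹ * y⁻¹⁻¹ * x⁻¹⁻¹ := by group
    rw [h2]
    exact h
  let cg : CommGroup W := { (inferInstance : Group W) with mul_comm := hWc }
  let ρ₀ : M →* MulAut W := (MulAut.conjNormal (H := W)).comp (QuotientGroup.mk' Φ)
  have hρ₀ : ∀ (m : M) (w : W), ((ρ₀ m w : W) : M ⧸ Φ) =
      (QuotientGroup.mk' Φ) m * w * ((QuotientGroup.mk' Φ) m)⁻¹ := fun m w =>
    MulAut.conjNormal_apply _ _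
  have hker : ∀ m : M, ρ₀ m = 1 ↔ ∀ q ∈ Q, m * q * m⁻¹ * q⁻¹ ∈ Φ := by
    intro m
    constructor
    · intro h q hq
      have h2 := hρ₀ m ⟨_, hmem q hq⟩
      rw [h] at h2
      change (QuotientGroup.mk' Φ) q = _ * (QuotientGroup.mk' Φ) q * _ at h2
      rw [← map_inv, ← map_mul, ← map_mul, hmk] at h2
      have h3 := hΦn.conj_mem _ h2 q
      have h4 : m * q * m⁻¹ * q⁻¹ = q * (q⁻¹ * (m * q * m⁻¹)) * q⁻¹ := by group
      rw [h4]
      exact h3
    · intro h
      apply MulEquiv.ext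
      intro w
      obtain ⟨q, hq, hqw⟩ := hWmem w
      apply Subtype.ext
      rw [hρ₀, ← hqw]
      rw [← map_inv, ← map_mul, ← map_mul]
      change _ = (w : M ⧸ Φ)
      rw [← hqw]
      symm
      rw [hmk]
      have h3 := hΦn.conj_mem _ (h q hq) q⁻¹
      have h4 : q⁻¹ * (m * q * m⁻¹) = q⁻¹ * (m * q * m⁻¹ * q⁻¹) * q⁻¹⁻¹ := by group
      rw [h4]
      exact h3
  have hQker : ∀ q ∈ Q, ρ₀ q = 1 := fun q hq => (hker q).2 fun x hx => hcomm q hq x hx
  have hkerQ : ∀ m, ρ₀ m = 1 → m ∈ Q := by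
    have hK2 : IsPGroup 2 ρ₀.ker := by
      rintro ⟨m, hm⟩
      obtain ⟨a, b, hb, hab⟩ := Nat.exists_eq_two_pow_mul_odd (n := orderOf m) (orderOf_pos m).ne'
      refine ⟨a, ?_⟩
      apply Subtype.ext
      change m ^ 2 ^ a = 1
      have hord : orderOf (m ^ 2 ^ a) = b := by
        rw [orderOf_pow' _ (by positivity), hab]
        rw [Nat.gcd_eq_right (Dvd.intro _ rfl)]
        exact Nat.mul_div_cancel_left _ (by positivity)
      have hmem2 : m ^ 2 ^ a ∈ Q := by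
        apply hc
        have h5 := Cfsg.Agent.S0029.result (Subgroup.zpowers (m ^ 2 ^ a)) Q
          (by rw [Subgroup.normalizer_eq_top]; exact le_top)
          (by
            rw [Nat.card_zpowers, hord]
            obtain ⟨k, hk⟩ := (hQ.to_subgroup (frattini Q)).exists_card_eq
            rw [hk]
            exact Nat.Coprime.pow_right k hb.coprime_two_right)
          (by
            intro x hx q hq
            rw [← hΦ]
            obtain ⟨j, rfl⟩ := Subgroup.mem_zpowers_iff.1 hx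
            exact (hker _).1 (by
              rw [map_zpow, map_pow, MonoidHom.mem_ker.1 hm, one_pow, one_zpow]) q hq)
        intro x hx
        have h6 := h5 (Subgroup.mem_zpowers _)
        exact ((Subgroup.mem_centralizer_iff.1 h6) x hx).symm
      obtain ⟨k, hk⟩ := hQ ⟨_, hmem2⟩
      have hk' : (m ^ 2 ^ a) ^ 2 ^ k = 1 := congrArg Subtype.val hk
      have h7 : orderOf (m ^ 2 ^ a) ∣ 2 ^ k := orderOf_dvd_of_pow_eq_one hk'
      rw [hord] at h7
      have h8 : b = 1 := Nat.Coprime.eq_one_of_dvd (Nat.Coprime.pow_right k hb.coprime_two_right) h7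
      rw [← orderOf_eq_one_iff, hord, h8]
    intro m hm
    exact hO2 ρ₀.ker inferInstance hK2 (MonoidHom.mem_ker.2 hm)
  let ρ : M ⧸ Q →* MulAut W := QuotientGroup.lift Q ρ₀ hQker
  have hρm : ∀ m : M, ρ (m : M ⧸ Q) = ρ₀ m := fun m => rfl
  refine ⟨W, cg, inferInstance, ρ, ?_, ?_, ?_, ?_⟩
  · intro v
    obtain ⟨q, hq, hqv⟩ := hWmem v
    apply Subtype.ext
    change (v : M ⧸ Φ) * v = 1
    rw [← hqv, ← map_mul, ← sq]
    exact (QuotientGroup.eq_one_iff _).2 (hsq q hq)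
  · by_contra hnt
    rw [not_nontrivial_iff_subsingleton] at hnt
    have hQΦ : Q ≤ Φ := by
      intro q hq
      have h2 : (⟨_, hmem q hq⟩ : W) = 1 := Subsingleton.elim _ _
      exact (QuotientGroup.eq_one_iff _).1 (congrArg Subtype.val h2)
    have htop : frattini Q = ⊤ := by
      rw [eq_top_iff]
      intro x _
      have h3 := hQΦ x.2
      rw [hΦ] at h3
      obtain ⟨y, hy, hyx⟩ := h3
      have : y = x := Subtype.ext hyx
      rwa [← this]
    have h4 := frattini_nongenerating (K := (⊥ : Subgroup Q)) (by rw [htop]; simp)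
    apply h1
    rw [eq_bot_iff]
    intro q hq
    have h5 : (⟨q, hq⟩ : Q) ∈ (⊥ : Subgroup Q) := by rw [h4]; trivial
    rw [Subgroup.mem_bot] at h5 ⊢
    exact congrArg Subtype.val h5
  · rw [injective_iff_map_eq_one]
    intro x hx
    obtain ⟨m, rfl⟩ := QuotientGroup.mk_surjective x
    rw [hρm] at hx
    exact (QuotientGroup.eq_one_iff m).2 (hkerQ m hx)
  · intro x hx v hv
    obtain ⟨m, hm, rfl⟩ := Cfsg.Agent.Characters.CNBasic.exists_lift (p := 2) (q := 3) (by norm_num) Q hQ x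
      (by rw [← hx]; exact pow_orderOf_eq_one x) (by
        rintro rfl
        rw [orderOf_one] at hx
        norm_num at hx)
    rw [hρm] at hv
    obtain ⟨q, hq, hqv⟩ := hWmem v
    have hfix : m * q * m⁻¹ * q⁻¹ ∈ Φ := by
      have h2 := hρ₀ m v
      rw [hv, ← hqv, ← map_inv, ← map_mul, ← map_mul, hmk] at h2
      have h3 := hΦn.conj_mem _ h2 q
      have h4 : m * q * m⁻¹ * q⁻¹ = q * (q⁻¹ * (m * q * m⁻¹)) * q⁻¹ := by group
      rw [h4]
      exact h3
    have hcard3 : ¬ 3 ∣ Nat.card Φ := by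
      intro h3
      have h4 : Nat.card Φ = Nat.card (frattini Q) := by
        rw [hΦ]
        exact Nat.card_congr ((frattini Q).equivMapOfInjective _ Q.subtype_injective).symm.toEquiv
      rw [h4] at h3
      have := Nat.eq_one_of_dvd_coprimes hodd h3 dvd_rfl
      norm_num at this
    have hall : ∀ a ∈ Subgroup.zpowers m, q⁻¹ * (a * q * a⁻¹) ∈ Φ := by
      -- the elements a with a q a⁻¹ ≡ q mod Φ form a subgroup
      intro a ha
      have hcm : Commute ((QuotientGroup.mk' Φ) m) ((QuotientGroup.mk' Φ) q) := by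
        change _ * _ = _ * _
        rw [← map_mul, ← map_mul]
        symm
        rw [hmk]
        have h3 := hΦn.conj_mem _ hfix (m⁻¹ * q⁻¹)
        have h4 : (q * m)⁻¹ * (m * q) = (m⁻¹ * q⁻¹) * (m * q * m⁻¹ * q⁻¹) * (m⁻¹ * q⁻¹)⁻¹ := by group
        rw [h4]
        exact h3
      obtain ⟨j, rfl⟩ := Subgroup.mem_zpowers_iff.1 ha
      have h5 : Commute ((QuotientGroup.mk' Φ) (m ^ j)) ((QuotientGroup.mk' Φ) q) := by
        rw [map_zpow]
        exact hcm.zpow_left j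
      rw [← hmk, map_mul, map_mul, map_inv, h5.eq, mul_inv_cancel_right]
    obtain ⟨c, hc1, hc2⟩ := Cfsg.Agent.Lib.CoprimeCommutator.exists_fixed_in_coset 3 (Subgroup.zpowers m) Φ
      (IsPGroup.of_card (n := 1) (by rw [Nat.card_zpowers, hm, pow_one]))
      (by rw [Subgroup.normalizer_eq_top]; exact le_top) hcard3 q hall
    have hcQ : c ∈ Q := by
      have := Q.mul_mem hq (hΦQ hc2)
      rwa [mul_inv_cancel_left] at this
    have hcm : m * c = c * m := Subgroup.mem_centralizer_iff.1 hc1 m (Subgroup.mem_zpowers m)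
    have hc0 : c = 1 := hfpf m hm c hcQ hcm
    rw [hc0, mul_one] at hc2
    have hqΦ : q ∈ Φ := (Subgroup.inv_mem_iff _).1 hc2
    apply Subtype.ext
    rw [← hqv]
    exact (QuotientGroup.eq_one_iff _).2 hqΦ

end Abs

section Transport

theorem comm_eq_one {G : Type*} [Group G] (h : NoSix G) {x u : G} (hx : orderOf x = 3) {k : ℕ}
    (hu : u ^ 2 ^ k = 1) (hc : x * u = u * x) : u = 1 := by
  by_contra hu1
  obtain ⟨j, hj⟩ := LieExceptional.CITCommute.exists_involution hu hu1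
  have hcm : Commute x (u ^ j) := Commute.pow_right hc j
  apply h (x * u ^ j)
  rw [hcm.orderOf_mul_eq_mul_orderOf_of_coprime (by rw [hx, hj]; norm_num), hx, hj]

theorem oddCyc_of_injective {G H : Type*} [Group G] [Finite G] [Group H] (h : OddCyc G) (f : H →* G)
    (hf : Function.Injective f) : OddCyc H := by
  intro p P hp hp2
  obtain ⟨S, hS⟩ := (P.isPGroup'.map f).exists_le_sylow
  have := h p S hp hp2
  exact isCyclic_of_injective ((f.comp (P : Subgroup H).subtype).codRestrict (S : Subgroup G) fun x =>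
    hS ⟨x, x.2, rfl⟩) (fun x y hxy => Subtype.ext (hf (congrArg Subtype.val hxy)))

theorem oddCyc_of_surjective {G H : Type*} [Group G] [Finite G] [Group H] (h : OddCyc G) (f : G →* H)
    (hf : Function.Surjective f) : OddCyc H := by
  intro p P hp hp2
  have : Fact p.Prime := ⟨hp⟩
  have : Finite H := Finite.of_surjective f hf
  obtain ⟨S⟩ : Nonempty (Sylow p G) := inferInstance
  have hS := h p S hp hp2
  have h1 : IsCyclic ((S : Subgroup G).map f) :=
    isCyclic_of_surjective (f.subgroupMap (S : Subgroup G)) (f.subgroupMap_surjective _)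
  have e : (S.mapSurjective hf) ≃* P := Sylow.equiv _ _
  have h2 : IsCyclic (S.mapSurjective hf) := h1
  exact isCyclic_of_surjective e.toMonoidHom e.surjective

theorem K1.congr {K K' : Type*} [Group K] [Group K'] (e : K ≃* K') (h : K1 K) : K1 K' := by
  rcases h with ⟨F, _, _, h1, h2, ⟨f⟩⟩ | ⟨F, _, _, f, h1, h2, ⟨g⟩⟩ | ⟨F, _, _, m, h1, h2, ⟨g⟩⟩ | ⟨g, hg⟩
  · exact Or.inl ⟨F, _, _, h1, h2, ⟨e.symm.trans f⟩⟩
  · exact Or.inr (Or.inl ⟨F, _, _, f, h1, h2, ⟨e.symm.trans g⟩⟩)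
  · exact Or.inr (Or.inr (Or.inl ⟨F, _, _, m, h1, h2, ⟨e.symm.trans g⟩⟩))
  · exact Or.inr (Or.inr (Or.inr ⟨e g, by rw [← hg]; exact orderOf_injective e.toMonoidHom e.injective g⟩))

/-- sections of quotients of proper subgroups -/
theorem kSec_of_surjective {G : Type u} [Group G] (hG : KProper G) {L : Subgroup G} (hL : L ≠ ⊤)
    {H : Type u} [Group H] (f : L →* H) (hf : Function.Surjective f) : KSec H := by
  intro A N hN hs hnab
  let B : Subgroup G := (A.comap f).map L.subtype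
  have hB : B ≠ ⊤ := by
    intro h
    apply hL
    rw [eq_top_iff, ← h]
    exact Subgroup.map_subtype_le _
  let e : (A.comap f) ≃* B := (A.comap f).equivMapOfInjective L.subtype L.subtype_injective
  let ψ : B →* A := (f.subgroupComap A).comp e.symm.toMonoidHom
  have hψ : Function.Surjective ψ :=
    (f.subgroupComap_surjective_of_surjective A hf).comp e.symm.surjective
  let χ : B →* A ⧸ N := (QuotientGroup.mk' N).comp ψ
  have hχ : Function.Surjective χ := (QuotientGroup.mk'_surjective N).comp hψ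
  let E : B ⧸ χ.ker ≃* A ⧸ N := QuotientGroup.quotientKerEquivOfSurjective χ hχ
  have hs' : IsSimpleGroup (B ⧸ χ.ker) := E.isSimpleGroup
  refine K1.congr E (hG B hB χ.ker hs' ?_)
  obtain ⟨a, b, hab⟩ := hnab
  refine ⟨E.symm a, E.symm b, fun h => hab ?_⟩
  rw [← map_mul, ← map_mul] at h
  exact E.symm.injective h

theorem noSix_quotient {M : Type*} [Group M] [Finite M] (h : NoSix M) (Q : Subgroup M) [Q.Normal]
    (hQ : IsPGroup 2 Q) : NoSix (M ⧸ Q) := by
  have : Fact (Nat.Prime 2) := ⟨Nat.prime_two⟩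
  have : Fact (Nat.Prime 3) := ⟨Nat.prime_three⟩
  intro g hg
  have h3 : orderOf (g ^ 2) = 3 := by rw [orderOf_pow' g (by norm_num), hg]; norm_num
  have h2 : orderOf (g ^ 3) = 2 := by rw [orderOf_pow' g (by norm_num), hg]; norm_num
  obtain ⟨x, hx, hxg⟩ := Cfsg.Agent.Characters.CNBasic.exists_lift (p := 2) (q := 3) (by norm_num) Q hQ (g ^ 2)
    (by rw [← h3]; exact pow_orderOf_eq_one _) (by
      intro h
      rw [h, orderOf_one] at h3
      norm_num at h3)
  obtain ⟨y, hy⟩ := QuotientGroup.mk_surjective (g ^ 3)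
  have hcm : Commute ((QuotientGroup.mk' Q) x) ((QuotientGroup.mk' Q) y) := by
    change Commute (x : M ⧸ Q) (y : M ⧸ Q)
    rw [hxg, hy]
    exact Commute.pow_pow_self g 2 3
  have hall : ∀ a ∈ Subgroup.zpowers x, y⁻¹ * (a * y * a⁻¹) ∈ Q := by
    intro a ha
    obtain ⟨j, rfl⟩ := Subgroup.mem_zpowers_iff.1 ha
    have h5 : Commute ((QuotientGroup.mk' Q) (x ^ j)) ((QuotientGroup.mk' Q) y) := by
      rw [map_zpow]
      exact hcm.zpow_left j
    rw [← QuotientGroup.eq]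
    change (QuotientGroup.mk' Q) y = (QuotientGroup.mk' Q) _
    rw [map_mul, map_mul, map_inv, h5.eq, mul_inv_cancel_right]
  have hcard3 : ¬ 3 ∣ Nat.card Q := by
    obtain ⟨k, hk⟩ := hQ.exists_card_eq
    rw [hk]
    intro h
    exact absurd (Nat.prime_three.dvd_of_dvd_pow h) (by norm_num)
  obtain ⟨c, hc1, hc2⟩ := Cfsg.Agent.Lib.CoprimeCommutator.exists_fixed_in_coset 3 (Subgroup.zpowers x) Q
    (IsPGroup.of_card (n := 1) (by rw [Nat.card_zpowers, hx, pow_one]))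
    (by rw [Subgroup.normalizer_eq_top]; exact le_top) hcard3 y hall
  have hcy : (c : M ⧸ Q) = g ^ 3 := by rw [← hy]; exact (QuotientGroup.eq.2 hc2).symm
  have hc2Q : c ^ 2 ∈ Q := by
    rw [← QuotientGroup.eq_one_iff, QuotientGroup.mk_pow, hcy, ← h2]
    exact pow_orderOf_eq_one _
  obtain ⟨k, hk⟩ := hQ ⟨_, hc2Q⟩
  have hk' : (c ^ 2) ^ 2 ^ k = 1 := congrArg Subtype.val hk
  have hc0 : c = 1 := comm_eq_one h hx (k := k + 1) (by rw [pow_succ', pow_mul]; exact hk')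
    (Subgroup.mem_centralizer_iff.1 hc1 x (Subgroup.mem_zpowers x))
  rw [hc0] at hcy
  rw [← hcy] at h2
  rw [QuotientGroup.mk_one, orderOf_one] at h2
  norm_num at h2

theorem noSix_subgroup {G : Type*} [Group G] (h : NoSix G) (M : Subgroup G) : NoSix M := fun g hg =>
  h g (by rw [← hg]; exact Subgroup.orderOf_coe g)

/-- `O₂(SL₂(F)) = 1` in characteristic 2 -/
theorem sl2_o2 {F : Type*} [Field F] [Fintype F] [CharP F 2]
    (N : Subgroup (Matrix.SpecialLinearGroup (Fin 2) F)) (hN : N.Normal) (h2 : IsPGroup 2 N) : N = ⊥ := by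
  by_contra hne
  obtain ⟨a, ha1⟩ := Subgroup.ne_bot_iff_exists_ne_one.1 hne
  obtain ⟨k, hk⟩ := h2 a
  obtain ⟨j, hj⟩ := LieExceptional.CITCommute.exists_involution (y := (a : Matrix.SpecialLinearGroup (Fin 2) F))
    (congrArg Subtype.val hk) (fun h => ha1 (Subtype.ext h))
  obtain ⟨x, hx, hax⟩ := T1Sl2.inverts_three (a := (a : Matrix.SpecialLinearGroup (Fin 2) F) ^ j)
    (by
      have h := pow_orderOf_eq_one ((a : Matrix.SpecialLinearGroup (Fin 2) F) ^ j)
      rw [hj, sq] at h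
      exact h) (by
      intro h
      rw [h, orderOf_one] at hj
      norm_num at hj)
  have hb : (a : Matrix.SpecialLinearGroup (Fin 2) F) ^ j ∈ N := N.pow_mem a.2 j
  set b := (a : Matrix.SpecialLinearGroup (Fin 2) F) ^ j with hb'
  have h1 : x⁻¹ * x⁻¹ ∈ N := by
    have h3 := N.mul_mem hb (hN.conj_mem _ (N.inv_mem hb) x)
    have h4 : b * (x * b⁻¹ * x⁻¹) = (b * x * b⁻¹) * x⁻¹ := by group
    rw [h4, hax] at h3
    exact h3
  have h5 : x⁻¹ * x⁻¹ = x := by
    have h6 : x ^ 3 = 1 := by rw [← hx]; exact pow_orderOf_eq_one x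
    rw [inv_mul_eq_iff_eq_mul, inv_eq_iff_mul_eq_one, ← h6, pow_succ, sq, mul_assoc]
  rw [h5] at h1
  obtain ⟨l, hl⟩ := h2 ⟨x, h1⟩
  have hl' : x ^ 2 ^ l = 1 := congrArg Subtype.val hl
  have h7 : orderOf x ∣ 2 ^ l := orderOf_dvd_of_pow_eq_one hl'
  rw [hx] at h7
  exact absurd (Nat.prime_three.dvd_of_dvd_pow h7) (by norm_num)

end Transport

section Main

open Cfsg.Agent.LieExceptional.CITGlobal Cfsg.Agent.LieExceptional.CITBasic

theorem types {G : Type u} [Group G] [Finite G] [IsSimpleGroup G] (hG : Hyp G) {M Q T : Subgroup G}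
    (hM : IsMaxLocal M) (hQ : IsO2 M Q) (hT : IsSyl2 M T) :
    T = Q ∨ (∃ P q, ThreeType M P Q T q) ∨ ¬ 3 ∣ Nat.card M := by
  classical
  have : Fact (Nat.Prime 2) := ⟨Nat.prime_two⟩
  have : Fact (Nat.Prime 3) := ⟨Nat.prime_three⟩
  by_cases h3 : 3 ∣ Nat.card M
  swap
  · exact Or.inr (Or.inr h3)
  have hQT : Q ≤ T := isO2_le_isSyl2 hQ hT
  obtain ⟨X, hX1, hX, hNX⟩ := exists_o2 hM
  obtain rfl := isO2_unique hX hQ
  have hcent : Subgroup.centralizer (X : Set G) ≤ X := hG.char2 X X hX.two hX1 (by rw [hNX]; exact hX)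
  have hMtop : M ≠ ⊤ := by
    rintro rfl
    have hn : X.Normal := ⟨fun x hx g => hX.normal g trivial x hx⟩
    have h4 := (hn.eq_bot_or_eq_top).resolve_left hX1
    obtain ⟨k, hk⟩ := hX.two.exists_card_eq
    rw [h4, ] at hk
    rw [hk] at h3
    exact absurd (Nat.prime_three.dvd_of_dvd_pow h3) (by norm_num)
  have hfpf : ∀ x : G, orderOf x = 3 → ∀ u ∈ X, x * u = u * x → u = 1 := by
    intro x hx u hu hc
    obtain ⟨k, hk⟩ := hX.two ⟨u, hu⟩
    exact comm_eq_one hG.nosix hx (congrArg Subtype.val hk) hc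
  have hnotX : ∀ x : G, orderOf x = 3 → x ∉ X := by
    intro x hx hxX
    have := hfpf x hx x hxX rfl
    rw [this, orderOf_one] at hx
    norm_num at hx
  -- the quotient
  obtain ⟨Y, hY⟩ : ∃ Y : Subgroup M, Y = X.subgroupOf M := ⟨_, rfl⟩
  have hmemY : ∀ m : M, m ∈ Y ↔ (m : G) ∈ X := fun m => by rw [hY, Subgroup.mem_subgroupOf]
  have hYn : Y.Normal := ⟨fun y hy g => by
    rw [hmemY] at hy ⊢
    exact hX.normal g g.2 _ hy⟩
  have hY2 : IsPGroup 2 Y := by
    rintro ⟨y, hy⟩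
    obtain ⟨k, hk⟩ := hX.two ⟨y, (hmemY y).1 hy⟩
    have hk' : (y : G) ^ 2 ^ k = 1 := congrArg Subtype.val hk
    exact ⟨k, Subtype.ext (Subtype.ext hk')⟩
  have hYc : ∀ m : M, (∀ x ∈ Y, m * x = x * m) → m ∈ Y := by
    intro m hm
    rw [hmemY]
    apply hcent
    rw [Subgroup.mem_centralizer_iff]
    intro x hx
    exact (congrArg Subtype.val (hm ⟨x, hX.le hx⟩ ((hmemY _).2 hx))).symm
  have hYmax : ∀ N : Subgroup M, N.Normal → IsPGroup 2 N → N ≤ Y := by
    intro N hN hN2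
    have h4 := hX.max (N.map M.subtype) (Subgroup.map_subtype_le N) (hN2.map _) (by
      rintro m hm _ ⟨y, hy, rfl⟩
      exact ⟨_, hN.conj_mem y hy ⟨m, hm⟩, rfl⟩)
    intro y hy
    rw [hmemY]
    exact h4 ⟨y, hy, rfl⟩
  have hYbot : Y ≠ ⊥ := by
    intro h
    apply hX1
    rw [eq_bot_iff]
    intro x hx
    have h4 : (⟨x, hX.le hx⟩ : M) ∈ Y := (hmemY _).2 hx
    rw [h, Subgroup.mem_bot] at h4
    rw [Subgroup.mem_bot]
    exact congrArg Subtype.val h4
  obtain ⟨V, _, _, ρ, hV, hV1, hρ, hρ3⟩ := exists_action Y hY2 hYc hYmax hYbot (by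
    intro x hx u hu hc
    apply Subtype.ext
    exact hfpf x (by rw [← hx]; exact Subgroup.orderOf_coe x) u ((hmemY u).1 hu) (congrArg Subtype.val hc))
  obtain ⟨π, hπ⟩ : ∃ π : M →* M ⧸ Y, π = QuotientGroup.mk' Y := ⟨_, rfl⟩
  have hπs : Function.Surjective π := by rw [hπ]; exact QuotientGroup.mk'_surjective Y
  have hπ1 : ∀ m, π m = 1 ↔ m ∈ Y := fun m => by
    rw [hπ]
    exact QuotientGroup.eq_one_iff m
  have hπe : ∀ m m', π m = π m' ↔ m⁻¹ * m' ∈ Y := fun m m' => by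
    rw [hπ]
    exact QuotientGroup.eq
  have hO2' : ∀ N : Subgroup (M ⧸ Y), N.Normal → IsPGroup 2 N → N = ⊥ := by
    intro N hN hN2
    have h4 : IsPGroup 2 (N.comap π) := by
      apply hN2.comap_of_ker_isPGroup
      have : π.ker = Y := by
        ext m
        rw [MonoidHom.mem_ker, hπ1]
      rw [this]
      exact hY2
    have h5 := hYmax _ (hN.comap π) h4
    rw [eq_bot_iff]
    intro n hn
    obtain ⟨m, rfl⟩ := hπs n
    rw [Subgroup.mem_bot, hπ1]
    exact h5 hn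
  have hoc : OddCyc (M ⧸ Y) :=
    oddCyc_of_surjective (oddCyc_of_injective hG.cyc M.subtype M.subtype_injective) π hπs
  have hks : KSec (M ⧸ Y) := kSec_of_surjective hG.kproper hMtop π hπs
  have hns : NoSix (M ⧸ Y) := noSix_quotient (noSix_subgroup hG.nosix M) Y hY2
  have h3' : 3 ∣ Nat.card (M ⧸ Y) := by
    rw [Subgroup.card_eq_card_quotient_mul_card_subgroup Y] at h3
    obtain ⟨k, hk⟩ := hY2.exists_card_eq
    rw [hk] at h3
    rcases (Nat.prime_three.dvd_mul).1 h3 with h | h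
    · exact h
    · exact absurd (Nat.prime_three.dvd_of_dvd_pow h) (by norm_num)
  -- lifting elements of order 3
  have hlift : ∀ x : M ⧸ Y, orderOf x = 3 → ∃ y : M, orderOf y = 3 ∧ π y = x := by
    intro x hx
    rw [hπ]
    exact Cfsg.Agent.Characters.CNBasic.exists_lift (p := 2) (q := 3) (by norm_num) Y hY2 x
      (by rw [← hx]; exact pow_orderOf_eq_one _) (by
        intro h
        rw [h, orderOf_one] at hx
        norm_num at hx)
  have hpush : ∀ y : M, orderOf y = 3 → orderOf (π y) = 3 := by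
    intro y hy
    have h4 : π y ^ 3 = 1 := by rw [← map_pow, ← hy, pow_orderOf_eq_one, map_one]
    apply orderOf_eq_prime h4
    intro h5
    rw [hπ1, hmemY] at h5
    exact hnotX y (by rw [← hy]; exact Subgroup.orderOf_coe y) h5
  obtain ⟨S, hS⟩ : ∃ S : Sylow 2 M, ∀ m : M, m ∈ S ↔ (m : G) ∈ T :=
    ⟨IsSyl2.toSylow hT, fun m => Subgroup.mem_subgroupOf⟩
  rcases T1StructQ.structure_quotient hV hV1 ρ hρ hO2' hρ3 hoc hks hns h3' with hodd | hmain
  · left
    apply le_antisymm _ hQT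
    intro t ht
    obtain ⟨k, hk⟩ := hT.two ⟨t, ht⟩
    have hk' : t ^ 2 ^ k = 1 := congrArg Subtype.val hk
    have h4 : π ⟨t, hT.le ht⟩ = 1 := by
      rw [← orderOf_eq_one_iff]
      have h5 : orderOf (π ⟨t, hT.le ht⟩) ∣ 2 ^ k := orderOf_dvd_of_pow_eq_one (by
        rw [← map_pow]
        have : (⟨t, hT.le ht⟩ : M) ^ 2 ^ k = 1 := Subtype.ext hk'
        rw [this, map_one])
      have h6 : orderOf (π ⟨t, hT.le ht⟩) ∣ Nat.card (M ⧸ Y) := orderOf_dvd_natCard _
      exact Nat.eq_one_of_dvd_coprimes (Nat.Coprime.pow_left k hodd.coprime_two_left) h5 h6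
    rw [hπ1, hmemY] at h4
    exact h4
  · right
    left
    obtain ⟨L, hL, ⟨F, _, _, _, ⟨e⟩, hLn⟩, hti⟩ := hmain (S.mapSurjective hπs)
    have hSmem : ∀ x, x ∈ (S.mapSurjective hπs : Subgroup (M ⧸ Y)) ↔ ∃ m : M, (m : G) ∈ T ∧ π m = x := by
      intro x
      rw [Sylow.coe_mapSurjective]
      constructor
      · rintro ⟨m, hm, rfl⟩
        exact ⟨m, (hS m).1 hm, rfl⟩
      · rintro ⟨m, hm, rfl⟩
        exact ⟨m, (hS m).2 hm, rfl⟩
    obtain ⟨P, hP⟩ : ∃ P : Subgroup G, P = (L.comap π).map M.subtype := ⟨_, rfl⟩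
    have hmemP : ∀ g : G, g ∈ P ↔ ∃ h : g ∈ M, π ⟨g, h⟩ ∈ L := by
      intro g
      rw [hP]
      constructor
      · rintro ⟨m, hm, rfl⟩
        exact ⟨m.2, hm⟩
      · rintro ⟨h, h4⟩
        exact ⟨⟨g, h⟩, h4, rfl⟩
    have hPM : P ≤ M := fun g hg => ((hmemP g).1 hg).1
    have hXP : X ≤ P := fun x hx => (hmemP x).2 ⟨hX.le hx, by
      rw [(hπ1 _).2 ((hmemY _).2 hx)]
      exact L.one_mem⟩
    have hTP : T ≤ P := fun t ht => (hmemP t).2 ⟨hT.le ht, by
      rw [hL]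
      exact Subgroup.mem_sup_left ((hSmem _).2 ⟨_, ht, rfl⟩)⟩
    let φ : P →* L := (π.comp (Subgroup.inclusion hPM)).codRestrict L fun p => ((hmemP p).1 p.2).2
    have hφ : ∀ p : P, ((φ p : L) : M ⧸ Y) = π ⟨p, hPM p.2⟩ := fun p => rfl
    have hφs : Function.Surjective φ := by
      rintro ⟨l, hl⟩
      obtain ⟨m, rfl⟩ := hπs l
      exact ⟨⟨m, (hmemP m).2 ⟨m.2, hl⟩⟩, rfl⟩
    have hφ1 : ∀ p : P, φ p = 1 ↔ (p : G) ∈ X := by
      intro p
      rw [← hmemY ⟨p, hPM p.2⟩, ← hπ1, ← hφ]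
      exact ⟨fun h => by rw [h]; rfl, fun h => Subtype.ext h⟩
    have hψs : Function.Surjective (e.toMonoidHom.comp φ) := e.surjective.comp hφs
    have hψ1 : ∀ p : P, (e.toMonoidHom.comp φ) p = 1 ↔ (p : G) ∈ X := by
      intro p
      rw [← hφ1]
      exact e.map_eq_one_iff
    refine ⟨P, Fintype.card F, hPM, hX, hT, ⟨?_, ?_, ?_, ?_⟩, ?_, ?_, ?_, ?_⟩
    · -- O₂(P) = X
      refine ⟨hXP, hX.two, fun m hm => hX.normal m (hPM hm), ?_⟩
      intro Z hZP hZ2 hZn
      have h4 : (Z.subgroupOf P).map (e.toMonoidHom.comp φ) = ⊥ := by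
        apply sl2_o2
        · apply Subgroup.Normal.map _ _ hψs
          exact ⟨fun z hz g => by
            rw [Subgroup.mem_subgroupOf] at hz ⊢
            exact hZn g g.2 _ hz⟩
        · apply IsPGroup.map
          exact hZ2.of_injective (Subgroup.subgroupOfEquivOfLe hZP).toMonoidHom
            (Subgroup.subgroupOfEquivOfLe hZP).injective
      intro z hz
      rw [← hψ1 ⟨z, hZP hz⟩]
      rw [← Subgroup.mem_bot, ← h4]
      exact ⟨⟨z, hZP hz⟩, Subgroup.mem_subgroupOf.2 hz, rfl⟩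
    · exact ⟨hTP, hT.two, fun Z hZ hZ2 hTZ => hT.max Z (hZ.trans hPM) hZ2 hTZ⟩
    · refine ⟨F, inferInstance, inferInstance, inferInstance, e.toMonoidHom.comp φ, hψs, ?_, rfl⟩
      ext p
      rw [MonoidHom.mem_ker, hψ1, Subgroup.mem_subgroupOf]
    · exact fun x _ hx u hu hc => hfpf x hx u hu hc
    · exact fun x _ hx u hu hc => hfpf x hx u hu hc
    · -- generation
      obtain ⟨R, hR⟩ : ∃ R : Subgroup G, R = T ⊔ Subgroup.closure {x : G | x ∈ M ∧ orderOf x = 3} := ⟨_, rfl⟩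
      rw [← hR]
      have hTR : T ≤ R := by rw [hR]; exact le_sup_left
      have hR3 : ∀ x ∈ M, orderOf x = 3 → x ∈ R := fun x hx hx3 => by
        rw [hR]
        exact Subgroup.mem_sup_right (Subgroup.subset_closure ⟨hx, hx3⟩)
      apply le_antisymm
      · have h4 : L ≤ (R.subgroupOf M).map π := by
          rw [hL]
          apply sup_le
          · intro x hx
            obtain ⟨m, hm, rfl⟩ := (hSmem x).1 hx
            exact ⟨m, Subgroup.mem_subgroupOf.2 (hTR hm), rfl⟩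
          · rw [Subgroup.closure_le]
            intro x hx
            obtain ⟨y, hy, rfl⟩ := hlift x hx
            exact ⟨y, Subgroup.mem_subgroupOf.2 (hR3 y y.2 (by rw [← hy]; exact Subgroup.orderOf_coe y)), rfl⟩
        intro p hp
        obtain ⟨hpM, hpL⟩ := (hmemP p).1 hp
        obtain ⟨r, hr, hrp⟩ := h4 hpL
        rw [hπe, hmemY] at hrp
        have h5 := R.mul_mem (Subgroup.mem_subgroupOf.1 hr) (hTR (hQT hrp))
        have h6 : (r : G) * ((r⁻¹ * ⟨p, hpM⟩ : M) : G) = p := by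
          rw [Subgroup.coe_mul, Subgroup.coe_inv, mul_inv_cancel_left]
        rwa [h6] at h5
      · rw [hR]
        apply sup_le hTP
        rw [Subgroup.closure_le]
        rintro x ⟨hx, hx3⟩
        refine (hmemP x).2 ⟨hx, ?_⟩
        rw [hL]
        apply Subgroup.mem_sup_right
        apply Subgroup.subset_closure
        exact hpush ⟨x, hx⟩ (by rw [← hx3]; exact (Subgroup.orderOf_coe (⟨x, hx⟩ : M)).symm)
    · -- TI
      rintro g hg ⟨x, hx, hxX, hgx⟩
      by_contra hcon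
      push Not at hcon
      obtain ⟨y, hy, hgy⟩ := hcon
      have hne : (π ⟨g, hg⟩ • (S.mapSurjective hπs) : Sylow 2 (M ⧸ Y)) ≠ S.mapSurjective hπs := by
        intro heq
        apply hgy
        have h4 : π ⟨g, hg⟩ * π ⟨y, hT.le hy⟩ * (π ⟨g, hg⟩)⁻¹ ∈ (S.mapSurjective hπs : Subgroup (M ⧸ Y)) := by
          rw [← heq]
          exact ⟨π ⟨y, hT.le hy⟩, (hSmem _).2 ⟨_, hy, rfl⟩, rfl⟩
        obtain ⟨m, hm, hme⟩ := (hSmem _).1 h4
        rw [← map_inv, ← map_mul, ← map_mul, hπe, hmemY] at hme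
        have h5 := T.mul_mem hm (hQT hme)
        have h6 : (m : G) * ((m⁻¹ * (⟨g, hg⟩ * ⟨y, hT.le hy⟩ * ⟨g, hg⟩⁻¹) : M) : G) = g * y * g⁻¹ := by
          rw [Subgroup.coe_mul, Subgroup.coe_inv, mul_inv_cancel_left]
          rfl
        rwa [h6] at h5
      have h7 := hti _ hne
      have h8 : π (⟨g, hg⟩ * ⟨x, hT.le hx⟩ * ⟨g, hg⟩⁻¹) ∈ ((S.mapSurjective hπs : Subgroup (M ⧸ Y)) ⊓
          (π ⟨g, hg⟩ • (S.mapSurjective hπs) : Sylow 2 (M ⧸ Y)) : Subgroup (M ⧸ Y)) := by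
        refine ⟨(hSmem _).2 ⟨_, hgx, rfl⟩, ?_⟩
        exact ⟨π ⟨x, hT.le hx⟩, (hSmem _).2 ⟨_, hx, rfl⟩, by
          rw [map_mul, map_mul, map_inv]
          rfl⟩
      rw [h7, Subgroup.mem_bot, hπ1, hmemY] at h8
      apply hxX
      have h9 := hX.normal g⁻¹ (M.inv_mem hg) _ h8
      have h10 : g⁻¹ * ((⟨g, hg⟩ * ⟨x, hT.le hx⟩ * ⟨g, hg⟩⁻¹ : M) : G) * g⁻¹⁻¹ = x := by
        change g⁻¹ * (g * x * g⁻¹) * g⁻¹⁻¹ = x
        group
      rwa [h10] at h9
    · intro hq m hm p hp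
      have hn := hLn hq
      obtain ⟨hpM, hpL⟩ := (hmemP p).1 hp
      refine (hmemP _).2 ⟨M.mul_mem (M.mul_mem hm hpM) (M.inv_mem hm), ?_⟩
      have h4 := hn.conj_mem _ hpL (π ⟨m, hm⟩)
      rw [← map_inv, ← map_mul, ← map_mul] at h4
      exact h4

end Main

end Cfsg.Agent.OddCyclic.T1Structure
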