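import Cfsg.Agent.OddCyclic.FFMain
import Cfsg.Agent.OddCyclic.CompStart
import Cfsg.Agent.OddCyclic.CompCovers
import Cfsg.Agent.OddCyclic.T1Structure

/-!
# FFC for homomorphic images of proper subgroups of a group all of whose proper sections are in the list
-/

set_option autoImplicit false
set_option linter.unusedSectionVars false

namespace Cfsg.Agent.OddCyclic.FFSec

open Cfsg.Agent.OddCyclic.T1Defs Cfsg.Agent.OddCyclic.RedFFDefs Cfsg.Agent.OddCyclic.PumpMain
  Cfsg.Agent.OddCyclic.CompStart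

theorem kzero_congr {K L : Type*} [Group K] [Group L] (e : K ≃* L) (h : KZero L) : KZero K := by
  rcases h with ⟨F, iF, iF', hp, h5, ⟨g⟩⟩ | ⟨F, iF, iF', f, hf, hF, ⟨g⟩⟩ | ⟨F, iF, iF', m, hm, hF, ⟨g⟩⟩ | ⟨h, k, hk⟩
  · exact Or.inl ⟨F, iF, iF', hp, h5, ⟨e.trans g⟩⟩
  · exact Or.inr (Or.inl ⟨F, iF, iF', f, hf, hF, ⟨e.trans g⟩⟩)
  · exact Or.inr (Or.inr (Or.inl ⟨F, iF, iF', m, hm, hF, ⟨e.trans g⟩⟩))
  · exact Or.inr (Or.inr (Or.inr ⟨CompCovers.local_of_equiv e h, e.symm k, by rw [e.symm.orderOf_eq, hk]⟩))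

universe u

variable {G : Type u} [Group G]

/-- simple nonabelian subgroups of homomorphic images of proper subgroups -/
theorem kzero_of_image (h : SecZero G) {M : Subgroup G} (hM : M ≠ ⊤) {H : Type*} [Group H] (f : M →* H)
    (hf : Function.Surjective f) (J : Subgroup H) (hJ : IsSimpleGroup J) (hab : ∃ x y : J, x * y ≠ y * x) :
    KZero J := by
  set X : Subgroup G := (J.comap f).map M.subtype with hX
  have hXM : X ≤ M := Subgroup.map_subtype_le _
  have hXt : X ≠ ⊤ := fun h1 => hM (eq_top_iff.2 (h1 ▸ hXM))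
  have hmem : ∀ x : X, f ⟨x, hXM x.2⟩ ∈ J := by
    rintro ⟨x, y, hy, rfl⟩
    exact hy
  let g : X →* J :=
    { toFun := fun x => ⟨f ⟨x, hXM x.2⟩, hmem x⟩
      map_one' := Subtype.ext (map_one f)
      map_mul' := fun x y => Subtype.ext (map_mul f ⟨x, hXM x.2⟩ ⟨y, hXM y.2⟩) }
  have hg : Function.Surjective g := by
    rintro ⟨j, hj⟩
    obtain ⟨m, rfl⟩ := hf j
    exact ⟨⟨m, m, hj, rfl⟩, rfl⟩
  let e : X ⧸ g.ker ≃* J := QuotientGroup.quotientKerEquivOfSurjective g hg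
  refine kzero_congr e.symm (h X hXt g.ker e.isSimpleGroup ?_)
  obtain ⟨x, y, hxy⟩ := hab
  refine ⟨e.symm x, e.symm y, fun h1 => hxy (e.symm.injective ?_)⟩
  rw [map_mul, map_mul, h1]

/-- **FFC for sections** -/
theorem ffc [Finite G] (hc : OddCyc G) (h : SecZero G) {M : Subgroup G} (hM : M ≠ ⊤) {H : Type*} [Group H]
    (f : M →* H) (hf : Function.Surjective f) : FFC H := by
  have : Finite H := Finite.of_surjective f hf
  have h1 : OddCyc H := T1Structure.oddCyc_of_surjective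
    (T1Structure.oddCyc_of_injective hc M.subtype M.subtype_injective) f hf
  exact FFMain.ffc H h1 (kzero_of_image h hM f hf)

theorem ffc_quotient [Finite G] (hc : OddCyc G) (h : SecZero G) {M : Subgroup G} (hM : M ≠ ⊤) (N : Subgroup M)
    [N.Normal] : FFC (M ⧸ N) :=
  ffc hc h hM (QuotientGroup.mk' N) (QuotientGroup.mk'_surjective N)

end Cfsg.Agent.OddCyclic.FFSec
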