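import Cfsg.Agent.OddCyclic.FFRed

/-!
# Best offenders inducing inner automorphisms on a normal subgroup

`centralizes_of_inner`: `K` a subgroup with trivial centre on which the best offender `A` induces inner automorphisms;
if `K` has no best offenders on elementary abelian 2-groups then `A` centralises `K`.
-/

set_option autoImplicit false
set_option linter.unusedSectionVars false

namespace Cfsg.Agent.OddCyclic.FFInner

open Subgroup Cfsg.Agent.OddCyclic.T1Module Cfsg.Agent.OddCyclic.FFBasic Cfsg.Agent.OddCyclic.FFRed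

variable {H : Type*} [Group H]

theorem comm_of {K : Subgroup H} {c g : H} (hc : c ∈ centralizer (K : Set H)) (hg : g ∈ K) : g * c = c * g :=
  (mem_centralizer_iff.mp hc) g hg

/-- the projection of `A ≤ K C_H(K)` to `K` -/
def pr (K A : Subgroup H) : Subgroup K where
  carrier := {g | ∃ c ∈ centralizer (K : Set H), (g : H) * c ∈ A}
  mul_mem' := by
    rintro g g' ⟨c, hc, h⟩ ⟨c', hc', h'⟩
    refine ⟨c * c', mul_mem hc hc', ?_⟩
    have e : ((g * g' : K) : H) * (c * c') = ((g : H) * c) * ((g' : H) * c') := by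
      rw [Subgroup.coe_mul]
      calc (g : H) * g' * (c * c') = (g : H) * (g' * c) * c' := by group
        _ = (g : H) * (c * g') * c' := by rw [comm_of hc g'.2]
        _ = _ := by group
    rw [e]
    exact mul_mem h h'
  one_mem' := ⟨1, one_mem _, by simp⟩
  inv_mem' := by
    rintro g ⟨c, hc, h⟩
    refine ⟨c⁻¹, inv_mem hc, ?_⟩
    have e : ((g⁻¹ : K) : H) * c⁻¹ = ((g : H) * c)⁻¹ := by
      rw [comm_of hc g.2, mul_inv_rev]; rfl
    rw [e]
    exact inv_mem h

/-- the projection of `A ≤ K C_H(K)` to `C_H(K)` -/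
def cp (K A : Subgroup H) : Subgroup H where
  carrier := {c | c ∈ centralizer (K : Set H) ∧ ∃ g ∈ K, g * c ∈ A}
  mul_mem' := by
    rintro c c' ⟨hc, g, hg, h⟩ ⟨hc', g', hg', h'⟩
    refine ⟨mul_mem hc hc', g * g', mul_mem hg hg', ?_⟩
    have e : g * g' * (c * c') = (g * c) * (g' * c') := by
      calc g * g' * (c * c') = g * (g' * c) * c' := by group
        _ = g * (c * g') * c' := by rw [comm_of hc hg']
        _ = _ := by group
    rw [e]
    exact mul_mem h h'
  one_mem' := ⟨one_mem _, 1, one_mem _, by simp⟩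
  inv_mem' := by
    rintro c ⟨hc, g, hg, h⟩
    refine ⟨inv_mem hc, g⁻¹, inv_mem hg, ?_⟩
    have e : g⁻¹ * c⁻¹ = (g * c)⁻¹ := by rw [comm_of hc hg, mul_inv_rev]
    rw [e]
    exact inv_mem h

theorem sq_eq {K A : Subgroup H} (hK : ∀ z ∈ K, z ∈ centralizer (K : Set H) → z = 1)
    (hA : ∀ a ∈ A, a * a = 1) {g c : H} (hg : g ∈ K) (hc : c ∈ centralizer (K : Set H)) (h : g * c ∈ A) :
    g * g = 1 ∧ c * c = 1 := by
  have h1 := hA _ h
  have h2 : (g * g) * (c * c) = 1 := by
    rw [← h1]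
    calc (g * g) * (c * c) = g * (g * c) * c := by group
      _ = g * (c * g) * c := by rw [comm_of hc hg]
      _ = _ := by group
  have h3 : g * g = (c * c)⁻¹ := eq_inv_of_mul_eq_one_left h2
  have h4 : g * g = 1 := hK _ (mul_mem hg hg) (by rw [h3]; exact inv_mem (mul_mem hc hc))
  refine ⟨h4, ?_⟩
  rw [h4, one_mul] at h2
  exact h2

variable [Finite H] {V : Type*} [CommGroup V] [Finite V] {ρ : H →* MulAut V}

theorem unique {K : Subgroup H} (hK : ∀ z ∈ K, z ∈ centralizer (K : Set H) → z = 1) {g g' c c' : H}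
    (hg : g ∈ K) (hg' : g' ∈ K) (hc : c ∈ centralizer (K : Set H)) (hc' : c' ∈ centralizer (K : Set H))
    (h : g * c = g' * c') : g = g' := by
  have h1 : g'⁻¹ * g = c' * c⁻¹ := by
    calc g'⁻¹ * g = g'⁻¹ * (g * c) * c⁻¹ := by group
      _ = g'⁻¹ * (g' * c') * c⁻¹ := by rw [h]
      _ = _ := by group
  have h2 : g'⁻¹ * g = 1 := hK _ (mul_mem (inv_mem hg') hg) (by rw [h1]; exact mul_mem hc' (inv_mem hc))
  rw [inv_mul_eq_one] at h2
  exact h2.symm

/-- **the reduction lemma** -/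
theorem centralizes_of_inner (hV : ∀ v : V, v * v = 1) {K A : Subgroup H} (hA : BO ρ A)
    (hK : ∀ z ∈ K, z ∈ centralizer (K : Set H) → z = 1)
    (hin : ∀ a ∈ A, ∃ g ∈ K, ∀ k ∈ K, a * k * a⁻¹ = g * k * g⁻¹)
    {y : H} (hyK : y ∈ K) (hy : Odd (orderOf y)) (hne : ∃ v, ρ y v ≠ v)
    (hno : ∀ (W : Subgroup V) (σ : K →* MulAut W), (∃ g v, σ g v ≠ v) → ∀ B : Subgroup K, BO σ B → B = ⊥) :
    A ≤ centralizer (K : Set H) := by
  classical
  -- the decomposition
  have hdec : ∀ a ∈ A, ∃ g ∈ K, g⁻¹ * a ∈ centralizer (K : Set H) := by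
    intro a ha
    obtain ⟨g, hg, h⟩ := hin a ha
    refine ⟨g, hg, ?_⟩
    rw [mem_centralizer_iff]
    intro k hk
    have h1 := h k hk
    have h2 : a * k = g * k * g⁻¹ * a := by rw [← h1]; group
    calc k * (g⁻¹ * a) = g⁻¹ * (g * k * g⁻¹ * a) := by group
      _ = g⁻¹ * (a * k) := by rw [h2]
      _ = _ := by group
  have hsq : ∀ g ∈ K, ∀ c ∈ centralizer (K : Set H), g * c ∈ A → g * g = 1 ∧ c * c = 1 :=
    fun g hg c hc h => sq_eq hK hA.sq hg hc h
  set C := cp K A with hC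
  have hC2 : IsPGroup 2 C := fun c => ⟨1, by
    obtain ⟨h1, g, hg, h⟩ := c.2
    rw [pow_one, pow_two]
    exact Subtype.ext (hsq g hg c h1 h).2⟩
  have hCK : ∀ c ∈ C, ∀ k ∈ K, k * c = c * k := fun c hc k hk => comm_of hc.1 hk
  set W := CS ρ C with hW
  have hst : ∀ k ∈ K, ∀ w ∈ W, ρ k w ∈ W := by
    intro k hk w hw c hc
    have h1 : ρ (c * k) w = ρ (k * c) w := by rw [hCK c hc k hk]
    rw [map_mul, MulAut.mul_apply, map_mul, MulAut.mul_apply, hw c hc] at h1
    exact h1
  let σ : K →* MulAut W := res ρ K W hst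
  have hσ : ∃ g v, σ g v ≠ v := by
    obtain ⟨v, hv, hv'⟩ := axb (ρ := ρ) hV hC2 hy (fun c hc => (hCK c hc y hyK).symm) hne
    exact ⟨⟨y, hyK⟩, ⟨v, hv⟩, fun h => hv' (congrArg Subtype.val h)⟩
  -- the homomorphism `A → K`
  let f : A → K := fun a => ⟨(hdec a a.2).choose, (hdec a a.2).choose_spec.1⟩
  have hf : ∀ a : A, (f a : H)⁻¹ * a ∈ centralizer (K : Set H) := fun a => (hdec a a.2).choose_spec.2
  have hfu : ∀ (a : A) (g : K) (c : H), c ∈ centralizer (K : Set H) → (a : H) = g * c → f a = g := by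
    intro a g c hc h
    apply Subtype.ext
    refine unique hK (f a).2 g.2 (hf a) hc ?_
    rw [← h]; group
  let π : A →* K :=
    { toFun := f
      map_one' := hfu 1 1 1 (one_mem _) (by simp)
      map_mul' := by
        intro a b
        refine hfu (a * b) (f a * f b) (((f a : H)⁻¹ * a) * ((f b : H)⁻¹ * b)) (mul_mem (hf a) (hf b)) ?_
        rw [Subgroup.coe_mul, Subgroup.coe_mul]
        have h1 := comm_of (hf a) (f b).2
        calc (a : H) * b = (f a : H) * (((f a : H)⁻¹ * a) * (f b : H)) * ((f b : H)⁻¹ * b) := by group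
          _ = (f a : H) * ((f b : H) * ((f a : H)⁻¹ * a)) * ((f b : H)⁻¹ * b) := by rw [h1]
          _ = _ := by group }
  have hπ : ∀ a, π a = f a := fun _ => rfl
  have hrange : π.range = pr K A := by
    ext g
    constructor
    · rintro ⟨a, rfl⟩
      refine ⟨(f a : H)⁻¹ * a, hf a, ?_⟩
      have : ((π a : K) : H) * ((f a : H)⁻¹ * a) = a := by rw [hπ]; group
      rw [this]
      exact a.2
    · rintro ⟨c, hc, h⟩
      exact ⟨⟨_, h⟩, hfu _ g c hc rfl⟩
  -- `pr K A` is a best offender on `W`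
  have hmemW : ∀ B : Subgroup K, B ≤ pr K A → ∀ v : V, v ∈ (CS σ B).map W.subtype ↔
      v ∈ W ∧ ∀ g ∈ B, ρ (g : H) v = v := by
    intro B _ v
    constructor
    · rintro ⟨w, hw, rfl⟩
      exact ⟨w.2, fun g hg => congrArg Subtype.val (hw g hg)⟩
    · rintro ⟨h1, h2⟩
      exact ⟨⟨v, h1⟩, fun g hg => Subtype.ext (h2 g hg), rfl⟩
  have key : ∀ B : Subgroup K, B ≤ pr K A →
      ((CS σ (pr K A)).map W.subtype).relIndex ((CS σ B).map W.subtype) ≤ B.relIndex (pr K A) := by
    intro B hB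
    set Bh := (B.comap π).map A.subtype with hBh
    have hBA : Bh ≤ A := Subgroup.map_subtype_le _
    have h1 := hA.relIndex_le hBA
    have h2 : Bh.relIndex A = B.relIndex (pr K A) := by
      rw [← hrange, ← Subgroup.index_comap]
      rw [Subgroup.relIndex]
      congr 1
      exact Subgroup.comap_map_eq_self_of_injective A.subtype_injective _
    have h3 : (CS σ B).map W.subtype ≤ CS ρ Bh := by
      intro v hv b hb
      rw [hmemW B hB] at hv
      obtain ⟨⟨a, ha⟩, hab, rfl⟩ := hb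
      have hab' : f ⟨a, ha⟩ ∈ B := hab
      show ρ a v = v
      have h4 : a = (f ⟨a, ha⟩ : H) * ((f ⟨a, ha⟩ : H)⁻¹ * a) := by group
      have h5 : (f ⟨a, ha⟩ : H)⁻¹ * a ∈ C := ⟨hf ⟨a, ha⟩, _, (f ⟨a, ha⟩).2, by rw [← h4]; exact ha⟩
      rw [h4, map_mul, MulAut.mul_apply, hv.1 _ h5]
      exact hv.2 _ hab'
    have h4 : (CS σ (pr K A)).map W.subtype = CS ρ A ⊓ (CS σ B).map W.subtype := by
      ext v
      rw [Subgroup.mem_inf, hmemW _ le_rfl, hmemW B hB]
      constructor
      · rintro ⟨hv1, hv2⟩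
        refine ⟨?_, hv1, fun g hg => hv2 g (hB hg)⟩
        intro a ha
        have h4 : a = (f ⟨a, ha⟩ : H) * ((f ⟨a, ha⟩ : H)⁻¹ * a) := by group
        have h5 : (f ⟨a, ha⟩ : H)⁻¹ * a ∈ C := ⟨hf ⟨a, ha⟩, _, (f ⟨a, ha⟩).2, by rw [← h4]; exact ha⟩
        rw [h4, map_mul, MulAut.mul_apply, hv1 _ h5]
        exact hv2 _ ⟨_, hf ⟨a, ha⟩, by rw [← h4]; exact ha⟩
      · rintro ⟨hv1, hv2, -⟩
        refine ⟨hv2, ?_⟩
        rintro g ⟨c, hc, h⟩
        have h5 : c ∈ C := ⟨hc, g, g.2, h⟩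
        have h6 : ρ ((g : H) * c) v = v := hv1 _ h
        rw [map_mul, MulAut.mul_apply, hv2 _ h5] at h6
        exact h6
    have hle : (CS σ (pr K A)).map W.subtype ≤ (CS σ B).map W.subtype := by rw [h4]; exact inf_le_right
    rw [h4, Subgroup.inf_relIndex_right, ← h2]
    refine le_trans ?_ h1
    exact Subgroup.relIndex_le_of_le_right h3 (by rw [Subgroup.relIndex]; exact Subgroup.index_ne_zero_of_finite)
  have hBO : BO σ (pr K A) := by
    constructor
    · rintro g ⟨c, hc, h⟩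
      exact Subtype.ext (hsq g g.2 c hc h).1
    · intro B hB
      have h1 := key B hB
      have e1 : Nat.card (CS σ B) = Nat.card ((CS σ B).map W.subtype) :=
        (Subgroup.card_map_of_injective W.subtype_injective).symm
      have e2 : Nat.card (CS σ (pr K A)) = Nat.card ((CS σ (pr K A)).map W.subtype) :=
        (Subgroup.card_map_of_injective W.subtype_injective).symm
      have hle : (CS σ (pr K A)).map W.subtype ≤ (CS σ B).map W.subtype := Subgroup.map_mono (CS_anti hB)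
      have h3 := card_mul_relIndex hle
      have h4 := card_mul_relIndex hB
      rw [e1, e2, ← h3, ← h4]
      calc Nat.card B * (Nat.card ((CS σ (pr K A)).map W.subtype) *
            ((CS σ (pr K A)).map W.subtype).relIndex ((CS σ B).map W.subtype))
          ≤ Nat.card B * (Nat.card ((CS σ (pr K A)).map W.subtype) * B.relIndex (pr K A)) :=
            Nat.mul_le_mul_left _ (Nat.mul_le_mul_left _ h1)
        _ = _ := by ring
  have hbot := hno W σ hσ _ hBO
  intro a ha
  obtain ⟨g, hg, h⟩ := hdec a ha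
  have h1 : (⟨g, hg⟩ : K) ∈ pr K A := ⟨g⁻¹ * a, h, by
    show g * (g⁻¹ * a) ∈ A
    rw [mul_inv_cancel_left]; exact ha⟩
  rw [hbot, Subgroup.mem_bot] at h1
  have h2 : g = 1 := congrArg Subtype.val h1
  rwa [h2, inv_one, one_mul] at h

end Cfsg.Agent.OddCyclic.FFInner
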