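import Cfsg.Agent.OddCyclic.FFSz
import Cfsg.Agent.OddCyclic.FFInner
import Cfsg.Agent.OddCyclic.PumpMain
import Cfsg.Agent.Lib.GenFitting
import Cfsg.Agent.ThreePrime.OrderThree

/-!
# Best offenders in groups with cyclic odd Sylow subgroups: the generalized Fitting subgroup

`main`: `H` with cyclic odd Sylow subgroups, `O₂(H) = 1`, simple subgroups in `KZero`, faithful on the elementary abelian
2-group `V`, `A ≠ 1` a best offender. Then either `A` has order 2 and inverts a normal subgroup of order 3 with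
`|V : C_V(A)| = 2`, or there is a simple normal subgroup `L`, not a Suzuki group, with `Fr ρ L A`.
-/

set_option autoImplicit false
set_option linter.unusedSectionVars false

namespace Cfsg.Agent.OddCyclic.FFStruct

open Subgroup Cfsg Cfsg.Agent.OddCyclic.T1Defs Cfsg.Agent.OddCyclic.T1Module Cfsg.Agent.OddCyclic.FFBasic
  Cfsg.Agent.OddCyclic.FFRed Cfsg.Agent.OddCyclic.CompBasic
open Cfsg.Agent.OddCyclic.PumpMain (KZero)
open Cfsg.Agent.SignalizersComponents.Components

variable {H : Type*} [Group H] [Finite H]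

/-! ### components -/

theorem exists_odd_prime {K : Type*} [Group K] [Finite K] (h : ¬ Group.IsSolvable K) :
    ∃ p : ℕ, p.Prime ∧ p ≠ 2 ∧ p ∣ Nat.card K := by
  by_contra hcon
  push Not at hcon
  have : Fact (Nat.Prime 2) := ⟨Nat.prime_two⟩
  apply h
  have h1 : IsPGroup 2 K := by
    rw [IsPGroup.iff_card]
    refine ⟨_, Nat.eq_prime_pow_of_unique_prime_dvd Nat.card_pos.ne' ?_⟩
    intro d hd hdvd
    by_contra hne
    exact hcon d hd hne hdvd
  have := h1.isNilpotent
  infer_instance

theorem component_normal (hc : OddCyc H) {K : Subgroup H} (hK : IsComponent K) : K.Normal := by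
  refine ⟨fun n hn g => ?_⟩
  by_contra hcon
  have hne : K ≠ K.map (MulAut.conj g).toMonoidHom := by
    intro h
    apply hcon
    rw [h]
    exact ⟨n, hn, rfl⟩
  have hcomm := component_commutator_eq_bot_of_ne hK (isComponent_conj g hK) hne
  rw [Subgroup.commutator_eq_bot_iff_le_centralizer] at hcomm
  obtain ⟨p, hp, hp2, hpK⟩ := exists_odd_prime (quasisimple_not_isSolvable hK.2)
  have : Fact p.Prime := ⟨hp⟩
  obtain ⟨x, hx⟩ := exists_prime_orderOf_dvd_card' (G := K) p hpK
  have hx' : orderOf (x : H) = p := by rw [Subgroup.orderOf_coe]; exact hx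
  have hgx : orderOf (g * x * g⁻¹) = p := by
    rw [← hx']
    exact (MulAut.conj g).orderOf_eq (x : H)
  have hmem : g * x * g⁻¹ ∈ K.map (MulAut.conj g).toMonoidHom := ⟨x, x.2, rfl⟩
  have hco : Commute (x : H) (g * x * g⁻¹) := ((mem_centralizer_iff.mp (hcomm x.2)) _ hmem).symm
  have hz := zpowers_eq_of_commute hc hp hp2 hx' hgx hco
  have hxm : (x : H) ∈ K.map (MulAut.conj g).toMonoidHom := by
    have h1 : (x : H) ∈ zpowers (g * x * g⁻¹) := by rw [← hz]; exact mem_zpowers _
    exact (zpowers_le.2 hmem) h1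
  have hxc : x ∈ center K := by
    rw [mem_center_iff]
    intro k
    apply Subtype.ext
    exact ((mem_centralizer_iff.mp (hcomm k.2)) _ hxm).symm
  have h1 := eq_one_of_center (oddCyc_subgroup hc K) hK.2.1 hxc (by rw [hx]; exact hp.odd_of_ne_two hp2)
  rw [h1, orderOf_one] at hx
  exact hp.one_lt.ne hx

theorem center_component (hc : OddCyc H) (h2 : pCore 2 H = ⊥) {K : Subgroup H} (hK : IsComponent K) :
    center K = ⊥ := by
  have : Fact (Nat.Prime 2) := ⟨Nat.prime_two⟩
  have hn := component_normal hc hK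
  have h1 : ((center K).map K.subtype).Normal := inferInstance
  have h3 : IsPGroup 2 (center K) := by
    rw [IsPGroup.iff_card]
    refine ⟨_, Nat.eq_prime_pow_of_unique_prime_dvd Nat.card_pos.ne' ?_⟩
    intro p hp hpd
    by_contra hp2
    have : Fact p.Prime := ⟨hp⟩
    obtain ⟨x, hx⟩ := exists_prime_orderOf_dvd_card' (G := center K) p hpd
    have h4 : orderOf (x : K) = p := by rw [Subgroup.orderOf_coe]; exact hx
    have h5 := eq_one_of_center (oddCyc_subgroup hc K) hK.2.1 x.2 (by rw [h4]; exact hp.odd_of_ne_two hp2)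
    rw [h5, orderOf_one] at h4
    exact hp.one_lt.ne h4
  have h4 : (center K).map K.subtype ≤ pCore 2 H := le_sSup ⟨h1, h3.map _⟩
  rw [h2, le_bot_iff, Subgroup.map_eq_bot_iff_of_injective _ K.subtype_injective] at h4
  exact h4

theorem simple_component (hc : OddCyc H) (h2 : pCore 2 H = ⊥) {K : Subgroup H} (hK : IsComponent K) :
    IsSimpleGroup K := by
  have h1 := center_component hc h2 hK
  have h3 := hK.2.2
  let e : K ⧸ center K ≃* K := (QuotientGroup.quotientMulEquivOfEq h1).trans QuotientGroup.quotientBot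
  exact e.symm.isSimpleGroup

theorem inter_centralizer (hc : OddCyc H) (h2 : pCore 2 H = ⊥) {K : Subgroup H} (hK : IsComponent K) :
    ∀ z ∈ K, z ∈ centralizer (K : Set H) → z = 1 := by
  intro z hz hzc
  have h1 : (⟨z, hz⟩ : K) ∈ center K := by
    rw [mem_center_iff]
    intro k
    exact Subtype.ext ((mem_centralizer_iff.mp hzc) k k.2)
  rw [center_component hc h2 hK, Subgroup.mem_bot] at h1
  exact congrArg Subtype.val h1

/-- two components with elements of the same odd prime order are equal -/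
theorem component_eq (hc : OddCyc H) (h2 : pCore 2 H = ⊥) {K L : Subgroup H} (hK : IsComponent K)
    (hL : IsComponent L) {p : ℕ} (hp : p.Prime) (hp2 : p ≠ 2) (h : p ∣ Nat.card K) (h' : p ∣ Nat.card L) :
    K = L := by
  by_contra hne
  have hcomm := component_commutator_eq_bot_of_ne hK hL hne
  rw [Subgroup.commutator_eq_bot_iff_le_centralizer] at hcomm
  have : Fact p.Prime := ⟨hp⟩
  obtain ⟨x, hx⟩ := exists_prime_orderOf_dvd_card' (G := K) p h
  have hx' : orderOf (x : H) = p := by rw [Subgroup.orderOf_coe]; exact hx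
  have hxL := mem_of_orderOf hc hp hp2 (component_normal hc hL) h' hx'
  have h1 := inter_centralizer hc h2 hL _ hxL (hcomm x.2)
  rw [h1, orderOf_one] at hx'
  exact hp.one_lt.ne hx'

/-! ### the Fitting subgroup -/

theorem odd_card_fitting (h2 : pCore 2 H = ⊥) : Odd (Nat.card (fittingSubgroup H)) := by
  have : Fact (Nat.Prime 2) := ⟨Nat.prime_two⟩
  rw [← Nat.not_even_iff_odd]
  intro he
  obtain ⟨x, hx⟩ := exists_prime_orderOf_dvd_card' (G := fittingSubgroup H) 2 (even_iff_two_dvd.mp he)
  have h1 : (x : H) ∈ pCore 2 H := by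
    refine Cfsg.Agent.Lib.GenFitting.mem_pCore_of_mem_fitting x.2 (k := 1) ?_
    have h3 := pow_orderOf_eq_one x
    rw [hx] at h3
    rw [pow_one]
    exact congrArg Subtype.val h3
  rw [h2, Subgroup.mem_bot] at h1
  have h3 : x = 1 := Subtype.ext h1
  rw [h3, orderOf_one] at hx
  exact absurd hx (by norm_num)

theorem isCyclic_fitting (hc : OddCyc H) (h2 : pCore 2 H = ⊥) : IsCyclic (fittingSubgroup H) := by
  have hnil : Group.IsNilpotent (fittingSubgroup H) := Cfsg.Agent.Lib.Cores.fittingSubgroup_isNilpotent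
  have hZ : IsZGroup (fittingSubgroup H) := by
    rw [isZGroup_iff]
    intro p hp P
    have hpf : Fact p.Prime := ⟨hp⟩
    by_cases hp2 : p = 2
    · subst hp2
      have h1 : (P : Subgroup (fittingSubgroup H)) = ⊥ := by
        obtain ⟨n, hn⟩ := P.isPGroup'.exists_card_eq
        rw [← Subgroup.card_eq_one, hn]
        rcases Nat.eq_zero_or_pos n with h | h
        · rw [h, pow_zero]
        · exfalso
          have h3 : 2 ∣ Nat.card (fittingSubgroup H) :=
            (dvd_pow_self 2 h.ne').trans (hn ▸ Subgroup.card_subgroup_dvd_card _)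
          exact (Nat.not_even_iff_odd.mpr (odd_card_fitting h2)) (even_iff_two_dvd.mpr h3)
      have h4 : Subsingleton (P : Subgroup (fittingSubgroup H)) := by
        rw [h1]; infer_instance
      exact isCyclic_of_subsingleton
    · exact oddCyc_subgroup hc (fittingSubgroup H) p P hp hp2
  infer_instance

/-- an involution not centralising the Fitting subgroup inverts a normal subgroup of prime order -/
theorem exists_inverted (hc : OddCyc H) (h2 : pCore 2 H = ⊥) {a : H} (ha : a * a = 1) {x : H}
    (hx : x ∈ fittingSubgroup H) (hax : a * x ≠ x * a) :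
    ∃ (r : ℕ) (y : H), r.Prime ∧ r ≠ 2 ∧ y ∈ fittingSubgroup H ∧ orderOf y = r ∧ (zpowers y).Normal ∧
      a * y * a⁻¹ = y⁻¹ ∧ a * y ≠ y * a := by
  have hcyc := isCyclic_fitting hc h2
  have hn : (fittingSubgroup H).Normal := Cfsg.Agent.Lib.Cores.fittingSubgroup_normal
  have hab : ∀ u ∈ fittingSubgroup H, ∀ v ∈ fittingSubgroup H, u * v = v * u := by
    intro u hu v hv
    have : IsMulCommutative (fittingSubgroup H) := IsCyclic.isMulCommutative
    exact congrArg Subtype.val (mul_comm' (⟨u, hu⟩ : fittingSubgroup H) ⟨v, hv⟩)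
  set u := a * x * a⁻¹ * x⁻¹ with hu
  have huF : u ∈ fittingSubgroup H := mul_mem (hn.conj_mem x hx a) (inv_mem hx)
  have hu1 : u ≠ 1 := by
    intro h
    apply hax
    rw [hu, mul_inv_eq_one] at h
    rw [← mul_inv_eq_iff_eq_mul]
    exact h
  have haa : a⁻¹ = a := inv_eq_of_mul_eq_one_left ha
  have hau : a * u * a⁻¹ = u⁻¹ := by
    have h1 : a * u * a⁻¹ = (a * a) * x * (a * a)⁻¹ * (a * x⁻¹ * a⁻¹) := by rw [hu]; group
    rw [h1, ha, hu]
    have h3 : x * (a * x⁻¹ * a⁻¹) = (a * x * a⁻¹ * x⁻¹)⁻¹ := by group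
    rw [← h3]; group
  have hodd : Odd (orderOf u) := by
    have h1 : orderOf u ∣ Nat.card (fittingSubgroup H) := by
      rw [← Subgroup.orderOf_mk _ huF]
      exact orderOf_dvd_natCard _
    exact (odd_card_fitting h2).of_dvd_nat h1
  have ho1 : orderOf u ≠ 1 := fun h => hu1 (orderOf_eq_one_iff.mp h)
  obtain ⟨r, hr, hrd⟩ := Nat.exists_prime_and_dvd ho1
  have hr2 : r ≠ 2 := by
    rintro rfl
    exact (Nat.not_even_iff_odd.mpr hodd) (even_iff_two_dvd.mpr hrd)
  set y := u ^ (orderOf u / r) with hy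
  have hyF : y ∈ fittingSubgroup H := pow_mem huF _
  have hyo : orderOf y = r := by
    rw [hy]
    exact orderOf_pow_orderOf_div (orderOf_pos u).ne' hrd
  have hyi : a * y * a⁻¹ = y⁻¹ := by
    rw [hy, ← conj_pow, hau, inv_pow]
  refine ⟨r, y, hr, hr2, hyF, hyo, ?_, hyi, ?_⟩
  · refine ⟨fun n hn' g => ?_⟩
    have h1 : g * y * g⁻¹ ∈ fittingSubgroup H := hn.conj_mem y hyF g
    have h3 : orderOf (⟨g * y * g⁻¹, h1⟩ : fittingSubgroup H) = orderOf (⟨y, hyF⟩ : fittingSubgroup H) := by
      rw [Subgroup.orderOf_mk, Subgroup.orderOf_mk]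
      exact (MulAut.conj g).orderOf_eq y
    have h4 := zpowers_eq_of_cyclic h3
    have h5 : g * y * g⁻¹ ∈ zpowers y := by
      have h6 : (⟨g * y * g⁻¹, h1⟩ : fittingSubgroup H) ∈ zpowers (⟨y, hyF⟩ : fittingSubgroup H) := by
        rw [← h4]; exact mem_zpowers _
      obtain ⟨k, hk⟩ := h6
      exact ⟨k, congrArg Subtype.val hk⟩
    obtain ⟨k, rfl⟩ := hn'
    show g * y ^ k * g⁻¹ ∈ zpowers y
    rw [← conj_zpow]
    exact zpow_mem h5 k
  · intro h
    rw [h, mul_inv_cancel_right] at hyi
    have h1 : y * y = 1 := by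
      nth_rewrite 1 [hyi]; rw [inv_mul_cancel]
    have h3 : orderOf y ∣ 2 := orderOf_dvd_of_pow_eq_one (by rw [pow_two]; exact h1)
    rw [hyo] at h3
    exact hr2 ((Nat.prime_dvd_prime_iff_eq hr Nat.prime_two).1 h3)

/-- an element with `a² = 1` centralising `F*(H)` is trivial -/
theorem eq_one_of_centralizes (h2 : pCore 2 H = ⊥) {a : H} (ha : a * a = 1)
    (h1 : ∀ x ∈ fittingSubgroup H, a * x = x * a)
    (h3 : ∀ K : Subgroup H, IsComponent K → a ∈ centralizer (K : Set H)) : a = 1 := by
  have : Fact (Nat.Prime 2) := ⟨Nat.prime_two⟩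
  set C := centralizer (generalizedFittingSubgroup H : Set H) with hC
  have hFn : (generalizedFittingSubgroup H).Normal := Cfsg.Agent.Lib.GenFitting.genFitting_normal
  have hCn : C.Normal := by rw [hC]; infer_instance
  have hle : C ≤ generalizedFittingSubgroup H := Cfsg.Agent.Lib.GenFitting.centralizer_genFitting_le
  have haC : a ∈ C := by
    rw [hC, mem_centralizer_iff]
    have h4 : generalizedFittingSubgroup H ≤ centralizer ({a} : Set H) := by
      rw [Cfsg.Agent.Lib.GenFitting.genFitting_def, sup_le_iff]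
      constructor
      · rw [layer_le_iff]
        intro K hK k hk
        rw [mem_centralizer_singleton_iff]
        exact (mem_centralizer_iff.mp (h3 K hK)) k hk
      · intro x hx
        rw [mem_centralizer_singleton_iff]
        exact (h1 x hx).symm
    intro x hx
    exact mem_centralizer_singleton_iff.mp (h4 hx)
  have hab : ∀ u ∈ C, ∀ v ∈ C, u * v = v * u := by
    intro u hu v hv
    exact ((mem_centralizer_iff.mp hv) u (hle hu))
  have hnil : Group.IsNilpotent C := by
    let _ : CommGroup C := { (inferInstance : Group C) with mul_comm := fun u v => Subtype.ext (hab u u.2 v v.2) }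
    infer_instance
  have haF : a ∈ fittingSubgroup H := Cfsg.Agent.Lib.Cores.le_fittingSubgroup hCn hnil haC
  have h4 : a ∈ pCore 2 H := Cfsg.Agent.Lib.GenFitting.mem_pCore_of_mem_fitting haF (k := 1) (by
    rw [pow_one, pow_two]; exact ha)
  rwa [h2, Subgroup.mem_bot] at h4

/-! ### the components -/

open Cfsg.Agent.SporRec.J1.Defs (Local) in
theorem three_dvd_of_kZero {K : Type*} [Group K] [Finite K] (h : KZero K) (hn : ¬ Cfsg.Lie.IsoSuzuki K) :
    3 ∣ Nat.card K := by
  rcases h with ⟨F, _, _, _, _, ⟨e⟩⟩ | ⟨F, _, _, f, _, _, ⟨e⟩⟩ | h | ⟨h, k, hk⟩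
  · rw [Nat.card_congr e.toEquiv]
    exact Cfsg.Agent.ThreePrime.OrderThree.three_dvd_card_psl _
  · rw [Nat.card_congr e.toEquiv]
    exact Cfsg.Agent.ThreePrime.OrderThree.three_dvd_card_psl _
  · exact absurd h hn
  · obtain ⟨e⟩ := h.cent k hk
    have h1 : 3 ∣ Nat.card (Subgroup.centralizer ({k} : Set K)) := by
      rw [Nat.card_congr e.toEquiv, Nat.card_prod]
      have h3 : Nat.card (alternatingGroup (Fin 5)) = 60 := by
        rw [Nat.card_eq_fintype_card]; decide +kernel
      rw [h3]
      exact Dvd.dvd.mul_left (by norm_num) _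
    exact h1.trans (Subgroup.card_subgroup_dvd_card _)

variable {V : Type*} [CommGroup V] [Finite V] {ρ : H →* MulAut V}

/-- best offenders centralise normal Suzuki subgroups -/
theorem le_centralizer_suzuki (hc : OddCyc H) (h2 : pCore 2 H = ⊥) (hV : ∀ v : V, v * v = 1)
    (hρ : Function.Injective ρ) {A : Subgroup H} (hA : BO ρ A) {K : Subgroup H} (hK : IsComponent K)
    (hs : Cfsg.Lie.IsoSuzuki K) : A ≤ centralizer (K : Set H) := by
  have hn := component_normal hc hK
  obtain ⟨p, hp, hp2, hpK⟩ := exists_odd_prime (quasisimple_not_isSolvable hK.2)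
  have : Fact p.Prime := ⟨hp⟩
  obtain ⟨x, hx⟩ := exists_prime_orderOf_dvd_card' (G := K) p hpK
  have hx' : orderOf (x : H) = p := by rw [Subgroup.orderOf_coe]; exact hx
  refine FFInner.centralizes_of_inner hV hA (inter_centralizer hc h2 hK) ?_ (y := (x : H)) x.2
    (by rw [hx']; exact hp.odd_of_ne_two hp2) ?_ ?_
  · intro a ha
    obtain ⟨F, iF, iF', m, hm, hF, ⟨R⟩⟩ := Cfsg.Agent.ThreePrime.SzRel.exists_rel hs
    obtain ⟨j, hj⟩ := R.inner hm hF (MulAut.conjNormal a) ⟨1, by
      rw [pow_one, pow_two, ← map_mul, hA.sq a ha, map_one]⟩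
    refine ⟨j, j.2, fun k hk => ?_⟩
    have h1 := congrArg (fun α : MulAut K => ((α ⟨k, hk⟩ : K) : H)) hj
    simpa [MulAut.conjNormal_apply] using h1
  · by_contra hcon
    push Not at hcon
    have h1 : ρ (x : H) = 1 := by
      ext v
      exact hcon v
    have h3 : (x : H) = 1 := hρ (by rw [h1, map_one])
    rw [h3, orderOf_one] at hx'
    exact hp.one_lt.ne hx'
  · intro W σ hσ B hB
    exact FFSz.main hs (fun w => Subtype.ext (hV w)) σ hσ hB

/-- **the structure theorem** -/
theorem main (hc : OddCyc H) (hk : ∀ J : Subgroup H, IsSimpleGroup J → (∃ x y : J, x * y ≠ y * x) → KZero J)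
    (h2 : pCore 2 H = ⊥) (hV : ∀ v : V, v * v = 1) (hρ : Function.Injective ρ) {A : Subgroup H} (hA : BO ρ A)
    (hA1 : A ≠ ⊥) :
    (∃ y : H, orderOf y = 3 ∧ (zpowers y).Normal ∧ Nat.card A = 2 ∧ (∀ a ∈ A, a ≠ 1 → a * y * a⁻¹ = y⁻¹) ∧
      (CS ρ A).index = 2 ∧ (fx ρ y).index = 4) ∨
    (∃ L : Subgroup H, L.Normal ∧ IsSimpleGroup L ∧ KZero L ∧ ¬ Cfsg.Lie.IsoSuzuki L ∧ Fr ρ L A) := by
  classical
  have hkz : ∀ K : Subgroup H, IsComponent K → KZero K := by
    intro K hK
    refine hk K (simple_component hc h2 hK) ?_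
    by_contra hcon
    push Not at hcon
    exact quasisimple_not_isMulCommutative hK.2 ⟨⟨hcon⟩⟩
  have hne : ∀ y : H, y ≠ 1 → ∃ v, ρ y v ≠ v := by
    intro y hy
    by_contra hcon
    push Not at hcon
    apply hy
    apply hρ
    rw [map_one]
    ext v
    exact hcon v
  have hsz : ∀ K : Subgroup H, IsComponent K → Cfsg.Lie.IsoSuzuki K → A ≤ centralizer (K : Set H) :=
    fun K hK hs => le_centralizer_suzuki hc h2 hV hρ hA hK hs
  by_cases hF : ∃ a ∈ A, ∃ x ∈ fittingSubgroup H, a * x ≠ x * a
  · left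
    obtain ⟨a, ha, x, hx, hax⟩ := hF
    obtain ⟨r, y, hr, hr2, hyF, hyo, hyn, hay, hay'⟩ := exists_inverted hc h2 (hA.sq a ha) hx hax
    have hy1 : y ≠ 1 := by
      intro h
      rw [h, orderOf_one] at hyo
      exact hr.one_lt.ne hyo
    obtain ⟨h3, h4, h5, h6⟩ := hA.three hV hr hr2 hyo (fun b _ => hyn.conj_mem y (mem_zpowers y) b) (hne y hy1)
      ha hay'
    subst h3
    -- all components are Suzuki groups
    have hall : ∀ K : Subgroup H, IsComponent K → Cfsg.Lie.IsoSuzuki K := by
      intro K hK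
      by_contra hn
      have h7 := three_dvd_of_kZero (hkz K hK) hn
      have h8 := mem_of_orderOf hc Nat.prime_three (by norm_num) (component_normal hc hK) h7 hyo
      have h9 : y ∈ centralizer (K : Set H) := by
        rw [mem_centralizer_iff]
        intro k hk'
        have h10 := layer_le_centralizer_fitting (component_le_layer hK hk')
        exact ((mem_centralizer_iff.mp h10) y hyF).symm
      exact hy1 (inter_centralizer hc h2 hK y h8 h9)
    have hbot : A ⊓ centralizer {y} = ⊥ := by
      rw [eq_bot_iff]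
      rintro b ⟨hb, hby⟩
      rw [Subgroup.mem_bot]
      have hby' : b * y = y * b := mem_centralizer_singleton_iff.mp hby
      refine eq_one_of_centralizes h2 (hA.sq b hb) ?_ (fun K hK => hsz K hK (hall K hK) hb)
      intro x hx
      by_contra hbx
      obtain ⟨r, y', hr', hr2', hyF', hyo', hyn', -, hay''⟩ := exists_inverted hc h2 (hA.sq b hb) hx hbx
      have hy1' : y' ≠ 1 := by
        intro h
        rw [h, orderOf_one] at hyo'
        exact hr'.one_lt.ne hyo'
      obtain ⟨h3', -, -, -⟩ := hA.three hV hr' hr2' hyo' (fun b _ => hyn'.conj_mem y' (mem_zpowers y') b)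
        (hne y' hy1') hb hay''
      subst h3'
      have hcyc := isCyclic_fitting hc h2
      have h7 : orderOf (⟨y', hyF'⟩ : fittingSubgroup H) = orderOf (⟨y, hyF⟩ : fittingSubgroup H) := by
        rw [Subgroup.orderOf_mk, Subgroup.orderOf_mk, hyo, hyo']
      have h8 := zpowers_eq_of_cyclic h7
      have h9 : (⟨y', hyF'⟩ : fittingSubgroup H) ∈ zpowers (⟨y, hyF⟩ : fittingSubgroup H) := by
        rw [← h8]; exact mem_zpowers _
      obtain ⟨k, hk'⟩ := h9
      have h10 : y ^ k = y' := congrArg Subtype.val hk'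
      apply hay''
      rw [← h10]
      exact (Commute.zpow_right (show Commute b y from hby') k).eq
    rw [hbot] at h4 h5 h6
    rw [CS_bot, Subgroup.relIndex_top_right] at h5 h6
    rw [Subgroup.relIndex_bot_left] at h4
    refine ⟨y, hyo, hyn, h4, ?_, h5, h6⟩
    intro b hb hb1
    rcases eq_or_inv hr hyo (hA.sq b hb) (hyn.conj_mem y (mem_zpowers y) b) with h | h
    · exfalso
      have h7 : b ∈ A ⊓ centralizer {y} := ⟨hb, mem_centralizer_singleton_iff.mpr h⟩
      rw [hbot, Subgroup.mem_bot] at h7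
      exact hb1 h7
    · exact h
  · right
    push Not at hF
    -- a component which is not centralised
    obtain ⟨⟨a₀, ha₀⟩, ha₀1'⟩ := Subgroup.ne_bot_iff_exists_ne_one.1 hA1
    have ha₀1 : a₀ ≠ 1 := fun h => ha₀1' (Subtype.ext h)
    obtain ⟨L, hL, haL⟩ : ∃ L : Subgroup H, IsComponent L ∧ a₀ ∉ centralizer (L : Set H) := by
      by_contra hcon
      push Not at hcon
      exact ha₀1 (eq_one_of_centralizes h2 (hA.sq a₀ ha₀) (hF a₀ ha₀) hcon)
    have hLs : ¬ Cfsg.Lie.IsoSuzuki L := fun h => haL (hsz L hL h ha₀)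
    have h3L := three_dvd_of_kZero (hkz L hL) hLs
    -- the other components are centralised
    have hoth : ∀ K : Subgroup H, IsComponent K → K ≠ L → A ≤ centralizer (K : Set H) := by
      intro K hK hKL
      by_cases hs : Cfsg.Lie.IsoSuzuki K
      · exact hsz K hK hs
      · exact absurd (component_eq hc h2 hK hL Nat.prime_three (by norm_num) (three_dvd_of_kZero (hkz K hK) hs) h3L)
          hKL
    have hLo : ∀ K : Subgroup H, IsComponent K → K ≠ L → L ≤ centralizer (K : Set H) := by
      intro K hK hKL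
      have h := component_commutator_eq_bot_of_ne hL hK hKL.symm
      rwa [Subgroup.commutator_eq_bot_iff_le_centralizer] at h
    have hLF : ∀ g ∈ L, ∀ x ∈ fittingSubgroup H, g * x = x * g := by
      intro g hg x hx
      have h := layer_le_centralizer_fitting (component_le_layer hL hg)
      exact ((mem_centralizer_iff.mp h) x hx).symm
    refine ⟨L, component_normal hc hL, simple_component hc h2 hL, hkz L hL, hLs, hA, hA1, ?_, ?_, ?_⟩
    · intro a ha hal
      refine eq_one_of_centralizes h2 (hA.sq a ha) (hF a ha) ?_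
      intro K hK
      by_cases hKL : K = L
      · subst hKL
        rw [mem_centralizer_iff]
        intro k hk'
        exact (hal k hk').symm
      · exact hoth K hK hKL ha
    · intro a ha g hg hag
      have hcL : g⁻¹ * a ∈ centralizer (L : Set H) := by
        rw [mem_centralizer_iff]
        intro k hk'
        have h1 := hag k hk'
        have h3 : a * k = g * k * g⁻¹ * a := by rw [← h1]; group
        calc k * (g⁻¹ * a) = g⁻¹ * (g * k * g⁻¹ * a) := by group
          _ = g⁻¹ * (a * k) := by rw [h3]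
          _ = _ := by group
      have h1 : g⁻¹ * a = 1 := by
        refine eq_one_of_centralizes h2 ?_ ?_ ?_
        · refine (FFInner.sq_eq (inter_centralizer hc h2 hL) hA.sq hg hcL ?_).2
          rw [mul_inv_cancel_left]; exact ha
        · intro x hx
          rw [mul_assoc, hF a ha x hx, ← mul_assoc, hLF g⁻¹ (inv_mem hg) x hx, mul_assoc]
        · intro K hK
          by_cases hKL : K = L
          · subst hKL; exact hcL
          · exact mul_mem (hLo K hK hKL (inv_mem hg)) (hoth K hK hKL ha)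
      rw [inv_mul_eq_one] at h1
      rwa [← h1]
    · intro y _ hy1
      exact hne y hy1

end Cfsg.Agent.OddCyclic.FFStruct
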