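import Mathlib
import Cfsg.Agent.OddCyclic.L2Borel
import Cfsg.Agent.TwoFusion.SLTwoFacts

/-!
# Involutory outer automorphisms of `SL(2,F)`, `F` finite of characteristic two: more facts
-/

set_option autoImplicit false
set_option linter.unusedSectionVars false

namespace Cfsg.Agent.OddCyclic.L2Field

open Matrix Cfsg.Agent.Lib.SL2Mat Cfsg.Agent.Lib.AutSL2 Cfsg.Agent.Lib.AutSL2Out
open Cfsg.Agent.Classification.QDW.TypeHom
open Cfsg.Agent.OddCyclic.L2Model Cfsg.Agent.OddCyclic.L2Borel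

local notation "UI" => Cfsg.Agent.OddCyclic.T1Sl2.UI
local notation "tu" => Cfsg.Agent.OddCyclic.T1Sl2.up
local notation "td" => Cfsg.Agent.OddCyclic.T1Sl2.dg

variable {F : Type*} [Field F] [Finite F] [CharP F 2]

local notation "SL2" => Matrix.SpecialLinearGroup (Fin 2) F

/-- the fixed points of an involutory semilinear map are the commutators -/
theorem fixed_eq {σ : F ≃+* F} (hσ : σ ≠ 1) {c : F} (hinv : ∀ a, c * σ (c * σ a) = a) :
    Nat.card {a : F // c * σ a = a} ^ 2 = Nat.card F ∧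
      ∀ a, c * σ a = a ↔ ∃ b, a = b + c * σ b := by
  classical
  have h2 : (2 : F) = 0 := CharTwo.two_eq_zero
  let g : F →+ F :=
    { toFun := fun a => a + c * σ a
      map_zero' := by rw [map_zero, mul_zero, add_zero]
      map_add' := by intro a b; rw [map_add]; ring }
  have hg : ∀ a, g a = a + c * σ a := fun _ => rfl
  have hker : ∀ a, a ∈ g.ker ↔ c * σ a = a := by
    intro a
    rw [AddMonoidHom.mem_ker, hg, CharTwo.add_eq_zero, eq_comm]
  have hrange : g.range ≤ g.ker := by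
    rintro _ ⟨b, rfl⟩
    rw [hker, hg, map_add, mul_add, hinv, add_comm]
  have h3 : Nat.card g.ker * Nat.card g.range = Nat.card F := by
    rw [← AddSubgroup.index_ker]
    exact AddSubgroup.card_mul_index g.ker
  have h4 : Nat.card g.ker = Nat.card {a : F // c * σ a = a} :=
    Nat.card_congr (Equiv.subtypeEquivRight hker)
  have h5 := card_fixed_sq_le hσ c
  rw [← h4] at h5 ⊢
  have h6 : Nat.card g.range ≤ Nat.card g.ker := AddSubgroup.card_le_of_le hrange
  have h7 : 0 < Nat.card g.ker := Nat.card_pos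
  have h8 : Nat.card g.ker ≤ Nat.card g.range := by
    rw [← h3, pow_two] at h5
    exact Nat.le_of_mul_le_mul_left h5 h7
  have h9 : g.range = g.ker := AddSubgroup.eq_of_le_of_card_ge hrange h8
  refine ⟨?_, fun a => ?_⟩
  · rw [pow_two]
    nth_rw 2 [← h9]
    exact h3
  · rw [← hker, ← h9, AddMonoidHom.mem_range]
    constructor
    · rintro ⟨b, hb⟩; exact ⟨b, hb.symm⟩
    · rintro ⟨b, hb⟩; exact ⟨b, hb.symm⟩

/-- an involutory form on the Borel subgroup -/
theorem form_sq {t : F} {s : Fˣ} {σ : F ≃+* F}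
    (h : (MulAut.conj (tu t * td s) * fieldAut σ) * (MulAut.conj (tu t * td s) * fieldAut σ) =
      (1 : MulAut SL2)) :
    (s : F) * s * σ t = t ∧ (∀ a, (s : F) * s * σ ((s : F) * s * σ a) = a) := by
  have key : ∀ a, (s : F) * s * σ ((s : F) * s * σ a) = a := by
    intro a
    have h1 : ((MulAut.conj (tu t * td s) * fieldAut σ) *
        (MulAut.conj (tu t * td s) * fieldAut σ)) (tu a) = tu a := by
      rw [h]; rfl
    rw [MulAut.mul_apply, form_tu, form_tu] at h1
    exact tu_inj h1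
  refine ⟨?_, key⟩
  have h1 : (MulAut.conj (tu t * td s) * fieldAut σ) * (MulAut.conj (tu t * td s) * fieldAut σ) =
      MulAut.conj (tu t * td s * fieldAut σ (tu t * td s)) * fieldAut (σ * σ) := by
    rw [mul_assoc, ← mul_assoc (fieldAut σ), fieldAut_mul_conj, map_mul MulAut.conj (tu t * td s),
      map_mul fieldAut]
    simp only [mul_assoc]
  rw [h1] at h
  have h2 : MulAut.conj (tu t * td s * fieldAut σ (tu t * td s)) * fieldAut (σ * σ) =
      MulAut.conj (1 : SL2) * fieldAut 1 := by rw [h, map_one, map_one, mul_one]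
  have h3 := (form_unique h2).1
  have h4 : fieldAut σ (tu t) = tu (σ t) := fieldAut_up σ t
  rw [map_mul, h4, fieldAut_td] at h3
  have h5 : tu t * td s * (tu (σ t) * td (Units.map σ.toMonoidHom s)) =
      tu t * (td s * tu (σ t) * (td s)⁻¹) * (td s * td (Units.map σ.toMonoidHom s)) := by group
  rw [h5, td_conj_tu, T1Sl2.up_mul, td_mul] at h3
  have h6 := congrArg (fun y : SL2 => y 0 1) h3
  have h7 := congrArg (fun y : SL2 => y 1 1) h3
  simp only [T1Sl2.mul01, T1Sl2.mul11, T1Sl2.up00, T1Sl2.up01, T1Sl2.up10, T1Sl2.up11,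
    T1Sl2.dg01, T1Sl2.dg11, T1Sl2.one01, T1Sl2.one11, mul_zero, zero_add, one_mul] at h6 h7
  rw [h7, mul_one] at h6
  exact (CharTwo.add_eq_zero.mp h6).symm

/-- (K4) at the level of `SL(2,F)` -/
theorem false_of_fix {α : MulAut SL2} (h : α * α = 1) (h1 : α ≠ 1) {x : SL2} {r : ℕ}
    (hr : r.Prime) (hrq : r ∣ Nat.card F + 1) (hx : orderOf x = r) (hα : α x = x) : False := by
  have := Fintype.ofFinite F
  obtain ⟨n, hn, hF⟩ := T1Sl2.card_pow F
  rw [← Nat.card_eq_fintype_card] at hF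
  have hev : Even (Nat.card F) := by rw [hF]; exact Nat.even_pow.mpr ⟨even_two, hn.ne'⟩
  have hr2 : r ≠ 2 := by
    rintro rfl
    have h2 : Even (Nat.card F + 1) := even_iff_two_dvd.mpr hrq
    exact (Nat.not_even_iff_odd.mpr hev.add_one) h2
  by_cases ht : typ α = 1
  · obtain ⟨s, rfl⟩ := (inner_iff α).mp ht
    have hs : s * s = 1 := by
      apply L2Model.conj_injective
      rw [map_mul, h, map_one]
    have hs1 : s ≠ 1 := by
      rintro rfl
      exact h1 (map_one _)
    obtain ⟨g, t, rfl⟩ := T1Sl2.exists_conj_up hs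
    have ht0 : t ≠ 0 := by
      rintro rfl
      apply hs1
      rw [T1Sl2.up_zero]; group
    obtain ⟨y, hy⟩ : ∃ y, y = g⁻¹ * x * g := ⟨_, rfl⟩
    have hc : y * tu t = tu t * y := by
      rw [MulAut.conj_apply, mul_inv_eq_iff_eq_mul] at hα
      rw [hy]
      calc g⁻¹ * x * g * tu t = g⁻¹ * (x * (g * tu t * g⁻¹)) * g := by group
        _ = g⁻¹ * ((g * tu t * g⁻¹) * x) * g := by rw [hα]
        _ = tu t * (g⁻¹ * x * g) := by group
    have hyx : orderOf y = r := by
      rw [hy, ← hx]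
      have := T1Sl2.orderOf_conj' g⁻¹ x
      rwa [inv_inv] at this
    have e1 := congrArg (fun y : SL2 => y 0 0) hc
    have e2 := congrArg (fun y : SL2 => y 0 1) hc
    simp only [T1Sl2.mul00, T1Sl2.mul01, T1Sl2.up00, T1Sl2.up01, T1Sl2.up10, T1Sl2.up11] at e1 e2
    have h2 : y 1 0 = 0 := by
      have : t * y 1 0 = 0 := by linear_combination -e1
      exact (mul_eq_zero.mp this).resolve_left ht0
    have h3 : y 0 0 = y 1 1 := by
      have : t * (y 0 0 - y 1 1) = 0 := by linear_combination e2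
      exact sub_eq_zero.mp ((mul_eq_zero.mp this).resolve_left ht0)
    have h4 := T1Sl2.det y
    rw [h2, ← h3] at h4
    have h5 : y 0 0 = 1 := by
      apply eq_of_sq
      linear_combination h4
    have h6 : y = tu (y 0 1) := T1Sl2.eq_up ⟨h5, h2⟩
    have h7 : y ^ 2 = 1 := by
      rw [pow_two, h6, T1Sl2.up_mul, CharTwo.add_self_eq_zero, T1Sl2.up_zero]
    have h8 : r ∣ 2 := by rw [← hyx]; exact orderOf_dvd_of_pow_eq_one h7
    exact hr2 ((Nat.prime_dvd_prime_iff_eq hr Nat.prime_two).mp h8)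
  · obtain ⟨q, hq, hfix⟩ := card_fix h ht
    have hx' : r ∣ q * (Nat.card F - 1) := by
      rw [← hfix, ← hx]
      exact Subgroup.orderOf_dvd_natCard (fix α) hα
    have hq2 : ∀ m : ℕ, r ∣ 2 ^ m → False := fun m hm =>
      hr2 ((Nat.prime_dvd_prime_iff_eq hr Nat.prime_two).mp (hr.dvd_of_dvd_pow hm))
    rcases (hr.dvd_mul).mp hx' with h2 | h2
    · apply hq2 n
      rw [← hF, hq]
      exact h2.trans (dvd_pow_self q two_ne_zero)
    · apply hq2 1
      have hpos : 1 ≤ Nat.card F := Nat.card_pos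
      have h3 : r ∣ (Nat.card F + 1) - (Nat.card F - 1) := Nat.dvd_sub hrq h2
      have h4 : (Nat.card F + 1) - (Nat.card F - 1) = 2 ^ 1 := by omega
      rwa [h4] at h3

/-- conjugacy of the involutory outer automorphisms -/
theorem exists_conj_eq {α β : MulAut SL2} (hα : α * α = 1) (hβ : β * β = 1) (hα1 : typ α ≠ 1)
    (hβ1 : typ β ≠ 1) : ∃ s : SL2, β = MulAut.conj s * α * (MulAut.conj s)⁻¹ := by
  obtain ⟨s, hs⟩ := exists_std hα hα1
  obtain ⟨t, ht⟩ := exists_std hβ hβ1
  have h1 : typ α * typ α = 1 := by rw [← map_mul, hα, map_one]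
  have h2 : typ β * typ β = 1 := by rw [← map_mul, hβ, map_one]
  have h3 := ringAut_invol h1 h2 hα1 hβ1
  refine ⟨t * s⁻¹, ?_⟩
  rw [ht, ← h3]
  nth_rw 2 [hs]
  rw [map_mul, map_inv]
  group

theorem exists_order_three (F : Type*) [Field F] [Finite F] [CharP F 2] :
    ∃ x : Matrix.SpecialLinearGroup (Fin 2) F, orderOf x = 3 := by
  refine ⟨T1Sl2.mk 0 1 1 1 (by rw [CharTwo.sub_eq_add]; ring), ?_⟩
  have := Fintype.ofFinite F
  apply T1Sl2.order_three
  rw [T1Sl2.mk00, T1Sl2.mk11, zero_add]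

end Cfsg.Agent.OddCyclic.L2Field
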