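import Cfsg.Agent.OddCyclic.CaseACount

/-!
# S0342, component case A, step A1 (a), (b): the types of the involutions of `C(K)^g ∩ N(K)` agree
-/

set_option autoImplicit false

namespace Cfsg.Agent.OddCyclic.CaseATypes

open Subgroup
open Cfsg.Agent.LieExceptional Cfsg.Agent.LieExceptional.CITDefs
open Cfsg.Agent.OddCyclic.CompBasic Cfsg.Agent.OddCyclic.CompStandard
open Cfsg.Agent.OddCyclic.CaseADefs Cfsg.Agent.OddCyclic.CaseABase Cfsg.Agent.OddCyclic.CaseACount

variable {G : Type*} [Group G]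

/-- The facts on field automorphisms of order 2 of `K` used here. -/
structure TF (K : Subgroup G) : Prop where
  gen : ∀ x ∈ normalizer (K : Set G), x * x ∈ centralizer (K : Set G) →
    x ∉ K ⊔ centralizer (K : Set G) →
    K ⊓ centralizer ({x} : Set G) ≤
      closure {k | k ∈ K ⊓ centralizer ({x} : Set G) ∧ orderOf k = 3}
  cent : ∀ x ∈ normalizer (K : Set G), x * x ∈ centralizer (K : Set G) →
    x ∉ K ⊔ centralizer (K : Set G) → ∀ y ∈ normalizer (K : Set G),
    (∀ k ∈ K ⊓ centralizer ({x} : Set G), y * k = k * y) →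
    y ∈ centralizer (K : Set G) ∨ ∃ c ∈ centralizer (K : Set G), y = x * c

section

variable [Finite G] {p q : ℕ} {K : Subgroup G} {g a : G}

omit [Finite G] in
theorem exists_three (hTF : TF K) (hL : L2K K q) (haM : a ∈ normalizer (K : Set G))
    (ha2 : a * a ∈ centralizer (K : Set G)) (haK : a ∉ K ⊔ centralizer (K : Set G)) :
    ∃ x ∈ K, x * a = a * x ∧ orderOf x = 3 := by
  by_contra hno
  push Not at hno
  have h1 : K ⊓ centralizer ({a} : Set G) = ⊥ := by
    rw [eq_bot_iff]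
    refine (hTF.gen a haM ha2 haK).trans ?_
    rw [closure_le]
    rintro k ⟨hk, hk3⟩
    exact absurd hk3 (hno k hk.1 (mem_centralizer_singleton_iff.mp hk.2))
  have h2 := hTF.cent a haM ha2 haK
  -- every element of `K` centralises `K ⊓ C(a) = 1`
  have h3 : ∀ k ∈ K, k = 1 := by
    intro k hk
    rcases h2 k (Subgroup.le_normalizer hk) (fun x hx => by
        rw [h1, mem_bot] at hx; rw [hx, mul_one, one_mul]) with h4 | ⟨c, hc, h4⟩
    · have h5 : k ∈ K ⊓ centralizer (K : Set G) := ⟨hk, h4⟩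
      rwa [hL.inf, mem_bot] at h5
    · exfalso
      apply haK
      have h5 : a = k * c⁻¹ := by rw [h4]; group
      rw [h5]
      exact Subgroup.mul_mem _ (mem_sup_left hk) (mem_sup_right (Subgroup.inv_mem _ hc))
  have h4 : K = ⊥ := (Subgroup.eq_bot_iff_forall K).mpr h3
  obtain ⟨f, hf⟩ := hL.pow
  have h5 : IsSyl2 K ⊥ := ⟨bot_le, IsPGroup.of_bot, fun Y hY _ _ => by
    rw [eq_bot_iff]; exact hY.trans h4.le⟩
  obtain ⟨H, hH⟩ := hL.borel ⊥ h5
  have h6 := hH.cardE
  rw [Subgroup.card_bot] at h6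
  have h7 := hL.four
  omega

/-- `C_K(a) ≤ K^g` and `Y^g ∩ M ≤ Y ∪ Ya` -/
theorem field_le (h : Std p K) (hTF : TF K)
    (haY : a ∈ cj g (centralizer (K : Set G))) (haM : a ∈ normalizer (K : Set G))
    (ha2 : orderOf a = 2) (haK : a ∉ K ⊔ centralizer (K : Set G)) :
    K ⊓ centralizer ({a} : Set G) ≤ cj g K := by
  have hsq : a * a ∈ centralizer (K : Set G) := by
    rw [sq_of_orderOf ha2]; exact one_mem _
  refine (hTF.gen a haM hsq haK).trans ?_
  rw [closure_le]
  rintro k ⟨hk, hk3⟩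
  refine h.mem_cj_of_dvd g (q := 3) Nat.prime_three (by norm_num) ?_ ?_ hk3
  · rw [← hk3]; exact K.orderOf_dvd_natCard hk.1
  · exact h.centralizer_le_cj ha2 haY hk.2

theorem field_comm (h : Std p K) (hTF : TF K)
    (haY : a ∈ cj g (centralizer (K : Set G))) (haM : a ∈ normalizer (K : Set G))
    (ha2 : orderOf a = 2) (haK : a ∉ K ⊔ centralizer (K : Set G)) :
    ∀ k ∈ K ⊓ centralizer ({a} : Set G), ∀ y ∈ cj g (centralizer (K : Set G)),
      y * k = k * y := by
  intro k hk y hy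
  have h1 := field_le h hTF haY haM ha2 haK hk
  rw [cj_centralizer] at hy
  exact (mem_centralizer_iff.mp hy k h1).symm

theorem field_cent (h : Std p K) (hTF : TF K)
    (haY : a ∈ cj g (centralizer (K : Set G))) (haM : a ∈ normalizer (K : Set G))
    (ha2 : orderOf a = 2) (haK : a ∉ K ⊔ centralizer (K : Set G)) :
    ∀ y ∈ cj g (centralizer (K : Set G)), y ∈ normalizer (K : Set G) →
      y ∈ centralizer (K : Set G) ∨ ∃ c ∈ centralizer (K : Set G), y = a * c := by
  intro y hy hyM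
  have hsq : a * a ∈ centralizer (K : Set G) := by
    rw [sq_of_orderOf ha2]; exact one_mem _
  exact hTF.cent a haM hsq haK y hyM fun k hk => field_comm h hTF haY haM ha2 haK k hk y hy

/-- (b) the involutions of `Y ∩ M^g` are field automorphisms on `K^g` -/
theorem field_symm (h : Std p K) (hL : L2K K q) (hTF : TF K) (hg : g ∉ normalizer (K : Set G))
    (haY : a ∈ cj g (centralizer (K : Set G))) (haM : a ∈ normalizer (K : Set G))
    (ha2 : orderOf a = 2) (haK : a ∉ K ⊔ centralizer (K : Set G)) {b : G}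
    (hbY : b ∈ centralizer (K : Set G)) (hb2 : orderOf b = 2) :
    b ∉ cj g (K ⊔ centralizer (K : Set G)) := by
  intro hb
  have hsq : a * a ∈ centralizer (K : Set G) := by
    rw [sq_of_orderOf ha2]; exact one_mem _
  obtain ⟨x, hxK, hxa, hx3⟩ := exists_three hTF hL haM hsq haK
  have hxg : x ∈ cj g K := field_le h hTF haY haM ha2 haK
    ⟨hxK, mem_centralizer_singleton_iff.mpr hxa⟩
  have hxb : x * b = b * x := comm_KY x hxK b hbY
  have hb' := mem_cj.mp hb
  have hx' := mem_cj.mp hxg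
  obtain ⟨k, hk, y, hy, hky⟩ := mem_KY.mp hb'
  have hbo : orderOf (g⁻¹ * b * g) = 2 := by
    have := orderOf_conj g⁻¹ b
    rw [inv_inv] at this
    rw [this, hb2]
  have h1 : (k * y) ^ 2 = 1 := by rw [← hky, ← hbo, pow_orderOf_eq_one]
  obtain ⟨hk2, -⟩ := pow_eq_one_KY hL.inf hk hy h1
  have hk1 : k ≠ 1 := by
    rintro rfl
    rw [one_mul] at hky
    exact hg (h.mem_of_involution hb2 hbY (by rw [mem_cj, hky]; exact hy))
  obtain ⟨E, H, hE, hB, hkE, hcent⟩ := exists_sylow hL hk (orderOf_eq_prime hk2 hk1)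
  have h2 : (g⁻¹ * x * g) * (k * y) = (k * y) * (g⁻¹ * x * g) := by
    rw [← hky]
    calc (g⁻¹ * x * g) * (g⁻¹ * b * g) = g⁻¹ * (x * b) * g := by group
      _ = g⁻¹ * (b * x) * g := by rw [hxb]
      _ = _ := by group
  have h3 : (g⁻¹ * x * g) * k = k * (g⁻¹ * x * g) := by
    have h4 := comm_KY _ hx' y hy
    have h5 : (g⁻¹ * x * g) * k * y = k * (g⁻¹ * x * g) * y := by
      rw [mul_assoc (g⁻¹ * x * g) k y, h2, mul_assoc k y, ← h4, mul_assoc k (g⁻¹ * x * g)]
    exact mul_right_cancel h5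
  have h4 := (hcent _ hx').mp h3
  have h5 : (g⁻¹ * x * g) * (g⁻¹ * x * g) = 1 := hB.elem _ h4
  have h6 : x * x = 1 := by
    calc x * x = g * ((g⁻¹ * x * g) * (g⁻¹ * x * g)) * g⁻¹ := by group
      _ = 1 := by rw [h5]; group
  have h7 : orderOf x ∣ 2 := orderOf_dvd_of_pow_eq_one (by rw [pow_two]; exact h6)
  rw [hx3] at h7
  omega

/-- The facts for `g⁻¹`. -/
theorem swap (h : Std p K) (hL : L2K K q) (hTF : TF K) (hg : g ∉ normalizer (K : Set G))
    (haY : a ∈ cj g (centralizer (K : Set G))) (haM : a ∈ normalizer (K : Set G))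
    (ha2 : orderOf a = 2) (haK : a ∉ K ⊔ centralizer (K : Set G)) {b : G}
    (hbY : b ∈ centralizer (K : Set G)) (hbM : b ∈ cj g (normalizer (K : Set G)))
    (hb2 : orderOf b = 2) :
    g⁻¹ ∉ normalizer (K : Set G) ∧ g⁻¹ * b * g ∈ cj g⁻¹ (centralizer (K : Set G)) ∧
      g⁻¹ * b * g ∈ normalizer (K : Set G) ∧ orderOf (g⁻¹ * b * g) = 2 ∧
      g⁻¹ * b * g ∉ K ⊔ centralizer (K : Set G) := by
  refine ⟨fun h1 => hg (by simpa using inv_mem h1), ?_, mem_cj.mp hbM, ?_, ?_⟩
  · rw [mem_cj]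
    have : (g⁻¹)⁻¹ * (g⁻¹ * b * g) * g⁻¹ = b := by group
    rw [this]; exact hbY
  · have := orderOf_conj g⁻¹ b
    rw [inv_inv] at this
    rw [this, hb2]
  · intro h1
    exact field_symm h hL hTF hg haY haM ha2 haK hbY hb2 (mem_cj.mpr h1)

/-- all involutions of `Y^g ∩ M` are field automorphisms -/
theorem field_all (h : Std p K) (hL : L2K K q) (hTF : TF K) (hg : g ∉ normalizer (K : Set G))
    (haY : a ∈ cj g (centralizer (K : Set G))) (haM : a ∈ normalizer (K : Set G))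
    (ha2 : orderOf a = 2) (haK : a ∉ K ⊔ centralizer (K : Set G)) {b : G}
    (hbY : b ∈ cj g (centralizer (K : Set G))) (hb2 : orderOf b = 2) :
    b ∉ K ⊔ centralizer (K : Set G) := by
  intro hb
  obtain ⟨c, hc, hc2⟩ := exists_involution (h.even_symm hg (even_of_mem
    (H := cj g (centralizer (K : Set G)) ⊓ normalizer (K : Set G)) ⟨haY, haM⟩ ha2))
  obtain ⟨h1, h2, h3, h4, h5⟩ := swap h hL hTF hg haY haM ha2 haK hc.1 hc.2 hc2
  have hbo : orderOf (g⁻¹ * b * g) = 2 := by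
    have := orderOf_conj g⁻¹ b
    rw [inv_inv] at this
    rw [this, hb2]
  refine field_symm h hL hTF h1 h2 h3 h4 h5 (mem_cj.mp hbY) hbo ?_
  rw [mem_cj]
  have : (g⁻¹)⁻¹ * (g⁻¹ * b * g) * g⁻¹ = b := by group
  rw [this]; exact hb

/-- `C_K(a) = C_{K^g}(b)` -/
theorem field_eq (h : Std p K) (hL : L2K K q) (hTF : TF K) (hg : g ∉ normalizer (K : Set G))
    (haY : a ∈ cj g (centralizer (K : Set G))) (haM : a ∈ normalizer (K : Set G))
    (ha2 : orderOf a = 2) (haK : a ∉ K ⊔ centralizer (K : Set G)) {b : G}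
    (hbY : b ∈ centralizer (K : Set G)) (hbM : b ∈ cj g (normalizer (K : Set G)))
    (hb2 : orderOf b = 2) :
    K ⊓ centralizer ({a} : Set G) = cj g K ⊓ centralizer ({b} : Set G) := by
  obtain ⟨h1, h2, h3, h4, h5⟩ := swap h hL hTF hg haY haM ha2 haK hbY hbM hb2
  apply le_antisymm
  · intro x hx
    exact ⟨field_le h hTF haY haM ha2 haK hx,
      mem_centralizer_singleton_iff.mpr (comm_KY x hx.1 b hbY)⟩
  · intro x hx
    have hxb := mem_centralizer_singleton_iff.mp hx.2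
    have h6 : g⁻¹ * x * g ∈ K ⊓ centralizer ({g⁻¹ * b * g} : Set G) := by
      refine ⟨mem_cj.mp hx.1, mem_centralizer_singleton_iff.mpr ?_⟩
      calc (g⁻¹ * x * g) * (g⁻¹ * b * g) = g⁻¹ * (x * b) * g := by group
        _ = g⁻¹ * (b * x) * g := by rw [hxb]
        _ = _ := by group
    have h7 := field_le h hTF h2 h3 h4 h5 h6
    rw [mem_cj] at h7
    have e : (g⁻¹)⁻¹ * (g⁻¹ * x * g) * g⁻¹ = x := by group
    rw [e] at h7
    rw [cj_centralizer] at haY
    exact ⟨h7, mem_centralizer_singleton_iff.mpr (mem_centralizer_iff.mp haY x hx.1)⟩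

end

end Cfsg.Agent.OddCyclic.CaseATypes
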