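import Mathlib
import Cfsg.Agent.OddCyclic.L2Field
import Cfsg.Agent.OddCyclic.CaseAFacts
import Cfsg.Agent.OddCyclic.CaseATypes
import Cfsg.Agent.Lib.FieldAutCard

/-!
# S0342, component type, case A: the facts (K3), (K4) for `K ≅ PSL(2,q)`, `q = 2^f ≥ 4`

`M = N(K)`, `Y = C(K)`.
-/

set_option autoImplicit false
set_option linter.unusedSectionVars false

namespace Cfsg.Agent.OddCyclic.CaseAField

open Matrix Subgroup Cfsg.Agent.Lib.SL2Mat Cfsg.Agent.Lib.AutSL2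
open Cfsg.Agent.Classification.QDW.TypeHom
open Cfsg.Agent.OddCyclic.L2Model Cfsg.Agent.OddCyclic.L2Borel Cfsg.Agent.OddCyclic.L2Abs
open Cfsg.Agent.OddCyclic.L2Field Cfsg.Agent.OddCyclic.CaseAFacts
open Cfsg.Agent.LieExceptional.CITDefs
open Cfsg.Agent.OddCyclic.CaseADefs Cfsg.Agent.OddCyclic.CompStandard

/-- The facts on field automorphisms of order 2 modulo `C(K)` -/
structure L2K3 {G : Type*} [Group G] (K : Subgroup G) (q : ℕ) : Prop where
  /-- they are conjugate under `K` modulo `C(K)` -/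
  conj : ∀ x ∈ normalizer (K : Set G), ∀ y ∈ normalizer (K : Set G),
    x * x ∈ centralizer (K : Set G) → y * y ∈ centralizer (K : Set G) →
    x ∉ K ⊔ centralizer (K : Set G) → y ∉ K ⊔ centralizer (K : Set G) →
    ∃ k ∈ K, ∃ c ∈ centralizer (K : Set G), y = k * x * k⁻¹ * c
  /-- `C_M(C_K(x)) = Y ∪ xY` -/
  cent : ∀ x ∈ normalizer (K : Set G), x * x ∈ centralizer (K : Set G) →
    x ∉ K ⊔ centralizer (K : Set G) → ∀ y ∈ normalizer (K : Set G),
    (∀ k ∈ K ⊓ centralizer ({x} : Set G), y * k = k * y) →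
    y ∈ centralizer (K : Set G) ∨ ∃ c ∈ centralizer (K : Set G), y = x * c
  /-- `C_K(x) ≅ L₂(q₀)` -/
  iso : ∀ x ∈ normalizer (K : Set G), x * x ∈ centralizer (K : Set G) →
    x ∉ K ⊔ centralizer (K : Set G) → ∃ (F₀ : Type) (_ : Field F₀) (_ : Fintype F₀),
      q = Fintype.card F₀ ^ 2 ∧
      Nonempty ((K ⊓ centralizer ({x} : Set G) : Subgroup G) ≃*
        Matrix.ProjectiveSpecialLinearGroup (Fin 2) F₀)
  /-- `C_K(x)` is generated by its elements of order 3 -/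
  gen : 16 ≤ q → ∀ x ∈ normalizer (K : Set G), x * x ∈ centralizer (K : Set G) →
    x ∉ K ⊔ centralizer (K : Set G) →
    K ⊓ centralizer ({x} : Set G) ≤
      closure {k | k ∈ K ⊓ centralizer ({x} : Set G) ∧ orderOf k = 3}
  /-- the action on `E` -/
  onE : ∀ E : Subgroup G, IsSyl2 K E → ∀ x ∈ normalizer (K : Set G),
    (∀ e ∈ E, x * e * x⁻¹ ∈ E) → x * x ∈ centralizer (K : Set G) →
    x ∉ K ⊔ centralizer (K : Set G) →
    Nat.card (E ⊓ centralizer ({x} : Set G) : Subgroup G) ^ 2 = q ∧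
      ∀ e ∈ E, x * e = e * x ↔ ∃ e₁ ∈ E, e = e₁ * (x * e₁ * x⁻¹)
  /-- a conjugate normalises the complement -/
  torus : ∀ E H : Subgroup G, IsSyl2 K E → Borel K E H q → ∀ x ∈ normalizer (K : Set G),
    (∀ e ∈ E, x * e * x⁻¹ ∈ E) → x * x ∈ centralizer (K : Set G) →
    x ∉ K ⊔ centralizer (K : Set G) →
    ∃ e₁ ∈ E, ∀ h ∈ H, (e₁ * x * e₁⁻¹) * h * (e₁ * x * e₁⁻¹)⁻¹ ∈ H
  /-- `N_M(E) = E (N_M(E) ∩ N(H))` -/
  split : ∀ E H : Subgroup G, IsSyl2 K E → Borel K E H q → ∀ x ∈ normalizer (K : Set G),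
    (∀ e ∈ E, x * e * x⁻¹ ∈ E) → ∃ e₁ ∈ E, ∃ x₁ ∈ normalizer (K : Set G), x = e₁ * x₁ ∧
      (∀ e ∈ E, x₁ * e * x₁⁻¹ ∈ E) ∧ ∀ h ∈ H, x₁ * h * x₁⁻¹ ∈ H
  /-- the complements of `E` are conjugate -/
  bconj : ∀ E H H₁ : Subgroup G, IsSyl2 K E → Borel K E H q → Borel K E H₁ q →
    ∃ e₁ ∈ E, H₁ = cj e₁ H
  /-- (K4) -/
  k4 : ∀ r : ℕ, r.Prime → r ∣ q + 1 → ∀ x ∈ K, orderOf x = r → ∀ a ∈ normalizer (K : Set G),
    a * a ∈ centralizer (K : Set G) → a * x = x * a → a ∈ centralizer (K : Set G)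
  /-- two Sylow 2-subgroups -/
  sylow : ∀ E E' : Subgroup G, IsSyl2 K E → IsSyl2 K E' → E ≠ E' → E ⊓ E' = ⊥ ∧ E ⊔ E' = K
  card : Nat.card K = q * (q ^ 2 - 1)

variable {F : Type*} [Field F] [Finite F] [CharP F 2]

local notation "SL2" => Matrix.SpecialLinearGroup (Fin 2) F
local notation "UI" => Cfsg.Agent.OddCyclic.T1Sl2.UI
local notation "tu" => Cfsg.Agent.OddCyclic.T1Sl2.up
local notation "td" => Cfsg.Agent.OddCyclic.T1Sl2.dg

variable {G : Type*} [Group G] {K : Subgroup G} {e : K ≃* Matrix.SpecialLinearGroup (Fin 2) F}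
  {E H : Subgroup G}

theorem act_sq {x : G} (hx : x ∈ normalizer (K : Set G)) (h2 : x * x ∈ centralizer (K : Set G)) :
    act e ⟨x, hx⟩ * act e ⟨x, hx⟩ = 1 := by
  rw [← map_mul]
  exact (act_eq_one_iff e _).mpr h2

theorem typ_ne {x : G} (hx : x ∈ normalizer (K : Set G))
    (h : x ∉ K ⊔ centralizer (K : Set G)) : typ (act e ⟨x, hx⟩) ≠ 1 :=
  fun h1 => h ((typ_eq_one_iff' e ⟨x, hx⟩).mp h1)

theorem mem_fix_act {x : G} (hx : x ∈ normalizer (K : Set G)) (k : K) :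
    e k ∈ fix (act e ⟨x, hx⟩) ↔ (k : G) ∈ centralizer ({x} : Set G) := by
  rw [mem_fix, act_apply, e.injective.eq_iff, Subtype.ext_iff, mem_centralizer_singleton_iff]
  change x * k.1 * x⁻¹ = k.1 ↔ _
  rw [mul_inv_eq_iff_eq_mul]
  exact eq_comm

theorem conj (e : K ≃* Matrix.SpecialLinearGroup (Fin 2) F) {x y : G}
    (hx : x ∈ normalizer (K : Set G)) (hy : y ∈ normalizer (K : Set G))
    (hx2 : x * x ∈ centralizer (K : Set G)) (hy2 : y * y ∈ centralizer (K : Set G))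
    (hx1 : x ∉ K ⊔ centralizer (K : Set G)) (hy1 : y ∉ K ⊔ centralizer (K : Set G)) :
    ∃ k ∈ K, ∃ c ∈ centralizer (K : Set G), y = k * x * k⁻¹ * c := by
  obtain ⟨s, hs⟩ := exists_conj_eq (act_sq (e := e) hx hx2) (act_sq (e := e) hy hy2)
    (typ_ne hx hx1) (typ_ne hy hy1)
  obtain ⟨k, rfl⟩ := e.surjective s
  rw [← act_coe, ← map_inv, ← map_mul, ← map_mul] at hs
  obtain ⟨c, hc, hcx⟩ := (act_eq_iff e _ _).mp hs.symm
  exact ⟨k.1, k.2, c, hc, hcx⟩

theorem cent (e : K ≃* Matrix.SpecialLinearGroup (Fin 2) F) {x y : G}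
    (hx : x ∈ normalizer (K : Set G)) (hx2 : x * x ∈ centralizer (K : Set G))
    (hx1 : x ∉ K ⊔ centralizer (K : Set G)) (hy : y ∈ normalizer (K : Set G))
    (h : ∀ k ∈ K ⊓ centralizer ({x} : Set G), y * k = k * y) :
    y ∈ centralizer (K : Set G) ∨ ∃ c ∈ centralizer (K : Set G), y = x * c := by
  have h1 : ∀ z ∈ fix (act e ⟨x, hx⟩), act e ⟨y, hy⟩ z = z := by
    intro z hz
    obtain ⟨k, rfl⟩ := e.surjective z
    have h2 := h k.1 ⟨k.2, (mem_fix_act hx k).mp hz⟩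
    rw [act_apply, e.injective.eq_iff, Subtype.ext_iff]
    change y * k.1 * y⁻¹ = k.1
    rw [h2, mul_inv_cancel_right]
  rcases cent_fix (act_sq hx hx2) (typ_ne hx hx1) h1 with h2 | h2
  · exact Or.inl ((act_eq_one_iff e ⟨y, hy⟩).mp h2)
  · exact Or.inr ((act_eq_iff e ⟨x, hx⟩ ⟨y, hy⟩).mp h2.symm)

theorem fixEquiv (e : K ≃* Matrix.SpecialLinearGroup (Fin 2) F) {x : G}
    (hx : x ∈ normalizer (K : Set G)) :
    Nonempty ((K ⊓ centralizer ({x} : Set G) : Subgroup G) ≃* fix (act e ⟨x, hx⟩)) := by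
  obtain ⟨g, hg⟩ : ∃ g : (K ⊓ centralizer ({x} : Set G) : Subgroup G) →* SL2,
      g = e.toMonoidHom.comp (Subgroup.inclusion inf_le_left) := ⟨_, rfl⟩
  have hinj : Function.Injective g := by
    rw [hg]
    exact e.injective.comp (Subgroup.inclusion_injective inf_le_left)
  have hr : g.range = fix (act e ⟨x, hx⟩) := by
    ext z
    obtain ⟨k, rfl⟩ := e.surjective z
    rw [mem_fix_act hx k, MonoidHom.mem_range]
    constructor
    · rintro ⟨y, hy⟩
      rw [hg] at hy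
      have h1 := e.injective hy
      rw [← h1]
      exact y.2.2
    · intro h
      exact ⟨⟨k.1, k.2, h⟩, by rw [hg]; rfl⟩
  exact ⟨(MonoidHom.ofInjective hinj).trans (MulEquiv.subgroupCongr hr)⟩

theorem iso (e : K ≃* Matrix.SpecialLinearGroup (Fin 2) F) {x : G}
    (hx : x ∈ normalizer (K : Set G)) (hx2 : x * x ∈ centralizer (K : Set G))
    (hx1 : x ∉ K ⊔ centralizer (K : Set G)) :
    ∃ (K₀ : Subfield F), Nat.card F = Nat.card K₀ ^ 2 ∧
      Nonempty ((K ⊓ centralizer ({x} : Set G) : Subgroup G) ≃*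
        Matrix.SpecialLinearGroup (Fin 2) K₀) := by
  obtain ⟨K₀, φ, hc, hinj, hr⟩ := exists_fix (act_sq (e := e) hx hx2) (typ_ne hx hx1)
  obtain ⟨f1⟩ := fixEquiv e hx
  exact ⟨K₀, hc, ⟨f1.trans ((MulEquiv.subgroupCongr hr.symm).trans
    (MonoidHom.ofInjective hinj).symm)⟩⟩

theorem isSimple_cent (e : K ≃* Matrix.SpecialLinearGroup (Fin 2) F) (hF : 16 ≤ Nat.card F) {x : G}
    (hx : x ∈ normalizer (K : Set G)) (hx2 : x * x ∈ centralizer (K : Set G))
    (hx1 : x ∉ K ⊔ centralizer (K : Set G)) :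
    IsSimpleGroup (K ⊓ centralizer ({x} : Set G) : Subgroup G) ∧
      ∃ y : (K ⊓ centralizer ({x} : Set G) : Subgroup G), orderOf y = 3 := by
  obtain ⟨K₀, hc, ⟨f⟩⟩ := iso e hx hx2 hx1
  have hch : CharP K₀ 2 := Subfield.charP K₀ 2
  have := Fintype.ofFinite K₀
  have h4 : 3 < Fintype.card K₀ := by
    rw [← Nat.card_eq_fintype_card]
    by_contra h
    push Not at h
    have : Nat.card K₀ ^ 2 ≤ 3 ^ 2 := Nat.pow_le_pow_left h 2
    rw [← hc] at this
    omega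
  have hs := Cfsg.Agent.TwoFusion.SLTwoFacts.isSimpleGroup_psl h4
  constructor
  · exact ((f.trans slEquiv).isSimpleGroup_congr).mpr hs
  · obtain ⟨y, hy⟩ := exists_order_three K₀
    refine ⟨f.symm y, ?_⟩
    rw [← hy]
    exact MulEquiv.orderOf_eq f.symm y

theorem gen (e : K ≃* Matrix.SpecialLinearGroup (Fin 2) F) (hF : 16 ≤ Nat.card F) {x : G}
    (hx : x ∈ normalizer (K : Set G)) (hx2 : x * x ∈ centralizer (K : Set G))
    (hx1 : x ∉ K ⊔ centralizer (K : Set G)) :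
    K ⊓ centralizer ({x} : Set G) ≤
      closure {k | k ∈ K ⊓ centralizer ({x} : Set G) ∧ orderOf k = 3} := by
  obtain ⟨hs, y, hy⟩ := isSimple_cent e hF hx hx2 hx1
  obtain ⟨L, hL⟩ : ∃ L : Subgroup G, L = K ⊓ centralizer ({x} : Set G) := ⟨_, rfl⟩
  rw [← hL] at hs ⊢
  have hyL : (y : G) ∈ L := by rw [hL]; exact y.2
  obtain ⟨N, hN⟩ : ∃ N : Subgroup L, N = closure {k : L | orderOf k = 3} := ⟨_, rfl⟩
  have hn : N.Normal := by
    rw [hN]
    apply Subgroup.Normal.mk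
    intro n hn g
    have h1 : (closure {k : L | orderOf k = 3}).map (MulAut.conj g).toMonoidHom ≤
        closure {k : L | orderOf k = 3} := by
      rw [MonoidHom.map_closure]
      apply Subgroup.closure_mono
      rintro _ ⟨k, hk, rfl⟩
      change orderOf _ = 3
      rw [← (show orderOf k = 3 from hk)]
      exact orderOf_injective (MulAut.conj g).toMonoidHom (MulAut.conj g).injective k
    exact h1 ⟨n, hn, rfl⟩
  have h1 : N ≠ ⊥ := by
    intro hb
    have h2 : (⟨y, hyL⟩ : L) ∈ N := by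
      rw [hN]
      apply Subgroup.subset_closure
      change orderOf (⟨y, hyL⟩ : L) = 3
      rw [Subgroup.orderOf_mk, Subgroup.orderOf_coe, hy]
    rw [hb, Subgroup.mem_bot] at h2
    have h3 : (y : G) = 1 := congrArg Subtype.val h2
    have h4 : orderOf (y : G) = 3 := by rw [Subgroup.orderOf_coe, hy]
    rw [h3, orderOf_one] at h4
    omega
  have h2 : N = ⊤ := (hs.eq_bot_or_eq_top_of_normal N hn).resolve_left h1
  intro z hz
  have h3 : (⟨z, hz⟩ : L) ∈ N := by rw [h2]; trivial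
  rw [hN] at h3
  have h4 : z ∈ (closure {k : L | orderOf k = 3}).map L.subtype := ⟨⟨z, hz⟩, h3, rfl⟩
  rw [MonoidHom.map_closure] at h4
  refine Subgroup.closure_mono ?_ h4
  rintro _ ⟨k, hk, rfl⟩
  refine ⟨k.2, ?_⟩
  rw [← (show orderOf k = 3 from hk)]
  exact Subgroup.orderOf_coe k

theorem onE (h : Fr e E) (hE : E ≤ K) {x : G} (hx : x ∈ normalizer (K : Set G))
    (hn : ∀ y ∈ E, x * y * x⁻¹ ∈ E) (hx2 : x * x ∈ centralizer (K : Set G))
    (hx1 : x ∉ K ⊔ centralizer (K : Set G)) :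
    Nat.card (E ⊓ centralizer ({x} : Set G) : Subgroup G) ^ 2 = Nat.card F ∧
      ∀ y ∈ E, x * y = y * x ↔ ∃ y₁ ∈ E, y = y₁ * (x * y₁ * x⁻¹) := by
  obtain ⟨t, s, hts⟩ := h.form hE ⟨x, hx⟩ hn
  obtain ⟨σ, hσ⟩ : ∃ σ, σ = typ (act e ⟨x, hx⟩) := ⟨_, rfl⟩
  have hσ1 : σ ≠ 1 := by rw [hσ]; exact typ_ne hx hx1
  rw [← hσ] at hts
  have h2 := act_sq (e := e) hx hx2
  rw [hts] at h2
  obtain ⟨h3, h4⟩ := form_sq h2
  obtain ⟨h5, h6⟩ := fixed_eq hσ1 h4
  have h7 : ∀ a, x * ee e a * x⁻¹ = ee e ((s : F) * s * σ a) := fun a =>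
    conj_ee_eq ⟨x, hx⟩ hts (form_tu t s σ a)
  refine ⟨by rw [card_inf_centralizer h hE hx hts, h5], ?_⟩
  intro y hy
  obtain ⟨a, rfl⟩ := h.exists_ee hE hy
  have h8 : x * ee e a = ee e a * x ↔ (s : F) * s * σ a = a := by
    constructor
    · intro h9
      have h10 := h7 a
      rw [h9, mul_inv_cancel_right] at h10
      exact (ee_inj h10).symm
    · intro h9
      have h10 := h7 a
      rw [h9, mul_inv_eq_iff_eq_mul] at h10
      exact h10
  rw [h8, h6]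
  constructor
  · rintro ⟨b, hb⟩
    refine ⟨ee e b, h.ee_mem b, ?_⟩
    rw [h7, ee_mul, ← hb]
  · rintro ⟨y₁, hy₁, hyy⟩
    obtain ⟨b, rfl⟩ := h.exists_ee hE hy₁
    rw [h7, ee_mul] at hyy
    exact ⟨b, ee_inj hyy⟩

theorem torus_range (h : Fr e E) (hE : E ≤ K) {x : G} (hx : x ∈ normalizer (K : Set G))
    (hn : ∀ y ∈ E, x * y * x⁻¹ ∈ E) (hx2 : x * x ∈ centralizer (K : Set G))
    (hx1 : x ∉ K ⊔ centralizer (K : Set G)) :
    ∃ e₁ ∈ E, ∀ y ∈ (hh e).range, (e₁ * x * e₁⁻¹) * y * (e₁ * x * e₁⁻¹)⁻¹ ∈ (hh e).range := by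
  obtain ⟨t, s, hts⟩ := h.form hE ⟨x, hx⟩ hn
  obtain ⟨σ, hσ⟩ : ∃ σ, σ = typ (act e ⟨x, hx⟩) := ⟨_, rfl⟩
  have hσ1 : σ ≠ 1 := by rw [hσ]; exact typ_ne hx hx1
  rw [← hσ] at hts
  have h2 := act_sq (e := e) hx hx2
  rw [hts] at h2
  obtain ⟨h3, h4⟩ := form_sq h2
  obtain ⟨u, hu⟩ := ((fixed_eq hσ1 h4).2 t).mp h3
  refine ⟨ee e u, h.ee_mem u, ?_⟩
  obtain ⟨X, hX⟩ : ∃ X : normalizer (K : Set G), X = ⟨x, hx⟩ := ⟨_, rfl⟩
  obtain ⟨U, hU⟩ : ∃ U : normalizer (K : Set G), U = ⟨ee e u, le_normalizer (ee_mem_K u)⟩ :=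
    ⟨_, rfl⟩
  have h5 : act e (U * X * U⁻¹) = MulAut.conj (td s) * fieldAut σ := by
    rw [map_mul, map_mul, map_inv, hX, hU, act_ee, hts, ← map_inv]
    have h6 : fieldAut σ (tu u) = tu (σ u) := fieldAut_up σ u
    have h7 : fieldAut σ * MulAut.conj (tu u)⁻¹ = MulAut.conj (tu (σ u)) * fieldAut σ := by
      rw [tu_inv, fieldAut_mul_conj, h6]
    have h8 : tu u * (tu t * td s) * tu (σ u) = td s := by
      calc tu u * (tu t * td s) * tu (σ u) = tu u * tu t * (td s * tu (σ u) * (td s)⁻¹) * td s := by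
            group
        _ = tu (u + t + (s : F) * s * σ u) * td s := by
            rw [td_conj_tu, T1Sl2.up_mul, T1Sl2.up_mul]
        _ = td s := by
            have : u + t + (s : F) * s * σ u = 0 := by
              rw [hu]
              have h2' : (2 : F) = 0 := CharTwo.two_eq_zero
              linear_combination (u + (s : F) * s * σ u) * h2'
            rw [this, T1Sl2.up_zero, one_mul]
    calc MulAut.conj (tu u) * (MulAut.conj (tu t * td s) * fieldAut σ) * MulAut.conj (tu u)⁻¹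
        = MulAut.conj (tu u) * MulAut.conj (tu t * td s) *
          (fieldAut σ * MulAut.conj (tu u)⁻¹) := by simp only [mul_assoc]
      _ = MulAut.conj (tu u * (tu t * td s) * tu (σ u)) * fieldAut σ := by
          rw [h7, map_mul MulAut.conj (tu u * (tu t * td s)) (tu (σ u)),
            map_mul MulAut.conj (tu u) (tu t * td s)]
          simp only [mul_assoc]
      _ = _ := by rw [h8]
  rintro _ ⟨r, rfl⟩
  refine ⟨Units.map σ.toMonoidHom r, ?_⟩
  have h6 := conj_hh_eq (U * X * U⁻¹) h5 (form_td s σ r)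
  rw [hX, hU] at h6
  exact h6.symm

/-- `N_M(E) = E (N_M(E) ∩ N(H))` -/
theorem split_range (h : Fr e E) (hE : E ≤ K) {x : G} (hx : x ∈ normalizer (K : Set G))
    (hn : ∀ y ∈ E, x * y * x⁻¹ ∈ E) :
    ∃ e₁ ∈ E, ∃ x₁ ∈ normalizer (K : Set G), x = e₁ * x₁ ∧ (∀ y ∈ E, x₁ * y * x₁⁻¹ ∈ E) ∧
      ∀ y ∈ (hh e).range, x₁ * y * x₁⁻¹ ∈ (hh e).range := by
  obtain ⟨t, s, hts⟩ := h.form hE ⟨x, hx⟩ hn
  obtain ⟨σ, hσ⟩ : ∃ σ, σ = typ (act e ⟨x, hx⟩) := ⟨_, rfl⟩
  rw [← hσ] at hts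
  obtain ⟨X, hX⟩ : ∃ X : normalizer (K : Set G), X = ⟨x, hx⟩ := ⟨_, rfl⟩
  obtain ⟨U, hU⟩ : ∃ U : normalizer (K : Set G), U = ⟨ee e t, le_normalizer (ee_mem_K t)⟩ :=
    ⟨_, rfl⟩
  have h5 : act e (U⁻¹ * X) = MulAut.conj (td s) * fieldAut σ := by
    rw [map_mul, map_inv, hX, hU, act_ee, hts, map_mul MulAut.conj (tu t)]
    group
  refine ⟨ee e t, h.ee_mem t, (U⁻¹ * X).1, (U⁻¹ * X).2, ?_, ?_, ?_⟩
  · rw [hX, hU]
    change x = ee e t * ((ee e t)⁻¹ * x)
    group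
  · intro y hy
    obtain ⟨a, rfl⟩ := h.exists_ee hE hy
    have h6 : (MulAut.conj (td s) * fieldAut σ) (tu a) = tu (s * s * σ a) := by
      have h7 := form_tu 0 s σ a
      rwa [T1Sl2.up_zero, one_mul] at h7
    rw [conj_ee_eq (U⁻¹ * X) h5 h6]
    exact h.ee_mem _
  · rintro _ ⟨r, rfl⟩
    rw [conj_hh_eq (U⁻¹ * X) h5 (form_td s σ r)]
    exact ⟨_, rfl⟩

/-- the complement `H` is conjugate to the standard torus under `E` -/
theorem exists_cj (h : Fr e E) (hE : E ≤ K) (hB : Borel K E H (Nat.card F))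
    (h4 : 4 ≤ Nat.card F) : ∃ u : F, cj (ee e u) H = (hh e).range := by
  have := Fintype.ofFinite F
  obtain ⟨n, hn, hF⟩ := T1Sl2.card_pow F
  rw [← Nat.card_eq_fintype_card] at hF
  have hcop : Nat.Coprime (Nat.card F) (Nat.card F - 1) := by
    have h1 : Nat.card F = (Nat.card F - 1) + 1 := by omega
    nth_rw 1 [h1]
    exact (Nat.coprime_self_add_left (m := Nat.card F - 1) (n := 1)).mpr (Nat.coprime_one_left _)
  obtain ⟨⟨h0, hh0⟩, hgen⟩ := hB.cyc
  obtain ⟨a, s, hs⟩ := h.nK (hB.leH hh0) (hB.norm h0 hh0)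
  have hs1 : (s : F) * s ≠ 1 := by
    intro h1
    have h2 : s = 1 := by
      apply Units.ext
      apply eq_of_sq
      rw [h1, Units.val_one, one_mul]
    rw [h2, map_one, mul_one] at hs
    have h3 : h0 ∈ E := by rw [hs]; exact h.ee_mem a
    have h5 : orderOf h0 ∣ Nat.card F := by
      rw [← h.card hE]; exact Subgroup.orderOf_dvd_natCard E h3
    have h6 : orderOf h0 ∣ Nat.card F - 1 := by
      rw [← hB.cardH]; exact Subgroup.orderOf_dvd_natCard H hh0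
    have h7 : orderOf h0 = 1 := Nat.eq_one_of_dvd_coprimes hcop h5 h6
    have h8 : h0 = 1 := orderOf_eq_one_iff.mp h7
    have h9 : Nat.card H = 1 := by
      rw [Nat.card_eq_one_iff_unique]
      refine ⟨⟨fun x y => ?_⟩, ⟨1⟩⟩
      have : ∀ z : H, z = 1 := by
        intro z
        obtain ⟨k, rfl⟩ := Subgroup.mem_zpowers_iff.mp (hgen z)
        have : (⟨h0, hh0⟩ : H) = 1 := Subtype.ext h8
        rw [this, _root_.one_zpow]
      rw [this x, this y]
    rw [hB.cardH] at h9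
    omega
  obtain ⟨u, hu⟩ : ∃ u : F, u + a + (s : F) * s * u = 0 := by
    have h1 : (1 : F) - (s : F) * s ≠ 0 := sub_ne_zero.mpr (Ne.symm hs1)
    have h2' : (2 : F) = 0 := CharTwo.two_eq_zero
    have h3 : a / (1 - (s : F) * s) * (1 - (s : F) * s) = a := div_mul_cancel₀ a h1
    refine ⟨a / (1 - (s : F) * s), ?_⟩
    linear_combination h3 + (a + (s : F) * s * (a / (1 - (s : F) * s))) * h2'
  -- conjugation by `ee u` maps `H` onto the standard torus
  have hconj : ee e u * h0 * (ee e u)⁻¹ = hh e s := by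
    rw [hs]
    calc ee e u * (ee e a * hh e s) * (ee e u)⁻¹
        = ee e u * ee e a * (hh e s * (ee e u)⁻¹ * (hh e s)⁻¹) * hh e s := by group
      _ = ee e (u + a + (s : F) * s * u) * hh e s := by
          rw [ee_inv, hh_conj_ee, ee_mul, ee_mul]
      _ = hh e s := by rw [hu, ee_zero, one_mul]
  have hle : cj (ee e u) H ≤ (hh e).range := by
    rintro _ ⟨x, hx, rfl⟩
    obtain ⟨k, hk⟩ := Subgroup.mem_zpowers_iff.mp (hgen ⟨x, hx⟩)
    have hk' : x = h0 ^ k := by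
      have := congrArg (fun z : H => (z : G)) hk
      exact this.symm
    refine ⟨s ^ k, ?_⟩
    rw [map_zpow, ← hconj, hk']
    exact conj_zpow.trans (by
      simp only [MulEquiv.coe_toMonoidHom, MulAut.conj_apply])
  have hfin : Finite (hh e).range := by
    have : Finite Fˣ := inferInstance
    exact Set.finite_range (hh e)
  refine ⟨u, ?_⟩
  apply Subgroup.eq_of_le_of_card_ge hle
  rw [card_cj, hB.cardH, card_range]

/-- a frame adapted to `E` and `H` -/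
theorem exists_ft (h : Fr e E) (hE : E ≤ K) (hB : Borel K E H (Nat.card F))
    (h4 : 4 ≤ Nat.card F) :
    ∃ e' : K ≃* Matrix.SpecialLinearGroup (Fin 2) F, Fr e' E ∧ Ft e' H := by
  obtain ⟨u, heq⟩ := exists_cj h hE hB h4
  refine ⟨e.trans (MulAut.conj (tu u)), ?_, ?_⟩
  · intro k
    rw [h k, MulEquiv.trans_apply, MulAut.conj_apply]
    have h1 := T1Sl2.up_mem (F := F) u
    constructor
    · intro h2
      exact mul_mem (mul_mem h1 h2) (inv_mem h1)
    · intro h2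
      have h3 := mul_mem (mul_mem (inv_mem h1) h2) h1
      have h4 : (tu u)⁻¹ * (tu u * e k * (tu u)⁻¹) * tu u = e k := by group
      rwa [h4] at h3
  · intro k
    have h1 : (k : G) ∈ H ↔ ee e u * k * (ee e u)⁻¹ ∈ (hh e).range := by
      rw [← heq]
      constructor
      · intro hk; exact conj_mem_cj hk
      · intro hk
        rw [mem_cj] at hk
        have : (ee e u)⁻¹ * (ee e u * (k : G) * (ee e u)⁻¹) * ee e u = k := by group
        rwa [this] at hk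
    rw [h1]
    have h2 := ft_range (e := e) (⟨ee e u, ee_mem_K u⟩ * k * ⟨ee e u, ee_mem_K u⟩⁻¹)
    rw [MulEquiv.trans_apply, MulAut.conj_apply]
    have h3 : e (⟨ee e u, ee_mem_K u⟩ * k * ⟨ee e u, ee_mem_K u⟩⁻¹) = tu u * e k * (tu u)⁻¹ := by
      rw [map_mul, map_mul, map_inv, e_ee]
    rw [h3] at h2
    exact h2

theorem exists_both [Fintype F] (e₀ : K ≃* Matrix.SpecialLinearGroup (Fin 2) F)
    (hE : IsSyl2 K E) (hB : Borel K E H (Nat.card F)) (h4 : 4 ≤ Nat.card F) :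
    ∃ e' : K ≃* Matrix.SpecialLinearGroup (Fin 2) F, Fr e' E ∧ Ft e' H := by
  obtain ⟨e', he'⟩ := exists_frame e₀ hE
  exact exists_ft he' hE.le hB h4

/-- two Sylow 2-subgroups of `K` -/
theorem sylow [Fintype F] (e : K ≃* Matrix.SpecialLinearGroup (Fin 2) F) {E E' : Subgroup G}
    (hE : IsSyl2 K E) (hE' : IsSyl2 K E') (hne : E ≠ E') : E ⊓ E' = ⊥ ∧ E ⊔ E' = K := by
  -- the corresponding Sylow subgroups
  have key : ∀ {E : Subgroup G}, IsSyl2 K E → ∃ U : Sylow 2 SL2, ∀ k : K, (k : G) ∈ E ↔ e k ∈ U := by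
    intro E hE
    have h1 : IsPGroup 2 ((E.subgroupOf K).map e.toMonoidHom) :=
      (hE.two.comap_of_injective K.subtype K.subtype_injective).map _
    obtain ⟨Q, hQ⟩ := h1.exists_le_sylow
    refine ⟨Q, ?_⟩
    obtain ⟨Q', hQ'⟩ : ∃ Q' : Subgroup G, Q' = ((Q : Subgroup SL2).comap e.toMonoidHom).map
      K.subtype := ⟨_, rfl⟩
    have h2 : IsPGroup 2 Q' := by
      rw [hQ']
      exact (Q.isPGroup'.comap_of_injective e.toMonoidHom e.injective).map _
    have hmem : ∀ k : K, (k : G) ∈ Q' ↔ e k ∈ Q := by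
      intro k
      rw [hQ', Subgroup.mem_map]
      constructor
      · rintro ⟨x, hx, hxk⟩
        have : x = k := Subtype.ext hxk
        rw [← this]; exact hx
      · intro h
        exact ⟨k, h, rfl⟩
    have h3 : E ≤ Q' := by
      intro x hx
      have hxK := hE.le hx
      have := (hmem ⟨x, hxK⟩).mpr (hQ ⟨⟨x, hxK⟩, hx, rfl⟩)
      exact this
    have h4 : Q' ≤ K := by
      rw [hQ']
      rintro _ ⟨x, -, rfl⟩
      exact x.2
    have h5 : Q' = E := hE.max Q' h4 h2 h3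
    rw [← h5]
    exact hmem
  obtain ⟨U, hU⟩ := key hE
  obtain ⟨U', hU'⟩ := key hE'
  have hUU : U ≠ U' := by
    rintro rfl
    apply hne
    ext x
    constructor
    · intro hx
      exact (hU' ⟨x, hE.le hx⟩).mpr ((hU ⟨x, hE.le hx⟩).mp hx)
    · intro hx
      exact (hU ⟨x, hE'.le hx⟩).mpr ((hU' ⟨x, hE'.le hx⟩).mp hx)
  constructor
  · rw [eq_bot_iff]
    rintro x ⟨hx, hx'⟩
    have h1 := T1Sl2.sylow_ti hUU ((hU ⟨x, hE.le hx⟩).mp hx) ((hU' ⟨x, hE.le hx⟩).mp hx')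
    rw [Subgroup.mem_bot]
    exact congrArg Subtype.val ((map_eq_one_iff e e.injective).mp h1)
  · apply le_antisymm (sup_le hE.le hE'.le)
    have h1 := T1Sl2.sylow_sup hUU
    have h2 : ((U : Subgroup SL2) ⊔ (U' : Subgroup SL2)) ≤
        ((E ⊔ E').subgroupOf K).map e.toMonoidHom := by
      apply sup_le
      · intro y hy
        obtain ⟨k, rfl⟩ := e.surjective y
        exact ⟨k, (mem_sup_left ((hU k).mpr hy) : (k : G) ∈ E ⊔ E'), rfl⟩
      · intro y hy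
        obtain ⟨k, rfl⟩ := e.surjective y
        exact ⟨k, (mem_sup_right ((hU' k).mpr hy) : (k : G) ∈ E ⊔ E'), rfl⟩
    rw [h1] at h2
    intro x hx
    obtain ⟨k, hk, hke⟩ := h2 (Subgroup.mem_top (e ⟨x, hx⟩))
    have h3 : k = ⟨x, hx⟩ := e.injective hke
    rw [h3] at hk
    exact hk

theorem card (e : K ≃* Matrix.SpecialLinearGroup (Fin 2) F) :
    Nat.card K = Nat.card F * (Nat.card F ^ 2 - 1) := by
  have := Fintype.ofFinite F
  rw [Nat.card_congr e.toEquiv, Nat.card_eq_fintype_card (α := F),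
    ClassicalGeometry.PSL2Basic.card_SL2]

theorem k4 (e : K ≃* Matrix.SpecialLinearGroup (Fin 2) F) {r : ℕ} (hr : r.Prime)
    (hrq : r ∣ Nat.card F + 1) {x : G} (hx : x ∈ K) (hxr : orderOf x = r) {a : G}
    (ha : a ∈ normalizer (K : Set G)) (ha2 : a * a ∈ centralizer (K : Set G))
    (hax : a * x = x * a) : a ∈ centralizer (K : Set G) := by
  by_contra hac
  refine false_of_fix (act_sq (e := e) ha ha2) (fun h => hac ((act_eq_one_iff e ⟨a, ha⟩).mp h))
    hr hrq (x := e ⟨x, hx⟩) ?_ ?_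
  · rw [MulEquiv.orderOf_eq, Subgroup.orderOf_mk, hxr]
  · have h1 := (mem_fix_act (e := e) ha ⟨x, hx⟩).mpr
      (mem_centralizer_singleton_iff.mpr hax.symm)
    exact h1

theorem l2k3_of_equiv {F : Type} [Field F] [Finite F] [CharP F 2] {f : ℕ}
    (hF : Nat.card F = 2 ^ f) (hf : 2 ≤ f)
    (e : K ≃* Matrix.SpecialLinearGroup (Fin 2) F) : L2K3 K (2 ^ f) := by
  have := Fintype.ofFinite F
  have h4 : 4 ≤ Nat.card F := by
    rw [hF]
    calc 4 = 2 ^ 2 := rfl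
      _ ≤ 2 ^ f := Nat.pow_le_pow_right (by norm_num) hf
  refine ⟨?_, ?_, ?_, ?_, ?_, ?_, ?_, ?_, ?_, ?_, ?_⟩
  · intro x hx y hy hx2 hy2 hx1 hy1
    exact conj e hx hy hx2 hy2 hx1 hy1
  · intro x hx hx2 hx1 y hy h
    exact cent e hx hx2 hx1 hy h
  · intro x hx hx2 hx1
    obtain ⟨K₀, hc, ⟨g⟩⟩ := iso e hx hx2 hx1
    have hch : CharP K₀ 2 := Subfield.charP K₀ 2
    have hfin := Fintype.ofFinite K₀
    exact ⟨K₀, inferInstance, hfin, by
      rw [← hF, hc, Nat.card_eq_fintype_card], ⟨g.trans slEquiv⟩⟩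
  · intro h16 x hx hx2 hx1
    exact gen e (by rw [hF]; exact h16) hx hx2 hx1
  · intro E hE x hx hn hx2 hx1
    obtain ⟨e', he'⟩ := exists_frame e hE
    rw [← hF]
    exact onE he' hE.le hx hn hx2 hx1
  · intro E H hE hB x hx hn hx2 hx1
    rw [← hF] at hB
    obtain ⟨e', he', hH⟩ := exists_both e hE hB h4
    rw [hH.eq_range hB.leH]
    exact torus_range he' hE.le hx hn hx2 hx1
  · intro E H hE hB x hx hn
    rw [← hF] at hB
    obtain ⟨e', he', hH⟩ := exists_both e hE hB h4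
    rw [hH.eq_range hB.leH]
    exact split_range he' hE.le hx hn
  · intro E H H₁ hE hB hB₁
    rw [← hF] at hB hB₁
    obtain ⟨e', he'⟩ := exists_frame e hE
    obtain ⟨u, hu⟩ := exists_cj he' hE.le hB h4
    obtain ⟨u₁, hu₁⟩ := exists_cj he' hE.le hB₁ h4
    refine ⟨(ee e' u₁)⁻¹ * ee e' u, E.mul_mem (E.inv_mem (he'.ee_mem _)) (he'.ee_mem _), ?_⟩
    rw [cj_mul, hu, ← hu₁, cj_inv_cj]
  · intro r hr hrq x hx hxr a ha ha2 hax
    exact k4 e hr (by rw [hF]; exact hrq) hx hxr ha ha2 hax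
  · intro E E' hE hE' hne
    exact sylow e hE hE' hne
  · rw [← hF]
    exact card e

/-- **[A-0]** the facts (K3), (K4). -/
theorem l2k3 {F : Type} [Field F] [Fintype F] {f : ℕ} (hF : Fintype.card F = 2 ^ f) (hf : 2 ≤ f)
    (e : K ≃* Matrix.ProjectiveSpecialLinearGroup (Fin 2) F) : L2K3 K (2 ^ f) := by
  have := charP_of_card hF
  exact l2k3_of_equiv (by rw [Nat.card_eq_fintype_card, hF]) hf (e.trans slEquiv.symm)

theorem L2K3.tf {q : ℕ} (h : L2K3 K q) (h16 : 16 ≤ q) : CaseATypes.TF K where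
  gen := h.gen h16
  cent := h.cent

/-- `M/KY` is cyclic of order dividing `f` -/
theorem exists_typ_hom {F : Type*} [Field F] [Fintype F] {f : ℕ} (hF : Fintype.card F = 2 ^ f)
    (hf : 1 ≤ f) (e : K ≃* Matrix.ProjectiveSpecialLinearGroup (Fin 2) F) :
    ∃ ψ : normalizer (K : Set G) →* (F ≃+* F), IsCyclic (F ≃+* F) ∧ Nat.card (F ≃+* F) = f ∧
      ∀ x, ψ x = 1 ↔ x.1 ∈ K ⊔ centralizer (K : Set G) := by
  have := charP_of_card hF
  have h2 : Fact (Nat.Prime 2) := ⟨Nat.prime_two⟩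
  exact ⟨typ.comp (act (e.trans slEquiv.symm)), isCyclic_ringAut,
    Lib.FieldAutCard.card_ringAut hf hF, fun x => typ_eq_one_iff' _ x⟩

end Cfsg.Agent.OddCyclic.CaseAField
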