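import Mathlib
import Cfsg.Agent.OddCyclic.CaseAField
import Cfsg.Agent.Lib.PSL2Inv

/-!
# S0342, component type, case A: `K ≅ PSL(2,8)` in class C

`G` with cyclic odd Sylow subgroups, `K ≅ PSL(2,8)`: then `N(K) = K C(K)`.
-/

set_option autoImplicit false
set_option linter.unusedSectionVars false

namespace Cfsg.Agent.OddCyclic.CaseAEight

open Matrix Subgroup Cfsg.Agent.Lib.SL2Mat Cfsg.Agent.Lib.AutSL2
open Cfsg.Agent.Classification.QDW.TypeHom
open Cfsg.Agent.OddCyclic.L2Model Cfsg.Agent.OddCyclic.L2Borel Cfsg.Agent.OddCyclic.L2Abs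
open Cfsg.Agent.OddCyclic.L2Field Cfsg.Agent.OddCyclic.CaseAFacts
open Cfsg.Agent.OddCyclic.T1Defs Cfsg.Agent.OddCyclic.CompBasic

local notation "UI" => Cfsg.Agent.OddCyclic.T1Sl2.UI
local notation "tu" => Cfsg.Agent.OddCyclic.T1Sl2.up
local notation "td" => Cfsg.Agent.OddCyclic.T1Sl2.dg

/-- elements of a cyclic group of prime power order are powers of each other -/
theorem mem_or_mem {C : Type*} [Group C] [Finite C] [IsCyclic C] {p : ℕ} [Fact p.Prime]
    (hp : IsPGroup p C) (x y : C) : x ∈ zpowers y ∨ y ∈ zpowers x := by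
  obtain ⟨a, ha⟩ := (IsPGroup.iff_orderOf.mp hp) x
  obtain ⟨b, hb⟩ := (IsPGroup.iff_orderOf.mp hp) y
  have key : ∀ {x y : C} {a b : ℕ}, orderOf x = p ^ a → orderOf y = p ^ b → a ≤ b →
      x ∈ zpowers y := by
    intro x y a b ha hb hab
    have h1 : orderOf (y ^ p ^ (b - a)) = orderOf x := by
      rw [orderOf_pow, hb, ha]
      have h2 : Nat.gcd (p ^ b) (p ^ (b - a)) = p ^ (b - a) :=
        Nat.gcd_eq_right (pow_dvd_pow p (Nat.sub_le b a))
      rw [h2, Nat.pow_div (Nat.sub_le b a) (Fact.out : p.Prime).pos]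
      congr 1
      omega
    have h2 := zpowers_eq_of_cyclic h1
    have h3 : x ∈ zpowers (y ^ p ^ (b - a)) := by rw [h2]; exact mem_zpowers x
    exact (zpowers_le.mpr (pow_mem (mem_zpowers y) _)) h3
  rcases le_total a b with h | h
  · exact Or.inl (key ha hb h)
  · exact Or.inr (key hb ha h)

variable {F : Type*} [Field F] [Finite F] [CharP F 2]

local notation "SL2" => Matrix.SpecialLinearGroup (Fin 2) F

/-- a fixed point of an outer automorphism of `SL(2,8)` has order at most 3 -/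
theorem orderOf_of_fixed (h8 : Nat.card F = 8) {α : MulAut SL2} (ht : typ α ≠ 1)
    (ht3 : typ α ^ 3 ^ 1 = 1) {g : SL2} (hg : α g = g) : g ^ 2 = 1 ∨ g ^ 3 = 1 := by
  have := Fintype.ofFinite F
  obtain ⟨K₀, c, hK, hc, hc0⟩ := Cfsg.Agent.Lib.PSL2Inv.exists_fixed_field (typ α) Nat.prime_three ht3
  have hc1 : c ≠ 0 := fun h => ht (hc0 h)
  have h2 : Nat.card K₀ = 2 := by
    have h1 : (3 : ℕ) ^ 1 ≤ 3 ^ c := Nat.pow_le_pow_right (by norm_num) (Nat.pos_iff_ne_zero.mpr hc1)
    have hpos : 1 < Nat.card K₀ := Finite.one_lt_card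
    have h3 : Nat.card K₀ ^ 3 ≤ 8 := by
      rw [← h8, hc]
      exact Nat.pow_le_pow_right (by omega) (by omega)
    by_contra h4
    have h5 : 3 ≤ Nat.card K₀ := by omega
    have h6 : 3 ^ 3 ≤ Nat.card K₀ ^ 3 := Nat.pow_le_pow_left h5 3
    omega
  have h3 : tr g ∈ K₀ := (hK _).mpr (by rw [← tr_apply, hg])
  have h4 : tr g = 0 ∨ tr g = 1 := by
    by_contra hcon
    push Not at hcon
    have hinj : Function.Injective (fun i : Fin 3 =>
        ((![⟨0, K₀.zero_mem⟩, ⟨1, K₀.one_mem⟩, ⟨tr g, h3⟩] : Fin 3 → K₀) i)) := by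
      intro i j hij
      fin_cases i <;> fin_cases j <;> simp [Subtype.ext_iff] at hij ⊢ <;>
        first
        | exact absurd hij.symm hcon.1
        | exact absurd hij hcon.1
        | exact absurd hij.symm hcon.2
        | exact absurd hij hcon.2
    have h5 := Nat.card_le_card_of_injective _ hinj
    rw [Nat.card_fin, h2] at h5
    omega
  rcases h4 with h4 | h4
  · left
    have h5 := cayley g
    rw [h4, zero_smul, zero_sub, CharTwo.neg_eq] at h5
    rw [pow_two]
    exact Subtype.ext h5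
  · right
    have h5 : orderOf g = 3 := T1Sl2.order_three h4
    rw [← h5]
    exact pow_orderOf_eq_one g

variable {G : Type*} [Group G] [Finite G] {K : Subgroup G}

theorem le_sup_of_equiv (hG : OddCyc G) (h8 : Nat.card F = 8)
    (e : K ≃* Matrix.SpecialLinearGroup (Fin 2) F) :
    normalizer (K : Set G) ≤ K ⊔ centralizer (K : Set G) := by
  have := Fintype.ofFinite F
  have h3f : Fact (Nat.Prime 3) := ⟨Nat.prime_three⟩
  have h2f : Fact (Nat.Prime 2) := ⟨Nat.prime_two⟩
  intro x hx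
  rw [← typ_eq_one_iff' e ⟨x, hx⟩]
  obtain ⟨X, hX⟩ : ∃ X : normalizer (K : Set G), X = ⟨x, hx⟩ := ⟨_, rfl⟩
  rw [← hX]
  by_contra hne
  have hcard : Nat.card (F ≃+* F) = 3 := by
    refine Lib.FieldAutCard.card_ringAut (p := 2) (by norm_num) ?_
    rw [← Nat.card_eq_fintype_card, h8]; norm_num
  -- a 3-element
  obtain ⟨a, m, hm, ham⟩ := Nat.exists_eq_pow_mul_and_not_dvd (orderOf_pos X).ne' 3 (by norm_num)
  obtain ⟨Y, hY⟩ : ∃ Y, Y = X ^ m := ⟨_, rfl⟩
  have hYt : typ (act e Y) ≠ 1 := by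
    intro h
    rw [hY, map_pow, map_pow] at h
    have h1 : orderOf (typ (act e X)) ∣ m := orderOf_dvd_of_pow_eq_one h
    have h2 : orderOf (typ (act e X)) ∣ 3 := by
      rw [← hcard]; exact orderOf_dvd_natCard _
    rcases (Nat.dvd_prime Nat.prime_three).mp h2 with h4 | h4
    · exact hne (orderOf_eq_one_iff.mp h4)
    · rw [h4] at h1
      exact hm h1
  have hYp : Y ^ 3 ^ a = 1 := by
    rw [hY, ← pow_mul, mul_comm, ← ham, pow_orderOf_eq_one]
  have hYP : IsPGroup 3 (zpowers Y) := by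
    obtain ⟨b, -, hb⟩ := (Nat.dvd_prime_pow Nat.prime_three).mp (orderOf_dvd_of_pow_eq_one hYp)
    exact IsPGroup.of_card (n := b) (by rw [Nat.card_zpowers, hb])
  -- an element of order 9 of `K`
  obtain ⟨k, hk⟩ : ∃ k : K, orderOf k = 9 := by
    obtain ⟨P⟩ : Nonempty (Sylow 3 K) := inferInstance
    have hcyc : IsCyclic P := oddCyc_subgroup hG K 3 P Nat.prime_three (by norm_num)
    have hPc : Nat.card P = 9 := by
      rw [P.card_eq_multiplicity, CaseAField.card e, h8]
      have : (8 * (8 ^ 2 - 1) : ℕ) = 3 ^ 2 * 56 := by norm_num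
      rw [this, Nat.factorization_mul (by norm_num) (by norm_num), Nat.Prime.factorization_pow
        Nat.prime_three]
      have h56 : Nat.factorization 56 3 = 0 := Nat.factorization_eq_zero_of_not_dvd (by norm_num)
      simp [h56]
    obtain ⟨g, hg⟩ := hcyc.exists_generator
    refine ⟨g.1, ?_⟩
    rw [Subgroup.orderOf_coe, orderOf_eq_card_of_forall_mem_zpowers hg, hPc]
  obtain ⟨k', hk'⟩ : ∃ k' : normalizer (K : Set G), k' = ⟨k.1, le_normalizer k.2⟩ := ⟨_, rfl⟩
  have hk9 : orderOf k' = 9 := by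
    rw [hk', Subgroup.orderOf_mk, Subgroup.orderOf_coe, hk]
  have hkP : IsPGroup 3 (zpowers k') :=
    IsPGroup.of_card (n := 2) (by rw [Nat.card_zpowers, hk9]; norm_num)
  obtain ⟨P, hP⟩ := hYP.exists_le_sylow
  obtain ⟨Q, hQ⟩ := hkP.exists_le_sylow
  obtain ⟨g, hg⟩ := MulAction.exists_smul_eq (normalizer (K : Set G)) Q P
  obtain ⟨z, hz⟩ : ∃ z, z = g * k' * g⁻¹ := ⟨_, rfl⟩
  have hzP : z ∈ P := by
    have h1 : k' ∈ Q := hQ (mem_zpowers k')
    have h2 : P = g • Q := hg.symm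
    rw [h2, hz]
    change g * k' * g⁻¹ ∈ ((g • Q : Sylow 3 (normalizer (K : Set G))) : Subgroup _)
    rw [Sylow.coe_subgroup_smul]
    exact Subgroup.smul_mem_pointwise_smul k' (MulAut.conj g) (Q : Subgroup _) h1
  have hYP' : Y ∈ P := hP (mem_zpowers Y)
  have hz9 : orderOf z = 9 := by
    rw [hz, ← hk9]
    exact orderOf_injective (MulAut.conj g).toMonoidHom (MulAut.conj g).injective k'
  have hzK : (z : G) ∈ K := by
    have h1 := (mem_normalizer_iff.mp g.2 k.1).mp k.2
    rw [hz, hk']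
    exact h1
  have hcyc : IsCyclic P :=
    oddCyc_subgroup hG (normalizer (K : Set G)) 3 P Nat.prime_three (by norm_num)
  rcases mem_or_mem P.isPGroup' ⟨Y, hYP'⟩ ⟨z, hzP⟩ with h1 | h1
  · -- `Y` is a power of `z`
    obtain ⟨n, hn⟩ := Subgroup.mem_zpowers_iff.mp h1
    have h2 : Y = z ^ n := (congrArg Subtype.val hn).symm
    apply hYt
    rw [typ_eq_one_iff', h2]
    exact mem_sup_left (K.zpow_mem hzK n)
  · obtain ⟨n, hn⟩ := Subgroup.mem_zpowers_iff.mp h1
    have h2 : z = Y ^ n := (congrArg Subtype.val hn).symm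
    have h3 : act e Y (e ⟨z, hzK⟩) = e ⟨z, hzK⟩ := by
      rw [act_apply]
      refine congrArg e (Subtype.ext ?_)
      change (Y : G) * z * (Y : G)⁻¹ = z
      have h4 : Y * z * Y⁻¹ = z := by rw [h2]; group
      exact congrArg Subtype.val h4
    have h5 : typ (act e Y) ^ 3 ^ 1 = 1 := by
      rw [pow_one, ← hcard]
      exact pow_card_eq_one'
    have h6 : orderOf (e ⟨z, hzK⟩) = 9 := by
      rw [MulEquiv.orderOf_eq, Subgroup.orderOf_mk, Subgroup.orderOf_coe, hz9]
    rcases orderOf_of_fixed h8 hYt h5 h3 with h7 | h7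
    · have h8 := orderOf_dvd_of_pow_eq_one h7
      rw [h6] at h8
      norm_num at h8
    · have h8 := orderOf_dvd_of_pow_eq_one h7
      rw [h6] at h8
      norm_num at h8

end Cfsg.Agent.OddCyclic.CaseAEight

namespace Cfsg.Agent.OddCyclic.CaseAEight

open Subgroup Cfsg.Agent.OddCyclic.T1Defs Cfsg.Agent.OddCyclic.CaseAFacts

/-- in class C, `K ≅ PSL(2,8)` implies `N(K) = K C(K)`. -/
theorem le_sup {G : Type*} [Group G] [Finite G] {K : Subgroup G} (hG : OddCyc G)
    {F : Type*} [Field F] [Fintype F] (hF : Fintype.card F = 8)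
    (e : K ≃* Matrix.ProjectiveSpecialLinearGroup (Fin 2) F) :
    normalizer (K : Set G) ≤ K ⊔ centralizer (K : Set G) := by
  have := charP_of_card (f := 3) (by rw [hF]; norm_num)
  exact le_sup_of_equiv hG (by rw [Nat.card_eq_fintype_card, hF]) (e.trans slEquiv.symm)

end Cfsg.Agent.OddCyclic.CaseAEight
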