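import Cfsg.Agent.OddCyclic.FFOuterPerm
import Cfsg.Agent.OddCyclic.L2Abs

/-!
# Best offenders on `SL₂(q)` extended by an outer automorphism

`L ≅ SL₂(q)`, `q ≥ 4` even, `A` a best offender not contained in `L`: then `q = 4`, `L A ≅ S₅`, and `V/C_V(L)` is the
natural `O₄⁻(2)`-module.
-/

set_option autoImplicit false
set_option linter.unusedSectionVars false

namespace Cfsg.Agent.OddCyclic.FFOuter

open Matrix Cfsg.Agent.OddCyclic.T1Module Cfsg.Agent.OddCyclic.T1Sl2 Cfsg.Agent.OddCyclic.FFBasic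
  Cfsg.Agent.OddCyclic.FFRed Cfsg.Agent.OddCyclic.FFSl2 Cfsg.Agent.Lib.AutSL2 Cfsg.Agent.Lib.AutSL2Out
  Cfsg.Agent.Classification.QDW.TypeHom
open Cfsg.Agent.Lib.SL2Mat (fieldAut)

section act

variable {H : Type*} [Group H] {L : Subgroup H} [L.Normal] {F : Type*} [Field F]

/-- the action of `H` on `L ≅ SL₂(q)` -/
noncomputable def ac (e : SpecialLinearGroup (Fin 2) F ≃* L) : H →* MulAut (SpecialLinearGroup (Fin 2) F) :=
  (MulAut.congr e.symm).toMonoidHom.comp MulAut.conjNormal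

theorem e_ac (e : SpecialLinearGroup (Fin 2) F ≃* L) (x : H) (s : SpecialLinearGroup (Fin 2) F) :
    ((e (ac e x s) : L) : H) = x * e s * x⁻¹ := by
  have h : e (ac e x s) = MulAut.conjNormal x (e s) := by
    change e (e.symm (MulAut.conjNormal x (e.symm.symm s))) = _
    rw [e.apply_symm_apply]; rfl
  rw [h, MulAut.conjNormal_apply]

theorem ac_coe (e : SpecialLinearGroup (Fin 2) F ≃* L) (s : SpecialLinearGroup (Fin 2) F) :
    ac e (e s : H) = MulAut.conj s := by
  ext1 x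
  apply e.injective
  apply Subtype.ext
  rw [e_ac, MulAut.conj_apply, map_mul, map_mul, map_inv]; rfl

theorem ac_eq_iff (e : SpecialLinearGroup (Fin 2) F ≃* L) (x y : H) :
    ac e x = ac e y ↔ ∀ l ∈ L, x * l * x⁻¹ = y * l * y⁻¹ := by
  constructor
  · intro h l hl
    obtain ⟨s, hs⟩ := e.surjective ⟨l, hl⟩
    have h1 := e_ac e x s
    have h2 := e_ac e y s
    rw [hs] at h1 h2
    rw [h] at h1
    exact h1.symm.trans h2
  · intro h
    ext1 s
    apply e.injective
    apply Subtype.ext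
    rw [e_ac, e_ac]
    exact h _ (e s).2

end act

section aut

variable {F : Type*} [Field F] [Fintype F] [CharP F 2]

/-- automorphisms act on the set of the Sylow 2-subgroups -/
theorem aut_smul (β : MulAut (SpecialLinearGroup (Fin 2) F)) (g : SpecialLinearGroup (Fin 2) F)
    (U : Sylow 2 (SpecialLinearGroup (Fin 2) F)) : β • g • U = β g • β • U := by
  change β • (MulAut.conj g • U) = MulAut.conj (β g) • β • U
  rw [smul_smul, smul_smul]
  congr 1
  ext1 x
  simp only [MulAut.mul_apply, MulAut.conj_apply, map_mul, map_inv]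

theorem fieldAut_up' (σ : F ≃+* F) (t : F) : fieldAut σ (up t) = up (σ t) := Cfsg.Agent.Lib.SL2Mat.fieldAut_up σ t

theorem fieldAut_apply (σ : F ≃+* F) (x : SpecialLinearGroup (Fin 2) F) (i j : Fin 2) :
    fieldAut σ x i j = σ (x i j) := Cfsg.Agent.Lib.SL2Mat.fieldAut_ent σ x i j

theorem fieldAut_ww (σ : F ≃+* F) : fieldAut σ (ww F) = ww F := by
  apply ext2 <;> rw [fieldAut_apply] <;> simp

theorem fieldAut_SU (σ : F ≃+* F) : fieldAut σ • SU F = SU F := by
  apply Sylow.ext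
  apply Subgroup.ext
  intro x
  have h : x ∈ ((fieldAut σ • SU F : Sylow 2 (SpecialLinearGroup (Fin 2) F)) : Subgroup _) ↔
      (fieldAut σ)⁻¹ • x ∈ SU F := by
    rw [Sylow.pointwise_smul_def, Subgroup.mem_pointwise_smul_iff_inv_smul_mem]; rfl
  rw [h]
  change (fieldAut σ)⁻¹ • x ∈ SU F ↔ x ∈ SU F
  rw [MulAut.smul_def, mem_SU, mem_SU]
  set y := (fieldAut σ)⁻¹ x with hy
  have h1 : x = fieldAut σ y := by
    rw [hy, ← MulAut.mul_apply, mul_inv_cancel]; rfl
  rw [h1, fieldAut_apply, fieldAut_apply]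
  constructor
  · rintro ⟨h2, h3⟩
    rw [h2, h3, map_one, map_zero]; exact ⟨rfl, rfl⟩
  · rintro ⟨h2, h3⟩
    exact ⟨σ.injective (by rw [h2, map_one]), σ.injective (by rw [h3, map_zero])⟩

theorem syl_surjective : Function.Surjective (syl F) := by
  intro U
  obtain ⟨g, hg⟩ := MulAction.exists_smul_eq (SpecialLinearGroup (Fin 2) F) (SU F) U
  by_cases hc : g 1 0 = 0
  · exact ⟨none, by rw [← hg]; exact (smul_SU_eq.2 hc).symm⟩
  · refine ⟨some (g 0 0 / g 1 0), ?_⟩
    change up _ • ww F • SU F = U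
    rw [← hg, smul_smul, smul_SU_eq_iff, mul00, mul10]
    simp only [up00, up01, up10, up11, ww00, ww10, mul_zero, mul_one, zero_add]
    field_simp

theorem card_syl : Nat.card (Sylow 2 (SpecialLinearGroup (Fin 2) F)) = Fintype.card F + 1 := by
  rw [← Nat.card_congr (Equiv.ofBijective _ ⟨syl_injective (F := F), syl_surjective (F := F)⟩), Nat.card_eq_fintype_card,
    Fintype.card_option]

theorem fieldAut_syl (σ : F ≃+* F) (t : F) : fieldAut σ • syl F (some t) = syl F (some (σ t)) := by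
  change fieldAut σ • up t • ww F • SU F = up (σ t) • ww F • SU F
  rw [aut_smul, aut_smul, fieldAut_up', fieldAut_ww, fieldAut_SU]

/-- an automorphism fixing all the Sylow 2-subgroups is trivial -/
theorem eq_one_of_syl (β : MulAut (SpecialLinearGroup (Fin 2) F))
    (h : ∀ U : Sylow 2 (SpecialLinearGroup (Fin 2) F), β • U = U) : β = 1 := by
  obtain ⟨s, hs⟩ := L2Model.exists_form β
  set σ := typ β with hσ
  have h1 : s • SU F = SU F := by
    have := h (SU F)
    rw [hs, mul_smul, fieldAut_SU] at this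
    exact this
  have h2 : ∀ t, s • syl F (some (σ t)) = syl F (some t) := by
    intro t
    have := h (syl F (some t))
    rw [hs, mul_smul, fieldAut_syl] at this
    exact this
  have h3 : s • ww F • SU F = ww F • SU F := by
    have := h2 0
    rw [map_zero] at this
    change s • up 0 • ww F • SU F = up 0 • ww F • SU F at this
    rwa [up_zero, one_smul] at this
  have h4 : s • up (1 : F) • ww F • SU F = up (1 : F) • ww F • SU F := by
    have := h2 1
    rw [map_one] at this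
    exact this
  have h5 : s 1 0 = 0 := smul_SU_eq.1 h1
  have h6 : s 0 1 = 0 := by
    rw [smul_smul, smul_SU_eq_iff, mul00, mul10] at h3
    simpa using h3
  have h7 : s 0 0 = s 1 1 := by
    rw [smul_smul, smul_smul, smul_smul, smul_SU_eq_iff] at h4
    simp only [mul00, mul10, mul01, mul11, up00, up01, up10, up11, ww00, ww10, h5, h6] at h4
    linear_combination h4
  have h8 : s = 1 := by
    have hd := T1Sl2.det s
    rw [h5, h6, h7] at hd
    have h9 : s 1 1 = 1 := L2Model.eq_of_sq (by linear_combination hd)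
    apply ext2
    · rw [h7, h9, one00]
    · rw [h6, one01]
    · rw [h5, one10]
    · rw [h9, one11]
  have h10 : σ = 1 := by
    ext t
    have := h2 t
    rw [h8, one_smul] at this
    exact Option.some_injective _ (syl_injective this)
  rw [hs, h8, h10, map_one, map_one, one_mul]

end aut

variable {H : Type*} [Group H] [Finite H] {V : Type*} [CommGroup V] [Finite V] {ρ : H →* MulAut V}
  {L A : Subgroup H} [L.Normal] {F : Type*} [Field F] [Fintype F] [CharP F 2]

/-- the module for `SL₂(q)` -/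
def rr (ρ : H →* MulAut V) (e : SpecialLinearGroup (Fin 2) F ≃* L) : SpecialLinearGroup (Fin 2) F →* MulAut V :=
  ρ.comp (L.subtype.comp e.toMonoidHom)

theorem fx_rr (e : SpecialLinearGroup (Fin 2) F ≃* L) (s : SpecialLinearGroup (Fin 2) F) :
    fx (rr ρ e) s = fx ρ (e s : H) := rfl

theorem rr_ne (h4 : 4 ≤ Fintype.card F) (e : SpecialLinearGroup (Fin 2) F ≃* L) (h : Fr ρ L A) :
    ∃ g v, rr ρ e g v ≠ v := by
  have hs := isSimpleGroup_sl2 h4
  obtain ⟨g, hg⟩ := exists_ne (1 : SpecialLinearGroup (Fin 2) F)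
  obtain ⟨v, hv⟩ := h.faithL (e g) (e g).2 (fun h => hg (by
    have : e g = 1 := Subtype.ext h
    rwa [map_eq_one_iff e e.injective] at this))
  exact ⟨g, v, hv⟩

/-- elements of `A ∖ L` induce outer automorphisms -/
theorem typ_ne (e : SpecialLinearGroup (Fin 2) F ≃* L) (h : Fr ρ L A) {a : H} (ha : a ∈ A) (haL : a ∉ L) :
    typ (ac e a) ≠ 1 := by
  intro h1
  obtain ⟨s, hs⟩ := (L2Model.inner_iff _).1 h1
  apply haL
  refine h.inn a ha (e s) (e s).2 ?_
  rw [← ac_coe e s] at hs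
  exact (ac_eq_iff e _ _).1 hs

theorem ac_sq (e : SpecialLinearGroup (Fin 2) F ≃* L) (h : Fr ρ L A) {a : H} (ha : a ∈ A) :
    ac e a * ac e a = 1 := by rw [← map_mul, h.bo.sq a ha, map_one]

theorem mul_mem_L (e : SpecialLinearGroup (Fin 2) F ≃* L) (h : Fr ρ L A) {a b : H} (ha : a ∈ A) (haL : a ∉ L)
    (hb : b ∈ A) (hbL : b ∉ L) : a * b ∈ L := by
  by_contra hab
  have h1 := typ_ne e h ha haL
  have h2 := typ_ne e h hb hbL
  have h3 := typ_ne e h (mul_mem ha hb) hab
  apply h3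
  have h4 : typ (ac e a) = typ (ac e b) := by
    refine L2Borel.ringAut_invol ?_ ?_ h1 h2
    · rw [← map_mul, ac_sq e h ha, map_one]
    · rw [← map_mul, ac_sq e h hb, map_one]
  rw [map_mul, map_mul, ← h4, ← map_mul, ac_sq e h ha, map_one]

theorem relIndex_A (e : SpecialLinearGroup (Fin 2) F ≃* L) (h : Fr ρ L A) (hAL : ¬ A ≤ L) : L.relIndex A = 2 := by
  obtain ⟨a, ha, haL⟩ := SetLike.not_le_iff_exists.1 hAL
  rw [Subgroup.relIndex, Subgroup.index_eq_two_iff]
  refine ⟨⟨a, ha⟩, fun b => ?_⟩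
  rw [Subgroup.mem_subgroupOf, Subgroup.mem_subgroupOf]
  show Xor ((b : H) * a ∈ L) ((b : H) ∈ L)
  by_cases hb : (b : H) ∈ L
  · refine Or.inr ⟨hb, fun h1 => haL ?_⟩
    have := mul_mem (inv_mem hb) h1
    rwa [inv_mul_cancel_left] at this
  · exact Or.inl ⟨mul_mem_L e h b.2 hb ha haL, hb⟩

theorem card_inf (e : SpecialLinearGroup (Fin 2) F ≃* L) (h : Fr ρ L A) (hAL : ¬ A ≤ L) :
    2 * Nat.card (A ⊓ L : Subgroup H) = Nat.card A := by
  have h1 := card_mul_relIndex (A := A ⊓ L) (B := A) inf_le_left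
  rw [Subgroup.inf_relIndex_left, relIndex_A e h hAL] at h1
  rw [← h1, mul_comm]

theorem card_inf_dvd (e : SpecialLinearGroup (Fin 2) F ≃* L) (h : Fr ρ L A) (hAL : ¬ A ≤ L) :
    ∃ q : ℕ, Fintype.card F = q ^ 2 ∧ Nat.card (A ⊓ L : Subgroup H) ≤ q := by
  obtain ⟨a, ha, haL⟩ := SetLike.not_le_iff_exists.1 hAL
  obtain ⟨q, hq, hc⟩ := L2Model.card_fix (ac_sq e h ha) (typ_ne e h ha haL)
  have hcF : Nat.card F = Fintype.card F := Nat.card_eq_fintype_card
  rw [hcF] at hq hc
  refine ⟨q, hq, ?_⟩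
  have hq0 : 0 < q := by
    rcases Nat.eq_zero_or_pos q with h0 | h0
    · rw [h0] at hq
      have := Fintype.card_pos (α := F)
      omega
    · exact h0
  -- the fixed points contain `A ∩ L`
  have h1 : Nat.card (A ⊓ L : Subgroup H) ∣ Nat.card (L2Model.fix (ac e a)) := by
    let f : (A ⊓ L : Subgroup H) →* L2Model.fix (ac e a) :=
      { toFun := fun x => ⟨e.symm ⟨x, x.2.2⟩, by
          rw [L2Model.mem_fix]
          apply e.injective
          apply Subtype.ext
          rw [e_ac, e.apply_symm_apply]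
          show a * (x : H) * a⁻¹ = x
          rw [h.bo.comm ha x.2.1, mul_inv_cancel_right]⟩
        map_one' := Subtype.ext (map_one e.symm)
        map_mul' := fun x y => Subtype.ext (by
          show e.symm _ = e.symm _ * e.symm _
          rw [← map_mul]; rfl) }
    have hf : Function.Injective f := by
      intro x y hxy
      have h2 := congrArg Subtype.val hxy
      have h3 := e.symm.injective h2
      exact Subtype.ext (congrArg (fun z : L => (z : H)) h3)
    rw [Nat.card_congr (MonoidHom.ofInjective hf).toEquiv]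
    exact f.range.card_subgroup_dvd_card
  have hp : IsPGroup 2 (A ⊓ L : Subgroup H) := fun a => ⟨1, by
    rw [pow_one, pow_two]; exact Subtype.ext (h.bo.sq a a.2.1)⟩
  have : Fact (Nat.Prime 2) := ⟨Nat.prime_two⟩
  obtain ⟨m, hm⟩ := (IsPGroup.iff_card (p := 2)).1 hp
  rw [hm, hc] at h1
  rw [hm]
  apply Nat.le_of_dvd hq0
  refine Nat.Coprime.dvd_of_dvd_mul_right ?_ h1
  obtain ⟨n, hn, hF⟩ := card_pow F
  rw [hF]
  apply Nat.Coprime.pow_left
  rw [Nat.coprime_two_left]
  have h5 : Even (2 ^ n) := (Nat.even_pow' hn.ne').2 even_two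
  have h6 : 0 < 2 ^ n := by positivity
  rcases h5 with ⟨r, hr⟩
  exact ⟨r - 1, by omega⟩

theorem index_ge (h4 : 4 ≤ Fintype.card F) (e : SpecialLinearGroup (Fin 2) F ≃* L) (h : Fr ρ L A)
    (hV : ∀ v : V, v * v = 1) {x : H} (hx : x ∈ L) (hxx : x * x = 1) (hx1 : x ≠ 1) :
    Fintype.card F ≤ (fx ρ x).index := by
  have h1 := sl2_index h4 hV (rr ρ e) (rr_ne h4 e h) (a := e.symm ⟨x, hx⟩)
    (by rw [← map_mul, ← map_one e.symm]; congr 1; exact Subtype.ext hxx)
    (fun h => hx1 (by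
      have := congrArg e h
      rw [e.apply_symm_apply, map_one] at this
      exact congrArg Subtype.val this))
  rwa [fx_rr, e.apply_symm_apply] at h1

theorem card_eq (h4 : 4 ≤ Fintype.card F) (e : SpecialLinearGroup (Fin 2) F ≃* L) (h : Fr ρ L A)
    (hV : ∀ v : V, v * v = 1) (hAL : ¬ A ≤ L) : Fintype.card F = 4 := by
  have h1 := card_inf e h hAL
  have h2 := h.bo.index_le
  by_cases hu : ∃ u ∈ A ⊓ L, u ≠ 1
  · obtain ⟨u, hu, hu1⟩ := hu
    obtain ⟨q, hq, hq2⟩ := card_inf_dvd e h hAL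
    have h3 := index_ge h4 e h hV hu.2 (h.bo.sq u hu.1) hu1
    have h5 := index_le_of_le (CS_le_fx (ρ := ρ) hu.1)
    have h6 : q * q ≤ 2 * q := by
      calc q * q = Fintype.card F := by rw [hq, sq]
        _ ≤ Nat.card A := h3.trans (h5.trans h2)
        _ ≤ 2 * q := by omega
    have h7 : q ≤ 2 := by
      rcases Nat.eq_zero_or_pos q with h0 | h0
      · omega
      · exact Nat.le_of_mul_le_mul_right h6 h0
    have h8 : q * q ≤ 4 := by nlinarith
    rw [← sq, ← hq] at h8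
    omega
  · push Not at hu
    have hbot : A ⊓ L = ⊥ := by
      rw [Subgroup.eq_bot_iff_forall]
      exact hu
    rw [hbot, Subgroup.card_bot] at h1
    obtain ⟨a, ha, haL⟩ := SetLike.not_le_iff_exists.1 hAL
    have h3 := index_le_of_le (CS_le_fx (ρ := ρ) ha)
    have h5 : (fx ρ a).index ≤ 2 := by omega
    -- an involution which is a commutator with `a`
    obtain ⟨s, hs⟩ := L2Model.exists_std (ac_sq e h ha) (typ_ne e h ha haL)
    set σ := typ (ac e a) with hσ
    obtain ⟨t, ht⟩ : ∃ t, σ t ≠ t := by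
      by_contra hcon
      push Not at hcon
      exact typ_ne e h ha haL (RingEquiv.ext hcon)
    set x := s * up t * s⁻¹ with hx
    have h6 : ac e a x = s * up (σ t) * s⁻¹ := by
      rw [hs, hx, MulAut.mul_apply, MulAut.mul_apply, ← map_inv, MulAut.conj_apply, MulAut.conj_apply, inv_inv,
        ← fieldAut_up']
      congr 2
      congr 1
      group
    have h7 : ac e a x * x⁻¹ = s * up (σ t + t) * s⁻¹ := by
      have h8 : (up t : SpecialLinearGroup (Fin 2) F)⁻¹ = up t := by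
        rw [inv_eq_iff_mul_eq_one, up_mul, CharTwo.add_self_eq_zero, up_zero]
      calc ac e a x * x⁻¹ = s * (up (σ t) * (up t)⁻¹) * s⁻¹ := by rw [h6, hx]; group
        _ = _ := by rw [h8, up_mul]
    set y := ac e a x * x⁻¹ with hy
    have hyy : y * y = 1 := by
      rw [h7]
      have : s * up (σ t + t) * s⁻¹ * (s * up (σ t + t) * s⁻¹) = s * (up (σ t + t) * up (σ t + t)) * s⁻¹ := by group
      rw [this, up_mul, CharTwo.add_self_eq_zero, up_zero]; group
    have hy1 : y ≠ 1 := by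
      intro h8
      rw [h7] at h8
      have h9 : up (σ t + t) = (1 : SpecialLinearGroup (Fin 2) F) := by
        have : up (σ t + t) = s⁻¹ * (s * up (σ t + t) * s⁻¹) * s := by group
        rw [this, h8]; group
      have h10 : (up (σ t + t) : SpecialLinearGroup (Fin 2) F) 0 1 = 0 := by rw [h9, one01]
      rw [up01] at h10
      exact ht (CharTwo.add_eq_zero.mp h10)
    have h8 := sl2_index h4 hV (rr ρ e) (rr_ne h4 e h) hyy hy1
    rw [fx_rr] at h8
    have h9 : (e y : H) = a * (e x * a⁻¹ * (e x : H)⁻¹) := by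
      rw [hy, map_mul, map_inv]
      change ((e (ac e a x) : L) : H) * _ = _
      rw [e_ac]
      change a * e x * a⁻¹ * (e x : H)⁻¹ = _
      group
    have h10 : fx ρ a ⊓ fx ρ (e x * a⁻¹ * (e x : H)⁻¹) ≤ fx ρ (e y : H) := by
      rintro v ⟨hv1, hv2⟩
      rw [h9]
      exact fx_mul ρ hv1 hv2
    have h11 := index_le_of_le h10
    have h12 : (fx ρ a ⊓ fx ρ (e x * a⁻¹ * (e x : H)⁻¹)).index ≤
        (fx ρ a).index * (fx ρ (e x * a⁻¹ * (e x : H)⁻¹)).index := Subgroup.index_inf_le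
    have haa : a⁻¹ = a := inv_eq_of_mul_eq_one_left (h.bo.sq a ha)
    rw [index_fx_conj, haa] at h12
    have h13 : (fx ρ a).index * (fx ρ a).index ≤ 4 := by nlinarith
    rw [haa] at h11
    omega

/-! ### the isomorphism with `S₅` -/

/-- the action of `L A` on the Sylow 2-subgroups of `L` -/
noncomputable def pm (e : SpecialLinearGroup (Fin 2) F ≃* L) (X : Subgroup H) :
    X →* Equiv.Perm (Sylow 2 (SpecialLinearGroup (Fin 2) F)) :=
  (MulAction.toPermHom (MulAut (SpecialLinearGroup (Fin 2) F)) _).comp ((ac e).comp X.subtype)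

theorem pm_injective (e : SpecialLinearGroup (Fin 2) F ≃* L) (h : Fr ρ L A) :
    Function.Injective (pm e (L ⊔ A)) := by
  rw [injective_iff_map_eq_one]
  rintro ⟨x, hx⟩ h1
  have h2 : ac e x = 1 := by
    apply eq_one_of_syl
    intro U
    exact DFunLike.congr_fun h1 U
  have h3 : ∀ l ∈ L, x * l * x⁻¹ = l := by
    rw [← map_one (ac e)] at h2
    intro l hl
    have := (ac_eq_iff e x 1).1 h2 l hl
    rw [this]; group
  apply Subtype.ext
  change x = 1
  have hxL : x ∈ L := by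
    rw [← SetLike.mem_coe, Subgroup.normal_mul] at hx
    obtain ⟨l, hl, a, ha, rfl⟩ := hx
    refine mul_mem hl ?_
    refine h.inn a ha l⁻¹ (inv_mem hl) ?_
    intro k hk
    have h5 := h3 k hk
    calc a * k * a⁻¹ = l⁻¹ * (l * a * k * (l * a)⁻¹) * l := by group
      _ = l⁻¹ * k * l⁻¹⁻¹ := by rw [h5, inv_inv]
  obtain ⟨s, hs⟩ := e.surjective ⟨x, hxL⟩
  have hs1 : s = 1 := by
    apply L2Model.eq_one_of_central
    intro y
    apply e.injective
    apply Subtype.ext
    rw [map_mul, map_mul, hs]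
    change x * (e y : H) = (e y : H) * x
    have := h3 (e y) (e y).2
    rwa [mul_inv_eq_iff_eq_mul] at this
  rw [hs1, map_one] at hs
  exact (congrArg Subtype.val hs).symm

theorem card_X (e : SpecialLinearGroup (Fin 2) F ≃* L) (h : Fr ρ L A) (hF : Fintype.card F = 4)
    (hAL : ¬ A ≤ L) : Nat.card (L ⊔ A : Subgroup H) = 120 := by
  have h1 := card_mul_relIndex (A := L) (B := L ⊔ A) le_sup_left
  rw [Subgroup.relIndex_sup_left, relIndex_A e h hAL, ← Nat.card_congr e.toEquiv, card_sl2, hF] at h1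
  rw [← h1]

theorem exists_iso (e : SpecialLinearGroup (Fin 2) F ≃* L) (h : Fr ρ L A)
    (hF : Fintype.card F = 4) (hAL : ¬ A ≤ L) : Nonempty ((L ⊔ A : Subgroup H) ≃* Equiv.Perm (Fin 5)) := by
  have h1 : Nat.card (Sylow 2 (SpecialLinearGroup (Fin 2) F)) = 5 := by rw [card_syl, hF]
  have hfin : Finite (Sylow 2 (SpecialLinearGroup (Fin 2) F)) := Nat.finite_of_card_ne_zero (by rw [h1]; norm_num)
  have h2 : Nat.card (Equiv.Perm (Sylow 2 (SpecialLinearGroup (Fin 2) F))) = 120 := by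
    rw [Nat.card_perm, h1]; rfl
  have h3 : Function.Bijective (pm e (L ⊔ A)) := by
    rw [Nat.bijective_iff_injective_and_card]
    exact ⟨pm_injective e h, by rw [h2, card_X e h hF hAL]⟩
  let f := MulEquiv.ofBijective _ h3
  have g : Sylow 2 (SpecialLinearGroup (Fin 2) F) ≃ Fin 5 := Finite.equivFinOfCardEq h1
  exact ⟨f.trans g.permCongrHom⟩

/-- the action of `S₅` -/
noncomputable def rP (ρ : H →* MulAut V) {X : Subgroup H} (φ : X ≃* Equiv.Perm (Fin 5)) :
    Equiv.Perm (Fin 5) →* MulAut V :=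
  ρ.comp (X.subtype.comp φ.symm.toMonoidHom)

theorem rP_apply {X : Subgroup H} (φ : X ≃* Equiv.Perm (Fin 5)) (x : X) : rP ρ φ (φ x) = ρ x := by
  change ρ ((φ.symm (φ x) : X) : H) = _
  rw [φ.symm_apply_apply]

theorem fx_rP {X : Subgroup H} (φ : X ≃* Equiv.Perm (Fin 5)) (x : X) : fx (rP ρ φ) (φ x) = fx ρ (x : H) := by
  ext v
  rw [mem_fx, mem_fx, rP_apply]

theorem CS_rP {X : Subgroup H} (φ : X ≃* Equiv.Perm (Fin 5)) {B : Subgroup H} (hB : B ≤ X) :
    CS (rP ρ φ) ((B.subgroupOf X).map φ.toMonoidHom) = CS ρ B := by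
  ext v
  rw [mem_CS, mem_CS]
  constructor
  · intro h b hb
    have := h (φ ⟨b, hB hb⟩) ⟨⟨b, hB hb⟩, hb, rfl⟩
    rwa [rP_apply] at this
  · rintro h _ ⟨b, hb, rfl⟩
    change rP ρ φ (φ b) v = v
    rw [rP_apply]
    exact h b hb

theorem card_rP {X : Subgroup H} (φ : X ≃* Equiv.Perm (Fin 5)) {B : Subgroup H} (hB : B ≤ X) :
    Nat.card ((B.subgroupOf X).map φ.toMonoidHom) = Nat.card B := by
  rw [Subgroup.card_map_of_injective φ.injective, ← Nat.card_congr (Subgroup.subgroupOfEquivOfLe hB).toEquiv.symm]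

/-- all the information: `L A ≅ S₅`, the transpositions are transvections -/
structure Mod5 (ρ : H →* MulAut V) (L A : Subgroup H) (φ : (L ⊔ A : Subgroup H) ≃* Equiv.Perm (Fin 5)) : Prop where
  alt : ∀ x : (L ⊔ A : Subgroup H), (x : H) ∈ L ↔ φ x ∈ alternatingGroup (Fin 5)
  swap : ∀ i j : Fin 5, i ≠ j → (fx (rP ρ φ) (Equiv.swap i j)).index = 2
  ev : ∃ ev, FFOuterPerm.Ev (rP ρ φ) ev
  /-- elements of `A ∖ L` are transpositions -/
  tr : ∀ x : (L ⊔ A : Subgroup H), (x : H) ∈ A → (x : H) ∉ L → ∃ i j, i ≠ j ∧ φ x = Equiv.swap i j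
  dt : ∀ x : (L ⊔ A : Subgroup H), (x : H) ∈ L → x ≠ 1 → x * x = 1 → FFOuterPerm.DT (φ x)

theorem exists_mod5 (h4 : 4 ≤ Fintype.card F) (e : SpecialLinearGroup (Fin 2) F ≃* L) (h : Fr ρ L A)
    (hV : ∀ v : V, v * v = 1) (hAL : ¬ A ≤ L) : ∃ φ, Mod5 ρ L A φ ∧ (CS ρ A).index = Nat.card A ∧ Nat.card A ≤ 4 := by
  have hF := card_eq h4 e h hV hAL
  obtain ⟨φ⟩ := exists_iso e h hF hAL
  have hLX : L ≤ L ⊔ A := le_sup_left
  have hAX : A ≤ L ⊔ A := le_sup_right
  have halt : (L.subgroupOf (L ⊔ A)).map φ.toMonoidHom = alternatingGroup (Fin 5) := by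
    apply Equiv.Perm.eq_alternatingGroup_of_index_eq_two
    have h1 := ((L.subgroupOf (L ⊔ A)).map φ.toMonoidHom).card_mul_index
    have h2 := card_mul_relIndex (A := L) (B := L ⊔ A) le_sup_left
    rw [card_rP φ hLX, Nat.card_congr φ.symm.toEquiv, ← h2, Subgroup.relIndex_sup_left, relIndex_A e h hAL] at h1
    exact Nat.eq_of_mul_eq_mul_left Nat.card_pos h1
  have hmem : ∀ x : (L ⊔ A : Subgroup H), (x : H) ∈ L ↔ φ x ∈ alternatingGroup (Fin 5) := by
    intro x
    rw [← halt, ← Subgroup.mem_subgroupOf (H := L) (K := L ⊔ A)]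
    exact (Subgroup.mem_map_iff_mem φ.injective).symm
  have hsur : ∀ g : Equiv.Perm (Fin 5), ∃ x, φ x = g := φ.surjective
  have hf : ∀ g ∈ alternatingGroup (Fin 5), g ≠ 1 → ∃ v, rP ρ φ g v ≠ v := by
    intro g hg hg1
    obtain ⟨x, rfl⟩ := hsur g
    rw [rP_apply]
    exact h.faithL x ((hmem x).2 hg) (fun h1 => hg1 (by rw [show x = 1 from Subtype.ext h1, map_one]))
  have hinv : ∀ g ∈ alternatingGroup (Fin 5), g ≠ 1 → g * g = 1 → 4 ≤ (fx (rP ρ φ) g).index := by
    intro g hg hg1 hgg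
    obtain ⟨x, rfl⟩ := hsur g
    rw [fx_rP, ← hF]
    refine index_ge h4 e h hV ((hmem x).2 hg) ?_ (fun h1 => hg1 (by rw [show x = 1 from Subtype.ext h1, map_one]))
    rw [← map_mul, map_eq_one_iff φ φ.injective] at hgg
    exact congrArg Subtype.val hgg
  have h16 : 16 ≤ (CS (rP ρ φ) (alternatingGroup (Fin 5))).index := by
    rw [← halt, CS_rP φ hLX]
    obtain ⟨a, ha, ha1⟩ := exists_ne_one (SU F)
    obtain ⟨y, -, -, hy⟩ := sl2_exists h4 hV (rr ρ e) (rr_ne h4 e h) (sylow_elem (SU F) a ha) ha1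
    rw [hF, fx_rr] at hy
    exact hy.trans (index_le_of_le (CS_le_fx (e y).2))
  have hcard4 : Nat.card A ≤ 4 := by
    obtain ⟨q, hq, hq2⟩ := card_inf_dvd e h hAL
    have h1 := card_inf e h hAL
    have : q ≤ 2 := by
      by_contra hcon
      push Not at hcon
      have : 3 * 3 ≤ q * q := Nat.mul_le_mul hcon hcon
      rw [← sq, ← sq, ← hq] at this
      omega
    omega
  obtain ⟨h2, hi⟩ := FFOuterPerm.index_two (ρ := rP ρ φ) hV hf hinv h16 (A := (A.subgroupOf (L ⊔ A)).map φ.toMonoidHom)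
    (by
      rintro _ ⟨a, ha, rfl⟩
      change φ a * φ a = 1
      rw [← map_mul, map_eq_one_iff φ φ.injective]
      exact Subtype.ext (h.bo.sq a ha))
    (by rw [CS_rP φ hAX, card_rP φ hAX]; exact h.bo.index_le)
    (by rw [card_rP φ hAX]; exact hcard4)
    (by
      rw [← halt, Subgroup.map_le_map_iff_of_injective φ.injective]
      intro h1
      apply hAL
      intro a ha
      exact h1 (x := ⟨a, hAX ha⟩) ha)
    (by
      rw [← halt, ← Subgroup.map_inf _ _ _ φ.injective]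
      have e1 : A.subgroupOf (L ⊔ A) ⊓ L.subgroupOf (L ⊔ A) = (A ⊓ L).subgroupOf (L ⊔ A) := by
        ext x; simp [Subgroup.mem_subgroupOf]
      rw [e1, card_rP φ (inf_le_left.trans hAX), card_rP φ hAX]
      exact card_inf e h hAL)
  rw [CS_rP φ hAX, card_rP φ hAX] at hi
  refine ⟨φ, ⟨hmem, h2, FFOuterPerm.exists_ev hV hf h2, ?_, ?_⟩, hi, hcard4⟩
  · intro x hx hxL
    apply FFOuterPerm.invol_odd
    · rw [← map_mul, map_eq_one_iff φ φ.injective]
      exact Subtype.ext (h.bo.sq x hx)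
    · rcases Int.units_eq_one_or (Equiv.Perm.sign (φ x)) with h1 | h1
      · exact absurd ((hmem x).2 (Equiv.Perm.mem_alternatingGroup.2 h1)) hxL
      · exact h1
  · intro x hxL hx1 hxx
    apply FFOuterPerm.invol_even
    · rw [← map_mul, hxx, map_one]
    · exact Equiv.Perm.mem_alternatingGroup.1 ((hmem x).1 hxL)
    · exact fun h1 => hx1 ((map_eq_one_iff φ φ.injective).1 h1)

/-- **the local theorem** -/
theorem main (h4 : 4 ≤ Fintype.card F) (e : SpecialLinearGroup (Fin 2) F ≃* L) (h : Fr ρ L A)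
    (hV : ∀ v : V, v * v = 1) (hAL : ¬ A ≤ L) :
    Fintype.card F = 4 ∧ (∀ a ∈ A, a ∉ L → (fx ρ a).index = 2) ∧
      (∀ a ∈ L, a ≠ 1 → a * a = 1 → (fx ρ a).index = 4) ∧ (CS ρ L).index = 16 ∧
      (∀ y ∈ L, orderOf y = 5 → fx ρ y = CS ρ L) ∧
      (Nat.card A ≤ 4 ∧ (CS ρ A).index = Nat.card A ∧ 2 * Nat.card (A ⊓ L : Subgroup H) = Nat.card A) ∧
      Nonempty ((L ⊔ A : Subgroup H) ≃* Equiv.Perm (Fin 5)) := by
  have hF := card_eq h4 e h hV hAL
  obtain ⟨φ, hm, hi, hcard4⟩ := exists_mod5 h4 e h hV hAL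
  have hLX : L ≤ L ⊔ A := le_sup_left
  have hAX : A ≤ L ⊔ A := le_sup_right
  have hCL : (CS ρ L).index = 16 := by
    apply le_antisymm
    · have h1 := FFOuterPerm.index_top hm.swap
      have h2 : CS (rP ρ φ) ⊤ ≤ CS ρ L := by
        intro v hv l hl
        have := hv (φ ⟨l, hLX hl⟩) (Subgroup.mem_top _)
        rwa [rP_apply] at this
      exact (index_le_of_le h2).trans h1
    · obtain ⟨a, ha, ha1⟩ := exists_ne_one (SU F)
      obtain ⟨y, -, -, hy⟩ := sl2_exists h4 hV (rr ρ e) (rr_ne h4 e h) (sylow_elem (SU F) a ha) ha1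
      rw [hF, fx_rr] at hy
      exact hy.trans (index_le_of_le (CS_le_fx (e y).2))
  refine ⟨hF, ?_, ?_, hCL, ?_, ⟨hcard4, hi, card_inf e h hAL⟩, ⟨φ⟩⟩
  · intro a ha haL
    obtain ⟨i, j, hij, hφ⟩ := hm.tr ⟨a, hAX ha⟩ ha haL
    have := hm.swap i j hij
    rwa [← hφ, fx_rP] at this
  · intro a ha ha1 haa
    obtain ⟨i, j, k, l, hij, hkl, -, -, -, -, hφ⟩ := hm.dt ⟨a, hLX ha⟩ ha (fun h => ha1 (congrArg Subtype.val h))
      (Subtype.ext haa)
    apply le_antisymm
    · have h1 : fx (rP ρ φ) (Equiv.swap i j) ⊓ fx (rP ρ φ) (Equiv.swap k l) ≤ fx ρ a := by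
        rintro v ⟨hv1, hv2⟩
        have := fx_mul (rP ρ φ) hv1 hv2
        rwa [← hφ, fx_rP] at this
      refine (index_le_of_le h1).trans (Subgroup.index_inf_le.trans ?_)
      rw [hm.swap i j hij, hm.swap k l hkl]
    · rw [← hF]
      exact index_ge h4 e h hV ha haa ha1
  · intro y hy hy5
    symm
    apply eq_of_index_le (CS_le_fx hy)
    rw [hCL]
    obtain ⟨v, hv⟩ := h.faithL y hy (by rintro rfl; rw [orderOf_one] at hy5; omega)
    obtain ⟨d, hd, h1, h2⟩ := prim hV (l := 5) (by norm_num) (by norm_num) hy5 ⟨v, hv⟩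
    rw [h1]
    have h3 : 4 ≤ d := by
      by_contra hcon
      have : d = 1 ∨ d = 2 ∨ d = 3 := by omega
      rcases this with rfl | rfl | rfl <;> norm_num at h2
    calc 16 = 2 ^ 4 := by norm_num
      _ ≤ 2 ^ d := Nat.pow_le_pow_right (by norm_num) h3

end Cfsg.Agent.OddCyclic.FFOuter
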