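import Cfsg.Agent.OddCyclic.FFSl2

/-!
# The outcome of FFC, the offender theorem for groups with cyclic odd Sylow subgroups

`H` finite, all odd Sylow subgroups cyclic, no normal 2-subgroup, acting faithfully on the elementary abelian 2-group
`V` by `ρ : H →* MulAut V`, `A ≠ 1` a best offender (`BO ρ A`). Then `Out ρ A`: one of
* `OutS3`: `⟨y⟩` of order 3 is normal in `H`, `A = ⟨a⟩` inverts `y`, `a` is a transvection, `|V : C_V(y)| = 4`;
* `OutLin`: `A` is a Sylow 2-subgroup of `L ⊴ H`, `L = SL₂(q)`, `V/C_V(L)` natural;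
* `OutFive`: `A ≤ K = S₅`, `K' ⊴ H`, the transpositions are transvections on `V`, `A` is generated by transpositions;
* `OutSeven`: `A ≤ L ⊴ H`, `L` simple of order 168.
-/

set_option autoImplicit false

namespace Cfsg.Agent.OddCyclic.RedFFDefs

open Cfsg.Agent.OddCyclic.T1Module Cfsg.Agent.OddCyclic.FFBasic Cfsg.Agent.OddCyclic.FFRed

variable {H : Type*} [Group H] {V : Type*} [CommGroup V]

def OutS3 (ρ : H →* MulAut V) (A : Subgroup H) : Prop :=
  ∃ y : H, orderOf y = 3 ∧ (Subgroup.zpowers y).Normal ∧ Nat.card A = 2 ∧ (∀ a ∈ A, a ≠ 1 → a * y * a⁻¹ = y⁻¹) ∧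
    (CS ρ A).index = 2 ∧ (fx ρ y).index = 4

def OutLin (ρ : H →* MulAut V) (A : Subgroup H) : Prop :=
  ∃ L : Subgroup H, L.Normal ∧ A ≤ L ∧ ∃ (F : Type) (_ : Field F) (_ : Fintype F), CharP F 2 ∧ 4 ≤ Fintype.card F ∧
    Nonempty (L ≃* Matrix.SpecialLinearGroup (Fin 2) F) ∧ Nat.card A = Fintype.card F ∧
    (CS ρ L).index = Fintype.card F ^ 2 ∧ (CS ρ A).index = Fintype.card F ∧ ∀ a ∈ A, a ≠ 1 → fx ρ a = CS ρ A

def OutFive (ρ : H →* MulAut V) (A : Subgroup H) : Prop :=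
  ∃ K : Subgroup H, A ≤ K ∧ ∃ e : K ≃* Equiv.Perm (Fin 5),
    (((alternatingGroup (Fin 5)).comap e.toMonoidHom).map K.subtype).Normal ∧
    (∀ i j : Fin 5, i ≠ j → (fx ρ (e.symm (Equiv.swap i j) : H)).index = 2) ∧
    A ≤ Subgroup.closure {t : H | t ∈ A ∧ ∃ i j : Fin 5, i ≠ j ∧ t = (e.symm (Equiv.swap i j) : H)}

def OutSeven (A : Subgroup H) : Prop :=
  ∃ L : Subgroup H, L.Normal ∧ A ≤ L ∧ IsSimpleGroup L ∧ Nat.card L = 168

/-- the outcome of FFC -/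
def Out (ρ : H →* MulAut V) (A : Subgroup H) : Prop :=
  OutS3 ρ A ∨ OutLin ρ A ∨ OutFive ρ A ∨ OutSeven A

universe u

/-- FFC for `H` -/
def FFC (H : Type u) [Group H] : Prop :=
  ∀ (V : Type u) [CommGroup V] [Finite V], (∀ v : V, v * v = 1) → ∀ ρ : H →* MulAut V, Function.Injective ρ →
    (∀ D : Subgroup H, D.Normal → IsPGroup 2 D → D = ⊥) → ∀ A : Subgroup H, BO ρ A → A ≠ ⊥ → Out ρ A

end Cfsg.Agent.OddCyclic.RedFFDefs
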