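import Cfsg.Agent.OddCyclic.FFOuter
import Cfsg.Agent.OddCyclic.RedFFDefs

/-!
# Best offenders on `SL₂(q)` extended by an outer automorphism: the form `OutFive` of the conclusion
-/

set_option autoImplicit false
set_option linter.unusedSectionVars false

namespace Cfsg.Agent.OddCyclic.FFOuter

open Cfsg.Agent.OddCyclic.T1Module Cfsg.Agent.OddCyclic.FFBasic Cfsg.Agent.OddCyclic.FFRed

variable {H : Type*} [Group H] [Finite H] {V : Type*} [CommGroup V] [Finite V] {ρ : H →* MulAut V}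
  {L A : Subgroup H} [hL : L.Normal] {F : Type*} [Field F] [Fintype F] [CharP F 2]

/-- **a best offender `A ≰ L ≅ SL₂(q)`** -/
theorem outFive (h4 : 4 ≤ Fintype.card F) (e : Matrix.SpecialLinearGroup (Fin 2) F ≃* L) (h : Fr ρ L A)
    (hV : ∀ v : V, v * v = 1) (hAL : ¬ A ≤ L) : RedFFDefs.OutFive ρ A := by
  obtain ⟨φ, hm, -, -⟩ := exists_mod5 h4 e h hV hAL
  have hAX : A ≤ L ⊔ A := le_sup_right
  refine ⟨L ⊔ A, hAX, φ, ?_, ?_, ?_⟩
  · have h1 : ((alternatingGroup (Fin 5)).comap φ.toMonoidHom).map (L ⊔ A).subtype = L := by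
      ext x
      constructor
      · rintro ⟨y, hy, rfl⟩
        exact (hm.alt y).2 hy
      · intro hx
        exact ⟨⟨x, le_sup_left (a := L) hx⟩, (hm.alt ⟨x, le_sup_left (a := L) hx⟩).1 hx, rfl⟩
    rw [h1]; exact hL
  · intro i j hij
    exact hm.swap i j hij
  · obtain ⟨a₀, ha₀, ha₀L⟩ := SetLike.not_le_iff_exists.1 hAL
    have key : ∀ a ∈ A, a ∉ L → a ∈ Subgroup.closure {t : H | t ∈ A ∧ ∃ i j : Fin 5, i ≠ j ∧
        t = (φ.symm (Equiv.swap i j) : H)} := by
      intro a ha haL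
      obtain ⟨i, j, hij, hφ⟩ := hm.tr ⟨a, hAX ha⟩ ha haL
      apply Subgroup.subset_closure
      refine ⟨ha, i, j, hij, ?_⟩
      rw [← hφ, φ.symm_apply_apply]
    intro a ha
    by_cases haL : a ∈ L
    · have h1 : a * a₀⁻¹ ∉ L := fun h1 => ha₀L (by
        have := mul_mem (inv_mem h1) haL
        rwa [mul_inv_rev, inv_inv, inv_mul_cancel_right] at this)
      have h2 := mul_mem (key _ (mul_mem ha (inv_mem ha₀)) h1) (key _ ha₀ ha₀L)
      rwa [inv_mul_cancel_right] at h2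
    · exact key a ha haL

end Cfsg.Agent.OddCyclic.FFOuter
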