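import Cfsg.Agent.OddCyclic.FFLoc
import Cfsg.Agent.OddCyclic.FFOuterFive
import Cfsg.Agent.OddCyclic.FFStruct

/-!
# [FFC] The offender theorem for groups with cyclic odd Sylow subgroups

`main` : `H` finite, all odd Sylow subgroups cyclic, simple nonabelian subgroups in the list `KZero`, `O₂(H) = 1`, `V` a
faithful elementary abelian 2-group, `A ≠ 1` a best offender: `Out ρ A`.
-/

set_option autoImplicit false
set_option linter.unusedSectionVars false

namespace Cfsg.Agent.OddCyclic.FFMain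

open Cfsg.Agent.OddCyclic.T1Module Cfsg.Agent.OddCyclic.FFBasic Cfsg.Agent.OddCyclic.FFRed
  Cfsg.Agent.OddCyclic.FFSl2 Cfsg.Agent.OddCyclic.T1Defs Cfsg.Agent.OddCyclic.RedFFDefs Cfsg.Agent.OddCyclic.PumpMain

variable {H : Type*} [Group H] [Finite H] {V : Type*} [CommGroup V] [Finite V] {ρ : H →* MulAut V}

theorem linear {L A : Subgroup H} [L.Normal] {F : Type} [Field F] [Fintype F] [CharP F 2] (h4 : 4 ≤ Fintype.card F)
    (e : Matrix.SpecialLinearGroup (Fin 2) F ≃* L) (h : Fr ρ L A) (hV : ∀ v : V, v * v = 1) : Out ρ A := by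
  by_cases hAL : A ≤ L
  · exact Or.inr (Or.inl (FFLoc.outLin h4 e h hV hAL))
  · exact Or.inr (Or.inr (Or.inl (FFOuter.outFive h4 e h hV hAL)))

/-- the local theorems together -/
theorem loc (hc : OddCyc H) (hV : ∀ v : V, v * v = 1) {L A : Subgroup H} [L.Normal] (hs : IsSimpleGroup L)
    (hK : KZero L) (hns : ¬ Cfsg.Lie.IsoSuzuki L) (h : Fr ρ L A) : Out ρ A := by
  rcases hK with ⟨F, _, _, hp, h5, ⟨e⟩⟩ | ⟨F, _, _, f, hf, hF, ⟨e⟩⟩ | hK | ⟨hJ, k, hk⟩
  · have hodd : Odd (Fintype.card F) := hp.odd_of_ne_two (by omega)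
    by_cases h5' : Fintype.card F = 5
    · obtain ⟨K, _, _, _, hK4, ⟨e'⟩⟩ := T1Socle.exists_four h5'
      exact linear (F := K) (by rw [hK4]) (e.trans e').symm h hV
    · have h7 : 7 ≤ Fintype.card F := by
        have h6 : Fintype.card F ≠ 6 := by
          intro h6
          rw [h6] at hp
          revert hp
          norm_num
        omega
      have R := Cfsg.Agent.GH.L2Aut.Rep.ofEquiv (Cfsg.Agent.GH.L2Aut.two_ne_zero_of_odd hodd) e
      right; right; right
      exact FFLoc.outSeven R hs h hV hc (by rw [Nat.card_eq_fintype_card]; exact hp)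
        (by rw [Nat.card_eq_fintype_card]; exact h7)
  · have h4 : 4 ≤ Fintype.card F := by
      rw [hF]
      calc 4 = 2 ^ 2 := by norm_num
        _ ≤ 2 ^ f := Nat.pow_le_pow_right (by norm_num) hf
    have hch : CharP F 2 := by
      have hch := ringChar.charP F
      have h1 : ringChar F ∣ 2 ^ f := by
        rw [← hF, ← CharP.cast_eq_zero_iff F (ringChar F), Nat.cast_card_eq_zero]
      have h2 : (ringChar F).Prime := CharP.char_is_prime F (ringChar F)
      have h3 : ringChar F = 2 := (Nat.prime_dvd_prime_iff_eq h2 Nat.prime_two).1 (h2.dvd_of_dvd_pow h1)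
      rwa [h3] at hch
    obtain ⟨g⟩ := WeakTI.PslTwo.nonempty_equiv (F := F)
    exact linear h4 (g.trans e.symm) h hV
  · exact absurd hK hns
  · exact (FFJ1.main h hV hJ hk).elim

/-- **FFC** -/
theorem main (hc : OddCyc H) (hk : ∀ J : Subgroup H, IsSimpleGroup J → (∃ x y : J, x * y ≠ y * x) → KZero J)
    (h2 : ∀ D : Subgroup H, D.Normal → IsPGroup 2 D → D = ⊥) (hV : ∀ v : V, v * v = 1) (hρ : Function.Injective ρ)
    {A : Subgroup H} (hA : BO ρ A) (hA1 : A ≠ ⊥) : Out ρ A := by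
  have h2' : pCore 2 H = ⊥ := by
    rw [Cfsg.Agent.Lib.Cores.pCore_def, eq_bot_iff]
    exact sSup_le fun D hD => (h2 D hD.1 hD.2).le
  rcases FFStruct.main hc hk h2' hV hρ hA hA1 with h | ⟨L, hLn, hs, hK, hns, h⟩
  · exact Or.inl h
  · exact loc hc hV hs hK hns h

theorem ffc (H : Type*) [Group H] [Finite H] (hc : OddCyc H)
    (hk : ∀ J : Subgroup H, IsSimpleGroup J → (∃ x y : J, x * y ≠ y * x) → KZero J) : FFC H :=
  fun _ _ _ hV _ hρ h2 _ hA hA1 => main hc hk h2 hV hρ hA hA1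

end Cfsg.Agent.OddCyclic.FFMain
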