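import Cfsg.Agent.OddCyclic.EmpFFSevenD
import Cfsg.Agent.OddCyclic.EmpFFAlt
import Cfsg.Agent.SmallSimple.S1000.FrameAut
import Cfsg.Agent.Transfer.ElemAbAut

/-!
# (Empty), section 6 of blueprints/S0342-Empty-NS-helper347.md: the FF list, abstract form

`FFList ρ T` : the outcome of the theorem (`main`): `Gen ρ T`, `OddCyc H`, FFC for `H` and an offender `A ≠ 1` imply one
of
* `OutA`: `|V| = 4`, `|H| = 6`;
* `Lin ρ L F`: `L ⊴ H`, `L ≃ SL₂(F)`, `V` natural, `C_H(L) = 1`, `C_V(L) = 1`;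
* `Five ρ`: `H ≃ S₅`, `|V| = 16`, transpositions are transvections;
* `OutB`: `|V| = 8`, `|H| = 168`;
* `NN ρ T`: `H ≃ L₃(2)`, `|V| = 64`, `V = N ⊕ N`.
-/

set_option autoImplicit false
set_option linter.unusedSectionVars false

namespace Cfsg.Agent.OddCyclic.EmpFFList

open Subgroup Cfsg.Agent.OddCyclic.T1Module Cfsg.Agent.OddCyclic.T1Defs Cfsg.Agent.LieExceptional.CITDefs
  Cfsg.Agent.OddCyclic.PumpMain Cfsg.Agent.OddCyclic.FFBasic Cfsg.Agent.OddCyclic.FFStruct
  Cfsg.Agent.OddCyclic.FFRed Cfsg.Agent.OddCyclic.FFSl2 Cfsg.Agent.OddCyclic.RedFFDefs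
  Cfsg.Agent.OddCyclic.BTwoLin.SocleGen Cfsg.Agent.OddCyclic.EmpFFAbs Cfsg.Agent.OddCyclic.EmpFFSevenD

variable {H V : Type*} [Group H] [CommGroup V] {ρ : H →* MulAut V} {T A : Subgroup H}

/-- `S₃` on `2²` -/
structure OutA (ρ : H →* MulAut V) : Prop where
  cardV : Nat.card V = 4
  cardH : Nat.card H = 6
  bij : Function.Bijective ρ

/-- `L₃(2)` on `2³` -/
structure OutB (ρ : H →* MulAut V) : Prop where
  cardV : Nat.card V = 8
  cardH : Nat.card H = 168
  simple : IsSimpleGroup H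
  bij : Function.Bijective ρ

/-- the natural module -/
structure Lin (ρ : H →* MulAut V) (L : Subgroup H) (F : Type) [Field F] [Fintype F] [CharP F 2] : Prop where
  norm : L.Normal
  four : 4 ≤ Fintype.card F
  iso : Nonempty (L ≃* Matrix.SpecialLinearGroup (Fin 2) F)
  cent : centralizer (L : Set H) = ⊥
  bot : CS ρ L = ⊥
  card : Nat.card V = Fintype.card F ^ 2
  irr : ∀ Y : Subgroup V, (∀ l ∈ L, ∀ v ∈ Y, ρ l v ∈ Y) → Y = ⊥ ∨ Y = ⊤
  /-- Sylow 2-subgroups of `L` -/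
  syl : ∀ U : Subgroup H, U ≤ L → IsPGroup 2 U → Nat.card U = Fintype.card F →
    Nat.card (CS ρ U) = Fintype.card F ∧ ∀ a ∈ U, a ≠ 1 → fx ρ a = CS ρ U

/-- `S₅` on `O₄⁻(2)` -/
structure Five (ρ : H →* MulAut V) (e : H ≃* Equiv.Perm (Fin 5)) : Prop where
  cardV : Nat.card V = 16
  swap : ∀ i j : Fin 5, i ≠ j → (fx ρ (e.symm (Equiv.swap i j) : H)).index = 2
  bot : CS ρ ((alternatingGroup (Fin 5)).comap e.toMonoidHom) = ⊥
  irr : ∀ Y : Subgroup V, (∀ l ∈ (alternatingGroup (Fin 5)).comap e.toMonoidHom, ∀ v ∈ Y, ρ l v ∈ Y) → Y = ⊥ ∨ Y = ⊤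

def FFList (ρ : H →* MulAut V) (T : Subgroup H) : Prop :=
  OutA ρ ∨ (∃ (L : Subgroup H) (F : Type) (_ : Field F) (_ : Fintype F) (_ : CharP F 2), Lin ρ L F) ∨
    (∃ e, Five ρ e) ∨ OutB ρ ∨ NN ρ T

section irr

variable [Finite V]

/-- irreducibility from an element of prime order with large orbits -/
theorem irr_of {L : Subgroup H} (hV : ∀ v : V, v * v = 1) (hs : IsSimpleGroup L) (hbot : CS ρ L = ⊥) {y : H} {r m : ℕ}
    (hyL : y ∈ L) (hr : r.Prime) (hr2 : r ≠ 2) (hy : orderOf y = r) (hi : Nat.card V ≤ 2 ^ m)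
    (hm : ∀ d, 0 < d → r ∣ 2 ^ d - 1 → m ≤ d) (Y : Subgroup V) (hY : ∀ l ∈ L, ∀ v ∈ Y, ρ l v ∈ Y) :
    Y = ⊥ ∨ Y = ⊤ := by
  by_cases hYb : Y = ⊥
  · exact Or.inl hYb
  right
  have hy1 : y ≠ 1 := by
    rintro rfl
    rw [orderOf_one] at hy
    exact hr.one_lt.ne hy
  let σ := res ρ L Y hY
  let y' : L := ⟨y, hyL⟩
  have ho' : orderOf y' = r := by rw [← Subgroup.orderOf_coe]; exact hy
  have hne' : ∃ w, σ y' w ≠ w := by
    by_contra hcon
    push Not at hcon
    apply hYb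
    rw [eq_bot_iff]
    have h1 := fix_of_one hs hY hyL hy1 fun w hw => congrArg Subtype.val (hcon ⟨w, hw⟩)
    intro v hv
    have h2 : v ∈ CS ρ L := fun g hg => h1 g hg v hv
    rwa [hbot] at h2
  obtain ⟨d, hd, h2, h3⟩ := prim (ρ := σ) (fun w => Subtype.ext (hV w)) hr hr2 ho' hne'
  apply Subgroup.eq_top_of_le_card
  refine hi.trans ((Nat.pow_le_pow_right (by norm_num) (hm d hd h3)).trans ?_)
  rw [← h2]
  exact Nat.le_of_dvd Nat.card_pos (fx σ y').index_dvd_card

/-- `C_H(L) = 1` for `L` simple and irreducible -/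
theorem cent_of [Finite H] (hg : Gen ρ T) (hc : OddCyc H) {L : Subgroup H} (hL : L.Normal) (hs : IsSimpleGroup L)
    (hab : ∃ x y : L, x * y ≠ y * x)
    (hirr : ∀ Y : Subgroup V, (∀ l ∈ L, ∀ v ∈ Y, ρ l v ∈ Y) → Y = ⊥ ∨ Y = ⊤)
    (hdvd : ∀ r : ℕ, r.Prime → r ≠ 2 → r ∣ Nat.card V - 1 → r ∣ Nat.card L) : centralizer (L : Set H) = ⊥ := by
  have hf : Fact (Nat.Prime 2) := ⟨Nat.prime_two⟩
  have hcen : ∀ c ∈ L, c ∈ centralizer (L : Set H) → c = 1 := by
    intro c hcL hcC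
    have h3 : (⟨c, hcL⟩ : L) ∈ center L := by
      rw [Subgroup.mem_center_iff]
      intro g
      exact Subtype.ext ((mem_centralizer_iff.mp hcC) g g.2)
    rcases hs.eq_bot_or_eq_top_of_normal (center L) inferInstance with h5 | h5
    · rw [h5, Subgroup.mem_bot] at h3
      exact congrArg Subtype.val h3
    · exfalso
      obtain ⟨x, y, hxy⟩ := hab
      have h6 : x ∈ center L := by rw [h5]; trivial
      rw [Subgroup.mem_center_iff] at h6
      exact hxy (h6 y).symm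
  have h2 : IsPGroup 2 (centralizer (L : Set H)) := by
    rw [IsPGroup.iff_card]
    refine ⟨(Nat.card (centralizer (L : Set H))).primeFactorsList.length, Nat.eq_prime_pow_of_unique_prime_dvd Nat.card_pos.ne' ?_⟩
    intro r hr hdv
    by_contra hr2
    have hfr : Fact r.Prime := ⟨hr⟩
    obtain ⟨c, hco⟩ := exists_prime_orderOf_dvd_card' (G := centralizer (L : Set H)) r hdv
    have hco' : orderOf (c : H) = r := by rw [Subgroup.orderOf_coe]; exact hco
    have hc1 : (c : H) ≠ 1 := by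
      intro h1
      rw [h1, orderOf_one] at hco'
      exact hr.one_lt.ne hco'
    have hcomm : ∀ l ∈ L, (c : H) * l = l * c := fun l hl => ((mem_centralizer_iff.mp c.2) l hl).symm
    -- `c` acts fixed point freely
    have hfx : fx ρ (c : H) = ⊥ := by
      rcases hirr (fx ρ (c : H)) (fun l hl v hv => by
        change ρ (c : H) (ρ l v) = ρ l v
        rw [← MulAut.mul_apply, ← map_mul, hcomm l hl, map_mul, MulAut.mul_apply, show ρ (c : H) v = v from hv])
        with h1 | h1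
      · exact h1
      · exfalso
        obtain ⟨v, hv⟩ := hg.ne hc1
        apply hv
        have : v ∈ fx ρ (c : H) := by rw [h1]; trivial
        exact this
    have hdvd1 : r ∣ Nat.card V - 1 := by
      obtain ⟨d, -, h3, h4⟩ := prim (ρ := ρ) hg.sq hr hr2 hco' (hg.ne hc1)
      rw [hfx, Subgroup.index_bot] at h3
      rw [h3]
      exact h4
    have hcL := CompBasic.mem_of_orderOf hc hr hr2 hL (hdvd r hr hr2 hdvd1) hco'
    exact hc1 (hcen c hcL c.2)
  have hn : (centralizer (L : Set H)).Normal := inferInstance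
  exact hg.o2 h2

end irr

variable [Finite H] [Finite V]

theorem ncomm_of_card {L : Subgroup H} (hs : IsSimpleGroup L) (h : ¬ (Nat.card L).Prime) : ∃ x y : L, x * y ≠ y * x := by
  by_contra hcon
  push Not at hcon
  apply h
  let _ : CommGroup L := { (inferInstance : Group L) with mul_comm := hcon }
  exact IsSimpleGroup.prime_card

theorem outA_of (hg : Gen ρ T) {y : H} (hy : orderOf y = 3) (hyn : (zpowers y).Normal) (hi : (fx ρ y).index = 4)
    (hA : ∀ a ∈ A, a * a = 1) (hA1 : A ≠ ⊥) : OutA ρ := by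
  have hf : Fact (Nat.Prime 2) := ⟨Nat.prime_two⟩
  obtain ⟨-, h1⟩ := hg.outS3 hy hyn hi
  have h2 : Nat.card (MulAut V) = 6 := by
    rw [Cfsg.Agent.Transfer.ElemAbAut.card_mulAut 2 2 (fun x y => mul_comm x y)
      (fun x => by rw [pow_two]; exact hg.sq x) (by rw [h1]; norm_num)]
    simp [Fin.prod_univ_succ]
  have h3 : Nat.card H ∣ 6 := by
    rw [← h2]
    exact Subgroup.card_dvd_of_injective ρ hg.inj
  have h4 : 3 ∣ Nat.card H := by rw [← hy]; exact orderOf_dvd_natCard y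
  have h5 : 2 ∣ Nat.card H := by
    obtain ⟨⟨a, ha⟩, ha1⟩ := Subgroup.ne_bot_iff_exists_ne_one.1 hA1
    have : orderOf a = 2 := orderOf_eq_prime (by rw [pow_two]; exact hA a ha) (fun h => ha1 (Subtype.ext h))
    rw [← this]; exact orderOf_dvd_natCard a
  have h6 : Nat.card H = 6 :=
    Nat.dvd_antisymm h3 (Nat.Coprime.mul_dvd_of_dvd_of_dvd (by norm_num : Nat.Coprime 2 3) h5 h4)
  refine ⟨h1, h6, ?_⟩
  have : Finite (MulAut V) := Nat.finite_of_card_ne_zero (by rw [h2]; norm_num)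
  exact (Nat.bijective_iff_injective_and_card ρ).2 ⟨hg.inj, by rw [h6, h2]⟩

theorem outB_of (hg : Gen ρ T) {L : Subgroup H} (hs : IsSimpleGroup L) (hcard : Nat.card L = 168)
    (hV : Nat.card V = 8) : OutB ρ := by
  have h2 : Nat.card (MulAut V) = 168 := Cfsg.Agent.SmallSimple.S1000.FrameAut.card_mulAut hg.sq hV
  have h3 : Nat.card H ∣ 168 := by
    rw [← h2]
    exact Subgroup.card_dvd_of_injective ρ hg.inj
  have h4 : 168 ∣ Nat.card H := by rw [← hcard]; exact L.card_subgroup_dvd_card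
  have h6 : Nat.card H = 168 := Nat.dvd_antisymm h3 h4
  have h7 : L = ⊤ := Subgroup.eq_top_of_card_eq _ (by rw [h6, hcard])
  subst h7
  refine ⟨hV, h6, (Subgroup.topEquiv (G := H)).symm.isSimpleGroup, ?_⟩
  have : Finite (MulAut V) := Nat.finite_of_card_ne_zero (by rw [h2]; norm_num)
  exact (Nat.bijective_iff_injective_and_card ρ).2 ⟨hg.inj, by rw [h6, h2]⟩

/-- the natural module -/
theorem lin_of (hg : Gen ρ T) (hc : OddCyc H) {L : Subgroup H} (hL : L.Normal) (hAL : A ≤ L) {F : Type} [Field F]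
    [Fintype F] [CharP F 2] (h4 : 4 ≤ Fintype.card F) (e : L ≃* Matrix.SpecialLinearGroup (Fin 2) F)
    (hAc : Nat.card A = Fintype.card F) (hi : (CS ρ L).index = Fintype.card F ^ 2)
    (hiA : (CS ρ A).index = Fintype.card F) (hfix : ∀ a ∈ A, a ≠ 1 → fx ρ a = CS ρ A) : Lin ρ L F := by
  have hf2 : Fact (Nat.Prime 2) := ⟨Nat.prime_two⟩
  obtain ⟨h1, h2⟩ := hg.outLin hL h4 e hi
  have hs : IsSimpleGroup L := by
    have := isSimpleGroup_sl2 (F := F) h4
    exact e.isSimpleGroup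
  have hLc : Nat.card L = Fintype.card F * (Fintype.card F ^ 2 - 1) := by
    rw [Nat.card_congr e.toEquiv, T1Sl2.card_sl2]
    have h : Fintype.card F ^ 2 - 1 = (Fintype.card F + 1) * (Fintype.card F - 1) := by
      have := Nat.sq_sub_sq (Fintype.card F) 1
      simpa using this
    rw [h]; ring
  obtain ⟨n, hn, hq⟩ := T1Sl2.card_pow F
  have hirr : ∀ Y : Subgroup V, (∀ l ∈ L, ∀ v ∈ Y, ρ l v ∈ Y) → Y = ⊥ ∨ Y = ⊤ := by
    intro Y hY
    by_cases hYb : Y = ⊥
    · exact Or.inl hYb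
    right
    let σ : Matrix.SpecialLinearGroup (Fin 2) F →* MulAut Y := (res ρ L Y hY).comp e.symm.toMonoidHom
    have hne' : ∃ g w, σ g w ≠ w := by
      by_contra hcon
      push Not at hcon
      apply hYb
      rw [eq_bot_iff, ← h1]
      intro v hv g hg
      have h2 := hcon (e ⟨g, hg⟩) ⟨v, hv⟩
      have h3 := congrArg Subtype.val h2
      change ρ ((e.symm (e ⟨g, hg⟩) : L) : H) v = v at h3
      rwa [e.symm_apply_apply] at h3
    obtain ⟨a, ha, ha1⟩ := exists_ne_one (T1Sl2.SU F)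
    obtain ⟨y, -, -, hy⟩ := sl2_exists h4 (fun w => Subtype.ext (hg.sq w)) σ hne' (T1Sl2.sylow_elem (T1Sl2.SU F) a ha) ha1
    apply Subgroup.eq_top_of_le_card
    rw [h2]
    exact hy.trans (Nat.le_of_dvd Nat.card_pos (fx σ y).index_dvd_card)
  have hab := COneXL.ncomm_sl2 h4 e
  refine ⟨hL, h4, ⟨e⟩, ?_, h1, h2, hirr, ?_⟩
  · refine cent_of hg hc hL hs hab hirr fun r _ _ h3 => ?_
    rw [h2] at h3
    rw [hLc]
    exact h3.mul_left _
  · intro U hUL hU hUc
    -- Sylow subgroups of `L`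
    have key : ∀ B : Subgroup H, B ≤ L → IsPGroup 2 B → Nat.card B = Fintype.card F →
        ∃ P : Sylow 2 L, (P : Subgroup L) = B.subgroupOf L := by
      intro B hBL hB hBc
      have hB' : IsPGroup 2 (B.subgroupOf L) := hB.comap_of_injective L.subtype L.subtype_injective
      refine ⟨hB'.toSylow ?_, rfl⟩
      have h3 := (B.subgroupOf L).card_mul_index
      rw [Nat.card_congr (Subgroup.subgroupOfEquivOfLe hBL).toEquiv, hBc, hLc] at h3
      have h4' : (B.subgroupOf L).index = Fintype.card F ^ 2 - 1 :=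
        Nat.eq_of_mul_eq_mul_left (by omega) h3
      rw [h4', hq]
      intro h5
      have h6 : 2 ∣ (2 ^ n) ^ 2 := (dvd_pow_self 2 (by omega)).trans (dvd_pow_self _ (by norm_num))
      have h7 : 1 ≤ (2 ^ n) ^ 2 := Nat.one_le_pow _ _ (by positivity)
      omega
    obtain ⟨P, hP⟩ := key U hUL hU hUc
    obtain ⟨Q, hQ⟩ := key A hAL (IsPGroup.of_card (n := n) (by rw [hAc, hq])) hAc
    obtain ⟨g, hgQ⟩ := MulAction.exists_smul_eq L Q P
    have hUA : U = A.map (MulAut.conj (g : H)).toMonoidHom := by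
      have h3 : (P : Subgroup L).map L.subtype = U := by
        rw [hP, Subgroup.map_subgroupOf_eq_of_le hUL]
      rw [← h3, ← hgQ]
      ext x
      constructor
      · rintro ⟨y, hy, rfl⟩
        rw [SetLike.mem_coe] at hy
        obtain ⟨w, hw, rfl⟩ := hy
        have hw' : w ∈ (Q : Subgroup L) := hw
        rw [hQ, mem_subgroupOf] at hw'
        exact ⟨w, hw', rfl⟩
      · rintro ⟨w, hw, rfl⟩
        refine ⟨g * ⟨w, hAL hw⟩ * g⁻¹, ?_, rfl⟩
        exact ⟨⟨w, hAL hw⟩, by change _ ∈ (Q : Subgroup L); rw [hQ, mem_subgroupOf]; exact hw, rfl⟩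
    have hcA : Nat.card (CS ρ A) = Fintype.card F := by
      have h3 := (CS ρ A).card_mul_index
      rw [hiA, h2, pow_two] at h3
      exact Nat.eq_of_mul_eq_mul_right (by omega) h3
    rw [hUA, EmpFFSeven.CS_conj]
    constructor
    · rw [Subgroup.card_map_of_injective (ρ (g : H)).injective, hcA]
    · rintro _ ⟨a, ha, rfl⟩ ha1
      have ha1' : a ≠ 1 := by rintro rfl; exact ha1 (map_one _)
      rw [← hfix a ha ha1']
      exact fx_conj ρ (g : H) a

theorem card_perm5 : Nat.card (Equiv.Perm (Fin 5)) = 120 := by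
  rw [Nat.card_eq_fintype_card, Fintype.card_perm, Fintype.card_fin]; rfl

/-- `S₅` -/
theorem five_of (hg : Gen ρ T) (hc : OddCyc H) {K : Subgroup H} (e : K ≃* Equiv.Perm (Fin 5))
    (hn : (COneXL.alt K e).Normal) (hsw : ∀ i j : Fin 5, i ≠ j → (fx ρ (e.symm (Equiv.swap i j) : H)).index = 2) :
    ∃ e, Five ρ e := by
  obtain ⟨h1, h2⟩ := hg.outFive e hn hsw
  have hs := COneXL.simple_alt (e := e)
  have hcard := COneXL.card_alt (e := e)
  have h5 : ∀ d, 0 < d → 5 ∣ 2 ^ d - 1 → 4 ≤ d := by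
    intro d hd h1
    by_contra hcon
    have : d = 1 ∨ d = 2 ∨ d = 3 := by omega
    rcases this with rfl | rfl | rfl <;> norm_num at h1
  have hf : Fact (Nat.Prime 5) := ⟨Nat.prime_five⟩
  obtain ⟨y, hy⟩ := exists_prime_orderOf_dvd_card' (G := COneXL.alt K e) 5 (by rw [hcard]; norm_num)
  have hy' : orderOf (y : H) = 5 := by rw [Subgroup.orderOf_coe]; exact hy
  have hirr : ∀ Y : Subgroup V, (∀ l ∈ COneXL.alt K e, ∀ v ∈ Y, ρ l v ∈ Y) → Y = ⊥ ∨ Y = ⊤ :=
    irr_of hg.sq hs h1 y.2 Nat.prime_five (by norm_num) hy' (by rw [h2]; norm_num) h5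
  have hcen : centralizer (COneXL.alt K e : Set H) = ⊥ := by
    refine cent_of hg hc hn hs COneXL.alt_ncomm hirr fun r hr hr2 h3 => ?_
    rw [h2] at h3
    rw [hcard]
    have h4 : r ∣ 3 * 5 := h3
    rcases (Nat.Prime.dvd_mul hr).1 h4 with h6 | h6
    · rw [(Nat.prime_dvd_prime_iff_eq hr Nat.prime_three).1 h6]; norm_num
    · rw [(Nat.prime_dvd_prime_iff_eq hr Nat.prime_five).1 h6]; norm_num
  -- `H = K`
  have hK : K = ⊤ := by
    rw [eq_top_iff]
    intro x _
    obtain ⟨f, hf⟩ : ∃ f : alternatingGroup (Fin 5) ≃* COneXL.alt K e, ∀ a, ((f a : COneXL.alt K e) : H) =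
        ((e.symm a : K) : H) := by
      let f₀ : alternatingGroup (Fin 5) →* COneXL.alt K e :=
        { toFun := fun a => ⟨(e.symm a : K), (COneXL.mem_alt (e.symm a : K).2).2 (by
            have : (⟨((e.symm (a : Equiv.Perm (Fin 5)) : K) : H), (e.symm (a : Equiv.Perm (Fin 5)) : K).2⟩ : K) =
              e.symm (a : Equiv.Perm (Fin 5)) := rfl
            rw [this, e.apply_symm_apply]
            exact a.2)⟩
          map_one' := Subtype.ext (by
            change ((e.symm ((1 : alternatingGroup (Fin 5)) : Equiv.Perm (Fin 5)) : K) : H) = 1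
            rw [Subgroup.coe_one, map_one]; rfl)
          map_mul' := fun a b => Subtype.ext (by
            change ((e.symm ((a * b : alternatingGroup (Fin 5)) : Equiv.Perm (Fin 5)) : K) : H) =
              ((e.symm (a : Equiv.Perm (Fin 5)) : K) : H) * ((e.symm (b : Equiv.Perm (Fin 5)) : K) : H)
            rw [Subgroup.coe_mul, map_mul]; rfl) }
      have hinj : Function.Injective f₀ := by
        intro a b hab
        have h3 : ((f₀ a : COneXL.alt K e) : H) = ((f₀ b : COneXL.alt K e) : H) := congrArg _ hab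
        have h4 : ((e.symm (a : Equiv.Perm (Fin 5)) : K) : H) = ((e.symm (b : Equiv.Perm (Fin 5)) : K) : H) := h3
        exact Subtype.ext (e.symm.injective (Subtype.ext h4))
      have hsurj : Function.Surjective f₀ := by
        rintro ⟨z, hz⟩
        have hzK := COneXL.alt_le hz
        refine ⟨⟨e ⟨z, hzK⟩, (COneXL.mem_alt hzK).1 hz⟩, Subtype.ext ?_⟩
        change ((e.symm (e ⟨z, hzK⟩) : K) : H) = z
        rw [e.symm_apply_apply]
      exact ⟨MulEquiv.ofBijective f₀ ⟨hinj, hsurj⟩, fun a => rfl⟩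
    obtain ⟨σ, hσ⟩ := EmpFFAlt.exists_conj ((f.trans (MulAut.conjNormal x)).trans f.symm)
    have h3 : (((e.symm σ : K) : H))⁻¹ * x ∈ centralizer (COneXL.alt K e : Set H) := by
      rw [mem_centralizer_iff]
      intro z hz
      obtain ⟨a, ha⟩ := f.surjective ⟨z, hz⟩
      have h4 := hσ a
      have h6 : f (((f.trans (MulAut.conjNormal x)).trans f.symm) a) = MulAut.conjNormal x ⟨z, hz⟩ := by
        change f (f.symm (MulAut.conjNormal x (f a))) = _
        rw [f.apply_symm_apply, ha]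
      have h7 := congrArg (fun w : COneXL.alt K e => (w : H)) h6
      simp only [MulAut.conjNormal_apply] at h7
      rw [hf, h4, map_mul, map_mul, map_inv] at h7
      have h8 : ((e.symm (a : Equiv.Perm (Fin 5)) : K) : H) = z := by
        rw [← hf a, ha]
      have h9 : ((e.symm σ : K) : H) * z * ((e.symm σ : K) : H)⁻¹ = x * z * x⁻¹ := by
        rw [← h7, ← h8]
        rfl
      have h10 : x * z = ((e.symm σ : K) : H) * z * ((e.symm σ : K) : H)⁻¹ * x := by rw [h9]; group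
      calc z * (((e.symm σ : K) : H)⁻¹ * x)
          = ((e.symm σ : K) : H)⁻¹ * (((e.symm σ : K) : H) * z * ((e.symm σ : K) : H)⁻¹ * x) := by group
        _ = ((e.symm σ : K) : H)⁻¹ * (x * z) := by rw [h10]
        _ = ((e.symm σ : K) : H)⁻¹ * x * z := by group
    rw [hcen, Subgroup.mem_bot, inv_mul_eq_one] at h3
    rw [← h3]
    exact (e.symm σ).2
  subst hK
  let e' : H ≃* Equiv.Perm (Fin 5) := (Subgroup.topEquiv (G := H)).symm.trans e
  have halt : (alternatingGroup (Fin 5)).comap e'.toMonoidHom = COneXL.alt ⊤ e := by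
    ext x
    rw [COneXL.mem_alt (mem_top x)]
    rfl
  refine ⟨e', h2, hsw, ?_, ?_⟩
  · rw [halt]; exact h1
  · rw [halt]; exact hirr

/-- **the FF list, abstract form** -/
theorem main (hg : Gen ρ T) (hc : OddCyc H) (hA : BO ρ A) (hA1 : A ≠ ⊥) (ho : Out ρ A) : FFList ρ T := by
  rcases ho with ⟨y, hy, hyn, -, -, -, hi⟩ | ⟨L, hL, hAL, F, i1, i2, i3, h4, ⟨e⟩, hAc, hi, hiA, hfix⟩ |
    ⟨K, hAK, e, hn, hsw, -⟩ | ⟨L, hL, hAL, hs, hcard⟩
  · exact Or.inl (outA_of hg hy hyn hi hA.sq hA1)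
  · exact Or.inr (Or.inl ⟨L, F, i1, i2, i3, lin_of hg hc hL hAL h4 e hAc hi hiA hfix⟩)
  · exact Or.inr (Or.inr (Or.inl (five_of hg hc e hn hsw)))
  · rcases outSeven hg hc hL hs hcard hA hA1 hAL with ⟨-, h1⟩ | h1
    · exact Or.inr (Or.inr (Or.inr (Or.inl (outB_of hg hs hcard h1))))
    · exact Or.inr (Or.inr (Or.inr (Or.inr h1)))

/-- a best offender from an offender -/
theorem exists_bo (h : ∃ A : Subgroup H, A ≠ ⊥ ∧ (∀ a ∈ A, a * a = 1) ∧
    Nat.card V ≤ Nat.card A * Nat.card (CS ρ A)) : ∃ A : Subgroup H, BO ρ A ∧ A ≠ ⊥ := by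
  classical
  obtain ⟨A₀, h1, h2, h3⟩ := h
  obtain ⟨A, ⟨hA1, hA2⟩, hmax⟩ := Set.exists_max_image {A : Subgroup H | A ≠ ⊥ ∧ ∀ a ∈ A, a * a = 1}
    (fun A => Nat.card A * Nat.card (CS ρ A)) (Set.toFinite _) ⟨A₀, h1, h2⟩
  refine ⟨A, ⟨hA2, fun B hB => ?_⟩, hA1⟩
  by_cases hB1 : B = ⊥
  · rw [hB1, CS_bot, Subgroup.card_bot, one_mul, Subgroup.card_top]
    exact h3.trans (hmax A₀ ⟨h1, h2⟩)
  · exact hmax B ⟨hB1, fun b hb => hA2 b (hB hb)⟩

end Cfsg.Agent.OddCyclic.EmpFFList
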