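import Cfsg.Agent.OddCyclic.COneSeven

/-!
# S0342, (C2), 2.2: offenders in `L₃(2)`

`Pr ρ S C B`: the two four-groups of a Sylow 2-subgroup `S`, `fx a = CS C` for all `a ∈ C#`.
-/

set_option autoImplicit false
set_option linter.unusedSectionVars false

namespace Cfsg.Agent.OddCyclic.RedSevenA

open Subgroup
open Cfsg.Agent.GH.L2Aut Cfsg.Agent.OddCyclic.T1Module Cfsg.Agent.OddCyclic.FFBasic
  Cfsg.Agent.OddCyclic.FFRed Cfsg.Agent.OddCyclic.FFSl2 Cfsg.Agent.OddCyclic.FFThree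
  Cfsg.Agent.OddCyclic.COneSeven

variable {L : Type*} [Group L] [Finite L] {V : Type*} [CommGroup V] [Finite V] {ρ : L →* MulAut V}

/-- the four-groups of the Sylow 2-subgroup `S` -/
structure Pr (ρ : L →* MulAut V) (S : Sylow 2 L) (C B : Subgroup L) : Prop where
  ax : Ax ρ C
  le : C ≤ S
  par : Par ρ S C B
  nax : ¬ Ax ρ B

theorem not_ax (h : Mod ρ) (hi : ∀ a : L, a ≠ 1 → a * a = 1 → (fx ρ a).index ≤ 4) {S : Sylow 2 L}
    {C B : Subgroup L} (hC : Ax ρ C) (hCS : C ≤ S) (hB : Par ρ S C B) : ¬ Ax ρ B := by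
  intro hB'
  obtain ⟨C', hC'⟩ := FFThree.par h.l32 S hB'.four hB.le hB'.fix
  have hCC : C' = C := by
    rcases hB.only C' hC'.four hC'.le with h1 | h1
    · exact h1
    · exact absurd h1.symm hC'.ne
  subst hCC
  have h1 : CS ρ (S : Subgroup L) ≤ CS ρ ⊤ := by
    intro v hv
    rw [mem_CS_iff, ← hB.gen]
    refine sup_le ?_ ?_
    · exact fun x hx => hC'.cent x hx v hv
    · exact fun x hx => hB.cent x hx v hv
  have h2 : (CS ρ (⊤ : Subgroup L)).index ≤ (CS ρ (S : Subgroup L)).index := index_le_of_le h1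
  obtain ⟨a, ha, ha1, -⟩ := hB'.four.exists_third 1
  have h3 := hB'.fix a ha ha1
  have h4 := hi a ha1 (hB'.four.sq a ha)
  rw [h3, ← hB.fix] at h4
  have h5 := h.top_le
  omega

/-- two four-groups of a Sylow 2-subgroup with `fx a = CS C` coincide -/
theorem ax_unique (h : Mod ρ) (hi : ∀ a : L, a ≠ 1 → a * a = 1 → (fx ρ a).index ≤ 4) (S : Sylow 2 L)
    {C C' : Subgroup L} (hC : Ax ρ C) (hCS : C ≤ S) (hC' : Ax ρ C') (hCS' : C' ≤ S) : C' = C := by
  obtain ⟨B, hB⟩ := FFThree.par h.l32 S hC.four hCS hC.fix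
  rcases hB.only C' hC'.four hCS' with h1 | h1
  · exact h1
  · exfalso
    rw [h1] at hC'
    exact not_ax h hi hC hCS hB hC'

theorem exists_pr (h : Mod ρ) {A : Subgroup L} (hA : BO ρ A) (hA1 : A ≠ ⊥) (S : Sylow 2 L) (hAS : A ≤ S) :
    ∃ C B : Subgroup L, Pr ρ S C B := by
  obtain ⟨C, -, hC, hCS, -⟩ := exists_ax h hA hA1 S hAS
  obtain ⟨B, hB⟩ := FFThree.par h.l32 S hC.four hCS hC.fix
  exact ⟨C, B, hC, hCS, hB, not_ax h (fun a ha1 ha => index_le h hA hA1 ha1 ha) hC hCS hB⟩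

theorem isFour_map {C : Subgroup L} (hC : IsFour C) {K : Type*} [Group K] (f : L →* K) (hf : Function.Injective f) :
    IsFour (C.map f) := by
  refine ⟨?_, ?_⟩
  · rw [Subgroup.card_map_of_injective hf]
    exact hC.card
  · rintro _ ⟨x, hx, rfl⟩
    rw [← map_mul, hC.sq x hx, map_one]

theorem CS_map_conj (g : L) (C : Subgroup L) :
    CS ρ (C.map (MulAut.conj g).toMonoidHom) = (CS ρ C).map (ρ g : V ≃* V).toMonoidHom := by
  ext v
  constructor
  · intro hv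
    refine ⟨ρ g⁻¹ v, ?_, ?_⟩
    · intro c hc
      have h1 := hv _ (Subgroup.mem_map_of_mem (MulAut.conj g).toMonoidHom hc)
      have h2 : ρ (g * c * g⁻¹) v = v := h1
      have h3 := congrArg (ρ g⁻¹) h2
      rw [← MulAut.mul_apply, ← map_mul] at h3
      rw [← MulAut.mul_apply, ← map_mul]
      have e : g⁻¹ * (g * c * g⁻¹) = c * g⁻¹ := by group
      rw [e] at h3
      exact h3
    · change ρ g (ρ g⁻¹ v) = v
      rw [← MulAut.mul_apply, ← map_mul, mul_inv_cancel, map_one]; rfl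
  · rintro ⟨w, hw, rfl⟩
    rintro _ ⟨c, hc, rfl⟩
    change ρ (g * c * g⁻¹) (ρ g w) = ρ g w
    rw [← MulAut.mul_apply, ← map_mul]
    have e : g * c * g⁻¹ * g = g * c := by group
    rw [e, map_mul, MulAut.mul_apply, hw c hc]

theorem ax_map {C : Subgroup L} (hC : Ax ρ C) (g : L) : Ax ρ (C.map (MulAut.conj g).toMonoidHom) := by
  refine ⟨isFour_map hC.four _ (MulAut.conj g).injective, ?_⟩
  rintro _ ⟨a, ha, rfl⟩ ha1
  have ha1' : a ≠ 1 := by
    rintro rfl
    exact ha1 (map_one _)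
  rw [CS_map_conj, ← hC.fix a ha ha1']
  exact fx_conj ρ g a

/-- a normaliser of a four-group has order 24 -/
theorem dvd_card_of (h : L32 L) (S : Sylow 2 L) {K : Subgroup L}
    (hSK : (S : Subgroup L) ≤ K) {y : L} (hy : orderOf y = 3) (hyK : y ∈ K) : 24 ∣ Nat.card K := by
  have h8 : 8 ∣ Nat.card K := by
    have h2 := Subgroup.card_dvd_of_le hSK
    change Nat.card S ∣ _ at h2
    rwa [card_sylow h S] at h2
  have h3 : 3 ∣ Nat.card K := by
    rw [← hy, ← Subgroup.orderOf_mk y hyK]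
    exact orderOf_dvd_natCard _
  exact Nat.Coprime.mul_dvd_of_dvd_of_dvd (by norm_num : Nat.Coprime 8 3) h8 h3

theorem card_or (h : L32 L) {K : Subgroup L} (h24 : 24 ∣ Nat.card K) : Nat.card K = 24 ∨ K = ⊤ := by
  obtain ⟨k, hk⟩ := h24
  obtain ⟨j, hj⟩ : Nat.card K ∣ 168 := by rw [← h.card]; exact K.card_subgroup_dvd_card
  have hkj : k * j = 7 := by
    rw [hk] at hj
    have h1 : 24 * (k * j) = 24 * 7 := by rw [← mul_assoc, ← hj]
    exact Nat.eq_of_mul_eq_mul_left (by norm_num) h1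
  rcases (Nat.dvd_prime (by norm_num)).1 (⟨j, hkj.symm⟩ : k ∣ 7) with rfl | rfl
  · left; omega
  · right
    apply Subgroup.eq_top_of_card_eq
    rw [hk, h.card]

theorem orderOf_three {y z a : L} (hy3 : y * y * y = 1) (hy1 : y * z * y⁻¹ = a) (hne : z ≠ a) : orderOf y = 3 := by
  have hy1' : y ≠ 1 := by
    rintro rfl
    rw [one_mul, inv_one, mul_one] at hy1
    exact hne hy1
  have : Fact (Nat.Prime 3) := ⟨Nat.prime_three⟩
  exact orderOf_eq_prime (by rw [pow_succ, pow_two]; exact hy3) hy1'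

/-- a four-group is not normal -/
theorem normalizer_ne_top (h : L32 L) (S : Sylow 2 L) {A : Subgroup L} (hA : IsFour A) (hAS : A ≤ S) :
    normalizer (A : Set L) ≠ ⊤ := by
  intro htop
  have hn : A.Normal := normalizer_eq_top_iff.1 htop
  obtain ⟨z, a, b, hza, hzb, rfl, hBT, hab, hAB, hsup, honly, hgen⟩ := exists_other h S hA hAS
  have hzA : z ∈ hza.sub := Or.inr (Or.inl rfl)
  obtain ⟨g, hg⟩ := h.conj z b hza.a1 hza.aa hzb.b1 hzb.bb
  have hb : b ∈ hza.sub := by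
    rw [← hg]
    exact hn.conj_mem z hzA g
  apply hAB
  symm
  apply (isFour_sub hzb).eq_of_le hA
  rintro x (rfl | rfl | rfl | rfl)
  · exact one_mem _
  · exact hzA
  · exact hb
  · exact mul_mem hzA hb

theorem card_normalizer (h : L32 L) (S : Sylow 2 L) {A : Subgroup L} (hA : IsFour A) (hAS : A ≤ S) :
    Nat.card (normalizer (A : Set L)) = 24 := by
  obtain ⟨s, hs, t, ht, hst, hmem⟩ := hA.exists_four
  obtain ⟨y, hyN, hy3, hy1, -⟩ := fuse_mem h hst hmem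
  rcases card_or h (dvd_card_of h S (sylow_le_normalizer h S hA hAS) (orderOf_three hy3 hy1 hst.ne) hyN) with h1 | h1
  · exact h1
  · exact absurd h1 (normalizer_ne_top h S hA hAS)

theorem Pr.sup_eq (h : Mod ρ) {S : Sylow 2 L} {C B : Subgroup L} (hp : Pr ρ S C B) : C ⊔ B = S := by
  obtain ⟨z, a, b, hza, hzb, hC, hBT, hab, hAB, hsup, honly, hgen⟩ := exists_other h.l32 S hp.ax.four hp.le
  have : hzb.sub = B := by
    rcases hp.par.only _ (isFour_sub hzb) hBT with h1 | h1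
    · exact absurd h1.symm hAB
    · exact h1
  rw [← this]; exact hsup

/-- the frame: `C = ⟨z, a⟩`, `B = ⟨z, b⟩` -/
theorem Pr.exists_frame (h : Mod ρ) {S : Sylow 2 L} {C B : Subgroup L} (hp : Pr ρ S C B) :
    ∃ z a b : L, ∃ hza : Four z a, ∃ hzb : Four z b, C = hza.sub ∧ B = hzb.sub := by
  obtain ⟨z, a, b, hza, hzb, hC, hBT, hab, hAB, hsup, honly, hgen⟩ := exists_other h.l32 S hp.ax.four hp.le
  refine ⟨z, a, b, hza, hzb, hC, ?_⟩
  rcases hp.par.only _ (isFour_sub hzb) hBT with h1 | h1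
  · exact absurd h1.symm hAB
  · exact h1.symm

/-- a four-group `C` with `fx a = CS C` is normalised by no other conjugate of it -/
theorem not_le_normalizer (h : Mod ρ) (hi : ∀ a : L, a ≠ 1 → a * a = 1 → (fx ρ a).index ≤ 4) {C C' : Subgroup L}
    (hC : Ax ρ C) (hC' : Ax ρ C') (hle : C' ≤ normalizer (C : Set L)) : C' = C := by
  have : Fact (Nat.Prime 2) := ⟨Nat.prime_two⟩
  have h1 : IsPGroup 2 C := IsPGroup.of_card (n := 2) (by rw [hC.four.card]; norm_num)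
  have h2 : IsPGroup 2 C' := IsPGroup.of_card (n := 2) (by rw [hC'.four.card]; norm_num)
  have h3 : IsPGroup 2 (C ⊔ C' : Subgroup L) := IsPGroup.to_sup_of_normal_left' h1 h2 hle
  obtain ⟨S, hS⟩ := h3.exists_le_sylow
  exact ax_unique h hi S hC (le_sup_left.trans hS) hC' (le_sup_right.trans hS)

/-- the elements acting trivially on `W` -/
def ctr (ρ : L →* MulAut V) (W : Subgroup V) : Subgroup L where
  carrier := {x | ∀ v ∈ W, ρ x v = v}
  mul_mem' := fun {x y} hx hy v hv => by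
    rw [map_mul, MulAut.mul_apply, hy v hv, hx v hv]
  one_mem' := fun v _ => by rw [map_one]; rfl
  inv_mem' := fun {x} hx v hv => fx_inv ρ (hx v hv)

theorem mem_ctr {W : Subgroup V} {x : L} : x ∈ ctr ρ W ↔ ∀ v ∈ W, ρ x v = v := Iff.rfl

theorem normalizer_map {C : Subgroup L} {x g : L} (hx : x ∈ normalizer (C : Set L)) :
    g * x * g⁻¹ ∈ normalizer ((C.map (MulAut.conj g).toMonoidHom : Subgroup L) : Set L) := by
  have key : ∀ x : L, x ∈ normalizer (C : Set L) → ∀ c ∈ C.map (MulAut.conj g).toMonoidHom,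
      (g * x * g⁻¹) * c * (g * x * g⁻¹)⁻¹ ∈ C.map (MulAut.conj g).toMonoidHom := by
    rintro x hx _ ⟨c, hc, rfl⟩
    refine ⟨x * c * x⁻¹, mem_normalizer_conj hx hc, ?_⟩
    change g * (x * c * x⁻¹) * g⁻¹ = (g * x * g⁻¹) * (g * c * g⁻¹) * (g * x * g⁻¹)⁻¹
    group
  rw [mem_normalizer_iff]
  intro c
  refine ⟨key x hx c, fun hc => ?_⟩
  have h1 := key x⁻¹ (inv_mem hx) _ hc
  have e : (g * x⁻¹ * g⁻¹) * ((g * x * g⁻¹) * c * (g * x * g⁻¹)⁻¹) * (g * x⁻¹ * g⁻¹)⁻¹ = c := by group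
  rwa [e] at h1

theorem CS_inf_le (h : Mod ρ) (hi : ∀ a : L, a ≠ 1 → a * a = 1 → (fx ρ a).index ≤ 4) {S : Sylow 2 L}
    {C B : Subgroup L} (hp : Pr ρ S C B) {z a b : L} {hza : Four z a} {hzb : Four z b} (hC : C = hza.sub)
    (hB : B = hzb.sub) {y : L} (hy1 : y * z * y⁻¹ = b)
    (hall : ∀ x ∈ normalizer (C : Set L), x * x * x = 1 → ∀ v ∈ CS ρ C, ρ x v = v) :
    CS ρ C ⊓ CS ρ (C.map (MulAut.conj y).toMonoidHom) ≤ CS ρ ⊤ := by
  set C₂ := C.map (MulAut.conj y).toMonoidHom with hC₂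
  set K := ctr ρ (CS ρ C ⊓ CS ρ C₂) with hK
  have hCK : C ≤ K := fun x hx v hv => hv.1 x hx
  have hC₂K : C₂ ≤ K := fun x hx v hv => hv.2 x hx
  have hzC : z ∈ C := by rw [hC]; exact Or.inr (Or.inl rfl)
  have hbC₂ : b ∈ C₂ := ⟨z, hzC, hy1⟩
  have hBK : B ≤ K := by
    rw [hB]
    rintro x (rfl | rfl | rfl | rfl)
    · exact one_mem _
    · exact hCK hzC
    · exact hC₂K hbC₂
    · exact mul_mem (hCK hzC) (hC₂K hbC₂)
  have hSK : (S : Subgroup L) ≤ K := by
    rw [← hp.sup_eq h]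
    exact sup_le hCK hBK
  have hSN := sylow_le_normalizer h.l32 S hp.ax.four hp.le
  obtain ⟨y1, hyN, hy3, hy11, -⟩ := fuse_mem h.l32 (A := C) hza (by rw [hC]; exact fun x => mem_sub hza)
  have hyK : y1 ∈ K := fun v hv => hall y1 hyN hy3 v hv.1
  have ho := orderOf_three hy3 hy11 hza.ne
  rcases card_or h.l32 (dvd_card_of h.l32 S hSK ho hyK) with h1 | h1
  · exfalso
    have h2 : 24 ∣ Nat.card (normalizer (C : Set L) ⊓ K : Subgroup L) :=
      dvd_card_of h.l32 S (le_inf hSN hSK) ho (mem_inf.2 ⟨hyN, hyK⟩)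
    have h3 : normalizer (C : Set L) ⊓ K = K := by
      apply Subgroup.eq_of_le_of_card_ge inf_le_right
      rw [h1]
      exact Nat.le_of_dvd Nat.card_pos h2
    have h4 : C₂ ≤ normalizer (C : Set L) := (hC₂K.trans h3.ge).trans inf_le_left
    have h5 := not_le_normalizer h hi hp.ax (ax_map hp.ax y) h4
    apply hp.par.ne
    symm
    apply hp.par.four.eq_of_le hp.ax.four
    rw [hB]
    rw [← hC₂] at h5
    rw [h5] at hbC₂
    rintro x (rfl | rfl | rfl | rfl)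
    · exact one_mem _
    · exact hzC
    · exact hbC₂
    · exact mul_mem hzC hbC₂
  · intro v hv x _
    have : x ∈ K := by rw [h1]; trivial
    exact this v hv

theorem CS_inf_le_map {C D : Subgroup L} (g : L) (h : CS ρ C ⊓ CS ρ D ≤ CS ρ ⊤) :
    CS ρ (C.map (MulAut.conj g).toMonoidHom) ⊓ CS ρ (D.map (MulAut.conj g).toMonoidHom) ≤ CS ρ ⊤ := by
  rw [CS_map_conj, CS_map_conj]
  rintro v ⟨⟨w, hw, hwv⟩, ⟨w', hw', hwv'⟩⟩
  have e : w = w' := (ρ g).injective (hwv.trans hwv'.symm)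
  subst e
  have h1 : w ∈ CS ρ ⊤ := h ⟨hw, hw'⟩
  have h2 : v = w := by rw [← hwv]; exact h1 g (mem_top g)
  rw [h2]; exact h1

/-- **the alternative**: few fixed points, or an element of order 3 moves them -/
theorem alt (h : Mod ρ) (hi : ∀ a : L, a ≠ 1 → a * a = 1 → (fx ρ a).index ≤ 4) {S : Sylow 2 L}
    {C B : Subgroup L} (hp : Pr ρ S C B) (h4 : (CS ρ C).index = 4) :
    Nat.card (CS ρ C) ≤ 2 * Nat.card (CS ρ ⊤) ∨
      ∃ x ∈ normalizer (C : Set L), x * x * x = 1 ∧ ∃ v ∈ CS ρ C, ρ x v ≠ v := by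
  by_contra hcon
  push Not at hcon
  obtain ⟨hcard, hall⟩ := hcon
  obtain ⟨z, a, b, hza, hzb, hC, hB⟩ := hp.exists_frame h
  obtain ⟨y, hy3, hy1, hy2⟩ := h.l32.fuse z b hzb
  set C₂ := C.map (MulAut.conj y).toMonoidHom with hC₂
  set C₃ := C₂.map (MulAut.conj y).toMonoidHom with hC₃
  have h12 : CS ρ C ⊓ CS ρ C₂ ≤ CS ρ ⊤ := CS_inf_le h hi hp hC hB hy1 hall
  have h23 : CS ρ C₂ ⊓ CS ρ C₃ ≤ CS ρ ⊤ := CS_inf_le_map y h12
  have h31 : CS ρ C₃ ⊓ CS ρ C ≤ CS ρ ⊤ := by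
    have h34 := CS_inf_le_map y h23
    have e : C₃.map (MulAut.conj y).toMonoidHom = C := by
      rw [hC₃, hC₂, Subgroup.map_map, Subgroup.map_map]
      have e1 : (((MulAut.conj y).toMonoidHom.comp (MulAut.conj y).toMonoidHom).comp (MulAut.conj y).toMonoidHom :
          L →* L) = MonoidHom.id L := by
        ext x
        change y * (y * (y * x * y⁻¹) * y⁻¹) * y⁻¹ = x
        have : y * (y * (y * x * y⁻¹) * y⁻¹) * y⁻¹ = (y * y * y) * x * (y * y * y)⁻¹ := by group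
        rw [this, hy3]; group
      have e2 : ((MulAut.conj y).toMonoidHom.comp ((MulAut.conj y).toMonoidHom.comp (MulAut.conj y).toMonoidHom) :
          L →* L) = MonoidHom.id L := by
        rw [← e1]; rfl
      first
        | rw [e2, Subgroup.map_id]
        | rw [e1, Subgroup.map_id]
    rw [e] at h34
    rw [← hC₃] at h34
    exact h34
  -- indices
  obtain ⟨d, hd⟩ := index_pow h.sq (CS ρ ⊤)
  have hV := (CS ρ C).card_mul_index
  have hV' := (CS ρ (⊤ : Subgroup L)).card_mul_index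
  have hi2 : ∀ g : L, ∀ D : Subgroup L, (CS ρ D).index = 4 →
      (CS ρ (D.map (MulAut.conj g).toMonoidHom)).index = 4 := by
    intro g D hD
    rw [CS_map_conj, FFBasic.index_map, hD]
  have hpos : 0 < Nat.card (CS ρ (⊤ : Subgroup L)) := Nat.card_pos
  have h16 : 16 ≤ (CS ρ (⊤ : Subgroup L)).index := by
    rw [h4] at hV
    have h1 : 8 < (CS ρ (⊤ : Subgroup L)).index := by
      by_contra hc
      push Not at hc
      have h2 : Nat.card (CS ρ (⊤ : Subgroup L)) * (CS ρ (⊤ : Subgroup L)).index ≤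
          Nat.card (CS ρ (⊤ : Subgroup L)) * 8 := Nat.mul_le_mul_left _ hc
      rw [hV'] at h2
      omega
    rw [hd] at h1 ⊢
    have h2 : 3 < d := by
      by_contra hc
      push Not at hc
      have : 2 ^ d ≤ 2 ^ 3 := Nat.pow_le_pow_right (by norm_num) hc
      omega
    calc 16 = 2 ^ 4 := by norm_num
      _ ≤ 2 ^ d := Nat.pow_le_pow_right (by norm_num) h2
  have hsup : ∀ D E : Subgroup L, (CS ρ D).index = 4 → (CS ρ E).index = 4 → CS ρ D ⊓ CS ρ E ≤ CS ρ ⊤ →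
      CS ρ D ⊔ CS ρ E = ⊤ := by
    intro D E hD hE hDE
    apply Subgroup.eq_top_of_card_eq
    apply le_antisymm (Subgroup.card_le_card_group _)
    have h1 := card_sup_mul (CS ρ D) (CS ρ E)
    have h2 : Nat.card (CS ρ D ⊓ CS ρ E : Subgroup V) ≤ Nat.card (CS ρ (⊤ : Subgroup L)) :=
      Subgroup.card_le_of_le hDE
    have h3 := (CS ρ D).card_mul_index
    have h5 := (CS ρ E).card_mul_index
    rw [hD] at h3
    rw [hE] at h5
    have h6 : Nat.card (CS ρ (⊤ : Subgroup L)) * 16 ≤ Nat.card V := by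
      rw [← hV']
      exact Nat.mul_le_mul_left _ h16
    have h7 : Nat.card (CS ρ D) * Nat.card (CS ρ E) ≤
        Nat.card (CS ρ D ⊔ CS ρ E : Subgroup V) * Nat.card (CS ρ (⊤ : Subgroup L)) := by
      rw [← h1]; exact Nat.mul_le_mul_left _ h2
    have h8 : Nat.card V * Nat.card V ≤ Nat.card (CS ρ D ⊔ CS ρ E : Subgroup V) * Nat.card V := by
      calc Nat.card V * Nat.card V = 16 * (Nat.card (CS ρ D) * Nat.card (CS ρ E)) := by
            nth_rewrite 1 [← h3]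
            nth_rewrite 1 [← h5]
            ring
        _ ≤ 16 * (Nat.card (CS ρ D ⊔ CS ρ E : Subgroup V) * Nat.card (CS ρ (⊤ : Subgroup L))) :=
            Nat.mul_le_mul_left _ h7
        _ = Nat.card (CS ρ D ⊔ CS ρ E : Subgroup V) * (Nat.card (CS ρ (⊤ : Subgroup L)) * 16) := by ring
        _ ≤ _ := Nat.mul_le_mul_left _ h6
    exact Nat.le_of_mul_le_mul_right h8 Nat.card_pos
  have hzC : z ∈ C := by rw [hC]; exact Or.inr (Or.inl rfl)
  have hbb := hzb.bb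
  have hBN : B ≤ normalizer (C : Set L) := hp.par.le.trans (sylow_le_normalizer h.l32 S hp.ax.four hp.le)
  have hbN : b ∈ normalizer (C : Set L) := hBN (by rw [hB]; exact Or.inr (Or.inr (Or.inl rfl)))
  have hzbN : z * b ∈ normalizer (C : Set L) := hBN (by rw [hB]; exact Or.inr (Or.inr (Or.inr rfl)))
  have hyzb : y * (z * b) * y⁻¹ = z := by
    have : y * (z * b) * y⁻¹ = (y * z * y⁻¹) * (y * b * y⁻¹) := by group
    rw [this, hy1, hy2, ← mul_assoc, ← hzb.comm, mul_assoc, hbb, mul_one]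
  have hzN₂ : z ∈ normalizer (C₂ : Set L) := by
    have := normalizer_map (g := y) hzbN
    rwa [hyzb] at this
  have hzN₃ : z ∈ normalizer (C₃ : Set L) := by
    have h1 := normalizer_map (g := y) hbN
    rw [hy2] at h1
    have h2 := normalizer_map (g := y) h1
    rwa [hyzb] at h2
  have hcm : ∀ D : Subgroup L, CS ρ C ⊔ CS ρ D = ⊤ → z ∈ normalizer (D : Set L) → ∀ v, cm ρ z v ∈ CS ρ D := by
    intro D hD hzD v
    have hv : v ∈ CS ρ C ⊔ CS ρ D := by rw [hD]; trivial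
    obtain ⟨w, hw, w', hw', rfl⟩ := Subgroup.mem_sup.1 hv
    have e1 : cm ρ z w = 1 := by
      rw [cm_apply, hw z hzC, mul_inv_cancel]
    rw [map_mul, e1, one_mul]
    exact mul_mem (CS_stable hzD hw') (inv_mem hw')
  have hz : ∀ v, cm ρ z v ∈ CS ρ ⊤ := by
    intro v
    apply h23
    refine ⟨hcm C₂ (hsup C C₂ h4 (hi2 y C h4) h12) hzN₂ v, hcm C₃ ?_ hzN₃ v⟩
    rw [sup_comm]
    exact hsup C₃ C (hi2 y C₂ (hi2 y C h4)) h4 h31
  have hinv : ∀ x : L, x ≠ 1 → x * x = 1 → ∀ v, cm ρ x v ∈ CS ρ ⊤ := by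
    intro x hx hxx v
    obtain ⟨g, rfl⟩ := h.l32.conj z x hza.a1 hza.aa hx hxx
    have h1 := hz (ρ g⁻¹ v)
    have h2 : cm ρ (g * z * g⁻¹) v = ρ g (cm ρ z (ρ g⁻¹ v)) := by
      rw [cm_apply, cm_apply, map_mul (ρ g), map_inv (ρ g), ← MulAut.mul_apply, ← MulAut.mul_apply,
        ← MulAut.mul_apply, ← map_mul, ← map_mul, ← map_mul, mul_inv_cancel, map_one, MulAut.one_apply]
    rw [h2, h1 g (mem_top g)]
    exact h1
  obtain ⟨w, b', c, hw, hw1, hb, hb1, hc, hc1, hu, -⟩ := h.l32.gen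
  have hmul : ∀ x y : L, (∀ v, cm ρ x v ∈ CS ρ ⊤) → (∀ v, cm ρ y v ∈ CS ρ ⊤) → ∀ v, cm ρ (x * y) v ∈ CS ρ ⊤ := by
    intro x y hx hy v
    have : cm ρ (x * y) v = cm ρ x (ρ y v) * cm ρ y v := by
      rw [cm_apply, cm_apply, cm_apply, map_mul, MulAut.mul_apply]
      group
    rw [this]
    exact mul_mem (hx _) (hy _)
  have hu' := hmul _ _ (hmul _ _ (hinv b' hb1 hb) (hinv c hc1 hc)) (hinv w hw1 hw)
  have htop : fx ρ (b' * c * w) = ⊤ := by
    rw [eq_top_iff]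
    intro v _
    have h1 : cm ρ (b' * c * w) v = 1 :=
      eq_one_of_fix h.sq (by rw [hu]; decide) ⟨v, rfl⟩ (hu' v _ (mem_top _))
    rw [cm_apply, mul_inv_eq_one] at h1
    exact h1
  have h7 := h.seven_le hu
  rw [htop, Subgroup.index_top] at h7
  omega

end Cfsg.Agent.OddCyclic.RedSevenA
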