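import Mathlib
import Cfsg.Prelude.Def_Local
import Cfsg.Agent.OddCyclic.T1Defs
import Cfsg.Agent.OddCyclic.T1SzComp
import Cfsg.Agent.OddCyclic.CompBasic
import Cfsg.Agent.Schreier.Basic
import Cfsg.Agent.Lib.Cores
import Cfsg.Agent.Lib.GenFitting
import Cfsg.Agent.LieExceptional.CITSylow
import Cfsg.Agent.SignalizersComponents.CompBasic
import Cfsg.Agent.SignalizersComponents.Components

/-!
# (I1): finite groups with cyclic odd Sylow subgroups, `O₂ = 1` and tame simple sections

`Tame K`: perfect groups of automorphisms of `K` are inner, and commutators with automorphisms of 2-power order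
are inner. `H` is a finite group with `OddCyc H`, `pCore 2 H = ⊥`, `TameSec H`.

* `simple`, `normal`, `eq_of_dvd`: the components are simple, normal in `H`, of orders with coprime odd parts;
* `perfect_le_layer`: perfect subgroups lie in the layer;
* `comm_mem`: `[x, s] ∈ F*(H)` for every 2-element `s`;
* `mem_or`: an element of odd prime order of `F*(H)` lies in a component, or it generates a normal subgroup;
* `le_component`: `D` perfect, `D/O₂(D)` simple, lies in a component.
-/

set_option autoImplicit false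

namespace Cfsg.Agent.OddCyclic.UniStruct

open Subgroup Cfsg
open scoped commutatorElement
open Cfsg.Agent.OddCyclic.T1Defs (OddCyc)
open Cfsg.Agent.OddCyclic.CompBasic
open Cfsg.Agent.SignalizersComponents.Components
open Cfsg.Agent.Schreier.Basic (Sch map_perfect)

universe u

/-- what is used of the simple sections -/
structure Tame (K : Type*) [Group K] : Prop where
  sch : Sch K
  com : ∀ x s : MulAut K, (∃ n : ℕ, s ^ 2 ^ n = 1) →
    x * s * x⁻¹ * s⁻¹ ∈ (MulAut.conj : K →* MulAut K).range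

theorem Tame.congr {K L : Type*} [Group K] [Group L] (e : K ≃* L) (h : Tame K) : Tame L := by
  refine ⟨h.sch.of_equiv e, fun x s ⟨n, hn⟩ => ?_⟩
  let E : MulAut L ≃* MulAut K := MulAut.congr e.symm
  have h1 := h.com (E x) (E s) ⟨n, by rw [← map_pow, hn, map_one]⟩
  rw [← map_mul, ← map_inv, ← map_mul, ← map_inv, ← map_mul] at h1
  obtain ⟨k, hk⟩ := h1
  refine ⟨e k, ?_⟩
  ext y
  have h3 := DFunLike.congr_fun hk (e.symm y)
  have h4 : ∀ φ : MulAut L, (E φ) (e.symm y) = e.symm (φ y) := by
    intro φ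
    simp [E, MulAut.congr]
  rw [h4, MulAut.conj_apply] at h3
  rw [MulAut.conj_apply]
  have h5 := congrArg e h3
  simpa using h5

/-- all simple non-abelian sections are tame -/
def TameSec (H : Type*) [Group H] : Prop :=
  ∀ (A : Subgroup H) (N : Subgroup A) [N.Normal], IsSimpleGroup (A ⧸ N) →
    (∃ a b : A ⧸ N, a * b ≠ b * a) → Tame (A ⧸ N)

theorem TameSec.quot {H : Type*} [Group H] {N : Subgroup H} [N.Normal] (hK : TameSec H) : TameSec (H ⧸ N) := by
  intro A B hB hs hab
  let A' : Subgroup H := A.comap (QuotientGroup.mk' N)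
  let φ : A' →* A := ((QuotientGroup.mk' N).comp A'.subtype).codRestrict A fun a => a.2
  have hφ : Function.Surjective φ := by
    rintro ⟨a, ha⟩
    obtain ⟨g, rfl⟩ := QuotientGroup.mk'_surjective N a
    exact ⟨⟨g, ha⟩, rfl⟩
  let ψ : A' →* A ⧸ B := (QuotientGroup.mk' B).comp φ
  have hψ : Function.Surjective ψ := (QuotientGroup.mk'_surjective B).comp hφ
  let e : A' ⧸ ψ.ker ≃* A ⧸ B := QuotientGroup.quotientKerEquivOfSurjective ψ hψ
  have hs' : IsSimpleGroup (A' ⧸ ψ.ker) := e.isSimpleGroup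
  have hab' : ∃ a b : A' ⧸ ψ.ker, a * b ≠ b * a := by
    obtain ⟨a, b, hab⟩ := hab
    refine ⟨e.symm a, e.symm b, fun h => hab ?_⟩
    rw [← map_mul, ← map_mul] at h
    exact e.symm.injective h
  exact Tame.congr e (hK A' ψ.ker hs' hab')

theorem TameSec.of_injective {A H : Type*} [Group A] [Group H] {f : A →* H} (hf : Function.Injective f)
    (hK : TameSec H) : TameSec A := by
  intro B N hN hs hab
  let e₀ : B ≃* B.map f := B.equivMapOfInjective f hf
  let N' : Subgroup (B.map f) := N.map e₀.toMonoidHom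
  have hN' : N'.Normal := hN.map _ e₀.surjective
  let e : B ⧸ N ≃* (B.map f) ⧸ N' := QuotientGroup.congr N N' e₀ rfl
  have hs' : IsSimpleGroup ((B.map f) ⧸ N') := e.symm.isSimpleGroup
  have hab' : ∃ a b : (B.map f) ⧸ N', a * b ≠ b * a := by
    obtain ⟨a, b, hab⟩ := hab
    refine ⟨e a, e b, fun h => hab ?_⟩
    rw [← map_mul, ← map_mul] at h
    exact e.injective h
  exact Tame.congr e.symm (hK (B.map f) N' hs' hab')

theorem TameSec.subgroup {H : Type*} [Group H] (hK : TameSec H) (A : Subgroup H) : TameSec A :=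
  hK.of_injective A.subtype_injective

variable {H : Type u} [Group H] [Finite H]

/-! ### Components -/

theorem center_eq_bot (hO : pCore 2 H = ⊥) (hc : OddCyc H) {E : Subgroup H} (hE : IsComponent E) :
    center E = ⊥ := by
  rw [eq_bot_iff]
  intro z hz
  rw [mem_bot]
  by_contra hz1
  obtain ⟨p, hp, hpz⟩ := Nat.exists_prime_and_dvd (fun h => hz1 (orderOf_eq_one_iff.1 h) : orderOf z ≠ 1)
  have : Fact p.Prime := ⟨hp⟩
  obtain ⟨y, hy, hyo⟩ : ∃ y ∈ center E, orderOf y = p := by
    refine ⟨z ^ (orderOf z / p), pow_mem hz _, ?_⟩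
    exact orderOf_pow_orderOf_div (orderOf_pos z).ne' hpz
  have hy1 : y ≠ 1 := by
    intro h
    rw [h, orderOf_one] at hyo
    exact hp.one_lt.ne hyo
  by_cases h2 : p = 2
  · subst h2
    have hn : (zpowers y).Normal := by
      refine ⟨?_⟩
      rintro _ ⟨k, rfl⟩ g
      have h1 : y ^ k ∈ center E := zpow_mem hy k
      have h2 := mem_center_iff.1 h1 g
      simp only [h2, mul_inv_cancel_right]
      exact ⟨k, rfl⟩
    have hsub : ((zpowers y).map E.subtype).IsSubnormal := (hn.isSubnormal).trans' hE.1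
    have h2g : IsPGroup 2 (zpowers y) := IsPGroup.of_card (n := 1) (by rw [Nat.card_zpowers, hyo, pow_one])
    have hle := SignalizersComponents.CompBasic.subnormal_pGroup_le_pCore hsub (h2g.map E.subtype)
    rw [hO, le_bot_iff, map_eq_bot_iff_of_injective _ E.subtype_injective, zpowers_eq_bot] at hle
    exact hy1 hle
  · exact false_of_center (oddCyc_subgroup hc E) hE.2.1 hp h2 hy hyo

theorem simple (hO : pCore 2 H = ⊥) (hc : OddCyc H) {E : Subgroup H} (hE : IsComponent E) :
    IsSimpleGroup E := by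
  have hs : IsSimpleGroup (E ⧸ center E) := hE.2.2
  exact ((QuotientGroup.quotientMulEquivOfEq (center_eq_bot hO hc hE)).trans
    QuotientGroup.quotientBot).symm.isSimpleGroup

theorem tame (hO : pCore 2 H = ⊥) (hc : OddCyc H) (hK : TameSec H) {E : Subgroup H} (hE : IsComponent E) :
    Tame E := by
  have h1 := hK E (center E) hE.2.2 (T1SzComp.not_comm_of_component hE)
  exact h1.congr ((QuotientGroup.quotientMulEquivOfEq (center_eq_bot hO hc hE)).trans
    QuotientGroup.quotientBot)

omit [Finite H] in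
/-- a perfect non-trivial finite group has order divisible by an odd prime -/
theorem exists_odd_prime {D : Subgroup H} [Finite D] (hD : ⁅D, D⁆ = D) (hD1 : D ≠ ⊥) :
    ∃ p, p.Prime ∧ p ≠ 2 ∧ p ∣ Nat.card D := by
  by_contra hcon
  push Not at hcon
  have : Fact (Nat.Prime 2) := ⟨Nat.prime_two⟩
  have h1 : IsPGroup 2 D := by
    refine IsPGroup.iff_orderOf.2 fun g => ?_
    have h2 : ∀ {q : ℕ}, q.Prime → q ∣ orderOf g → q = 2 := by
      intro q hq hqg
      by_contra hq2
      exact hcon q hq hq2 (hqg.trans (orderOf_dvd_natCard g))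
    exact ⟨_, Nat.eq_prime_pow_of_unique_prime_dvd (orderOf_pos g).ne' h2⟩
  have h2 : Group.IsNilpotent D := h1.isNilpotent
  exact hD1 (Schreier.Basic.eq_bot_of_perfect_of_solvable hD inferInstance)

theorem eq_of_dvd (hc : OddCyc H) {K L : Subgroup H} (hK : IsComponent K) (hL : IsComponent L) {p : ℕ}
    (hp : p.Prime) (hp2 : p ≠ 2) (hpK : p ∣ Nat.card K) (hpL : p ∣ Nat.card L) : K = L := by
  by_contra hne
  have h1 := component_le_centralizer_of_ne hK hL hne
  exact false_of_commute hc hK.2 (fun x hx y hy => (mem_centralizer_iff.1 (h1 hx) y hy).symm) hp hp2 hpK hpL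

theorem normal (hc : OddCyc H) {K : Subgroup H} (hK : IsComponent K) : K.Normal := by
  obtain ⟨p, hp, hp2, hpK⟩ := exists_odd_prime (component_commutator_self hK) (component_ne_bot hK)
  refine ⟨fun k hk g => ?_⟩
  have h1 := eq_of_dvd hc (isComponent_conj g hK) hK hp hp2 (by
    rwa [Subgroup.card_map_of_injective (MulAut.conj g).injective]) hpK
  rw [← h1]
  exact ⟨k, hk, rfl⟩

/-! ### Elements acting by inner automorphisms on all components -/

/-- `x` acts on all components as inner automorphisms -/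
def InnAll (x : H) : Prop := ∀ K : Subgroup H, IsComponent K → ∃ k ∈ K, ∀ y ∈ K, x * y * x⁻¹ = k * y * k⁻¹

theorem exists_layer (hc : OddCyc H) {x : H} (hx : InnAll x) :
    ∃ e ∈ layer H, ∀ K : Subgroup H, IsComponent K → ∀ y ∈ K, e⁻¹ * x * y = y * (e⁻¹ * x) := by
  classical
  have hfin : {K : Subgroup H | IsComponent K}.Finite := Set.toFinite _
  have key : ∀ s : Finset (Subgroup H), (∀ K ∈ s, IsComponent K) →
      ∃ e ∈ layer H, ∀ K ∈ s, ∀ y ∈ K, e⁻¹ * x * y = y * (e⁻¹ * x) := by
    intro s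
    induction s using Finset.induction_on with
    | empty => intro _; exact ⟨1, one_mem _, fun K hK => absurd hK (Finset.notMem_empty _)⟩
    | insert K s hKs ih =>
      intro hs
      obtain ⟨e, he, h1⟩ := ih fun L hL => hs L (Finset.mem_insert_of_mem hL)
      have hK : IsComponent K := hs K (Finset.mem_insert_self _ _)
      have hKn := normal hc hK
      -- `e` acts on `K` as an element of `K`
      have he' : ∃ l ∈ K, ∀ y ∈ K, e * y * e⁻¹ = l * y * l⁻¹ := by
        have h2 : layer H ≤ K ⊔ centralizer (K : Set H) := by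
          rw [layer_le_iff]
          intro L hL
          by_cases hLK : L = K
          · rw [hLK]; exact le_sup_left
          · exact (component_le_centralizer_of_ne hL hK hLK).trans le_sup_right
        have h3 : e ∈ K ⊔ centralizer (K : Set H) := h2 he
        rw [Subgroup.mem_sup_of_normal_left] at h3
        obtain ⟨l, hl, c, hcK, rfl⟩ := h3
        refine ⟨l, hl, fun y hy => ?_⟩
        have h4 : c * y = y * c := (mem_centralizer_iff.1 hcK y hy).symm
        calc l * c * y * (l * c)⁻¹ = l * (c * y) * c⁻¹ * l⁻¹ := by group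
          _ = l * (y * c) * c⁻¹ * l⁻¹ := by rw [h4]
          _ = l * y * l⁻¹ := by group
      obtain ⟨l, hl, hel⟩ := he'
      obtain ⟨k, hk, hxk⟩ := hx K hK
      -- `e⁻¹ x` acts on `K` as `l⁻¹ k`
      refine ⟨e * (l⁻¹ * k), mul_mem he (component_le_layer hK (mul_mem (inv_mem hl) hk)), fun L hL y hy => ?_⟩
      rcases Finset.mem_insert.1 hL with rfl | hL
      · -- on `K`
        have h5 : ∀ y ∈ L, e⁻¹ * y * e = l⁻¹ * y * l := by
          intro y hy
          have h6 := hel (l⁻¹ * y * l) (mul_mem (mul_mem (inv_mem hl) hy) hl)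
          have h7 : l * (l⁻¹ * y * l) * l⁻¹ = y := by group
          rw [h7] at h6
          calc e⁻¹ * y * e = e⁻¹ * (e * (l⁻¹ * y * l) * e⁻¹) * e := by rw [h6]
            _ = l⁻¹ * y * l := by group
        have h8 : (e * (l⁻¹ * k))⁻¹ * x * y * ((e * (l⁻¹ * k))⁻¹ * x)⁻¹ = y := by
          calc (e * (l⁻¹ * k))⁻¹ * x * y * ((e * (l⁻¹ * k))⁻¹ * x)⁻¹
              = k⁻¹ * l * (e⁻¹ * (x * y * x⁻¹) * e) * l⁻¹ * k := by group
            _ = k⁻¹ * l * (e⁻¹ * (k * y * k⁻¹) * e) * l⁻¹ * k := by rw [hxk y hy]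
            _ = k⁻¹ * l * (l⁻¹ * (k * y * k⁻¹) * l) * l⁻¹ * k := by
              rw [h5 _ (mul_mem (mul_mem hk hy) (inv_mem hk))]
            _ = y := by group
        exact mul_inv_eq_iff_eq_mul.1 h8
      · -- on the other components
        have hLK : L ≠ K := fun h => hKs (h ▸ hL)
        have h6 := component_le_centralizer_of_ne (hs L (Finset.mem_insert_of_mem hL)) hK hLK
        have h7 : l⁻¹ * k * y = y * (l⁻¹ * k) :=
          mem_centralizer_iff.1 (h6 hy) (l⁻¹ * k) (mul_mem (inv_mem hl) hk)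
        have h8 := h1 L hL y hy
        have h9 : (l⁻¹ * k)⁻¹ * y = y * (l⁻¹ * k)⁻¹ := by
          rw [inv_mul_eq_iff_eq_mul, ← mul_assoc, ← h7.symm, mul_assoc, mul_inv_cancel, mul_one]
        calc (e * (l⁻¹ * k))⁻¹ * x * y = (l⁻¹ * k)⁻¹ * (e⁻¹ * x * y) := by group
          _ = (l⁻¹ * k)⁻¹ * y * (e⁻¹ * x) := by rw [h8]; group
          _ = y * (l⁻¹ * k)⁻¹ * (e⁻¹ * x) := by rw [h9]
          _ = y * ((e * (l⁻¹ * k))⁻¹ * x) := by group
  obtain ⟨e, he, h⟩ := key hfin.toFinset fun K hK => hfin.mem_toFinset.1 hK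
  exact ⟨e, he, fun K hK => h K (hfin.mem_toFinset.2 hK)⟩

theorem mem_genFitting (hc : OddCyc H) {x : H} (hx : InnAll x)
    (hF : ∀ f ∈ fittingSubgroup H, x * f = f * x) : x ∈ generalizedFittingSubgroup H := by
  obtain ⟨e, he, h⟩ := exists_layer hc hx
  have h1 : e⁻¹ * x ∈ centralizer (generalizedFittingSubgroup H : Set H) := by
    have h2 : generalizedFittingSubgroup H ≤ centralizer ({e⁻¹ * x} : Set H) := by
      refine sup_le ?_ ?_
      · rw [layer_le_iff]
        intro K hK y hy
        rw [mem_centralizer_singleton_iff]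
        exact (h K hK y hy).symm
      · intro f hf
        rw [mem_centralizer_singleton_iff]
        have h3 : f * e = e * f := mem_centralizer_iff.1 (layer_le_centralizer_fitting he) f hf
        have h4 : f * e⁻¹ = e⁻¹ * f := by
          rw [eq_inv_mul_iff_mul_eq, ← mul_assoc, ← h3, mul_assoc, mul_inv_cancel, mul_one]
        calc f * (e⁻¹ * x) = f * e⁻¹ * x := by group
          _ = e⁻¹ * (f * x) := by rw [h4]; group
          _ = e⁻¹ * x * f := by rw [← hF f hf]; group
    rw [mem_centralizer_iff]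
    intro y hy
    exact mem_centralizer_singleton_iff.1 (h2 hy)
  have h2 := Lib.GenFitting.centralizer_genFitting_le h1
  have h3 : x = e * (e⁻¹ * x) := by group
  rw [h3]
  exact mul_mem (Lib.GenFitting.layer_le_genFitting he) h2

/-- automorphisms of the Fitting subgroup induced by `H` commute -/
theorem comm_fitting (hO : pCore 2 H = ⊥) (hc : OddCyc H) (a b : H) {f : H} (hf : f ∈ fittingSubgroup H) :
    a * b * a⁻¹ * b⁻¹ * f = f * (a * b * a⁻¹ * b⁻¹) := by
  have hFn : (fittingSubgroup H).Normal := Lib.Cores.fittingSubgroup_normal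
  have hF := T1SzComp.fitting_cyclic hO hc
  have hcomm : ∀ φ ψ : MulAut (fittingSubgroup H), φ * ψ = ψ * φ := by
    intro φ ψ
    apply (IsCyclic.mulAutMulEquiv (fittingSubgroup H)).injective
    rw [map_mul, map_mul, mul_comm]
  have h1 : (MulAut.conjNormal (a * b * a⁻¹ * b⁻¹) : MulAut (fittingSubgroup H)) = 1 := by
    rw [map_mul, map_mul, map_mul, hcomm (MulAut.conjNormal a), map_inv, map_inv]
    group
  have h2 : ((MulAut.conjNormal (a * b * a⁻¹ * b⁻¹) : MulAut (fittingSubgroup H)) ⟨f, hf⟩ : H) = f := by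
    rw [h1]; rfl
  rw [MulAut.conjNormal_apply] at h2
  exact mul_inv_eq_iff_eq_mul.1 h2

/-- **perfect subgroups lie in the layer** -/
theorem perfect_le_layer (hO : pCore 2 H = ⊥) (hc : OddCyc H) (hK : TameSec H) {D : Subgroup H}
    (hD : ⁅D, D⁆ = D) : D ≤ layer H := by
  have hFn : (fittingSubgroup H).Normal := Lib.Cores.fittingSubgroup_normal
  -- `D` centralises the Fitting subgroup
  have h1 : D ≤ centralizer (fittingSubgroup H : Set H) := by
    rw [← hD, commutator_le]
    intro a _ b _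
    rw [mem_centralizer_iff]
    intro f hf
    exact (comm_fitting hO hc a b hf).symm
  -- `D` acts by inner automorphisms on the components
  have h2 : D ≤ generalizedFittingSubgroup H := by
    intro d hd
    refine mem_genFitting hc (fun K hKc => ?_) fun f hf => (mem_centralizer_iff.1 (h1 hd) f hf).symm
    have hKn := normal hc hKc
    have h3 := (tame hO hc hK hKc).sch (D.map (MulAut.conjNormal (H := K))) (map_perfect _ hD) ⟨d, hd, rfl⟩
    obtain ⟨k, hk⟩ := h3
    refine ⟨k, k.2, fun y hy => ?_⟩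
    have h4 := congrArg (fun φ : MulAut K => ((φ ⟨y, hy⟩ : K) : H)) hk
    simp only [MulAut.conj_apply, MulAut.conjNormal_apply, Subgroup.coe_mul, Subgroup.coe_inv] at h4
    exact h4.symm
  -- commutators of elements of `F*` lie in the layer
  rw [← hD]
  refine (commutator_mono h2 h2).trans ?_
  have hLn := layer_normal (G := H)
  have hFc : ∀ a ∈ fittingSubgroup H, ∀ b ∈ fittingSubgroup H, a * b = b * a := by
    intro a ha b hb
    have := T1SzComp.fitting_cyclic hO hc
    have h5 := (IsCyclic.isMulCommutative (α := fittingSubgroup H)).is_comm.comm ⟨a, ha⟩ ⟨b, hb⟩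
    exact congrArg Subtype.val h5
  rw [commutator_le]
  intro a ha b hb
  rw [generalizedFittingSubgroup, Subgroup.mem_sup_of_normal_left] at ha hb
  obtain ⟨e, he, f, hf, rfl⟩ := ha
  obtain ⟨e', he', f', hf', rfl⟩ := hb
  rw [← QuotientGroup.eq_one_iff, commutatorElement_def]
  have h6 : ((e : H) : H ⧸ layer H) = 1 := (QuotientGroup.eq_one_iff _).2 he
  have h7 : ((e' : H) : H ⧸ layer H) = 1 := (QuotientGroup.eq_one_iff _).2 he'
  simp only [QuotientGroup.mk_mul, QuotientGroup.mk_inv, h6, h7, one_mul]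
  rw [← QuotientGroup.mk_inv, ← QuotientGroup.mk_inv, ← QuotientGroup.mk_mul, ← QuotientGroup.mk_mul,
    ← QuotientGroup.mk_mul, hFc f hf f' hf', mul_inv_cancel_right, mul_inv_cancel, QuotientGroup.mk_one]

/-- **commutators with 2-elements lie in `F*(H)`** -/
theorem comm_mem (hO : pCore 2 H = ⊥) (hc : OddCyc H) (hK : TameSec H) (x : H) {s : H}
    (hs : ∃ n : ℕ, s ^ 2 ^ n = 1) : x * s * x⁻¹ * s⁻¹ ∈ generalizedFittingSubgroup H := by
  refine mem_genFitting hc (fun K hKc => ?_) fun f hf => comm_fitting hO hc x s hf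
  have hKn := normal hc hKc
  obtain ⟨n, hn⟩ := hs
  obtain ⟨k, hk⟩ := (tame hO hc hK hKc).com (MulAut.conjNormal x) (MulAut.conjNormal s)
    ⟨n, by rw [← map_pow, hn, map_one]⟩
  refine ⟨k, k.2, fun y hy => ?_⟩
  rw [← map_mul, ← map_inv, ← map_mul, ← map_inv, ← map_mul] at hk
  have h4 := congrArg (fun φ : MulAut K => ((φ ⟨y, hy⟩ : K) : H)) hk
  simp only [MulAut.conj_apply, MulAut.conjNormal_apply, Subgroup.coe_mul, Subgroup.coe_inv] at h4
  exact h4.symm

/-- subgroups of prime order of a cyclic normal subgroup are normal -/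
theorem zpowers_normal (hO : pCore 2 H = ⊥) (hc : OddCyc H) {x : H} (hx : x ∈ fittingSubgroup H) :
    (zpowers x).Normal := by
  have hFn : (fittingSubgroup H).Normal := Lib.Cores.fittingSubgroup_normal
  have hF := T1SzComp.fitting_cyclic hO hc
  refine ⟨?_⟩
  rintro _ ⟨k, rfl⟩ g
  have h1 : g * x * g⁻¹ ∈ zpowers x :=
    T1SzComp.mem_zpowers_of_cyclic hF (hFn.conj_mem x hx g) hx (by
      rw [← MulAut.conj_apply]
      exact orderOf_injective (MulAut.conj g).toMonoidHom (MulAut.conj g).injective x)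
  have h2 : g * x ^ k * g⁻¹ = (g * x * g⁻¹) ^ k := by
    rw [← MulAut.conj_apply, map_zpow, MulAut.conj_apply]
  show g * x ^ k * g⁻¹ ∈ zpowers x
  rw [h2]
  exact zpow_mem h1 k

/-- **elements of odd prime order of `F*(H)`** -/
theorem mem_or (hO : pCore 2 H = ⊥) (hc : OddCyc H) {p : ℕ} (hp : p.Prime) (hp2 : p ≠ 2) {x : H}
    (hxp : orderOf x = p) (hx : x ∈ generalizedFittingSubgroup H) :
    (x ∈ fittingSubgroup H ∧ (zpowers x).Normal) ∨ ∃ K : Subgroup H, IsComponent K ∧ x ∈ K := by
  have hFn : (fittingSubgroup H).Normal := Lib.Cores.fittingSubgroup_normal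
  have hpf : Fact p.Prime := ⟨hp⟩
  by_cases hF : p ∣ Nat.card (fittingSubgroup H)
  · left
    have h1 := CompBasic.mem_of_orderOf hc hp hp2 hFn hF hxp
    exact ⟨h1, zpowers_normal hO hc h1⟩
  · right
    have hLn := layer_normal (G := H)
    -- `x` lies in the layer
    rw [generalizedFittingSubgroup, Subgroup.mem_sup_of_normal_left] at hx
    obtain ⟨e, he, f, hf, rfl⟩ := hx
    have hef : e * f = f * e := (mem_centralizer_iff.1 (layer_le_centralizer_fitting he) f hf).symm
    have h1 : f ^ p ∈ layer H := by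
      have h2 : e ^ p * f ^ p = 1 := by
        rw [← (show Commute e f from hef).mul_pow, ← hxp, pow_orderOf_eq_one]
      rw [eq_inv_of_mul_eq_one_right h2]
      exact inv_mem (pow_mem he p)
    have h2 : f ∈ layer H := by
      have h3 : (orderOf f).Coprime p := by
        rw [Nat.coprime_comm, Nat.Prime.coprime_iff_not_dvd hp]
        exact fun hd => hF (hd.trans ((fittingSubgroup H).orderOf_dvd_natCard hf))
      have h4 : f ∈ zpowers (f ^ p) := by
        have h5 : zpowers (f ^ p) = zpowers f := by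
          apply Subgroup.eq_of_le_of_card_ge
          · rw [zpowers_le]; exact pow_mem (mem_zpowers f) p
          · rw [Nat.card_zpowers, Nat.card_zpowers, h3.orderOf_pow]
        rw [h5]; exact mem_zpowers f
      exact (zpowers_le.mpr h1) h4
    have h3 : e * f ∈ layer H := mul_mem he h2
    obtain ⟨J, hJ, hpJ⟩ := exists_component_of_mem_layer hc hp hp2 h3 hxp
    exact ⟨J, hJ, CompBasic.mem_of_orderOf hc hp hp2 (normal hc hJ) hpJ hxp⟩

omit [Finite H] in
/-- `D/O₂(D)` simple: a normal subgroup of `D` whose order is not a power of 2, with `D` perfect, is `D` -/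
theorem eq_top_of_normal {D : Type*} [Group D] [Finite D] (hD : Group.IsPerfect D)
    (hs : IsSimpleGroup (D ⧸ pCore 2 D)) {N : Subgroup D} (hN : N.Normal) (hN2 : ¬ IsPGroup 2 N) : N = ⊤ := by
  have hQ : (pCore 2 D).Normal := Lib.Cores.pCore_normal 2
  have h1 : (N.map (QuotientGroup.mk' (pCore 2 D))).Normal := hN.map _ (QuotientGroup.mk'_surjective _)
  rcases h1.eq_bot_or_eq_top with h | h
  · exfalso
    rw [Subgroup.map_eq_bot_iff, QuotientGroup.ker_mk'] at h
    exact hN2 ((Lib.Cores.pCore_isPGroup 2).to_le h)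
  · -- `D = N O₂(D)`
    have h2 : N ⊔ pCore 2 D = ⊤ := by
      have h3 := congrArg (Subgroup.comap (QuotientGroup.mk' (pCore 2 D))) h
      rwa [Subgroup.comap_map_eq, QuotientGroup.ker_mk', Subgroup.comap_top] at h3
    -- `D/N` is a perfect 2-group
    have h4 : IsPGroup 2 (D ⧸ N) := by
      intro g
      obtain ⟨d, rfl⟩ := QuotientGroup.mk_surjective g
      have h5 : d ∈ N ⊔ pCore 2 D := by rw [h2]; exact mem_top d
      rw [Subgroup.mem_sup_of_normal_left] at h5
      obtain ⟨n, hn, q, hq, rfl⟩ := h5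
      obtain ⟨k, hk⟩ := Lib.Cores.pCore_isPGroup 2 (⟨q, hq⟩ : pCore 2 D)
      refine ⟨k, ?_⟩
      have h6 : ((n * q : D) : D ⧸ N) = ((q : D) : D ⧸ N) := by
        rw [QuotientGroup.mk_mul, (QuotientGroup.eq_one_iff _).2 hn, one_mul]
      rw [h6, ← QuotientGroup.mk_pow, show q ^ 2 ^ k = 1 from congrArg Subtype.val hk, QuotientGroup.mk_one]
    have : Fact (Nat.Prime 2) := ⟨Nat.prime_two⟩
    have h5 : Group.IsNilpotent (D ⧸ N) := h4.isNilpotent
    have h6 : Group.IsPerfect (D ⧸ N) := inferInstance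
    have h7 : (⊤ : Subgroup (D ⧸ N)) = ⊥ := by
      apply Schreier.Basic.eq_bot_of_perfect_of_solvable
      · exact h6.commutator_eq_top
      · infer_instance
    have h8 := congrArg (Subgroup.comap (QuotientGroup.mk' N)) h7
    rw [Subgroup.comap_top, MonoidHom.comap_bot, QuotientGroup.ker_mk'] at h8
    exact h8.symm

/-- **`D` perfect, `D/O₂(D)` simple: `D` lies in a component** -/
theorem le_component (hO : pCore 2 H = ⊥) (hc : OddCyc H) (hK : TameSec H) {D : Subgroup H}
    (hD : ⁅D, D⁆ = D) (hs : IsSimpleGroup (D ⧸ pCore 2 D)) :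
    ∃ K : Subgroup H, IsComponent K ∧ D ≤ K := by
  have hDp : Group.IsPerfect D := by
    refine ⟨?_⟩
    apply Subgroup.map_injective D.subtype_injective
    rw [commutator_def, Subgroup.map_commutator, ← MonoidHom.range_eq_map, Subgroup.range_subtype, hD]
  have hD1 : D ≠ ⊥ := by
    intro h
    have h1 : Nontrivial (D ⧸ pCore 2 D) := hs.toNontrivial
    have h2 : Subsingleton D := by rw [h]; infer_instance
    have h3 : Subsingleton (D ⧸ pCore 2 D) := inferInstance
    exact not_subsingleton _ h3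
  obtain ⟨p, hp, hp2, hpD⟩ := exists_odd_prime hD hD1
  have hpf : Fact p.Prime := ⟨hp⟩
  obtain ⟨⟨x, hxD⟩, hx⟩ := exists_prime_orderOf_dvd_card' (G := D) p hpD
  rw [Subgroup.orderOf_mk] at hx
  obtain ⟨K, hKc, hpK⟩ := exists_component_of_mem_layer hc hp hp2 (perfect_le_layer hO hc hK hD hxD) hx
  have hKn := normal hc hKc
  have hxK : x ∈ K := CompBasic.mem_of_orderOf hc hp hp2 hKn hpK hx
  refine ⟨K, hKc, ?_⟩
  rw [← Subgroup.subgroupOf_eq_top]
  refine eq_top_of_normal hDp hs inferInstance fun h2 => ?_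
  obtain ⟨k, hk⟩ := h2 ⟨⟨x, hxD⟩, hxK⟩
  have h3 : x ^ 2 ^ k = 1 := congrArg (fun z : K.subgroupOf D => ((z : D) : H)) hk
  have h4 : p ∣ 2 ^ k := hx ▸ orderOf_dvd_of_pow_eq_one h3
  exact hp2 ((Nat.prime_dvd_prime_iff_eq hp Nat.prime_two).1 (hp.dvd_of_dvd_pow h4))

end Cfsg.Agent.OddCyclic.UniStruct
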