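import Mathlib
import Cfsg.Agent.OddCyclic.UniStruct
import Cfsg.Agent.ZN.Block
import Cfsg.Agent.MinSimple.Basic

/-!
# (UNI): uniqueness of the maximal 2-local subgroup over a parabolic

`G` of characteristic 2 type with cyclic odd Sylow subgroups and tame simple sections of 2-local subgroups
(`Hyp G`), `S` a Sylow 2-subgroup.

* `TS D`: `D/O₂(D)` is simple; `Cp X L`: `L ≤ X` perfect, normalised by `X`, `TS L`;
* `LL S L`: `L` perfect, `TS L`, `S ≤ N(L)`, `LS` in a 2-local subgroup; `MaxLL`: maximal such;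
* `MaxLL.cp` (**UNI-a**): `L` is normal in every `X ≥ LS` with `O₂(X) ≠ 1`; `MaxLL.o2_ne_bot`.
-/

set_option autoImplicit false
set_option linter.unusedSectionVars false

namespace Cfsg.Agent.OddCyclic.UniStruct

open Subgroup Cfsg Cfsg.Agent.ZN
open Cfsg.Agent.ZN.Block (o2_isPGroup le_normalizer_o2 le_o2 o2_le)
open scoped commutatorElement
open Cfsg.Agent.OddCyclic.T1Defs (OddCyc)
open Cfsg.Agent.OddCyclic.CompBasic
open Cfsg.Agent.SignalizersComponents.Components
open Cfsg.Agent.Schreier.Basic (Sch map_perfect)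
open Cfsg.Agent.MinSimple.Basic (char2_of_o2_ne_bot)

universe u

/-- `D/O₂(D)` is simple -/
def TS (D : Type*) [Group D] : Prop := IsSimpleGroup (D ⧸ pCore 2 D)

theorem isPerfect_of {H : Type*} [Group H] {D : Subgroup H} (hD : ⁅D, D⁆ = D) : Group.IsPerfect D := by
  refine ⟨?_⟩
  apply Subgroup.map_injective D.subtype_injective
  rw [commutator_def, Subgroup.map_commutator, ← MonoidHom.range_eq_map, Subgroup.range_subtype, hD]

theorem eq_bot_of_isPGroup {H : Type*} [Group H] {D : Subgroup H} [Finite D] (hD : ⁅D, D⁆ = D)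
    (h2 : IsPGroup 2 D) : D = ⊥ := by
  have : Fact (Nat.Prime 2) := ⟨Nat.prime_two⟩
  have h : Group.IsNilpotent D := h2.isNilpotent
  exact Schreier.Basic.eq_bot_of_perfect_of_solvable hD inferInstance

theorem TS.map {A B : Type*} [Group A] [Group B] (f : A →* B) (hf : Function.Surjective f) (hA : TS A)
    (hB : ¬ IsPGroup 2 B) : TS B := by
  have hA' : IsSimpleGroup (A ⧸ pCore 2 A) := hA
  have hn : (pCore 2 A).Normal := Lib.Cores.pCore_normal 2
  have hn' : (pCore 2 B).Normal := Lib.Cores.pCore_normal 2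
  have h1 : pCore 2 A ≤ (pCore 2 B).comap f := by
    rw [← Subgroup.map_le_iff_le_comap]
    exact Lib.Cores.le_pCore (hn.map f hf) ((Lib.Cores.pCore_isPGroup 2).map f)
  have h2 : Function.Surjective (QuotientGroup.map (pCore 2 A) (pCore 2 B) f h1) := by
    intro b
    obtain ⟨b, rfl⟩ := QuotientGroup.mk_surjective b
    obtain ⟨a, rfl⟩ := hf b
    exact ⟨a, rfl⟩
  have h3 : Nontrivial (B ⧸ pCore 2 B) := by
    rw [QuotientGroup.nontrivial_iff]
    rw [Ne, Lib.Cores.pCore_eq_top_iff]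
    exact hB
  exact IsSimpleGroup.isSimpleGroup_of_surjective _ h2

theorem TS.not_isPGroup {A : Type*} [Group A] (hA : TS A) : ¬ IsPGroup 2 A := by
  intro h
  have h1 := (Lib.Cores.pCore_eq_top_iff (G := A) 2).2 h
  have h2 : Nontrivial (A ⧸ pCore 2 A) := hA.toNontrivial
  rw [QuotientGroup.nontrivial_iff] at h2
  exact h2 h1

theorem TS.congr {A B : Type*} [Group A] [Group B] (e : A ≃* B) (hA : TS A) : TS B :=
  hA.map e.toMonoidHom e.surjective fun h => hA.not_isPGroup (h.of_injective e.toMonoidHom e.injective)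

/-! ### The preimage of a component of `X/O₂(X)` -/

section Internal

variable {X : Type u} [Group X] [Finite X]

theorem exists_normal (hc : OddCyc X) {K : Subgroup (X ⧸ pCore 2 X)} (hKc : IsComponent K) :
    ∃ L : Subgroup X, L.Normal ∧ ⁅L, L⁆ = L ∧ TS L ∧ L.map (QuotientGroup.mk' (pCore 2 X)) = K ∧
      ∀ D : Subgroup X, ⁅D, D⁆ = D → D.map (QuotientGroup.mk' (pCore 2 X)) ≤ K → D ≤ L := by
  have hQ : (pCore 2 X).Normal := Lib.Cores.pCore_normal 2
  have hO : pCore 2 (X ⧸ pCore 2 X) = ⊥ := Lib.Cores.pCore_quotient_pCore 2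
  have hcq : OddCyc (X ⧸ pCore 2 X) := oddCyc_quotient hc (pCore 2 X)
  have hKn : K.Normal := normal hcq hKc
  have hKs : IsSimpleGroup K := simple hO hcq hKc
  obtain ⟨π, hπ⟩ : ∃ π : X →* X ⧸ pCore 2 X, π = QuotientGroup.mk' (pCore 2 X) := ⟨_, rfl⟩
  have hπs : Function.Surjective π := by rw [hπ]; exact QuotientGroup.mk'_surjective _
  have hπk : π.ker = pCore 2 X := by rw [hπ]; exact QuotientGroup.ker_mk' _
  rw [← hπ]
  obtain ⟨W, hW⟩ : ∃ W : Subgroup X, W = K.comap π := ⟨_, rfl⟩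
  have hWn : W.Normal := by rw [hW]; exact hKn.comap π
  obtain ⟨L, hL⟩ : ∃ L : Subgroup X, L = sSup {D : Subgroup X | ⁅D, D⁆ = D ∧ D ≤ W} := ⟨_, rfl⟩
  have hle : ∀ D : Subgroup X, ⁅D, D⁆ = D → D ≤ W → D ≤ L := fun D h1 h2 => by
    rw [hL]; exact le_sSup ⟨h1, h2⟩
  have hLW : L ≤ W := by rw [hL]; exact sSup_le fun D hD => hD.2
  have hLp : ⁅L, L⁆ = L := by
    refine le_antisymm (commutator_le_self L) ?_
    conv_lhs => rw [hL]
    refine sSup_le fun D hD => ?_
    rw [← hD.1]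
    exact commutator_mono (hle D hD.1 hD.2) (hle D hD.1 hD.2)
  have hLn : L.Normal := by
    refine ⟨fun x hx g => ?_⟩
    have h1 : L.map (MulAut.conj g).toMonoidHom ≤ L := by
      conv_lhs => rw [hL]
      rw [(Subgroup.gc_map_comap _).l_sSup]
      refine iSup₂_le fun D hD => ?_
      refine hle _ (map_perfect _ hD.1) ?_
      rintro _ ⟨y, hy, rfl⟩
      exact hWn.conj_mem y (hD.2 hy) g
    exact h1 ⟨x, hx, rfl⟩
  -- a non-trivial perfect subgroup of `W`
  have hWK : W.map π = K := by rw [hW]; exact Subgroup.map_comap_eq_self_of_surjective hπs K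
  have hKns : ¬ Group.IsSolvable K := quasisimple_not_isSolvable hKc.2
  obtain ⟨D, hDW, hDp, hD1⟩ := Schreier.Basic.exists_perfect_residual W
  have hDne : D ≠ ⊥ := by
    intro h
    apply hKns
    have h1 := hD1 h
    have h2 : Group.IsSolvable (W.map π) := by
      have hs := π.subgroupMap_surjective W
      exact Group.isSolvable_of_surjective hs
    rw [← hWK]
    exact h2
  have hLmap : L.map π = K := by
    have h1 : L.map π ≤ K := by rw [← hWK]; exact Subgroup.map_mono hLW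
    have h2 : (L.map π).Normal := hLn.map π hπs
    have h3 : ((L.map π).subgroupOf K).Normal := h2.subgroupOf K
    rcases h3.eq_bot_or_eq_top with h | h
    · exfalso
      have h4 : L.map π = ⊥ := by
        have h5 := congrArg (Subgroup.map K.subtype) h
        rwa [Subgroup.subgroupOf_map_subtype, inf_eq_left.2 h1, Subgroup.map_bot] at h5
      rw [Subgroup.map_eq_bot_iff, hπk] at h4
      exact hDne (eq_bot_of_isPGroup hDp ((Lib.Cores.pCore_isPGroup 2).to_le
        ((hle D hDp hDW).trans h4)))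
    · exact le_antisymm h1 (Subgroup.subgroupOf_eq_top.1 h)
  refine ⟨L, hLn, hLp, ?_, hLmap, fun D h1 h2 => hle D h1 ?_⟩
  · -- `L/O₂(L) = K`
    let f : L →* K := (π.comp L.subtype).codRestrict K fun l => by
      rw [← hLmap]
      exact ⟨l, l.2, rfl⟩
    have hf : Function.Surjective f := by
      rintro ⟨k, hk⟩
      rw [← hLmap] at hk
      obtain ⟨l, hl, rfl⟩ := hk
      exact ⟨⟨l, hl⟩, rfl⟩
    have hker : f.ker = pCore 2 L := by
      apply le_antisymm
      · refine Lib.Cores.le_pCore inferInstance ?_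
        intro y
        have h4 : f (y : L) = 1 := y.2
        have h4' : ((y : L) : X) ∈ π.ker := congrArg Subtype.val h4
        have h3 : ((y : L) : X) ∈ pCore 2 X := hπk.le h4'
        obtain ⟨k, hk⟩ := Lib.Cores.pCore_isPGroup 2 (⟨_, h3⟩ : pCore 2 X)
        refine ⟨k, ?_⟩
        apply Subtype.ext
        apply Subtype.ext
        have hk2 := congrArg (fun z : pCore 2 X => (z : X)) hk
        simpa using hk2
      · have h3 : ((pCore 2 L).map f).Normal := (Lib.Cores.pCore_normal 2).map f hf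
        have h4 : IsPGroup 2 ((pCore 2 L).map f) := (Lib.Cores.pCore_isPGroup 2).map f
        rcases h3.eq_bot_or_eq_top with h | h
        · rwa [Subgroup.map_eq_bot_iff] at h
        · exfalso
          have h5 : IsPGroup 2 K := by
            have h6 : IsPGroup 2 (⊤ : Subgroup K) := by rw [← h]; exact h4
            exact h6.of_equiv Subgroup.topEquiv
          exact component_ne_bot hKc (eq_bot_of_isPGroup (component_commutator_self hKc) h5)
    have h7 : IsSimpleGroup (L ⧸ f.ker) :=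
      (QuotientGroup.quotientKerEquivOfSurjective f hf).isSimpleGroup
    have h8 : L ⧸ f.ker ≃* L ⧸ pCore 2 L := QuotientGroup.quotientMulEquivOfEq hker
    exact h8.symm.isSimpleGroup
  · rw [hW, ← Subgroup.map_le_iff_le_comap]
    exact h2

theorem exists_of_perfect (hc : OddCyc X) (hK : TameSec X) {D : Subgroup X} (hD : ⁅D, D⁆ = D) (hs : TS D) :
    ∃ L : Subgroup X, L.Normal ∧ ⁅L, L⁆ = L ∧ TS L ∧ D ≤ L := by
  have hQ : (pCore 2 X).Normal := Lib.Cores.pCore_normal 2
  have hO : pCore 2 (X ⧸ pCore 2 X) = ⊥ := Lib.Cores.pCore_quotient_pCore 2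
  have hcq : OddCyc (X ⧸ pCore 2 X) := oddCyc_quotient hc (pCore 2 X)
  obtain ⟨π, hπ⟩ : ∃ π : X →* X ⧸ pCore 2 X, π = QuotientGroup.mk' (pCore 2 X) := ⟨_, rfl⟩
  have hπk : π.ker = pCore 2 X := by rw [hπ]; exact QuotientGroup.ker_mk' _
  have hDne : D ≠ ⊥ := by
    intro h
    apply hs.not_isPGroup
    rw [h]
    exact IsPGroup.of_bot
  have h1 : ⁅D.map π, D.map π⁆ = D.map π := map_perfect π hD
  have h2 : ¬ IsPGroup 2 (D.map π) := by
    intro h
    have h3 := eq_bot_of_isPGroup h1 h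
    rw [Subgroup.map_eq_bot_iff, hπk] at h3
    exact hDne (eq_bot_of_isPGroup hD ((Lib.Cores.pCore_isPGroup 2).to_le h3))
  have h3 : TS (D.map π) := hs.map _ (π.subgroupMap_surjective D) h2
  obtain ⟨K, hKc, hDK⟩ := le_component hO hcq hK.quot h1 h3
  obtain ⟨L, h4, h5, h6, -, h8⟩ := exists_normal hc hKc
  exact ⟨L, h4, h5, h6, h8 D hD (by rw [← hπ]; exact hDK)⟩

/-- elements of odd prime order in the preimage of `F*(X/O₂(X))` -/
theorem mem_or_internal (hc : OddCyc X) {p : ℕ} (hp : p.Prime) (hp2 : p ≠ 2) {x : X}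
    (hxp : orderOf x = p)
    (hx : x ∈ (generalizedFittingSubgroup (X ⧸ pCore 2 X)).comap (QuotientGroup.mk' (pCore 2 X))) :
    (zpowers x ⊔ pCore 2 X).Normal ∨ ∃ L : Subgroup X, L.Normal ∧ ⁅L, L⁆ = L ∧ TS L ∧ x ∈ L := by
  have hQ : (pCore 2 X).Normal := Lib.Cores.pCore_normal 2
  have hO : pCore 2 (X ⧸ pCore 2 X) = ⊥ := Lib.Cores.pCore_quotient_pCore 2
  have hcq : OddCyc (X ⧸ pCore 2 X) := oddCyc_quotient hc (pCore 2 X)
  have hpf : Fact p.Prime := ⟨hp⟩
  obtain ⟨π, hπ⟩ : ∃ π : X →* X ⧸ pCore 2 X, π = QuotientGroup.mk' (pCore 2 X) := ⟨_, rfl⟩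
  have hπk : π.ker = pCore 2 X := by rw [hπ]; exact QuotientGroup.ker_mk' _
  rw [← hπ] at hx
  have hxq : orderOf (π x) = p := by
    have h1 : orderOf (π x) ∣ p := hxp ▸ orderOf_map_dvd π x
    rcases (Nat.dvd_prime hp).1 h1 with h | h
    · exfalso
      rw [orderOf_eq_one_iff, ← MonoidHom.mem_ker, hπk] at h
      obtain ⟨k, hk⟩ := Lib.Cores.pCore_isPGroup 2 (⟨x, h⟩ : pCore 2 X)
      have h3 : x ^ 2 ^ k = 1 := congrArg Subtype.val hk
      have h4 : p ∣ 2 ^ k := hxp ▸ orderOf_dvd_of_pow_eq_one h3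
      exact hp2 ((Nat.prime_dvd_prime_iff_eq hp Nat.prime_two).1 (hp.dvd_of_dvd_pow h4))
    · exact h
  rcases mem_or hO hcq hp hp2 hxq hx with ⟨-, h⟩ | ⟨K, hKc, hxK⟩
  · left
    have h1 : ((zpowers (π x)).comap π).Normal := h.comap π
    have h2 : (zpowers (π x)).comap π = zpowers x ⊔ pCore 2 X := by
      rw [← MonoidHom.map_zpowers, Subgroup.comap_map_eq, hπk]
    rwa [h2] at h1
  · right
    obtain ⟨L, h4, h5, h6, h7, -⟩ := exists_normal hc hKc
    refine ⟨L, h4, h5, h6, ?_⟩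
    rw [← hπ] at h7
    -- `x ∈ L Q`
    have h8 : x ∈ L ⊔ pCore 2 X := by
      rw [← hπk, ← Subgroup.comap_map_eq, Subgroup.mem_comap, h7]
      exact hxK
    rw [Subgroup.mem_sup_of_normal_left] at h8
    obtain ⟨l, hl, q, hq, rfl⟩ := h8
    obtain ⟨k, hk⟩ := Lib.Cores.pCore_isPGroup 2 (⟨q, hq⟩ : pCore 2 X)
    have h9 : (l * q) ^ 2 ^ k ∈ L := by
      rw [← QuotientGroup.eq_one_iff, QuotientGroup.mk_pow, QuotientGroup.mk_mul,
        (QuotientGroup.eq_one_iff l).2 hl, one_mul, ← QuotientGroup.mk_pow,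
        show q ^ 2 ^ k = 1 from congrArg Subtype.val hk, QuotientGroup.mk_one]
    have h10 : (orderOf (l * q)).Coprime (2 ^ k) := by
      rw [hxp]
      exact Nat.Coprime.pow_right k ((Nat.coprime_primes hp Nat.prime_two).2 hp2)
    have h11 : l * q ∈ zpowers ((l * q) ^ 2 ^ k) := by
      have h12 : zpowers ((l * q) ^ 2 ^ k) = zpowers (l * q) := by
        apply Subgroup.eq_of_le_of_card_ge
        · rw [zpowers_le]; exact pow_mem (mem_zpowers _) _
        · rw [Nat.card_zpowers, Nat.card_zpowers, h10.orderOf_pow]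
      rw [h12]
      exact mem_zpowers _
    exact (zpowers_le.2 h9) h11

end Internal

/-! ### The ambient group -/

variable {G : Type u} [Group G]

/-- the standing hypotheses -/
structure Hyp (G : Type u) [Group G] : Prop where
  char2 : IsCharacteristicTwoType G
  cyc : OddCyc G
  tame : ∀ X : Subgroup G, o2 X ≠ ⊥ → TameSec X

/-- `L ≤ X` is perfect, normalised by `X`, with `L/O₂(L)` simple -/
structure Cp (X L : Subgroup G) : Prop where
  le : L ≤ X
  perf : ⁅L, L⁆ = L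
  simp : TS L
  norm : X ≤ normalizer (L : Set G)

/-- `L` perfect, `L/O₂(L)` simple, `S ≤ N(L)`, `LS` in a 2-local subgroup -/
structure LL (S L : Subgroup G) : Prop where
  perf : ⁅L, L⁆ = L
  simp : TS L
  norm : S ≤ normalizer (L : Set G)
  loc : o2 (L ⊔ S) ≠ ⊥

/-- the maximal members of `LL` -/
structure MaxLL (S L : Subgroup G) : Prop extends LL S L where
  max : ∀ L' : Subgroup G, LL S L' → L ≤ L' → L' = L

theorem map_perf {X : Subgroup G} {L : Subgroup X} (h : ⁅L, L⁆ = L) :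
    ⁅L.map X.subtype, L.map X.subtype⁆ = L.map X.subtype := map_perfect _ h

theorem cp_of_internal {X : Subgroup G} {L : Subgroup X} (hn : L.Normal) (hp : ⁅L, L⁆ = L) (hs : TS L) :
    Cp X (L.map X.subtype) where
  le := Subgroup.map_subtype_le _
  perf := map_perf hp
  simp := hs.congr (L.equivMapOfInjective X.subtype X.subtype_injective)
  norm := by
    refine Block.le_normalizer_of_forall ?_
    rintro g hg _ ⟨l, hl, rfl⟩
    exact ⟨⟨g, hg⟩ * l * ⟨g, hg⟩⁻¹, hn.conj_mem l hl ⟨g, hg⟩, rfl⟩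

variable [Finite G]

theorem exists_cp (hG : Hyp G) {X : Subgroup G} (hX : o2 X ≠ ⊥) {D : Subgroup G} (hD : D ≤ X)
    (hp : ⁅D, D⁆ = D) (hs : TS D) : ∃ L, Cp X L ∧ D ≤ L := by
  have h1 : ⁅D.subgroupOf X, D.subgroupOf X⁆ = D.subgroupOf X := by
    apply Subgroup.map_injective X.subtype_injective
    rw [Subgroup.map_commutator, Subgroup.subgroupOf_map_subtype, inf_eq_left.2 hD, hp]
  have h2 : TS (D.subgroupOf X) := hs.congr (Subgroup.subgroupOfEquivOfLe hD).symm
  obtain ⟨L, h3, h4, h5, h6⟩ := exists_of_perfect (oddCyc_subgroup hG.cyc X) (hG.tame X hX) h1 h2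
  refine ⟨L.map X.subtype, cp_of_internal h3 h4 h5, fun d hd => ?_⟩
  exact ⟨⟨d, hD hd⟩, h6 (show (⟨d, hD hd⟩ : X) ∈ D.subgroupOf X from hd), rfl⟩

/-- a 2-subgroup normalised by the Sylow subgroup `S` lies in `S` -/
theorem le_sylow (S : Sylow 2 G) {R : Subgroup G} (hR : IsPGroup 2 R)
    (hn : (S : Subgroup G) ≤ normalizer (R : Set G)) : R ≤ S := by
  have : Fact (Nat.Prime 2) := ⟨Nat.prime_two⟩
  have h1 : IsPGroup 2 (R ⊔ (S : Subgroup G) : Subgroup G) := IsPGroup.to_sup_of_normal_left' hR S.isPGroup' hn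
  have h2 := S.is_maximal' h1 le_sup_right
  rw [← h2]
  exact le_sup_left

theorem o2_le_sylow (S : Sylow 2 G) {X : Subgroup G} (hSX : (S : Subgroup G) ≤ X) : o2 X ≤ S :=
  le_sylow S (o2_isPGroup X) (hSX.trans (le_normalizer_o2 X))

/-- `O₂(X) ≤ O₂(Y)` for `S ≤ Y ≤ X` -/
theorem o2_le_o2 (S : Sylow 2 G) {X Y : Subgroup G} (hSY : (S : Subgroup G) ≤ Y) (hYX : Y ≤ X) : o2 X ≤ o2 Y :=
  le_o2 (o2_isPGroup X) ((o2_le_sylow S (hSY.trans hYX)).trans hSY) (hYX.trans (le_normalizer_o2 X))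

theorem o2_ne_bot_of_le (S : Sylow 2 G) {X Y : Subgroup G} (hSY : (S : Subgroup G) ≤ Y) (hYX : Y ≤ X)
    (hX : o2 X ≠ ⊥) : o2 Y ≠ ⊥ := fun h => hX (le_bot_iff.1 (h ▸ o2_le_o2 S hSY hYX))

/-- the normalizer of a non-trivial 2-subgroup normalised by `S` -/
theorem o2_normalizer_ne_bot {R : Subgroup G} (hR : IsPGroup 2 R) (hR1 : R ≠ ⊥) :
    o2 (normalizer (R : Set G)) ≠ ⊥ := by
  intro h
  apply hR1
  rw [← le_bot_iff, ← h]
  exact le_o2 hR le_normalizer le_rfl

theorem Cp.ll (S : Sylow 2 G) {X L : Subgroup G} (h : Cp X L) (hSX : (S : Subgroup G) ≤ X) (hX : o2 X ≠ ⊥) :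
    LL (S : Subgroup G) L where
  perf := h.perf
  simp := h.simp
  norm := hSX.trans h.norm
  loc := o2_ne_bot_of_le S le_sup_right (sup_le h.le hSX) hX

theorem Cp.ne_bot {X L : Subgroup G} (h : Cp X L) : ¬ IsPGroup 2 L := h.simp.not_isPGroup

/-- in a group of characteristic 2 `O₂(L) ≠ 1` -/
theorem Cp.o2_ne_bot {X L : Subgroup G} (h : Cp X L) (hX : X ⊓ centralizer (o2 X : Set G) ≤ o2 X) :
    o2 L ≠ ⊥ := by
  intro h0
  apply h.ne_bot
  have hcomm : L ≤ X ⊓ centralizer (o2 X : Set G) := by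
    refine le_inf h.le ?_
    have h1 : L ⊓ o2 X ≤ o2 L := le_o2 ((o2_isPGroup X).to_le inf_le_right) inf_le_left (by
      refine Block.le_normalizer_of_forall fun l hl m hm => Subgroup.mem_inf.2 ⟨?_, ?_⟩
      · exact mul_mem (mul_mem hl hm.1) (inv_mem hl)
      · exact Block.conj_mem_of_normalizer (le_normalizer_o2 X) (h.le hl) hm.2)
    rw [h0, le_bot_iff] at h1
    intro l hl
    rw [mem_centralizer_iff]
    intro q hq
    have h2 : l * q * l⁻¹ * q⁻¹ ∈ L ⊓ o2 X := by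
      refine Subgroup.mem_inf.2 ⟨?_, ?_⟩
      · have h3 : q * l⁻¹ * q⁻¹ ∈ L :=
          Block.conj_mem_of_normalizer h.norm (o2_le X hq) (inv_mem hl)
        have e : l * q * l⁻¹ * q⁻¹ = l * (q * l⁻¹ * q⁻¹) := by group
        rw [e]
        exact mul_mem hl h3
      · exact mul_mem (Block.conj_mem_of_normalizer (le_normalizer_o2 X) (h.le hl) hq) (inv_mem hq)
    rw [h1, mem_bot] at h2
    calc q * l = (l * q * l⁻¹ * q⁻¹)⁻¹ * l * q := by group
      _ = l * q := by rw [h2]; group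
  exact (o2_isPGroup X).to_le (hcomm.trans hX)

/-- (**UNI-a**) -/
theorem MaxLL.cp (hG : Hyp G) (S : Sylow 2 G) {L X : Subgroup G} (h : MaxLL (S : Subgroup G) L)
    (hX : L ⊔ S ≤ X) (hX2 : o2 X ≠ ⊥) : Cp X L := by
  obtain ⟨L', h1, h2⟩ := exists_cp hG hX2 (le_sup_left.trans hX) h.perf h.simp
  have h3 := h.max L' (h1.ll S (le_sup_right.trans hX) hX2) h2
  rwa [h3] at h1

theorem MaxLL.o2_ne_bot (hG : Hyp G) (S : Sylow 2 G) {L : Subgroup G} (h : MaxLL (S : Subgroup G) L) :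
    o2 L ≠ ⊥ :=
  (h.cp hG S le_rfl h.loc).o2_ne_bot (char2_of_o2_ne_bot hG.char2 S le_sup_right h.loc)

end Cfsg.Agent.OddCyclic.UniStruct
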