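import Mathlib
import Cfsg.Agent.OddCyclic.UniAmb

/-!
# (I1) for elements of odd prime power order

* `exists_conj_mem`: elements of the same odd prime power order generate conjugate subgroups;
* `mem_or_pow`: an element of odd prime power order of `F*(H)` lies in a component or generates a normal subgroup;
* `mem_or_internal_pow`: the same for the preimage of `F*(X/O₂(X))`;
* `mem_of_comm`: `s x s⁻¹ ∈ ⟨x⟩N`, `s` a 2-element not centralising `x` modulo `N`: `x ∈ ⟨[x,s]⟩N`.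
-/

set_option autoImplicit false
set_option linter.unusedSectionVars false

namespace Cfsg.Agent.OddCyclic.UniStruct

open Subgroup Cfsg Cfsg.Agent.ZN
open Cfsg.Agent.ZN.Block (o2_isPGroup le_normalizer_o2 le_o2 o2_le conj_mem_of_normalizer conj_mem_of_normalizer'
  le_normalizer_of_forall)
open scoped commutatorElement
open Cfsg.Agent.OddCyclic.T1Defs (OddCyc)
open Cfsg.Agent.OddCyclic.CompBasic
open Cfsg.Agent.SignalizersComponents.Components

universe u

section Abs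

variable {H : Type u} [Group H]

/-- elements of the same odd prime power order generate conjugate subgroups -/
theorem exists_conj_mem [Finite H] (hc : OddCyc H) {p k : ℕ} (hp : p.Prime) (hp2 : p ≠ 2) {x y : H}
    (hx : orderOf x = p ^ k) (hy : orderOf y = p ^ k) : ∃ g : H, x ∈ zpowers (g * y * g⁻¹) := by
  have hpf : Fact p.Prime := ⟨hp⟩
  have hxp : IsPGroup p (zpowers x) := IsPGroup.of_card (n := k) (by rw [Nat.card_zpowers, hx])
  have hyp : IsPGroup p (zpowers y) := IsPGroup.of_card (n := k) (by rw [Nat.card_zpowers, hy])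
  obtain ⟨P, hP⟩ := hxp.exists_le_sylow
  obtain ⟨Q, hQ⟩ := hyp.exists_le_sylow
  obtain ⟨g, hg⟩ := MulAction.exists_smul_eq H Q P
  have hxP : x ∈ (P : Subgroup H) := hP (mem_zpowers x)
  have hyP : g * y * g⁻¹ ∈ (P : Subgroup H) := by
    rw [← hg]
    exact ⟨y, hQ (mem_zpowers y), rfl⟩
  refine ⟨g, T1SzComp.mem_zpowers_of_cyclic (h_cyc P) hxP hyP ?_⟩
  rw [hx, ← hy, ← MulAut.conj_apply]
  exact (orderOf_injective (MulAut.conj g).toMonoidHom (MulAut.conj g).injective y).symm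
where
  h_cyc (P : Sylow p H) : IsCyclic (P : Subgroup H) := hc p P hp hp2

theorem not_dvd_orderOf [Finite H] (hG : OddCyc H) {K : Subgroup H} (hK : IsQuasisimple K) {p : ℕ} (hp : p.Prime)
    (hp2 : p ≠ 2) (hpK : p ∣ Nat.card K) {c : H} (hc : ∀ x ∈ K, x * c = c * x) : ¬ p ∣ orderOf c := by
  intro h
  refine false_of_commute hG hK (L := zpowers c) ?_ hp hp2 hpK (by rwa [Nat.card_zpowers])
  rintro x hx _ ⟨n, rfl⟩
  exact (show Commute x c from hc x hx).zpow_right n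

theorem mem_of_pow {p k : ℕ} (hp : p.Prime) {N : Subgroup H} {c : H} (hc : ¬ p ∣ orderOf c)
    (h : c ^ p ^ k ∈ N) : c ∈ N := by
  have h1 : (orderOf c).Coprime (p ^ k) :=
    Nat.Coprime.pow_right k ((Nat.Prime.coprime_iff_not_dvd hp).2 hc).symm
  obtain ⟨a, b, hab⟩ := (Nat.isCoprime_iff_coprime.2 h1 : IsCoprime ((orderOf c : ℕ) : ℤ) ((p ^ k : ℕ) : ℤ))
  have h2 : c = (c ^ p ^ k) ^ b := by
    calc c = c ^ (a * (orderOf c : ℤ) + b * ((p ^ k : ℕ) : ℤ)) := by rw [hab, zpow_one]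
      _ = (c ^ (orderOf c : ℤ)) ^ a * (c ^ ((p ^ k : ℕ) : ℤ)) ^ b := by
        rw [zpow_add, mul_comm a, mul_comm b, zpow_mul, zpow_mul]
      _ = (c ^ p ^ k) ^ b := by
        rw [zpow_natCast, pow_orderOf_eq_one, one_zpow, one_mul, zpow_natCast]
  rw [h2]
  exact zpow_mem h b

theorem mem_of_mul {p k : ℕ} (hp : p.Prime) {N : Subgroup H} {a c : H} (ha : a ∈ N) (hac : a * c = c * a)
    (h : (a * c) ^ p ^ k = 1) (hc : ¬ p ∣ orderOf c) : c ∈ N := by
  refine mem_of_pow (k := k) hp hc ?_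
  rw [(show Commute a c from hac).mul_pow] at h
  rw [eq_inv_of_mul_eq_one_right h]
  exact inv_mem (pow_mem ha _)

variable [Finite H]

theorem layer_le_sup {K : Subgroup H} (hK : IsComponent K) : layer H ≤ K ⊔ centralizer (K : Set H) := by
  rw [layer_le_iff]
  intro L hL
  by_cases hLK : L = K
  · rw [hLK]; exact le_sup_left
  · exact (component_le_centralizer_of_ne hL hK hLK).trans le_sup_right

/-- **elements of odd prime power order of `F*(H)`** -/
theorem mem_or_pow (hO : pCore 2 H = ⊥) (hc : OddCyc H) {p k : ℕ} (hp : p.Prime) (hp2 : p ≠ 2) {x : H}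
    (hxp : orderOf x = p ^ k) (hx : x ∈ generalizedFittingSubgroup H) :
    (x ∈ fittingSubgroup H ∧ (zpowers x).Normal) ∨ ∃ K : Subgroup H, IsComponent K ∧ x ∈ K := by
  have hFn : (fittingSubgroup H).Normal := Lib.Cores.fittingSubgroup_normal
  have hLn := layer_normal (G := H)
  have hpf : Fact p.Prime := ⟨hp⟩
  have hx1 : x ^ p ^ k = 1 := by rw [← hxp, pow_orderOf_eq_one]
  rw [generalizedFittingSubgroup, Subgroup.mem_sup_of_normal_left] at hx
  obtain ⟨e, he, f, hf, rfl⟩ := hx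
  · have hef : e * f = f * e := (mem_centralizer_iff.1 (layer_le_centralizer_fitting he) f hf).symm
    by_cases hF : p ∣ Nat.card (fittingSubgroup H)
    · left
      have h1 : ¬ p ∣ orderOf e := by
        intro hd
        obtain ⟨J, hJ, hpJ⟩ := exists_component_of_mem_layer hc hp hp2 (x := e ^ (orderOf e / p)) (pow_mem he _)
          (orderOf_pow_orderOf_div (orderOf_pos e).ne' hd)
        refine false_of_commute hc hJ.2 (L := fittingSubgroup H) ?_ hp hp2 hpJ hF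
        intro y hy z hz
        exact (mem_centralizer_iff.1 (layer_le_centralizer_fitting (component_le_layer hJ hy)) z hz).symm
      have h2 : e ∈ fittingSubgroup H := mem_of_mul (k := k) hp hf hef.symm (by rw [← hef]; exact hx1) h1
      have h3 : e * f ∈ fittingSubgroup H := mul_mem h2 hf
      exact ⟨h3, zpowers_normal hO hc h3⟩
    · have h1 : ¬ p ∣ orderOf f := fun hd => hF (hd.trans ((fittingSubgroup H).orderOf_dvd_natCard hf))
      have h2 : f ∈ layer H := mem_of_mul (k := k) hp he hef hx1 h1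
      have h3 : e * f ∈ layer H := mul_mem he h2
      by_cases h4 : e * f = 1
      · left
        rw [h4]
        refine ⟨one_mem _, ?_⟩
        rw [zpowers_one_eq_bot]
        infer_instance
      · right
        have h5 : p ∣ orderOf (e * f) := by
          rw [hxp]
          refine dvd_pow_self p ?_
          rintro rfl
          rw [pow_zero, orderOf_eq_one_iff] at hxp
          exact h4 hxp
        obtain ⟨J, hJ, hpJ⟩ := exists_component_of_mem_layer hc hp hp2 (x := (e * f) ^ (orderOf (e * f) / p))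
          (pow_mem h3 _) (orderOf_pow_orderOf_div (orderOf_pos _).ne' h5)
        have hJn := normal hc hJ
        refine ⟨J, hJ, ?_⟩
        have h6 := layer_le_sup hJ h3
        rw [Subgroup.mem_sup_of_normal_left] at h6
        obtain ⟨j, hj, c, hcJ, hjc⟩ := h6
        have h7 : ∀ y ∈ J, y * c = c * y := fun y hy => mem_centralizer_iff.1 hcJ y hy
        rw [← hjc]
        refine mul_mem hj (mem_of_mul (k := k) hp hj (h7 j hj) ?_ (not_dvd_orderOf hc hJ.2 hp hp2 hpJ h7))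
        rw [hjc]
        exact hx1

/-- odd prime power order elements in the preimage of `F*(X/O₂(X))` -/
theorem mem_or_internal_pow {X : Type u} [Group X] [Finite X] (hc : OddCyc X) {p k : ℕ} (hp : p.Prime)
    (hp2 : p ≠ 2) {x : X} (hxp : orderOf x = p ^ k)
    (hx : x ∈ (generalizedFittingSubgroup (X ⧸ pCore 2 X)).comap (QuotientGroup.mk' (pCore 2 X))) :
    (zpowers x ⊔ pCore 2 X).Normal ∨ ∃ L : Subgroup X, L.Normal ∧ ⁅L, L⁆ = L ∧ TS L ∧ x ∈ L := by
  have hQ : (pCore 2 X).Normal := Lib.Cores.pCore_normal 2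
  have hO : pCore 2 (X ⧸ pCore 2 X) = ⊥ := Lib.Cores.pCore_quotient_pCore 2
  have hcq : OddCyc (X ⧸ pCore 2 X) := oddCyc_quotient hc (pCore 2 X)
  obtain ⟨π, hπ⟩ : ∃ π : X →* X ⧸ pCore 2 X, π = QuotientGroup.mk' (pCore 2 X) := ⟨_, rfl⟩
  have hπk : π.ker = pCore 2 X := by rw [hπ]; exact QuotientGroup.ker_mk' _
  rw [← hπ] at hx
  obtain ⟨j, -, hxq⟩ : ∃ j ≤ k, orderOf (π x) = p ^ j := (Nat.dvd_prime_pow hp).1 (hxp ▸ orderOf_map_dvd π x)
  rcases mem_or_pow hO hcq hp hp2 hxq hx with ⟨-, h⟩ | ⟨K, hKc, hxK⟩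
  · left
    have h1 : ((zpowers (π x)).comap π).Normal := h.comap π
    have h2 : (zpowers (π x)).comap π = zpowers x ⊔ pCore 2 X := by
      rw [← MonoidHom.map_zpowers, Subgroup.comap_map_eq, hπk]
    rwa [h2] at h1
  · right
    obtain ⟨L, h4, h5, h6, h7, -⟩ := exists_normal hc hKc
    refine ⟨L, h4, h5, h6, ?_⟩
    rw [← hπ] at h7
    have h8 : x ∈ L ⊔ pCore 2 X := by
      rw [← hπk, ← Subgroup.comap_map_eq, Subgroup.mem_comap, h7]
      exact hxK
    rw [Subgroup.mem_sup_of_normal_left] at h8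
    obtain ⟨l, hl, q, hq, rfl⟩ := h8
    obtain ⟨n, hn⟩ := Lib.Cores.pCore_isPGroup 2 (⟨q, hq⟩ : pCore 2 X)
    have h9 : (l * q) ^ 2 ^ n ∈ L := by
      rw [← QuotientGroup.eq_one_iff, QuotientGroup.mk_pow, QuotientGroup.mk_mul,
        (QuotientGroup.eq_one_iff l).2 hl, one_mul, ← QuotientGroup.mk_pow,
        show q ^ 2 ^ n = 1 from congrArg Subtype.val hn, QuotientGroup.mk_one]
    refine mem_of_pow (k := n) Nat.prime_two ?_ h9
    rw [hxp]
    exact fun hd => hp2 ((Nat.prime_dvd_prime_iff_eq Nat.prime_two hp).1 (Nat.prime_two.dvd_of_dvd_pow hd)).symm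

omit [Finite H] in
theorem int_dvd {r : ℕ} (hr : r.Prime) (h2 : r ≠ 2) {k : ℕ} {i : ℤ} (h1 : (r : ℤ) ∣ i - 1) :
    ∀ m : ℕ, (r : ℤ) ^ k ∣ i ^ 2 ^ m - 1 → (r : ℤ) ^ k ∣ i - 1
  | 0, h => by simpa using h
  | m + 1, h => by
    refine int_dvd hr h2 h1 m ?_
    have e : i ^ 2 ^ (m + 1) - 1 = (i ^ 2 ^ m - 1) * (i ^ 2 ^ m + 1) := by
      rw [pow_succ, pow_mul]; ring
    rw [e] at h
    refine IsCoprime.dvd_of_dvd_mul_right (IsCoprime.pow_left ?_) h
    have h3 : (r : ℤ) ∣ i ^ 2 ^ m - 1 := h1.trans (sub_one_dvd_pow_sub_one i (2 ^ m))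
    have h4 : ¬ (r : ℤ) ∣ i ^ 2 ^ m + 1 := by
      intro h5
      have h6 : (r : ℤ) ∣ 2 := by
        have := dvd_sub h5 h3
        have e2 : i ^ 2 ^ m + 1 - (i ^ 2 ^ m - 1) = 2 := by ring
        rwa [e2] at this
      have h7 : r ∣ 2 := by exact_mod_cast h6
      exact h2 ((Nat.prime_dvd_prime_iff_eq hr Nat.prime_two).1 h7)
    exact (Nat.prime_iff_prime_int.1 hr).coprime_iff_not_dvd.2 h4
where
  sub_one_dvd_pow_sub_one (i : ℤ) (n : ℕ) : i - 1 ∣ i ^ n - 1 := by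
    have := sub_dvd_pow_sub_pow i 1 n
    rwa [one_pow] at this

omit [Finite H] in
theorem mem_of_comm_abs {x s : H} {r k m : ℕ} (hr : r.Prime) (h2 : r ≠ 2) (hx : orderOf x = r ^ k)
    (hs : s ^ 2 ^ m = 1) (hn : s * x * s⁻¹ ∈ zpowers x) (hne : s * x * s⁻¹ ≠ x) :
    x ∈ zpowers (x * s * x⁻¹ * s⁻¹) := by
  obtain ⟨i, hi⟩ := hn
  simp only at hi
  have hpow : ∀ n : ℕ, s ^ n * x * (s ^ n)⁻¹ = x ^ (i ^ n) := by
    intro n
    induction n with
    | zero => simp
    | succ n ih =>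
      calc s ^ (n + 1) * x * (s ^ (n + 1))⁻¹ = s ^ n * (s * x * s⁻¹) * (s ^ n)⁻¹ := by
            rw [pow_succ]; group
        _ = s ^ n * x ^ i * (s ^ n)⁻¹ := by rw [hi]
        _ = (s ^ n * x * (s ^ n)⁻¹) ^ i := by rw [conj_zpow]
        _ = x ^ (i ^ (n + 1)) := by rw [ih, ← zpow_mul, pow_succ]
  have h3 : ((orderOf x : ℕ) : ℤ) ∣ i ^ 2 ^ m - 1 := by
    rw [orderOf_dvd_iff_zpow_eq_one, zpow_sub, zpow_one, ← hpow, hs]
    group
  have h4 : ¬ (r : ℤ) ∣ i - 1 := by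
    intro h5
    have h6 : ((orderOf x : ℕ) : ℤ) ∣ i - 1 := by
      rw [hx, Nat.cast_pow] at h3 ⊢
      exact int_dvd hr h2 h5 m h3
    rw [orderOf_dvd_iff_zpow_eq_one, zpow_sub, zpow_one, hi] at h6
    exact hne (mul_inv_eq_one.1 h6)
  have h5 : IsCoprime (1 - i) ((orderOf x : ℕ) : ℤ) := by
    rw [hx, Nat.cast_pow]
    refine (IsCoprime.pow_left ((Nat.prime_iff_prime_int.1 hr).coprime_iff_not_dvd.2 fun h6 => h4 ?_)).symm
    have := (dvd_neg (a := (r : ℤ)) (b := 1 - i)).2 h6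
    rwa [neg_sub] at this
  obtain ⟨a, b, hab⟩ := h5
  have h6 : x * s * x⁻¹ * s⁻¹ = x ^ (1 - i) := by
    calc x * s * x⁻¹ * s⁻¹ = x * (s * x * s⁻¹)⁻¹ := by group
      _ = x * (x ^ i)⁻¹ := by rw [hi]
      _ = x ^ (1 - i) := by rw [zpow_sub, zpow_one]
  refine ⟨a, ?_⟩
  show (x * s * x⁻¹ * s⁻¹) ^ a = x
  rw [h6]
  calc (x ^ (1 - i)) ^ a = (x ^ (1 - i)) ^ a * (x ^ ((orderOf x : ℕ) : ℤ)) ^ b := by
        rw [zpow_natCast, pow_orderOf_eq_one, one_zpow, mul_one]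
    _ = x ^ (a * (1 - i) + b * ((orderOf x : ℕ) : ℤ)) := by
        rw [zpow_add, mul_comm a, mul_comm b, zpow_mul, zpow_mul]
    _ = x := by rw [hab, zpow_one]

/-- `s x s⁻¹ ∈ ⟨x⟩N`, the 2-element `s` does not centralise `x` modulo `N`: `x ∈ ⟨[x,s]⟩N` -/
theorem mem_of_comm {N : Subgroup H} {x s : H} {r k m : ℕ} (hr : r.Prime) (h2 : r ≠ 2) (hx : orderOf x = r ^ k)
    (hs : s ^ 2 ^ m = 1) (hxN : x ∈ normalizer (N : Set H)) (hsN : s ∈ normalizer (N : Set H))
    (hn : s * x * s⁻¹ ∈ zpowers x ⊔ N) (hne : s * x * s⁻¹ * x⁻¹ ∉ N) :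
    x ∈ zpowers (x * s * x⁻¹ * s⁻¹) ⊔ N := by
  obtain ⟨T, hT⟩ : ∃ T : Subgroup H, T = normalizer (N : Set H) := ⟨_, rfl⟩
  have hNT : N ≤ T := hT ▸ le_normalizer
  have hN' : (N.subgroupOf T).Normal := by rw [hT]; exact Subgroup.normal_in_normalizer
  obtain ⟨x, rfl⟩ : ∃ x' : T, (x' : H) = x := ⟨⟨x, hT ▸ hxN⟩, rfl⟩
  obtain ⟨s, rfl⟩ : ∃ s' : T, (s' : H) = s := ⟨⟨s, hT ▸ hsN⟩, rfl⟩
  obtain ⟨π, hπ⟩ : ∃ π : T →* T ⧸ N.subgroupOf T, π = QuotientGroup.mk' (N.subgroupOf T) := ⟨_, rfl⟩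
  have hker : ∀ t : T, π t = 1 → (t : H) ∈ N := by
    intro t ht
    rw [← MonoidHom.mem_ker, hπ, QuotientGroup.ker_mk', mem_subgroupOf] at ht
    exact ht
  have hcomap : ∀ y : T, (zpowers (π y)).comap π = zpowers y ⊔ N.subgroupOf T := by
    intro y
    rw [← MonoidHom.map_zpowers, Subgroup.comap_map_eq, hπ, QuotientGroup.ker_mk']
  have hmap : ∀ y : T, (zpowers y ⊔ N.subgroupOf T).map T.subtype = zpowers (y : H) ⊔ N := by
    intro y
    rw [Subgroup.map_sup, MonoidHom.map_zpowers, Subgroup.subgroupOf_map_subtype, inf_eq_left.2 hNT]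
    rfl
  have hsup1 : ∀ y t : T, (t : H) ∈ zpowers (y : H) ⊔ N → π t ∈ zpowers (π y) := by
    intro y t h
    rw [← hmap] at h
    obtain ⟨u, hu, hut⟩ := h
    rw [← Subgroup.mem_comap, hcomap, ← Subtype.ext (show (u : H) = t from hut)]
    exact hu
  have hsup2 : ∀ y t : T, π t ∈ zpowers (π y) → (t : H) ∈ zpowers (y : H) ⊔ N := by
    intro y t h
    rw [← hmap]
    rw [← Subgroup.mem_comap, hcomap] at h
    exact ⟨t, h, rfl⟩
  obtain ⟨j, -, hxq⟩ : ∃ j ≤ k, orderOf (π x) = r ^ j := by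
    refine (Nat.dvd_prime_pow hr).1 (hx ▸ ?_)
    rw [Subgroup.orderOf_coe]
    exact orderOf_map_dvd π x
  have e1 : s ^ 2 ^ m = 1 := by
    apply Subtype.ext
    rw [SubmonoidClass.coe_pow, hs]
    rfl
  have e2 : (π s) ^ 2 ^ m = 1 := by rw [← map_pow, e1, map_one]
  have e3 : π s * π x * (π s)⁻¹ ∈ zpowers (π x) := by
    rw [← map_inv, ← map_mul, ← map_mul]
    refine hsup1 x (s * x * s⁻¹) ?_
    rw [Subgroup.coe_mul, Subgroup.coe_mul, Subgroup.coe_inv]
    exact hn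
  have e4 : π s * π x * (π s)⁻¹ ≠ π x := by
    intro h4
    apply hne
    have h5 := hker (s * x * s⁻¹ * x⁻¹) (by
      rw [map_mul, map_mul, map_mul, map_inv, map_inv, h4, mul_inv_cancel])
    rw [Subgroup.coe_mul, Subgroup.coe_mul, Subgroup.coe_mul, Subgroup.coe_inv, Subgroup.coe_inv] at h5
    exact h5
  have h3 := mem_of_comm_abs hr h2 hxq e2 e3 e4
  rw [← map_inv, ← map_inv, ← map_mul, ← map_mul, ← map_mul] at h3
  have h6 := hsup2 (x * s * x⁻¹ * s⁻¹) x h3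
  rw [Subgroup.coe_mul, Subgroup.coe_mul, Subgroup.coe_mul, Subgroup.coe_inv, Subgroup.coe_inv] at h6
  exact h6

end Abs

end Cfsg.Agent.OddCyclic.UniStruct
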