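import Mathlib
import Cfsg.Agent.OddCyclic.UniPow
import Cfsg.Agent.OddCyclic.CycConj
import Cfsg.Agent.ZN.ChoiceSit

/-!
# (UNI-b): the unique maximal 2-local subgroup over `P = SR`

* `RType S P r x`: `P = S⟨x⟩`, `x` of odd prime power order, `⟨x⟩O₂(P)` normal in `P`, not centralised by `S`
  modulo `O₂(P)`; `NP P x = ⟨x^P⟩`;
* `RType.norm_or`: `X ≥ P`, `O₂(X) ≠ 1`: `X ≤ N(NP P x)` or `x` lies in some `L` with `Cp X L`;
* `Uni S P N`: `P = N S`, `S ≤ N(N)`, `O₂(N) ≠ 1`, every `X ≥ P` with `O₂(X) ≠ 1` normalises `N`;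
* `DD S P N`: the pairs `(LS, L)`, `L` in `LL*(S)`, and `(P, NP P x)` with `x` in no member of `LL(S)`; `DD.uni`.
-/

set_option autoImplicit false
set_option linter.unusedSectionVars false

namespace Cfsg.Agent.OddCyclic.UniStruct

open Subgroup Cfsg Cfsg.Agent.ZN
open Cfsg.Agent.ZN.Block (o2_isPGroup le_normalizer_o2 le_o2 o2_le conj_mem_of_normalizer conj_mem_of_normalizer'
  le_normalizer_of_forall)
open scoped commutatorElement
open Cfsg.Agent.OddCyclic.T1Defs (OddCyc)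
open Cfsg.Agent.OddCyclic.CompBasic
open Cfsg.Agent.SignalizersComponents.Components
open Cfsg.Agent.MinSimple.Basic (char2_of_o2_ne_bot)
open Cfsg.Agent.ZN.ChoiceBase (cj mem_cj cj_mono cj_cj cj_inv_cj cj_cj_inv cj_le_iff cj_normalizer isPGroup_cj
  mem_normalizer_iff_cj)
open Cfsg.Agent.ZN.ChoiceSit (o2_cj)

universe u

variable {G : Type u} [Group G]

theorem cj_sup (g : G) (A B : Subgroup G) : cj g (A ⊔ B) = cj g A ⊔ cj g B := Subgroup.map_sup _ _ _

theorem cj_zpowers (g x : G) : cj g (zpowers x) = zpowers (g * x * g⁻¹) := CycConj.map_zpowers_conj g x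

theorem cj_eq_bot {g : G} {A : Subgroup G} : cj g A = ⊥ ↔ A = ⊥ :=
  Subgroup.map_eq_bot_iff_of_injective _ (MulAut.conj g).injective

/-- `P = S⟨x⟩`, `x` of odd prime power order, `⟨x⟩O₂(P)` normal in `P`, not centralised by `S` modulo `O₂(P)` -/
structure RType (S P : Subgroup G) (r : ℕ) (x : G) : Prop where
  prime : r.Prime
  odd : r ≠ 2
  ord : ∃ k, orderOf x = r ^ k
  sup : P = S ⊔ zpowers x
  norm : ∀ g ∈ P, g * x * g⁻¹ ∈ zpowers x ⊔ o2 P
  ncomm : ∃ s ∈ S, s * x * s⁻¹ * x⁻¹ ∉ o2 P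

/-- the normal closure of `x` in `P` -/
def NP (P : Subgroup G) (x : G) : Subgroup G := closure {y | ∃ g ∈ P, y = g * x * g⁻¹}

theorem mem_NP {P : Subgroup G} {x g : G} (hg : g ∈ P) : g * x * g⁻¹ ∈ NP P x := subset_closure ⟨g, hg, rfl⟩

theorem self_mem_NP (P : Subgroup G) (x : G) : x ∈ NP P x := by
  have := mem_NP (x := x) P.one_mem
  simpa using this

theorem NP_le {P : Subgroup G} {x : G} (hx : x ∈ P) : NP P x ≤ P := by
  rw [NP, closure_le]
  rintro _ ⟨g, hg, rfl⟩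
  exact mul_mem (mul_mem hg hx) (inv_mem hg)

/-- a subgroup mapping the conjugates of `x` into `NP P x` normalises `NP P x` -/
theorem le_normalizer_NP {P X : Subgroup G} {x : G} (h : ∀ a ∈ X, ∀ g ∈ P, a * (g * x * g⁻¹) * a⁻¹ ∈ NP P x) :
    X ≤ normalizer (NP P x : Set G) := by
  refine le_normalizer_of_forall fun a ha m hm => ?_
  have h1 : NP P x ≤ (NP P x).comap (MulAut.conj a).toMonoidHom := by
    conv_lhs => rw [NP]
    rw [closure_le]
    rintro _ ⟨g, hg, rfl⟩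
    exact h a ha g hg
  exact h1 hm

theorem NP_normal (P : Subgroup G) (x : G) : P ≤ normalizer (NP P x : Set G) := by
  refine le_normalizer_NP fun a ha g hg => ?_
  have e : a * (g * x * g⁻¹) * a⁻¹ = (a * g) * x * (a * g)⁻¹ := by group
  rw [e]
  exact mem_NP (mul_mem ha hg)

theorem cj_NP (a : G) (P : Subgroup G) (x : G) : cj a (NP P x) = NP (cj a P) (a * x * a⁻¹) := by
  have key : ∀ (a : G) (P : Subgroup G) (x : G), cj a (NP P x) ≤ NP (cj a P) (a * x * a⁻¹) := by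
    intro a P x
    rw [Subgroup.map_le_iff_le_comap]
    conv_lhs => rw [NP]
    rw [closure_le]
    rintro _ ⟨g, hg, rfl⟩
    have h1 := mem_NP (P := cj a P) (x := a * x * a⁻¹) (g := a * g * a⁻¹) ⟨g, hg, rfl⟩
    have e : a * g * a⁻¹ * (a * x * a⁻¹) * (a * g * a⁻¹)⁻¹ = a * (g * x * g⁻¹) * a⁻¹ := by group
    rw [e] at h1
    exact h1
  refine le_antisymm (key a P x) ?_
  have h1 := key a⁻¹ (cj a P) (a * x * a⁻¹)
  rw [cj_inv_cj] at h1
  have e : a⁻¹ * (a * x * a⁻¹) * a⁻¹⁻¹ = x := by group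
  rw [e] at h1
  have h2 := cj_mono a h1
  rwa [cj_cj_inv] at h2

section RT

variable {S P : Subgroup G} {r : ℕ} {x : G}

theorem RType.le (h : RType S P r x) : S ≤ P := by rw [h.sup]; exact le_sup_left

theorem RType.mem (h : RType S P r x) : x ∈ P := by rw [h.sup]; exact le_sup_right (a := S) (mem_zpowers x)

theorem RType.ne_one (h : RType S P r x) : x ≠ 1 := by
  rintro rfl
  obtain ⟨s, -, hs⟩ := h.ncomm
  apply hs
  have e : s * 1 * s⁻¹ * 1⁻¹ = 1 := by group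
  rw [e]
  exact one_mem _

theorem RType.not_two (h : RType S P r x) {N : Subgroup G} (hN : IsPGroup 2 N) : x ∉ N := by
  intro hx
  obtain ⟨k, hk⟩ := h.ord
  obtain ⟨n, hn⟩ := hN ⟨x, hx⟩
  have h1 : x ^ 2 ^ n = 1 := congrArg Subtype.val hn
  have h2 : x ∈ (⊥ : Subgroup G) := by
    refine mem_of_pow (k := n) Nat.prime_two ?_ (by rw [h1]; exact one_mem _)
    rw [hk]
    exact fun hd => h.odd ((Nat.prime_dvd_prime_iff_eq Nat.prime_two h.prime).1
      (Nat.prime_two.dvd_of_dvd_pow hd)).symm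
  exact h.ne_one (mem_bot.1 h2)

theorem RType.cj (h : RType S P r x) (g : G) : RType (cj g S) (cj g P) r (g * x * g⁻¹) where
  prime := h.prime
  odd := h.odd
  ord := by
    obtain ⟨k, hk⟩ := h.ord
    refine ⟨k, ?_⟩
    rw [← hk, ← MulAut.conj_apply]
    exact orderOf_injective (MulAut.conj g).toMonoidHom (MulAut.conj g).injective x
  sup := by
    rw [h.sup, cj_sup, cj_zpowers]
  norm := by
    rintro _ ⟨a, ha, rfl⟩
    have h1 := h.norm a ha
    have h2 : g * (a * x * a⁻¹) * g⁻¹ ∈ ChoiceBase.cj g (zpowers x ⊔ o2 P) := ⟨_, h1, rfl⟩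
    rw [cj_sup, cj_zpowers, ← o2_cj] at h2
    have e : g * (a * x * a⁻¹) * g⁻¹ = g * a * g⁻¹ * (g * x * g⁻¹) * (g * a * g⁻¹)⁻¹ := by group
    rw [e] at h2
    exact h2
  ncomm := by
    obtain ⟨s, hs, h1⟩ := h.ncomm
    refine ⟨g * s * g⁻¹, ⟨s, hs, rfl⟩, fun h2 => h1 ?_⟩
    rw [o2_cj, mem_cj] at h2
    have e : g⁻¹ * (g * s * g⁻¹ * (g * x * g⁻¹) * (g * s * g⁻¹)⁻¹ * (g * x * g⁻¹)⁻¹) * g =
      s * x * s⁻¹ * x⁻¹ := by group
    rwa [e] at h2

end RT

variable [Finite G]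

/-- **(UNI-b)**, first form -/
theorem RType.norm_or (hG : Hyp G) (S : Sylow 2 G) {P X : Subgroup G} {r : ℕ} {x : G}
    (h : RType (S : Subgroup G) P r x) (hPX : P ≤ X) (hX : o2 X ≠ ⊥) :
    X ≤ normalizer (NP P x : Set G) ∨ ∃ L, Cp X L ∧ x ∈ L := by
  have hSX : (S : Subgroup G) ≤ X := h.le.trans hPX
  have hxX : x ∈ X := hPX h.mem
  have hQ : (pCore 2 X).Normal := Lib.Cores.pCore_normal 2
  have hO : pCore 2 (X ⧸ pCore 2 X) = ⊥ := Lib.Cores.pCore_quotient_pCore 2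
  have hcX : OddCyc X := oddCyc_subgroup hG.cyc X
  have hcq : OddCyc (X ⧸ pCore 2 X) := oddCyc_quotient hcX (pCore 2 X)
  obtain ⟨π, hπ⟩ : ∃ π : X →* X ⧸ pCore 2 X, π = QuotientGroup.mk' (pCore 2 X) := ⟨_, rfl⟩
  obtain ⟨F, hF⟩ : ∃ F : Subgroup X, F = (generalizedFittingSubgroup (X ⧸ pCore 2 X)).comap π := ⟨_, rfl⟩
  have hFn : F.Normal := by
    rw [hF]
    exact Subgroup.Normal.comap (Lib.GenFitting.genFitting_normal) π
  obtain ⟨k, hk⟩ := h.ord
  obtain ⟨s, hs, hns⟩ := h.ncomm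
  obtain ⟨m, hm⟩ := S.isPGroup' ⟨s, hs⟩
  have hm1 : s ^ 2 ^ m = 1 := congrArg Subtype.val hm
  -- `[x, s]` lies in `F`
  have h1 : x * s * x⁻¹ * s⁻¹ ∈ F.map X.subtype := by
    refine ⟨⟨x, hxX⟩ * ⟨s, hSX hs⟩ * ⟨x, hxX⟩⁻¹ * ⟨s, hSX hs⟩⁻¹, ?_, rfl⟩
    show _ ∈ F
    rw [hF, Subgroup.mem_comap, map_mul, map_mul, map_mul, map_inv, map_inv]
    refine comm_mem hO hcq (hG.tame X hX).quot (π ⟨x, hxX⟩) ⟨m, ?_⟩
    rw [← map_pow, show (⟨s, hSX hs⟩ : X) ^ 2 ^ m = 1 from Subtype.ext hm1, map_one]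
  -- `x ∈ ⟨[x,s]⟩ O₂(P)`
  have h2 := mem_of_comm h.prime h.odd hk hm1 (le_normalizer_o2 P h.mem) (le_normalizer_o2 P (h.le hs))
    (h.norm s (h.le hs)) hns
  have h3 : x ∈ F.map X.subtype ⊔ o2 P := sup_le_sup_right (zpowers_le.2 h1) _ h2
  -- `x ∈ F`
  have hoP : o2 P ≤ X := (o2_le P).trans hPX
  have h4 : (⟨x, hxX⟩ : X) ∈ F ⊔ (o2 P).subgroupOf X := by
    have h5 : (F ⊔ (o2 P).subgroupOf X).map X.subtype = F.map X.subtype ⊔ o2 P := by
      rw [Subgroup.map_sup, Subgroup.subgroupOf_map_subtype, inf_eq_left.2 hoP]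
    rw [← h5] at h3
    obtain ⟨y, hy, hyx⟩ := h3
    have e : y = (⟨x, hxX⟩ : X) := Subtype.ext hyx
    rwa [← e]
  have h6 : (⟨x, hxX⟩ : X) ∈ F := by
    rw [Subgroup.mem_sup_of_normal_left] at h4
    obtain ⟨f, hf, q, hq, hfq⟩ := h4
    obtain ⟨n, hn⟩ := ((o2_isPGroup P).comap_subtype : IsPGroup 2 ((o2 P).subgroupOf X)) ⟨q, hq⟩
    have hq1 : q ^ 2 ^ n = 1 := congrArg Subtype.val hn
    rw [← hfq]
    refine mem_of_pow (k := n) Nat.prime_two ?_ ?_
    · rw [hfq, Subgroup.orderOf_mk, hk]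
      exact fun hd => h.odd ((Nat.prime_dvd_prime_iff_eq Nat.prime_two h.prime).1
        (Nat.prime_two.dvd_of_dvd_pow hd)).symm
    · rw [← QuotientGroup.eq_one_iff, QuotientGroup.mk_pow, QuotientGroup.mk_mul,
        (QuotientGroup.eq_one_iff f).2 hf, one_mul, ← QuotientGroup.mk_pow, hq1, QuotientGroup.mk_one]
  have h7 := mem_or_internal_pow hcX h.prime h.odd (x := (⟨x, hxX⟩ : X)) (k := k)
    (by rw [Subgroup.orderOf_mk, hk]) (by rw [hF, hπ] at h6; exact h6)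
  rcases h7 with h7 | ⟨L, hL1, hL2, hL3, hL4⟩
  · left
    -- `B = ⟨x⟩ O₂(X)` is normal in `X`
    have hB : ∀ a ∈ X, a * x * a⁻¹ ∈ zpowers x ⊔ o2 X := by
      intro a ha
      have h8 := h7.conj_mem ⟨x, hxX⟩ (le_sup_left (a := zpowers (⟨x, hxX⟩ : X)) (mem_zpowers _)) ⟨a, ha⟩
      have h9 : (zpowers (⟨x, hxX⟩ : X) ⊔ pCore 2 X).map X.subtype = zpowers x ⊔ o2 X := by
        rw [Subgroup.map_sup, MonoidHom.map_zpowers]
        rfl
      rw [← h9]
      exact ⟨_, h8, rfl⟩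
    have hBP : zpowers x ⊔ o2 X ≤ P :=
      sup_le (zpowers_le.2 h.mem) ((o2_le_sylow S hSX).trans h.le)
    refine le_normalizer_NP fun a ha g hg => ?_
    have e : a * (g * x * g⁻¹) * a⁻¹ = (a * g) * x * (a * g)⁻¹ := by group
    rw [e]
    have hag : a * g ∈ X := mul_mem ha (hPX hg)
    have hord : orderOf (a * g * x * (a * g)⁻¹) = r ^ k := by
      rw [← MulAut.conj_apply, ← hk]
      exact orderOf_injective (MulAut.conj (a * g)).toMonoidHom (MulAut.conj (a * g)).injective x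
    obtain ⟨b, hb, hbx⟩ := CycConj.prime_power hG.cyc h.prime h.odd (H := zpowers x ⊔ o2 X)
      (hB _ hag) (le_sup_left (a := zpowers x) (mem_zpowers x)) hord hk
    have h8 : a * g * x * (a * g)⁻¹ ∈ zpowers (b * x * b⁻¹) := by
      rw [hbx]; exact mem_zpowers _
    exact (zpowers_le.2 (mem_NP (hBP hb))) h8
  · right
    exact ⟨L.map X.subtype, cp_of_internal hL1 hL2 hL3, ⟨_, hL4, rfl⟩⟩

/-- `P = N S`, `S ≤ N(N)`, `O₂(N) ≠ 1`, every `X ≥ P` with `O₂(X) ≠ 1` normalises `N` -/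
structure Uni (S P N : Subgroup G) : Prop where
  sup : P = N ⊔ S
  norm : S ≤ normalizer (N : Set G)
  loc : o2 N ≠ ⊥
  uni : ∀ X, P ≤ X → o2 X ≠ ⊥ → X ≤ normalizer (N : Set G)

section UN

variable {S P N : Subgroup G}

theorem Uni.le (h : Uni S P N) : S ≤ P := by rw [h.sup]; exact le_sup_right

theorem Uni.le' (h : Uni S P N) : N ≤ P := by rw [h.sup]; exact le_sup_left

theorem Uni.le_normalizer (h : Uni S P N) : P ≤ normalizer (N : Set G) := by
  rw [h.sup]; exact sup_le Subgroup.le_normalizer h.norm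

theorem Uni.o2_normalizer (h : Uni S P N) : o2 (normalizer (N : Set G)) ≠ ⊥ := by
  intro h0
  apply h.loc
  rw [← le_bot_iff, ← h0]
  refine le_o2 (o2_isPGroup N) ((o2_le N).trans Subgroup.le_normalizer) ?_
  refine le_normalizer_of_forall fun g hg m hm => ?_
  have h1 : cj g (o2 N) = o2 N := by
    rw [← o2_cj, mem_normalizer_iff_cj.1 hg]
  rw [← h1]
  exact ⟨m, hm, rfl⟩

/-- `N(N)` is self-normalising -/
theorem Uni.normalizer_normalizer (h : Uni S P N) :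
    normalizer ((normalizer (N : Set G) : Subgroup G) : Set G) = normalizer (N : Set G) := by
  refine le_antisymm ?_ Subgroup.le_normalizer
  have h1 : normalizer ((normalizer (N : Set G) : Subgroup G) : Set G) ≤
      normalizer (o2 (normalizer (N : Set G)) : Set G) := by
    refine le_normalizer_of_forall fun g hg m hm => ?_
    have h1 : cj g (o2 (normalizer (N : Set G))) = o2 (normalizer (N : Set G)) := by
      rw [← o2_cj, mem_normalizer_iff_cj.1 hg]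
    rw [← h1]
    exact ⟨m, hm, rfl⟩
  refine h1.trans (h.uni _ ?_ (o2_normalizer_ne_bot (o2_isPGroup _) h.o2_normalizer))
  exact h.le_normalizer.trans (le_normalizer_o2 _)

theorem Uni.cj (h : Uni S P N) (g : G) : Uni (cj g S) (cj g P) (cj g N) where
  sup := by rw [h.sup, cj_sup]
  norm := by rw [← cj_normalizer]; exact cj_mono g h.norm
  loc := by
    rw [o2_cj]
    intro h0
    exact h.loc (cj_eq_bot.1 h0)
  uni X hX hX2 := by
    have h1 := h.uni (ChoiceBase.cj g⁻¹ X) (by rwa [← cj_le_iff]) (by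
      rw [o2_cj]
      intro h0
      exact hX2 (cj_eq_bot.1 h0))
    rw [← cj_normalizer, ← cj_cj_inv g X]
    exact cj_mono g h1

end UN

theorem RType.o2_NP_ne_bot (hG : Hyp G) (S : Sylow 2 G) {P : Subgroup G} {r : ℕ} {x : G}
    (h : RType (S : Subgroup G) P r x) (hP : o2 P ≠ ⊥) : o2 (NP P x) ≠ ⊥ := by
  intro h0
  have hc := char2_of_o2_ne_bot hG.char2 S h.le hP
  have h1 : NP P x ⊓ o2 P ≤ o2 (NP P x) := le_o2 ((o2_isPGroup P).to_le inf_le_right) inf_le_left (by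
    refine le_normalizer_of_forall fun l hl m hm => Subgroup.mem_inf.2 ⟨?_, ?_⟩
    · exact mul_mem (mul_mem hl hm.1) (inv_mem hl)
    · exact conj_mem_of_normalizer (le_normalizer_o2 P) (NP_le h.mem hl) hm.2)
  rw [h0, le_bot_iff] at h1
  have h2 : x ∈ P ⊓ centralizer (o2 P : Set G) := by
    refine Subgroup.mem_inf.2 ⟨h.mem, ?_⟩
    rw [mem_centralizer_iff]
    intro q hq
    have h3 : q * x * q⁻¹ * x⁻¹ ∈ NP P x ⊓ o2 P := by
      refine Subgroup.mem_inf.2 ⟨mul_mem (mem_NP (o2_le P hq)) (inv_mem (self_mem_NP P x)), ?_⟩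
      have e : q * x * q⁻¹ * x⁻¹ = q * (x * q⁻¹ * x⁻¹) := by group
      rw [e]
      exact mul_mem hq (conj_mem_of_normalizer (le_normalizer_o2 P) h.mem (inv_mem hq))
    rw [h1, mem_bot] at h3
    calc q * x = q * x * q⁻¹ * x⁻¹ * (x * q) := by group
      _ = x * q := by rw [h3, one_mul]
  exact h.not_two (o2_isPGroup P) (hc h2)

/-- **(UNI-b)** -/
theorem RType.uni (hG : Hyp G) (S : Sylow 2 G) {P : Subgroup G} {r : ℕ} {x : G}
    (h : RType (S : Subgroup G) P r x) (hP : o2 P ≠ ⊥) (hL : ∀ L, LL (S : Subgroup G) L → x ∉ L) :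
    Uni (S : Subgroup G) P (NP P x) where
  sup := by
    refine le_antisymm ?_ (sup_le (NP_le h.mem) h.le)
    conv_lhs => rw [h.sup]
    exact sup_le le_sup_right (zpowers_le.2 (le_sup_left (a := NP P x) (self_mem_NP P x)))
  norm := h.le.trans (NP_normal P x)
  loc := h.o2_NP_ne_bot hG S hP
  uni X hX hX2 := by
    rcases h.norm_or hG S hX hX2 with h1 | ⟨L, h1, h2⟩
    · exact h1
    · exact absurd h2 (hL L (h1.ll S (h.le.trans hX) hX2))

theorem MaxLL.uni (hG : Hyp G) (S : Sylow 2 G) {L : Subgroup G} (h : MaxLL (S : Subgroup G) L) :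
    Uni (S : Subgroup G) (L ⊔ S) L where
  sup := rfl
  norm := h.norm
  loc := h.o2_ne_bot hG S
  uni _ hX hX2 := (h.cp hG S hX hX2).norm

/-- the family `DD(S)` of pairs `(P, O²(P))` -/
def DD (S P N : Subgroup G) : Prop :=
  (MaxLL S N ∧ P = N ⊔ S) ∨ (∃ r x, RType S P r x ∧ o2 P ≠ ⊥ ∧ (∀ L, LL S L → x ∉ L) ∧ N = NP P x)

theorem DD.uni (hG : Hyp G) (S : Sylow 2 G) {P N : Subgroup G} (h : DD (S : Subgroup G) P N) :
    Uni (S : Subgroup G) P N := by
  rcases h with ⟨h1, rfl⟩ | ⟨r, x, h1, h2, h3, rfl⟩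
  · exact h1.uni hG S
  · exact h1.uni hG S h2 h3

end Cfsg.Agent.OddCyclic.UniStruct
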