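import Mathlib
import Cfsg.Agent.OddCyclic.UniB

/-!
# Generation of 2-local subgroups over `S` and (EX)

* `gen`: `M ≥ S`, `O₂(M) ≠ 1`, is generated by `N_M(S)`, the `L` with `Cp M L` and the `x` of the `RType S P r x`, `P ≤ M`;
* `exists_two` (**EX**): two maximal 2-local subgroups over `S` give two members of `DD(S)` with different `N(N)`.
-/

set_option autoImplicit false
set_option linter.unusedSectionVars false

namespace Cfsg.Agent.OddCyclic.UniStruct

open Subgroup Cfsg Cfsg.Agent.ZN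
open Cfsg.Agent.ZN.Block (o2_isPGroup le_normalizer_o2 le_o2 o2_le conj_mem_of_normalizer conj_mem_of_normalizer'
  le_normalizer_of_forall)
open scoped commutatorElement
open Cfsg.Agent.OddCyclic.T1Defs (OddCyc)
open Cfsg.Agent.OddCyclic.CompBasic
open Cfsg.Agent.SignalizersComponents.Components
open Cfsg.Agent.MinSimple.Basic (char2_of_o2_ne_bot)
open Cfsg.Agent.ZN.ChoiceBase (cj mem_cj cj_mono cj_cj cj_inv_cj cj_cj_inv cj_le_iff cj_normalizer isPGroup_cj
  mem_normalizer_iff_cj)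
open Cfsg.Agent.ZN.ChoiceSit (o2_cj)

universe u

section Abs

variable {H : Type u} [Group H]

theorem mem_of_pow_coprime {N : Subgroup H} {c : H} {n : ℕ} (h1 : (orderOf c).Coprime n) (h : c ^ n ∈ N) :
    c ∈ N := by
  obtain ⟨a, b, hab⟩ := (Nat.isCoprime_iff_coprime.2 h1 : IsCoprime ((orderOf c : ℕ) : ℤ) ((n : ℕ) : ℤ))
  have h2 : c = (c ^ n) ^ b := by
    calc c = c ^ (a * (orderOf c : ℤ) + b * ((n : ℕ) : ℤ)) := by rw [hab, zpow_one]
      _ = (c ^ (orderOf c : ℤ)) ^ a * (c ^ ((n : ℕ) : ℤ)) ^ b := by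
        rw [zpow_add, mul_comm a, mul_comm b, zpow_mul, zpow_mul]
      _ = (c ^ n) ^ b := by
        rw [zpow_natCast, pow_orderOf_eq_one, one_zpow, one_mul, zpow_natCast]
  rw [h2]
  exact zpow_mem h b

/-- a subgroup containing the powers of `f` of prime power order contains `f` -/
theorem mem_of_prime_power [Finite H] {W : Subgroup H} (n : ℕ) : ∀ f : H, orderOf f = n →
    (∀ y ∈ zpowers f, ∀ p k : ℕ, p.Prime → orderOf y = p ^ k → y ∈ W) → f ∈ W := by
  induction n using Nat.strong_induction_on with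
  | _ n ih =>
    intro f hf h
    by_cases hn1 : n = 1
    · rw [hn1, orderOf_eq_one_iff] at hf
      rw [hf]; exact one_mem _
    · have hn0 : n ≠ 0 := by rw [← hf]; exact (orderOf_pos f).ne'
      obtain ⟨a, m, hm, hnm⟩ := Nat.exists_eq_pow_mul_and_not_dvd hn0 n.minFac (Nat.minFac_prime hn1).ne_one
      have hp := Nat.minFac_prime hn1
      obtain ⟨p, hpn⟩ : ∃ p, p = n.minFac := ⟨_, rfl⟩
      rw [← hpn] at hp hm hnm
      have ha : a ≠ 0 := by
        rintro rfl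
        rw [pow_zero, one_mul] at hnm
        exact hm (hnm ▸ hpn ▸ Nat.minFac_dvd n)
      have hm0 : 0 < m := Nat.pos_of_ne_zero (by rintro rfl; exact hn0 (by rw [hnm, mul_zero]))
      have hpa : 0 < p ^ a := pow_pos hp.pos a
      have hco : Nat.Coprime m (p ^ a) := (Nat.Coprime.pow_left a ((Nat.Prime.coprime_iff_not_dvd hp).2 hm)).symm
      have h1 : orderOf (f ^ m) = p ^ a := by
        rw [orderOf_pow, hf, hnm, Nat.gcd_eq_right (dvd_mul_left m _), Nat.mul_div_cancel _ hm0]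
      have h2 : orderOf (f ^ p ^ a) = m := by
        rw [orderOf_pow, hf, hnm, Nat.gcd_eq_right (dvd_mul_right (p ^ a) _), Nat.mul_div_cancel_left _ hpa]
      have h3 : f ^ m ∈ W := h _ (pow_mem (mem_zpowers f) m) p a hp h1
      have h4 : f ^ p ^ a ∈ W := by
        refine ih m ?_ _ h2 fun y hy q k hq hyq => h y ?_ q k hq hyq
        · rw [hnm]
          exact (Nat.lt_mul_iff_one_lt_left hm0).2 (Nat.one_lt_pow ha hp.one_lt)
        · exact (zpowers_le.2 (pow_mem (mem_zpowers f) _)) hy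
      have h5 := CycConj.zpowers_eq_of_pow (x := f) hco
      exact (sup_le (zpowers_le.2 h3) (zpowers_le.2 h4) : zpowers (f ^ m) ⊔ zpowers (f ^ p ^ a) ≤ W)
        (h5 ▸ mem_zpowers f)

/-- lifting elements of prime power order -/
theorem exists_lift {X : Type*} [Group X] [Finite X] (π : X →* H) (hπ : Function.Surjective π) {f : H} {p k : ℕ}
    (hp : p.Prime) (hf : orderOf f = p ^ k) :
    ∃ x : X, ∃ j, orderOf x = p ^ j ∧ f ∈ zpowers (π x) ∧ π x ∈ zpowers f := by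
  obtain ⟨y, rfl⟩ := hπ f
  obtain ⟨a, m, hm, hnm⟩ := Nat.exists_eq_pow_mul_and_not_dvd (orderOf_pos y).ne' p hp.ne_one
  have hm0 : 0 < m := Nat.pos_of_ne_zero (by rintro rfl; exact (orderOf_pos y).ne' (by rw [hnm, mul_zero]))
  refine ⟨y ^ m, a, ?_, ?_, ?_⟩
  · rw [orderOf_pow, hnm, Nat.gcd_eq_right (dvd_mul_left m _), Nat.mul_div_cancel _ hm0]
  · refine mem_of_pow_coprime (n := m) ?_ ?_
    · rw [hf]
      exact Nat.Coprime.pow_left k ((Nat.Prime.coprime_iff_not_dvd hp).2 hm)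
    · rw [← map_pow]; exact mem_zpowers _
  · rw [map_pow]; exact pow_mem (mem_zpowers _) m

end Abs

variable {G : Type u} [Group G] [Finite G]

/-- **generation** -/
theorem gen (hG : Hyp G) (S : Sylow 2 G) {M X : Subgroup G} (hM : o2 M ≠ ⊥) (hSM : (S : Subgroup G) ≤ M)
    (hSX : (S : Subgroup G) ≤ X) (hN : M ⊓ normalizer ((S : Subgroup G) : Set G) ≤ X)
    (hL : ∀ L, Cp M L → L ≤ X)
    (hR : ∀ r x, x ∈ M → RType (S : Subgroup G) ((S : Subgroup G) ⊔ zpowers x) r x → x ∈ X) : M ≤ X := by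
  have h2f : Fact (Nat.Prime 2) := ⟨Nat.prime_two⟩
  have hQ : (pCore 2 M).Normal := Lib.Cores.pCore_normal 2
  have hO : pCore 2 (M ⧸ pCore 2 M) = ⊥ := Lib.Cores.pCore_quotient_pCore 2
  have hcX : OddCyc M := oddCyc_subgroup hG.cyc M
  have hcq : OddCyc (M ⧸ pCore 2 M) := oddCyc_quotient hcX (pCore 2 M)
  obtain ⟨π, hπ⟩ : ∃ π : M →* M ⧸ pCore 2 M, π = QuotientGroup.mk' (pCore 2 M) := ⟨_, rfl⟩
  have hπs : Function.Surjective π := by rw [hπ]; exact QuotientGroup.mk'_surjective _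
  have hπk : π.ker = pCore 2 M := by rw [hπ]; exact QuotientGroup.ker_mk' _
  obtain ⟨F, hF⟩ : ∃ F : Subgroup M, F = (generalizedFittingSubgroup (M ⧸ pCore 2 M)).comap π := ⟨_, rfl⟩
  have hFn : F.Normal := by
    rw [hF]
    exact Subgroup.Normal.comap (Lib.GenFitting.genFitting_normal) π
  -- step 1: the layer
  have h1 : layer (M ⧸ pCore 2 M) ≤ (X.subgroupOf M).map π := by
    rw [layer_le_iff]
    intro K hK
    obtain ⟨L, h4, h5, h6, h7, -⟩ := exists_normal hcX hK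
    rw [← h7, ← hπ]
    refine Subgroup.map_mono fun l hl => ?_
    rw [mem_subgroupOf]
    exact hL _ (cp_of_internal h4 h5 h6) ⟨l, hl, rfl⟩
  -- the Fitting subgroup
  have h2 : fittingSubgroup (M ⧸ pCore 2 M) ≤ (X.subgroupOf M).map π := by
    intro f hf
    refine mem_of_prime_power _ f rfl fun y hy p k hp hyk => ?_
    have hyF : y ∈ fittingSubgroup (M ⧸ pCore 2 M) := (zpowers_le.2 hf) hy
    by_cases hp2 : p = 2
    · subst hp2
      have h3 : (zpowers y).Normal := zpowers_normal hO hcq hyF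
      have h4 : IsPGroup 2 (zpowers y) := IsPGroup.of_card (n := k) (by rw [Nat.card_zpowers, hyk])
      have h5 := Lib.Cores.le_pCore h3 h4
      rw [hO] at h5
      rw [mem_bot.1 (h5 (mem_zpowers y))]
      exact one_mem _
    · obtain ⟨x, j, hxj, hyx, hxy⟩ := exists_lift π hπs hp hyk
      have hxF : π x ∈ fittingSubgroup (M ⧸ pCore 2 M) := (zpowers_le.2 hyF) hxy
      have h3 : (zpowers (π x)).Normal := zpowers_normal hO hcq hxF
      have h4 : ((zpowers (π x)).comap π).Normal := h3.comap π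
      have h5 : (zpowers (π x)).comap π = zpowers x ⊔ pCore 2 M := by
        rw [← MonoidHom.map_zpowers, Subgroup.comap_map_eq, hπk]
      rw [h5] at h4
      have h6 : (zpowers x ⊔ pCore 2 M).map M.subtype = zpowers (x : G) ⊔ o2 M := by
        rw [Subgroup.map_sup, MonoidHom.map_zpowers]
        rfl
      have h7 : ∀ g ∈ M, g * (x : G) * g⁻¹ ∈ zpowers (x : G) ⊔ o2 M := by
        intro g hg
        rw [← h6]
        exact ⟨_, h4.conj_mem x (le_sup_left (a := zpowers x) (mem_zpowers x)) ⟨g, hg⟩, rfl⟩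
      have hxX : (x : G) ∈ X := by
        by_cases hc : ∀ s ∈ (S : Subgroup G), s * (x : G) * s⁻¹ * (x : G)⁻¹ ∈ o2 ((S : Subgroup G) ⊔ zpowers (x : G))
        · refine hN (Subgroup.mem_inf.2 ⟨x.2, ?_⟩)
          have h8 : o2 ((S : Subgroup G) ⊔ zpowers (x : G)) ≤ S := o2_le_sylow S le_sup_left
          have h9 : ∀ s ∈ (S : Subgroup G), (x : G) * s * (x : G)⁻¹ ∈ (S : Subgroup G) := by
            intro s hs
            have h10 := mul_mem (inv_mem (inv_mem hs)) (h8 (hc s⁻¹ (inv_mem hs)))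
            have e : s⁻¹⁻¹ * (s⁻¹ * (x : G) * s⁻¹⁻¹ * (x : G)⁻¹) = (x : G) * s * (x : G)⁻¹ := by group
            rwa [e] at h10
          exact ChoiceBase.mem_normalizer_of_cj_le (by
            rintro _ ⟨s, hs, rfl⟩
            exact h9 s hs)
        · push Not at hc
          refine hR p x x.2 ?_
          have hle : (S : Subgroup G) ⊔ zpowers (x : G) ≤ M := sup_le hSM (zpowers_le.2 x.2)
          exact { prime := hp, odd := hp2, ord := ⟨j, by rw [Subgroup.orderOf_coe, hxj]⟩, sup := rfl,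
                  norm := fun g hg => sup_le_sup_left (o2_le_o2 S le_sup_left hle) _ (h7 g (hle hg)),
                  ncomm := hc }
      refine (zpowers_le.2 ?_) hyx
      exact ⟨x, mem_subgroupOf.2 hxX, rfl⟩
  -- `O₂(M) ≤ S ≤ X`
  have hS' : ((S : Subgroup G).subgroupOf M) ≤ X.subgroupOf M := fun s hs => hSX hs
  have hQS : pCore 2 M ≤ (S : Subgroup G).subgroupOf M := by
    intro q hq
    exact o2_le_sylow S hSM ⟨q, hq, rfl⟩
  have h3 : F ≤ X.subgroupOf M := by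
    intro y hy
    rw [hF, Subgroup.mem_comap] at hy
    have h4 : π y ∈ (X.subgroupOf M).map π := (sup_le h1 h2 : generalizedFittingSubgroup _ ≤ _) hy
    obtain ⟨x, hx, hxy⟩ := h4
    have h5 : x⁻¹ * y ∈ π.ker := by rw [MonoidHom.mem_ker, map_mul, map_inv, hxy, inv_mul_cancel]
    rw [hπk] at h5
    have h6 := mul_mem hx (hS' (hQS h5))
    rwa [mul_inv_cancel_left] at h6
  -- step 2: the Frattini argument
  obtain ⟨T, hT⟩ : ∃ T : Subgroup M, T = F ⊔ (S : Subgroup G).subgroupOf M := ⟨_, rfl⟩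
  have hTn : T.Normal := by
    refine ⟨fun t ht g => ?_⟩
    rw [hT, Subgroup.mem_sup_of_normal_left] at ht
    obtain ⟨f, hf, s, hs, rfl⟩ := ht
    obtain ⟨m, hm⟩ := (S.isPGroup'.comap_subtype : IsPGroup 2 ((S : Subgroup G).subgroupOf M)) ⟨s, hs⟩
    have hs1 : s ^ 2 ^ m = 1 := congrArg Subtype.val hm
    have h4 : g * s * g⁻¹ * s⁻¹ ∈ F := by
      rw [hF, Subgroup.mem_comap, map_mul, map_mul, map_mul, map_inv, map_inv]
      refine comm_mem hO hcq (hG.tame M hM).quot (π g) ⟨m, ?_⟩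
      rw [← map_pow, hs1, map_one]
    have e : g * (f * s) * g⁻¹ = g * f * g⁻¹ * (g * s * g⁻¹ * s⁻¹) * s := by group
    rw [e, hT]
    exact mul_mem (mul_mem (le_sup_left (a := F) (hFn.conj_mem f hf g)) (le_sup_left (a := F) h4))
      (le_sup_right (a := F) hs)
  have h4 := Sylow.normalizer_sup_eq_top' (S.subtype hSM) (N := T) (by
    rw [hT, Sylow.coe_subtype]
    exact le_sup_right)
  have h5 : (⊤ : Subgroup M) ≤ X.subgroupOf M := by
    rw [← h4]
    refine sup_le ?_ ?_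
    · intro n hn
      rw [mem_subgroupOf]
      refine hN (Subgroup.mem_inf.2 ⟨n.2, ?_⟩)
      refine ChoiceBase.mem_normalizer_of_cj_le ?_
      rintro _ ⟨s, hs, rfl⟩
      have h6 := (mem_normalizer_iff.1 hn ⟨s, hSM hs⟩).1 (by
        show _ ∈ (S.subtype hSM : Subgroup M)
        rw [Sylow.coe_subtype]
        exact hs)
      have h7 : n * ⟨s, hSM hs⟩ * n⁻¹ ∈ (S.subtype hSM : Subgroup M) := h6
      rw [Sylow.coe_subtype] at h7
      exact h7
    · rw [hT]
      exact sup_le h3 hS'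
  intro g hg
  exact h5 (mem_top (⟨g, hg⟩ : M))

/-! ### (EX) -/

/-- maximal subgroups `M ≥ S` with `O₂(M) ≠ 1` -/
structure MaxLoc (S M : Subgroup G) : Prop where
  le : S ≤ M
  loc : o2 M ≠ ⊥
  max : ∀ X : Subgroup G, M ≤ X → o2 X ≠ ⊥ → X = M

theorem exists_maxLoc {S X : Subgroup G} (hS : S ≤ X) (hX : o2 X ≠ ⊥) : ∃ M, MaxLoc S M ∧ X ≤ M := by
  obtain ⟨M, h1, h2⟩ := (Set.toFinite {M : Subgroup G | S ≤ M ∧ o2 M ≠ ⊥}).exists_le_maximal ⟨hS, hX⟩
  refine ⟨M, ⟨h2.prop.1, h2.prop.2, fun Y hY hY2 => ?_⟩, h1⟩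
  exact le_antisymm (h2.le_of_ge ⟨h2.prop.1.trans hY, hY2⟩ hY) hY

theorem exists_maxLL {S L : Subgroup G} (h : LL S L) : ∃ L', MaxLL S L' ∧ L ≤ L' := by
  obtain ⟨M, h1, h2⟩ := (Set.toFinite {M : Subgroup G | LL S M}).exists_le_maximal h
  refine ⟨M, ⟨h2.prop, fun Y hY hY2 => ?_⟩, h1⟩
  exact le_antisymm (h2.le_of_ge hY hY2) hY2

/-- `N(N)` is the unique maximal 2-local subgroup over `P` -/
theorem Uni.maxLoc {S P N : Subgroup G} (h : Uni S P N) : MaxLoc S (normalizer (N : Set G)) where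
  le := h.norm
  loc := h.o2_normalizer
  max X hX hX2 := le_antisymm (h.uni X (h.le_normalizer.trans hX) hX2) hX

theorem Uni.eq_of_le {S P N M : Subgroup G} (h : Uni S P N) (hM : MaxLoc S M) (hPM : P ≤ M) :
    normalizer (N : Set G) = M := hM.max _ (h.uni M hPM hM.loc) h.o2_normalizer

theorem MaxLL.cj {S L : Subgroup G} (h : MaxLL S L) (g : G) : MaxLL (cj g S) (cj g L) := by
  have key : ∀ (S L : Subgroup G) (g : G), LL S L → LL (ChoiceBase.cj g S) (ChoiceBase.cj g L) := by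
    intro S L g h
    refine ⟨Schreier.Basic.map_perfect _ h.perf, ?_, ?_, ?_⟩
    · exact h.simp.congr (L.equivMapOfInjective (MulAut.conj g).toMonoidHom (MulAut.conj g).injective)
    · rw [← cj_normalizer]; exact cj_mono g h.norm
    · rw [← cj_sup, o2_cj]
      intro h0
      exact h.loc (cj_eq_bot.1 h0)
  refine ⟨key S L g h.toLL, fun L' h1 h2 => ?_⟩
  have h3 := key _ _ g⁻¹ h1
  rw [cj_inv_cj] at h3
  have h4 := h.max _ h3 (by rwa [cj_le_iff] at h2)
  rw [← h4, cj_cj_inv]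

theorem DD.cj {S P N : Subgroup G} (h : DD S P N) (g : G) : DD (cj g S) (cj g P) (cj g N) := by
  rcases h with ⟨h1, rfl⟩ | ⟨r, x, h1, h2, h3, rfl⟩
  · exact Or.inl ⟨h1.cj g, cj_sup g _ _⟩
  · refine Or.inr ⟨r, g * x * g⁻¹, h1.cj g, ?_, fun L hL hx => ?_, cj_NP g P x⟩
    · rw [o2_cj]
      intro h0
      exact h2 (cj_eq_bot.1 h0)
    · obtain ⟨L', h4, h5⟩ := exists_maxLL hL
      have h6 := (h4.cj g⁻¹).toLL
      rw [cj_inv_cj] at h6
      refine h3 _ h6 ?_
      rw [mem_cj]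
      have e : g⁻¹⁻¹ * x * g⁻¹ = g * x * g⁻¹ := by group
      rw [e]
      exact h5 hx

theorem MaxLoc.normalizer_eq {S M : Subgroup G} (h : MaxLoc S M) : normalizer (M : Set G) = M := by
  refine le_antisymm ?_ Subgroup.le_normalizer
  have h1 : normalizer (M : Set G) ≤ normalizer (o2 M : Set G) := by
    refine le_normalizer_of_forall fun g hg m hm => ?_
    have h1 : ChoiceBase.cj g (o2 M) = o2 M := by rw [← o2_cj, mem_normalizer_iff_cj.1 hg]
    rw [← h1]
    exact ⟨m, hm, rfl⟩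
  have h2 := h.max _ (le_normalizer_o2 M) (o2_normalizer_ne_bot (o2_isPGroup M) h.loc)
  rwa [h2] at h1

/-- all members of `DD(S)` with the same `M_P = M₀`: every `M ≥ S` with `O₂(M) ≠ 1` lies in `M₀` -/
theorem le_of_all (hG : Hyp G) (S : Sylow 2 G) {M₀ : Subgroup G}
    (h0 : ∀ P N, DD (S : Subgroup G) P N → normalizer (N : Set G) = M₀) (hex : ∃ P N, DD (S : Subgroup G) P N)
    {M : Subgroup G} (hSM : (S : Subgroup G) ≤ M) (hM : o2 M ≠ ⊥) : M ≤ M₀ := by
  obtain ⟨P₀, N₀, h1⟩ := hex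
  have h2 := h1.uni hG S
  have h3 := h0 _ _ h1
  have h4 : MaxLoc (S : Subgroup G) M₀ := h3 ▸ h2.maxLoc
  have hS0 := h4.le
  have hNS : normalizer ((S : Subgroup G) : Set G) ≤ M₀ := by
    intro g hg
    rw [← h4.normalizer_eq, mem_normalizer_iff_cj]
    have h5 := h1.cj g
    rw [mem_normalizer_iff_cj.1 hg] at h5
    have h6 := h0 _ _ h5
    rw [← cj_normalizer, h3] at h6
    exact h6
  have hLL : ∀ L, LL (S : Subgroup G) L → L ≤ M₀ := by
    intro L hL
    obtain ⟨L', h5, h6⟩ := exists_maxLL hL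
    have h7 := h0 (L' ⊔ S) L' (Or.inl ⟨h5, rfl⟩)
    rw [← h7]
    exact h6.trans Subgroup.le_normalizer
  refine gen hG S hM hSM hS0 (inf_le_right.trans hNS) (fun L hL => hLL L (hL.ll S hSM hM)) fun r x hx hr => ?_
  by_cases hc : ∃ L, LL (S : Subgroup G) L ∧ x ∈ L
  · obtain ⟨L, h5, h6⟩ := hc
    exact hLL L h5 h6
  · push Not at hc
    have hle : (S : Subgroup G) ⊔ zpowers x ≤ M := sup_le hSM (zpowers_le.2 hx)
    have h5 : DD (S : Subgroup G) ((S : Subgroup G) ⊔ zpowers x) (NP ((S : Subgroup G) ⊔ zpowers x) x) :=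
      Or.inr ⟨r, x, hr, o2_ne_bot_of_le S le_sup_left hle hM, hc, rfl⟩
    have h6 := h0 _ _ h5
    rw [← h6]
    exact Subgroup.le_normalizer (self_mem_NP _ _)

/-- no members of `DD(S)`: every `M ≥ S` with `O₂(M) ≠ 1` normalises `S` -/
theorem le_normalizer_of_empty (hG : Hyp G) (S : Sylow 2 G) (h0 : ∀ P N, ¬ DD (S : Subgroup G) P N)
    {M : Subgroup G} (hSM : (S : Subgroup G) ≤ M) (hM : o2 M ≠ ⊥) :
    M ≤ normalizer ((S : Subgroup G) : Set G) := by
  have hLL : ∀ L, ¬ LL (S : Subgroup G) L := by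
    intro L hL
    obtain ⟨L', h5, h6⟩ := exists_maxLL hL
    exact h0 (L' ⊔ S) L' (Or.inl ⟨h5, rfl⟩)
  refine gen hG S hM hSM Subgroup.le_normalizer inf_le_right (fun L hL => (hLL L (hL.ll S hSM hM)).elim)
    fun r x hx hr => ?_
  have hle : (S : Subgroup G) ⊔ zpowers x ≤ M := sup_le hSM (zpowers_le.2 hx)
  exact (h0 _ _ (Or.inr ⟨r, x, hr, o2_ne_bot_of_le S le_sup_left hle hM, fun L hL => (hLL L hL).elim, rfl⟩)).elim

/-- **(EX)** -/
theorem exists_two (hG : Hyp G) (S : Sylow 2 G) {M M' : Subgroup G} (hM : MaxLoc (S : Subgroup G) M)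
    (hM' : MaxLoc (S : Subgroup G) M') (hne : M ≠ M') :
    ∃ P N P' N', DD (S : Subgroup G) P N ∧ DD (S : Subgroup G) P' N' ∧
      normalizer (N : Set G) ≠ normalizer (N' : Set G) := by
  by_contra hcon
  push Not at hcon
  by_cases hex : ∃ P N, DD (S : Subgroup G) P N
  · obtain ⟨P₀, N₀, h1⟩ := hex
    have h2 : ∀ X : Subgroup G, (S : Subgroup G) ≤ X → o2 X ≠ ⊥ → X ≤ normalizer (N₀ : Set G) :=
      fun X h3 h4 => le_of_all hG S (fun P N h => hcon _ _ _ _ h h1) ⟨P₀, N₀, h1⟩ h3 h4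
    have h3 := (h1.uni hG S).maxLoc
    exact hne ((hM.max _ (h2 M hM.le hM.loc) h3.loc).symm.trans (hM'.max _ (h2 M' hM'.le hM'.loc) h3.loc))
  · push Not at hex
    have h2 : ∀ X : Subgroup G, (S : Subgroup G) ≤ X → o2 X ≠ ⊥ → X ≤ normalizer ((S : Subgroup G) : Set G) :=
      fun X h3 h4 => le_normalizer_of_empty hG S hex h3 h4
    have hS1 : o2 (normalizer ((S : Subgroup G) : Set G)) ≠ ⊥ := by
      refine o2_normalizer_ne_bot S.isPGroup' ?_
      intro h0
      exact hM.loc (le_bot_iff.1 (h0 ▸ o2_le_sylow S hM.le))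
    exact hne ((hM.max _ (h2 M hM.le hM.loc) hS1).symm.trans (hM'.max _ (h2 M' hM'.le hM'.loc) hS1))

end Cfsg.Agent.OddCyclic.UniStruct
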