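import Mathlib
import Cfsg.Agent.MinSimple.EmptyE.Closed
import Cfsg.Agent.OddCyclic.UniEx
import Cfsg.Agent.PLocal.OffenderStep

/-!
# (Empty) with possibly nonsolvable 2-local subgroups: the two forms of the hypothesis, and the TI theorem

* `Adm S X` : `X ≥ S` or `X = C_G(D)` with `1 ≠ D ≤ Z_J(S)`;
* `EMPV S` : `J` centralises `⟨Ω₁Z(T)^X⟩` for `Adm S X`, `X` of characteristic 2, `B ≤ T ∈ Syl₂(X)`;
* `BcW X T Y L` : type `bc`;
* `EMPW S` : for all `X ≥ B` of characteristic 2 and all 2-reduced normal `Y ≤ Ω₁Z(O₂(X))`: `J` centralises `Y` or `X` is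
  of type `bc`;
* `EMPV.exists_ti`, `EMPV.exists_tiData` : the TI theorem from `EMPV`.
-/

set_option autoImplicit false
set_option linter.unusedSectionVars false

namespace Cfsg.Agent.OddCyclic.EmpTI

open Subgroup Cfsg Cfsg.Agent.ZN Cfsg.Agent.ZN.ChoiceBase Cfsg.Agent.ZN.ChoiceSit
open Cfsg.Agent.MinSimple Cfsg.Agent.MinSimple.EmptyTI Cfsg.Agent.MinSimple.EmptySix

universe u

variable {G : Type u} [Group G]

/-- the subgroups at which the V-form of (Empty) is used: `X ≥ S`, or `X = C_G(D)` with `1 ≠ D ≤ Z_J(S)` -/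
def Adm (S X : Subgroup G) : Prop :=
  S ≤ X ∨ ∃ D : Subgroup G, D ≠ ⊥ ∧ D ≤ zj S ∧ X = centralizer (D : Set G)

/-- (Empty), the V-form -/
def EMPV (S : Subgroup G) : Prop :=
  ∀ X T : Subgroup G, o2 X ≠ ⊥ → X ⊓ centralizer (o2 X : Set G) ≤ o2 X → Adm S X → Syl T X → bau S ≤ T →
    jj S ≤ centralizer (zl T X : Set G)

/-- type `bc`, without blocks (`RedTy.BcY` without the field `noblk`, `jcl (jj T) X` for `kk X T`): `L` is the preimage of
the normal simple subgroup of order 168 of `X / C_X(Y)` -/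
structure BcW (X T Y L : Subgroup G) : Prop where
  le : L ≤ X
  norm : X ≤ normalizer (L : Set G)
  cent_le : X ⊓ centralizer (Y : Set G) ≤ L
  simple : ∃ (Q : Type u) (_ : Group Q) (π : L →* Q), Function.Surjective π ∧
    π.ker = (centralizer (Y : Set G)).subgroupOf L ∧ IsSimpleGroup Q ∧ Nat.card Q = 168
  jj_le : jj T ≤ L
  four : (jj T ⊓ centralizer (Y : Set G)).relIndex (jj T) = 4
  fix : ∀ a ∈ jj T, a ∉ centralizer (Y : Set G) → ∀ y ∈ Y, a * y = y * a → ∀ b ∈ jj T, b * y = y * b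
  /-- `|Y : C_Y(J)| = 2` or `4` -/
  index : (Y ⊓ centralizer (jj T : Set G)).relIndex (Y) = 2 ∨
    (Y ⊓ centralizer (jj T : Set G)).relIndex (Y) = 4
  /-- all `A ∈ 𝒜(T)` have the image `1` or the image of `J(T)` -/
  img : ∀ A ∈ AA T, A ≤ centralizer (Y : Set G) ∨ jj T ≤ A ⊔ (X ⊓ centralizer (Y : Set G))
  gen : X ≤ (X ⊓ centralizer (zc T : Set G)) ⊔ (X ⊓ normalizer (jj T : Set G))
  bau_ne : bau T ≠ T
  /-- if no 3-element of `N_X(J)` moves `C_Y(J)` then `|C_Y(J)| ≤ 2 |C_Y(⟨J^X⟩)|` -/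
  alt : Nat.card (Y ⊓ zc (bau T) : Subgroup G) ≤
      2 * Nat.card (Y ⊓ centralizer ((jcl (jj T) X : Subgroup G) : Set G) : Subgroup G) ∨
    ∃ x ∈ X, (∃ n : ℕ, x ^ 3 ^ n = 1) ∧ x ∈ normalizer (jj T : Set G) ∧ ∃ y ∈ Y ⊓ zc (bau T), x * y ≠ y * x
  /-- `3 ∤ |C_X(Y)|` -/
  three : ∀ x ∈ X, (∃ n : ℕ, x ^ 3 ^ n = 1) → (∀ y ∈ Y, x * y = y * x) → x = 1
  three' : ∀ x ∈ X, (∃ n : ℕ, x ^ 3 ^ n = 1) → x ^ 3 = 1

/-- (Empty), the free form: `J` centralises `Y` or `X` has type `bc` with respect to `Y ⊔ ⟨Ω₁Z(T)^X⟩`, for all `X ≥ B` of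
characteristic 2 and all `Y ≤ Ω₁Z(O₂(X))`, `Y` normal in `X`, with `O₂(X/C_X(Y)) = 1` -/
def EMPW (S : Subgroup G) : Prop :=
  ∀ X T Y : Subgroup G, o2 X ≠ ⊥ → X ⊓ centralizer (o2 X : Set G) ≤ o2 X → T ≤ X → IsPGroup 2 T →
    ¬ 2 ∣ T.relIndex X → bau S ≤ T → Y ≤ zc (o2 X) → X ≤ normalizer (Y : Set G) →
    (∀ D : Subgroup G, D ≤ X → X ≤ normalizer (D : Set G) →
      (∀ d ∈ D, ∃ c ∈ centralizer (Y : Set G), ∃ t ∈ T, d = c * t) → D ≤ centralizer (Y : Set G)) →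
    jj S ≤ centralizer (Y : Set G) ∨ ∃ L : Subgroup G, BcW X T (Y ⊔ zl T X) L

theorem centralizer_zpowers (u : G) : centralizer ((zpowers u : Subgroup G) : Set G) = centralizer ({u} : Set G) := by
  ext x
  rw [mem_centralizer_singleton_iff, mem_centralizer_iff]
  constructor
  · intro h
    exact (h u (mem_zpowers u)).symm
  · rintro h _ ⟨n, rfl⟩
    exact ((show Commute x u from h).zpow_right n).symm.eq

theorem adm_centralizer {S : Subgroup G} {u : G} (hu : u ∈ zj S) (hu1 : u ≠ 1) : Adm S (centralizer ({u} : Set G)) :=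
  Or.inr ⟨zpowers u, fun h => hu1 (zpowers_eq_bot.1 h), by rwa [zpowers_le], (centralizer_zpowers u).symm⟩

theorem o2_ne_bot_of_isTwoLocal [Finite G] {X : Subgroup G} (h : IsTwoLocal X) : o2 X ≠ ⊥ := by
  obtain ⟨T, hT, hT1, rfl⟩ := h
  intro h0
  have h1 : T ≤ o2 (normalizer (T : Set G)) := Block.le_o2 hT le_normalizer le_rfl
  rw [h0, le_bot_iff] at h1
  exact hT1 h1

theorem char2_of_isTwoLocal [Finite G] (hG : IsCharacteristicTwoType G) {X : Subgroup G} (h : IsTwoLocal X) :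
    X ⊓ centralizer (o2 X : Set G) ≤ o2 X := by
  obtain ⟨T, hT, hT1, rfl⟩ := h
  exact Basic.char2_normalizer hG hT hT1

section

variable [Finite G] {S : Sylow 2 G}

/-- (1) `Ω₁(Z(T)) ≤ I_X` -/
theorem EMPV.zc_le_icl (hE : EMPV (S : Subgroup G)) {X T : Subgroup G} (hX : o2 X ≠ ⊥)
    (hc : X ⊓ centralizer (o2 X : Set G) ≤ o2 X) (hA : Adm (S : Subgroup G) X) (hT : Syl T X)
    (hBT : bau (S : Subgroup G) ≤ T) : zc T ≤ icl (S : Subgroup G) X := by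
  intro v hv
  have h1 : ∀ x ∈ X, ∀ j ∈ jj (S : Subgroup G), j * (x * v * x⁻¹) = (x * v * x⁻¹) * j := by
    intro x hx j hj
    refine ((mem_centralizer_iff.1 (hE X T hX hc hA hT hBT hj)) _ ?_).symm
    exact (mem_normalizer_iff.1 (VModule.le_normalizer_zl T X hx) v).1 (VModule.zc_le_zl _ _ hv)
  refine ⟨EmptyTI.mem_zj_of_comm S (ChoiceBase.mem_zc.1 hv).2.1 fun j hj => ?_, ?_⟩
  · have := h1 1 (one_mem X) j hj
    simpa using this
  · suffices h : jcl (jj (S : Subgroup G)) X ≤ centralizer ({v} : Set G) from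
      mem_centralizer_iff.2 fun y hy => mem_centralizer_singleton_iff.1 (h hy)
    refine jcl_le fun g hg => ?_
    intro y hy
    rw [mem_centralizer_singleton_iff]
    have h2 := h1 g⁻¹ (inv_mem hg) _ (mem_cj.1 hy)
    have e1 : y * v = g * (g⁻¹ * y * g * (g⁻¹ * v * g⁻¹⁻¹)) * g⁻¹ := by group
    have e2 : v * y = g * (g⁻¹ * v * g⁻¹⁻¹ * (g⁻¹ * y * g)) * g⁻¹ := by group
    rw [e1, e2, h2]

/-- (1) `⟨Ω₁(Z(T))^X⟩ ≤ I_X` -/
theorem EMPV.zl_le_icl (hE : EMPV (S : Subgroup G)) {X T : Subgroup G} (hX : o2 X ≠ ⊥)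
    (hc : X ⊓ centralizer (o2 X : Set G) ≤ o2 X) (hA : Adm (S : Subgroup G) X) (hT : Syl T X)
    (hBT : bau (S : Subgroup G) ≤ T) : zl T X ≤ icl (S : Subgroup G) X := by
  refine iSup_le fun g => ?_
  have h1 := cj_mono (g : G) (hE.zc_le_icl hX hc hA hT hBT)
  rwa [cj_eq_of_mem_normalizer (le_normalizer_icl S X g.2)] at h1

/-- the case `X = C_G(u)` -/
theorem EMPV.zc_le_iy (hE : EMPV (S : Subgroup G)) (hG : IsCharacteristicTwoType G) {u : G}
    (hu : u ∈ zj (S : Subgroup G)) (hu1 : u ≠ 1) {T : Subgroup G} (hT : Syl T (centralizer ({u} : Set G)))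
    (hBT : bau (S : Subgroup G) ≤ T) : zc T ≤ iy (S : Subgroup G) u :=
  hE.zc_le_icl (o2_ne_bot_of_isTwoLocal (isTwoLocal_centralizer hu hu1))
    (char2_of_isTwoLocal hG (isTwoLocal_centralizer hu hu1)) (adm_centralizer hu hu1) hT hBT

theorem EMPV.zl_le_iy (hE : EMPV (S : Subgroup G)) (hG : IsCharacteristicTwoType G) {u : G}
    (hu : u ∈ zj (S : Subgroup G)) (hu1 : u ≠ 1) {T : Subgroup G} (hT : Syl T (centralizer ({u} : Set G)))
    (hBT : bau (S : Subgroup G) ≤ T) : zl T (centralizer ({u} : Set G)) ≤ iy (S : Subgroup G) u :=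
  hE.zl_le_icl (o2_ne_bot_of_isTwoLocal (isTwoLocal_centralizer hu hu1))
    (char2_of_isTwoLocal hG (isTwoLocal_centralizer hu hu1)) (adm_centralizer hu hu1) hT hBT

/-- `Ω₁Z(T) ≤ I` for a Sylow 2-subgroup `T ≥ B` of `N_G(I)`, if `C_G(w) ≤ N_G(I)`, `I_w = I` for all `1 ≠ w ∈ I`. -/
theorem EMPV.zc_le_of (hE : EMPV (S : Subgroup G)) (hG : IsCharacteristicTwoType G) {I : Subgroup G} (hI1 : I ≠ ⊥)
    (hI : I ≤ zj (S : Subgroup G)) (hc : ∀ w ∈ I, w ≠ 1 → centralizer ({w} : Set G) ≤ normalizer (I : Set G))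
    (hi : ∀ w ∈ I, w ≠ 1 → iy (S : Subgroup G) w = I) {T : Subgroup G} (hT : Syl T (normalizer (I : Set G)))
    (hBT : bau (S : Subgroup G) ≤ T) : zc T ≤ I := by
  have hI2 : IsPGroup 2 I := (isPGroup_zj S.isPGroup').to_le hI
  -- `1 ≠ u ∈ C_I(T)`
  have hIT : I ≤ T := hI.trans ((EmptyTI.zj_le_jj _).trans ((ChoiceBase.jj_le_bau _).trans hBT))
  have h1 : I ⊓ centralizer (T : Set G) ≠ ⊥ := PLocal.OffenderStep.inf_centralizer_ne_bot I T hI2 hT.2.1 hT.1 hI1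
  obtain ⟨u, hu, hu1⟩ := (I ⊓ centralizer (T : Set G)).bot_or_exists_ne_one.resolve_left h1
  have hTu : T ≤ centralizer ({u} : Set G) := by
    intro t ht
    rw [mem_centralizer_singleton_iff]
    exact (mem_centralizer_iff.1 hu.2 t ht)
  have hT' : Syl T (centralizer ({u} : Set G)) :=
    ⟨hTu, hT.2.1, fun Q hQ hQ2 hTQ => hT.2.2 Q (hQ.trans (hc u hu.1 hu1)) hQ2 hTQ⟩
  have h2 := hE.zc_le_iy hG (hI hu.1) hu1 hT' hBT
  rwa [hi u hu.1 hu1] at h2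

/-- `Ω₁(Z(T)) ≤ I_y` for a Sylow 2-subgroup `T ≥ B(S)` of `N_G(I_y)`. -/
theorem EMPV.zc_le_minI (hE : EMPV (S : Subgroup G)) (hG : IsCharacteristicTwoType G) {y : G}
    (h : IsMinI (S : Subgroup G) y) {T : Subgroup G}
    (hT : Syl T (normalizer ((iy (S : Subgroup G) y : Subgroup G) : Set G)))
    (hBT : bau (S : Subgroup G) ≤ T) : zc T ≤ iy (S : Subgroup G) y :=
  hE.zc_le_of hG h.ne_bot (icl_le _ _) (fun _ hw hw1 => h.centralizer_le_normalizer hw hw1)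
    (fun _ hw hw1 => h.iy_eq hw hw1) hT hBT

/-- (5) Some minimal `I_y` is normalized by `S`. -/
theorem EMPV.exists_le_normalizer (hE : EMPV (S : Subgroup G)) (hG : IsCharacteristicTwoType G)
    (hS : (S : Subgroup G) ≠ ⊥) :
    ∃ y, IsMinI (S : Subgroup G) y ∧
      (S : Subgroup G) ≤ normalizer ((iy (S : Subgroup G) y : Subgroup G) : Set G) := by
  obtain ⟨y, hy⟩ := exists_isMinI S hS
  obtain ⟨T, hT, hBT⟩ := exists_syl (S.isPGroup'.to_le (ChoiceBase.bau_le _)) hy.bau_le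
  obtain ⟨S₂, hS₂⟩ := hT.2.1.exists_le_sylow
  have hJ : jj (S : Subgroup G) ≤ (S₂ : Subgroup G) := ((ChoiceBase.jj_le_bau _).trans hBT).trans hS₂
  have hJ2 : jj (S₂ : Subgroup G) = jj (S : Subgroup G) := jj_eq S S₂.isPGroup' hJ
  have hne : (S₂ : Subgroup G) ≠ ⊥ := by
    intro h0
    have h1 := (EmptyTI.zj_le_jj _).trans (hJ.trans h0.le) hy.mem
    exact hy.ne (mem_bot.1 h1)
  obtain ⟨⟨z, hz⟩, hz1⟩ := ne_bot_iff_exists_ne_one.1 (Basic.zc_ne_bot S₂.isPGroup' hne)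
  have hz1 : z ≠ 1 := fun h0 => hz1 (Subtype.ext h0)
  have hzj : z ∈ zj (S : Subgroup G) := by
    rw [← zj_congr hJ2]
    exact ChoiceBase.zc_le_zj _ hz
  have hzT : z ∈ zc T := by
    have h1 := ChoiceBase.mem_zc.1 hz
    exact ChoiceBase.mem_zc.2 ⟨hBT (ChoiceBase.jj_le_bau _ (EmptyTI.zj_le_jj _ hzj)), h1.2.1, fun x hx => h1.2.2 x (hS₂ hx)⟩
  have hzI : z ∈ iy (S : Subgroup G) y := hE.zc_le_minI hG hy hT hBT hzT
  have hS2 : (S₂ : Subgroup G) ≤ normalizer ((iy (S : Subgroup G) y : Subgroup G) : Set G) := by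
    refine le_trans ?_ (hy.centralizer_le_normalizer hzI hz1)
    intro x hx
    rw [mem_centralizer_singleton_iff]
    exact (ChoiceBase.mem_zc.1 hz).2.2 x hx
  obtain ⟨n, hn, hnS⟩ := syl_conj (syl_of_le (EmptyTI.le_normalizer_jj S S₂.isPGroup' hJ))
    (syl_of_le (EmptyTI.le_normalizer_jj S S.isPGroup' (ChoiceBase.jj_le _)))
  obtain ⟨h1, h2⟩ := hy.cj hn
  have h3 := cj_mono n hS2
  rw [hnS, cj_normalizer, h2] at h3
  exact ⟨_, h1, h3⟩

/-- **The TI theorem of the case (Empty).** -/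
theorem EMPV.exists_tiData (hE : EMPV (S : Subgroup G)) (hG : IsCharacteristicTwoType G)
    (hS : (S : Subgroup G) ≠ ⊥) : ∃ I : Subgroup G, TIData (S : Subgroup G) I := by
  obtain ⟨y, hy, hSy⟩ := hE.exists_le_normalizer hG hS
  refine ⟨iy (S : Subgroup G) y, hy.ne_bot, icl_le _ _, hE.zc_le_minI hG hy (syl_of_le hSy) (ChoiceBase.bau_le _),
    fun w hw hw1 => hy.centralizer_le_normalizer hw hw1, fun g hg => hy.ti hg,
    fun g hg => hy.cj_le_zj hg, hSy, ?_, ?_, ?_⟩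
  · rw [hy.jcl_eq, ← EmptyTI.icl_eq]
  · rw [hy.jcl_eq, hy.normalizer_eq]
  · intro w hw hw1
    rw [hy.jcl_eq]
    exact hy.jy_eq hw hw1

end

end Cfsg.Agent.OddCyclic.EmpTI
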