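import Mathlib
import Cfsg.Agent.OddCyclic.UniEx
import Cfsg.Agent.MinSimple.EmptyE.Closed
import Cfsg.Agent.OddCyclic.EmpTI

/-!
# (Empty) with possibly nonsolvable 2-local subgroups: the frame

`S` a Sylow 2-subgroup of `G`, `J = J(S)`, `Z = Ω₁Z(S)`, `V = vv S = ⟨Z^{N_G(J)}⟩`, `L = LL S = N_G(V)`, `I` the
TI-subgroup, `M = N_G(I)`.  Nothing here uses solvability.

* `ENS S` : the setting (the two forms of (Empty) are in `EmpTI`);
* `ENS.zl_le_icl`, `ENS.frattini`, `ENS.not_local`, `ENS.mem_zc_of_comm`, `ENS.inf_centralizer_le` ...: the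
  lemmas of `EmptyE.Closed` (F1), (CL+);
* `ENS.le_LL_of` (F2): `N_G(J) ≤ X` 2-local gives `X ≤ L`;
* `ENS.le_M_of` (F3): `S`, `J_I ≤ X` 2-local gives `X ≤ M`;
* `TI.closed` (CL);
* `ENS.par` (P): a minimal parabolic `P` over `S` normalises `J` or centralises `Z`;
  `ENS.par_M` : `P ≰ M` gives `P ≤ N_G(J)`, `C_Z(P) = 1`.
-/

set_option autoImplicit false
set_option linter.unusedSectionVars false

namespace Cfsg.Agent.OddCyclic.EmpFrame

open Subgroup Cfsg Cfsg.Agent.ZN Cfsg.Agent.ZN.ChoiceBase Cfsg.Agent.ZN.ChoiceSit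
open Cfsg.Agent.MinSimple Cfsg.Agent.MinSimple.EmptyTI Cfsg.Agent.MinSimple.EmptySix
open Cfsg.Agent.MinSimple.MinParabolic (IsMinPar)
open Cfsg.Agent.MinSimple.EmptyE.Closed (LL CC cl mem_cl cl_eq cl_le vv_comm vv_sq vv_mul_self vv_inv
  isPGroup_vv vv_le_jj vv_le jj_le_centralizer_vv conj_mem_vv cj_vv)

universe u

variable {G : Type u} [Group G]

/-- (Empty): `J` centralises `Y` for all `X ≥ B` of characteristic 2 and all `Y ≤ Ω₁Z(O₂(X))`, `Y` normal in `X`,
with `O₂(X/C_X(Y)) = 1` -/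
def EMP (S : Subgroup G) : Prop :=
  ∀ X T Y : Subgroup G, o2 X ≠ ⊥ → X ⊓ centralizer (o2 X : Set G) ≤ o2 X → T ≤ X → IsPGroup 2 T →
    ¬ 2 ∣ T.relIndex X → bau S ≤ T → Y ≤ zc (o2 X) → X ≤ normalizer (Y : Set G) →
    (∀ D : Subgroup G, D ≤ X → X ≤ normalizer (D : Set G) →
      (∀ d ∈ D, ∃ c ∈ centralizer (Y : Set G), ∃ t ∈ T, d = c * t) → D ≤ centralizer (Y : Set G)) →
    jj S ≤ centralizer (Y : Set G)

/-- the `⟨Ω₁Z(T)^X⟩`-form -/
theorem EMP.vform [Finite G] {S : Subgroup G} (h : EMP S) {X T : Subgroup G} (hX : o2 X ≠ ⊥)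
    (hc : X ⊓ centralizer (o2 X : Set G) ≤ o2 X) (hTX : T ≤ X) (hT : IsPGroup 2 T) (hTs : ¬ 2 ∣ T.relIndex X)
    (hBT : bau S ≤ T) : jj S ≤ centralizer (zl T X : Set G) := by
  refine h X T (zl T X) hX hc hTX hT hTs hBT ?_ (VModule.le_normalizer_zl T X) fun D hDX hDn hD => ?_
  · refine VModule.zl_le (VModule.zc_le_zc_o2 hTX hT hTs hc) ?_
    exact (Block.le_normalizer_o2 X).trans (VModule.normalizer_le_normalizer_zc _)
  · have hTc : ∀ t ∈ T, ∃ k : ℕ, t ^ 2 ^ k = 1 := by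
      intro t ht
      obtain ⟨k, hk⟩ := hT ⟨t, ht⟩
      exact ⟨k, congrArg Subtype.val hk⟩
    refine Basic.le_centralizer_zl_of_pow hTX hT hTs hDX hDn fun d hd => ?_
    obtain ⟨c, hc1, t, ht, rfl⟩ := hD d hd
    obtain ⟨k, hk⟩ := hTc t ht
    refine ⟨k, ?_⟩
    -- `(c t)^{2^k} ≡ t^{2^k}` modulo the centraliser, which `t` normalises
    have hn : ∀ x ∈ T, ∀ y ∈ centralizer (ZN.zl T X : Set G), x * y * x⁻¹ ∈ centralizer (ZN.zl T X : Set G) := by
      intro x hx y hy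
      have h1 : x ∈ normalizer ((centralizer (ZN.zl T X : Set G) : Subgroup G) : Set G) := by
        rw [mem_normalizer_iff_cj, cj_centralizer,
          cj_eq_of_mem_normalizer (VModule.le_normalizer_zl T X (hTX hx))]
      exact (mem_normalizer_iff.1 h1 y).1 hy
    have h2 : ∀ n : ℕ, (c * t) ^ n * (t ^ n)⁻¹ ∈ centralizer (ZN.zl T X : Set G) := by
      intro n
      induction n with
      | zero => simp
      | succ n ih =>
        have e : (c * t) ^ (n + 1) * (t ^ (n + 1))⁻¹ =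
            (c * t) ^ n * (t ^ n)⁻¹ * (t ^ n * c * (t ^ n)⁻¹) := by
          rw [pow_succ, pow_succ]; group
        rw [e]
        exact mul_mem ih (hn _ (pow_mem ht n) c hc1)
    have h3 := h2 (2 ^ k)
    rwa [hk, inv_one, mul_one] at h3

/-- The setting (Empty) with possibly nonsolvable 2-local subgroups: `empv` is the V-form at the subgroups `X ≥ S` and
`X = C_G(D)`, `1 ≠ D ≤ Z_J`; `empw` is the free form. -/
structure ENS [Finite G] (S : Sylow 2 G) : Prop where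
  hyp : UniStruct.Hyp G
  nu : ∀ M : Subgroup G, IsTwoLocal M → (S : Subgroup G) ≤ M →
    ∃ X : Subgroup G, IsTwoLocal X ∧ (S : Subgroup G) ≤ X ∧ ¬ X ≤ M
  empv : EmpTI.EMPV (S : Subgroup G)
  empw : EmpTI.EMPW (S : Subgroup G)

/-- 2-local subgroups have `O₂ ≠ 1` -/
theorem o2_ne_bot_of_isTwoLocal [Finite G] {X : Subgroup G} (h : IsTwoLocal X) : o2 X ≠ ⊥ := by
  obtain ⟨T, hT, hT1, rfl⟩ := h
  exact UniStruct.o2_normalizer_ne_bot hT hT1

theorem char2_of_isTwoLocal (hG : IsCharacteristicTwoType G) {X : Subgroup G} (h : IsTwoLocal X) :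
    X ⊓ centralizer (o2 X : Set G) ≤ o2 X := by
  obtain ⟨T, hT, hT1, rfl⟩ := h
  exact Basic.char2_normalizer hG hT hT1

namespace ENS

variable [Finite G] {S : Sylow 2 G}

theorem ne_bot (h : ENS S) : (S : Subgroup G) ≠ ⊥ := fun h0 => by
  have hf : Fact (Nat.Prime 2) := ⟨Nat.prime_two⟩
  have h1 := S.not_dvd_index
  rw [h0, index_bot] at h1
  exact h1 h.hyp.char2.1.two_dvd

theorem zc_ne_bot (h : ENS S) : zc (S : Subgroup G) ≠ ⊥ := Basic.zc_ne_bot S.isPGroup' h.ne_bot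

/-- the TI-subgroup -/
theorem exists_tiData (h : ENS S) : ∃ I : Subgroup G, TIData (S : Subgroup G) I :=
  h.empv.exists_tiData h.hyp.char2 h.ne_bot

theorem vv_ne_bot (h : ENS S) : vv (S : Subgroup G) ≠ ⊥ := fun h0 =>
  h.zc_ne_bot (le_bot_iff.1 ((zc_le_vv _).trans h0.le))

theorem isTwoLocal_LL (h : ENS S) : IsTwoLocal (LL (S : Subgroup G)) :=
  ⟨_, isPGroup_vv, h.vv_ne_bot, rfl⟩

theorem jj_ne_bot (h : ENS S) : jj (S : Subgroup G) ≠ ⊥ := fun h0 =>
  h.vv_ne_bot (le_bot_iff.1 (h0 ▸ vv_le_jj))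

theorem normalizer_le_LL (_h : ENS S) :
    normalizer (jj (S : Subgroup G) : Set G) ≤ LL (S : Subgroup G) := normalizer_jj_le_vv _

theorem le_normalizer_jj (_h : ENS S) :
    (S : Subgroup G) ≤ normalizer (jj (S : Subgroup G) : Set G) :=
  le_normalizer.trans (Basic.normalizer_le_normalizer_jj _)

theorem le_LL (h : ENS S) : (S : Subgroup G) ≤ LL (S : Subgroup G) :=
  h.le_normalizer_jj.trans h.normalizer_le_LL

theorem normalizer_self_le (h : ENS S) :
    normalizer ((S : Subgroup G) : Set G) ≤ LL (S : Subgroup G) :=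
  (Basic.normalizer_le_normalizer_jj _).trans h.normalizer_le_LL

omit [Finite G] in
theorem le_CC [Finite G] (_h : ENS S) : (S : Subgroup G) ≤ CC (S : Subgroup G) :=
  VModule.le_centralizer_zc _

theorem centralizer_vv_le_LL (_h : ENS S) :
    centralizer (vv (S : Subgroup G) : Set G) ≤ LL (S : Subgroup G) := centralizer_le_normalizer _

omit [Finite G] in
theorem centralizer_vv_le_CC [Finite G] (_h : ENS S) :
    centralizer (vv (S : Subgroup G) : Set G) ≤ CC (S : Subgroup G) :=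
  centralizer_le (zc_le_vv _)

/-- `J` centralises `⟨Ω₁(Z(S))^X⟩` for every 2-local `X ≥ S`. -/
theorem zl_le_icl (h : ENS S) {X : Subgroup G} (hX : IsTwoLocal X) (hSX : (S : Subgroup G) ≤ X) :
    zl (S : Subgroup G) X ≤ icl (S : Subgroup G) X :=
  h.empv.zl_le_icl (o2_ne_bot_of_isTwoLocal hX) (char2_of_isTwoLocal h.hyp.char2 hX) (Or.inl hSX) (syl_of_le hSX)
    (ChoiceBase.bau_le _)

theorem jcl_le_centralizer (h : ENS S) {X : Subgroup G} (hX : IsTwoLocal X)
    (hSX : (S : Subgroup G) ≤ X) :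
    jcl (jj (S : Subgroup G)) X ≤ centralizer (zl (S : Subgroup G) X : Set G) := by
  intro x hx
  rw [mem_centralizer_iff]
  intro y hy
  exact (icl_comm (h.zl_le_icl hX hSX hy) hx).symm

/-- `X = C_X(Ω₁(Z(S))) N_X(J)` for a 2-local `X ≥ S`. -/
theorem frattini (h : ENS S) {X : Subgroup G} (hX : IsTwoLocal X) (hSX : (S : Subgroup G) ≤ X) :
    X ≤ (X ⊓ CC (S : Subgroup G)) ⊔ (X ⊓ normalizer (jj (S : Subgroup G) : Set G)) := by
  refine (frattini_jcl S ((ChoiceBase.jj_le _).trans hSX)).trans (sup_le_sup_right ?_ _)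
  refine le_inf (jcl_le_self ((ChoiceBase.jj_le _).trans hSX)) ?_
  exact (h.jcl_le_centralizer hX hSX).trans (centralizer_le (VModule.zc_le_zl _ _))

/-- `C_G(Ω₁(Z(S)))` and `N_G(J)` lie in no common 2-local subgroup. -/
theorem not_local (h : ENS S) {X : Subgroup G} (hX : IsTwoLocal X) (hC : CC (S : Subgroup G) ≤ X)
    (hN : normalizer (jj (S : Subgroup G) : Set G) ≤ X) : False := by
  obtain ⟨Y, hY, hSY, hYX⟩ := h.nu X hX (h.le_CC.trans hC)
  exact hYX ((h.frattini hY hSY).trans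
    (sup_le (inf_le_right.trans hC) (inf_le_right.trans hN)))

theorem not_CC_le (h : ENS S) : ¬ CC (S : Subgroup G) ≤ LL (S : Subgroup G) := fun hC =>
  h.not_local h.isTwoLocal_LL hC h.normalizer_le_LL

/-- `C_V(S) = Ω₁(Z(S))` -/
theorem mem_zc_of_comm (_h : ENS S) {v : G} (hv : v ∈ vv (S : Subgroup G))
    (hc : ∀ s ∈ (S : Subgroup G), s * v = v * s) : v ∈ zc (S : Subgroup G) :=
  ChoiceBase.mem_zc.2 ⟨vv_le hv, vv_sq hv, hc⟩

/-- `C_V(N_G(J)) = 1` -/
theorem eq_one_of_comm (h : ENS S) {v : G} (hv : v ∈ vv (S : Subgroup G))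
    (hc : ∀ s ∈ normalizer (jj (S : Subgroup G) : Set G), s * v = v * s) : v = 1 := by
  by_contra hv1
  have h1 := h.mem_zc_of_comm hv fun s hs => hc s (h.le_normalizer_jj hs)
  refine h.not_local (isTwoLocal_centralizer (vv_le_zj _ hv) hv1) ?_ ?_
  · intro x hx
    rw [mem_centralizer_singleton_iff]
    exact (mem_centralizer_iff.1 hx v h1).symm
  · intro x hx
    rw [mem_centralizer_singleton_iff]
    exact hc x hx

theorem zc_ne_vv (h : ENS S) : zc (S : Subgroup G) ≠ vv (S : Subgroup G) := fun h0 =>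
  h.not_CC_le (by
    refine le_trans ?_ h.centralizer_vv_le_LL
    rw [CC, h0])

/-- A Sylow 2-subgroup over `B(S)` of `C_G(u)`, `u ∈ V`, lies in `L`. -/
theorem exists_syl_centralizer (_h : ENS S) {u : G} (hu : u ∈ vv (S : Subgroup G)) :
    ∃ T : Subgroup G, Syl T (centralizer ({u} : Set G)) ∧ bau (S : Subgroup G) ≤ T ∧
      T ≤ normalizer (jj (S : Subgroup G) : Set G) ∧ T ≤ LL (S : Subgroup G) := by
  obtain ⟨T, hT, hBT⟩ := exists_syl (S.isPGroup'.to_le (ChoiceBase.bau_le _))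
    (EmptyTI.bau_le_centralizer (vv_le_zj _ hu))
  have h1 := EmptyTI.le_normalizer_jj S hT.2.1 ((ChoiceBase.jj_le_bau _).trans hBT)
  exact ⟨T, hT, hBT, h1, h1.trans (normalizer_jj_le_vv _)⟩

/-- `C_V(T) ≤ cl u` for a Sylow 2-subgroup `T` of `C_L(u)`, `1 ≠ u ∈ V`. -/
theorem inf_centralizer_le (h : ENS S) {u : G} (hu : u ∈ vv (S : Subgroup G)) (hu1 : u ≠ 1)
    {T : Subgroup G} (hT : Syl T (LL (S : Subgroup G) ⊓ centralizer ({u} : Set G))) :
    vv (S : Subgroup G) ⊓ centralizer (T : Set G) ≤ cl (S : Subgroup G) u := by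
  obtain ⟨T₀, hT₀, hBT, hTJ, hTL⟩ := h.exists_syl_centralizer hu
  have hT₀' : Syl T₀ (LL (S : Subgroup G) ⊓ centralizer ({u} : Set G)) :=
    ⟨le_inf hTL hT₀.1, hT₀.2.1, fun Q hQ hQ2 hTQ => hT₀.2.2 Q (hQ.trans inf_le_right) hQ2 hTQ⟩
  obtain ⟨c, hc, rfl⟩ := syl_conj hT₀' hT
  have hVT : vv (S : Subgroup G) ≤ T₀ := vv_le_jj.trans ((ChoiceBase.jj_le_bau _).trans hBT)
  rintro v ⟨hv, hvT⟩
  refine mem_cl.2 ⟨hv, ?_⟩
  have hc1 : c⁻¹ * v * c ∈ vv (S : Subgroup G) := by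
    have := conj_mem_vv (inv_mem hc.1) hv
    rwa [inv_inv] at this
  have h1 : c⁻¹ * v * c ∈ zc T₀ := by
    refine ChoiceBase.mem_zc.2 ⟨hVT hc1, vv_sq hc1, fun t ht => ?_⟩
    have h2 := mem_centralizer_iff.1 hvT (c * t * c⁻¹) ⟨t, ht, rfl⟩
    calc t * (c⁻¹ * v * c) = c⁻¹ * ((c * t * c⁻¹) * v) * c := by group
      _ = c⁻¹ * (v * (c * t * c⁻¹)) * c := by rw [h2]
      _ = c⁻¹ * v * c * t := by group
  have h3 := h.empv.zl_le_iy h.hyp.char2 (vv_le_zj _ hu) hu1 hT₀ hBT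
  have h4 : v ∈ zl T₀ (centralizer ({u} : Set G)) := by
    have h5 := VModule.le_normalizer_zl T₀ (centralizer ({u} : Set G)) hc.2
    have h6 := (mem_normalizer_iff.1 h5 (c⁻¹ * v * c)).1 (VModule.zc_le_zl _ _ h1)
    have e : c * (c⁻¹ * v * c) * c⁻¹ = v := by group
    rwa [e] at h6
  exact fun j hj => icl_comm (h3 h4) hj

/-- `C_G(u) ≤ L` if `cl u = V`. -/
theorem centralizer_le_of_cl_eq (h : ENS S) {u : G} (hu : u ∈ vv (S : Subgroup G))
    (hcl : cl (S : Subgroup G) u = vv (S : Subgroup G)) :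
    centralizer ({u} : Set G) ≤ LL (S : Subgroup G) := by
  refine (frattini_jcl S (EmptyTI.jj_le_centralizer (vv_le_zj _ hu))).trans (sup_le ?_ ?_)
  · refine le_trans ?_ h.centralizer_vv_le_LL
    intro x hx
    rw [mem_centralizer_iff]
    intro v hv
    rw [← hcl] at hv
    exact ((mem_cl.1 hv).2 x hx).symm
  · exact inf_le_right.trans h.normalizer_le_LL

/-- If a subgroup `K` contains all `L`-conjugates of `Ω₁(Z(S))` it contains `V`. -/
theorem vv_le_of_forall (_h : ENS S) {K : Subgroup G}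
    (hK : ∀ g ∈ LL (S : Subgroup G), cj g (zc (S : Subgroup G)) ≤ K) : vv (S : Subgroup G) ≤ K := by
  rw [← zl_normalizer_vv]
  exact iSup_le fun g => hK g g.2

/-! ### (F2), (F3) -/

/-- (F2) -/
theorem le_LL_of (h : ENS S) {X : Subgroup G} (hX : IsTwoLocal X)
    (hN : normalizer (jj (S : Subgroup G) : Set G) ≤ X) : X ≤ LL (S : Subgroup G) := by
  have hSX : (S : Subgroup G) ≤ X := h.le_normalizer_jj.trans hN
  refine (frattini_jcl S ((ChoiceBase.jj_le _).trans hSX)).trans (sup_le ?_ ?_)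
  · refine (h.jcl_le_centralizer hX hSX).trans ?_
    refine le_trans (centralizer_le ?_) h.centralizer_vv_le_LL
    exact zl_mono hN
  · exact inf_le_right.trans h.normalizer_le_LL

variable {I : Subgroup G}

theorem isTwoLocal_M (hI : TIData (S : Subgroup G) I) : IsTwoLocal (normalizer (I : Set G)) :=
  ⟨I, (isPGroup_zj S.isPGroup').to_le hI.le_zj, hI.ne, rfl⟩

/-- `⟨J^X⟩ = J_I` for a 2-local `X ≥ S`, `J_I ≤ X` -/
theorem jcl_eq_of (h : ENS S) (hI : TIData (S : Subgroup G) I) {X : Subgroup G} (hX : IsTwoLocal X)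
    (hSX : (S : Subgroup G) ≤ X)
    (hJ : jcl (jj (S : Subgroup G)) (normalizer (I : Set G)) ≤ X) :
    jcl (jj (S : Subgroup G)) X = jcl (jj (S : Subgroup G)) (normalizer (I : Set G)) := by
  have hJX : jj (S : Subgroup G) ≤ X := (ChoiceBase.jj_le _).trans hSX
  have hJM : jj (S : Subgroup G) ≤ normalizer (I : Set G) := (ChoiceBase.jj_le _).trans hI.S_le
  obtain ⟨z, hz, hz1⟩ := (zc (S : Subgroup G)).bot_or_exists_ne_one.resolve_left h.zc_ne_bot
  apply le_antisymm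
  · rw [← hI.jcl_eq z (hI.zc_le hz) hz1, ← jcl_jcl S hJX]
    refine jcl_mono ((h.jcl_le_centralizer hX hSX).trans (centralizer_le ?_))
    rintro _ rfl
    exact VModule.zc_le_zl _ _ hz
  · rw [← jcl_jcl S hJM]
    exact jcl_mono hJ

/-- (F3) -/
theorem le_M_of (h : ENS S) (hI : TIData (S : Subgroup G) I) {X : Subgroup G} (hX : IsTwoLocal X)
    (hSX : (S : Subgroup G) ≤ X)
    (hJ : jcl (jj (S : Subgroup G)) (normalizer (I : Set G)) ≤ X) : X ≤ normalizer (I : Set G) := by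
  rw [← hI.normalizer_eq, ← h.jcl_eq_of hI hX hSX hJ]
  exact le_normalizer_jcl _ _

theorem centralizer_le_M (hI : TIData (S : Subgroup G) I) {z : G} (hz : z ∈ zc (S : Subgroup G)) (hz1 : z ≠ 1) :
    centralizer ({z} : Set G) ≤ normalizer (I : Set G) := hI.cent z (hI.zc_le hz) hz1

/-- `C_G(Z) ≤ M` -/
theorem CC_le_M (h : ENS S) (hI : TIData (S : Subgroup G) I) : CC (S : Subgroup G) ≤ normalizer (I : Set G) := by
  obtain ⟨z, hz, hz1⟩ := (zc (S : Subgroup G)).bot_or_exists_ne_one.resolve_left h.zc_ne_bot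
  refine le_trans ?_ (centralizer_le_M hI hz hz1)
  intro x hx
  rw [mem_centralizer_singleton_iff]
  exact (mem_centralizer_iff.1 hx z hz).symm

/-- (F1) `M ≰ L` -/
theorem not_M_le (h : ENS S) (hI : TIData (S : Subgroup G) I) :
    ¬ normalizer (I : Set G) ≤ LL (S : Subgroup G) := fun h0 => h.not_CC_le ((h.CC_le_M hI).trans h0)

/-- `N_G(J) ≰ M` -/
theorem not_normalizer_le (h : ENS S) (hI : TIData (S : Subgroup G) I) :
    ¬ normalizer (jj (S : Subgroup G) : Set G) ≤ normalizer (I : Set G) := fun h0 =>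
  h.not_local (isTwoLocal_M hI) (h.CC_le_M hI) h0

theorem not_LL_le (h : ENS S) (hI : TIData (S : Subgroup G) I) :
    ¬ LL (S : Subgroup G) ≤ normalizer (I : Set G) := fun h0 =>
  h.not_normalizer_le hI (h.normalizer_le_LL.trans h0)

end ENS

/-! ### (CL) -/

section CL

variable [Finite G] {S : Sylow 2 G} {I : Subgroup G}

/-- (CL): a conjugate of a member of `AA S` centralising some `1 ≠ y ∈ I^g` centralises `I^g` -/
theorem closed (hI : TIData (S : Subgroup G) I) {A : Subgroup G} (hA : A ∈ AA (S : Subgroup G)) {g k y : G}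
    (hy : y ∈ cj g I) (hy1 : y ≠ 1) (hc : ∀ a ∈ cj k A, a * y = y * a) :
    ∀ a ∈ cj k A, ∀ w ∈ cj g I, a * w = w * a := by
  have key : ∀ (k y : G), y ∈ I → y ≠ 1 → (∀ a ∈ cj k A, a * y = y * a) → ∀ a ∈ cj k A, ∀ w ∈ I, a * w = w * a := by
    intro k y hy hy1 hc a ha w hw
    have h1 := EmptyE.Closed.cj_le_jy (hI.le_zj hy) hA (g := k) (fun a ha => by
      rw [mem_centralizer_singleton_iff]; exact hc a ha)
    have h2 := h1 ha
    rw [jy, hI.jcl_eq y hy hy1] at h2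
    have h3 : w ∈ zc (jcl (jj (S : Subgroup G)) (normalizer (I : Set G))) := by rw [← hI.eq]; exact hw
    exact (ChoiceBase.mem_zc.1 h3).2.2 a h2
  intro a ha w hw
  have h1 := key (g⁻¹ * k) (g⁻¹ * y * g) (mem_cj.1 hy) (fun h0 => hy1 (by
    calc y = g * (g⁻¹ * y * g) * g⁻¹ := by group
      _ = 1 := by rw [h0]; group)) (by
      intro b hb
      have h2 : g * b * g⁻¹ ∈ cj k A := by
        rw [mem_cj] at hb ⊢
        have e : (g⁻¹ * k)⁻¹ * b * (g⁻¹ * k) = k⁻¹ * (g * b * g⁻¹) * k := by group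
        rwa [← e]
      have h3 := hc _ h2
      calc b * (g⁻¹ * y * g) = g⁻¹ * (g * b * g⁻¹ * y) * g := by group
        _ = g⁻¹ * (y * (g * b * g⁻¹)) * g := by rw [h3]
        _ = g⁻¹ * y * g * b := by group)
    (g⁻¹ * a * g) (by
      rw [mem_cj] at ha ⊢
      have e : (g⁻¹ * k)⁻¹ * (g⁻¹ * a * g) * (g⁻¹ * k) = k⁻¹ * a * k := by group
      rwa [e]) (g⁻¹ * w * g) (mem_cj.1 hw)
  calc a * w = g * (g⁻¹ * a * g * (g⁻¹ * w * g)) * g⁻¹ := by group
    _ = g * (g⁻¹ * w * g * (g⁻¹ * a * g)) * g⁻¹ := by rw [h1]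
    _ = w * a := by group

end CL

/-! ### (P) -/

namespace ENS

variable [Finite G] {S : Sylow 2 G} {I P : Subgroup G}

/-- (P): a minimal parabolic over `S` with `O₂(P) ≠ 1` centralises `Z` or normalises `J` -/
theorem par (h : ENS S) (hP : IsMinPar (S : Subgroup G) P) (hP2 : o2 P ≠ ⊥) :
    P ≤ CC (S : Subgroup G) ∨
      (P ≤ normalizer (jj (S : Subgroup G) : Set G) ∧
        (S : Subgroup G) ⊓ centralizer (zl (S : Subgroup G) P : Set G) ≤ o2 P) := by
  have hf : Fact (Nat.Prime 2) := ⟨Nat.prime_two⟩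
  have hSyl := Basic.not_dvd_relIndex S hP.le
  obtain ⟨C, hC⟩ : ∃ C : Subgroup G, C = P ⊓ centralizer (zl (S : Subgroup G) P : Set G) := ⟨_, rfl⟩
  have hCP : C ≤ P := hC ▸ inf_le_left
  have hCn : P ≤ normalizer (C : Set G) := by
    rw [hC]
    exact VModule.le_normalizer_centralizer_zl (S : Subgroup G) P
  have hJ : jj (S : Subgroup G) ≤ centralizer (zl (S : Subgroup G) P : Set G) := by
    have hX : IsTwoLocal (normalizer (o2 P : Set G)) := ⟨o2 P, Block.o2_isPGroup P, hP2, rfl⟩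
    have hPX : P ≤ normalizer (o2 P : Set G) := Block.le_normalizer_o2 P
    have h1 := h.jcl_le_centralizer hX (hP.le.trans hPX)
    exact (le_jcl _ _).trans (h1.trans (centralizer_le (zl_mono hPX)))
  rcases hP.sup_eq_or_inf_le (p := 2) S.isPGroup' hSyl hCP hCn with h1 | h1
  · left
    rw [← h1]
    refine sup_le ?_ h.le_CC
    rw [hC]
    exact inf_le_right.trans (centralizer_le (VModule.zc_le_zl _ _))
  · right
    have h2 : (S : Subgroup G) ⊓ centralizer (zl (S : Subgroup G) P : Set G) ≤ o2 P := by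
      refine le_trans (le_inf inf_le_left ?_) h1
      rw [hC]
      exact inf_le_inf_right _ hP.le
    refine ⟨(Basic.le_normalizer_jj_iff hP.le S.isPGroup' hSyl).2 ?_, h2⟩
    exact (le_inf (ChoiceBase.jj_le _) hJ).trans h2

/-- a minimal parabolic `P ≰ M` -/
theorem par_M (h : ENS S) (hI : TIData (S : Subgroup G) I) (hP : IsMinPar (S : Subgroup G) P) (hP2 : o2 P ≠ ⊥)
    (hPM : ¬ P ≤ normalizer (I : Set G)) :
    P ≤ normalizer (jj (S : Subgroup G) : Set G) ∧ P ≤ LL (S : Subgroup G) ∧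
      zl (S : Subgroup G) P ≤ vv (S : Subgroup G) ∧
      (S : Subgroup G) ⊓ centralizer (zl (S : Subgroup G) P : Set G) = o2 P ∧
      ∀ z ∈ zc (S : Subgroup G), (∀ p ∈ P, p * z = z * p) → z = 1 := by
  rcases h.par hP hP2 with h1 | ⟨h1, h2⟩
  · exact absurd (h1.trans (h.CC_le_M hI)) hPM
  · have hSyl := Basic.not_dvd_relIndex S hP.le
    refine ⟨h1, h1.trans h.normalizer_le_LL, zl_mono h1, le_antisymm h2 (le_inf ?_ ?_), fun z hz hc => ?_⟩
    · exact VModule.o2_le_of_sylow S.isPGroup' hSyl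
    · -- `O₂(P)` centralises `⟨Z^P⟩`
      have h3 : o2 P ≤ centralizer (zc (S : Subgroup G) : Set G) :=
        (VModule.o2_le_of_sylow S.isPGroup' hSyl).trans (VModule.le_centralizer_zc _)
      rw [le_centralizer_iff]
      refine VModule.zl_le ?_ ?_
      · rw [le_centralizer_iff]; exact h3
      · intro p hp
        rw [mem_normalizer_iff_cj, cj_centralizer, cj_eq_of_mem_normalizer (Block.le_normalizer_o2 P hp)]
    · by_contra hz1
      refine hPM (le_trans ?_ (centralizer_le_M hI hz hz1))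
      intro p hp
      rw [mem_centralizer_singleton_iff]
      exact hc p hp

end ENS

end Cfsg.Agent.OddCyclic.EmpFrame
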