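import Mathlib
import Cfsg.Agent.OddCyclic.EmpFrame

/-!
# (Empty): flats

`J_D = ⟨J^{C_G(D)}⟩`, `cl D = C_V(J_D)` for `D ≤ Z_J`; `D` is good if `cl D = V`.

* (1.1) `jd_jcl`, `jd_mono`, `cld_mono`, `jd_cld`, `cld_cld`, `le_cld`;
* (1.2) `normalizer_le_jd`, `normalizer_jd_le`, `normalizer_cld_eq`;
* (1.3) `exists_conj`, `cld_le_cj`;
* (1.4) `Good.normalizer_le`, `Good.cj_eq`, `Good.mono`, `not_good_of_ne`, `cld_inf`, `not_good_zc`;
* (1.5) `ENS.inf_centralizer_le_cld`, `ENS.good_of_odd`;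
* (1.6) `ENS.good_of_normal`.
-/

set_option autoImplicit false
set_option linter.unusedSectionVars false

namespace Cfsg.Agent.OddCyclic.EmpFrame

open Subgroup Cfsg Cfsg.Agent.ZN Cfsg.Agent.ZN.ChoiceBase Cfsg.Agent.ZN.ChoiceSit
open Cfsg.Agent.MinSimple Cfsg.Agent.MinSimple.EmptyTI Cfsg.Agent.MinSimple.EmptySix
open Cfsg.Agent.MinSimple.EmptyE.Closed (LL CC cl mem_cl cl_eq cl_le vv_comm vv_sq vv_mul_self vv_inv
  isPGroup_vv vv_le_jj vv_le jj_le_centralizer_vv conj_mem_vv cj_vv)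

universe u

variable {G : Type u} [Group G]

/-- `J_D = ⟨J^{C_G(D)}⟩` -/
def jd (S D : Subgroup G) : Subgroup G := jcl (jj S) (centralizer (D : Set G))

/-- `cl D = C_V(J_D)` -/
def cld (S D : Subgroup G) : Subgroup G := vv S ⊓ centralizer (jd S D : Set G)

/-- `D` is good if `cl D = V` -/
def Good (S D : Subgroup G) : Prop := cld S D = vv S

theorem cld_le (S D : Subgroup G) : cld S D ≤ vv S := inf_le_left

theorem mem_cld {S D : Subgroup G} {x : G} : x ∈ cld S D ↔ x ∈ vv S ∧ ∀ j ∈ jd S D, j * x = x * j := by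
  rw [cld, mem_inf, mem_centralizer_iff]
  rfl

theorem jd_mono {S D D' : Subgroup G} (h : D ≤ D') : jd S D' ≤ jd S D := jcl_mono (centralizer_le h)

theorem cld_mono {S D D' : Subgroup G} (h : D ≤ D') : cld S D ≤ cld S D' :=
  inf_le_inf_left _ (centralizer_le (jd_mono h))

theorem Good.mono {S D D' : Subgroup G} (h : Good S D) (hD : D ≤ D') : Good S D' :=
  le_antisymm (cld_le S D') (h.ge.trans (cld_mono hD))

theorem jj_le_jd (S D : Subgroup G) : jj S ≤ jd S D := le_jcl _ _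

variable [Finite G] {S : Sylow 2 G} {D : Subgroup G}

/-- `J` centralises `D ≤ Z_J` -/
theorem jj_le_centralizer_of_le (hD : D ≤ zj (S : Subgroup G)) : jj (S : Subgroup G) ≤ centralizer (D : Set G) := by
  intro j hj
  rw [mem_centralizer_iff]
  intro d hd
  exact ((mem_zj.1 (hD hd)).2.2 j hj).symm

theorem bau_le_centralizer_of_le (hD : D ≤ zj (S : Subgroup G)) : bau (S : Subgroup G) ≤ centralizer (D : Set G) := by
  intro j hj
  rw [mem_centralizer_iff]
  exact fun d hd => (mem_bau.1 hj).2 d (hD hd)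

theorem jd_le (hD : D ≤ zj (S : Subgroup G)) : jd (S : Subgroup G) D ≤ centralizer (D : Set G) :=
  jcl_le_self (jj_le_centralizer_of_le hD)

theorem le_cld (hD : D ≤ vv (S : Subgroup G)) : D ≤ cld (S : Subgroup G) D := by
  refine le_inf hD ?_
  rw [le_centralizer_iff]
  exact jd_le (hD.trans (vv_le_zj _))

/-- (1.1) -/
theorem jd_jcl (hD : D ≤ zj (S : Subgroup G)) : jcl (jj (S : Subgroup G)) (jd (S : Subgroup G) D) =
    jd (S : Subgroup G) D := jcl_jcl S (jj_le_centralizer_of_le hD)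

/-- (1.1) -/
theorem jd_cld (hD : D ≤ vv (S : Subgroup G)) : jd (S : Subgroup G) (cld (S : Subgroup G) D) =
    jd (S : Subgroup G) D := by
  refine le_antisymm (jd_mono (le_cld hD)) ?_
  conv_lhs => rw [← jd_jcl (hD.trans (vv_le_zj _))]
  refine jcl_mono ?_
  rw [le_centralizer_iff]
  exact inf_le_right

theorem cld_cld (hD : D ≤ vv (S : Subgroup G)) : cld (S : Subgroup G) (cld (S : Subgroup G) D) =
    cld (S : Subgroup G) D := by
  rw [cld, jd_cld hD]
  rfl

/-- `J^g ≤ C_G(D)` gives `J^g = J^c`, `c ∈ J_D` -/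
theorem exists_conj_jd (hD : D ≤ zj (S : Subgroup G)) {g : G}
    (hg : cj g (jj (S : Subgroup G)) ≤ centralizer (D : Set G)) :
    ∃ c ∈ jd (S : Subgroup G) D, cj c (jj (S : Subgroup G)) = cj g (jj (S : Subgroup G)) := by
  obtain ⟨x, hx, hxg⟩ := exists_conj_jj S (jj_le_centralizer_of_le hD) hg
  refine exists_conj_jj S (jj_le_jd _ D) ?_
  rw [← hxg]
  exact cj_le_jcl hx

/-- elements of `N_G(J)` normalise `V` -/
theorem cj_vv_eq {c g : G} (h : cj c (jj (S : Subgroup G)) = cj g (jj (S : Subgroup G))) :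
    cj c (vv (S : Subgroup G)) = cj g (vv (S : Subgroup G)) := by
  have h1 : g⁻¹ * c ∈ normalizer (jj (S : Subgroup G) : Set G) := by
    rw [mem_normalizer_iff_cj, ← cj_cj, h, cj_inv_cj]
  have h2 := mem_normalizer_iff_cj.1 (normalizer_jj_le_vv _ h1)
  have h3 := congrArg (ChoiceBase.cj g) h2
  rwa [cj_cj, mul_inv_cancel_left] at h3

/-- (1.2) -/
theorem normalizer_le_jd (hD : D ≤ zj (S : Subgroup G)) :
    normalizer (D : Set G) ≤ normalizer (jd (S : Subgroup G) D : Set G) := by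
  intro g hg
  rw [mem_normalizer_iff_cj] at hg ⊢
  have h1 : cj g (centralizer (D : Set G)) = centralizer (D : Set G) := by rw [cj_centralizer, hg]
  have h2 : cj g (jj (S : Subgroup G)) ≤ centralizer (D : Set G) := by
    rw [← h1]; exact cj_mono g (jj_le_centralizer_of_le hD)
  rw [jd, ← jcl_cj, h1]
  exact jcl_conj S (jj_le_centralizer_of_le hD) h2

/-- elements `c` of `J_D` fix `cl D` -/
theorem cj_cld_of_mem {c : G} (hc : c ∈ jd (S : Subgroup G) D) : cj c (cld (S : Subgroup G) D) =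
    cld (S : Subgroup G) D := by
  rw [← mem_normalizer_iff_cj]
  refine centralizer_le_normalizer _ ?_
  rw [mem_centralizer_iff]
  intro x hx
  exact ((mem_cld.1 hx).2 c hc).symm

/-- (1.2) -/
theorem normalizer_jd_le (hD : D ≤ zj (S : Subgroup G)) :
    normalizer (jd (S : Subgroup G) D : Set G) ≤ normalizer (cld (S : Subgroup G) D : Set G) := by
  intro g hg
  rw [mem_normalizer_iff_cj] at hg ⊢
  have h1 : cj g (jj (S : Subgroup G)) ≤ centralizer (D : Set G) := by
    refine le_trans ?_ (jd_le hD)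
    rw [← hg]
    exact cj_mono g (jj_le_jd _ D)
  obtain ⟨c, hc, hcg⟩ := exists_conj_jd hD h1
  have h2 : cj c (jd (S : Subgroup G) D) = jd (S : Subgroup G) D :=
    cj_eq_of_mem_normalizer (le_normalizer hc)
  calc cj g (cld (S : Subgroup G) D)
      = cj g (vv (S : Subgroup G)) ⊓ centralizer ((cj g (jd (S : Subgroup G) D) : Subgroup G) : Set G) := by
        rw [cld, cj_inf, cj_centralizer]
    _ = cj c (vv (S : Subgroup G)) ⊓ centralizer ((cj c (jd (S : Subgroup G) D) : Subgroup G) : Set G) := by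
        rw [hg, h2, cj_vv_eq hcg]
    _ = cj c (cld (S : Subgroup G) D) := by rw [cld, cj_inf, cj_centralizer]
    _ = cld (S : Subgroup G) D := cj_cld_of_mem hc

theorem normalizer_le_cld (hD : D ≤ zj (S : Subgroup G)) :
    normalizer (D : Set G) ≤ normalizer (cld (S : Subgroup G) D : Set G) :=
  (normalizer_le_jd hD).trans (normalizer_jd_le hD)

theorem normalizer_cld_eq (hD : D ≤ vv (S : Subgroup G)) :
    normalizer (cld (S : Subgroup G) D : Set G) = normalizer (jd (S : Subgroup G) D : Set G) := by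
  refine le_antisymm ?_ (normalizer_jd_le (hD.trans (vv_le_zj _)))
  have h1 := normalizer_le_jd (S := S) (D := cld (S : Subgroup G) D) ((cld_le _ _).trans (vv_le_zj _))
  rwa [jd_cld hD] at h1

/-- (1.3) -/
theorem exists_conj (hD : D ≤ vv (S : Subgroup G)) {g : G} (hg : D ≤ cj g (vv (S : Subgroup G))) :
    ∃ c ∈ jd (S : Subgroup G) D, cj c (jj (S : Subgroup G)) = cj g (jj (S : Subgroup G)) ∧
      cj c (vv (S : Subgroup G)) = cj g (vv (S : Subgroup G)) := by
  have h1 : cj g (jj (S : Subgroup G)) ≤ centralizer (D : Set G) := by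
    refine le_trans (cj_mono g jj_le_centralizer_vv) ?_
    rw [cj_centralizer]
    exact centralizer_le hg
  obtain ⟨c, hc, hcg⟩ := exists_conj_jd (hD.trans (vv_le_zj _)) h1
  exact ⟨c, hc, hcg, cj_vv_eq hcg⟩

/-- (1.3) -/
theorem cld_le_cj (hD : D ≤ vv (S : Subgroup G)) {g : G} (hg : D ≤ cj g (vv (S : Subgroup G))) :
    cld (S : Subgroup G) D ≤ cj g (vv (S : Subgroup G)) := by
  obtain ⟨c, hc, -, h2⟩ := exists_conj hD hg
  rw [← h2, ← cj_cld_of_mem hc]
  exact cj_mono c (cld_le _ _)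

/-- `cl` is equivariant under `L`: `cl (D^g) = (cl D)^g` for `D, D^g ≤ V` -/
theorem cj_cld (hD : D ≤ vv (S : Subgroup G)) {g : G} (hg : cj g D ≤ vv (S : Subgroup G)) :
    cj g (cld (S : Subgroup G) D) = cld (S : Subgroup G) (cj g D) := by
  have h0 : cj g D ≤ cj g (vv (S : Subgroup G)) := cj_mono g hD
  obtain ⟨c, hc, h1, h2⟩ := exists_conj hg h0
  have h3 : cj g (jd (S : Subgroup G) D) = jd (S : Subgroup G) (cj g D) := by
    rw [jd, ← jcl_cj, cj_centralizer, jd]
    refine jcl_conj S (jj_le_centralizer_of_le (hg.trans (vv_le_zj _))) ?_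
    rw [← cj_centralizer]
    exact cj_mono g (jj_le_centralizer_of_le (hD.trans (vv_le_zj _)))
  rw [cld, cj_inf, cj_centralizer, h3, ← h2]
  have h4 : cj c (cld (S : Subgroup G) (cj g D)) = cld (S : Subgroup G) (cj g D) := cj_cld_of_mem hc
  conv_rhs => rw [← h4, cld, cj_inf, cj_centralizer]
  rw [cj_eq_of_mem_normalizer (le_normalizer hc)]

/-! ### (1.4) -/

theorem Good.jd_le (h : Good (S : Subgroup G) D) :
    jd (S : Subgroup G) D ≤ centralizer (vv (S : Subgroup G) : Set G) := by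
  rw [le_centralizer_iff, ← h]
  exact inf_le_right

theorem Good.normalizer_le (h : Good (S : Subgroup G) D) (hD : D ≤ vv (S : Subgroup G)) :
    normalizer (D : Set G) ≤ LL (S : Subgroup G) := by
  have h1 := normalizer_le_cld (S := S) (hD.trans (vv_le_zj _))
  rwa [show cld (S : Subgroup G) D = vv (S : Subgroup G) from h] at h1

theorem Good.cj_eq (h : Good (S : Subgroup G) D) (hD : D ≤ vv (S : Subgroup G)) {g : G}
    (hg : D ≤ cj g (vv (S : Subgroup G))) : cj g (vv (S : Subgroup G)) = vv (S : Subgroup G) := by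
  obtain ⟨c, hc, -, h2⟩ := exists_conj hD hg
  rw [← h2, ← mem_normalizer_iff_cj]
  exact centralizer_le_normalizer _ (h.jd_le hc)

theorem good_of_jd_le (h : jd (S : Subgroup G) D ≤ centralizer (vv (S : Subgroup G) : Set G)) :
    Good (S : Subgroup G) D :=
  le_antisymm (cld_le _ _) (le_inf le_rfl ((le_centralizer_iff).1 h))

theorem good_vv (S : Sylow 2 G) : Good (S : Subgroup G) (vv (S : Subgroup G)) :=
  good_of_jd_le (jd_le (vv_le_zj _))

/-- the intersection of two lines is bad and closed -/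
theorem not_good_inf {g : G} (hg : cj g (vv (S : Subgroup G)) ≠ vv (S : Subgroup G)) :
    ¬ Good (S : Subgroup G) (vv (S : Subgroup G) ⊓ cj g (vv (S : Subgroup G))) := fun h =>
  hg (h.cj_eq inf_le_left inf_le_right)

theorem cld_inf (g : G) : cld (S : Subgroup G) (vv (S : Subgroup G) ⊓ cj g (vv (S : Subgroup G))) =
    vv (S : Subgroup G) ⊓ cj g (vv (S : Subgroup G)) :=
  le_antisymm (le_inf (cld_le _ _) (cld_le_cj inf_le_left inf_le_right)) (le_cld inf_le_left)

/-- (1.1)-(1.2): `cl` of elements -/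
theorem cld_zpowers (u : G) : cld (S : Subgroup G) (zpowers u) = cl (S : Subgroup G) u := by
  have h1 : centralizer ((zpowers u : Subgroup G) : Set G) = centralizer ({u} : Set G) := by
    rw [zpowers_eq_closure, centralizer_closure]
  rw [cld, cl, jd, h1]

namespace ENS

theorem isTwoLocal_normalizer {D : Subgroup G} (hD : D ≤ zj (S : Subgroup G)) (hD1 : D ≠ ⊥) :
    IsTwoLocal (normalizer (D : Set G)) := ⟨D, (isPGroup_zj S.isPGroup').to_le hD, hD1, rfl⟩

/-- elements `z ≠ 1` of `Z` are bad -/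
theorem not_good_of_le_zc (h : ENS S) (hD : D ≤ zc (S : Subgroup G)) : ¬ Good (S : Subgroup G) D := by
  intro hg
  apply h.not_CC_le
  refine le_trans (le_trans (centralizer_le ?_) (centralizer_le_normalizer _))
    (hg.normalizer_le (hD.trans (zc_le_vv _)))
  exact hD

/-- a normal subgroup of a group of characteristic 2 has characteristic 2 -/
theorem char2_of_normal {N X : Subgroup G} (hN : N ⊓ centralizer (o2 N : Set G) ≤ o2 N) (hXN : X ≤ N)
    (hn : N ≤ normalizer (X : Set G)) : X ⊓ centralizer (o2 X : Set G) ≤ o2 X := by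
  have hf : Fact (Nat.Prime 2) := ⟨Nat.prime_two⟩
  have hNX : X ⊓ o2 N ≤ o2 X := Block.le_o2 ((Block.o2_isPGroup N).to_le inf_le_right) inf_le_left (by
    refine Block.le_normalizer_of_forall fun l hl m hm => Subgroup.mem_inf.2 ⟨?_, ?_⟩
    · exact mul_mem (mul_mem hl hm.1) (inv_mem hl)
    · exact Block.conj_mem_of_normalizer (Block.le_normalizer_o2 N) (hXN hl) hm.2)
  -- elements of odd order of `C_X(O₂(X))` are trivial
  have key : ∀ c ∈ X ⊓ centralizer (o2 X : Set G), Odd (orderOf c) → c = 1 := by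
    intro c hc hodd
    have hcN : c ∈ N ⊓ centralizer (o2 N : Set G) := by
      refine Subgroup.mem_inf.2 ⟨hXN hc.1, ?_⟩
      rw [mem_centralizer_iff]
      intro q hq
      have h1 : q * c * q⁻¹ * c⁻¹ ∈ o2 X := by
        refine hNX (Subgroup.mem_inf.2 ⟨?_, ?_⟩)
        · exact mul_mem (Block.conj_mem_of_normalizer hn (Block.o2_le N hq) hc.1) (inv_mem hc.1)
        · have e : q * c * q⁻¹ * c⁻¹ = q * (c * q⁻¹ * c⁻¹) := by group
          rw [e]
          exact mul_mem hq (Block.conj_mem_of_normalizer (Block.le_normalizer_o2 N) (hXN hc.1) (inv_mem hq))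
      obtain ⟨u, hu⟩ : ∃ u, u = q * c * q⁻¹ * c⁻¹ := ⟨_, rfl⟩
      rw [← hu] at h1
      have h2 : Commute u c := mem_centralizer_iff.1 hc.2 u h1
      have h3 : q * c * q⁻¹ = u * c := by rw [hu]; group
      have h4 : q * c ^ orderOf c * q⁻¹ = u ^ orderOf c * c ^ orderOf c := by
        rw [← conj_pow, h3, h2.mul_pow]
      rw [pow_orderOf_eq_one, mul_one, mul_one, mul_inv_cancel] at h4
      obtain ⟨k, hk⟩ := Block.o2_isPGroup X ⟨u, h1⟩
      have hk1 : u ^ 2 ^ k = 1 := congrArg Subtype.val hk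
      have h5 : orderOf u ∣ orderOf c := orderOf_dvd_of_pow_eq_one h4.symm
      have h6 : orderOf u ∣ 2 ^ k := orderOf_dvd_of_pow_eq_one hk1
      have h7 : Nat.Coprime (orderOf c) (2 ^ k) := Nat.Coprime.pow_right k (Nat.coprime_two_right.2 hodd)
      have h8 : u = 1 := orderOf_eq_one_iff.1 (Nat.eq_one_of_dvd_coprimes h7 h5 h6)
      rw [h8, one_mul] at h3
      calc q * c = q * c * q⁻¹ * q := by group
        _ = c * q := by rw [h3]
    obtain ⟨k, hk⟩ := Block.o2_isPGroup N ⟨c, hN hcN⟩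
    have hk1 : c ^ 2 ^ k = 1 := congrArg Subtype.val hk
    have h6 : orderOf c ∣ 2 ^ k := orderOf_dvd_of_pow_eq_one hk1
    exact orderOf_eq_one_iff.1 (Nat.eq_one_of_dvd_coprimes
      (Nat.Coprime.pow_right k (Nat.coprime_two_right.2 hodd)) dvd_rfl h6)
  have hp : IsPGroup 2 (X ⊓ centralizer (o2 X : Set G) : Subgroup G) := by
    rintro ⟨c, hc⟩
    obtain ⟨a, m, hm, hnm⟩ := Nat.exists_eq_pow_mul_and_not_dvd (orderOf_pos c).ne' 2 (by norm_num)
    refine ⟨a, Subtype.ext ?_⟩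
    show c ^ 2 ^ a = 1
    refine key _ (pow_mem hc _) ?_
    rw [orderOf_pow, hnm, Nat.gcd_eq_right (dvd_mul_right (2 ^ a) _), Nat.mul_div_cancel_left _ (by positivity)]
    exact Nat.not_even_iff_odd.1 fun h0 => hm (even_iff_two_dvd.1 h0)
  refine Block.le_o2 hp inf_le_left ?_
  have h9 : X ≤ normalizer ((centralizer (o2 X : Set G) : Subgroup G) : Set G) := by
    intro x hx
    rw [mem_normalizer_iff_cj, cj_centralizer, cj_eq_of_mem_normalizer (Block.le_normalizer_o2 X hx)]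
  exact (le_inf le_normalizer h9).trans inf_normalizer_le_normalizer_inf

/-- `C_G(D)`, `1 ≠ D ≤ Z_J`, has characteristic 2 and `O₂ ≠ 1` -/
theorem char2_centralizer (h : ENS S) (hD : D ≤ zj (S : Subgroup G)) (hD1 : D ≠ ⊥) :
    centralizer (D : Set G) ⊓ centralizer (o2 (centralizer (D : Set G)) : Set G) ≤
      o2 (centralizer (D : Set G)) := by
  refine char2_of_normal (char2_of_isTwoLocal h.hyp.char2 (isTwoLocal_normalizer hD hD1))
    (centralizer_le_normalizer _) ?_
  intro x hx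
  rw [mem_normalizer_iff_cj, cj_centralizer, cj_eq_of_mem_normalizer hx]

theorem o2_centralizer_ne_bot (hD : D ≤ zj (S : Subgroup G)) (hD1 : D ≠ ⊥) :
    o2 (centralizer (D : Set G)) ≠ ⊥ := by
  intro h0
  apply hD1
  rw [← le_bot_iff, ← h0]
  have h1 : D ≤ centralizer (D : Set G) := by
    intro x hx
    rw [mem_centralizer_iff]
    intro y hy
    exact zj_comm' (hD hy) (hD hx)
  refine Block.le_o2 ((isPGroup_zj S.isPGroup').to_le hD) h1 ?_
  exact centralizer_le_normalizer _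

/-- (1.5) `C_V(T) ≤ cl D` for `T` a Sylow 2-subgroup of `C_L(D)` -/
theorem inf_centralizer_le_cld (h : ENS S) (hD : D ≤ vv (S : Subgroup G)) (hD1 : D ≠ ⊥) {T : Subgroup G}
    (hT : Syl T (LL (S : Subgroup G) ⊓ centralizer (D : Set G))) :
    vv (S : Subgroup G) ⊓ centralizer (T : Set G) ≤ cld (S : Subgroup G) D := by
  have hDz : D ≤ zj (S : Subgroup G) := hD.trans (vv_le_zj _)
  obtain ⟨T₀, hT₀, hBT⟩ := exists_syl (S.isPGroup'.to_le (ChoiceBase.bau_le _)) (bau_le_centralizer_of_le hDz)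
  have hTJ := EmptyTI.le_normalizer_jj S hT₀.2.1 ((ChoiceBase.jj_le_bau _).trans hBT)
  have hTL : T₀ ≤ LL (S : Subgroup G) := hTJ.trans (normalizer_jj_le_vv _)
  have hT₀' : Syl T₀ (LL (S : Subgroup G) ⊓ centralizer (D : Set G)) :=
    ⟨le_inf hTL hT₀.1, hT₀.2.1, fun Q hQ hQ2 hTQ => hT₀.2.2 Q (hQ.trans inf_le_right) hQ2 hTQ⟩
  obtain ⟨c, hc, rfl⟩ := syl_conj hT₀' hT
  have hVT : vv (S : Subgroup G) ≤ T₀ := vv_le_jj.trans ((ChoiceBase.jj_le_bau _).trans hBT)
  have h1 := h.empv _ T₀ (o2_centralizer_ne_bot hDz hD1) (h.char2_centralizer hDz hD1) (Or.inr ⟨D, hD1, hDz, rfl⟩)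
    hT₀ hBT
  -- `J_D` centralises `⟨Ω₁Z(T₀)^{C_G(D)}⟩`
  have h2 : jd (S : Subgroup G) D ≤ centralizer (zl T₀ (centralizer (D : Set G)) : Set G) := by
    refine jcl_le fun g hg => ?_
    have h3 := cj_mono g h1
    rwa [cj_centralizer, cj_eq_of_mem_normalizer (VModule.le_normalizer_zl T₀ _ hg)] at h3
  have h3 : vv (S : Subgroup G) ⊓ centralizer (T₀ : Set G) ≤ cld (S : Subgroup G) D := by
    rintro v ⟨hv, hvT⟩
    refine mem_cld.2 ⟨hv, fun j hj => ?_⟩
    have h4 : v ∈ zc T₀ := ChoiceBase.mem_zc.2 ⟨hVT hv, vv_sq hv, fun t ht => mem_centralizer_iff.1 hvT t ht⟩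
    exact (mem_centralizer_iff.1 (h2 hj) v (VModule.zc_le_zl _ _ h4)).symm
  have h4 := cj_mono c h3
  rw [cj_inf, cj_centralizer, cj_eq_of_mem_normalizer hc.1] at h4
  have h5 : c ∈ normalizer (cld (S : Subgroup G) D : Set G) :=
    normalizer_le_cld hDz (centralizer_le_normalizer _ hc.2)
  rwa [cj_eq_of_mem_normalizer h5] at h4

/-- (1.5): if the 2-elements of `C_L(D)` centralise `V` then `D` is good -/
theorem good_of_odd (h : ENS S) (hD : D ≤ vv (S : Subgroup G)) (hD1 : D ≠ ⊥)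
    (ho : ∀ x ∈ LL (S : Subgroup G), x ∈ centralizer (D : Set G) → (∃ n : ℕ, x ^ 2 ^ n = 1) →
      x ∈ centralizer (vv (S : Subgroup G) : Set G)) : Good (S : Subgroup G) D := by
  obtain ⟨T, hT, -⟩ := exists_syl (T := ⊥) (X := LL (S : Subgroup G) ⊓ centralizer (D : Set G)) IsPGroup.of_bot bot_le
  refine le_antisymm (cld_le _ _) (le_trans (le_inf le_rfl ?_) (h.inf_centralizer_le_cld hD hD1 hT))
  rw [le_centralizer_iff]
  intro t ht
  have h1 := hT.1 ht
  obtain ⟨n, hn⟩ := hT.2.1 ⟨t, ht⟩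
  exact ho t h1.1 h1.2 ⟨n, congrArg Subtype.val hn⟩

/-- (1.6): `1 ≠ D ≤ V` normal in `N_G(J)` is good -/
theorem good_of_normal (h : ENS S) (hD : D ≤ vv (S : Subgroup G)) (hD1 : D ≠ ⊥)
    (hn : normalizer (jj (S : Subgroup G) : Set G) ≤ normalizer (D : Set G)) : Good (S : Subgroup G) D := by
  have hDz : D ≤ zj (S : Subgroup G) := hD.trans (vv_le_zj _)
  have h1 := h.le_LL_of (isTwoLocal_normalizer hDz hD1) hn
  have h2 : jd (S : Subgroup G) D ≤ jcl (jj (S : Subgroup G)) (LL (S : Subgroup G)) :=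
    jcl_mono ((centralizer_le_normalizer _).trans h1)
  have h3 := h.jcl_le_centralizer h.isTwoLocal_LL h.le_LL
  rw [zl_normalizer_vv] at h3
  exact good_of_jd_le (h2.trans h3)

end ENS

end Cfsg.Agent.OddCyclic.EmpFrame
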