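import Mathlib
import Cfsg.Agent.OddCyclic.EmpFlat

/-!
# (Empty): the hypothesis (NFF) and two lines with non-trivial intersection

* `NFF V` : no elementary abelian group of automorphisms of `V` induced by `N_G(V)` is an offender;
* `NFF.cj`, `NFF.comm_of_le`: two lines normalising each other commute;
* `Cfg S R T P` : the configuration of section 3: `R` the intersection of two noncommuting lines, maximal,
  `X = C_G(R)`, `T` Sylow in `X`, `P` minimal over `T` in `X` with `V ≰ O₂(P)`;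
* `ENS.exists_cfg`.
-/

set_option autoImplicit false
set_option linter.unusedSectionVars false

namespace Cfsg.Agent.OddCyclic.EmpFrame

open Subgroup Cfsg Cfsg.Agent.ZN Cfsg.Agent.ZN.ChoiceBase Cfsg.Agent.ZN.ChoiceSit
open Cfsg.Agent.MinSimple Cfsg.Agent.MinSimple.EmptyTI Cfsg.Agent.MinSimple.EmptySix
open Cfsg.Agent.MinSimple.EmptyE.Closed (LL CC cl mem_cl cl_eq cl_le vv_comm vv_sq vv_mul_self vv_inv
  isPGroup_vv vv_le_jj vv_le jj_le_centralizer_vv conj_mem_vv cj_vv)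

universe u

variable {G : Type u} [Group G]

/-- no elementary abelian group of automorphisms of `V` induced by `N_G(V)` is an offender -/
def NFF (V : Subgroup G) : Prop :=
  ∀ A : Subgroup G, A ≤ normalizer (V : Set G) → (∀ a ∈ A, a * a ∈ centralizer (V : Set G)) →
    (∀ a ∈ A, ∀ b ∈ A, a * b * a⁻¹ * b⁻¹ ∈ centralizer (V : Set G)) → ¬ A ≤ centralizer (V : Set G) →
    Nat.card A * Nat.card (V ⊓ centralizer (A : Set G) : Subgroup G) <
      Nat.card V * Nat.card (A ⊓ centralizer (V : Set G) : Subgroup G)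

omit [Group G] in
theorem comm_of_sq' {G : Type*} [Group G] {A : Subgroup G} (h : ∀ a ∈ A, a * a = 1) {a b : G} (ha : a ∈ A)
    (hb : b ∈ A) : a * b = b * a := by
  have h1 := h _ (mul_mem ha hb)
  have h2 : a⁻¹ = a := inv_eq_of_mul_eq_one_left (h a ha)
  have h3 : b⁻¹ = b := inv_eq_of_mul_eq_one_left (h b hb)
  have h4 : a * b = (a * b)⁻¹ := eq_inv_of_mul_eq_one_left h1
  rw [h4, mul_inv_rev, h2, h3]

theorem NFF.cj {V : Subgroup G} (h : NFF V) (g : G) : NFF (ChoiceBase.cj g V) := by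
  intro A hA hsq hcm hnc
  have e1 : ∀ B : Subgroup G, Nat.card (ChoiceBase.cj g⁻¹ B) = Nat.card B := fun B => card_cj g⁻¹ B
  have e2 : ChoiceBase.cj g⁻¹ (ChoiceBase.cj g V) = V := cj_inv_cj g V
  have e3 : ChoiceBase.cj g⁻¹ (centralizer (ChoiceBase.cj g V : Set G)) = centralizer (V : Set G) := by
    rw [cj_centralizer, e2]
  have e4 : ChoiceBase.cj g⁻¹ (normalizer (ChoiceBase.cj g V : Set G)) = normalizer (V : Set G) := by
    rw [cj_normalizer, e2]
  have hm : ∀ x : G, x ∈ centralizer (ChoiceBase.cj g V : Set G) → g⁻¹ * x * g ∈ centralizer (V : Set G) := by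
    intro x hx
    rw [← e3]
    exact ⟨x, hx, by simp⟩
  have h1 := h (ChoiceBase.cj g⁻¹ A) (by rw [← e4]; exact cj_mono _ hA) ?_ ?_ ?_
  · have h2 : V ⊓ centralizer ((ChoiceBase.cj g⁻¹ A : Subgroup G) : Set G) =
        ChoiceBase.cj g⁻¹ (ChoiceBase.cj g V ⊓ centralizer (A : Set G)) := by
      rw [cj_inf, e2, cj_centralizer]
    have h3 : ChoiceBase.cj g⁻¹ A ⊓ centralizer (V : Set G) =
        ChoiceBase.cj g⁻¹ (A ⊓ centralizer (ChoiceBase.cj g V : Set G)) := by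
      rw [cj_inf, e3]
    rw [h2, h3, e1, e1, e1] at h1
    rwa [card_cj]
  · rintro _ ⟨a, ha, rfl⟩
    have h2 := hm _ (hsq a ha)
    have e : (MulAut.conj g⁻¹).toMonoidHom a * (MulAut.conj g⁻¹).toMonoidHom a = g⁻¹ * (a * a) * g := by
      simp [mul_assoc]
    rwa [e]
  · rintro _ ⟨a, ha, rfl⟩ _ ⟨b, hb, rfl⟩
    have h2 := hm _ (hcm a ha b hb)
    have e : (MulAut.conj g⁻¹).toMonoidHom a * (MulAut.conj g⁻¹).toMonoidHom b *
        ((MulAut.conj g⁻¹).toMonoidHom a)⁻¹ * ((MulAut.conj g⁻¹).toMonoidHom b)⁻¹ = g⁻¹ * (a * b * a⁻¹ * b⁻¹) * g := by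
      simp [mul_assoc]
    rwa [e]
  · intro h2
    apply hnc
    have h3 := cj_mono g h2
    rwa [cj_cj_inv, cj_centralizer] at h3

/-- two lines normalising each other commute -/
theorem NFF.comm_of_le [Finite G] {V W : Subgroup G} (hV : NFF V) (hW : NFF W) (sV : ∀ v ∈ V, v * v = 1)
    (sW : ∀ v ∈ W, v * v = 1) (hVW : V ≤ normalizer (W : Set G)) (hWV : W ≤ normalizer (V : Set G)) :
    W ≤ centralizer (V : Set G) := by
  by_contra hcon
  have hcon' : ¬ V ≤ centralizer (W : Set G) := fun h => hcon (le_centralizer_iff.1 h)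
  have hcm : ∀ U : Subgroup G, (∀ v ∈ U, v * v = 1) → ∀ a ∈ U, ∀ b ∈ U, a * b * a⁻¹ * b⁻¹ = 1 := by
    intro U hU a ha b hb
    have h1 := comm_of_sq' hU ha hb
    rw [h1]; group
  have h1 := hV W hWV (fun a ha => by rw [sW a ha]; exact one_mem _)
    (fun a ha b hb => by rw [hcm W sW a ha b hb]; exact one_mem _) hcon
  have h2 := hW V hVW (fun a ha => by rw [sV a ha]; exact one_mem _)
    (fun a ha b hb => by rw [hcm V sV a ha b hb]; exact one_mem _) hcon'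
  exact absurd (h1.trans h2) (lt_irrefl _)

variable [Finite G] {S : Sylow 2 G}

/-- conjugates of `V` containing `R ≤ V` -/
structure Cfg (S : Sylow 2 G) (R T P : Subgroup G) : Prop where
  ens : ENS S
  nff : NFF (vv (S : Subgroup G))
  le : R ≤ vv (S : Subgroup G)
  ne : R ≠ ⊥
  nc : ∃ g ∈ centralizer (R : Set G), ¬ cj g (vv (S : Subgroup G)) ≤ centralizer (vv (S : Subgroup G) : Set G)
  max : ∀ a b : G, R ≤ cj a (vv (S : Subgroup G)) → R ≤ cj b (vv (S : Subgroup G)) →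
    ¬ cj a (vv (S : Subgroup G)) ≤ centralizer (cj b (vv (S : Subgroup G)) : Set G) →
    cj a (vv (S : Subgroup G)) ⊓ cj b (vv (S : Subgroup G)) = R
  syl : Syl T (centralizer (R : Set G))
  bau_le : bau (S : Subgroup G) ≤ T
  TP : T ≤ P
  PX : P ≤ centralizer (R : Set G)
  nle : ¬ vv (S : Subgroup G) ≤ o2 P
  min : ∀ Y : Subgroup G, T ≤ Y → Y ≤ P → ¬ vv (S : Subgroup G) ≤ o2 Y → Y = P

/-- a noncommuting pair of lines with maximal non-trivial intersection -/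
theorem exists_max {V : Subgroup G} {g : G} (hg : ¬ cj g V ≤ centralizer (V : Set G)) (hR : V ⊓ cj g V ≠ ⊥) :
    ∃ g : G, ¬ cj g V ≤ centralizer (V : Set G) ∧ V ⊓ cj g V ≠ ⊥ ∧
      ∀ a b : G, V ⊓ cj g V ≤ cj a V → V ⊓ cj g V ≤ cj b V → ¬ cj a V ≤ centralizer (cj b V : Set G) →
        cj a V ⊓ cj b V = V ⊓ cj g V := by
  classical
  obtain ⟨s, hs⟩ : ∃ s : Set G, s = {g | ¬ cj g V ≤ centralizer (V : Set G) ∧ V ⊓ cj g V ≠ ⊥} := ⟨_, rfl⟩
  have hf : s.Finite := Set.toFinite s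
  have hne : s.Nonempty := ⟨g, by rw [hs]; exact ⟨hg, hR⟩⟩
  obtain ⟨g₀, hg₀, hmax⟩ := Set.exists_max_image s (fun g => Nat.card (V ⊓ cj g V : Subgroup G)) hf hne
  rw [hs] at hg₀
  refine ⟨g₀, hg₀.1, hg₀.2, fun a b ha hb hab => ?_⟩
  -- `b⁻¹ a ∈ s`
  have h1 : cj b (V ⊓ cj (b⁻¹ * a) V) = cj a V ⊓ cj b V := by
    rw [cj_inf, cj_cj, mul_inv_cancel_left, inf_comm]
  have h2 : b⁻¹ * a ∈ s := by
    rw [hs]
    constructor
    · intro h
      apply hab
      have h3 := cj_mono b h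
      rwa [cj_cj, mul_inv_cancel_left, cj_centralizer] at h3
    · intro h
      rw [h, UniStruct.cj_eq_bot.2 rfl] at h1
      exact hg₀.2 (le_bot_iff.1 (h1.symm ▸ le_inf ha hb))
  have h3 := hmax _ h2
  have h4 : Nat.card (cj a V ⊓ cj b V : Subgroup G) = Nat.card (V ⊓ cj (b⁻¹ * a) V : Subgroup G) := by
    rw [← h1, card_cj]
  exact (Subgroup.eq_of_le_of_card_ge (le_inf ha hb) (by rw [h4]; exact h3)).symm

theorem ENS.exists_cfg (h : ENS S) (hN : NFF (vv (S : Subgroup G))) {g : G}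
    (hg : ¬ cj g (vv (S : Subgroup G)) ≤ centralizer (vv (S : Subgroup G) : Set G))
    (hR : vv (S : Subgroup G) ⊓ cj g (vv (S : Subgroup G)) ≠ ⊥) : ∃ R T P, Cfg S R T P := by
  obtain ⟨g, hg, hR, hmax⟩ := exists_max hg hR
  obtain ⟨R, hRe⟩ : ∃ R, R = vv (S : Subgroup G) ⊓ cj g (vv (S : Subgroup G)) := ⟨_, rfl⟩
  rw [← hRe] at hR hmax
  have hRV : R ≤ vv (S : Subgroup G) := hRe.le.trans inf_le_left
  have hRg : R ≤ cj g (vv (S : Subgroup G)) := hRe.le.trans inf_le_right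
  have hRz : R ≤ zj (S : Subgroup G) := hRV.trans (vv_le_zj _)
  obtain ⟨c, hc, -, hcg⟩ := exists_conj hRV hRg
  have hcX : c ∈ centralizer (R : Set G) := jd_le hRz hc
  obtain ⟨X, hX⟩ : ∃ X : Subgroup G, X = centralizer (R : Set G) := ⟨_, rfl⟩
  obtain ⟨T, hT, hBT⟩ := exists_syl (S.isPGroup'.to_le (ChoiceBase.bau_le _)) (bau_le_centralizer_of_le hRz)
  have hVB : vv (S : Subgroup G) ≤ bau (S : Subgroup G) := vv_le_jj.trans (ChoiceBase.jj_le_bau _)
  have hTJ := EmptyTI.le_normalizer_jj S hT.2.1 ((ChoiceBase.jj_le_bau _).trans hBT)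
  have hTL : T ≤ normalizer (vv (S : Subgroup G) : Set G) := hTJ.trans (normalizer_jj_le_vv _)
  rw [← hX] at hcX hT
  -- `V ≰ O₂(X)`
  have hVX : ¬ vv (S : Subgroup G) ≤ o2 X := by
    intro h1
    have hOT : o2 X ≤ T := o2_le_syl hT
    have h2 : cj c (vv (S : Subgroup G)) ≤ o2 X := by
      have h3 := cj_mono c h1
      rwa [cj_eq_of_mem_normalizer (Block.le_normalizer_o2 X hcX)] at h3
    have h4 : o2 X ≤ normalizer (cj c (vv (S : Subgroup G)) : Set G) := by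
      have h5 := cj_mono c (hOT.trans hTL)
      rwa [cj_eq_of_mem_normalizer (Block.le_normalizer_o2 X hcX), cj_normalizer] at h5
    apply hg
    rw [← hcg]
    exact hN.comm_of_le (hN.cj c) (fun v hv => vv_mul_self hv) (by
      rintro _ ⟨v, hv, rfl⟩
      rw [← map_mul, vv_mul_self hv, map_one]) (h1.trans h4) (h2.trans (hOT.trans hTL))
  -- `P` minimal
  classical
  obtain ⟨s, hs⟩ : ∃ s : Set (Subgroup G), s = {P | T ≤ P ∧ P ≤ X ∧ ¬ vv (S : Subgroup G) ≤ o2 P} := ⟨_, rfl⟩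
  have hne : s.Nonempty := ⟨X, by rw [hs]; exact ⟨hT.1, le_rfl, hVX⟩⟩
  obtain ⟨P, hP, hmin⟩ := Set.exists_min_image s (fun P => Nat.card P) (Set.toFinite s) hne
  rw [hs] at hP
  refine ⟨R, T, P, ⟨h, hN, hRV, hR, ⟨c, hX ▸ hcX, by rw [hcg]; exact hg⟩, hmax, hX ▸ hT, hBT, hP.1, hX ▸ hP.2.1, hP.2.2,
    fun Y hTY hYP hY => ?_⟩⟩
  refine Subgroup.eq_of_le_of_card_ge hYP (hmin Y ?_)
  rw [hs]
  exact ⟨hTY, hYP.trans hP.2.1, hY⟩

end Cfsg.Agent.OddCyclic.EmpFrame
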