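import Cfsg.Agent.OddCyclic.CaseATypes
import Cfsg.Agent.OddCyclic.CaseATools
import Cfsg.Agent.LieExceptional.CITSylowFour
import Cfsg.Agent.OddCyclic.ZTPsl

/-!
# S0342, component case A, step A2: LEMMA ALPHA

blueprints/S0342-caseA.md, A2. Let `a ∈ C(K)^g ∩ N(K)`, `g ∉ N(K)`, be an involution which is a field automorphism on
`K ≅ PSL₂(q)`, `q = q₀²`, `q₀ ≥ 4`. Then a Sylow 2-subgroup of `C(K)` has order two, `a` is conjugate to the
involutions `t` of `C(K)`, and `t a` is not, if `a` and `t` commute.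

The proof is shorter than that of the blueprint: `L = C_K(a)` contains an element of order 3 inverted by an
involution, so (`mem_of_inverted`) all 3-elements of `N_G(L)` lie in `L`, hence centralise `⟨t, a⟩`.
-/

set_option autoImplicit false

namespace Cfsg.Agent.OddCyclic.CaseAAlpha

open Subgroup
open Cfsg.Agent.LieExceptional Cfsg.Agent.LieExceptional.CITDefs Cfsg.Agent.LieExceptional.CITBasic
open Cfsg.Agent.OddCyclic.T1Defs
open Cfsg.Agent.OddCyclic.CompBasic Cfsg.Agent.OddCyclic.CompStandard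
open Cfsg.Agent.OddCyclic.CaseADefs Cfsg.Agent.OddCyclic.CaseABase Cfsg.Agent.OddCyclic.CaseATypes

/-! ### Cyclic Sylow subgroups and inverted elements -/

section inverted

variable {X : Type*} [Group X] [Finite X]

theorem mem_of_inverted_aux (hc : OddCyc X) {r : ℕ} (hr : r.Prime) (hr2 : r ≠ 2) {L : Subgroup X}
    (hL : L.Normal) (hcomm : ∀ u v : X, u * v * u⁻¹ * v⁻¹ ∈ L) {y w : X} (hy : orderOf y = r)
    (hw : w * y * w⁻¹ = y⁻¹) {x : X} (hx : ∃ k : ℕ, x ^ r ^ k = 1) : x ∈ L := by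
  have hrf : Fact r.Prime := ⟨hr⟩
  have hyp : IsPGroup r (zpowers y) := IsPGroup.of_card (n := 1) (by rw [Nat.card_zpowers, hy, pow_one])
  obtain ⟨P, hP⟩ := hyp.exists_le_sylow
  have hyP : y ∈ P := hP (mem_zpowers y)
  have hcyc := hc r P hr hr2
  have hab : ∀ a ∈ P, ∀ b ∈ P, a * b = b * a := fun a ha b hb =>
    congrArg Subtype.val ((IsCyclic.commGroup (α := P)).mul_comm ⟨a, ha⟩ ⟨b, hb⟩)
  have hPC : (P : Subgroup X) ≤ centralizer {y} := fun a ha => by
    rw [mem_centralizer_singleton_iff]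
    exact hab a ha y hyP
  have hwinv : w⁻¹ * y * w = y⁻¹ := by
    have h1 : w * y⁻¹ * w⁻¹ = y := by
      have := congrArg (fun z => z⁻¹) hw
      simpa [mul_assoc] using this
    calc w⁻¹ * y * w = w⁻¹ * (w * y⁻¹ * w⁻¹) * w := by rw [h1]
      _ = y⁻¹ := by group
  have hwC : ((w • P : Sylow r X) : Subgroup X) ≤ centralizer {y} := by
    intro a ha
    rw [mem_centralizer_singleton_iff]
    have ha' : w⁻¹ * a * w ∈ P := by
      have h1 : a ∈ w • P := ha
      rw [← SetLike.mem_coe, Sylow.coe_smul, Set.mem_smul_set_iff_inv_smul_mem] at h1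
      simpa [MulAut.smul_def] using h1
    have h2 := hab _ ha' _ (inv_mem hyP)
    have h3 : (w⁻¹ * a * w) * (w⁻¹ * y * w) = (w⁻¹ * y * w) * (w⁻¹ * a * w) := by rw [hwinv]; exact h2
    calc a * y = w * ((w⁻¹ * a * w) * (w⁻¹ * y * w)) * w⁻¹ := by group
      _ = w * ((w⁻¹ * y * w) * (w⁻¹ * a * w)) * w⁻¹ := by rw [h3]
      _ = y * a := by group
  obtain ⟨c, hcP⟩ := MulAction.exists_smul_eq (centralizer {y} : Subgroup X) ((w • P).subtype hwC) (P.subtype hPC)
  have hcmem : ∀ a ∈ P, (c : X) * w * a * ((c : X) * w)⁻¹ ∈ P := by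
    intro a ha
    have h1 : w * a * w⁻¹ ∈ w • P := by
      rw [← SetLike.mem_coe, Sylow.coe_smul, Set.mem_smul_set_iff_inv_smul_mem]
      simpa [MulAut.smul_def, mul_assoc] using ha
    have h1' : w * a * w⁻¹ ∈ centralizer ({y} : Set X) := hwC h1
    have h2 : (⟨w * a * w⁻¹, h1'⟩ : (centralizer {y} : Subgroup X)) ∈ (w • P).subtype hwC := h1
    have h3 : c * ⟨w * a * w⁻¹, h1'⟩ * c⁻¹ ∈ c • (w • P).subtype hwC := by
      rw [← SetLike.mem_coe, Sylow.coe_smul, Set.mem_smul_set_iff_inv_smul_mem]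
      simpa [MulAut.smul_def, mul_assoc] using h2
    rw [hcP] at h3
    have h4 : (c : X) * (w * a * w⁻¹) * (c : X)⁻¹ ∈ P := h3
    have h5 : (c : X) * w * a * ((c : X) * w)⁻¹ = (c : X) * (w * a * w⁻¹) * (c : X)⁻¹ := by group
    rw [h5]; exact h4
  set n := (c : X) * w with hn
  have hny : n * y * n⁻¹ = y⁻¹ := by
    have hcy : (c : X) * y⁻¹ = y⁻¹ * c := by
      have := mem_centralizer_singleton_iff.1 c.2
      exact (Commute.inv_right (show Commute (c : X) y from this)).eq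
    calc n * y * n⁻¹ = c * (w * y * w⁻¹) * (c : X)⁻¹ := by rw [hn]; group
      _ = c * y⁻¹ * (c : X)⁻¹ := by rw [hw]
      _ = y⁻¹ := by rw [hcy]; group
  obtain ⟨z, hz⟩ := IsCyclic.exists_generator (α := P)
  have hzP : (z : X) ∈ P := z.2
  obtain ⟨s, hs⟩ := mem_zpowers_iff.1 (hz ⟨n * z * n⁻¹, hcmem z hzP⟩)
  have hs' : (z : X) ^ s = n * z * n⁻¹ := congrArg Subtype.val hs
  obtain ⟨j, hj⟩ := mem_zpowers_iff.1 (hz ⟨y, hyP⟩)
  have hj' : (z : X) ^ j = y := congrArg Subtype.val hj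
  have hys : y ^ s = y⁻¹ := by
    rw [← hny, ← hj', ← conj_zpow, ← hs', ← zpow_mul, ← zpow_mul, mul_comm]
  have hrs : (r : ℤ) ∣ s + 1 := by
    rw [← hy, orderOf_dvd_iff_zpow_eq_one, zpow_add, hys, zpow_one, inv_mul_cancel]
  have hrs' : ¬ (r : ℤ) ∣ s - 1 := by
    intro h1
    have h2 : (r : ℤ) ∣ 2 := by
      have := dvd_sub hrs h1
      have h3 : s + 1 - (s - 1) = 2 := by ring
      rwa [h3] at this
    have h3 : r ∣ 2 := by exact_mod_cast h2
    exact hr2 ((Nat.prime_dvd_prime_iff_eq hr Nat.prime_two).1 h3)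
  -- `z ∈ L`
  have hzL : (z : X) ∈ L := by
    have h1 : (z : X) ^ (s - 1) ∈ L := by
      have h2 := hcomm n z
      rwa [← hs', ← zpow_sub_one] at h2
    obtain ⟨k, hk⟩ := P.isPGroup' z
    have hk' : (z : X) ^ (r ^ k : ℕ) = 1 := congrArg Subtype.val hk
    have hcop : IsCoprime ((r : ℤ) ^ k) (s - 1) := by
      apply IsCoprime.pow_left
      rw [Int.isCoprime_iff_gcd_eq_one]
      have : Int.gcd (r : ℤ) (s - 1) ∣ r := by
        have := Int.gcd_dvd_left (r : ℤ) (s - 1)
        exact_mod_cast this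
      rcases (Nat.dvd_prime hr).1 this with h2 | h2
      · exact h2
      · exfalso
        apply hrs'
        rw [← h2]
        exact Int.gcd_dvd_right _ _
    obtain ⟨u, v, huv⟩ := hcop
    have h3 : (z : X) = ((z : X) ^ (r ^ k : ℕ)) ^ u * ((z : X) ^ (s - 1)) ^ v := by
      rw [← zpow_natCast, ← zpow_mul, ← zpow_mul, ← zpow_add]
      push_cast
      rw [mul_comm ((r : ℤ) ^ k) u, mul_comm (s - 1) v, huv, zpow_one]
    rw [h3, hk', one_zpow, one_mul]
    exact L.zpow_mem h1 v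
  have hPL : (P : Subgroup X) ≤ L := by
    intro a ha
    obtain ⟨i, hi⟩ := mem_zpowers_iff.1 (hz ⟨a, ha⟩)
    have hi' : (z : X) ^ i = a := congrArg Subtype.val hi
    rw [← hi']
    exact L.zpow_mem hzL i
  obtain ⟨k, hk⟩ := hx
  have hxp : IsPGroup r (zpowers x) := by
    rw [IsPGroup.iff_card]
    have h1 : orderOf x ∣ r ^ k := orderOf_dvd_of_pow_eq_one hk
    obtain ⟨m, -, hm⟩ := (Nat.dvd_prime_pow hr).1 h1
    exact ⟨m, by rw [Nat.card_zpowers, hm]⟩
  obtain ⟨Q, hQ⟩ := hxp.exists_le_sylow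
  obtain ⟨g, hg⟩ := MulAction.exists_smul_eq X Q P
  have h1 : g * x * g⁻¹ ∈ g • Q := by
    rw [← SetLike.mem_coe, Sylow.coe_smul, Set.mem_smul_set_iff_inv_smul_mem]
    have h2 : x ∈ Q := hQ (mem_zpowers x)
    simpa [MulAut.smul_def, mul_assoc] using h2
  rw [hg] at h1
  have h2 := hL.conj_mem _ (hPL h1) g⁻¹
  have h3 : g⁻¹ * (g * x * g⁻¹) * g⁻¹⁻¹ = x := by group
  rwa [h3] at h2

omit [Finite X] in
/-- If `L` contains an element of odd prime order `r` inverted by an element of `L`, then `L` contains all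
`r`-elements of its normaliser. -/
theorem mem_of_inverted [Finite X] (hc : OddCyc X) {r : ℕ} (hr : r.Prime) (hr2 : r ≠ 2) {L : Subgroup X} {y w : X}
    (hyL : y ∈ L) (hwL : w ∈ L) (hy : orderOf y = r) (hw : w * y * w⁻¹ = y⁻¹) {x : X}
    (hxL : x ∈ normalizer (L : Set X)) (hx : ∃ k : ℕ, x ^ r ^ k = 1) : x ∈ L := by
  have hxi : ∀ i : ℤ, ∀ l ∈ L, x ^ i * l * (x ^ i)⁻¹ ∈ L := fun i l hl =>
    (mem_normalizer_iff.1 (zpow_mem hxL i) l).1 hl
  let Z : Subgroup X :=
    { carrier := {u | ∃ l ∈ L, ∃ i : ℤ, u = l * x ^ i}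
      one_mem' := ⟨1, one_mem _, 0, by simp⟩
      mul_mem' := by
        rintro _ _ ⟨l, hl, i, rfl⟩ ⟨l', hl', j, rfl⟩
        refine ⟨l * (x ^ i * l' * (x ^ i)⁻¹), mul_mem hl (hxi i l' hl'), i + j, ?_⟩
        rw [zpow_add]; group
      inv_mem' := by
        rintro _ ⟨l, hl, i, rfl⟩
        refine ⟨x ^ (-i) * l⁻¹ * (x ^ (-i))⁻¹, hxi _ _ (inv_mem hl), -i, ?_⟩
        group }
  have hLZ : L ≤ Z := fun l hl => ⟨l, hl, 0, by simp⟩
  have hxZ : x ∈ Z := ⟨1, one_mem _, 1, by simp⟩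
  have hZN : Z ≤ normalizer (L : Set X) := by
    rintro _ ⟨l, hl, i, rfl⟩
    exact mul_mem (le_normalizer hl) (zpow_mem hxL i)
  have hn : (L.subgroupOf Z).Normal := Subgroup.normal_subgroupOf_of_le_normalizer hZN
  have h1 := mem_of_inverted_aux (X := Z) (oddCyc_subgroup hc Z) hr hr2 (L := L.subgroupOf Z) hn ?_
    (y := ⟨y, hLZ hyL⟩) (w := ⟨w, hLZ hwL⟩) (by rw [orderOf_mk, hy]) (Subtype.ext hw) (x := ⟨x, hxZ⟩) ?_
  · exact mem_subgroupOf.1 h1
  · rintro ⟨_, l, hl, i, rfl⟩ ⟨_, l', hl', j, rfl⟩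
    rw [mem_subgroupOf]
    change l * x ^ i * (l' * x ^ j) * (l * x ^ i)⁻¹ * (l' * x ^ j)⁻¹ ∈ L
    have e : l * x ^ i * (l' * x ^ j) * (l * x ^ i)⁻¹ * (l' * x ^ j)⁻¹ =
        l * (x ^ i * l' * (x ^ i)⁻¹) * (x ^ j * l⁻¹ * (x ^ j)⁻¹) * l'⁻¹ := by
      group
    rw [e]
    exact mul_mem (mul_mem (mul_mem hl (hxi i l' hl')) (hxi j _ (inv_mem hl))) (inv_mem hl')
  · obtain ⟨k, hk⟩ := hx
    exact ⟨k, Subtype.ext hk⟩

omit [Finite X] in
/-- a three-cycle on `{t, a, ta}` gives a 3-element -/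
theorem exists_three_element [Finite X] {g t a : X} (h1 : g * t * g⁻¹ = a) (h2 : g * a * g⁻¹ = t * a)
    (h3 : g * (t * a) * g⁻¹ = t) (hta : a ≠ t) : ∃ x ∈ zpowers g, (∃ k : ℕ, x ^ 3 ^ k = 1) ∧ x * t ≠ t * x := by
  obtain ⟨k, m, hm, hgo⟩ := Nat.exists_eq_pow_mul_and_not_dvd (orderOf_pos g).ne' 3 (by norm_num)
  refine ⟨g ^ m, pow_mem (mem_zpowers g) m, ⟨k, by rw [← pow_mul, mul_comm, ← hgo, pow_orderOf_eq_one]⟩, ?_⟩
  intro hcomm
  have hg3 : g ^ 3 * t = t * g ^ 3 := by
    have : g ^ 3 * t * (g ^ 3)⁻¹ = t := by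
      have e3 : g ^ 3 = g * g * g := by rw [pow_succ, pow_two]
      calc g ^ 3 * t * (g ^ 3)⁻¹ = g * (g * (g * t * g⁻¹) * g⁻¹) * g⁻¹ := by rw [e3]; group
        _ = t := by rw [h1, h2, h3]
    exact mul_inv_eq_iff_eq_mul.1 this
  have hcop : Nat.Coprime 3 m := (Nat.Prime.coprime_iff_not_dvd Nat.prime_three).2 hm
  have hgt : Commute g t := by
    have e1 : Commute (g ^ 3) t := hg3
    have e2 : Commute (g ^ m) t := hcomm
    have hb : (Nat.gcd 3 m : ℤ) = 3 * Nat.gcdA 3 m + m * Nat.gcdB 3 m := Nat.gcd_eq_gcd_ab 3 m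
    have hg : g = (g ^ 3) ^ (Nat.gcdA 3 m) * (g ^ m) ^ (Nat.gcdB 3 m) := by
      rw [← zpow_natCast g 3, ← zpow_natCast g m, ← zpow_mul, ← zpow_mul, ← zpow_add]
      have h4 : ((3 : ℕ) : ℤ) * Nat.gcdA 3 m + (m : ℤ) * Nat.gcdB 3 m = 1 := by
        push_cast
        rw [← hb]
        have : Nat.gcd 3 m = 1 := hcop
        rw [this]; rfl
      rw [h4, zpow_one]
    rw [hg]
    exact (e1.zpow_left _).mul_left (e2.zpow_left _)
  apply hta
  rw [← h1, hgt.eq, mul_inv_cancel_right]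

end inverted

variable {G : Type*} [Group G]

/-- The facts on field automorphisms of order 2 of `K` used here. -/
structure TA (K : Subgroup G) : Prop extends TF K where
  conj : ∀ x ∈ normalizer (K : Set G), ∀ y ∈ normalizer (K : Set G),
    x * x ∈ centralizer (K : Set G) → y * y ∈ centralizer (K : Set G) →
    x ∉ K ⊔ centralizer (K : Set G) → y ∉ K ⊔ centralizer (K : Set G) →
    ∃ k ∈ K, ∃ c ∈ centralizer (K : Set G), y = k * x * k⁻¹ * c
  inv : ∀ x ∈ normalizer (K : Set G), x * x ∈ centralizer (K : Set G) →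
    x ∉ K ⊔ centralizer (K : Set G) → ∃ y ∈ K ⊓ centralizer ({x} : Set G),
      ∃ w ∈ K ⊓ centralizer ({x} : Set G), orderOf y = 3 ∧ w * y * w⁻¹ = y⁻¹

section main

variable [Finite G] {p q : ℕ} {K : Subgroup G} {g a t : G}

theorem A_eq (h : Std p K) (hL : L2K K q) (hTF : TF K) (hg : g ∉ normalizer (K : Set G))
    (haY : a ∈ cj g (centralizer (K : Set G))) (haM : a ∈ normalizer (K : Set G))
    (ha2 : orderOf a = 2) (haK : a ∉ K ⊔ centralizer (K : Set G)) {S P : Subgroup G} (hP : PairAt K g S P)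
    (ht : t ∈ P ⊓ centralizer (K : Set G)) (ht2 : orderOf t = 2) :
    ∀ z ∈ P ⊓ centralizer (K : Set G), z = 1 ∨ z = t := by
  intro z hz
  have hle := hP.sylD.le
  obtain ⟨h1, h2, h3, h4, h5⟩ := swap h hL hTF hg haY haM ha2 haK ht.2 (hle ht.1).2 ht2
  have hone : ∀ z ∈ P ⊓ centralizer (K : Set G), z ∈ cj g (centralizer (K : Set G)) → z = 1 := by
    intro z hz hzg
    have h6 := h.inf_eq_bot hg (A := P ⊓ cj g (centralizer (K : Set G)))
      (hP.sylD.two.to_le inf_le_left) inf_le_right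
    have h7 : z ∈ P ⊓ cj g (centralizer (K : Set G)) ⊓ centralizer (K : Set G) := ⟨⟨hz.1, hzg⟩, hz.2⟩
    rwa [h6, mem_bot] at h7
  have e1 : (g⁻¹)⁻¹ * (g⁻¹ * z * g) * g⁻¹ = z := by group
  rcases field_cent h hTF h2 h3 h4 h5 (g⁻¹ * z * g) (by rw [mem_cj, e1]; exact hz.2)
    (mem_cj.mp (hle hz.1).2) with h6 | ⟨c, hc, h6⟩
  · exact Or.inl (hone z hz (mem_cj.mpr h6))
  · right
    have h7 : t⁻¹ * z = g * c * g⁻¹ := by
      have e2 : z = g * (g⁻¹ * z * g) * g⁻¹ := by group
      rw [e2, h6]; group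
    have h8 : t⁻¹ * z = 1 := hone _ (mul_mem (inv_mem ht) hz) (by rw [h7]; exact conj_mem_cj hc)
    exact (inv_mul_eq_one.1 h8).symm

theorem exists_pair (h : Std p K)
    (haY : a ∈ cj g (centralizer (K : Set G))) (haM : a ∈ normalizer (K : Set G))
    (ha2 : orderOf a = 2) (htY : t ∈ centralizer (K : Set G)) (ht2 : orderOf t = 2) (hat : a * t = t * a) :
    ∃ S P : Subgroup G, PairAt K g S P ∧ a ∈ P ∧ t ∈ P := by
  have hpf : Fact (Nat.Prime 2) := ⟨Nat.prime_two⟩
  have haa := sq_of_orderOf ha2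
  have htt := sq_of_orderOf ht2
  have htM : t ∈ cj g (normalizer (K : Set G)) :=
    h.centralizer_le_cj ha2 haY (mem_centralizer_singleton_iff.mpr hat.symm)
  have hQ : IsPGroup 2 (zpowers a ⊔ zpowers t : Subgroup G) := by
    apply IsPGroup.to_sup_of_normal_right' (isPGroup_zpowers ha2) (isPGroup_zpowers ht2)
    rw [zpowers_le]
    refine mem_normalizer_of_forall ?_
    rintro _ ⟨i, rfl⟩
    have h1 : Commute a (t ^ i) := (show Commute a t from hat).zpow_right i
    have h2 : a * t ^ i * a⁻¹ = t ^ i := by rw [h1.eq, mul_inv_cancel_right]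
    beta_reduce
    rw [h2]
    exact zpow_mem (mem_zpowers t) i
  obtain ⟨S, P, hP, hQP⟩ := exists_pairAt K g hQ (sup_le
    (zpowers_le.mpr ⟨haM, cj_centralizer_le_normalizer g K haY⟩)
    (zpowers_le.mpr ⟨centralizer_le_normalizer _ htY, htM⟩))
  exact ⟨S, P, hP, hQP (mem_sup_left (mem_zpowers a)), hQP (mem_sup_right (mem_zpowers t))⟩

/-- If `|R| > 2`, some element of `R` moves `a` to `a t`. -/
theorem exists_rho (h : Std p K) (hL : L2K K q) (hTF : TF K) (hg : g ∉ normalizer (K : Set G))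
    (haY : a ∈ cj g (centralizer (K : Set G))) (haM : a ∈ normalizer (K : Set G))
    (ha2 : orderOf a = 2) (haK : a ∉ K ⊔ centralizer (K : Set G))
    (htY : t ∈ centralizer (K : Set G)) (ht2 : orderOf t = 2) (hat : a * t = t * a)
    {R : Subgroup G} (hR : IsSyl2 (centralizer (K : Set G)) R) (hcard : 2 < Nat.card R) :
    ∃ ρ ∈ centralizer (K : Set G), ρ * a * ρ⁻¹ = a * t ∧ ρ * t = t * ρ := by
  have hpf : Fact (Nat.Prime 2) := ⟨Nat.prime_two⟩
  obtain ⟨S, P, hP, haP, htP⟩ := exists_pair h haY haM ha2 htY ht2 hat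
  have haa := sq_of_orderOf ha2
  have htt := sq_of_orderOf ht2
  have hA := A_eq h hL hTF hg haY haM ha2 haK hP ⟨htP, htY⟩ ht2
  set R1 := S ⊓ centralizer (K : Set G) with hR1
  have hR1c : 2 < Nat.card R1 := by rwa [← isSyl2_card hP.sylR hR]
  have haS := hP.le haP
  have htS := hP.le htP
  have haY' : a ∉ centralizer (K : Set G) := fun h1 => haK (mem_sup_right h1)
  -- the centraliser of `a` in `R1`
  have hCR : ∀ r ∈ R1, a * r = r * a → r = 1 ∨ r = t := by
    intro r hr har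
    exact hA r ⟨(hP.mem_iff h hg ⟨haP, haY⟩ ha2 hr.1 hr.2).mp har, hr.2⟩
  let B : Subgroup G :=
    { carrier := {x | x = 1 ∨ x = a ∨ x = t ∨ x = a * t}
      one_mem' := Or.inl rfl
      mul_mem' := by
        have e1 : t * (a * t) = a := by rw [← mul_assoc, ← hat, mul_assoc, htt, mul_one]
        have e2 : a * (a * t) = t := by rw [← mul_assoc, haa, one_mul]
        have e3 : a * t * a = t := by rw [hat, mul_assoc, haa, mul_one]
        have e4 : a * t * t = a := by rw [mul_assoc, htt, mul_one]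
        have e5 : a * t * (a * t) = 1 := by rw [mul_assoc, e1, haa]
        rintro x y (rfl | rfl | rfl | rfl) (rfl | rfl | rfl | rfl)
        · left; rw [one_mul]
        · right; left; rw [one_mul]
        · right; right; left; rw [one_mul]
        · right; right; right; rw [one_mul]
        · right; left; rw [mul_one]
        · left; exact haa
        · right; right; right; rfl
        · right; right; left; exact e2
        · right; right; left; rw [mul_one]
        · right; right; right; exact hat.symm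
        · left; exact htt
        · right; left; exact e1
        · right; right; right; rw [mul_one]
        · right; right; left; exact e3
        · right; left; exact e4
        · left; exact e5
      inv_mem' := by
        have i1 : a⁻¹ = a := inv_eq_of_mul_eq_one_left haa
        have i2 : t⁻¹ = t := inv_eq_of_mul_eq_one_left htt
        rintro x (rfl | rfl | rfl | rfl)
        · left; rw [inv_one]
        · right; left; exact i1
        · right; right; left; exact i2
        · right; right; right; rw [mul_inv_rev, i1, i2, hat] }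
  have hBmem : ∀ x, x ∈ B ↔ (x = 1 ∨ x = a ∨ x = t ∨ x = a * t) := fun x => Iff.rfl
  have haR : a ∈ normalizer (R1 : Set G) := by
    refine mem_normalizer_of_forall fun x hx => Subgroup.mem_inf.mpr ⟨?_, ?_⟩
    · exact mul_mem (mul_mem haS hx.1) (inv_mem haS)
    · exact normal_cent K a haM x hx.2
  set W : Subgroup G := R1 ⊔ zpowers a with hW
  have hWS : W ≤ S := sup_le inf_le_left (zpowers_le.mpr haS)
  have hW2 : IsPGroup 2 W := hP.sylM.two.to_le hWS
  have hBW : B ≤ W := by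
    have h1 : a ∈ W := mem_sup_right (mem_zpowers a)
    have h2 : t ∈ W := mem_sup_left ⟨htS, htY⟩
    rintro x (rfl | rfl | rfl | rfl)
    · exact one_mem _
    · exact h1
    · exact h2
    · exact mul_mem h1 h2
  have hWmem : ∀ x ∈ W, x ∈ R1 ∨ ∃ r ∈ R1, x = r * a := by
    intro x hx
    have h1 := coe_mul_of_right_le_normalizer_left R1 (zpowers a) (zpowers_le.mpr haR)
    have h2 : x ∈ ((R1 ⊔ zpowers a : Subgroup G) : Set G) := hx
    rw [h1] at h2
    obtain ⟨r, hr, y, ⟨i, rfl⟩, rfl⟩ := h2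
    have h3 : a ^ i = 1 ∨ a ^ i = a := by
      rcases Int.even_or_odd' i with ⟨n, hn | hn⟩
      · left; rw [hn, zpow_mul, zpow_ofNat, pow_two, haa, one_zpow]
      · right; rw [hn, zpow_add, zpow_mul, zpow_ofNat, pow_two, haa, one_zpow, one_mul, zpow_one]
    rcases h3 with h3 | h3
    · left
      beta_reduce
      rw [h3, mul_one]; exact hr
    · right
      refine ⟨r, hr, ?_⟩
      beta_reduce
      rw [h3]
  have hne : W ≠ B := by
    intro hWB
    -- `R1 ≤ {1, t}`
    have h1 : ∀ r ∈ R1, r = 1 ∨ r = t := by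
      intro r hr
      have h2 : r ∈ B := by rw [← hWB]; exact mem_sup_left hr
      rcases (hBmem r).1 h2 with h3 | h3 | h3 | h3
      · exact Or.inl h3
      · exact absurd (h3 ▸ hr.2) haY'
      · exact Or.inr h3
      · exfalso
        apply haY'
        have h4 : a = r * t := by rw [h3, mul_assoc, htt, mul_one]
        rw [h4]; exact mul_mem hr.2 htY
    have h2 : R1 ≤ zpowers t := by
      intro r hr
      rcases h1 r hr with h3 | h3
      · rw [h3]; exact one_mem _
      · rw [h3]; exact mem_zpowers t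
    have h3 := Subgroup.card_le_of_le h2
    rw [Nat.card_zpowers, ht2] at h3
    omega
  obtain ⟨s, hsW, hsB, hsn⟩ := CITSylowFour.exists_normalizing hW2 hBW hne
  -- change `s` by `a`
  have key : ∃ ρ ∈ R1, ρ ∉ B ∧ ∀ b ∈ B, ρ * b * ρ⁻¹ ∈ B := by
    rcases hWmem s hsW with h1 | ⟨r, hr, h1⟩
    · exact ⟨s, h1, hsB, hsn⟩
    · have haB : a ∈ B := Or.inr (Or.inl rfl)
      have hra : r = s * a⁻¹ := by rw [h1, mul_inv_cancel_right]
      refine ⟨r, hr, fun h2 => hsB ?_, fun b hb => ?_⟩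
      · rw [h1]; exact mul_mem h2 haB
      · have h2 := hsn _ (mul_mem (mul_mem (inv_mem haB) hb) haB)
        have h3 : s * (a⁻¹ * b * a) * s⁻¹ = r * b * r⁻¹ := by rw [hra]; group
        rwa [h3] at h2
  obtain ⟨ρ, hρ, hρB, hρn⟩ := key
  have ht1 := ne_one_of_orderOf ht2
  have ha1 := ne_one_of_orderOf ha2
  have hρt : ρ * t * ρ⁻¹ = t := by
    have h1 := hρn t (Or.inr (Or.inr (Or.inl rfl)))
    have h2 : ρ * t * ρ⁻¹ ∈ centralizer (K : Set G) := mul_mem (mul_mem hρ.2 htY) (inv_mem hρ.2)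
    rcases (hBmem _).1 h1 with h3 | h3 | h3 | h3
    · exfalso; apply ht1
      have h4 : t = ρ⁻¹ * (ρ * t * ρ⁻¹) * ρ := by group
      rw [h4, h3]; group
    · exact absurd (h3 ▸ h2) haY'
    · exact h3
    · exfalso
      apply haY'
      have h4 : a = (a * t) * t := by rw [mul_assoc, htt, mul_one]
      rw [h4, ← h3]; exact mul_mem h2 htY
  have hρt' : ρ * t = t * ρ := mul_inv_eq_iff_eq_mul.1 hρt
  refine ⟨ρ, hρ.2, ?_, hρt'⟩
  have h1 := hρn a (Or.inr (Or.inl rfl))
  rcases (hBmem _).1 h1 with h3 | h3 | h3 | h3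
  · exfalso; apply ha1
    have h4 : a = ρ⁻¹ * (ρ * a * ρ⁻¹) * ρ := by group
    rw [h4, h3]; group
  · exfalso
    apply hρB
    rcases hCR ρ hρ (mul_inv_eq_iff_eq_mul.1 h3).symm with h4 | h4
    · rw [h4]; exact one_mem _
    · rw [h4]; exact Or.inr (Or.inr (Or.inl rfl))
  · exfalso
    have h4 : a = ρ⁻¹ * (ρ * a * ρ⁻¹) * ρ := by group
    have h5 : a = t := by rw [h4, h3, mul_assoc, ← hρt']; group
    exact haY' (h5 ▸ htY)
  · exact h3

/-- three-elements of `N(C_K(a))` centralise `C(K)` -/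
theorem three_comm (h : Std p K) (hTA : TA K) (haM : a ∈ normalizer (K : Set G))
    (haa : a * a = 1) (haK : a ∉ K ⊔ centralizer (K : Set G))
    (htY : t ∈ centralizer (K : Set G)) {x : G}
    (hx : x ∈ normalizer ((K ⊓ centralizer ({a} : Set G) : Subgroup G) : Set G)) (hx3 : ∃ k : ℕ, x ^ 3 ^ k = 1) :
    x * t = t * x := by
  obtain ⟨y, hy, w, hw, hy3, hwy⟩ := hTA.inv a haM (by rw [haa]; exact one_mem _) haK
  have h1 := mem_of_inverted h.cyc Nat.prime_three (by norm_num) hy hw hy3 hwy hx hx3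
  exact comm_KY x h1.1 t htY

/-- elements of `C(K)` normalise `C_K(a)` -/
theorem mem_normalizer_of_cent {L : Subgroup G} {x : G} (hx : ∀ l ∈ L, x * l = l * x) :
    x ∈ normalizer (L : Set G) :=
  mem_normalizer_of_forall fun l hl => by rw [hx l hl, mul_inv_cancel_right]; exact hl

/-- (i) a Sylow 2-subgroup of `C(K)` has order two -/
theorem card_le_two (h : Std p K) (hL : L2K K q) (hTA : TA K) (hg : g ∉ normalizer (K : Set G))
    (haY : a ∈ cj g (centralizer (K : Set G))) (haM : a ∈ normalizer (K : Set G))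
    (ha2 : orderOf a = 2) (haK : a ∉ K ⊔ centralizer (K : Set G))
    (htY : t ∈ centralizer (K : Set G)) (ht2 : orderOf t = 2) (hat : a * t = t * a)
    {R : Subgroup G} (hR : IsSyl2 (centralizer (K : Set G)) R) : Nat.card R ≤ 2 := by
  by_contra hc
  push Not at hc
  have hTF := hTA.toTF
  have haa := sq_of_orderOf ha2
  have htt := sq_of_orderOf ht2
  have htM : t ∈ cj g (normalizer (K : Set G)) :=
    h.centralizer_le_cj ha2 haY (mem_centralizer_singleton_iff.mpr hat.symm)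
  obtain ⟨ρ, hρY, hρa, hρt⟩ := exists_rho h hL hTF hg haY haM ha2 haK htY ht2 hat hR hc
  obtain ⟨h1, h2, h3, h4, h5⟩ := swap h hL hTF hg haY haM ha2 haK htY htM ht2
  -- the same for `g⁻¹`
  have e1 : orderOf (g⁻¹ * a * g) = 2 := by
    have := orderOf_conj g⁻¹ a
    rw [inv_inv] at this
    rw [this, ha2]
  have e2 : (g⁻¹ * t * g) * (g⁻¹ * a * g) = (g⁻¹ * a * g) * (g⁻¹ * t * g) := by
    calc (g⁻¹ * t * g) * (g⁻¹ * a * g) = g⁻¹ * (t * a) * g := by group
      _ = g⁻¹ * (a * t) * g := by rw [hat]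
      _ = _ := by group
  obtain ⟨σ, hσY, hσt, hσa⟩ := exists_rho h hL hTF h1 h2 h3 h4 h5 (mem_cj.mp haY) e1 e2 hR hc
  set σ' := g * σ * g⁻¹ with hσ'
  have hσ'Y : σ' ∈ cj g (centralizer (K : Set G)) := conj_mem_cj hσY
  have hσ't : σ' * t * σ'⁻¹ = t * a := by
    calc σ' * t * σ'⁻¹ = g * (σ * (g⁻¹ * t * g) * σ⁻¹) * g⁻¹ := by rw [hσ']; group
      _ = g * ((g⁻¹ * t * g) * (g⁻¹ * a * g)) * g⁻¹ := by rw [hσt]
      _ = t * a := by group
  have hσ'a : σ' * a * σ'⁻¹ = a := by
    calc σ' * a * σ'⁻¹ = g * (σ * (g⁻¹ * a * g) * σ⁻¹) * g⁻¹ := by rw [hσ']; group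
      _ = g * (g⁻¹ * a * g) * g⁻¹ := by rw [hσa, mul_inv_cancel_right]
      _ = a := by group
  have hρt' : ρ * t * ρ⁻¹ = t := by rw [hρt, mul_inv_cancel_right]
  -- the three-cycle
  obtain ⟨x, hxz, hx3, hxt⟩ := exists_three_element (g := ρ * σ') (t := t) (a := a) (by
      calc ρ * σ' * t * (ρ * σ')⁻¹ = ρ * (σ' * t * σ'⁻¹) * ρ⁻¹ := by group
        _ = (ρ * t * ρ⁻¹) * (ρ * a * ρ⁻¹) := by rw [hσ't]; group
        _ = a := by rw [hρt', hρa, hat, ← mul_assoc, htt, one_mul])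
    (by
      calc ρ * σ' * a * (ρ * σ')⁻¹ = ρ * (σ' * a * σ'⁻¹) * ρ⁻¹ := by group
        _ = t * a := by rw [hσ'a, hρa, hat])
    (by
      calc ρ * σ' * (t * a) * (ρ * σ')⁻¹ = ρ * ((σ' * t * σ'⁻¹) * (σ' * a * σ'⁻¹)) * ρ⁻¹ := by group
        _ = ρ * t * ρ⁻¹ := by rw [hσ't, hσ'a, mul_assoc t a a, haa, mul_one]
        _ = t := hρt')
    (by
      rintro rfl
      exact haK (mem_sup_right htY))
  apply hxt
  apply three_comm h hTA haM haa haK htY _ hx3
  have hnor : ρ * σ' ∈ normalizer ((K ⊓ centralizer ({a} : Set G) : Subgroup G) : Set G) := by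
    apply mul_mem
    · exact mem_normalizer_of_cent fun l hl => (comm_KY l hl.1 ρ hρY).symm
    · exact mem_normalizer_of_cent fun l hl => field_comm h hTF haY haM ha2 haK l hl σ' hσ'Y
  exact (zpowers_le.2 hnor) hxz

omit [Finite G] in
theorem conj_eq_of_card [Finite G] {Y : Subgroup G} (hY : ∀ R : Subgroup G, IsSyl2 Y R → Nat.card R ≤ 2) {u v : G}
    (hu : u ∈ Y) (hv : v ∈ Y) (hu2 : orderOf u = 2) (hv2 : orderOf v = 2) : ∃ y ∈ Y, y * u * y⁻¹ = v := by
  obtain ⟨R, hR, huR⟩ := exists_isSyl2 Y (zpowers u) (zpowers_le.2 hu) (isPGroup_zpowers hu2)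
  obtain ⟨R', hR', hvR⟩ := exists_isSyl2 Y (zpowers v) (zpowers_le.2 hv) (isPGroup_zpowers hv2)
  have hRe : R = zpowers u := (Subgroup.eq_of_le_of_card_ge huR (by
    rw [Nat.card_zpowers, hu2]; exact hY R hR)).symm
  have hRe' : R' = zpowers v := (Subgroup.eq_of_le_of_card_ge hvR (by
    rw [Nat.card_zpowers, hv2]; exact hY R' hR')).symm
  obtain ⟨y, hy, hyR⟩ := isSyl2_conj hR hR'
  refine ⟨y, hy, ?_⟩
  have h1 : y * u * y⁻¹ ∈ R' := by rw [hyR, hRe]; exact conj_mem_cj (mem_zpowers u)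
  rw [hRe'] at h1
  obtain ⟨i, hi⟩ := mem_zpowers_iff.1 h1
  have h2 : v ^ i = 1 ∨ v ^ i = v := by
    have hvv := sq_of_orderOf hv2
    rcases Int.even_or_odd' i with ⟨n, hn | hn⟩
    · left; rw [hn, zpow_mul, zpow_ofNat, pow_two, hvv, one_zpow]
    · right; rw [hn, zpow_add, zpow_mul, zpow_ofNat, pow_two, hvv, one_zpow, one_mul, zpow_one]
  rcases h2 with h2 | h2
  · exfalso
    apply ne_one_of_orderOf hu2
    have h4 : u = y⁻¹ * (y * u * y⁻¹) * y := by group
    rw [h4, ← hi, h2]; group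
  · rw [← hi, h2]

/-- `a` is conjugate to `t` in `N(C_K(a))` -/
theorem exists_conj (h : Std p K) (hL : L2K K q) (hTA : TA K) (hg : g ∉ normalizer (K : Set G))
    (haY : a ∈ cj g (centralizer (K : Set G))) (haM : a ∈ normalizer (K : Set G))
    (ha2 : orderOf a = 2) (haK : a ∉ K ⊔ centralizer (K : Set G))
    (htY : t ∈ centralizer (K : Set G)) (ht2 : orderOf t = 2) (hat : a * t = t * a)
    (hR : ∀ R : Subgroup G, IsSyl2 (centralizer (K : Set G)) R → Nat.card R ≤ 2) :
    ∃ n ∈ normalizer ((K ⊓ centralizer ({a} : Set G) : Subgroup G) : Set G), n * t * n⁻¹ = a := by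
  have hTF := hTA.toTF
  have haa := sq_of_orderOf ha2
  have htM : t ∈ cj g (normalizer (K : Set G)) :=
    h.centralizer_le_cj ha2 haY (mem_centralizer_singleton_iff.mpr hat.symm)
  obtain ⟨h1, h2, h3, h4, h5⟩ := swap h hL hTF hg haY haM ha2 haK htY htM ht2
  have hb := sq_of_orderOf h4
  obtain ⟨k, hk, c, hc, hkc⟩ := hTA.conj a haM _ h3 (by rw [haa]; exact one_mem _)
    (by rw [hb]; exact one_mem _) haK h5
  have hL' := field_eq h hL hTF hg haY haM ha2 haK htY htM ht2
  set L := K ⊓ centralizer ({a} : Set G) with hLdef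
  -- `m = g k` normalises `L`
  have hm : g * k ∈ normalizer (L : Set G) := by
    refine mem_normalizer_of_forall fun l hl => ?_
    rw [hL']
    have hlK : k * l * k⁻¹ ∈ K := mul_mem (mul_mem hk hl.1) (inv_mem hk)
    have hla : l * a = a * l := mem_centralizer_singleton_iff.1 hl.2
    refine Subgroup.mem_inf.2 ⟨?_, mem_centralizer_singleton_iff.2 ?_⟩
    · rw [mem_cj]
      have e : g⁻¹ * (g * k * l * (g * k)⁻¹) * g = k * l * k⁻¹ := by group
      rw [e]; exact hlK
    · have h6 : (k * l * k⁻¹) * (g⁻¹ * t * g) = (g⁻¹ * t * g) * (k * l * k⁻¹) := by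
        rw [hkc]
        have h7 := comm_KY _ hlK c hc
        calc k * l * k⁻¹ * (k * a * k⁻¹ * c) = k * (l * a) * k⁻¹ * c := by group
          _ = k * (a * l) * k⁻¹ * c := by rw [hla]
          _ = k * a * k⁻¹ * (k * l * k⁻¹ * c) := by group
          _ = k * a * k⁻¹ * (c * (k * l * k⁻¹)) := by rw [h7]
          _ = _ := by group
      calc g * k * l * (g * k)⁻¹ * t = g * ((k * l * k⁻¹) * (g⁻¹ * t * g)) * g⁻¹ := by group
        _ = g * ((g⁻¹ * t * g) * (k * l * k⁻¹)) * g⁻¹ := by rw [h6]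
        _ = _ := by group
  -- `m t m⁻¹ = g t g⁻¹` and `a` are conjugate in `Y^g`
  have hkt : k * t * k⁻¹ = t := by rw [comm_KY k hk t htY, mul_inv_cancel_right]
  have hag := mem_cj.mp haY
  have e1 : orderOf (g⁻¹ * a * g) = 2 := by
    have := orderOf_conj g⁻¹ a
    rw [inv_inv] at this
    rw [this, ha2]
  obtain ⟨y, hy, hyt⟩ := conj_eq_of_card hR htY hag ht2 e1
  have hy' : g * y * g⁻¹ ∈ cj g (centralizer (K : Set G)) := conj_mem_cj hy
  refine ⟨(g * y * g⁻¹) * (g * k), mul_mem ?_ hm, ?_⟩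
  · exact mem_normalizer_of_cent fun l hl => field_comm h hTF haY haM ha2 haK l hl _ hy'
  · calc g * y * g⁻¹ * (g * k) * t * (g * y * g⁻¹ * (g * k))⁻¹ = g * (y * (k * t * k⁻¹) * y⁻¹) * g⁻¹ := by group
      _ = g * (g⁻¹ * a * g) * g⁻¹ := by rw [hkt, hyt]
      _ = a := by group

omit [Finite G] in
theorem zpow_invol {v : G} (hvv : v * v = 1) (i : ℤ) : v ^ i = 1 ∨ v ^ i = v := by
  rcases Int.even_or_odd' i with ⟨n, hn | hn⟩
  · left; rw [hn, zpow_mul, zpow_ofNat, pow_two, hvv, one_zpow]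
  · right; rw [hn, zpow_add, zpow_mul, zpow_ofNat, pow_two, hvv, one_zpow, one_mul, zpow_one]

omit [Finite G] in
theorem zpowers_comm (hat : a * t = t * a) : ∀ x ∈ zpowers a, ∀ y ∈ zpowers t, x * y = y * x := by
  rintro _ ⟨i, rfl⟩ _ ⟨j, rfl⟩
  exact ((show Commute a t from hat).zpow_zpow i j).eq

omit [Finite G] in
theorem mem_four_iff (haa : a * a = 1) (htt : t * t = 1) (hat : a * t = t * a) {x : G} :
    x ∈ zpowers a ⊔ zpowers t ↔ x = 1 ∨ x = a ∨ x = t ∨ x = a * t := by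
  rw [mem_sup_comm (zpowers_comm hat)]
  constructor
  · rintro ⟨_, ⟨i, rfl⟩, _, ⟨j, rfl⟩, rfl⟩
    beta_reduce
    rcases zpow_invol haa i with h1 | h1 <;> rcases zpow_invol htt j with h2 | h2
    · left; rw [h1, h2, one_mul]
    · right; right; left; rw [h1, h2, one_mul]
    · right; left; rw [h1, h2, mul_one]
    · right; right; right; rw [h1, h2]
  · rintro (rfl | rfl | rfl | rfl)
    · exact ⟨1, one_mem _, 1, one_mem _, (mul_one 1).symm⟩
    · exact ⟨x, mem_zpowers _, 1, one_mem _, (mul_one x).symm⟩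
    · exact ⟨1, one_mem _, x, mem_zpowers _, (one_mul x).symm⟩
    · exact ⟨a, mem_zpowers _, t, mem_zpowers _, rfl⟩

theorem card_four (ha2 : orderOf a = 2) (ht2 : orderOf t = 2) (hat : a * t = t * a) (hne : a ≠ t) :
    Nat.card (zpowers a ⊔ zpowers t : Subgroup G) = 4 := by
  rw [card_sup_comm (zpowers_comm hat), Nat.card_zpowers, Nat.card_zpowers, ha2, ht2]
  rw [eq_bot_iff]
  rintro x ⟨⟨i, rfl⟩, j, hj⟩
  rw [mem_bot]
  beta_reduce at hj ⊢
  rcases zpow_invol (sq_of_orderOf ha2) i with h1 | h1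
  · exact h1
  · rcases zpow_invol (sq_of_orderOf ht2) j with h2 | h2
    · rw [← hj, h2]
    · exfalso
      apply hne
      rw [h1, h2] at hj
      exact hj.symm

/-- 2-subgroups of `C(C_K(a)) ∩ C(t)` have order at most 4 -/
theorem card_le_four (h : Std p K) (hTA : TA K) (haM : a ∈ normalizer (K : Set G))
    (haa : a * a = 1) (haK : a ∉ K ⊔ centralizer (K : Set G))
    (htY : t ∈ centralizer (K : Set G)) (ht2 : orderOf t = 2)
    (hR : ∀ R : Subgroup G, IsSyl2 (centralizer (K : Set G)) R → Nat.card R ≤ 2)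
    {Z : Subgroup G} (hZ : IsPGroup 2 Z)
    (hZD : Z ≤ centralizer ((K ⊓ centralizer ({a} : Set G) : Subgroup G) : Set G))
    (hZt : ∀ z ∈ Z, z * t = t * z) : Nat.card Z ≤ 4 := by
  have key : ∀ z ∈ Z, z ∉ centralizer (K : Set G) → ∃ c ∈ centralizer (K : Set G), z = a * c := by
    intro z hz hzY
    have hzM : z ∈ normalizer (K : Set G) :=
      h.le_normalizer ht2 htY (mem_centralizer_singleton_iff.2 (hZt z hz))
    rcases hTA.cent a haM (by rw [haa]; exact one_mem _) haK z hzM (fun k hk =>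
      (mem_centralizer_iff.1 (hZD hz) k hk).symm) with h1 | h1
    · exact absurd h1 hzY
    · exact h1
  have h1 := CaseATools.card_le_two_mul (A := Z) (B := centralizer (K : Set G)) (by
    intro x hx y hy hxY hyY
    obtain ⟨c, hc, rfl⟩ := key x hx hxY
    obtain ⟨d, hd, rfl⟩ := key y hy hyY
    have h2 : a * c * (a * d) = (a * c * a⁻¹) * d := by
      have h3 : a⁻¹ = a := inv_eq_of_mul_eq_one_left haa
      rw [h3]; group
    rw [h2]
    exact mul_mem (normal_cent K a haM c hc) hd)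
  obtain ⟨R, hR1, hR2⟩ := exists_isSyl2 (centralizer (K : Set G)) (Z ⊓ centralizer (K : Set G)) inf_le_right
    (hZ.to_le inf_le_left)
  have h2 := (Subgroup.card_le_of_le hR2).trans (hR R hR1)
  omega

/-- (ii) `t a` is not conjugate to `t` -/
theorem not_conj (h : Std p K) (hL : L2K K q) (hTA : TA K) (hg : g ∉ normalizer (K : Set G))
    (haY : a ∈ cj g (centralizer (K : Set G))) (haM : a ∈ normalizer (K : Set G))
    (ha2 : orderOf a = 2) (haK : a ∉ K ⊔ centralizer (K : Set G))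
    (htY : t ∈ centralizer (K : Set G)) (ht2 : orderOf t = 2) (hat : a * t = t * a)
    (hR : ∀ R : Subgroup G, IsSyl2 (centralizer (K : Set G)) R → Nat.card R ≤ 2) (u : G) :
    t * a ≠ u * t * u⁻¹ := by
  intro hu
  have hpf : Fact (Nat.Prime 2) := ⟨Nat.prime_two⟩
  have hTF := hTA.toTF
  have haa := sq_of_orderOf ha2
  have htt := sq_of_orderOf ht2
  have haY' : a ∉ centralizer (K : Set G) := fun h1 => haK (mem_sup_right h1)
  have hne : a ≠ t := fun h1 => haY' (h1 ▸ htY)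
  -- the data for `t a`
  have huM : u ∉ normalizer (K : Set G) := by
    intro h1
    apply haY'
    have h2 : t * a ∈ centralizer (K : Set G) := by rw [hu]; exact normal_cent K u h1 t htY
    have h3 : a = t * (t * a) := by rw [← mul_assoc, htt, one_mul]
    rw [h3]; exact mul_mem htY h2
  have hbY : t * a ∈ cj u (centralizer (K : Set G)) := by rw [hu]; exact conj_mem_cj htY
  have hbM : t * a ∈ normalizer (K : Set G) := mul_mem (centralizer_le_normalizer _ htY) haM
  have hb2 : orderOf (t * a) = 2 := by rw [hu, orderOf_conj, ht2]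
  have hbK : t * a ∉ K ⊔ centralizer (K : Set G) := by
    intro h1
    apply haK
    have h3 : a = t * (t * a) := by rw [← mul_assoc, htt, one_mul]
    rw [h3]; exact mul_mem (mem_sup_right htY) h1
  have hbt : (t * a) * t = t * (t * a) := by rw [mul_assoc, hat]
  have hLeq : K ⊓ centralizer ({t * a} : Set G) = K ⊓ centralizer ({a} : Set G) := by
    ext k
    rw [Subgroup.mem_inf, Subgroup.mem_inf, mem_centralizer_singleton_iff, mem_centralizer_singleton_iff]
    constructor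
    · rintro ⟨hk, h1⟩
      refine ⟨hk, ?_⟩
      have h2 := comm_KY k hk t htY
      have h3 : t * (k * a) = t * (a * k) := by
        calc t * (k * a) = (t * k) * a := by group
          _ = (k * t) * a := by rw [h2]
          _ = k * (t * a) := by group
          _ = t * a * k := h1
          _ = t * (a * k) := by group
      exact mul_left_cancel h3
    · rintro ⟨hk, h1⟩
      refine ⟨hk, ?_⟩
      have h2 := comm_KY k hk t htY
      calc k * (t * a) = (k * t) * a := by group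
        _ = t * (k * a) := by rw [h2]; group
        _ = t * a * k := by rw [h1]; group
  obtain ⟨n, hnL, hnt⟩ := exists_conj h hL hTA hg haY haM ha2 haK htY ht2 hat hR
  obtain ⟨n', hnL', hnt'⟩ := exists_conj h hL hTA huM hbY hbM hb2 hbK htY ht2 hbt hR
  rw [hLeq] at hnL'
  set L := K ⊓ centralizer ({a} : Set G) with hLdef
  set D : Subgroup G := centralizer (L : Set G) with hD
  have haD : a ∈ D := by
    rw [hD, mem_centralizer_iff]
    intro l hl
    exact mem_centralizer_singleton_iff.1 hl.2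
  have htD : t ∈ D := by
    rw [hD, mem_centralizer_iff]
    intro l hl
    exact comm_KY l hl.1 t htY
  have hDN : ∀ m ∈ normalizer (L : Set G), cj m D = D := fun m hm => by
    rw [hD, cj_centralizer, (cj_eq_iff (H := L)).2 hm]
  have hDL : D ≤ normalizer (L : Set G) := fun d hd => mem_normalizer_of_cent fun l hl =>
    (mem_centralizer_iff.1 hd l hl).symm
  -- 2-subgroups of `C_D(s)`, `s ∈ {t, a, ta}`
  have hst : ∀ Z : Subgroup G, IsPGroup 2 Z → Z ≤ D → (∀ z ∈ Z, z * t = t * z) → Nat.card Z ≤ 4 :=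
    fun Z hZ hZD hZt => card_le_four h hTA haM haa haK htY ht2 hR hZ hZD hZt
  have hsm : ∀ m ∈ normalizer (L : Set G), ∀ s, m * t * m⁻¹ = s → ∀ Z : Subgroup G, IsPGroup 2 Z → Z ≤ D →
      (∀ z ∈ Z, z * s = s * z) → Nat.card Z ≤ 4 := by
    intro m hm s hms Z hZ hZD hZs
    rw [← card_cj m⁻¹ Z]
    apply hst _ (isPGroup_cj hZ)
    · have h1 := cj_mono (g := m⁻¹) hZD
      rwa [hDN _ (inv_mem hm)] at h1
    · rintro z hz
      rw [mem_cj, inv_inv] at hz
      have h1 := hZs _ hz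
      rw [← hms] at h1
      calc z * t = m⁻¹ * ((m * z * m⁻¹) * (m * t * m⁻¹)) * m := by group
        _ = m⁻¹ * ((m * t * m⁻¹) * (m * z * m⁻¹)) * m := by rw [h1]
        _ = t * z := by group
  set B : Subgroup G := zpowers a ⊔ zpowers t with hB
  have hBmem : ∀ x, x ∈ B ↔ (x = 1 ∨ x = a ∨ x = t ∨ x = a * t) := fun x => mem_four_iff haa htt hat
  have hBcard : Nat.card B = 4 := card_four ha2 ht2 hat hne
  have hB2 : IsPGroup 2 B := IsPGroup.of_card (n := 2) (by rw [hBcard]; norm_num)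
  have haB : a ∈ B := mem_sup_left (mem_zpowers a)
  have htB : t ∈ B := mem_sup_right (mem_zpowers t)
  have hBD : B ≤ D := sup_le (zpowers_le.2 haD) (zpowers_le.2 htD)
  have hBcomm : ∀ x ∈ B, ∀ y ∈ B, x * y = y * x := by
    have e1 : Commute a (a * t) := (Commute.refl a).mul_right hat
    have e2 : Commute t (a * t) := (show Commute t a from hat.symm).mul_right (Commute.refl t)
    intro x hx y hy
    rcases (hBmem x).1 hx with rfl | rfl | rfl | rfl <;> rcases (hBmem y).1 hy with rfl | rfl | rfl | rfl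
    · rfl
    · rw [one_mul, mul_one]
    · rw [one_mul, mul_one]
    · rw [one_mul, mul_one]
    · rw [one_mul, mul_one]
    · rfl
    · exact hat
    · exact e1
    · rw [one_mul, mul_one]
    · exact hat.symm
    · rfl
    · exact e2
    · rw [one_mul, mul_one]
    · exact e1.symm
    · exact e2.symm
    · rfl
  -- `B` is a Sylow 2-subgroup of `D`
  obtain ⟨T, hT, hBT⟩ := exists_isSyl2 D B hBD hB2
  have hTne : T ≠ ⊥ := by
    intro h1
    have h2 := hBT htB
    rw [h1, mem_bot] at h2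
    exact ne_one_of_orderOf ht2 h2
  obtain ⟨z, hzT, hz2, hzc⟩ := CaseATools.exists_central_involution hT.two le_rfl
    (fun x hx e he => mul_mem (mul_mem hx he) (inv_mem hx)) hTne
  have hzB : z ∈ B := by
    have h1 : B ⊔ zpowers z ≤ T := sup_le hBT (zpowers_le.2 hzT)
    have h2 := hst (B ⊔ zpowers z) (hT.two.to_le h1) (h1.trans hT.le) (by
      have h3 : B ⊔ zpowers z ≤ centralizer ({t} : Set G) := by
        apply sup_le
        · intro x hx
          exact mem_centralizer_singleton_iff.2 (hBcomm x hx t htB)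
        · rw [zpowers_le, mem_centralizer_singleton_iff]
          exact (hzc t (hBT htB)).symm
      intro x hx
      exact mem_centralizer_singleton_iff.1 (h3 hx))
    have h4 : B = B ⊔ zpowers z := Subgroup.eq_of_le_of_card_ge le_sup_left (by rw [hBcard]; exact h2)
    rw [h4]
    exact mem_sup_right (mem_zpowers z)
  have hz1 := ne_one_of_orderOf hz2
  have hTcard : Nat.card T ≤ 4 := by
    have h1 : ∀ x ∈ T, x * z = z * x := hzc
    rcases (hBmem z).1 hzB with h2 | h2 | h2 | h2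
    · exact absurd h2 hz1
    · exact hsm n hnL z (by rw [hnt, h2]) T hT.two hT.le h1
    · rw [h2] at h1
      exact hst T hT.two hT.le h1
    · exact hsm n' hnL' z (by rw [hnt', h2, hat]) T hT.two hT.le h1
  have hTB : T = B := (Subgroup.eq_of_le_of_card_ge hBT (by rw [hBcard]; exact hTcard)).symm
  rw [hTB] at hT
  -- control of fusion
  have hfuse : ∀ m ∈ normalizer (L : Set G), ∀ s ∈ B, m * t * m⁻¹ = s →
      ∃ m' ∈ normalizer (L : Set G), cj m' B = B ∧ m' * t * m'⁻¹ = s := by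
    intro m hm s hsB hms
    have h1 : IsSyl2 (D ⊓ centralizer ({s} : Set G)) B := by
      refine ⟨le_inf hBD (fun x hx => mem_centralizer_singleton_iff.2 (hBcomm x hx s hsB)), hB2,
        fun Z hZ hZ2 hle => hT.max Z (hZ.trans inf_le_left) hZ2 hle⟩
    have h2 : IsSyl2 (D ⊓ centralizer ({s} : Set G)) (cj m B) := by
      apply isSyl2_of_card h1 _ (isPGroup_cj hB2) (by rw [card_cj])
      apply le_inf
      · have := cj_mono (g := m) hBD
        rwa [hDN m hm] at this
      · intro x hx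
        rw [mem_centralizer_singleton_iff]
        have h3 := hBcomm _ (mem_cj.1 hx) t htB
        rw [← hms]
        calc x * (m * t * m⁻¹) = m * ((m⁻¹ * x * m) * t) * m⁻¹ := by group
          _ = m * (t * (m⁻¹ * x * m)) * m⁻¹ := by rw [h3]
          _ = _ := by group
    obtain ⟨c, hc, hcB⟩ := isSyl2_conj h1 h2
    refine ⟨c⁻¹ * m, mul_mem (inv_mem (hDL hc.1)) hm, ?_, ?_⟩
    · rw [cj_mul, hcB, cj_inv_cj]
    · have h3 : c * s = s * c := mem_centralizer_singleton_iff.1 hc.2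
      calc c⁻¹ * m * t * (c⁻¹ * m)⁻¹ = c⁻¹ * (m * t * m⁻¹) * c := by group
        _ = c⁻¹ * (s * c) := by rw [hms]; group
        _ = s := by rw [← h3]; group
  obtain ⟨m, hmL, hmB, hmt⟩ := hfuse n hnL a haB hnt
  obtain ⟨m', hmL', hmB', hmt'⟩ := hfuse n' hnL' (t * a) (mul_mem htB haB) hnt'
  -- no three-cycle
  have hno : ∀ γ ∈ normalizer (L : Set G), ∀ s : G, γ * t * γ⁻¹ = s → γ * s * γ⁻¹ = t * s →
      γ * (t * s) * γ⁻¹ = t → s ≠ t → False := by
    intro γ hγ s h1 h2 h3 h4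
    obtain ⟨x, hxz, hx3, hxt⟩ := exists_three_element h1 h2 h3 h4
    exact hxt (three_comm h hTA haM haa haK htY ((zpowers_le.2 hγ) hxz) hx3)
  have ha1 := ne_one_of_orderOf ha2
  have ht1 := ne_one_of_orderOf ht2
  have hinj : ∀ w x y : G, w * x * w⁻¹ = w * y * w⁻¹ → x = y := fun w x y h1 =>
    mul_left_cancel (mul_right_cancel h1)
  have hmaB : m * a * m⁻¹ ∈ B := by rw [← hmB]; exact conj_mem_cj haB
  have hta' : t * (t * a) = a := by rw [← mul_assoc, htt, one_mul]
  have hconjmul : ∀ w x y : G, w * (x * y) * w⁻¹ = (w * x * w⁻¹) * (w * y * w⁻¹) := fun w x y => by group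
  rcases (hBmem _).1 hmaB with h1 | h1 | h1 | h1
  · apply ha1
    apply hinj m
    rw [h1]; group
  · exact hne (hinj m _ _ (h1.trans hmt.symm))
  · -- `m` interchanges `t` and `a`
    have hmb : m' * (t * a) * m'⁻¹ ∈ B := by rw [← hmB']; exact conj_mem_cj (mul_mem htB haB)
    have hb1 : t * a ≠ 1 := ne_one_of_orderOf hb2
    have hbt' : t * a ≠ t := fun h2 => ha1 (mul_left_cancel (h2.trans (mul_one t).symm))
    rcases (hBmem _).1 hmb with h2 | h2 | h2 | h2
    · apply hb1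
      apply hinj m'
      rw [h2]; group
    · -- `t → ta → a → t`
      refine hno m' hmL' (t * a) hmt' (by rw [h2, hta']) ?_ hbt'
      rw [hconjmul, hmt', h2, mul_assoc, haa, mul_one]
    · -- `m'` fixes `a`
      have h3 : m' * a * m'⁻¹ = a := by
        have e : m' * a * m'⁻¹ = (m' * t * m'⁻¹) * (m' * (t * a) * m'⁻¹) := by
          rw [← hconjmul, hta']
        rw [e, hmt', h2, mul_assoc, hat, ← mul_assoc, htt, one_mul]
      have e1 : ∀ x, m * m' * x * (m * m')⁻¹ = m * (m' * x * m'⁻¹) * m⁻¹ := fun x => by group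
      refine hno (m * m') (mul_mem hmL hmL') (t * a) ?_ ?_ ?_ hbt'
      · rw [e1, hmt', hconjmul, hmt, h1, hat]
      · rw [e1, h2, hmt, hta']
      · rw [hta', e1, h3, h1]
    · exfalso
      apply hbt'
      apply hinj m'
      rw [h2, hmt', hat]
  · refine hno m hmL a hmt (by rw [h1, hat]) ?_ hne
    rw [hconjmul, hmt, h1, ← mul_assoc, haa, one_mul]

/-- **LEMMA ALPHA** -/
theorem alpha (h : Std p K) (hL : L2K K q) (hTA : TA K) (hg : g ∉ normalizer (K : Set G))
    (haY : a ∈ cj g (centralizer (K : Set G))) (haM : a ∈ normalizer (K : Set G))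
    (ha2 : orderOf a = 2) (haK : a ∉ K ⊔ centralizer (K : Set G)) :
    (∀ R : Subgroup G, IsSyl2 (centralizer (K : Set G)) R → Nat.card R = 2) ∧
    (∀ t ∈ centralizer (K : Set G), orderOf t = 2 → ∃ u : G, u * t * u⁻¹ = a) ∧
    (∀ t ∈ centralizer (K : Set G), orderOf t = 2 → a * t = t * a → ∀ u : G, u * t * u⁻¹ ≠ t * a) ∧
    (∀ t ∈ centralizer (K : Set G), orderOf t = 2 → a * t = t * a → ∀ u : G, u * t * u⁻¹ ≠ a * t) := by
  have hpf : Fact (Nat.Prime 2) := ⟨Nat.prime_two⟩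
  -- an involution of `C(K)` commuting with `a`
  obtain ⟨S, P, hP, haP'⟩ := exists_pairAt K g (isPGroup_zpowers ha2)
    (zpowers_le.mpr ⟨haM, cj_centralizer_le_normalizer g K haY⟩)
  have haP : a ∈ P := haP' (mem_zpowers a)
  have h1 : P ⊓ cj g (centralizer (K : Set G)) ≠ ⊥ := by
    intro hb
    have h2 : a ∈ P ⊓ cj g (centralizer (K : Set G)) := ⟨haP, haY⟩
    rw [hb, mem_bot] at h2
    exact ne_one_of_orderOf ha2 h2
  have h2 := hP.ne_bot h hg h1
  obtain ⟨s, hs, hs2⟩ := exists_involution_of_ne_bot hP.sylA'.two h2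
  have has : a * s = s * a := hP.comm h hg a ⟨haP, haY⟩ s hs
  have hR : ∀ R : Subgroup G, IsSyl2 (centralizer (K : Set G)) R → Nat.card R ≤ 2 := fun R hR =>
    card_le_two h hL hTA hg haY haM ha2 haK hs.2 hs2 has hR
  have hnc := fun (t : G) (ht : t ∈ centralizer (K : Set G)) (ht2 : orderOf t = 2) (hat : a * t = t * a) (u : G) =>
    not_conj h hL hTA hg haY haM ha2 haK ht ht2 hat hR u
  refine ⟨fun R hR' => le_antisymm (hR R hR') ?_, fun t ht ht2 => ?_,
    fun t ht ht2 hat u hu => hnc t ht ht2 hat u hu.symm,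
    fun t ht ht2 hat u hu => hnc t ht ht2 hat u (by rw [hu, hat])⟩
  · obtain ⟨Q, hQ, hsQ⟩ := exists_isSyl2 (centralizer (K : Set G)) (zpowers s) (zpowers_le.2 hs.2)
      (isPGroup_zpowers hs2)
    rw [isSyl2_card hQ hR']
    have h3 := Subgroup.card_le_of_le hsQ
    rwa [Nat.card_zpowers, hs2] at h3
  · obtain ⟨n, -, hn⟩ := exists_conj h hL hTA hg haY haM ha2 haK hs.2 hs2 has hR
    obtain ⟨y, hy, hyt⟩ := conj_eq_of_card hR ht hs.2 ht2 hs2
    refine ⟨n * y, ?_⟩
    calc n * y * t * (n * y)⁻¹ = n * (y * t * y⁻¹) * n⁻¹ := by group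
      _ = a := by rw [hyt, hn]

end main

/-! ### `PSL₂(2^m)` contains an element of order 3 inverted by an involution -/

section psl

open Matrix Cfsg.Agent.OddCyclic.Zass

theorem exists_inverted_psl {F : Type*} [Field F] (h2 : (2 : F) = 0) :
    ∃ y w : ProjectiveSpecialLinearGroup (Fin 2) F, orderOf y = 3 ∧ w * y * w⁻¹ = y⁻¹ := by
  have hneg : (-1 : F) = 1 := by
    have : (1 : F) + 1 = 0 := by rw [one_add_one_eq_two, h2]
    exact (eq_neg_of_add_eq_zero_left this).symm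
  let y : SpecialLinearGroup (Fin 2) F := mk 0 1 (-1) (-1) (by ring)
  let w : SpecialLinearGroup (Fin 2) F := mk 0 1 1 0 (by rw [mul_one, zero_mul, zero_sub, hneg])
  have hy2 : y * y = mk (-1) (-1) 1 0 (by ring) := by
    apply ext2
    · rw [mul00]; simp [y]
    · rw [mul01]; simp [y]
    · rw [mul10]; simp [y]
    · rw [mul11]; simp [y]
  have hy3 : y * y * y = 1 := by
    rw [hy2]
    apply ext2
    · rw [mul00]; simp [y]
    · rw [mul01]; simp [y]
    · rw [mul10]; simp [y]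
    · rw [mul11]; simp [y]
  have hwy : w * y = (y * y) * w := by
    rw [hy2]
    apply ext2
    · rw [mul00, mul00]; simp [y, w]
    · rw [mul01, mul01]; simp [y, w]
    · rw [mul10, mul10]; simp [y, w]
    · rw [mul11, mul11]; simp [y, w, hneg]
  let Y : ProjectiveSpecialLinearGroup (Fin 2) F := QuotientGroup.mk y
  let W : ProjectiveSpecialLinearGroup (Fin 2) F := QuotientGroup.mk w
  have hY3 : Y * Y * Y = 1 := by
    show QuotientGroup.mk (y * y * y) = (1 : ProjectiveSpecialLinearGroup (Fin 2) F)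
    rw [hy3]; rfl
  have hWY : W * Y = (Y * Y) * W := by
    show QuotientGroup.mk (w * y) = (QuotientGroup.mk (y * y * w) : ProjectiveSpecialLinearGroup (Fin 2) F)
    rw [hwy]
  have hY1 : Y ≠ 1 := by
    intro h
    have h3 := (QuotientGroup.eq_one_iff y).1 h
    rw [Matrix.SpecialLinearGroup.mem_center_iff] at h3
    obtain ⟨r, -, hr⟩ := h3
    have h4 : y 0 1 = 0 := by
      have := congrFun (congrFun hr 0) 1
      simpa using this.symm
    have h5 : y 0 1 = 1 := rfl
    rw [h5] at h4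
    exact one_ne_zero h4
  refine ⟨Y, W, orderOf_eq_prime (by rw [pow_succ, pow_two]; exact hY3) hY1, ?_⟩
  rw [hWY, mul_inv_cancel_right]
  exact (inv_eq_of_mul_eq_one_left hY3).symm

theorem exists_inverted {F : Type*} [Field F] (h2 : (2 : F) = 0) {L : Subgroup G}
    (e : L ≃* ProjectiveSpecialLinearGroup (Fin 2) F) :
    ∃ y ∈ L, ∃ w ∈ L, orderOf y = 3 ∧ w * y * w⁻¹ = y⁻¹ := by
  obtain ⟨y, w, hy, hw⟩ := exists_inverted_psl h2
  refine ⟨e.symm y, (e.symm y).2, e.symm w, (e.symm w).2, ?_, ?_⟩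
  · rw [orderOf_coe, MulEquiv.orderOf_eq, hy]
  · have h1 : e.symm w * e.symm y * (e.symm w)⁻¹ = (e.symm y)⁻¹ := by
      rw [← map_inv, ← map_inv, ← map_mul, ← map_mul, hw]
    exact congrArg Subtype.val h1

end psl

end Cfsg.Agent.OddCyclic.CaseAAlpha
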