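import Cfsg.Agent.OddCyclic.RedFFDefs
import Cfsg.Agent.OddCyclic.CaseAAlpha
import Cfsg.Agent.OddCyclic.CompBasic

/-!
# S0342, (C2), 2.2: families of best offenders

`Fam ρ T 𝒜`: `H` acts faithfully on the elementary abelian 2-group `V`, `O₂(H) = 1`, `T` is a Sylow 2-subgroup of `H`, `𝒜` a
set of best offenders in `T`, closed under `H`-conjugation in `T` (the images of the members of `𝒜(T)`).
`Pl ρ 𝒜 P h`: `P ≤ V` of order 4, invariant under `𝒜`, moved by a member of `𝒜`, `h` a 3-element of `H` acting on `P`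
without fixed points.
-/

set_option autoImplicit false

namespace Cfsg.Agent.OddCyclic.RedFam

open Subgroup
open Cfsg.Agent.OddCyclic.T1Module Cfsg.Agent.OddCyclic.FFBasic Cfsg.Agent.OddCyclic.FFRed
open Cfsg.Agent.OddCyclic.RedFFDefs
open Cfsg.Agent.OddCyclic.T1Defs (OddCyc)

universe u

variable {H : Type u} [Group H] {V : Type u} [CommGroup V]

structure Fam (ρ : H →* MulAut V) (T : Subgroup H) (𝒜 : Set (Subgroup H)) : Prop where
  sq : ∀ v : V, v * v = 1
  inj : Function.Injective ρ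
  cyc : OddCyc H
  core : ∀ D : Subgroup H, D.Normal → IsPGroup 2 D → D = ⊥
  two : IsPGroup 2 T
  syl : ¬ 2 ∣ T.index
  le : ∀ A ∈ 𝒜, A ≤ T
  bo : ∀ A ∈ 𝒜, BO ρ A
  conj : ∀ A ∈ 𝒜, ∀ h : H, A.map (MulAut.conj h).toMonoidHom ≤ T → A.map (MulAut.conj h).toMonoidHom ∈ 𝒜
  repl : ∀ A ∈ 𝒜, ∀ a ∈ A, Nat.card A = 4 → (fx ρ a).index = 2 → (CS ρ A).index = 4 → zpowers a ∈ 𝒜
  out : ∀ A ∈ 𝒜, A ≠ ⊥ → Out ρ A

structure Pl (ρ : H →* MulAut V) (𝒜 : Set (Subgroup H)) (P : Subgroup V) (h : H) : Prop where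
  card : Nat.card P = 4
  three : ∃ k : ℕ, h ^ 3 ^ k = 1
  inv : ∀ p ∈ P, ρ h p ∈ P
  fpf : ∀ p ∈ P, ρ h p = p → p = 1
  inv' : ∀ A ∈ 𝒜, ∀ a ∈ A, ∀ p ∈ P, ρ a p ∈ P
  moved : ∃ A ∈ 𝒜, ∃ a ∈ A, ∃ p ∈ P, ρ a p ≠ p

theorem exists_pow_of_mem {K : Type*} [Group K] {y x : K} (hy : 0 < orderOf y) (hx : x ∈ zpowers y) :
    ∃ m < orderOf y, y ^ m = x := by
  classical
  have hfo : IsOfFinOrder y := orderOf_pos_iff.1 hy
  obtain ⟨m, hm, he⟩ := Finset.mem_image.1 (hfo.mem_zpowers_iff_mem_range_orderOf.1 hx)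
  exact ⟨m, Finset.mem_range.1 hm, he⟩

/-! ### groups of order 4 -/

theorem card_mulAut_dvd_six {P : Type*} [Group P] (h4 : Nat.card P = 4) : Nat.card (MulAut P) ∣ 6 := by
  have hfin : Finite P := Nat.finite_of_card_ne_zero (by omega)
  let f : MulAut P →* Equiv.Perm {p : P // p ≠ 1} :=
    { toFun := fun φ => ((φ : P ≃* P).toEquiv.subtypeEquiv fun p => by
        constructor
        · intro h1 h2
          exact h1 ((map_eq_one_iff φ (MulEquiv.injective φ)).1 h2)
        · intro h1 h2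
          exact h1 (by rw [h2]; exact map_one φ))
      map_one' := rfl
      map_mul' := fun _ _ => rfl }
  have hinj : Function.Injective f := by
    intro φ ψ h
    apply MulEquiv.ext
    intro p
    by_cases hp : p = 1
    · rw [hp, map_one, map_one]
    · exact congrArg Subtype.val (Equiv.ext_iff.1 h ⟨p, hp⟩)
  have h1 : Nat.card {p : P // p ≠ 1} = 3 := by
    have h2 : Nat.card {p : P // p ≠ 1} + 1 = Nat.card P := by
      have h3 : Nat.card {p : P // p ≠ 1} = ({1}ᶜ : Set P).ncard := rfl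
      rw [h3, Set.ncard_compl, Set.ncard_singleton]
      have : 0 < Nat.card P := Nat.card_pos
      omega
    omega
  have h2 := Subgroup.card_dvd_of_injective f hinj
  rw [Nat.card_perm, h1] at h2
  exact h2

/-- the restriction of the action of `N` to the `N`-invariant subgroup `P` of order 4 -/
theorem eq_of_pow {ρ : H →* MulAut V} {P : Subgroup V} (h4 : Nat.card P = 4) {N : Subgroup H}
    (hN : ∀ n ∈ N, ∀ p ∈ P, ρ n p ∈ P) {n : H} (hn : n ∈ N) : ∀ p ∈ P, ρ (n ^ 6) p = p := by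
  intro p hp
  have h1 := card_mulAut_dvd_six (P := P) h4
  have hfin : Finite P := Nat.finite_of_card_ne_zero (by omega)
  have h2 : (res ρ N P hN ⟨n, hn⟩) ^ 6 = 1 := by
    obtain ⟨c, hc⟩ := h1
    rw [hc, pow_mul, pow_card_eq_one', one_pow]
  rw [← map_pow] at h2
  have h3 := congrArg (fun φ : MulAut P => ((φ ⟨p, hp⟩ : P) : V)) h2
  exact h3

/-- the cube of a 3-element acts trivially -/
theorem cube_eq {ρ : H →* MulAut V} {P : Subgroup V} (h4 : Nat.card P = 4) {h : H} (hinv : ∀ p ∈ P, ρ h p ∈ P)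
    (h3 : ∃ k : ℕ, h ^ 3 ^ k = 1) : ∀ p ∈ P, ρ (h ^ 3) p = p := by
  intro p hp
  obtain ⟨k, hk⟩ := h3
  have hfin : Finite P := Nat.finite_of_card_ne_zero (by omega)
  have hN : ∀ n ∈ zpowers h, ∀ p ∈ P, ρ n p ∈ P := by
    have h1 : ∀ m : ℕ, ∀ p ∈ P, ρ (h ^ m) p ∈ P := by
      intro m
      induction m with
      | zero => intro p hp; rw [pow_zero, map_one]; exact hp
      | succ m ih =>
        intro p hp
        rw [pow_succ, map_mul]
        exact ih _ (hinv p hp)
    intro n hn p hp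
    have h2 : 0 < 3 ^ k := by positivity
    have hfo : IsOfFinOrder h := isOfFinOrder_iff_pow_eq_one.2 ⟨3 ^ k, h2, hk⟩
    obtain ⟨m, -, rfl⟩ := exists_pow_of_mem hfo.orderOf_pos hn
    exact h1 m p hp
  have h6 := eq_of_pow (ρ := ρ) h4 hN (mem_zpowers h)
  -- `h ^ 3 ∈ ⟨h ^ 6⟩`
  have h7 : ∀ m : ℕ, ∀ q ∈ P, ρ (h ^ (6 * m)) q = q := by
    intro m
    induction m with
    | zero => intro q hq; rw [mul_zero, pow_zero, map_one]; rfl
    | succ m ih =>
      intro q hq
      rw [mul_add, mul_one, pow_add, map_mul, MulAut.mul_apply, h6 q hq, ih q hq]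
  rcases Nat.eq_zero_or_pos k with h0 | h0
  · rw [h0, pow_zero, pow_one] at hk
    rw [hk, one_pow, map_one]; rfl
  · -- `3 + 3 ^ k = 6 m`
    obtain ⟨m, hm⟩ : ∃ m, 3 + 3 ^ k = 6 * m := by
      obtain ⟨j, rfl⟩ := Nat.exists_eq_add_of_le' h0
      have h1 : Odd (3 ^ j) := Odd.pow (by decide)
      obtain ⟨i, hi⟩ := h1
      exact ⟨i + 1, by rw [pow_succ, hi]; ring⟩
    have h8 : h ^ 3 = h ^ (6 * m) := by rw [← hm, pow_add, hk, mul_one]
    rw [h8]
    exact h7 m p hp

/-! ### general facts -/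

variable [Finite H] [Finite V] {ρ : H →* MulAut V} {T : Subgroup H} {𝒜 : Set (Subgroup H)}

/-- a normal simple subgroup of order divisible by 3 is unique -/
theorem simple_unique (hc : OddCyc H) {L L' : Subgroup H} (hL : L.Normal) (hL' : L'.Normal) (hs : IsSimpleGroup L)
    (hs' : IsSimpleGroup L') (h3 : 3 ∣ Nat.card L) (h3' : 3 ∣ Nat.card L') : L = L' := by
  have hf : Fact (Nat.Prime 3) := ⟨Nat.prime_three⟩
  obtain ⟨⟨x, hxL⟩, hx⟩ := exists_prime_orderOf_dvd_card' (G := L) 3 h3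
  rw [Subgroup.orderOf_mk] at hx
  have hxL' : x ∈ L' := CompBasic.mem_of_orderOf hc Nat.prime_three (by norm_num) hL' h3' hx
  have hx1 : x ≠ 1 := by
    rintro rfl
    rw [orderOf_one] at hx
    norm_num at hx
  have key : ∀ L L' : Subgroup H, L.Normal → L'.Normal → IsSimpleGroup L → x ∈ L → x ∈ L' → L ≤ L' := by
    intro L L' hL hL' hs h1 h2
    have h3 : (L'.subgroupOf L).Normal := hL'.subgroupOf L
    rcases hs.eq_bot_or_eq_top_of_normal _ h3 with h4 | h4
    · exfalso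
      have h5 : (⟨x, h1⟩ : L) ∈ L'.subgroupOf L := mem_subgroupOf.2 h2
      rw [h4, mem_bot] at h5
      exact hx1 (congrArg Subtype.val h5)
    · rwa [subgroupOf_eq_top] at h4
  exact le_antisymm (key L L' hL hL' hs hxL hxL') (key L' L hL' hL hs' hxL' hxL)

/-- no normal subgroup of order 3 besides a normal simple subgroup of order divisible by 3 -/
theorem card_eq_three_of (hc : OddCyc H) {L : Subgroup H} (hL : L.Normal) (hs : IsSimpleGroup L)
    (h3 : 3 ∣ Nat.card L) {y : H} (hy : orderOf y = 3) (hn : (zpowers y).Normal) : Nat.card L = 3 := by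
  have hs' : IsSimpleGroup (zpowers y) := by
    have hf : Fact (Nat.Prime 3) := ⟨Nat.prime_three⟩
    exact isSimpleGroup_of_prime_card (p := 3) (by rw [Nat.card_zpowers, hy])
  have := simple_unique hc hL hn hs hs' h3 (by rw [Nat.card_zpowers, hy])
  rw [this, Nat.card_zpowers, hy]

/-- offenders all of whose involutions have the same fixed points move no plane -/
theorem no_plane {A : Subgroup H} (hA : BO ρ A) (h4 : 4 ≤ Nat.card A) (hf : ∀ a ∈ A, a ≠ 1 → fx ρ a = CS ρ A)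
    {P : Subgroup V} (hP : Nat.card P = 4) (hinv : ∀ a ∈ A, ∀ p ∈ P, ρ a p ∈ P) : ∀ a ∈ A, ∀ p ∈ P, ρ a p = p := by
  have hfinP : Finite P := Nat.finite_of_card_ne_zero (by omega)
  have hA2 : IsPGroup 2 A := fun a => ⟨1, by rw [pow_one, pow_two]; exact Subtype.ext (hA.sq a a.2)⟩
  obtain ⟨n, hn⟩ := IsPGroup.iff_card.1 hA2
  have hni : ¬ Function.Injective (res ρ A P hinv) := by
    intro hinj
    have h1 := (Subgroup.card_dvd_of_injective _ hinj).trans (card_mulAut_dvd_six (P := P) hP)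
    have h2 : 4 ∣ Nat.card A := by
      rw [hn] at h4 ⊢
      have : 2 ≤ n := by
        by_contra hcon
        have h3 : n ≤ 1 := by omega
        have h5 : 2 ^ n ≤ 2 ^ 1 := Nat.pow_le_pow_right (by norm_num) h3
        omega
      exact pow_dvd_pow 2 this
    have h3 := h2.trans h1
    norm_num at h3
  rw [← MonoidHom.ker_eq_bot_iff, ← ne_eq, Subgroup.ne_bot_iff_exists_ne_one] at hni
  obtain ⟨⟨a, ha⟩, ha1⟩ := hni
  have ha1' : (a : H) ≠ 1 := fun h => ha1 (Subtype.ext (Subtype.ext h))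
  have h1 : ∀ p ∈ P, p ∈ fx ρ (a : H) := by
    intro p hp
    have h2 := congrArg (fun φ : MulAut P => ((φ ⟨p, hp⟩ : P) : V)) (MonoidHom.mem_ker.1 ha)
    exact h2
  intro b hb p hp
  have h2 := h1 p hp
  rw [hf a a.2 ha1'] at h2
  exact h2 b hb

/-! ### (S3) -/

/-- the normal subgroup `⟨y⟩` of order 3, `|V : C_V(y)| = 4` -/
structure S3 (ρ : H →* MulAut V) (y : H) : Prop where
  order : orderOf y = 3
  normal : (zpowers y).Normal
  index : (fx ρ y).index = 4

theorem S3.inv_range {y : H} (h : S3 ρ y) (g : H) : ∀ v ∈ (cm ρ y).range, ρ g v ∈ (cm ρ y).range := by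
  intro v hv
  have h1 : g * y * g⁻¹ ∈ zpowers y := h.normal.conj_mem y (mem_zpowers y) g
  have h2 : g * y * g⁻¹ = 1 ∨ g * y * g⁻¹ = y ∨ g * y * g⁻¹ = y⁻¹ := by
    obtain ⟨m, hm, he⟩ := exists_pow_of_mem (orderOf_pos y) h1
    rw [h.order] at hm
    rw [← he]
    interval_cases m
    · left; exact pow_zero y
    · right; left; exact pow_one y
    · right; right
      rw [eq_inv_iff_mul_eq_one, ← pow_succ]
      change y ^ 3 = 1
      rw [← h.order, pow_orderOf_eq_one]
  rcases h2 with h2 | h2 | h2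
  · exfalso
    have h3 : y = 1 := by simpa using h2
    have h4 := h.order
    rw [h3, orderOf_one] at h4
    norm_num at h4
  · exact apply_mem_range ρ (mul_inv_eq_iff_eq_mul.1 h2) hv
  · exact apply_mem_range_of_inv ρ h2 hv

theorem S3.card_range {y : H} (h : S3 ρ y) : Nat.card (cm ρ y).range = 4 := by
  rw [card_range_cm, h.index]

/-- the 3-elements of `H` lie in `⟨y⟩` -/
theorem S3.mem {y : H} (h : S3 ρ y) (hV : ∀ v : V, v * v = 1) (hc : OddCyc H) {x : H}
    (hx : ∃ k : ℕ, x ^ 3 ^ k = 1) : x ∈ zpowers y := by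
  have hf : Fact (Nat.Prime 3) := ⟨Nat.prime_three⟩
  by_cases hx1 : x = 1
  · rw [hx1]; exact one_mem _
  obtain ⟨k, hk⟩ := hx
  obtain ⟨m, hm, ho⟩ := (Nat.dvd_prime_pow Nat.prime_three).1 (orderOf_dvd_of_pow_eq_one hk)
  have hm0 : m ≠ 0 := by
    rintro rfl
    rw [pow_zero, orderOf_eq_one_iff] at ho
    exact hx1 ho
  obtain ⟨j, rfl⟩ := Nat.exists_eq_succ_of_ne_zero hm0
  have h1 : orderOf (x ^ 3 ^ j) = 3 := by
    rw [orderOf_pow' x (by positivity), ho, pow_succ]
    rw [Nat.gcd_eq_right (Dvd.intro _ rfl), Nat.mul_div_cancel_left 3 (by positivity)]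
  have h2 : x ^ 3 ^ j ∈ zpowers y :=
    CompBasic.mem_of_orderOf hc Nat.prime_three (by norm_num) h.normal (by rw [Nat.card_zpowers, h.order]) h1
  have h3 : zpowers (x ^ 3 ^ j) = zpowers y :=
    Subgroup.eq_of_le_of_card_ge ((zpowers_le).2 h2) (by rw [Nat.card_zpowers, Nat.card_zpowers, h1, h.order])
  rcases Nat.eq_zero_or_pos j with hj | hj
  · rw [hj, pow_zero, pow_one] at h2
    exact h2
  · exfalso
    -- `y` acts trivially on `[V, y]`
    have h4 := cube_eq (ρ := ρ) (P := (cm ρ y).range) h.card_range (h := x) (h.inv_range x) ⟨k, hk⟩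
    have h5 : ∀ v ∈ (cm ρ y).range, ρ y v = v := by
      have h6 : y ∈ zpowers (x ^ 3 ^ j) := by rw [h3]; exact mem_zpowers y
      have h7 : zpowers (x ^ 3 ^ j) ≤ zpowers (x ^ 3) := by
        rw [zpowers_le]
        obtain ⟨i, rfl⟩ := Nat.exists_eq_add_of_le' hj
        have e : x ^ 3 ^ (i + 1) = (x ^ 3) ^ 3 ^ i := by rw [← pow_mul, pow_succ, mul_comm]
        change x ^ 3 ^ (i + 1) ∈ _
        rw [e]
        exact pow_mem (mem_zpowers _) _
      obtain ⟨i, hi⟩ := mem_zpowers_iff.1 (h7 h6)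
      intro v hv
      have h8 : v ∈ fx ρ (x ^ 3) := h4 v hv
      have h9 : v ∈ fx ρ ((x ^ 3) ^ i) := by
        obtain ⟨n, rfl | rfl⟩ := i.eq_nat_or_neg
        · rw [zpow_natCast]; exact fx_pow ρ h8 n
        · rw [zpow_neg, zpow_natCast]; exact fx_inv ρ (fx_pow ρ h8 n)
      rw [hi] at h9
      exact h9
    have h6 : (cm ρ y).range = ⊥ := by
      rw [eq_bot_iff_forall]
      intro v hv
      exact eq_one_of_fix hV (by rw [h.order]; decide) hv (h5 v hv)
    have h7 := h.card_range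
    rw [h6, card_bot] at h7
    norm_num at h7

/-- a plane on which a 3-element of `H` acts without fixed points is `[V, y]` -/
theorem S3.plane {y : H} (h : S3 ρ y) (hV : ∀ v : V, v * v = 1) (hc : OddCyc H) {P : Subgroup V} {x : H}
    (hP : Nat.card P = 4) (h3 : ∃ k : ℕ, x ^ 3 ^ k = 1) (hinv : ∀ p ∈ P, ρ x p ∈ P)
    (hfpf : ∀ p ∈ P, ρ x p = p → p = 1) : P = (cm ρ y).range := by
  have hfin : Finite P := Nat.finite_of_card_ne_zero (by omega)
  have hx := h.mem hV hc h3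
  have hyx : ρ x * ρ y = ρ y * ρ x := by
    obtain ⟨i, rfl⟩ := mem_zpowers_iff.1 hx
    rw [← map_mul, ← map_mul, ← zpow_add_one, ← zpow_one_add, add_comm]
  -- `P = [P, x] ≤ [V, x] ≤ [V, y]`
  have h1 : (cm ρ x).range ≤ (cm ρ y).range := by
    have h2 : ∀ n : ℕ, (cm ρ (y ^ n)).range ≤ (cm ρ y).range := by
      intro n
      induction n with
      | zero =>
        rintro _ ⟨v, rfl⟩
        rw [cm_apply, pow_zero, map_one]
        simp
      | succ n ih =>
        rintro _ ⟨v, rfl⟩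
        have e : cm ρ (y ^ (n + 1)) v = cm ρ (y ^ n) (ρ y v) * cm ρ y v := by
          rw [cm_apply, cm_apply, cm_apply, pow_succ, map_mul, MulAut.mul_apply]
          group
        rw [e]
        exact mul_mem (ih ⟨_, rfl⟩) ⟨v, rfl⟩
    obtain ⟨m, hm, he⟩ := exists_pow_of_mem (orderOf_pos y) hx
    rw [← he]
    exact h2 m
  have h2 : P ≤ (cm ρ x).range := by
    -- `p ↦ [p, x]` is injective on `P`
    let f : P →* P :=
      { toFun := fun p => ⟨cm ρ x p, mul_mem (hinv p p.2) (inv_mem p.2)⟩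
        map_one' := Subtype.ext (map_one _)
        map_mul' := fun a b => Subtype.ext (map_mul (cm ρ x) (a : V) b) }
    have hinj : Function.Injective f := by
      rw [injective_iff_map_eq_one]
      intro p hp
      have h3 : cm ρ x p = 1 := congrArg Subtype.val hp
      rw [cm_apply, mul_inv_eq_one] at h3
      exact Subtype.ext (hfpf p p.2 h3)
    have hsur := (Finite.injective_iff_surjective (f := f)).1 hinj
    intro p hp
    obtain ⟨q, hq⟩ := hsur ⟨p, hp⟩
    exact ⟨q, congrArg Subtype.val hq⟩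
  exact Subgroup.eq_of_le_of_card_ge (h2.trans h1) (by rw [h.card_range, hP])

end Cfsg.Agent.OddCyclic.RedFam
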