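import Cfsg.Agent.OddCyclic.RedTy
import Cfsg.Agent.OddCyclic.RedFam

/-!
# S0342, (C2), 2.2: the action of `X` on `Y`, interface between the abstract types and `RedTy`

`Rep X T Y r ρ ι`: `r : X →* H` surjective, `ρ : H →* MulAut V` faithful, `ι : V →* G` injective with image `Y`,
`ι (ρ (r x) v) = x * ι v * x⁻¹`. `famOf X T r`: the images in `H` of the members of `𝒜(T)`.
-/

set_option autoImplicit false

namespace Cfsg.Agent.OddCyclic.RedRep

open Subgroup Cfsg Cfsg.Agent.ZN Cfsg.Agent.ZN.ChoiceBase Cfsg.Agent.MinSimple Cfsg.Agent.MinSimple.DBlkApi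
open Cfsg.Agent.OddCyclic.T1Module Cfsg.Agent.OddCyclic.FFBasic Cfsg.Agent.OddCyclic.FFRed
open Cfsg.Agent.OddCyclic.RedFam Cfsg.Agent.OddCyclic.RedTy

universe u

variable {G : Type u} [Group G] {H V : Type u} [Group H] [CommGroup V]

structure Rep (X Y : Subgroup G) (r : X →* H) (ρ : H →* MulAut V) (ι : V →* G) : Prop where
  surj : Function.Surjective r
  inj : Function.Injective ρ
  iinj : Function.Injective ι
  range : ι.range = Y
  act : ∀ (x : X) (v : V), ι (ρ (r x) v) = x * ι v * (x : G)⁻¹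

/-- the images of the members of `𝒜(T)` -/
def famOf (X T : Subgroup G) (r : X →* H) : Set (Subgroup H) := {B | ∃ A ∈ AA T, B = (A.subgroupOf X).map r}

/-- the image of `T` -/
def im (X T : Subgroup G) (r : X →* H) : Subgroup H := (T.subgroupOf X).map r

variable {X T Y : Subgroup G} {r : X →* H} {ρ : H →* MulAut V} {ι : V →* G}

theorem Rep.mem (h : Rep X Y r ρ ι) (v : V) : ι v ∈ Y := by rw [← h.range]; exact ⟨v, rfl⟩

theorem Rep.exists_v (h : Rep X Y r ρ ι) {y : G} (hy : y ∈ Y) : ∃ v, ι v = y := by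
  rw [← h.range] at hy; exact hy

theorem mem_im {t : G} (hT : T ≤ X) (ht : t ∈ T) : r ⟨t, hT ht⟩ ∈ im X T r := ⟨⟨t, hT ht⟩, mem_subgroupOf.2 ht, rfl⟩

theorem of_mem_im {b : H} (hb : b ∈ im X T r) : ∃ x : X, (x : G) ∈ T ∧ r x = b := by
  obtain ⟨x, hx, rfl⟩ := hb
  exact ⟨x, mem_subgroupOf.1 hx, rfl⟩

/-- `x` centralises `Y` iff `r x = 1` -/
theorem Rep.r_eq_one (h : Rep X Y r ρ ι) {x : X} : r x = 1 ↔ ∀ y ∈ Y, (x : G) * y = y * x := by
  constructor
  · intro hx y hy
    obtain ⟨v, rfl⟩ := h.exists_v hy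
    have h1 := h.act x v
    rw [hx, map_one] at h1
    change ι v = _ at h1
    rw [eq_mul_inv_iff_mul_eq] at h1
    exact h1.symm
  · intro hx
    apply h.inj
    rw [map_one]
    apply MulEquiv.ext
    intro v
    apply h.iinj
    rw [h.act, hx _ (h.mem v), mul_inv_cancel_right]
    rfl

/-- `x` fixes `v` iff it commutes with `ι v` -/
theorem Rep.fix (h : Rep X Y r ρ ι) {x : X} {v : V} : ρ (r x) v = v ↔ (x : G) * ι v = ι v * x := by
  rw [← h.iinj.eq_iff, h.act, mul_inv_eq_iff_eq_mul]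

end Cfsg.Agent.OddCyclic.RedRep
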