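import Cfsg.Agent.OddCyclic.EmpFFList
import Cfsg.Agent.OddCyclic.EmpNFF
import Cfsg.Agent.OddCyclic.FFSec
import Cfsg.Agent.OddCyclic.RedRep

/-!
# (Empty), section 6 of blueprints/S0342-Empty-NS-helper347.md: the FF list for `V = ⟨Z^{N_G(J)}⟩`

* `FFRep S r ρ ι`: `H = L/C_L(V)` acting on `V` (`RedRep.Rep` with `X = LL S`, `Y = vv S`), `Gen ρ T̄`, `OddCyc H`, `FFC H`;
* `exists_ffrep`; `FFRep.list`: if `V` is an FF-module (`¬ NFF V`) then `EmpFFList.FFList ρ T̄`.
-/

set_option autoImplicit false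
set_option linter.unusedSectionVars false

namespace Cfsg.Agent.OddCyclic.EmpFF

open Subgroup Cfsg Cfsg.Agent.ZN Cfsg.Agent.ZN.ChoiceBase Cfsg.Agent.ZN.ChoiceSit
open Cfsg.Agent.MinSimple Cfsg.Agent.MinSimple.EmptyTI Cfsg.Agent.MinSimple.EmptySix
open Cfsg.Agent.MinSimple.EmptyE.Closed (LL CC cl mem_cl cl_eq cl_le vv_comm vv_sq vv_mul_self vv_inv
  isPGroup_vv vv_le_jj vv_le jj_le_centralizer_vv conj_mem_vv cj_vv)
open Cfsg.Agent.OddCyclic.T1Defs Cfsg.Agent.OddCyclic.T1Module Cfsg.Agent.OddCyclic.FFBasic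
  Cfsg.Agent.OddCyclic.FFRed Cfsg.Agent.OddCyclic.RedFFDefs Cfsg.Agent.OddCyclic.EmpFFAbs
  Cfsg.Agent.OddCyclic.EmpFFList Cfsg.Agent.OddCyclic.RedRep Cfsg.Agent.OddCyclic.CompStart
open Cfsg.Agent.OddCyclic.EmpFrame

universe u

variable {G : Type u} [Group G]

/-- `X/C_X(Y)` acting on the abelian group `Y` -/
theorem exists_rep [Finite G] {X Y : Subgroup G} (hn : X ≤ normalizer (Y : Set G))
    (hc : ∀ a ∈ Y, ∀ b ∈ Y, a * b = b * a) :
    ∃ (H V : Type u) (_ : Group H) (_ : CommGroup V) (_ : Finite H) (_ : Finite V) (r : X →* H) (ρ : H →* MulAut V)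
      (ι : V →* G), Rep X Y r ρ ι := by
  let _ : CommGroup Y := { (inferInstance : Group Y) with mul_comm := fun a b => Subtype.ext (hc a a.2 b b.2) }
  let c := Cfsg.Agent.LieExceptional.CITFFLocal.conjHom X Y
    (fun m hm x hx => (mem_normalizer_iff.1 (hn hm) x).1 hx)
  have hfin : Finite (MulAut Y) := inferInstance
  refine ⟨c.range, Y, inferInstance, inferInstance, inferInstance, inferInstance, c.rangeRestrict, c.range.subtype,
    Y.subtype, ?_⟩
  exact
  { surj := c.rangeRestrict_surjective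
    inj := c.range.subtype_injective
    iinj := Y.subtype_injective
    range := Y.range_subtype
    act := fun x v => rfl }

/-- `L/C_L(V)` acting on `V` -/
structure FFRep [Finite G] (S : Sylow 2 G) {H V : Type u} [Group H] [CommGroup V] (r : LL (S : Subgroup G) →* H)
    (ρ : H →* MulAut V) (ι : V →* G) : Prop where
  rep : Rep (LL (S : Subgroup G)) (vv (S : Subgroup G)) r ρ ι
  gen : Gen ρ (im (LL (S : Subgroup G)) (S : Subgroup G) r)
  cyc : OddCyc H
  kz : ∀ J : Subgroup H, IsSimpleGroup J → (∃ x y : J, x * y ≠ y * x) → PumpMain.KZero J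
  ffc : FFC H

variable [Finite G] {S : Sylow 2 G}

theorem LL_ne_top (h : ENS S) : LL (S : Subgroup G) ≠ ⊤ := by
  intro h1
  obtain ⟨X, -, -, hX⟩ := h.nu _ h.isTwoLocal_LL h.le_LL
  apply hX
  rw [h1]
  exact le_top

theorem gen_of (h : ENS S) {H V : Type u} [Group H] [CommGroup V] {r : LL (S : Subgroup G) →* H}
    {ρ : H →* MulAut V} {ι : V →* G} (hr : Rep (LL (S : Subgroup G)) (vv (S : Subgroup G)) r ρ ι) :
    Gen ρ (im (LL (S : Subgroup G)) (S : Subgroup G) r) := by
  have hf : Fact (Nat.Prime 2) := ⟨Nat.prime_two⟩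
  have hSL := h.le_LL
  -- `C_V(T̄) = Z`
  have hZ : ∀ v : V, v ∈ CS ρ (im (LL (S : Subgroup G)) (S : Subgroup G) r) ↔ ι v ∈ zc (S : Subgroup G) := by
    intro v
    constructor
    · intro hv
      refine h.mem_zc_of_comm (hr.mem v) fun s hs => ?_
      have h1 := hv _ (mem_im hSL hs)
      exact (hr.fix (x := ⟨s, hSL hs⟩)).1 h1
    · rintro hv _ ⟨x, hx, rfl⟩
      rw [hr.fix]
      exact (ChoiceBase.mem_zc.1 hv).2.2 x (mem_subgroupOf.1 hx)
  -- invariant subgroups of `V` are normal in `L`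
  have hinv : ∀ W : Subgroup V, (∀ g, ∀ w ∈ W, ρ g w ∈ W) →
      LL (S : Subgroup G) ≤ normalizer ((W.map ι : Subgroup G) : Set G) := by
    intro W hW
    refine Block.le_normalizer_of_forall fun x hx m hm => ?_
    obtain ⟨w, hw, rfl⟩ := hm
    refine ⟨ρ (r ⟨x, hx⟩) w, hW _ w hw, hr.act ⟨x, hx⟩ w⟩
  refine ⟨?_, hr.inj, ?_, ?_, ?_, ?_⟩
  · intro v
    apply hr.iinj
    rw [map_mul, map_one]
    exact vv_mul_self (hr.mem v)
  · rw [im]
    exact (S.isPGroup'.comap_of_injective _ (LL (S : Subgroup G)).subtype_injective).map r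
  · intro hdvd
    have h1 : ((S : Subgroup G).subgroupOf (LL (S : Subgroup G))).index ∣ (S : Subgroup G).index := by
      change (S : Subgroup G).relIndex _ ∣ _
      exact Subgroup.relIndex_dvd_index_of_le hSL
    have h2 := Subgroup.index_map_dvd ((S : Subgroup G).subgroupOf (LL (S : Subgroup G))) hr.surj
    exact S.not_dvd_index (hdvd.trans (h2.trans h1))
  · intro W hZW hW
    have h1 : vv (S : Subgroup G) ≤ W.map ι := by
      refine h.vv_le_of_forall fun g hg => ?_
      rintro _ ⟨z, hz, rfl⟩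
      obtain ⟨v, rfl⟩ := hr.exists_v (zc_le_vv _ hz)
      exact ⟨ρ (r ⟨g, hg⟩) v, hW _ v (hZW ((hZ v).2 hz)), hr.act ⟨g, hg⟩ v⟩
    rw [eq_top_iff]
    intro v _
    obtain ⟨w, hw, hwv⟩ := h1 (hr.mem v)
    rwa [← hr.iinj hwv]
  · intro z hz hz1
    have hzZ := (hZ z).1 hz
    have hz1' : ι z ≠ 1 := fun h1 => hz1 (hr.iinj (by rw [h1, map_one]))
    have hzV := zc_le_vv _ hzZ
    have hle : zpowers (ι z) ≤ vv (S : Subgroup G) := by rw [zpowers_le]; exact hzV
    have hlez : zpowers (ι z) ≤ zc (S : Subgroup G) := by rw [zpowers_le]; exact hzZ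
    have hne : zpowers (ι z) ≠ ⊥ := by rw [Ne, zpowers_eq_bot]; exact hz1'
    refine ⟨(cld (S : Subgroup G) (zpowers (ι z))).comap ι, ?_, ?_, ?_⟩
    · intro v hv
      have h1 : Syl (S : Subgroup G) (LL (S : Subgroup G) ⊓ centralizer ((zpowers (ι z) : Subgroup G) : Set G)) := by
        refine syl_of_le (le_inf hSL ?_)
        intro s hs
        rw [mem_centralizer_iff]
        intro y hy
        exact ((ChoiceBase.mem_zc.1 (hlez hy)).2.2 s hs).symm
      have h2 := h.inf_centralizer_le_cld hle hne h1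
      refine h2 (Subgroup.mem_inf.2 ⟨hr.mem v, ?_⟩)
      rw [mem_centralizer_iff]
      intro s hs
      exact (ChoiceBase.mem_zc.1 ((hZ v).1 hv)).2.2 s hs
    · intro g hg v hv
      obtain ⟨x, rfl⟩ := hr.surj g
      have h1 : (x : G) ∈ normalizer ((zpowers (ι z) : Subgroup G) : Set G) := by
        have h2 := hr.fix.1 hg
        refine centralizer_le_normalizer _ ?_
        rw [mem_centralizer_iff]
        rintro _ ⟨n, rfl⟩
        exact (show Commute (x : G) (ι z) from h2).symm.zpow_left n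
      have h2 := normalizer_le_cld (hle.trans (vv_le_zj _)) h1
      rw [mem_comap, hr.act]
      exact (mem_normalizer_iff.1 h2 _).1 hv
    · intro W hWC hW
      by_contra hne1
      have h1 : W.map ι ≤ cld (S : Subgroup G) (zpowers (ι z)) := by
        rintro _ ⟨w, hw, rfl⟩
        exact hWC hw
      have h2 : W.map ι ≠ ⊥ := by
        intro h3
        exact hne1 ((Subgroup.map_eq_bot_iff_of_injective _ hr.iinj).1 h3)
      have h3 : Good (S : Subgroup G) (W.map ι) := h.good_of_normal (h1.trans (cld_le _ _)) h2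
        (h.normalizer_le_LL.trans (hinv W hW))
      have h4 := h3.mono h1
      have h5 : Good (S : Subgroup G) (zpowers (ι z)) := by
        have h6 := h4
        unfold Good at h6 ⊢
        rwa [cld_cld hle] at h6
      exact h.not_good_of_le_zc hlez h5

theorem exists_ffrep (h : ENS S) (hz : SecZero G) :
    ∃ (H V : Type u) (_ : Group H) (_ : CommGroup V) (_ : Finite H) (_ : Finite V) (r : LL (S : Subgroup G) →* H)
      (ρ : H →* MulAut V) (ι : V →* G), FFRep S r ρ ι := by
  obtain ⟨H, V, i1, i2, i3, i4, r, ρ, ι, hr⟩ := exists_rep (X := LL (S : Subgroup G)) (Y := vv (S : Subgroup G)) le_rfl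
    (fun a ha b hb => vv_comm ha hb)
  refine ⟨H, V, i1, i2, i3, i4, r, ρ, ι, hr, gen_of h hr, ?_, FFSec.kzero_of_image hz (LL_ne_top h) r hr.surj,
    FFSec.ffc h.hyp.cyc hz (LL_ne_top h) r hr.surj⟩
  exact T1Structure.oddCyc_of_surjective
    (T1Structure.oddCyc_of_injective h.hyp.cyc (LL (S : Subgroup G)).subtype (LL (S : Subgroup G)).subtype_injective)
    r hr.surj

/-- an offender on `V` -/
theorem exists_offender {H V : Type u} [Group H] [CommGroup V] [Finite V] {r : LL (S : Subgroup G) →* H}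
    {ρ : H →* MulAut V} {ι : V →* G} (hr : Rep (LL (S : Subgroup G)) (vv (S : Subgroup G)) r ρ ι)
    (hN : ¬ NFF (vv (S : Subgroup G))) : ∃ A : Subgroup H, A ≠ ⊥ ∧ (∀ a ∈ A, a * a = 1) ∧
      Nat.card V ≤ Nat.card A * Nat.card (CS ρ A) := by
  unfold NFF at hN
  push Not at hN
  obtain ⟨A, hA, hsq, hcm, hnc, hle⟩ := hN
  have hAL : A ≤ LL (S : Subgroup G) := hA
  have hr1 : ∀ x : LL (S : Subgroup G), (x : G) ∈ centralizer (vv (S : Subgroup G) : Set G) → r x = 1 := by
    intro x hx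
    rw [hr.r_eq_one]
    intro y hy
    exact ((mem_centralizer_iff.1 hx) y hy).symm
  have hr2 : ∀ x : LL (S : Subgroup G), r x = 1 → (x : G) ∈ centralizer (vv (S : Subgroup G) : Set G) := by
    intro x hx
    rw [hr.r_eq_one] at hx
    rw [mem_centralizer_iff]
    intro y hy
    exact (hx y hy).symm
  refine ⟨(A.subgroupOf (LL (S : Subgroup G))).map r, ?_, ?_, ?_⟩
  · intro h1
    apply hnc
    intro a ha
    apply hr2 ⟨a, hAL ha⟩
    have h2 : r ⟨a, hAL ha⟩ ∈ (A.subgroupOf (LL (S : Subgroup G))).map r := ⟨_, mem_subgroupOf.2 ha, rfl⟩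
    rw [h1, Subgroup.mem_bot] at h2
    exact h2
  · rintro _ ⟨x, hx, rfl⟩
    rw [← map_mul]
    exact hr1 _ (hsq x (mem_subgroupOf.1 hx))
  · -- orders
    have e1 : Nat.card V = Nat.card (vv (S : Subgroup G)) := by
      rw [← hr.range]
      exact (Nat.card_congr (MonoidHom.ofInjective hr.iinj).toEquiv)
    have e2 : Nat.card (CS ρ ((A.subgroupOf (LL (S : Subgroup G))).map r)) =
        Nat.card (vv (S : Subgroup G) ⊓ centralizer (A : Set G) : Subgroup G) := by
      have h1 : (CS ρ ((A.subgroupOf (LL (S : Subgroup G))).map r)).map ι =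
          vv (S : Subgroup G) ⊓ centralizer (A : Set G) := by
        ext y
        constructor
        · rintro ⟨v, hv, rfl⟩
          refine Subgroup.mem_inf.2 ⟨hr.mem v, ?_⟩
          rw [mem_centralizer_iff]
          intro a ha
          exact hr.fix.1 (hv (r ⟨a, hAL ha⟩) ⟨_, mem_subgroupOf.2 ha, rfl⟩)
        · rintro ⟨hy, hyc⟩
          obtain ⟨v, rfl⟩ := hr.exists_v hy
          refine ⟨v, ?_, rfl⟩
          rintro _ ⟨x, hx, rfl⟩
          rw [hr.fix]
          exact (mem_centralizer_iff.1 hyc) x (mem_subgroupOf.1 hx)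
      rw [← h1, Subgroup.card_map_of_injective hr.iinj]
    have e3 : Nat.card A = Nat.card ((A.subgroupOf (LL (S : Subgroup G))).map r) *
        Nat.card (A ⊓ centralizer (vv (S : Subgroup G) : Set G) : Subgroup G) := by
      let f : A →* H := r.comp (inclusion hAL)
      have h1 : f.range = (A.subgroupOf (LL (S : Subgroup G))).map r := by
        ext y
        constructor
        · rintro ⟨a, rfl⟩
          exact ⟨inclusion hAL a, mem_subgroupOf.2 a.2, rfl⟩
        · rintro ⟨x, hx, rfl⟩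
          exact ⟨⟨x, mem_subgroupOf.1 hx⟩, rfl⟩
      have h2 : f.ker.map A.subtype = A ⊓ centralizer (vv (S : Subgroup G) : Set G) := by
        ext y
        constructor
        · rintro ⟨a, ha, rfl⟩
          exact ⟨a.2, hr2 (inclusion hAL a) ha⟩
        · rintro ⟨hy, hyc⟩
          exact ⟨⟨y, hy⟩, hr1 (inclusion hAL ⟨y, hy⟩) hyc, rfl⟩
      have h3 := f.ker.card_eq_card_quotient_mul_card_subgroup
      have h4 : Nat.card (A ⧸ f.ker) = Nat.card f.range :=
        Nat.card_congr (QuotientGroup.quotientKerEquivRange f).toEquiv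
      have h5 : Nat.card f.ker = Nat.card (f.ker.map A.subtype) :=
        (Subgroup.card_map_of_injective A.subtype_injective).symm
      rw [h3, h4, h5, h1, h2]
    rw [e1, e2]
    have h6 : 0 < Nat.card (A ⊓ centralizer (vv (S : Subgroup G) : Set G) : Subgroup G) := Nat.card_pos
    rw [e3] at hle
    apply Nat.le_of_mul_le_mul_right _ h6
    calc _ ≤ _ := hle
      _ = _ := by ring

/-- **the FF list for `V`** -/
theorem FFRep.list {H V : Type u} [Group H] [CommGroup V] [Finite H] [Finite V] {r : LL (S : Subgroup G) →* H}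
    {ρ : H →* MulAut V} {ι : V →* G} (h : FFRep S r ρ ι) (hN : ¬ NFF (vv (S : Subgroup G))) :
    FFList ρ (im (LL (S : Subgroup G)) (S : Subgroup G) r) := by
  obtain ⟨A, hA, hA1⟩ := exists_bo (exists_offender h.rep hN)
  exact EmpFFList.main h.gen h.cyc hA hA1
    (h.ffc V h.gen.sq ρ h.gen.inj (fun D hD hD2 => h.gen.o2 (hD := hD) hD2) A hA hA1)

end Cfsg.Agent.OddCyclic.EmpFF
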