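import Cfsg.Agent.OddCyclic.RedTy
import Cfsg.Agent.OddCyclic.RedSame
import Cfsg.Agent.OddCyclic.CompBasic
import Cfsg.Agent.MinSimple.CaseDivRl
import Cfsg.Agent.MinSimple.EmptyTI

/-!
# S0342, (C2), (E): exactly one plane over `B = bau S`

`V = vl B L` the only plane over `B`, `z` its point, `Ty X S` for every 2-local `X ≥ S`, no `SL₂(q)`-block over `B`.
* `Base.nb_V`, `nb_R`, `nb_z` : `N_G(B)` normalises `V`, `R = rl B L`, and centralises `z`;
* `Base.ty_cases` : a 2-local over `S` is of type `zero`, `tri V`, `sev N V z` or `bc`;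
* `Base.cz_cases` : `C_G(z)` is of type `zero` or `bc`; `Base.cz_le` : `C_G(z) ≤ ⟨C_G(Ω₁Z(S)), N_G(B)⟩`;
* `Base.nonloc_of` : (C2) implies that `⟨N_G(V), C_G(z)⟩` is nonlocal.
-/

set_option autoImplicit false
set_option linter.unusedSectionVars false

namespace Cfsg.Agent.OddCyclic.RedE

open Subgroup Cfsg Cfsg.Agent.ZN Cfsg.Agent.MinSimple Cfsg.Agent.MinSimple.DBlkApi
open Cfsg.Agent.MinSimple.LemX (nc le_nc nc_le le_normalizer_nc)
open Cfsg.Agent.OddCyclic.T1Defs (OddCyc)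
open Cfsg.Agent.OddCyclic.COneDefs (LBlk)
open Cfsg.Agent.OddCyclic.RedX (mod Loc)
open Cfsg.Agent.OddCyclic.RedTy

universe u

variable {G : Type u} [Group G] [Finite G]

/-- a 2-local subgroup containing the Sylow 2-subgroup `S` of `G` -/
theorem loc_of (hc : IsCharacteristicTwoType G) {S : Sylow 2 G} {X : Subgroup G} (hX : IsTwoLocal X)
    (hS : (S : Subgroup G) ≤ X) : Loc X (S : Subgroup G) where
  char2 := by
    obtain ⟨T, hT, hT1, rfl⟩ := hX
    exact Basic.char2_normalizer hc hT hT1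
  two := S.isPGroup'
  TX := hS
  syl := ChoiceSit.syl_not_dvd (EmptyTI.syl_of_le hS)

/-- `N_G(J) ≤ ⟨C_G(Z_J), N_G(B)⟩` -/
theorem nJ_le (S : Sylow 2 G) : normalizer (jj (S : Subgroup G) : Set G) ≤
    centralizer (zj (S : Subgroup G) : Set G) ⊔ normalizer (bau (S : Subgroup G) : Set G) := by
  intro x hx
  obtain ⟨c, hc, n, hn, rfl⟩ := LemXPerm.exists_mul_of_mem_normalizer_jj (X := ⊤) (T := (S : Subgroup G)) le_top
    S.isPGroup' (ChoiceSit.syl_not_dvd (EmptyTI.syl_of_le le_top)) (mem_top x) hx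
  exact mul_mem (mem_sup_left hc.2) (mem_sup_right hn.2)

/-- type `zero`: `X = C_X(Y) N_X(J)` -/
theorem zero_gen {S : Sylow 2 G} {X : Subgroup G} (hL : Loc X (S : Subgroup G))
    (h0 : jj (S : Subgroup G) ≤ centralizer (mod X (S : Subgroup G) : Set G)) :
    X ≤ centralizer (zc (S : Subgroup G) : Set G) ⊔ normalizer (jj (S : Subgroup G) : Set G) := by
  have h1 : X ≤ normalizer (centralizer (mod X (S : Subgroup G) : Set G) : Set G) :=
    (le_normalizer_nc X _).trans (DBlkReduce.nc _)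
  refine (Basic.frattini_jj hL.TX hL.two hL.syl h1 h0).trans (sup_le_sup ?_ inf_le_right)
  exact centralizer_le RedX.zc_le_mod

/-- exactly one plane over `B = bau S`, `V = vl B L`, of point `z` -/
structure Base (S : Sylow 2 G) (L : Subgroup G) (k : ℕ) (z : G) : Prop where
  char2 : IsCharacteristicTwoType G
  cyc : OddCyc G
  ty : ∀ X : Subgroup G, IsTwoLocal X → (S : Subgroup G) ≤ X → Ty X (S : Subgroup G)
  blk : IsDBlk (bau (S : Subgroup G)) L k
  pt : IsPt (bau (S : Subgroup G)) L z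
  uniq : ∀ (L' : Subgroup G) (k' : ℕ), IsDBlk (bau (S : Subgroup G)) L' k' →
    vl (bau (S : Subgroup G)) L' = vl (bau (S : Subgroup G)) L
  nolin : ∀ (L' : Subgroup G) (q : ℕ), ¬ LBlk (bau (S : Subgroup G)) L' q

variable {S : Sylow 2 G} {L : Subgroup G} {k : ℕ} {z : G}

theorem S_nb (S : Sylow 2 G) : (S : Subgroup G) ≤ normalizer (bau (S : Subgroup G) : Set G) :=
  SamePt.le_normalizer S S.isPGroup' (ChoiceBase.bau_le _)

namespace Base

/-- `N_G(B)` normalises the plane. -/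
theorem nb_V (h : Base S L k z) :
    normalizer (bau (S : Subgroup G) : Set G) ≤ normalizer (vl (bau (S : Subgroup G)) L : Set G) := by
  intro g hg
  have hBg := ChoiceBase.mem_normalizer_iff_cj.mp hg
  have hBg' : (bau (S : Subgroup G)).map (MulAut.conj g).toMonoidHom = bau (S : Subgroup G) := hBg
  have h' := h.blk.conj g
  rw [hBg'] at h'
  have h2 := h.uniq _ _ h'
  rw [ChoiceBase.mem_normalizer_iff_cj]
  have h3 : vl (bau (S : Subgroup G)) (L.map (MulAut.conj g).toMonoidHom) =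
      (vl (bau (S : Subgroup G)) L).map (MulAut.conj g).toMonoidHom := by
    rw [← vl_map _ (MulAut.conj g).injective, hBg']
  exact (h3.symm.trans h2)

/-- `N_G(B)` normalises `R = C_{Z_J}(L)`. -/
theorem nb_R (h : Base S L k z) :
    normalizer (bau (S : Subgroup G) : Set G) ≤ normalizer (rl (bau (S : Subgroup G)) L : Set G) := by
  intro g hg
  have hBg' : (bau (S : Subgroup G)).map (MulAut.conj g).toMonoidHom = bau (S : Subgroup G) :=
    ChoiceBase.mem_normalizer_iff_cj.mp hg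
  have h' := h.blk.conj g
  rw [hBg'] at h'
  have h2 := CaseDiv.rl_eq_rl S h' h.blk (h.uniq _ _ h')
  rw [ChoiceBase.mem_normalizer_iff_cj]
  have h3 : rl (bau (S : Subgroup G)) (L.map (MulAut.conj g).toMonoidHom) =
      (rl (bau (S : Subgroup G)) L).map (MulAut.conj g).toMonoidHom := by
    rw [← rl_map _ (MulAut.conj g).injective, hBg']
  exact (h3.symm.trans h2)

/-- `N_G(B)` centralises the point. -/
theorem nb_z (h : Base S L k z) {g : G} (hg : g ∈ normalizer (bau (S : Subgroup G) : Set G)) :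
    g * z = z * g := by
  have h1 : g * z * g⁻¹ ∈ vl (bau (S : Subgroup G)) L := Four.conj_mem (h.nb_V hg) h.pt.1
  have h2 : g * z * g⁻¹ ∈ zc (bau (S : Subgroup G)) :=
    Four.conj_mem (normalizer_le_normalizer_zc _ hg) h.pt.2.1
  rcases eq_of_mem h.blk h.pt h1 h2 with h3 | h3
  · exact absurd (conj_eq_one_iff.1 h3) h.pt.2.2
  · exact Four.conj_eq_iff_comm.1 h3

theorem nb_cz (h : Base S L k z) :
    normalizer (bau (S : Subgroup G) : Set G) ≤ centralizer ({z} : Set G) := fun g hg => by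
  rw [mem_centralizer_singleton_iff]
  exact h.nb_z hg

theorem S_cz (h : Base S L k z) : (S : Subgroup G) ≤ centralizer ({z} : Set G) := (S_nb S).trans h.nb_cz

theorem z_mem (h : Base S L k z) : z ∈ zc (S : Subgroup G) :=
  ChoiceBase.mem_zc.2 ⟨ChoiceBase.bau_le _ (vl_le_B h.blk h.pt.1), h.pt.sq,
    fun _ hy => h.nb_z (S_nb S hy)⟩

theorem cZ_cz (h : Base S L k z) : centralizer (zc (S : Subgroup G) : Set G) ≤ centralizer ({z} : Set G) :=
  centralizer_le (Set.singleton_subset_iff.2 h.z_mem)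

theorem zj_le_cZ (_h : Base S L k z) :
    centralizer (zj (S : Subgroup G) : Set G) ≤ centralizer (zc (S : Subgroup G) : Set G) :=
  centralizer_le (ChoiceBase.zc_le_zj _)

/-- `z` is an involution -/
theorem cz_local (h : Base S L k z) : IsTwoLocal (centralizer ({z} : Set G)) :=
  Geo.isTwoLocal_centralizer h.pt.mul_self h.pt.2.2

/-- the types of the 2-locals over `S` -/
theorem ty_cases (h : Base S L k z) {X : Subgroup G} (hX : IsTwoLocal X) (hS : (S : Subgroup G) ≤ X) :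
    (jj (S : Subgroup G) ≤ centralizer (mod X (S : Subgroup G) : Set G)) ∨
    Tri X (S : Subgroup G) (vl (bau (S : Subgroup G)) L) ∨
    (∃ N, Sev X (S : Subgroup G) N (vl (bau (S : Subgroup G)) L) z) ∨
    ∃ K, Bc X (S : Subgroup G) K := by
  cases h.ty X hX hS with
  | zero h0 => exact Or.inl h0
  | tri V h1 =>
    obtain ⟨L', k', -, h2, h3⟩ := h1.blk
    rw [h.uniq _ _ h2] at h3
    subst h3
    exact Or.inr (Or.inl h1)
  | sev N V z' h1 =>
    obtain ⟨L', k', -, h2, h3⟩ := h1.blk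
    rw [h.uniq _ _ h2] at h3
    subst h3
    have hz' : z' ∈ zc (bau (S : Subgroup G)) :=
      ChoiceBase.mem_zc.2 ⟨vl_le_B h.blk h1.zV, vl_sq h.blk _ h1.zV,
        fun y hy => h1.T_cent y (ChoiceBase.bau_le _ hy)⟩
    have h4 := (eq_of_mem h.blk h.pt h1.zV hz').resolve_left h1.z_ne
    subst h4
    exact Or.inr (Or.inr (Or.inl ⟨N, h1⟩))
  | fiv U φ e h1 =>
    exfalso
    obtain ⟨L₁, k₁, hL₁, hb₁, hv₁⟩ := h1.blk₁
    obtain ⟨L₂, k₂, hL₂, hb₂, hv₂⟩ := h1.blk₂
    have h12 : vl (bau (S : Subgroup G)) L₁ = vl (bau (S : Subgroup G)) L₂ :=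
      (h.uniq _ _ hb₁).trans (h.uniq _ _ hb₂).symm
    have hm1 : e 0 1 ∈ vl (bau (S : Subgroup G)) L₁ := by
      rw [hv₁]; exact subset_closure (by simp)
    have hm2 : e 2 3 ∈ vl (bau (S : Subgroup G)) L₁ := by
      rw [h12, hv₂]; exact subset_closure (by simp)
    have hd : ∀ x : G, x ∈ vl (bau (S : Subgroup G)) L₁ → x ∈ rl (bau (S : Subgroup G)) L₁ → x = 1 := by
      intro x hx hx'
      have : x ∈ rl (bau (S : Subgroup G)) L₁ ⊓ vl (bau (S : Subgroup G)) L₁ := ⟨hx', hx⟩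
      rw [hb₁.disj] at this
      exact mem_bot.1 this
    rcases h1.only L₁ k₁ hL₁ hb₁ with ⟨-, -, h5⟩ | ⟨-, -, h5⟩
    · exact h1.ne 2 3 (by decide) (hd _ hm2 h5)
    · exact h1.ne 0 1 (by decide) (hd _ hm1 h5)
  | lin L' q h1 => exact absurd h1.blk (h.nolin L' q)
  | bc K h1 => exact Or.inr (Or.inr (Or.inr ⟨K, h1⟩))

/-- a block with the plane `V` moves `z` -/
theorem not_cz (h : Base S L k z) {L' : Subgroup G} {k' : ℕ} (h' : IsDBlk (bau (S : Subgroup G)) L' k')
    (hL' : L' ≤ centralizer ({z} : Set G)) : False := by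
  have h1 : IsPt (bau (S : Subgroup G)) L' z := ⟨by rw [h.uniq _ _ h']; exact h.pt.1, h.pt.2⟩
  obtain ⟨l, hl, hlz⟩ := moves h' h1
  exact hlz (Four.conj_eq_iff_comm.2 (mem_centralizer_singleton_iff.1 (hL' hl)))

/-- `C_G(z)` has no plane -/
theorem cz_cases (h : Base S L k z) :
    (jj (S : Subgroup G) ≤ centralizer (mod (centralizer ({z} : Set G)) (S : Subgroup G) : Set G)) ∨
    ∃ K, Bc (centralizer ({z} : Set G)) (S : Subgroup G) K := by
  rcases h.ty_cases h.cz_local h.S_cz with h1 | h1 | ⟨N, h1⟩ | h1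
  · exact Or.inl h1
  · obtain ⟨L', k', h2, h3, -⟩ := h1.blk
    exact (h.not_cz h3 h2).elim
  · obtain ⟨L', k', h2, h3, -⟩ := h1.blk
    exact (h.not_cz h3 h2).elim
  · exact Or.inr h1

theorem nJ_le' (h : Base S L k z) : normalizer (jj (S : Subgroup G) : Set G) ≤
    centralizer (zc (S : Subgroup G) : Set G) ⊔ normalizer (bau (S : Subgroup G) : Set G) :=
  (nJ_le S).trans (sup_le_sup_right h.zj_le_cZ _)

/-- `X = ⟨C_X(Ω₁Z(S)), N_X(J)⟩` for `X` of type `zero` -/
theorem zero_le (h : Base S L k z) {X : Subgroup G} (hX : IsTwoLocal X) (hS : (S : Subgroup G) ≤ X)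
    (h0 : jj (S : Subgroup G) ≤ centralizer (mod X (S : Subgroup G) : Set G)) :
    X ≤ centralizer (zc (S : Subgroup G) : Set G) ⊔ normalizer (bau (S : Subgroup G) : Set G) :=
  (zero_gen (loc_of h.char2 hX hS) h0).trans (sup_le le_sup_left h.nJ_le')

theorem bc_le (h : Base S L k z) {X K : Subgroup G} (h0 : Bc X (S : Subgroup G) K) :
    X ≤ centralizer (zc (S : Subgroup G) : Set G) ⊔ normalizer (bau (S : Subgroup G) : Set G) :=
  h0.gen.trans (sup_le (inf_le_right.trans le_sup_left) (inf_le_right.trans h.nJ_le'))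

/-- `C_G(z) ≤ ⟨C_G(Ω₁Z(S)), N_G(B)⟩` -/
theorem cz_le (h : Base S L k z) : centralizer ({z} : Set G) ≤
    centralizer (zc (S : Subgroup G) : Set G) ⊔ normalizer (bau (S : Subgroup G) : Set G) := by
  rcases h.cz_cases with h1 | ⟨K, h1⟩
  · exact h.zero_le h.cz_local h.S_cz h1
  · exact h.bc_le h1

/-- (C2) implies that `⟨N_G(V), C_G(z)⟩` is nonlocal. -/
theorem nonloc_of (h : Base S L k z) (hnu : ∀ M : Subgroup G, IsTwoLocal M → (S : Subgroup G) ≤ M →
    ∃ X : Subgroup G, IsTwoLocal X ∧ (S : Subgroup G) ≤ X ∧ ¬ X ≤ M) {M : Subgroup G} (hM : IsTwoLocal M)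
    (h1 : normalizer (vl (bau (S : Subgroup G)) L : Set G) ≤ M) (h2 : centralizer ({z} : Set G) ≤ M) : False := by
  have hSM : (S : Subgroup G) ≤ M := h.S_cz.trans h2
  have hcZ : centralizer (zc (S : Subgroup G) : Set G) ≤ M := h.cZ_cz.trans h2
  have hnB : normalizer (bau (S : Subgroup G) : Set G) ≤ M := h.nb_V.trans h1
  obtain ⟨X, hX, hSX, hXM⟩ := hnu M hM hSM
  apply hXM
  rcases h.ty_cases hX hSX with h3 | h3 | ⟨N, h3⟩ | ⟨K, h3⟩
  · exact (h.zero_le hX hSX h3).trans (sup_le hcZ hnB)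
  · exact h3.norm.trans h1
  · refine h3.gen.trans (sup_le (sup_le (inf_le_right.trans h1) (inf_le_right.trans h2)) (inf_le_right.trans ?_))
    exact h.nJ_le'.trans (sup_le hcZ hnB)
  · exact (h.bc_le h3).trans (sup_le hcZ hnB)

end Base

end Cfsg.Agent.OddCyclic.RedE
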