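import Cfsg.Agent.OddCyclic.RedLinEnd
import Cfsg.Agent.OddCyclic.APQMix

/-!
# S0342, (C2), 2.4: `[V_L, L]` and `C_{Z_J}(L)` depend only on `V_L`, for `SL₂(q)`-blocks

* `vl_le`: an `L`-invariant subgroup `P ≤ zl B L`, `P ≰ rl B L`, contains `vl B L`;
* `rl_le_rl`: `zl B L = zl B L'`, `vl B L = vl B L'`, `L' ≤ L C(vl B L)` imply `rl B L ≤ rl B L'`;
* `Dat.unique`: for the `SL₂(q)`-blocks of `X` of type (Lin q).
-/

set_option autoImplicit false
set_option linter.unusedSectionVars false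

namespace Cfsg.Agent.OddCyclic.RedLinX

open Subgroup Cfsg Cfsg.Agent.ZN
open Cfsg.Agent.ZN.ChoiceBase (AA)
open Cfsg.Agent.MinSimple
open Cfsg.Agent.OddCyclic.T1Defs Cfsg.Agent.OddCyclic.COneDefs
open Cfsg.Agent.OddCyclic.RedTy Cfsg.Agent.OddCyclic.RedRep
open Cfsg.Agent.OddCyclic.APQ (St)
open Matrix (SpecialLinearGroup)
open scoped commutatorElement

universe u

variable {G : Type u} [Group G] [Finite G]

section blk

variable {B L L' : Subgroup G} {q q' : ℕ}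

theorem vl_le (h : LBlk B L q) {P : Subgroup G} (hP : P ≤ zl B L) (hn : ∀ l ∈ L, ∀ p ∈ P, l * p * l⁻¹ ∈ P)
    (hr : ¬ P ≤ rl B L) : vl B L ≤ P := by
  have h1 := RedLBlk.irr h hP hn hr
  rw [vl, Subgroup.commutator_le]
  intro z hz l hl
  have hPr : P ≤ normalizer (rl B L : Set G) := COneLinB.le_normalizer_of_comm fun y hy x hx =>
    h.zl_comm y (hP hy) x (COneBlk.rl_le_zl _ _ hx)
  obtain ⟨p, hp, r, hr', rfl⟩ := COneLinB.exists_mul_of_mem_sup hPr (h1 hz)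
  have h2 := RedLBlk.rl_conj_eq hr' hl
  have e : ⁅p * r, l⁆ = p * (l * p * l⁻¹)⁻¹ := by
    rw [commutatorElement_def]
    calc p * r * l * (p * r)⁻¹ * l⁻¹ = p * r * (l * r * l⁻¹)⁻¹ * (l * p * l⁻¹)⁻¹ := by group
      _ = p * (l * p * l⁻¹)⁻¹ := by rw [h2]; group
  rw [e]
  exact mul_mem hp (inv_mem (hn l hl p hp))

theorem vl_not_le_rl (h : LBlk B L q) : ¬ vl B L ≤ rl B L := by
  intro h1
  refine not_le_cent_vl h fun l hl => mem_centralizer_iff.2 fun v hv => ?_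
  exact (COneBlk.rl_comm (h1 hv) hl).symm

theorem mem_o2_of_cent (h : LBlk B L q) {b : G} (hb : b ∈ B) (hc : ∀ v ∈ vl B L, b * v = v * b) : b ∈ o2 L := by
  by_contra hbQ
  obtain ⟨l, hl, hgen⟩ := RedLBlk.gen h
  have h1 : vl B L ≤ zc B := fun v hv => h.cent b hb hbQ v (Block.vl_le_zl B L hv) (hc v hv)
  refine vl_not_le_rl h fun v hv => ⟨h1 hv, mem_centralizer_iff.2 fun g hg => ?_⟩
  have hv' : ∀ g ∈ L, g * v * g⁻¹ ∈ vl B L := fun g hg =>
    Block.conj_mem_of_normalizer (ZN.le_normalizer_vl B L) hg hv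
  have h2 : L ≤ centralizer ({v} : Set G) := by
    refine hgen _ (fun x hx => ?_) fun x hx => ?_
    · rw [mem_centralizer_singleton_iff]
      exact COneBlk.zc_comm hx (h1 hv)
    · rw [mem_centralizer_singleton_iff]
      have h3 := COneBlk.zc_comm hx (h1 (hv' l⁻¹ (inv_mem hl)))
      rw [inv_inv] at h3
      calc l * x * l⁻¹ * v = l * (x * (l⁻¹ * v * l)) * l⁻¹ := by group
        _ = l * (l⁻¹ * v * l * x) * l⁻¹ := by rw [h3]
        _ = v * (l * x * l⁻¹) := by group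
  exact mem_centralizer_singleton_iff.1 (h2 hg)

theorem le_St : L ≤ St (zl B L) (vl B L) := by
  intro l hl
  refine ⟨Block.le_normalizer_zl B L hl, ZN.le_normalizer_vl B L hl, fun x hx => ?_⟩
  have h1 : ⁅x, l⁆ ∈ vl B L := commutator_mem_commutator hx hl
  have e : l * x * l⁻¹ * x⁻¹ = ⁅x, l⁆⁻¹ := by rw [commutatorElement_def]; group
  rw [e]
  exact inv_mem h1

/-- the elements normalising `W` and commuting with `d` modulo `C(W)` -/
def cm (W : Subgroup G) (d : G) : Subgroup G where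
  carrier := {g | g ∈ normalizer (W : Set G) ∧ ∀ w ∈ W, d * g * d⁻¹ * g⁻¹ * w = w * (d * g * d⁻¹ * g⁻¹)}
  one_mem' := ⟨one_mem _, fun w _ => by simp⟩
  mul_mem' := by
    rintro g g' ⟨h1, h2⟩ ⟨h1', h2'⟩
    refine ⟨mul_mem h1 h1', fun w hw => ?_⟩
    have hw' : g⁻¹ * w * g ∈ W := by
      have := (mem_normalizer_iff.1 (inv_mem h1) w).1 hw
      rwa [inv_inv] at this
    have h3 := h2' _ hw'
    have e : d * (g * g') * d⁻¹ * (g * g')⁻¹ = (d * g * d⁻¹ * g⁻¹) * (g * (d * g' * d⁻¹ * g'⁻¹) * g⁻¹) := by group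
    have h4 : g * (d * g' * d⁻¹ * g'⁻¹) * g⁻¹ * w = w * (g * (d * g' * d⁻¹ * g'⁻¹) * g⁻¹) := by
      calc g * (d * g' * d⁻¹ * g'⁻¹) * g⁻¹ * w = g * ((d * g' * d⁻¹ * g'⁻¹) * (g⁻¹ * w * g)) * g⁻¹ := by group
        _ = g * ((g⁻¹ * w * g) * (d * g' * d⁻¹ * g'⁻¹)) * g⁻¹ := by rw [h3]
        _ = _ := by group
    rw [e]
    calc (d * g * d⁻¹ * g⁻¹) * (g * (d * g' * d⁻¹ * g'⁻¹) * g⁻¹) * w
        = (d * g * d⁻¹ * g⁻¹) * (g * (d * g' * d⁻¹ * g'⁻¹) * g⁻¹ * w) := by group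
      _ = (d * g * d⁻¹ * g⁻¹) * (w * (g * (d * g' * d⁻¹ * g'⁻¹) * g⁻¹)) := by rw [h4]
      _ = ((d * g * d⁻¹ * g⁻¹) * w) * (g * (d * g' * d⁻¹ * g'⁻¹) * g⁻¹) := by group
      _ = _ := by rw [h2 w hw]; group
  inv_mem' := by
    rintro g ⟨h1, h2⟩
    refine ⟨inv_mem h1, fun w hw => ?_⟩
    have hw' : g * w * g⁻¹ ∈ W := (mem_normalizer_iff.1 h1 w).1 hw
    have h3 := h2 _ hw'
    have h4 : (d * g * d⁻¹ * g⁻¹)⁻¹ * (g * w * g⁻¹) = (g * w * g⁻¹) * (d * g * d⁻¹ * g⁻¹)⁻¹ := by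
      have : Commute (d * g * d⁻¹ * g⁻¹) (g * w * g⁻¹) := h3
      exact this.inv_left.eq
    have e : d * g⁻¹ * d⁻¹ * g⁻¹⁻¹ = g⁻¹ * (d * g * d⁻¹ * g⁻¹)⁻¹ * g *
      (g⁻¹ * (d * g * d⁻¹ * g⁻¹) * g * (d * g⁻¹ * d⁻¹ * g)) := by group
    have e2 : d * g⁻¹ * d⁻¹ * g⁻¹⁻¹ = g⁻¹ * (g * d * g⁻¹ * d⁻¹) * g := by group
    have e3 : g * d * g⁻¹ * d⁻¹ = (d * g * d⁻¹ * g⁻¹)⁻¹ := by group
    rw [e2, e3]
    calc g⁻¹ * (d * g * d⁻¹ * g⁻¹)⁻¹ * g * w = g⁻¹ * ((d * g * d⁻¹ * g⁻¹)⁻¹ * (g * w * g⁻¹)) * g := by group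
      _ = g⁻¹ * ((g * w * g⁻¹) * (d * g * d⁻¹ * g⁻¹)⁻¹) * g := by rw [h4]
      _ = _ := by group

/-- `R_L ≤ R_{L'}` for blocks with the same modules, `L' ≤ L C(vl B L)` -/
theorem rl_le_rl (hT : ∀ T : Subgroup G, IsPGroup 2 T → B ≤ T → T ≤ normalizer (B : Set G)) (h : LBlk B L q)
    (h' : LBlk B L' q') (hz : zl B L = zl B L') (hv : vl B L = vl B L')
    (hc : ∀ l' ∈ L', ∃ l ∈ L, ∀ v ∈ vl B L, l⁻¹ * l' * v = v * (l⁻¹ * l')) : rl B L ≤ rl B L' := by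
  set W := zl B L with hW
  set V := vl B L with hV
  have hVW : V ≤ W := Block.vl_le_zl B L
  have hL : L ≤ St W V := le_St
  have hL' : L' ≤ St W V := by rw [hz, hv]; exact le_St
  have hWn : ∀ g ∈ St W V, g ∈ normalizer (W : Set G) := fun g hg => hg.1
  have hVn : ∀ g ∈ St W V, ∀ v ∈ V, g * v * g⁻¹ ∈ V := fun g hg v hv => (mem_normalizer_iff.1 hg.2.1 v).1 hv
  have hVn' : ∀ g ∈ St W V, ∀ v ∈ V, g⁻¹ * v * g ∈ V := fun g hg v hv => by
    have := hVn g⁻¹ (inv_mem hg) v hv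
    rwa [inv_inv] at this
  obtain ⟨l₀, hl₀, hgen⟩ := RedLBlk.gen h
  -- elements of `St W V` centralising `V` commute with `L` modulo `C(W)`
  have key : ∀ d ∈ St W V, (∀ v ∈ V, d * v = v * d) → ∀ g ∈ L, ∀ w ∈ W,
      d * g * d⁻¹ * g⁻¹ * w = w * (d * g * d⁻¹ * g⁻¹) := by
    have hb : ∀ d ∈ St W V, (∀ v ∈ V, d * v = v * d) → ∀ b ∈ B, ∀ w ∈ W,
        d * b * d⁻¹ * b⁻¹ * w = w * (d * b * d⁻¹ * b⁻¹) := by
      intro d hd hdV b hb w hw
      refine APQ.com_act (W := W) (U := V) h.two hT (fun x hx => h.zl_sq x (hVW hx))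
        (h.le.trans (Block.le_normalizer_zl B L)) (h.le.trans (ZN.le_normalizer_vl B L)) ?_ hd hdV hb hw
      intro c hc _ hcV w hw
      have h1 := mem_o2_of_cent h hc hcV
      rw [← h.cent_zl] at h1
      exact (mem_centralizer_iff.1 h1.2 w hw).symm
    intro d hd hdV g hg
    have h1 : L ≤ cm W d := by
      refine hgen _ (fun b hb' => ⟨(hL (h.le hb')).1, hb d hd hdV b hb'⟩) fun b hb' => ?_
      refine ⟨(hL (mul_mem (mul_mem hl₀ (h.le hb')) (inv_mem hl₀))).1, fun w hw => ?_⟩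
      have hl := hL hl₀
      have hd' : l₀⁻¹ * d * l₀ ∈ St W V := mul_mem (mul_mem (inv_mem hl) hd) hl
      have hdV' : ∀ v ∈ V, l₀⁻¹ * d * l₀ * v = v * (l₀⁻¹ * d * l₀) := by
        intro v hv
        have h2 := hdV _ (hVn _ hl v hv)
        calc l₀⁻¹ * d * l₀ * v = l₀⁻¹ * (d * (l₀ * v * l₀⁻¹)) * l₀ := by group
          _ = l₀⁻¹ * ((l₀ * v * l₀⁻¹) * d) * l₀ := by rw [h2]
          _ = _ := by group
      have hw' : l₀⁻¹ * w * l₀ ∈ W := by
        have := (mem_normalizer_iff.1 (inv_mem hl.1) w).1 hw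
        rwa [inv_inv] at this
      have h3 := hb _ hd' hdV' b hb' _ hw'
      calc d * (l₀ * b * l₀⁻¹) * d⁻¹ * (l₀ * b * l₀⁻¹)⁻¹ * w
          = l₀ * (l₀⁻¹ * d * l₀ * b * (l₀⁻¹ * d * l₀)⁻¹ * b⁻¹ * (l₀⁻¹ * w * l₀)) * l₀⁻¹ := by group
        _ = l₀ * (l₀⁻¹ * w * l₀ * (l₀⁻¹ * d * l₀ * b * (l₀⁻¹ * d * l₀)⁻¹ * b⁻¹)) * l₀⁻¹ := by rw [h3]
        _ = _ := by group
    exact (h1 hg).2
  -- two such elements commute modulo `C(W)`
  have key2 : ∀ d ∈ St W V, (∀ v ∈ V, d * v = v * d) → ∀ d' ∈ St W V, (∀ v ∈ V, d' * v = v * d') → ∀ w ∈ W,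
      d * d' * w * (d * d')⁻¹ = d' * d * w * (d' * d)⁻¹ := by
    intro d hd hdV d' hd' hdV' w hw
    have h1 := hd.2.2 w hw
    have h2 := hd'.2.2 w hw
    obtain ⟨a, ha⟩ : ∃ a, a = d * w * d⁻¹ * w⁻¹ := ⟨_, rfl⟩
    obtain ⟨a', ha'⟩ : ∃ a', a' = d' * w * d'⁻¹ * w⁻¹ := ⟨_, rfl⟩
    rw [← ha] at h1
    rw [← ha'] at h2
    have e1 : d * w * d⁻¹ = a * w := by rw [ha]; group
    have e2 : d' * w * d'⁻¹ = a' * w := by rw [ha']; group
    have e3 : d * a' * d⁻¹ = a' := by rw [hdV a' h2]; group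
    have e4 : d' * a * d'⁻¹ = a := by rw [hdV' a h1]; group
    calc d * d' * w * (d * d')⁻¹ = d * (d' * w * d'⁻¹) * d⁻¹ := by group
      _ = (d * a' * d⁻¹) * (d * w * d⁻¹) := by rw [e2]; group
      _ = a' * (a * w) := by rw [e3, e1]
      _ = a * (a' * w) := by rw [← mul_assoc, ← mul_assoc, h.zl_comm a' (hVW h2) a (hVW h1)]
      _ = (d' * a * d'⁻¹) * (d' * w * d'⁻¹) := by rw [e4, e2]
      _ = d' * (a * w) * d'⁻¹ := by group
      _ = d' * d * w * (d' * d)⁻¹ := by rw [← e1]; group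
  intro r hr
  have hrW : r ∈ W := COneBlk.rl_le_zl _ _ hr
  -- commutators of elements of `L'` centralise `r`
  have hcom : ∀ x ∈ L', ∀ y ∈ L', x * y * x⁻¹ * y⁻¹ ∈ centralizer ({r} : Set G) := by
    intro x hx y hy
    obtain ⟨l, hl, hlx⟩ := hc x hx
    obtain ⟨m, hm, hmy⟩ := hc y hy
    have hd : l⁻¹ * x ∈ St W V := mul_mem (inv_mem (hL hl)) (hL' hx)
    have he : m⁻¹ * y ∈ St W V := mul_mem (inv_mem (hL hm)) (hL' hy)
    set d := l⁻¹ * x with hd0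
    set d' := m⁻¹ * y with he0
    let f : normalizer (W : Set G) →* MulAut W := W.normalizerMonoidHom
    have hf : ∀ (x y : G) (hx : x ∈ normalizer (W : Set G)) (hy : y ∈ normalizer (W : Set G)),
        (∀ w ∈ W, x * w * x⁻¹ = y * w * y⁻¹) → f ⟨x, hx⟩ = f ⟨y, hy⟩ := by
      intro x y hx hy hxy
      ext w
      exact hxy w w.2
    have nl := (hL hl).1
    have nm := (hL hm).1
    have nx := (hL' hx).1
    have ny := (hL' hy).1
    have nd := hd.1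
    have nd' := he.1
    have c1 : f ⟨d, nd⟩ * f ⟨m, nm⟩ = f ⟨m, nm⟩ * f ⟨d, nd⟩ := by
      rw [← map_mul, ← map_mul]
      refine hf _ _ _ _ fun w hw => ?_
      have h1 := key d hd hlx m hm _ ((mem_normalizer_iff.1 (mul_mem nm nd) w).1 hw)
      have e : d * m = (d * m * d⁻¹ * m⁻¹) * (m * d) := by group
      calc d * m * w * (d * m)⁻¹ = (d * m * d⁻¹ * m⁻¹) * (m * d * w * (m * d)⁻¹) * (d * m * d⁻¹ * m⁻¹)⁻¹ := by group
        _ = (m * d * w * (m * d)⁻¹) * (d * m * d⁻¹ * m⁻¹) * (d * m * d⁻¹ * m⁻¹)⁻¹ := by rw [h1]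
        _ = _ := by group
    have c2 : f ⟨d', nd'⟩ * f ⟨l, nl⟩ = f ⟨l, nl⟩ * f ⟨d', nd'⟩ := by
      rw [← map_mul, ← map_mul]
      refine hf _ _ _ _ fun w hw => ?_
      have h1 := key d' he hmy l hl _ ((mem_normalizer_iff.1 (mul_mem nl nd') w).1 hw)
      calc d' * l * w * (d' * l)⁻¹ = (d' * l * d'⁻¹ * l⁻¹) * (l * d' * w * (l * d')⁻¹) * (d' * l * d'⁻¹ * l⁻¹)⁻¹ := by
            group
        _ = (l * d' * w * (l * d')⁻¹) * (d' * l * d'⁻¹ * l⁻¹) * (d' * l * d'⁻¹ * l⁻¹)⁻¹ := by rw [h1]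
        _ = _ := by group
    have c3 : f ⟨d, nd⟩ * f ⟨d', nd'⟩ = f ⟨d', nd'⟩ * f ⟨d, nd⟩ := by
      rw [← map_mul, ← map_mul]
      exact hf _ _ _ _ fun w hw => key2 d hd hlx d' he hmy w hw
    have fx : f ⟨x, nx⟩ = f ⟨l, nl⟩ * f ⟨d, nd⟩ := by
      rw [← map_mul]
      refine hf _ _ _ _ fun w _ => ?_
      change x * w * x⁻¹ = (l * d) * w * (l * d)⁻¹
      rw [hd0]; group
    have fy : f ⟨y, ny⟩ = f ⟨m, nm⟩ * f ⟨d', nd'⟩ := by
      rw [← map_mul]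
      refine hf _ _ _ _ fun w _ => ?_
      change y * w * y⁻¹ = (m * d') * w * (m * d')⁻¹
      rw [he0]; group
    have hfin : f ⟨x, nx⟩ * f ⟨y, ny⟩ * (f ⟨x, nx⟩)⁻¹ * (f ⟨y, ny⟩)⁻¹ =
        f ⟨l, nl⟩ * f ⟨m, nm⟩ * (f ⟨l, nl⟩)⁻¹ * (f ⟨m, nm⟩)⁻¹ := by
      rw [fx, fy]
      generalize f ⟨l, nl⟩ = A at *
      generalize f ⟨m, nm⟩ = C at *
      generalize f ⟨d, nd⟩ = D at *
      generalize f ⟨d', nd'⟩ = E at *
      calc A * D * (C * E) * (A * D)⁻¹ * (C * E)⁻¹ = A * (D * C) * (E * D⁻¹ * A⁻¹) * E⁻¹ * C⁻¹ := by group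
        _ = A * C * (D * E) * D⁻¹ * A⁻¹ * E⁻¹ * C⁻¹ := by rw [c1]; group
        _ = A * C * (E * A⁻¹) * E⁻¹ * C⁻¹ := by rw [c3]; group
        _ = A * C * (A⁻¹ * E) * E⁻¹ * C⁻¹ := by
            have : E * A⁻¹ = A⁻¹ * E := by
              have h5 : Commute E A := c2
              exact h5.inv_right.eq
            rw [this]
        _ = A * C * A⁻¹ * C⁻¹ := by group
    have h5 := DFunLike.congr_fun hfin ⟨r, hrW⟩
    rw [← map_mul, ← map_inv, ← map_mul, ← map_inv, ← map_mul] at h5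
    rw [← map_mul f ⟨l, nl⟩, ← map_inv f ⟨l, nl⟩, ← map_mul, ← map_inv, ← map_mul] at h5
    have h6 := congrArg Subtype.val h5
    change x * y * x⁻¹ * y⁻¹ * r * (x * y * x⁻¹ * y⁻¹)⁻¹ = l * m * l⁻¹ * m⁻¹ * r * (l * m * l⁻¹ * m⁻¹)⁻¹ at h6
    have h7 : l * m * l⁻¹ * m⁻¹ * r * (l * m * l⁻¹ * m⁻¹)⁻¹ = r := by
      have h8 := COneBlk.rl_comm hr (mul_mem (mul_mem (mul_mem hl hm) (inv_mem hl)) (inv_mem hm))
      rw [h8]; group
    rw [mem_centralizer_singleton_iff, ← Four.conj_eq_iff_comm]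
    exact h6.trans h7
  refine ⟨hr.1, mem_centralizer_iff.2 fun g hg => ?_⟩
  -- `L' = [L', L'] O₂(L')`
  obtain ⟨F, _, _, _, φ, hφ, hk, hF⟩ := h'.iso
  have hperf := COneLin.commutator_top F (by rw [hF]; exact h'.four)
  have h1 : φ ⟨g, hg⟩ ∈ Subgroup.map φ ⁅(⊤ : Subgroup L'), (⊤ : Subgroup L')⁆ := by
    rw [Subgroup.map_commutator, ← MonoidHom.range_eq_map, MonoidHom.range_eq_top.2 hφ, hperf]
    exact mem_top _
  obtain ⟨c, hc1, hc2⟩ := h1
  have h2 : (c : G) ∈ centralizer ({r} : Set G) := by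
    have h3 : (c : G) ∈ ⁅L', L'⁆ := by
      have h4 : (c : G) ∈ Subgroup.map L'.subtype ⁅(⊤ : Subgroup L'), (⊤ : Subgroup L')⁆ := ⟨c, hc1, rfl⟩
      rwa [Subgroup.map_commutator, ← MonoidHom.range_eq_map, Subgroup.range_subtype] at h4
    refine (Subgroup.commutator_le.2 fun x hx y hy => ?_) h3
    rw [commutatorElement_def]
    exact hcom x hx y hy
  have h3 : c⁻¹ * ⟨g, hg⟩ ∈ φ.ker := by
    rw [MonoidHom.mem_ker, map_mul, map_inv, hc2, inv_mul_cancel]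
  rw [hk, mem_subgroupOf] at h3
  have h4 : (c : G)⁻¹ * g ∈ o2 L' := h3
  rw [← h'.cent_zl] at h4
  have h5 : r * ((c : G)⁻¹ * g) = (c : G)⁻¹ * g * r := mem_centralizer_iff.1 h4.2 r (by
    change r ∈ zl B L'
    rw [← hz]
    exact hrW)
  rw [mem_centralizer_singleton_iff] at h2
  calc g * r = (c : G) * ((c : G)⁻¹ * g * r) := by group
    _ = (c : G) * (r * ((c : G)⁻¹ * g)) := by rw [h5]
    _ = ((c : G) * r) * ((c : G)⁻¹ * g) := by group
    _ = (r * (c : G)) * ((c : G)⁻¹ * g) := by rw [h2]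
    _ = r * g := by group

end blk

variable {H V : Type u} [Group H] [CommGroup V] {X T Y : Subgroup G} {r : X →* H} {ρ : H →* MulAut V} {ι : V →* G}
  {L₀ : Subgroup H} {F : Type} [Field F] [Fintype F] [CharP F 2] {e : L₀ ≃* SpecialLinearGroup (Fin 2) F}
  {U : Subgroup H}

namespace Dat

variable (d : Dat X T Y r ρ ι L₀ F e U)

include d

/-- every `SL₂`-block of `X` covers `N / C_X(Y)` -/
theorem le_sup {L : Subgroup G} {q : ℕ} (h : LBlk (bau T) L q) (hX : L ≤ X) (hq : q = Fintype.card F) :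
    NN X r L₀ ≤ L ⊔ CC X Y := by
  have hLN := d.le_NN h hX
  have hvl : vl (bau T) L ≤ Y := d.yc.vl_le L hX (Or.inr ⟨q, h⟩)
  have h1 : L ⊓ CC X Y = o2 L := by
    apply le_antisymm
    · exact inf_le_o2 h (hX.trans d.CC_norm) ((inf_le_right : CC X Y ≤ centralizer (Y : Set G)).trans
        (centralizer_le hvl))
    · refine le_inf (ZN.o2_le L) ?_
      rw [d.o2_eq h hX]
      exact inf_le_right
  set φ : L →* SpecialLinearGroup (Fin 2) F := (psi X r L₀ e).comp (Subgroup.inclusion hLN) with hφ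
  have hker : φ.ker = (o2 L).subgroupOf L := by
    ext x
    rw [MonoidHom.mem_ker, mem_subgroupOf, ← h1]
    have h2 : φ x = 1 ↔ (x : G) ∈ CC X Y := d.psi_eq_one ⟨x, hLN x.2⟩
    rw [h2]
    exact ⟨fun h3 => ⟨x.2, h3⟩, fun h3 => h3.2⟩
  have h2 := φ.ker.card_mul_index
  rw [Subgroup.index_ker, hker, Nat.card_congr (Subgroup.subgroupOfEquivOfLe (ZN.o2_le L)).toEquiv,
    COneBlk.card_L h] at h2
  have h3 : Nat.card φ.range = (q + 1) * q * (q - 1) := by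
    have h4 : 0 < Nat.card (o2 L) := Nat.card_pos
    apply Nat.eq_of_mul_eq_mul_left h4
    rw [h2]; ring
  have htop : φ.range = ⊤ := by
    apply Subgroup.eq_top_of_card_eq
    rw [h3, T1Sl2.card_sl2, ← hq]
  intro n hn
  obtain ⟨l, hl⟩ : ∃ l, φ l = psi X r L₀ e ⟨n, hn⟩ := by
    have : psi X r L₀ e ⟨n, hn⟩ ∈ φ.range := by rw [htop]; exact mem_top _
    exact this
  have h4 : psi X r L₀ e (⟨(l : G), hLN l.2⟩⁻¹ * ⟨n, hn⟩) = 1 := by
    rw [map_mul, map_inv, ← hl]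
    exact inv_mul_cancel _
  rw [d.psi_eq_one] at h4
  have h5 : n = (l : G) * ((l : G)⁻¹ * n) := by group
  rw [h5]
  exact mul_mem (mem_sup_left l.2) (mem_sup_right h4)

/-- **uniqueness of the module of an `SL₂(q)`-block of `X`** -/
theorem unique (hcyc : OddCyc G) {L L' : Subgroup G} {q q' : ℕ} (h : LBlk (bau T) L q) (h' : LBlk (bau T) L' q')
    (hX : L ≤ X) (hX' : L' ≤ X) : vl (bau T) L = vl (bau T) L' ∧
      (∀ l' ∈ L', ∃ l ∈ L, ∀ v ∈ vl (bau T) L, l⁻¹ * l' * v = v * (l⁻¹ * l')) ∧ q = Fintype.card F ∧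
      X ≤ normalizer (vl (bau T) L : Set G) := by
  obtain ⟨L₁, hLN, hNL, hb, hz, hz', ho⟩ := d.exists_lblk hcyc
  have hLX : L₁ ≤ X := hLN.trans NN_le
  have h0 : ∀ {L : Subgroup G} {q : ℕ}, LBlk (bau T) L q → L ≤ X → vl (bau T) L = ⁅Y, NN X r L₀⁆ ∧
      q = Fintype.card F ∧ X ≤ normalizer ((⁅Y, NN X r L₀⁆ : Subgroup G) : Set G) := by
    intro L q h hX
    have h1 : o2 L = o2 L₁ := by rw [d.o2_eq h hX, d.o2_eq hb hLX]
    have h2 : q = Fintype.card F := by rw [← h.o2_index, ← hb.o2_index, h1]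
    have hvl : vl (bau T) L ≤ Y := d.yc.vl_le L hX (Or.inr ⟨q, h⟩)
    have h3 : zl (bau T) L ≤ zl (bau T) L₁ := by
      rw [hz, FinalBridge.zl_le_iff]
      intro l hl z hz2
      have h4 : ⁅l, z⁆ ∈ Y := by
        apply hvl
        have h5 : ⁅z, l⁆ ∈ vl (bau T) L := commutator_mem_commutator (COneBlk.zc_le_zl _ _ hz2) hl
        rw [← commutatorElement_inv]
        exact inv_mem h5
      rw [zc_bau] at hz2
      have h5 : l * z * l⁻¹ = ⁅l, z⁆ * z := by rw [commutatorElement_def]; group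
      rw [h5]
      exact mul_mem (mem_sup_left h4) (mem_sup_right hz2)
    have h4 : zl (bau T) L = zl (bau T) L₁ := by
      apply Subgroup.eq_of_le_of_card_ge h3
      have h4 := COneLinB.card_mul_relIndex (COneBlk.zc_le_zl (bau T) L)
      have h5 := COneLinB.card_mul_relIndex (COneBlk.zc_le_zl (bau T) L₁)
      rw [h.zl_index] at h4
      rw [hb.zl_index] at h5
      rw [← h4, ← h5, h2]
    have hYz : Y ≤ zl (bau T) L := by rw [h4, hz']; exact le_sup_left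
    have hdec := d.le_sup h hX h2
    have hv1 := d.vl_eq hb hLN hNL hz'
    have hn : X ≤ normalizer ((⁅Y, NN X r L₀⁆ : Subgroup G) : Set G) := by
      rw [le_normalizer_iff]
      intro g hg x hx
      have h1 : (⁅Y, NN X r L₀⁆).map (MulAut.conj g).toMonoidHom = ⁅Y, NN X r L₀⁆ := by
        rw [Subgroup.map_commutator]
        have h2 : ∀ D : Subgroup G, X ≤ normalizer (D : Set G) → D.map (MulAut.conj g).toMonoidHom = D := by
          intro D hD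
          ext y
          constructor
          · rintro ⟨z, hz, rfl⟩
            exact (mem_normalizer_iff.1 (hD hg) z).1 hz
          · intro hy
            refine ⟨g⁻¹ * y * g, ?_, ?_⟩
            · have := (mem_normalizer_iff.1 (hD (inv_mem hg)) y).1 hy
              rwa [inv_inv] at this
            · change g * (g⁻¹ * y * g) * g⁻¹ = y
              group
        rw [h2 Y d.yc.nor, h2 _ (NN_norm d.std.normal)]
      rw [← h1]
      exact ⟨x, hx, rfl⟩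
    refine ⟨?_, h2, hn⟩
    apply le_antisymm
    · refine vl_le h ?_ (fun l hl p hp => (mem_normalizer_iff.1 (hn (hX hl)) p).1 hp) ?_
      · rw [h4, ← hv1]
        exact Block.vl_le_zl _ _
      · intro hr
        apply not_le_cent_vl hb
        intro l hl
        rw [mem_centralizer_iff]
        intro v hv
        obtain ⟨m, hm, c, hc, rfl⟩ := d.exists_lc (d.le_NN h hX) hdec (hLN hl)
        have hvY : v ∈ Y := d.yc.vl_le L₁ hLX (Or.inr ⟨_, hb⟩) hv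
        rw [hv1] at hv
        have e1 := COneBlk.rl_comm (hr hv) hm
        have e2 := d.CC_comm hc hvY
        calc v * (m * c) = (v * m) * c := by group
          _ = (m * v) * c := by rw [e1]
          _ = m * (c * v) := by rw [e2]; group
          _ = m * c * v := by group
    · rw [Subgroup.commutator_le]
      intro y hy n hn'
      obtain ⟨l, hl, c, hc, rfl⟩ := d.exists_lc (d.le_NN h hX) hdec hn'
      have h1 := d.CC_comm hc hy
      have h2 : ⁅y, l * c⁆ = ⁅y, l⁆ := by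
        rw [commutatorElement_def, commutatorElement_def]
        have h3 : c * y⁻¹ = y⁻¹ * c := by
          calc c * y⁻¹ = y⁻¹ * (y * c) * y⁻¹ := by group
            _ = y⁻¹ * c := by rw [← h1]; group
        calc y * (l * c) * y⁻¹ * (l * c)⁻¹ = y * l * (c * y⁻¹) * c⁻¹ * l⁻¹ := by group
          _ = y * l * y⁻¹ * l⁻¹ := by rw [h3]; group
      rw [h2]
      exact commutator_mem_commutator (hYz hy) hl
  obtain ⟨e1, e2, e4⟩ := h0 h hX
  obtain ⟨e3, -⟩ := h0 h' hX'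
  refine ⟨e1.trans e3.symm, fun l' hl' => ?_, e2, by rw [e1]; exact e4⟩
  obtain ⟨l, hl, c, hc, rfl⟩ := d.exists_lc (d.le_NN h hX) (d.le_sup h hX e2) (d.le_NN h' hX' hl')
  refine ⟨l, hl, fun v hv => ?_⟩
  have e5 : l⁻¹ * (l * c) = c := by group
  rw [e5]
  exact d.CC_comm hc (d.yc.vl_le L hX (Or.inr ⟨_, h⟩) hv)

/-- `L C_X(vl)` is normal in `X` -/
theorem nrm {L : Subgroup G} {q : ℕ} (h : LBlk (bau T) L q) (hX : L ≤ X) (hq : q = Fintype.card F)
    (hn : X ≤ normalizer (vl (bau T) L : Set G)) :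
    X ≤ normalizer ((L ⊔ (X ⊓ centralizer (vl (bau T) L : Set G)) : Subgroup G) : Set G) := by
  have h1 : L ⊔ (X ⊓ centralizer (vl (bau T) L : Set G)) = NN X r L₀ ⊔ (X ⊓ centralizer (vl (bau T) L : Set G)) := by
    apply le_antisymm
    · exact sup_le_sup_right (d.le_NN h hX) _
    · refine sup_le ((d.le_sup h hX hq).trans (sup_le_sup_left ?_ _)) le_sup_right
      exact inf_le_inf_left _ (centralizer_le (d.yc.vl_le L hX (Or.inr ⟨q, h⟩)))
  rw [h1, le_normalizer_iff]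
  have h2 : X ≤ normalizer ((X ⊓ centralizer (vl (bau T) L : Set G) : Subgroup G) : Set G) :=
    (le_inf le_normalizer (hn.trans (DBlkReduce.nc _))).trans inf_normalizer_le_normalizer_inf
  intro g hg y hy
  have h4 : NN X r L₀ ⊔ (X ⊓ centralizer (vl (bau T) L : Set G)) ≤
      (NN X r L₀ ⊔ (X ⊓ centralizer (vl (bau T) L : Set G))).comap (MulAut.conj g).toMonoidHom := by
    refine sup_le (fun y hy => ?_) fun y hy => ?_
    · exact mem_sup_left ((mem_normalizer_iff.1 (NN_norm d.std.normal hg) y).1 hy)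
    · exact mem_sup_right ((mem_normalizer_iff.1 (h2 hg) y).1 hy)
  exact h4 hy

end Dat

end Cfsg.Agent.OddCyclic.RedLinX
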