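import Cfsg.Agent.OddCyclic.RedMain
import Cfsg.Agent.OddCyclic.RedLinU
import Cfsg.Agent.OddCyclic.RedCtx
import Cfsg.Agent.OddCyclic.APC
import Cfsg.Agent.OddCyclic.FFSec
import Cfsg.Agent.OddCyclic.RedE
import Cfsg.Agent.OddCyclic.COnePair

/-!
# S0342, (C2), 2.4: the `SL₂(q)`-blocks of one 2-local subgroup; 7.1

* `LinU G`: for two `SL₂`-blocks `L`, `L'` over `bau T` in `X`: `vl` is the same and `L' ≤ L C(vl)`;
* `lin_of_yc`: `LinU` from FFC;
-/

set_option autoImplicit false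
set_option linter.unusedSectionVars false

namespace Cfsg.Agent.OddCyclic.RedU

open Subgroup Cfsg Cfsg.Agent.ZN Cfsg.Agent.ZN.ChoiceBase Cfsg.Agent.MinSimple Cfsg.Agent.MinSimple.DBlkApi
open Cfsg.Agent.OddCyclic.RedX (mod Loc IsB)
open Cfsg.Agent.OddCyclic.RedTy
open Cfsg.Agent.OddCyclic.RedRep
open Cfsg.Agent.OddCyclic.RedFam (Fam)
open Cfsg.Agent.OddCyclic.COneDefs (LBlk)
open Cfsg.Agent.OddCyclic.T1Defs (OddCyc)
open Cfsg.Agent.OddCyclic.RedCtx

universe u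

variable {G : Type u} [Group G] [Finite G]

/-- no `SL₂`-block in a 2-local of type `zero` -/
theorem not_zero_lin {X T L Y : Subgroup G} {q : ℕ} (hb : bau (bau T) = bau T) (hY : YC X T Y) (hLX : L ≤ X)
    (h : LBlk (bau T) L q) : ¬ jj T ≤ centralizer (Y : Set G) := by
  intro h0
  refine APC.not_jj_le_cent hb h ?_
  rw [ChoiceBase.jj_bau]
  exact h0.trans (centralizer_le (hY.vl_le L hLX (Or.inr ⟨q, h⟩)))

/-- two `SL₂`-blocks over `bau T` in `X` have the same module -/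
theorem lin_of_yc (hc : OddCyc G) {X T Y : Subgroup G} (hY : YC X T Y)
    (hF : ∀ (H : Type u) [Group H] (f : X →* H), Function.Surjective f → RedFFDefs.FFC H) {L L' : Subgroup G}
    {q q' : ℕ} (hX : L ≤ X) (hX' : L' ≤ X) (h : LBlk (bau T) L q) (h' : LBlk (bau T) L' q') :
    vl (bau T) L = vl (bau T) L' ∧
      (∀ l' ∈ L', ∃ l ∈ L, ∀ v ∈ vl (bau T) L, l⁻¹ * l' * v = v * (l⁻¹ * l')) ∧
      X ≤ normalizer ((L ⊔ (X ⊓ centralizer (vl (bau T) L : Set G)) : Subgroup G) : Set G) := by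
  obtain ⟨H, W, i1, i2, i3, i4, r, ρ, ι, hr, hf⟩ := RedAct.exists_rep hc hY hF
  have hbb : bau (bau T) = bau T := ZN.bau_bau T
  by_cases h0 : ∀ A ∈ famOf X T r, A = ⊥
  · exfalso
    refine not_zero_lin hbb hY hX h ?_
    rw [ChoiceBase.jj_eq]
    refine sSup_le fun A hA a ha => ?_
    have haX : a ∈ X := hY.TX (ZN.jj_le T (ChoiceBase.le_jj hA ha))
    have h1 : r ⟨a, haX⟩ = 1 := by
      have h2 : r ⟨a, haX⟩ ∈ (A.subgroupOf X).map r := ⟨⟨a, haX⟩, mem_subgroupOf.2 ha, rfl⟩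
      rw [h0 _ ⟨A, hA, rfl⟩] at h2
      exact h2
    rw [mem_centralizer_iff]
    intro w hw
    exact (hr.r_eq_one.1 h1 w hw).symm
  · push Not at h0
    obtain ⟨A, hA, hA1⟩ := h0
    rcases hf.out A hA hA1 with h3 | h3 | h3 | h3
    · exfalso
      obtain ⟨y, a, ho⟩ := RedTriX.exists_TO hf hA hA1 h3
      exact (RedTriX.main hY hr hf ho hc).nolin L q hX h
    · obtain ⟨L₀, F, _, _, _, e, U, d⟩ := RedLinX.exists_dat hY hr hf hA hA1 h3
      obtain ⟨e1, e2, e3, e4⟩ := d.unique hc h h' hX hX'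
      exact ⟨e1, e2, d.nrm h hX e3 e4⟩
    · exfalso
      obtain ⟨K, e, s, φ, hfo⟩ := RedFive.exists_FO hf hA hA1 h3
      exact (RedFivX.main ⟨hY, hr, hf, hfo⟩ hc).nolin L q hX h
    · exfalso
      rcases RedSevenX.main hc hY hr hf hA hA1 h3 with ⟨N, V, z, h4⟩ | ⟨L₀, h4⟩
      · exact h4.nolin L q hX h
      · exact h4.noblk L hX (Or.inr ⟨q, h⟩)

/-- two `SL₂`-blocks over `bau T` of one 2-local have the same module -/
def LinU (G : Type u) [Group G] : Prop :=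
  ∀ X T Y : Subgroup G, X ≠ ⊤ → YC X T Y → ∀ (L L' : Subgroup G) (q q' : ℕ), L ≤ X → L' ≤ X →
    LBlk (bau T) L q → LBlk (bau T) L' q' → vl (bau T) L = vl (bau T) L' ∧
      (∀ l' ∈ L', ∃ l ∈ L, ∀ v ∈ vl (bau T) L, l⁻¹ * l' * v = v * (l⁻¹ * l')) ∧
      X ≤ normalizer ((L ⊔ (X ⊓ centralizer (vl (bau T) L : Set G)) : Subgroup G) : Set G)

/-- The context of (C2). -/
structure Cx (S : Sylow 2 G) : Prop extends Ctx S where
  simple : IsSimpleGroup G
  rank : ¬ PRankLE 2 2 G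
  six : ∃ g : G, orderOf g = 6
  sec : CompStart.SecZero G
  lin : LinU G
  nu : ∀ M : Subgroup G, IsTwoLocal M → (S : Subgroup G) ≤ M →
    ∃ X : Subgroup G, IsTwoLocal X ∧ (S : Subgroup G) ≤ X ∧ ¬ X ≤ M

variable {S : Sylow 2 G}

theorem ne_top (c : Cx S) {X : Subgroup G} (hX : IsTwoLocal X) : X ≠ ⊤ := by
  obtain ⟨U, hU, hU1, rfl⟩ := hX
  exact c.toCtx.ne_top hU hU1

/-- a 2-local over `bau S` -/
theorem exists_ty (c : Cx S) {X : Subgroup G} (hX : IsTwoLocal X) (hB : bau (S : Subgroup G) ≤ X) :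
    ∃ T : Subgroup G, bau (S : Subgroup G) ≤ T ∧ bau T = bau (S : Subgroup G) ∧ Loc X T ∧ Ty X T := by
  obtain ⟨U, hU, hU1, rfl⟩ := hX
  exact c.toCtx.exists_ty hU hU1 hB

/-- a 2-local over `S` -/
theorem ty_syl (c : Cx S) {X : Subgroup G} (hX : IsTwoLocal X) (hS : (S : Subgroup G) ≤ X) : Loc X S ∧ Ty X S := by
  obtain ⟨U, hU, hU1, rfl⟩ := hX
  exact c.toCtx.ty_syl hU hU1 hS

/-- a 2-local with an `SL₂`-block is of type `lin` -/
theorem lin_of_blk {X T L Y : Subgroup G} {q : ℕ} (hY : YC X T Y) (ht : TyY X T Y) (hLX : L ≤ X)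
    (h : LBlk (bau T) L q) : ∃ L' q', Lin X T L' q' := by
  cases ht with
  | zero h0 => exact absurd h0 (not_zero_lin (ZN.bau_bau T) hY hLX h)
  | tri V h0 => exact absurd h (h0.nolin L q hLX)
  | sev N V z h0 => exact absurd h (h0.nolin L q hLX)
  | fiv U φ e h0 => exact absurd h (h0.nolin L q hLX)
  | lin L₁ q₁ h0 => exact ⟨L₁, q₁, h0⟩
  | bc L₁ h0 => exact absurd (Or.inr ⟨q, h⟩) (h0.noblk L hLX)

section two

variable {L L' : Subgroup G} {q q' : ℕ}

/-- two `SL₂`-blocks over `bau S` in a 2-local -/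
theorem vl_eq_of_local (c : Cx S) {X : Subgroup G} (hX : IsTwoLocal X) (h : LBlk (bau (S : Subgroup G)) L q)
    (h' : LBlk (bau (S : Subgroup G)) L' q') (hLX : L ≤ X) (hLX' : L' ≤ X) :
    vl (bau (S : Subgroup G)) L = vl (bau (S : Subgroup G)) L' ∧
      (∀ l' ∈ L', ∃ l ∈ L, ∀ v ∈ vl (bau (S : Subgroup G)) L, l⁻¹ * l' * v = v * (l⁻¹ * l')) ∧
      X ≤ normalizer ((L ⊔ (X ⊓ centralizer (vl (bau (S : Subgroup G)) L : Set G)) : Subgroup G) : Set G) := by
  obtain ⟨T, hBT, hb, hloc, -⟩ := exists_ty c hX (h.le.trans hLX)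
  rw [← hb] at h h' ⊢
  exact c.lin X T _ (ne_top c hX) (yc_mod hloc) L L' q q' hLX hLX' h h'

theorem zl_isTwoLocal (h : LBlk (bau (S : Subgroup G)) L q) :
    IsTwoLocal (normalizer (zl (bau (S : Subgroup G)) L : Set G)) := by
  refine ⟨_, ?_, ?_, rfl⟩
  · rw [IsPGroup]
    rintro ⟨x, hx⟩
    exact ⟨1, Subtype.ext (by rw [pow_one]; change x ^ 2 = 1; rw [pow_two]; exact h.zl_sq x hx)⟩
  · intro h0
    have h1 := h.zl_index
    rw [h0, relIndex_bot_right] at h1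
    have := h.four
    omega

/-- **2.4, last line**: all `SL₂`-blocks over `bau S` have the same `zl`, `vl`, `rl` and `q` -/
theorem same (c : Cx S) (h : LBlk (bau (S : Subgroup G)) L q) (h' : LBlk (bau (S : Subgroup G)) L' q') :
    zl (bau (S : Subgroup G)) L = zl (bau (S : Subgroup G)) L' ∧ vl (bau (S : Subgroup G)) L =
      vl (bau (S : Subgroup G)) L' ∧ rl (bau (S : Subgroup G)) L = rl (bau (S : Subgroup G)) L' ∧ q = q' := by
  obtain ⟨hz, hq⟩ := APC.zl_eq c.toCtx c.simple c.six h h'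
  have hX := zl_isTwoLocal h
  have h1 : L ≤ normalizer (zl (bau (S : Subgroup G)) L : Set G) := Block.le_normalizer_zl _ _
  have h2 : L' ≤ normalizer (zl (bau (S : Subgroup G)) L : Set G) := by rw [hz]; exact Block.le_normalizer_zl _ _
  obtain ⟨hv, hc, -⟩ := vl_eq_of_local c hX h h' h1 h2
  obtain ⟨-, hc', -⟩ := vl_eq_of_local c hX h' h h2 h1
  have hT : ∀ T : Subgroup G, IsPGroup 2 T → bau (S : Subgroup G) ≤ T →
      T ≤ normalizer (bau (S : Subgroup G) : Set G) := fun T hT hBT => SamePt.le_normalizer S hT hBT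
  refine ⟨hz, hv, le_antisymm ?_ ?_, hq⟩
  · exact RedLinX.rl_le_rl hT h h' hz hv hc
  · exact RedLinX.rl_le_rl hT h' h hz.symm hv.symm hc'

/-- `N_G(B)` normalises the module -/
theorem nb_V (c : Cx S) (h : LBlk (bau (S : Subgroup G)) L q) :
    normalizer (bau (S : Subgroup G) : Set G) ≤ normalizer (vl (bau (S : Subgroup G)) L : Set G) := by
  intro g hg
  have hBg : cj g (bau (S : Subgroup G)) = bau (S : Subgroup G) := ChoiceBase.mem_normalizer_iff_cj.mp hg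
  have h' : LBlk (cj g (bau (S : Subgroup G))) (cj g L) q := COnePair.LBlk_map h _ (MulAut.conj g).injective
  rw [hBg] at h'
  have h2 := (same c h h').2.1
  rw [ChoiceBase.mem_normalizer_iff_cj]
  have h3 : vl (cj g (bau (S : Subgroup G))) (cj g L) = cj g (vl (bau (S : Subgroup G)) L) :=
    vl_map _ (MulAut.conj g).injective _ _
  rw [hBg] at h3
  exact h3.symm.trans h2.symm

/-- `N_G(B)` normalises `C_{Z_J}(L)` -/
theorem nb_R (c : Cx S) (h : LBlk (bau (S : Subgroup G)) L q) :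
    normalizer (bau (S : Subgroup G) : Set G) ≤ normalizer (rl (bau (S : Subgroup G)) L : Set G) := by
  intro g hg
  have hBg : cj g (bau (S : Subgroup G)) = bau (S : Subgroup G) := ChoiceBase.mem_normalizer_iff_cj.mp hg
  have h' : LBlk (cj g (bau (S : Subgroup G))) (cj g L) q := COnePair.LBlk_map h _ (MulAut.conj g).injective
  rw [hBg] at h'
  have h2 := (same c h h').2.2.1
  rw [ChoiceBase.mem_normalizer_iff_cj]
  have h3 : rl (cj g (bau (S : Subgroup G))) (cj g L) = cj g (rl (bau (S : Subgroup G)) L) :=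
    rl_map _ (MulAut.conj g).injective _ _
  rw [hBg] at h3
  exact h3.symm.trans h2.symm

theorem S_V (c : Cx S) (h : LBlk (bau (S : Subgroup G)) L q) :
    (S : Subgroup G) ≤ normalizer (vl (bau (S : Subgroup G)) L : Set G) := (RedE.S_nb S).trans (nb_V c h)

theorem vl_ne_bot (h : LBlk (bau (S : Subgroup G)) L q) : vl (bau (S : Subgroup G)) L ≠ ⊥ := fun h0 =>
  RedLinX.vl_not_le_rl h (by rw [h0]; exact bot_le)

theorem vl_isTwoLocal (h : LBlk (bau (S : Subgroup G)) L q) :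
    IsTwoLocal (normalizer (vl (bau (S : Subgroup G)) L : Set G)) := by
  refine ⟨_, ?_, vl_ne_bot h, rfl⟩
  rintro ⟨x, hx⟩
  refine ⟨1, Subtype.ext ?_⟩
  rw [pow_one]
  change x ^ 2 = 1
  rw [pow_two]
  exact h.zl_sq x (Block.vl_le_zl _ _ hx)

/-- a 2-local with an `SL₂`-block over `bau S` normalises the module -/
theorem le_NV (c : Cx S) (h : LBlk (bau (S : Subgroup G)) L q) {X : Subgroup G} (hX : IsTwoLocal X)
    (h' : LBlk (bau (S : Subgroup G)) L' q') (hLX : L' ≤ X) :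
    X ≤ normalizer (vl (bau (S : Subgroup G)) L : Set G) := by
  obtain ⟨T, hBT, hb, hloc, ht⟩ := exists_ty c hX (h'.le.trans hLX)
  have h1 := h'
  rw [← hb] at h1
  obtain ⟨L₁, q₁, hl⟩ := lin_of_blk (yc_mod hloc) ht hLX h1
  have h2 := hl.norm
  have h3 := hl.blk
  rw [hb] at h2 h3
  rw [(same c h h3).2.1]
  exact h2

/-- the 2-locals over `S` -/
theorem cases (c : Cx S) (h : LBlk (bau (S : Subgroup G)) L q)
    (hnd : ∀ (L' : Subgroup G) (k : ℕ), ¬ IsDBlk (bau (S : Subgroup G)) L' k) {X : Subgroup G} (hX : IsTwoLocal X)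
    (hS : (S : Subgroup G) ≤ X) : X ≤ normalizer (vl (bau (S : Subgroup G)) L : Set G) ∨
      X ≤ centralizer (zc (S : Subgroup G) : Set G) ⊔ normalizer (bau (S : Subgroup G) : Set G) := by
  obtain ⟨hloc, ht⟩ := ty_syl c hX hS
  have hJ : normalizer (jj (S : Subgroup G) : Set G) ≤
      centralizer (zc (S : Subgroup G) : Set G) ⊔ normalizer (bau (S : Subgroup G) : Set G) :=
    (RedE.nJ_le S).trans (sup_le_sup_right (centralizer_le (ChoiceBase.zc_le_zj _)) _)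
  cases ht with
  | zero h0 => exact Or.inr ((RedE.zero_gen hloc h0).trans (sup_le le_sup_left hJ))
  | tri V h0 =>
    obtain ⟨L', k, -, h1, -⟩ := h0.blk
    exact absurd h1 (hnd L' k)
  | sev N V z h0 =>
    obtain ⟨L', k, -, h1, -⟩ := h0.blk
    exact absurd h1 (hnd L' k)
  | fiv U φ e h0 =>
    obtain ⟨L', k, -, h1, -⟩ := h0.blk₁
    exact absurd h1 (hnd L' k)
  | lin L₁ q₁ h0 => exact Or.inl (le_NV c h hX h0.blk h0.le)
  | bc L₁ h0 => exact Or.inr (h0.gen.trans (sup_le (inf_le_right.trans le_sup_left) (inf_le_right.trans hJ)))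

/-- `C_G(Ω₁Z(S)) ≰ N_G(V)` -/
theorem notle (c : Cx S) (h : LBlk (bau (S : Subgroup G)) L q)
    (hnd : ∀ (L' : Subgroup G) (k : ℕ), ¬ IsDBlk (bau (S : Subgroup G)) L' k) :
    ¬ centralizer (zc (S : Subgroup G) : Set G) ≤ normalizer (vl (bau (S : Subgroup G)) L : Set G) := by
  intro h1
  obtain ⟨X, hX, hS, h2⟩ := c.nu _ (vl_isTwoLocal h) (S_V c h)
  rcases cases c h hnd hX hS with h3 | h3
  · exact h2 h3
  · exact h2 (h3.trans (sup_le h1 (nb_V c h)))

/-- `C_{Z_J}(L) = 1` -/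
theorem rl_eq_bot (c : Cx S) (h : LBlk (bau (S : Subgroup G)) L q)
    (hnd : ∀ (L' : Subgroup G) (k : ℕ), ¬ IsDBlk (bau (S : Subgroup G)) L' k) :
    rl (bau (S : Subgroup G)) L = ⊥ := by
  have hf : Fact (Nat.Prime 2) := ⟨Nat.prime_two⟩
  by_contra hR
  have hRS : rl (bau (S : Subgroup G)) L ≤ (S : Subgroup G) :=
    (COneBlk.rl_le_zc _ _).trans ((ZN.zc_le _).trans (ChoiceBase.bau_le _))
  have h3 := PLocal.OffenderStep.inf_centralizer_ne_bot (rl (bau (S : Subgroup G)) L) (S : Subgroup G)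
    (S.isPGroup'.to_le hRS) S.isPGroup' ((RedE.S_nb S).trans (nb_R c h)) hR
  obtain ⟨⟨u, hu⟩, hu1⟩ := Subgroup.ne_bot_iff_exists_ne_one.mp h3
  have hu0 : u ≠ 1 := fun h0 => hu1 (Subtype.ext h0)
  have hu4 : u ∈ zc (bau (S : Subgroup G)) := COneBlk.rl_le_zc _ _ hu.1
  have hu5 : u ∈ zc (S : Subgroup G) := ChoiceBase.mem_zc.2 ⟨hRS hu.1, (ChoiceBase.mem_zc.1 hu4).2.1,
    fun y hy => mem_centralizer_iff.1 hu.2 y hy⟩
  have hu2 : u * u = 1 := by
    rw [← pow_two]; exact zc_sq hu5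
  have hX : IsTwoLocal (centralizer ({u} : Set G)) := Geo.isTwoLocal_centralizer hu2 hu0
  have hL : L ≤ centralizer ({u} : Set G) := fun l hl => by
    rw [mem_centralizer_singleton_iff]
    exact COneBlk.rl_comm hu.1 hl
  refine notle c h hnd (le_trans ?_ (le_NV c h hX h hL))
  exact centralizer_le (Set.singleton_subset_iff.2 hu5)

/-- `V_L = [V_L, L]` -/
theorem zl_eq_vl (c : Cx S) (h : LBlk (bau (S : Subgroup G)) L q)
    (hnd : ∀ (L' : Subgroup G) (k : ℕ), ¬ IsDBlk (bau (S : Subgroup G)) L' k) :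
    zl (bau (S : Subgroup G)) L = vl (bau (S : Subgroup G)) L := by
  apply le_antisymm _ (Block.vl_le_zl _ _)
  have h1 := RedLBlk.irr h (Block.vl_le_zl _ _)
    (fun l hl p hp => (mem_normalizer_iff.1 (ZN.le_normalizer_vl (bau (S : Subgroup G)) L hl) p).1 hp)
    (RedLinX.vl_not_le_rl h)
  rwa [rl_eq_bot c h hnd, sup_bot_eq] at h1

end two

/-- **(E_q)**: the output of 7.1. -/
structure EqOne (S : Sylow 2 G) (L V : Subgroup G) (q : ℕ) : Prop where
  cx : Cx S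
  blk : LBlk (bau (S : Subgroup G)) L q
  vl_eq : vl (bau (S : Subgroup G)) L = V
  zl_eq : zl (bau (S : Subgroup G)) L = V
  rl_eq : rl (bau (S : Subgroup G)) L = ⊥
  sq : ∀ v ∈ V, v * v = 1
  comm : ∀ v ∈ V, ∀ w ∈ V, v * w = w * v
  card : Nat.card V = q ^ 2
  card_zc : Nat.card (zc (bau (S : Subgroup G))) = q
  zc_le : zc (bau (S : Subgroup G)) ≤ V
  nb_V : normalizer (bau (S : Subgroup G) : Set G) ≤ normalizer (V : Set G)
  S_V : (S : Subgroup G) ≤ normalizer (V : Set G)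
  local_V : IsTwoLocal (normalizer (V : Set G))
  /-- all `SL₂`-blocks over `B` have the module `V` -/
  only : ∀ (L' : Subgroup G) (q' : ℕ), LBlk (bau (S : Subgroup G)) L' q' → zl (bau (S : Subgroup G)) L' = V ∧
    vl (bau (S : Subgroup G)) L' = V ∧ rl (bau (S : Subgroup G)) L' = ⊥ ∧ q' = q
  nodih : ∀ (L' : Subgroup G) (k : ℕ), ¬ IsDBlk (bau (S : Subgroup G)) L' k
  /-- a 2-local with an `SL₂`-block over `B` normalises `V` -/
  le_NV : ∀ X : Subgroup G, IsTwoLocal X → ∀ (L' : Subgroup G) (q' : ℕ), LBlk (bau (S : Subgroup G)) L' q' →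
    L' ≤ X → X ≤ normalizer (V : Set G)
  /-- `L' C_X(V)` is normal in `X` -/
  nrm : ∀ X : Subgroup G, IsTwoLocal X → ∀ (L' : Subgroup G) (q' : ℕ), LBlk (bau (S : Subgroup G)) L' q' →
    L' ≤ X → X ≤ normalizer ((L' ⊔ (X ⊓ centralizer (V : Set G)) : Subgroup G) : Set G)
  cases : ∀ X : Subgroup G, IsTwoLocal X → (S : Subgroup G) ≤ X → X ≤ normalizer (V : Set G) ∨
    X ≤ centralizer (zc (S : Subgroup G) : Set G) ⊔ normalizer (bau (S : Subgroup G) : Set G)
  notle : ¬ centralizer (zc (S : Subgroup G) : Set G) ≤ normalizer (V : Set G)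

/-- **7.1** -/
theorem eqOne (c : Cx S) {L : Subgroup G} {q : ℕ} (h : LBlk (bau (S : Subgroup G)) L q)
    (hnd : ∀ (L' : Subgroup G) (k : ℕ), ¬ IsDBlk (bau (S : Subgroup G)) L' k) :
    EqOne S L (vl (bau (S : Subgroup G)) L) q := by
  have hz := zl_eq_vl c h hnd
  have hr := rl_eq_bot c h hnd
  have h1 : Nat.card (zc (bau (S : Subgroup G))) = q := by
    have h2 := h.rl_index
    rwa [hr, relIndex_bot_left] at h2
  have h3 := COneLinB.card_mul_relIndex (COneBlk.zc_le_zl (bau (S : Subgroup G)) L)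
  rw [h.zl_index, h1, hz] at h3
  exact
  { cx := c
    blk := h
    vl_eq := rfl
    zl_eq := hz
    rl_eq := hr
    sq := fun v hv => h.zl_sq v (by rw [hz]; exact hv)
    comm := fun v hv w hw => h.zl_comm v (by rw [hz]; exact hv) w (by rw [hz]; exact hw)
    card := by rw [← h3, pow_two]
    card_zc := h1
    zc_le := by rw [← hz]; exact COneBlk.zc_le_zl _ _
    nb_V := nb_V c h
    S_V := S_V c h
    local_V := vl_isTwoLocal h
    only := fun L' q' h' => by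
      obtain ⟨e1, e2, e3, e4⟩ := same c h h'
      exact ⟨by rw [← e1]; exact hz, e2.symm, by rw [← e3]; exact hr, e4.symm⟩
    nodih := hnd
    le_NV := fun X hX L' q' h' hLX => le_NV c h hX h' hLX
    nrm := fun X hX L' q' h' hLX => by
      have h4 := (vl_eq_of_local c hX h' h' hLX hLX).2.2
      rwa [← (same c h h').2.1] at h4
    cases := fun X hX hS => cases c h hnd hX hS
    notle := notle c h hnd }

end Cfsg.Agent.OddCyclic.RedU
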