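import Cfsg.Agent.OddCyclic.RedEGeo
import Cfsg.Agent.OddCyclic.RedU
import Cfsg.Agent.OddCyclic.EN.Bb

/-!
# S0342, (C2), (E1*): the input of (B-b)

`bb` : (E1*) with `ws V z` abelian gives `EN.BbDefs.Bb S V z`.
-/

set_option autoImplicit false
set_option linter.unusedSectionVars false

namespace Cfsg.Agent.OddCyclic.RedEBb

open Subgroup Cfsg Cfsg.Agent.ZN Cfsg.Agent.MinSimple Cfsg.Agent.MinSimple.DBlkApi
open Cfsg.Agent.MinSimple.Geo (ws kq)
open Cfsg.Agent.OddCyclic.COneDefs (LBlk)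
open Cfsg.Agent.OddCyclic.RedX (mod Loc)
open Cfsg.Agent.OddCyclic.RedTy
open Cfsg.Agent.OddCyclic.RedE
open Cfsg.Agent.OddCyclic.EN.BbDefs (vx IsStar Bb)

universe u

variable {G : Type u} [Group G]

/-- an automorphism of prime order `p ≥ 5` of a group of order dividing `8` has no nontrivial fixed point -/
theorem aut_fix {N : Type*} [Group N] [Finite N] (h8 : Nat.card N ∣ 8) {ψ : MulAut N} {p : ℕ} (hp : p.Prime)
    (h5 : 5 ≤ p) (ho : orderOf ψ = p) {z : N} (hz : z ≠ 1) : ψ z ≠ z := by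
  intro hf
  have hpf : Fact p.Prime := ⟨hp⟩
  let F : Subgroup N := (ψ : N →* N).eqLocus (MonoidHom.id N)
  have hF : ∀ n : N, n ∈ F ↔ ψ n = n := fun n => Iff.rfl
  have hP : IsPGroup p (zpowers ψ) := by
    rw [IsPGroup.iff_card]
    exact ⟨1, by rw [Nat.card_zpowers, ho, pow_one]⟩
  have h1 := hP.card_modEq_card_fixedPoints N
  have h2 : MulAction.fixedPoints (zpowers ψ) N = (F : Set N) := by
    ext n
    constructor
    · intro h
      exact h ⟨ψ, mem_zpowers ψ⟩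
    · rintro h ⟨g, hg⟩
      obtain ⟨k, rfl⟩ := mem_zpowers_iff.1 hg
      change (ψ ^ k) n = n
      have h3 : ψ ∈ MulAction.stabilizer (MulAut N) n := h
      exact zpow_mem h3 k
  rw [h2] at h1
  have h3 : Nat.card F ∣ Nat.card N := card_subgroup_dvd_card F
  have h4 : Nat.card F ≠ 1 := by
    intro h
    have h5 : F = ⊥ := Subgroup.card_eq_one.1 h
    have : z ∈ F := hf
    rw [h5] at this
    exact hz (mem_bot.1 this)
  have h6 : Nat.card F ≠ Nat.card N := by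
    intro h
    have h5' : F = ⊤ := Subgroup.eq_top_of_card_eq F h
    have h7 : ψ = 1 := by
      ext n
      have : n ∈ F := by rw [h5']; exact mem_top n
      exact this
    rw [h7, orderOf_one] at ho
    exact hp.one_lt.ne ho
  have h7 : (Nat.card N) ≡ (Nat.card F) [MOD p] := h1
  have h8' : Nat.card N = 1 ∨ Nat.card N = 2 ∨ Nat.card N = 4 ∨ Nat.card N = 8 := by
    have : Nat.card N ∈ Nat.divisors 8 := Nat.mem_divisors.2 ⟨h8, by norm_num⟩
    have h9 : Nat.divisors 8 = {1, 2, 4, 8} := by decide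
    rw [h9] at this
    simpa using this
  have h9 : Nat.card F = 1 ∨ Nat.card F = 2 ∨ Nat.card F = 4 ∨ Nat.card F = 8 := by
    have : Nat.card F ∈ Nat.divisors 8 := Nat.mem_divisors.2 ⟨h3.trans h8, by norm_num⟩
    have h9 : Nat.divisors 8 = {1, 2, 4, 8} := by decide
    rw [h9] at this
    simpa using this
  have h10 : p ∣ Nat.card N - Nat.card F := (Nat.modEq_iff_dvd' (Nat.le_of_dvd Nat.card_pos h3)).1 h7.symm
  have h11 : Nat.card F ≤ Nat.card N := Nat.le_of_dvd Nat.card_pos h3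
  have h12 := Nat.le_of_dvd (by omega) h10
  rcases h8' with e1 | e1 | e1 | e1 <;> rcases h9 with e2 | e2 | e2 | e2 <;> rw [e1, e2] at h10 h12 <;>
    rw [e1] at h3 h6 h11 <;> rw [e2] at h3 h4 h6 h11 <;> try omega
  · have : p = 5 ∨ p = 6 := by omega
    rcases this with rfl | rfl
    · revert h10; decide
    · revert hp; decide

/-- `c` centralises an involution of `N`, `|N| ≤ 8`, and normalises `N`: some `c^(2^i 3^j)` centralises `N` -/
theorem pow_mem_cent [Finite G] {N : Subgroup G} (h8 : Nat.card N ∣ 8) {c z : G} (hc : c ∈ normalizer (N : Set G))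
    (hz : z ∈ N) (hz1 : z ≠ 1) (hcz : c * z = z * c) :
    ∃ i j : ℕ, c ^ (2 ^ i * 3 ^ j) ∈ centralizer (N : Set G) := by
  let φ : MulAut N := N.normalizerMonoidHom ⟨c, hc⟩
  have hm : orderOf φ ≠ 0 := (orderOf_pos φ).ne'
  obtain ⟨i, a, ha, hia⟩ := Nat.exists_eq_pow_mul_and_not_dvd hm 2 (by norm_num)
  have ha0 : a ≠ 0 := by rintro rfl; exact ha (dvd_zero 2)
  obtain ⟨j, b, hb, hjb⟩ := Nat.exists_eq_pow_mul_and_not_dvd ha0 3 (by norm_num)
  have hb0 : b ≠ 0 := by rintro rfl; exact hb (dvd_zero 3)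
  have ho : orderOf φ = 2 ^ i * 3 ^ j * b := by rw [hia, hjb, mul_assoc]
  refine ⟨i, j, ?_⟩
  have hx : orderOf (φ ^ (2 ^ i * 3 ^ j)) = b := by
    rw [orderOf_pow_of_dvd (by positivity) (by rw [ho]; exact dvd_mul_right _ _), ho,
      Nat.mul_div_cancel_left _ (by positivity)]
  have hb1 : b = 1 := by
    by_contra hb1
    have hp := Nat.minFac_prime hb1
    set p := b.minFac with hpd
    have hpb : p ∣ b := Nat.minFac_dvd b
    have h2 : p ≠ 2 := fun h => ha (by rw [hjb, ← h]; exact hpb.mul_left _)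
    have h3 : p ≠ 3 := fun h => hb (by rw [← h]; exact hpb)
    have h5 : 5 ≤ p := by
      have h6 := hp.two_le
      have h7 : p ≠ 4 := by intro h; rw [h] at hp; revert hp; decide
      omega
    have hψ : orderOf ((φ ^ (2 ^ i * 3 ^ j)) ^ (b / p)) = p := by
      rw [orderOf_pow_of_dvd (Nat.div_pos (Nat.le_of_dvd (Nat.pos_of_ne_zero hb0) hpb) hp.pos).ne'
        (by rw [hx]; exact Nat.div_dvd_of_dvd hpb), hx, Nat.div_div_self hpb hb0]
    have hz' : (⟨z, hz⟩ : N) ≠ 1 := fun h => hz1 (congrArg Subtype.val h)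
    refine aut_fix h8 hp h5 hψ hz' ?_
    have h6 : φ ∈ MulAction.stabilizer (MulAut N) (⟨z, hz⟩ : N) := by
      change φ ⟨z, hz⟩ = ⟨z, hz⟩
      apply Subtype.ext
      change c * z * c⁻¹ = z
      rw [hcz, mul_inv_cancel_right]
    exact pow_mem (pow_mem h6 _) _
  have h1 : φ ^ (2 ^ i * 3 ^ j) = 1 := by rw [← orderOf_eq_one_iff, hx, hb1]
  have h2 : (⟨c, hc⟩ : normalizer (N : Set G)) ^ (2 ^ i * 3 ^ j) ∈ N.normalizerMonoidHom.ker := by
    rw [MonoidHom.mem_ker, map_pow]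
    exact h1
  rw [normalizerMonoidHom_ker, mem_subgroupOf] at h2
  exact h2

variable [Finite G] {S : Sylow 2 G} {L V : Subgroup G} {k : ℕ} {z : G}

theorem z_mem (h : EOne S L V k z) : z ∈ V := by rw [← h.vl_eq]; exact h.pt.1

/-- a nontrivial 2-subgroup normalised by `S` meets `Ω₁Z(S)` -/
theorem exists_zc (S : Sylow 2 G) {D : Subgroup G} (hD : IsPGroup 2 D)
    (hS : (S : Subgroup G) ≤ normalizer (D : Set G)) (h1 : D ≠ ⊥) : ∃ u ∈ D, u ≠ 1 ∧ u ∈ zc (S : Subgroup G) := by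
  have hf : Fact (Nat.Prime 2) := ⟨Nat.prime_two⟩
  have h3 := PLocal.OffenderStep.inf_centralizer_ne_bot D (S : Subgroup G) hD S.isPGroup' hS h1
  have h3' : IsPGroup 2 (D ⊓ centralizer ((S : Subgroup G) : Set G) : Subgroup G) := hD.to_le inf_le_left
  have h4 : zc (D ⊓ centralizer ((S : Subgroup G) : Set G) : Subgroup G) ≠ ⊥ := ChoiceSit.zc_ne_bot h3' h3
  obtain ⟨⟨u, hu⟩, hu1⟩ := Subgroup.ne_bot_iff_exists_ne_one.mp h4
  obtain ⟨hu2, hu3, -⟩ := ChoiceBase.mem_zc.1 hu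
  refine ⟨u, hu2.1, fun h0 => hu1 (Subtype.ext h0), ChoiceBase.mem_zc.2 ⟨?_, hu3, fun y hy =>
    mem_centralizer_iff.1 hu2.2 y hy⟩⟩
  have h5 : D ≤ (S : Subgroup G) := by
    have h6 : IsPGroup 2 ((S : Subgroup G) ⊔ D : Subgroup G) := S.isPGroup'.to_sup_of_normal_right' hD hS
    have h7 := S.3 h6 le_sup_left
    exact le_sup_right.trans h7.le
  exact h5 hu2.1

theorem ws_sq {T : Subgroup G} (h : GeoC.GeoC T V z) (hab : ∀ a ∈ ws V z, ∀ b ∈ ws V z, a * b = b * a) {w : G}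
    (hw : w ∈ ws V z) : w * w = 1 := by
  let A : Subgroup G :=
    { carrier := {w | w ∈ ws V z ∧ w * w = 1}
      mul_mem' := by
        rintro a b ⟨ha, ha1⟩ ⟨hb, hb1⟩
        refine ⟨mul_mem ha hb, ?_⟩
        calc a * b * (a * b) = a * (b * a) * b := by group
          _ = (a * a) * (b * b) := by rw [hab b hb a ha]; group
          _ = 1 := by rw [ha1, hb1, one_mul]
      one_mem' := ⟨one_mem _, one_mul 1⟩
      inv_mem' := by
        rintro a ⟨ha, ha1⟩
        refine ⟨inv_mem ha, ?_⟩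
        have : a⁻¹ * a⁻¹ = (a * a)⁻¹ := by group
        rw [this, ha1, inv_one] }
  refine (Geo.ws_le (U := A) (fun L hL x hx => ⟨Geo.le_ws hL hx, ?_⟩) hw).2
  obtain ⟨c, hc, rfl⟩ := h.exists_of_mem_lines hL
  rw [Geo.mem_cj] at hx
  have := h.sq _ hx
  have e : x * x = c * (c⁻¹ * x * c * (c⁻¹ * x * c)) * c⁻¹ := by group
  rw [e, this]; group

/-- a block in `X` puts `V` into `⟨z^X⟩` -/
theorem V_le_vx (h : EOne S L V k z) {X L' : Subgroup G} {k' : ℕ} (hL : L' ≤ X)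
    (hb : IsDBlk (bau (S : Subgroup G)) L' k') (hv : vl (bau (S : Subgroup G)) L' = V) : V ≤ vx X z := by
  intro v hvV
  by_cases hv1 : v = 1
  · rw [hv1]; exact one_mem _
  have hzV := z_mem h
  rw [← hv] at hvV hzV
  obtain ⟨l, hl, hlz⟩ := trans_of_blk hb hzV hvV h.pt.2.2 hv1
  exact subset_closure ⟨l, hL hl, hlz.symm⟩

theorem vx_le {X W : Subgroup G} (hX : X ≤ normalizer (W : Set G)) (hz : z ∈ W) : vx X z ≤ W := by
  rw [vx, closure_le]
  rintro y ⟨x, hx, rfl⟩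
  exact Four.conj_mem (hX hx) hz

/-- a block does not centralise `z` -/
theorem not_blk (h : EOne S L V k z) {X L' : Subgroup G} {k' : ℕ} (hX : X ≤ centralizer ({z} : Set G)) (hL : L' ≤ X)
    (hb : IsDBlk (bau (S : Subgroup G)) L' k') : False := by
  have hb' := hb
  rw [h.bau_eq] at hb'
  have hv := h.uniq _ _ hb'
  have h1 : IsPt (S : Subgroup G) L' z := ⟨by rw [hv]; exact z_mem h, h.pt.2⟩
  obtain ⟨l, hl, hlz⟩ := moves hb' h1
  exact hlz (Four.conj_eq_iff_comm.2 (mem_centralizer_singleton_iff.1 (hX (hL hl))))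

theorem isTwoLocal {U : Subgroup G} (hU : IsPGroup 2 U) (hU1 : U ≠ ⊥) : IsTwoLocal (normalizer (U : Set G)) :=
  ⟨U, hU, hU1, rfl⟩

/-- (tri*) -/
theorem tri (h : EOne S L V k z) {U : Subgroup G} (hU : IsPGroup 2 U) (hU1 : U ≠ ⊥)
    (hT : (S : Subgroup G) ≤ normalizer (U : Set G)) :
    normalizer (U : Set G) ≤ centralizer ({z} : Set G) ∨
    (V ≤ vx (normalizer (U : Set G)) z ∧ ∀ c ∈ normalizer (U : Set G), c ∈ centralizer ({z} : Set G) →
      ∃ i j : ℕ, c ^ (2 ^ i * 3 ^ j) ∈ centralizer ((vx (normalizer (U : Set G)) z : Subgroup G) : Set G)) := by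
  rcases h.cases _ (isTwoLocal hU hU1) hT with ⟨-, h1⟩ | h1 | ⟨N, h1⟩
  · exact Or.inl h1
  · right
    obtain ⟨L', k', hL, hb, hv⟩ := h1.blk
    refine ⟨V_le_vx h hL hb hv, fun c hc hcz => ?_⟩
    obtain ⟨i, j, hij⟩ := pow_mem_cent (N := V) (by rw [h.geoC.card_V]; norm_num) (h1.norm hc) (z_mem h) h.pt.2.2
      (mem_centralizer_singleton_iff.1 hcz)
    exact ⟨i, j, centralizer_le (vx_le h1.norm (z_mem h)) hij⟩
  · right
    obtain ⟨L', k', hL, hb, hv⟩ := h1.blk
    refine ⟨V_le_vx h hL hb hv, fun c hc hcz => ?_⟩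
    obtain ⟨i, j, hij⟩ := pow_mem_cent (N := N) (by rw [h1.card]) (h1.norm hc) (h1.VN h1.zV) h.pt.2.2
      (mem_centralizer_singleton_iff.1 hcz)
    exact ⟨i, j, centralizer_le (vx_le h1.norm (h1.VN h1.zV)) hij⟩

/-- `V` is the only four-group normalised by `S` on which `N_G` induces `S₃` -/
theorem four (h : EOne S L V k z) {W : Subgroup G} (h4 : Nat.card W = 4) (hsq : ∀ w ∈ W, w * w = 1)
    (hT : (S : Subgroup G) ≤ normalizer (W : Set G))
    (hg : ∃ g ∈ normalizer (W : Set G), g * z ≠ z * g) : W = V := by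
  have hW2 : IsPGroup 2 W := by
    rw [IsPGroup.iff_card]
    exact ⟨2, by rw [h4]; norm_num⟩
  have hW1 : W ≠ ⊥ := by
    rintro rfl
    rw [card_bot] at h4
    omega
  -- `z ∈ W`
  have hz : z ∈ W := by
    obtain ⟨u, hu, hu1, huz⟩ := exists_zc S hW2 hT hW1
    rw [h.zc_eq] at huz
    rw [zpowers_eq h.pt.sq] at huz
    rcases huz with rfl | rfl
    · exact absurd rfl hu1
    · exact hu
  obtain ⟨g, hg, hgz⟩ := hg
  have hVW : V ≤ W := by
    rcases h.cases _ (isTwoLocal hW2 hW1) hT with ⟨-, h1⟩ | h1 | ⟨N, h1⟩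
    · exact absurd (mem_centralizer_singleton_iff.1 (h1 hg)) hgz
    · obtain ⟨L', k', hL, hb, hv⟩ := h1.blk
      exact (V_le_vx h hL hb hv).trans (vx_le le_rfl hz)
    · obtain ⟨L', k', hL, hb, hv⟩ := h1.blk
      exact (V_le_vx h hL hb hv).trans (vx_le le_rfl hz)
  exact (Subgroup.eq_of_le_of_card_ge hVW (by rw [h4, h.geoC.card_V])).symm

/-- (red*): a 2-reduced normal subgroup of `C(z)` lies in `⟨z⟩` -/
theorem red_le (c : RedU.Cx S) (h : EOne S L V k z) {Y : Subgroup G} (hY : Y ≤ ws V z) (hws : IsPGroup 2 (ws V z))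
    (hsq : ∀ w ∈ ws V z, w * w = 1)
    (hn : centralizer ({z} : Set G) ≤ normalizer (Y : Set G))
    (hcore : ∀ D : Subgroup G, D ≤ centralizer ({z} : Set G) → centralizer ({z} : Set G) ≤ normalizer (D : Set G) →
      (∀ d ∈ D, ∃ k : ℕ, d ^ 2 ^ k ∈ centralizer (Y : Set G)) → D ≤ centralizer (Y : Set G)) :
    Y ≤ zpowers z := by
  set X := centralizer ({z} : Set G) with hX
  have hXl : IsTwoLocal X := Geo.isTwoLocal_centralizer h.pt.mul_self h.pt.2.2
  have hL : Loc X (S : Subgroup G) := loc_of h.char2 hXl h.S_cz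
  have hYX : Y ≤ X := hY.trans h.geoC.ws_le_centralizer
  have hY2 : IsPGroup 2 Y := hws.to_le hY
  have hYo : Y ≤ o2 X := ChoiceSit.le_o2 hY2 hYX hn
  have hoY : o2 X ≤ centralizer (Y : Set G) := by
    refine hcore _ (o2_le X) (le_normalizer_o2 X) fun d hd => ?_
    obtain ⟨k, hk⟩ := isPGroup_o2 X ⟨d, hd⟩
    refine ⟨k, ?_⟩
    have h1 : d ^ 2 ^ k = 1 := congrArg Subtype.val hk
    rw [h1]
    exact one_mem _
  have hYzc : Y ≤ zc (o2 X) := fun y hy => ChoiceBase.mem_zc.2 ⟨hYo hy, by rw [pow_two]; exact hsq y (hY hy),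
    fun t ht => by
      have := mem_centralizer_iff.1 (hoY ht) y hy
      exact this.symm⟩
  have hcore' : ∀ D : Subgroup G, D ≤ X → X ≤ normalizer (D : Set G) →
      (∀ d ∈ D, ∃ c ∈ centralizer (Y : Set G), ∃ t ∈ (S : Subgroup G), d = c * t) → D ≤ centralizer (Y : Set G) := by
    intro D hDX hD hd
    refine hcore D hDX hD fun d hdD => ?_
    obtain ⟨c', hc', t, ht, rfl⟩ := hd d hdD
    obtain ⟨k, hk⟩ := S.isPGroup' ⟨t, ht⟩
    have hk' : t ^ 2 ^ k = 1 := congrArg Subtype.val hk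
    refine ⟨k, ?_⟩
    have h1 : ∀ n : ℕ, ∃ d ∈ centralizer (Y : Set G), (c' * t) ^ n = d * t ^ n := by
      intro n
      induction n with
      | zero => exact ⟨1, one_mem _, by simp⟩
      | succ n ih =>
        obtain ⟨d, hd, he⟩ := ih
        have ht' : t ^ n ∈ normalizer (Y : Set G) := pow_mem (hn (h.S_cz ht)) n
        refine ⟨d * (t ^ n * c' * (t ^ n)⁻¹), mul_mem hd (Four.conj_mem (DBlkReduce.nc _ ht') hc'), ?_⟩
        rw [pow_succ, he, pow_succ]
        group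
    obtain ⟨d, hd, he⟩ := h1 (2 ^ k)
    rw [he, hk', mul_one]
    exact hd
  have hYC := yc_sup hL hYzc hn hcore'
  have hjY : jj (S : Subgroup G) ≤ centralizer (Y : Set G) := by
    cases c.ty _ _ _ (RedU.ne_top c hXl) hYC with
    | zero h0 =>
      exact h0.trans (centralizer_le (SetLike.coe_subset_coe.2 (le_sup_left : Y ≤ Y ⊔ mod X (S : Subgroup G))))
    | tri V' h1 =>
      obtain ⟨L', k', h2, h3, -⟩ := h1.blk
      exact (not_blk h le_rfl h2 h3).elim
    | sev N V' z' h1 =>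
      obtain ⟨L', k', h2, h3, -⟩ := h1.blk
      exact (not_blk h le_rfl h2 h3).elim
    | fiv U φ e h1 =>
      obtain ⟨L', k', h2, h3, -⟩ := h1.blk₁
      exact (not_blk h le_rfl h2 h3).elim
    | lin L' q h1 =>
      have h2 := h1.blk
      rw [h.bau_eq] at h2
      exact (h.nolin _ _ h2).elim
    | bc L' h1 => exact (h1.bau_ne h.bau_eq).elim
  intro y hy
  rw [← h.zj_eq]
  refine EmptyTI.mem_zj_of_comm S (by rw [pow_two]; exact hsq y (hY hy)) fun j hj => ?_
  exact (mem_centralizer_iff.1 (hjY hj) y hy).symm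

/-- **(E1\*) gives the input of (B-b).** -/
theorem bb (c : RedU.Cx S) (h : EOne S L V k z) (hab : ∀ a ∈ ws V z, ∀ b ∈ ws V z, a * b = b * a) :
    Bb (S : Subgroup G) V z where
  toGeoC := h.geoC
  ab := hab
  sec := c.sec
  nor := h.norm
  four := fun W h4 hsq hT hnc hg => four h h4 hsq hT hg
  tri := fun U hU hU1 hT => tri h hU hU1 hT
  red := fun Y hY hn hcore L' hL' _ _ _ => by
    have h1 : Y ≤ zpowers z := red_le c h hY (h.geoC.two.to_le h.geoC.ws_le_T) (fun w hw => ws_sq h.geoC hab hw) hn hcore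
    intro l hl
    refine mem_centralizer_iff.2 fun y hy => ?_
    have h2 := h1 hy
    rw [zpowers_eq h.pt.sq] at h2
    rcases h2 with rfl | rfl
    · rw [one_mul, mul_one]
    · exact (mem_centralizer_singleton_iff.1 (hL' hl)).symm

end Cfsg.Agent.OddCyclic.RedEBb
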