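import Cfsg.Agent.OddCyclic.T1Defs
import Cfsg.Agent.LieExceptional.CITBasic
import Cfsg.Agent.OddCyclic.T1Class2
import Cfsg.Agent.OddCyclic.T1Local
import Cfsg.Agent.OddCyclic.T1MinPar

/-!
# T1-L: step 4.2 of blueprints/S0342-T0eq1.md
-/

set_option autoImplicit false

namespace Cfsg.Agent.OddCyclic.T1Abel

open Cfsg.Agent.LieExceptional Cfsg.Agent.LieExceptional.CITDefs Cfsg.Agent.OddCyclic.T1Defs

universe u

variable {G : Type u} [Group G] [Finite G]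

omit [Finite G] in
theorem le_normalizer_of {A K : Subgroup G} (h : ∀ k ∈ K, ∀ a ∈ A, k * a * k⁻¹ ∈ A) :
    K ≤ Subgroup.normalizer (A : Set G) := by
  intro k hk
  rw [Subgroup.mem_normalizer_iff]
  intro x
  constructor
  · intro hx
    exact h k hk x hx
  · intro hx
    have := h k⁻¹ (K.inv_mem hk) _ hx
    have e : k⁻¹ * (k * x * k⁻¹) * k⁻¹⁻¹ = x := by group
    rwa [e] at this

omit [Finite G] in
theorem isSyl2_of_le {S P₂ : Subgroup G} (h : IsSyl2 (⊤ : Subgroup G) S) (hle : S ≤ P₂) : IsSyl2 P₂ S :=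
  ⟨hle, h.two, fun Y _ h2 h3 => h.max Y le_top h2 h3⟩

omit [Finite G] in
theorem Q_ne_bot {M P Q S P₂ Q₂ : Subgroup G} {q : ℕ} (h : CaseII M P Q S P₂ Q₂ q) : Q ≠ ⊥ := by
  obtain ⟨X, hX, hXM⟩ := h.max₁.1
  intro hQ
  apply hX
  rw [eq_bot_iff, ← hQ]
  exact h.t₁.o2.max X hXM.le hXM.two hXM.normal

omit [Finite G] in
theorem Q_le_S {M P Q S P₂ Q₂ : Subgroup G} {q : ℕ} (h : CaseII M P Q S P₂ Q₂ q) : Q ≤ S :=
  CITCommute.o2_le_syl h.t₁.o2 h.t₁.syl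

omit [Finite G] in
theorem Q₂_le_S {M P Q S P₂ Q₂ : Subgroup G} {q : ℕ} (h : CaseII M P Q S P₂ Q₂ q) : Q₂ ≤ S :=
  CITCommute.o2_le_syl h.o2 (isSyl2_of_le h.sylow h.le)

/-- `N_G(V) ≤ M` -/
theorem normalizer_V_le {M P Q S P₂ Q₂ : Subgroup G} {q : ℕ} (h : CaseII M P Q S P₂ Q₂ q) :
    Subgroup.normalizer (omegaZ Q : Set G) ≤ M := by
  refine h.uniq (omegaZ Q) (CITBasic.omegaZ_ne_bot h.t₁.o2.two (Q_ne_bot h)) ?_ ?_
  · exact h.t₁.o2.two.to_le (fun v hv => hv.1)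
  · intro p hp a ha
    exact CITCommute.omegaZ_conj (M := P) h.t₁.ltype.o2.normal hp ha

theorem centralizer_V_le {M P Q S P₂ Q₂ : Subgroup G} {q : ℕ} (h : CaseII M P Q S P₂ Q₂ q) :
    Subgroup.centralizer (omegaZ Q : Set G) ≤ M := by
  refine le_trans (le_normalizer_of ?_) (normalizer_V_le h)
  intro k hk a ha
  have := (Subgroup.mem_centralizer_iff.1 hk) a ha
  have e : k * a * k⁻¹ = a := by rw [← this]; group
  rw [e]; exact ha

theorem not_abelian_of {M P Q S P₂ Q₂ : Subgroup G} {q : ℕ} (h : CaseII M P Q S P₂ Q₂ q) (hV : omegaZ Q ≤ Q₂)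
    (hE : ∀ g ∈ P₂, ∀ v ∈ omegaZ Q, ∀ w ∈ omegaZ Q, v * (g * w * g⁻¹) = (g * w * g⁻¹) * v)
    (hinv : ∀ A : Subgroup G, A ≤ Q → (∀ t ∈ S, ∀ a ∈ A, t * a * t⁻¹ ∈ A) →
      ∀ p ∈ P, ∀ c ∈ Q ⊓ Subgroup.centralizer (A : Set G), p * c * p⁻¹ ∈ Q ⊓ Subgroup.centralizer (A : Set G))
    (hdich : ∀ N : Subgroup G, NormalIn P₂ N → N ⊓ S ≤ Q₂ ∨ P₂ = N ⊔ S)
    (hcent : ∀ t ∈ S, (∀ v ∈ omegaZ Q, t * v = v * t) → t ∈ Q) : False := by
  have hQ2S := Q₂_le_S h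
  have hQS := Q_le_S h
  set E : Subgroup G := Subgroup.closure {x | ∃ g ∈ P₂, ∃ v ∈ omegaZ Q, x = g * v * g⁻¹} with hEdef
  have hVE : omegaZ Q ≤ E := by
    intro v hv
    exact Subgroup.subset_closure ⟨1, P₂.one_mem, v, hv, by group⟩
  have hEn : ∀ g ∈ P₂, ∀ x ∈ E, g * x * g⁻¹ ∈ E := by
    intro g hg x hx
    have : E ≤ Subgroup.comap (MulAut.conj g).toMonoidHom E := by
      nth_rewrite 1 [hEdef]
      rw [Subgroup.closure_le]
      rintro y ⟨k, hk, v, hv, rfl⟩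
      show MulAut.conj g (k * v * k⁻¹) ∈ E
      rw [MulAut.conj_apply]
      exact Subgroup.subset_closure ⟨g * k, P₂.mul_mem hg hk, v, hv, by group⟩
    exact this hx
  have hEQ2 : E ≤ Q₂ := by
    rw [hEdef, Subgroup.closure_le]
    rintro y ⟨k, hk, v, hv, rfl⟩
    exact h.o2.normal k hk v (hV hv)
  -- `E` centralises `V`
  have hEV : ∀ x ∈ E, ∀ v ∈ omegaZ Q, x * v = v * x := by
    intro x hx v hv
    have : E ≤ Subgroup.centralizer ({v} : Set G) := by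
      rw [hEdef, Subgroup.closure_le]
      rintro y ⟨k, hk, w, hw, rfl⟩
      show k * w * k⁻¹ ∈ Subgroup.centralizer ({v} : Set G)
      rw [Subgroup.mem_centralizer_singleton_iff]
      exact (hE k hk v hv w hw).symm
    have h1 := this hx
    rw [Subgroup.mem_centralizer_singleton_iff] at h1
    exact h1
  have hEQ : E ≤ Q := fun x hx => hcent x (hQ2S (hEQ2 hx)) (hEV x hx)
  -- `C = C_Q(E)`
  set C : Subgroup G := Q ⊓ Subgroup.centralizer (E : Set G) with hC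
  have hCn := hinv E hEQ (fun t ht a ha => hEn t (h.le ht) a ha)
  have hVC : omegaZ Q ≤ C := by
    intro v hv
    refine Subgroup.mem_inf.2 ⟨hv.1, ?_⟩
    rw [Subgroup.mem_centralizer_iff]
    intro x hx
    exact hEV x hx v hv
  have hC1 : C ≠ ⊥ := by
    intro h0
    apply CITBasic.omegaZ_ne_bot h.t₁.o2.two (Q_ne_bot h)
    rw [eq_bot_iff, ← h0]
    exact hVC
  have hNC : Subgroup.normalizer (C : Set G) ≤ M :=
    h.uniq C hC1 (h.t₁.o2.two.to_le inf_le_left) hCn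
  -- `N = C_{P₂}(E)`
  have hcn : ∀ m ∈ P₂, ∀ n ∈ Subgroup.centralizer (E : Set G), m * n * m⁻¹ ∈ Subgroup.centralizer (E : Set G) := by
    intro m hm n hn
    rw [Subgroup.mem_centralizer_iff] at hn ⊢
    intro x hx
    have h1 := hn (m⁻¹ * x * m) (by
      have := hEn m⁻¹ (P₂.inv_mem hm) x hx
      rwa [inv_inv] at this)
    calc x * (m * n * m⁻¹) = m * ((m⁻¹ * x * m) * n) * m⁻¹ := by group
      _ = m * (n * (m⁻¹ * x * m)) * m⁻¹ := by rw [h1]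
      _ = m * n * m⁻¹ * x := by group
  have hN : NormalIn P₂ (P₂ ⊓ Subgroup.centralizer (E : Set G)) := by
    refine ⟨inf_le_left, fun m hm n hn => ?_⟩
    exact Subgroup.mem_inf.2 ⟨P₂.mul_mem (P₂.mul_mem hm hn.1) (P₂.inv_mem hm), hcn m hm n hn.2⟩
  rcases hdich _ hN with h1 | h1
  · -- `C = C_{Q₂}(E)` is normal in `P₂`
    have hCC : C = Q₂ ⊓ Subgroup.centralizer (E : Set G) := by
      apply le_antisymm
      · intro x hx
        exact Subgroup.mem_inf.2 ⟨h1 (Subgroup.mem_inf.2 ⟨Subgroup.mem_inf.2 ⟨h.le (hQS hx.1), hx.2⟩, hQS hx.1⟩),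
          hx.2⟩
      · intro x hx
        refine Subgroup.mem_inf.2 ⟨?_, hx.2⟩
        apply hcent x (hQ2S hx.1)
        intro v hv
        exact ((Subgroup.mem_centralizer_iff.1 hx.2) v (hVE hv)).symm
    apply h.not_le
    refine le_trans (le_normalizer_of ?_) hNC
    intro k hk a ha
    rw [hCC] at ha ⊢
    exact Subgroup.mem_inf.2 ⟨h.o2.normal k hk a ha.1, hcn k hk a ha.2⟩
  · apply h.not_le
    rw [h1]
    refine sup_le ?_ h.t₁.syl.le
    intro x hx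
    apply centralizer_V_le h
    rw [Subgroup.mem_centralizer_iff]
    intro v hv
    exact (Subgroup.mem_centralizer_iff.1 hx.2) v (hVE hv)

/-- **T1-L** -/
theorem not_abelian {M P Q S P₂ Q₂ : Subgroup G} {q : ℕ} (h : CaseII M P Q S P₂ Q₂ q) (hV : omegaZ Q ≤ Q₂)
    (hE : ∀ g ∈ P₂, ∀ v ∈ omegaZ Q, ∀ w ∈ omegaZ Q, v * (g * w * g⁻¹) = (g * w * g⁻¹) * v) : False :=
  not_abelian_of h hV hE (fun _ hA hAT => T1Class2.centralizer_invariant h.t₁ hA hAT)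
    (fun _ hN => T1MinPar.normal_dichotomy h hN) (T1Local.cent_V h.t₁.ltype (Q_ne_bot h))

end Cfsg.Agent.OddCyclic.T1Abel
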