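import Mathlib
import Cfsg.Prelude.Def_Involutions
import Cfsg.Agent.OddCyclic.T1Defs
import Cfsg.Agent.LieExceptional.CITGlobal

/-!
# S0342, T₀ = 1, piece H (2.1): selection of the pair of maximal local subgroups (helper448)
-/

set_option autoImplicit false

namespace Cfsg.Agent.OddCyclic.T1Select

open Cfsg.Agent.LieExceptional.CITDefs Cfsg.Agent.OddCyclic.T1Defs
open Cfsg.Agent.LieExceptional.CITGlobal
open Cfsg.Agent.LieExceptional.CITGlobalBasic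

universe u

variable {G : Type u} [Group G] [Finite G]

/-- a maximal 2-local subgroup of a non-abelian simple group is proper -/
theorem ne_top [IsSimpleGroup G] (hnab : ∃ a b : G, a * b ≠ b * a) {M : Subgroup G} (hM : IsMaxLocal M) :
    M ≠ ⊤ := by
  intro htop
  obtain ⟨X, hX1, hX, hN⟩ := exists_o2 hM
  have hXn : X.Normal := by
    rw [← Subgroup.normalizer_eq_top_iff, hN, htop]
  rcases hXn.eq_bot_or_eq_top with h | h
  · exact hX1 h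
  · have hG2 : IsPGroup 2 (⊤ : Subgroup G) := h ▸ hX.two
    have hG2' : IsPGroup 2 G := hG2.of_equiv Subgroup.topEquiv
    have hcen : Subgroup.center G ≠ ⊥ := by
      have : Nontrivial G := inferInstance
      have := hG2'.center_nontrivial
      intro e
      rw [e] at this
      exact not_subsingleton _ (inferInstance : Subsingleton (⊥ : Subgroup G))
    rcases (inferInstance : (Subgroup.center G).Normal).eq_bot_or_eq_top with h' | h'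
    · exact hcen h'
    · obtain ⟨a, b, hab⟩ := hnab
      apply hab
      have ha : a ∈ Subgroup.center G := by rw [h']; exact Subgroup.mem_top a
      exact ((Subgroup.mem_center_iff.1 ha) b).symm

/-- the selection for a 2-subgroup of maximal order in two different maximal local subgroups -/
theorem select_pair (h : ∃ M₁ M₂ T : Subgroup G, IsMaxLocal M₁ ∧ IsMaxLocal M₂ ∧ M₁ ≠ M₂ ∧
    T ≤ M₁ ∧ T ≤ M₂ ∧ IsPGroup 2 T ∧ T ≠ ⊥) :
    ∃ M₁ M₂ T : Subgroup G, IsMaxLocal M₁ ∧ IsMaxLocal M₂ ∧ M₁ ≠ M₂ ∧ IsSyl2 M₁ T ∧ IsSyl2 M₂ T ∧ T ≠ ⊥ ∧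
      (IsSyl2 ⊤ T ∨ ((∃ g : G, M₂ = M₁.map (MulAut.conj g).toMonoidHom) ∧ UniqueAbove T)) := by
  classical
  let s : Set (Subgroup G) := {T | ∃ M₁ M₂ : Subgroup G, IsMaxLocal M₁ ∧ IsMaxLocal M₂ ∧ M₁ ≠ M₂ ∧
    T ≤ M₁ ∧ T ≤ M₂ ∧ IsPGroup 2 T ∧ T ≠ ⊥}
  have hs : s.Nonempty := by
    obtain ⟨M₁, M₂, T, h⟩ := h
    exact ⟨T, M₁, M₂, h⟩
  obtain ⟨T, hTs, hTmax⟩ := Set.exists_max_image s (fun T => Nat.card T) (Set.toFinite s) hs
  obtain ⟨M₁, M₂, hM₁, hM₂, hne, hT₁, hT₂, hT2, hTb⟩ := hTs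
  -- (**)
  have huniq : UniqueAbove T := by
    intro R hR hTR M M' hM hM' hRM hRM'
    by_contra hne'
    have hRb : R ≠ ⊥ := by
      intro e; rw [e] at hTR; exact not_lt_bot hTR
    have h1 := hTmax R ⟨M, M', hM, hM', hne', hRM, hRM', hR, hRb⟩
    have h2 : Nat.card T < Nat.card R :=
      Set.ncard_lt_ncard (s := (T : Set G)) (t := (R : Set G)) hTR (Set.toFinite _)
    exact absurd h1 (not_le.2 h2)
  by_cases hsyl : IsSyl2 ⊤ T
  · have hs' : ∀ M : Subgroup G, T ≤ M → IsSyl2 M T := fun M hM =>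
      ⟨hM, hT2, fun Y _ hY2 hTY => hsyl.max Y le_top hY2 hTY⟩
    exact ⟨M₁, M₂, T, hM₁, hM₂, hne, hs' _ hT₁, hs' _ hT₂, hTb, Or.inl hsyl⟩
  obtain ⟨M₃, hM₃N, hM₃⟩ := exists_maxLocal_ge_normalizer hT2 hTb
  -- if `T` is not Sylow in `M` then `M = M₃`
  have key : ∀ M : Subgroup G, IsMaxLocal M → T ≤ M → ¬ IsSyl2 M T → M = M₃ := by
    intro M hM hTM hns
    obtain ⟨R, hTR, hRM, hR2, hRN⟩ := exists_bigger hTM hT2 hns
    exact huniq R hR2 hTR M M₃ hM hM₃ hRM (hRN.trans hM₃N)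
  have fin : ∀ M : Subgroup G, IsMaxLocal M → IsSyl2 M T →
      ∃ M₁ M₂ T : Subgroup G, IsMaxLocal M₁ ∧ IsMaxLocal M₂ ∧ M₁ ≠ M₂ ∧ IsSyl2 M₁ T ∧ IsSyl2 M₂ T ∧ T ≠ ⊥ ∧
      (IsSyl2 ⊤ T ∨ ((∃ g : G, M₂ = M₁.map (MulAut.conj g).toMonoidHom) ∧ UniqueAbove T)) := by
    intro M hM hS
    obtain ⟨R, hTR, -, hR2, hRN⟩ := exists_bigger (M := ⊤) le_top hT2 hsyl
    obtain ⟨g, hgR, hgT⟩ := SetLike.exists_of_lt hTR
    have hgM : g ∉ M := by
      intro hgM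
      have h1 := hS.max (R ⊓ M) inf_le_right (hR2.to_le inf_le_left) (le_inf hTR.le hS.le)
      exact hgT (h1 ▸ ⟨hgR, hgM⟩)
    have hcT : cj g T = T := cj_eq_of_mem_normalizer (hRN hgR)
    have hS2 : IsSyl2 (cj g M) T := by
      have := isSyl2_cj (g := g) hS
      rwa [hcT] at this
    exact ⟨M, cj g M, T, hM, isMaxLocal_cj hM, (cj_ne_self hM hgM).symm, hS, hS2, hTb,
      Or.inr ⟨⟨g, rfl⟩, huniq⟩⟩
  by_cases h1 : IsSyl2 M₁ T
  · exact fin M₁ hM₁ h1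
  · by_cases h2 : IsSyl2 M₂ T
    · exact fin M₂ hM₂ h2
    · exact absurd ((key M₁ hM₁ hT₁ h1).trans (key M₂ hM₂ hT₂ h2).symm) hne

theorem select [IsSimpleGroup G] (hnab : ∃ a b : G, a * b ≠ b * a) (h2 : 2 ∣ Nat.card G) :
    (∃ M : Subgroup G, Cfsg.IsStronglyEmbedded M) ∨
    ∃ M₁ M₂ T : Subgroup G, IsMaxLocal M₁ ∧ IsMaxLocal M₂ ∧ M₁ ≠ M₂ ∧ IsSyl2 M₁ T ∧ IsSyl2 M₂ T ∧ T ≠ ⊥ ∧
      (IsSyl2 ⊤ T ∨ ((∃ g : G, M₂ = M₁.map (MulAut.conj g).toMonoidHom) ∧ UniqueAbove T)) := by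
  classical
  by_cases hsel : ∃ M₁ M₂ T : Subgroup G, IsMaxLocal M₁ ∧ IsMaxLocal M₂ ∧ M₁ ≠ M₂ ∧
    T ≤ M₁ ∧ T ≤ M₂ ∧ IsPGroup 2 T ∧ T ≠ ⊥
  · exact Or.inr (select_pair hsel)
  left
  obtain ⟨t, ht⟩ := exists_prime_orderOf_dvd_card' 2 h2
  have hT2 : IsPGroup 2 (Subgroup.zpowers t) :=
    IsPGroup.of_card (n := 1) (by rw [Nat.card_zpowers, ht, pow_one])
  have hTb : Subgroup.zpowers t ≠ ⊥ := by
    intro h
    rw [Subgroup.zpowers_eq_bot] at h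
    rw [h, orderOf_one] at ht
    omega
  obtain ⟨M, hMN, hM⟩ := exists_maxLocal_ge_normalizer hT2 hTb
  refine ⟨M, ne_top hnab hM, ?_, ?_⟩
  · have h1 : Subgroup.zpowers t ≤ M := Subgroup.le_normalizer.trans hMN
    have h3 := Subgroup.card_dvd_of_le h1
    rw [Nat.card_zpowers, ht] at h3
    exact even_iff_two_dvd.2 h3
  · intro g hg
    by_contra hodd
    rw [Nat.not_odd_iff_even] at hodd
    apply hsel
    obtain ⟨x, hx⟩ := exists_prime_orderOf_dvd_card' 2 hodd.two_dvd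
    refine ⟨M, cj g M, Subgroup.zpowers (x : G), hM, isMaxLocal_cj hM, (cj_ne_self hM hg).symm, ?_, ?_, ?_, ?_⟩
    · rw [Subgroup.zpowers_le]; exact x.2.1
    · rw [Subgroup.zpowers_le]; exact x.2.2
    · refine IsPGroup.of_card (n := 1) ?_
      rw [Nat.card_zpowers, Subgroup.orderOf_coe, hx, pow_one]
    · intro h
      rw [Subgroup.zpowers_eq_bot] at h
      have : x = 1 := Subtype.ext h
      rw [this, orderOf_one] at hx
      omega

end Cfsg.Agent.OddCyclic.T1Select
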