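import Mathlib
import Cfsg.Prelude.Def_Involutions
import Cfsg.Agent.OddCyclic.T1Defs
import Cfsg.Agent.OddCyclic.T1Structure
import Cfsg.Agent.LieExceptional.CITGlobal

/-!
# S0342, T₀ = 1, piece G (1.6): the maximal local subgroup over `P₁` (helper448)
-/

set_option autoImplicit false

namespace Cfsg.Agent.OddCyclic.T1Unique

open Cfsg.Agent.LieExceptional.CITDefs Cfsg.Agent.OddCyclic.T1Defs
open Cfsg.Agent.LieExceptional.CITGlobal
open Cfsg.Agent.LieExceptional.CITGlobalBasic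

universe u

section SL

variable {F : Type*} [Field F] [CharP F 2]

/-- the element `(1 1; 0 1)` of order 2 -/
def inv2 : Matrix.SpecialLinearGroup (Fin 2) F := ⟨!![1, 1; 0, 1], by simp [Matrix.det_fin_two]⟩

/-- the element `(0 1; 1 1)` of order 3 -/
def ord3 : Matrix.SpecialLinearGroup (Fin 2) F := ⟨!![0, 1; 1, 1], by
  rw [Matrix.det_fin_two]
  simp
  exact CharTwo.neg_eq 1⟩

theorem inv2_sq : (inv2 : Matrix.SpecialLinearGroup (Fin 2) F) ^ 2 = 1 := by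
  apply Subtype.ext
  have h2 : (1 : F) + 1 = 0 := CharTwo.add_self_eq_zero 1
  show (inv2 : Matrix.SpecialLinearGroup (Fin 2) F).1 ^ 2 = 1
  rw [pow_two]
  show (!![1, 1; 0, 1] : Matrix (Fin 2) (Fin 2) F) * !![1, 1; 0, 1] = 1
  rw [Matrix.mul_fin_two, Matrix.one_fin_two]
  simp [h2]

theorem inv2_ne : (inv2 : Matrix.SpecialLinearGroup (Fin 2) F) ≠ 1 := by
  intro h
  have h1 := congrArg (fun m : Matrix.SpecialLinearGroup (Fin 2) F => m.1 0 1) h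
  exact one_ne_zero (α := F) (by simpa [inv2] using h1)

theorem ord3_cube : (ord3 : Matrix.SpecialLinearGroup (Fin 2) F) ^ 3 = 1 := by
  apply Subtype.ext
  have h2 : (1 : F) + 1 = 0 := CharTwo.add_self_eq_zero 1
  show (ord3 : Matrix.SpecialLinearGroup (Fin 2) F).1 ^ 3 = 1
  rw [pow_succ, pow_two]
  show (!![0, 1; 1, 1] : Matrix (Fin 2) (Fin 2) F) * !![0, 1; 1, 1] * !![0, 1; 1, 1] = 1
  rw [Matrix.mul_fin_two, Matrix.mul_fin_two, Matrix.one_fin_two]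
  simp [h2]

theorem ord3_ne : (ord3 : Matrix.SpecialLinearGroup (Fin 2) F) ≠ 1 := by
  intro h
  have h1 := congrArg (fun m : Matrix.SpecialLinearGroup (Fin 2) F => m.1 0 1) h
  exact one_ne_zero (α := F) (by simpa [ord3] using h1)

theorem orderOf_ord3 : orderOf (ord3 : Matrix.SpecialLinearGroup (Fin 2) F) = 3 :=
  orderOf_eq_prime ord3_cube ord3_ne

theorem orderOf_inv2 : orderOf (inv2 : Matrix.SpecialLinearGroup (Fin 2) F) = 2 :=
  orderOf_eq_prime inv2_sq inv2_ne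

end SL

variable {G : Type u} [Group G] [Finite G]

/-- `3 ∣ |P|` -/
theorem three_dvd {P Q T : Subgroup G} {q : ℕ} (h : LType P Q T q) : 3 ∣ Nat.card P := by
  obtain ⟨F, _, _, _, φ, hφ, -, -⟩ := h.iso
  have h1 : Nat.card (Matrix.SpecialLinearGroup (Fin 2) F) ∣ Nat.card P :=
    Subgroup.card_dvd_of_surjective φ hφ
  refine dvd_trans ?_ h1
  rw [← orderOf_ord3 (F := F)]
  exact orderOf_dvd_natCard _

/-- `Q < T` -/
theorem T_ne_Q {P Q T : Subgroup G} {q : ℕ} (h : LType P Q T q) : T ≠ Q := by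
  intro he
  obtain ⟨F, _, _, _, φ, hφ, hker, -⟩ := h.iso
  obtain ⟨p, hp⟩ := hφ inv2
  -- `p ∉ Q`, `p² ∈ Q`; so `⟨p⟩ Q` is a 2-group
  have hpQ : (p : G) ∉ Q := by
    intro hpQ
    have h1 : p ∈ φ.ker := by rw [hker, Subgroup.mem_subgroupOf]; exact hpQ
    rw [MonoidHom.mem_ker, hp] at h1
    exact inv2_ne h1
  have hp2 : (p : G) ^ 2 ∈ Q := by
    have h1 : p ^ 2 ∈ φ.ker := by rw [MonoidHom.mem_ker, map_pow, hp, inv2_sq]
    rw [hker, Subgroup.mem_subgroupOf] at h1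
    exact h1
  have hp2g : IsPGroup 2 (Subgroup.zpowers (p : G)) := by
    obtain ⟨k, hk⟩ := h.o2.two ⟨_, hp2⟩
    have hk' : ((p : G) ^ 2) ^ 2 ^ k = 1 := congrArg Subtype.val hk
    have : orderOf (p : G) ∣ 2 ^ (k + 1) := by
      apply orderOf_dvd_of_pow_eq_one
      rw [pow_succ', pow_mul]; exact hk'
    obtain ⟨j, -, hj⟩ := (Nat.dvd_prime_pow Nat.prime_two).1 this
    exact IsPGroup.of_card (n := j) (by rw [Nat.card_zpowers, hj])
  have hzP : Subgroup.zpowers (p : G) ≤ P := by rw [Subgroup.zpowers_le]; exact p.2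
  have h3 : IsPGroup 2 (Subgroup.zpowers (p : G) ⊔ Q : Subgroup G) :=
    IsPGroup.to_sup_of_normal_right' hp2g h.o2.two (hzP.trans (le_normalizer_of h.o2.normal))
  have h4 := h.syl.max _ (sup_le hzP h.o2.le) h3 (he.le.trans le_sup_right)
  apply hpQ
  rw [← he, ← h4]
  exact Subgroup.mem_sup_left (Subgroup.mem_zpowers _)

/-- `T` is not normal in `P` -/
theorem not_normal {P Q T : Subgroup G} {q : ℕ} (h : LType P Q T q) : ¬ ∀ g ∈ P, ∀ x ∈ T, g * x * g⁻¹ ∈ T := by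
  intro hn
  apply T_ne_Q h
  exact le_antisymm (h.o2.max T h.syl.le h.syl.two hn) (isO2_le_isSyl2 h.o2 h.syl)

/-- the intersection of a Sylow 2-subgroup `T₃ ≥ T` of a bigger group with `P` is `T` -/
theorem inf_eq {P T T₃ : Subgroup G} (h : IsSyl2 P T) (hT : T ≤ T₃) (h2 : IsPGroup 2 T₃) : P ⊓ T₃ = T :=
  h.max _ inf_le_left (h2.to_le inf_le_right) (le_inf h.le hT)

/-- 1.6 -/
theorem unique {M₁ P₁ Q₁ T M₃ : Subgroup G} {q : ℕ} (h : ThreeType M₁ P₁ Q₁ T q) (hM₁ : IsMaxLocal M₁)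
    (hM₃ : IsMaxLocal M₃) (hP : P₁ ≤ M₃)
    (ht : ∀ Q₃ T₃ : Subgroup G, IsO2 M₃ Q₃ → IsSyl2 M₃ T₃ → T₃ = Q₃ ∨ ∃ P q, ThreeType M₃ P Q₃ T₃ q) : M₃ = M₁ := by
  obtain ⟨Q₃, hQ₃b, hQ₃, hN₃⟩ := exists_o2 hM₃
  obtain ⟨X₁, hX₁b, hX₁, hN₁⟩ := exists_o2 hM₁
  obtain rfl := isO2_unique hX₁ h.o2
  obtain ⟨T₃, hT₃, hTT₃⟩ := exists_isSyl2 M₃ T (h.ltype.syl.le.trans hP) h.ltype.syl.two
  have hinf := inf_eq h.ltype.syl hTT₃ hT₃.two
  -- `P₁` does not normalise `T₃`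
  have key : ¬ ∀ g ∈ P₁, ∀ x ∈ T₃, g * x * g⁻¹ ∈ T₃ := by
    intro hn
    apply not_normal h.ltype
    intro g hg x hx
    rw [← hinf] at hx ⊢
    exact Subgroup.mem_inf.2 ⟨P₁.mul_mem (P₁.mul_mem hg hx.1) (P₁.inv_mem hg), hn g hg x hx.2⟩
  have hle : X₁ ≤ Q₃ := by
    rcases ht Q₃ T₃ hQ₃ hT₃ with h1 | ⟨P, q', h1⟩
    · exfalso
      apply key
      intro g hg x hx
      rw [h1] at hx ⊢
      exact hQ₃.normal g (hP hg) x hx
    · by_contra hnle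
      obtain ⟨x, hx, hxQ⟩ := SetLike.not_le_iff_exists.1 hnle
      apply key
      intro g hg
      have hXT : X₁ ≤ T₃ := (isO2_le_isSyl2 h.o2 h.syl).trans hTT₃
      exact h1.ti g (hP hg) ⟨x, hXT hx, hxQ, hXT (h.ltype.o2.normal g hg x hx)⟩
  -- `P₁ ∩ Q₃ = Q₁`
  have hPQ : P₁ ⊓ Q₃ ≤ X₁ := by
    refine h.ltype.o2.max _ inf_le_left (hQ₃.two.to_le inf_le_right) ?_
    intro m hm y hy
    exact Subgroup.mem_inf.2 ⟨P₁.mul_mem (P₁.mul_mem hm hy.1) (P₁.inv_mem hm), hQ₃.normal m (hP hm) y hy.2⟩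
  have hR : Q₃ ⊓ Subgroup.normalizer (X₁ : Set G) ≤ X₁ := by
    have hRM : Q₃ ⊓ Subgroup.normalizer (X₁ : Set G) ≤ M₁ := by rw [hN₁]; exact inf_le_right
    have hTN : T ≤ Subgroup.normalizer ((Q₃ ⊓ Subgroup.normalizer (X₁ : Set G) : Subgroup G) : Set G) := by
      apply le_normalizer_of
      intro t ht x hx
      refine Subgroup.mem_inf.2 ⟨hQ₃.normal t (hP (h.ltype.syl.le ht)) x hx.1, ?_⟩
      have htN : t ∈ Subgroup.normalizer (X₁ : Set G) := by rw [hN₁]; exact h.syl.le ht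
      exact Subgroup.mul_mem _ (Subgroup.mul_mem _ htN hx.2) (Subgroup.inv_mem _ htN)
    have h2 : IsPGroup 2 (T ⊔ (Q₃ ⊓ Subgroup.normalizer (X₁ : Set G)) : Subgroup G) :=
      IsPGroup.to_sup_of_normal_right' h.syl.two (hQ₃.two.to_le inf_le_left) hTN
    have h3 := h.syl.max _ (sup_le h.syl.le hRM) h2 le_sup_left
    intro x hx
    have hxT : x ∈ T := by rw [← h3]; exact Subgroup.mem_sup_right hx
    exact hPQ (Subgroup.mem_inf.2 ⟨h.ltype.syl.le hxT, hx.1⟩)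
  have heq : Q₃ = X₁ := by
    by_cases hs : IsSyl2 Q₃ X₁
    · exact hs.max Q₃ le_rfl hQ₃.two hle
    · exfalso
      obtain ⟨R, hXR, hRQ, -, hRN⟩ := exists_bigger hle h.o2.two hs
      exact not_lt_of_ge ((le_inf hRQ hRN).trans hR) hXR
  rw [← hN₃, ← hN₁, heq]

/-- 1.6, corollary; `ht` is the theorem `types` -/
theorem normalizer_le_of
    (types : ∀ {M Q T : Subgroup G}, IsMaxLocal M → IsO2 M Q → IsSyl2 M T →
      T = Q ∨ (∃ P q, ThreeType M P Q T q) ∨ ¬ 3 ∣ Nat.card M)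
    {M₁ P₁ Q₁ T A : Subgroup G} {q : ℕ} (h : ThreeType M₁ P₁ Q₁ T q)
    (hM₁ : IsMaxLocal M₁) (hA1 : A ≠ ⊥) (hA2 : IsPGroup 2 A) (hn : ∀ p ∈ P₁, ∀ a ∈ A, p * a * p⁻¹ ∈ A) :
    Subgroup.normalizer (A : Set G) ≤ M₁ := by
  obtain ⟨M₃, hN, hM₃⟩ := exists_maxLocal_ge_normalizer hA2 hA1
  have hP : P₁ ≤ M₃ := (le_normalizer_of hn).trans hN
  rw [← unique h hM₁ hM₃ hP fun Q₃ T₃ hQ₃ hT₃ => ?_]
  · exact hN
  rcases types hM₃ hQ₃ hT₃ with h1 | h1 | h1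
  · exact Or.inl h1
  · exact Or.inr h1
  · exact absurd ((three_dvd h.ltype).trans (Subgroup.card_dvd_of_le hP)) h1

/-- 1.6, corollary -/
theorem normalizer_le [IsSimpleGroup G] (hG : Hyp G) {M₁ P₁ Q₁ T A : Subgroup G} {q : ℕ} (h : ThreeType M₁ P₁ Q₁ T q)
    (hM₁ : IsMaxLocal M₁) (hA1 : A ≠ ⊥) (hA2 : IsPGroup 2 A) (hn : ∀ p ∈ P₁, ∀ a ∈ A, p * a * p⁻¹ ∈ A) :
    Subgroup.normalizer (A : Set G) ≤ M₁ :=
  normalizer_le_of (fun hM hQ hT => T1Structure.types hG hM hQ hT) h hM₁ hA1 hA2 hn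

end Cfsg.Agent.OddCyclic.T1Unique
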