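import Mathlib
import Cfsg.Prelude.Def_CaseTheorems
import Cfsg.Prelude.Def_Involutions
import Cfsg.Prelude.Def_Solvable
import Cfsg.Agent.OddCyclic.T1Defs
import Cfsg.Agent.OddCyclic.T1Select
import Cfsg.Agent.OddCyclic.T1Unique
import Cfsg.Agent.LieExceptional.CITBasic

/-!
# S0342, T₀ = 1, piece O (section 2 and assembly), with the other pieces as hypotheses (helper448)
-/

set_option autoImplicit false

namespace Cfsg.Agent.OddCyclic.T1Assembly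

open Cfsg.Agent.LieExceptional.CITDefs Cfsg.Agent.OddCyclic.T1Defs
open Cfsg.Agent.LieExceptional.CITGlobal
open Cfsg.Agent.LieExceptional.CITGlobalBasic
open Cfsg.Agent.OddCyclic.T1Select Cfsg.Agent.OddCyclic.T1Unique

universe u

/-- the statement of S0665 -/
def SFourTheorem : Prop :=
  ∀ {S : Type u} [Group S] [Finite S] [Nontrivial S], IsPGroup 2 S →
    ∃ W : Subgroup S, W ≠ ⊥ ∧ W.Characteristic ∧ ∀ (G : Type u) [Group G] [Finite G] (τ : S →* G),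
      Function.Injective τ → (∃ P : Sylow 2 G, (P : Subgroup G) = τ.range) →
      (¬ ∃ (K R : Subgroup G) (_hR : (R.subgroupOf K).Normal), Nonempty ((K ⧸ R.subgroupOf K) ≃* Equiv.Perm (Fin 4))) →
      Subgroup.centralizer (Cfsg.pCore 2 G : Set G) ≤ Cfsg.pCore 2 G → (W.map τ).Normal

/-- the pieces of the proof -/
structure Inputs (G : Type u) [Group G] [Finite G] : Prop where
  sFour : SFourTheorem.{u}
  types : ∀ {M Q T : Subgroup G}, IsMaxLocal M → IsO2 M Q → IsSyl2 M T →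
    T = Q ∨ (∃ P q, ThreeType M P Q T q) ∨ ¬ 3 ∣ Nat.card M
  pair : ∀ {M₁ M₂ P₁ P₂ Q₁ Q₂ T : Subgroup G} {q₁ q₂ : ℕ}, ThreeType M₁ P₁ Q₁ T q₁ → ThreeType M₂ P₂ Q₂ T q₂ →
    IsMaxLocal M₁ → IsMaxLocal M₂ → M₁ ≠ M₂ → Pair M₁ M₂ P₁ P₂ Q₁ Q₂ T q₁
  q_le_four : ∀ {M₁ M₂ P₁ P₂ V₁ V₂ T : Subgroup G} {q : ℕ}, Pair M₁ M₂ P₁ P₂ V₁ V₂ T q → q = 2 ∨ q = 4
  not_two : ∀ {M₁ M₂ P₁ P₂ V₁ V₂ T : Subgroup G}, Pair M₁ M₂ P₁ P₂ V₁ V₂ T 2 → False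
  four_sylow : ∀ {M₁ M₂ P₁ P₂ V₁ V₂ T : Subgroup G}, Pair M₁ M₂ P₁ P₂ V₁ V₂ T 4 → UniqueAbove T →
    IsSyl2 (⊤ : Subgroup G) T
  four_cit : ∀ {M₁ M₂ P₁ P₂ V₁ V₂ T : Subgroup G}, Pair M₁ M₂ P₁ P₂ V₁ V₂ T 4 → IsSyl2 (⊤ : Subgroup G) T → IsCIT G
  minPar : ∀ {M P Q S P₂ Q₂ : Subgroup G} {q : ℕ}, CaseII M P Q S P₂ Q₂ q →
    (∃ p r, RType P₂ Q₂ S p r) ∨ SzType P₂ Q₂
  not_abelian : ∀ {M P Q S P₂ Q₂ : Subgroup G} {q : ℕ}, CaseII M P Q S P₂ Q₂ q → omegaZ Q ≤ Q₂ →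
    (∀ g ∈ P₂, ∀ v ∈ omegaZ Q, ∀ w ∈ omegaZ Q, v * (g * w * g⁻¹) = (g * w * g⁻¹) * v) → False
  not_nonabelian : ∀ {M P Q S P₂ Q₂ : Subgroup G} {q : ℕ}, CaseII M P Q S P₂ Q₂ q →
    ((∃ p r, RType P₂ Q₂ S p r) ∨ SzType P₂ Q₂) → omegaZ Q ≤ Q₂ →
    (¬ ∀ g ∈ P₂, ∀ v ∈ omegaZ Q, ∀ w ∈ omegaZ Q, v * (g * w * g⁻¹) = (g * w * g⁻¹) * v) → False
  not_not_le : ∀ {M P Q S P₂ Q₂ : Subgroup G} {q : ℕ}, CaseII M P Q S P₂ Q₂ q →
    ((∃ p r, RType P₂ Q₂ S p r) ∨ SzType P₂ Q₂) → ¬ omegaZ Q ≤ Q₂ → False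

variable {G : Type u} [Group G] [Finite G]

/-- `W(T)` -/
theorem exists_W (hW : SFourTheorem.{u}) {T : Subgroup G} (hT : IsPGroup 2 T) (hT1 : T ≠ ⊥) :
    ∃ W : Subgroup G, W ≠ ⊥ ∧ W ≤ T ∧ (∀ g : G, (∀ t ∈ T, g * t * g⁻¹ ∈ T) → ∀ w ∈ W, g * w * g⁻¹ ∈ W) ∧
      ∀ M X : Subgroup G, IsSyl2 M T → ¬ 3 ∣ Nat.card M → IsO2 M X →
        (∀ g ∈ M, (∀ x ∈ X, g * x = x * g) → g ∈ X) → ∀ m ∈ M, ∀ w ∈ W, m * w * m⁻¹ ∈ W := by
  have : Nontrivial T := (Subgroup.nontrivial_iff_ne_bot T).2 hT1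
  obtain ⟨W, hW1, hWc, hWn⟩ := hW hT
  refine ⟨W.map T.subtype, ?_, Subgroup.map_subtype_le W, ?_, ?_⟩
  · intro h
    apply hW1
    rw [← Subgroup.map_eq_bot_iff_of_injective W T.subtype_injective]
    exact h
  · rintro g hg _ ⟨w, hw, rfl⟩
    have hgi : ∀ t : T, g * t * g⁻¹ ∈ T := fun t => hg t t.2
    -- the automorphism of `T` induced by `g`
    let f : T →* T :=
      { toFun := fun t => ⟨g * t * g⁻¹, hgi t⟩
        map_one' := Subtype.ext (by simp)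
        map_mul' := fun x y => Subtype.ext (by
          show g * (x * y : G) * g⁻¹ = g * x * g⁻¹ * (g * y * g⁻¹)
          group) }
    have hf : Function.Injective f := by
      intro x y e
      have e1 : g * (x : G) * g⁻¹ = g * y * g⁻¹ := congrArg Subtype.val e
      exact Subtype.ext (mul_left_cancel (mul_right_cancel e1))
    let e : T ≃* T := MulEquiv.ofBijective f (Finite.injective_iff_bijective.1 hf)
    have h1 := hWc.fixed e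
    have h2 : w ∈ W.comap e.toMonoidHom := by rw [h1]; exact hw
    exact ⟨e w, h2, rfl⟩
  · rintro M X hTM h3 hX hc m hm _ ⟨w, hw, rfl⟩
    have h1 := hWn M (Subgroup.inclusion hTM.le) (Subgroup.inclusion_injective hTM.le)
      ⟨Cfsg.Agent.LieExceptional.CITBasic.IsSyl2.toSylow hTM, (Subgroup.inclusion_range hTM.le).symm⟩ ?_ ?_
    · have h2 := h1.conj_mem _ (Subgroup.mem_map_of_mem (Subgroup.inclusion hTM.le) hw) ⟨m, hm⟩
      obtain ⟨w', hw', e⟩ := h2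
      refine ⟨w', hw', ?_⟩
      have e1 := congrArg Subtype.val e
      exact e1
    · rintro ⟨K, R, hR, ⟨e⟩⟩
      apply h3
      have h4 : Nat.card (K ⧸ R.subgroupOf K) = 24 := by
        rw [Nat.card_congr e.toEquiv, Nat.card_eq_fintype_card, Fintype.card_perm, Fintype.card_fin]
        rfl
      have h5 : Nat.card (K ⧸ R.subgroupOf K) ∣ Nat.card M := by
        refine dvd_trans ?_ (Subgroup.card_subgroup_dvd_card K)
        exact Subgroup.card_quotient_dvd_card _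
      rw [h4] at h5
      exact dvd_trans (by norm_num) h5
    · have h4 : X.subgroupOf M ≤ Cfsg.pCore 2 M := by
        apply le_sSup
        refine ⟨⟨fun x hx y => ?_⟩, ?_⟩
        · rw [Subgroup.mem_subgroupOf] at hx ⊢
          exact hX.normal y y.2 x hx
        · exact hX.two.of_injective (Subgroup.subgroupOfEquivOfLe hX.le).toMonoidHom
            (Subgroup.subgroupOfEquivOfLe hX.le).injective
      intro c hcc
      apply h4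
      rw [Subgroup.mem_subgroupOf]
      apply hc c c.2
      intro x hx
      have h5 := Subgroup.mem_centralizer_iff.1 hcc ⟨x, hX.le hx⟩
        (h4 (Subgroup.mem_subgroupOf.2 hx))
      exact (congrArg Subtype.val h5).symm

/-- `C_G(O₂(M)) ≤ O₂(M)` for maximal local subgroups -/
theorem cent_le (hG : CharTwo G) {M X : Subgroup G} (hM : IsMaxLocal M) (hX : IsO2 M X) {g : G}
    (hg : ∀ x ∈ X, g * x = x * g) : g ∈ X := by
  obtain ⟨Y, hY1, hY, hN⟩ := exists_o2 hM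
  obtain rfl := isO2_unique hX hY
  refine hG X X hX.two hY1 (by rw [hN]; exact hX) ?_
  rw [Subgroup.mem_centralizer_iff]
  intro x hx
  exact (hg x hx).symm

/-- 2.2: two different maximal local subgroups with the common Sylow 2-subgroup `T` are not both of type alpha or delta -/
theorem not_both (hW : SFourTheorem.{u}) (hG : CharTwo G) {M₁ M₂ Q₁ Q₂ T : Subgroup G} (hM₁ : IsMaxLocal M₁)
    (hM₂ : IsMaxLocal M₂) (hne : M₁ ≠ M₂) (hQ₁ : IsO2 M₁ Q₁) (hQ₂ : IsO2 M₂ Q₂) (hT₁ : IsSyl2 M₁ T)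
    (hT₂ : IsSyl2 M₂ T) (hT : T ≠ ⊥) (h₁ : T = Q₁ ∨ ¬ 3 ∣ Nat.card M₁) (h₂ : T = Q₂ ∨ ¬ 3 ∣ Nat.card M₂) : False := by
  obtain ⟨W, hW1, hWT, hWc, hWn⟩ := exists_W hW hT₁.two hT
  have key : ∀ {M Q : Subgroup G}, IsMaxLocal M → IsO2 M Q → IsSyl2 M T → (T = Q ∨ ¬ 3 ∣ Nat.card M) →
      Subgroup.normalizer (W : Set G) = M := by
    intro M Q hM hQ hTM h
    refine isMaxLocal_normalizer hM hW1 (hWT.trans hTM.le) (hT₁.two.to_le hWT) ?_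
    intro m hm
    rcases h with h | h
    · refine hWc m fun t ht => ?_
      rw [h] at ht ⊢
      exact hQ.normal m hm t ht
    · exact hWn M Q hTM h hQ (fun g _ hg => cent_le hG hM hQ hg) m hm
  exact hne ((key hM₁ hQ₁ hT₁ h₁).symm.trans (key hM₂ hQ₂ hT₂ h₂))

/-- Case I -/
theorem caseI (I : Inputs G) {M₁ M₂ P₁ P₂ Q₁ Q₂ T : Subgroup G} {q₁ q₂ : ℕ}
    (h₁ : ThreeType M₁ P₁ Q₁ T q₁) (h₂ : ThreeType M₂ P₂ Q₂ T q₂) (hM₁ : IsMaxLocal M₁) (hM₂ : IsMaxLocal M₂)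
    (hne : M₁ ≠ M₂) (hT : IsSyl2 ⊤ T ∨ UniqueAbove T) : IsCIT G := by
  have hp := I.pair h₁ h₂ hM₁ hM₂ hne
  rcases I.q_le_four hp with rfl | rfl
  · exact (I.not_two hp).elim
  · rcases hT with hT | hT
    · exact I.four_cit hp hT
    · exact I.four_cit hp (I.four_sylow hp hT)

/-- Case II -/
theorem caseII (I : Inputs G) {M P Q S P₂ Q₂ : Subgroup G} {q : ℕ} (h : CaseII M P Q S P₂ Q₂ q) : False := by
  have hst := I.minPar h
  by_cases hV : omegaZ Q ≤ Q₂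
  · by_cases hE : ∀ g ∈ P₂, ∀ v ∈ omegaZ Q, ∀ w ∈ omegaZ Q, v * (g * w * g⁻¹) = (g * w * g⁻¹) * v
    · exact I.not_abelian h hV hE
    · exact I.not_nonabelian h hst hV hE
  · exact I.not_not_le h hst hV

/-- a conjugate of a 3t group is not alpha or delta -/
theorem three_of_conj {M P Q T Q₂ : Subgroup G} {q : ℕ} {g : G} (h : ThreeType M P Q T q)
    (hQ₂ : IsO2 (cj g M) Q₂) (h' : T = Q₂ ∨ ¬ 3 ∣ Nat.card (cj g M)) : False := by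
  rcases h' with h1 | h1
  · have h2 := isO2_unique (isO2_cj (g := g) h.o2) hQ₂
    apply T_ne_Q h.ltype
    have h3 : Nat.card T = Nat.card Q := by rw [h1, ← h2, card_cj]
    have h4 : Q ≤ T := isO2_le_isSyl2 h.o2 h.syl
    exact (SetLike.coe_injective (Set.eq_of_subset_of_ncard_le h4 h3.le (Set.toFinite _))).symm
  · rw [card_cj] at h1
    exact h1 ((three_dvd h.ltype).trans (Subgroup.card_dvd_of_le h.le))

/-- production of the situation of section 4 -/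
theorem exists_caseII (I : Inputs G) (hG : CharTwo G) {M₁ M₂ P₁ Q₁ Q₂ S : Subgroup G} {q : ℕ}
    (h₁ : ThreeType M₁ P₁ Q₁ S q) (hM₁ : IsMaxLocal M₁) (hM₂ : IsMaxLocal M₂) (hne : M₁ ≠ M₂)
    (hQ₂ : IsO2 M₂ Q₂) (hS₂ : IsSyl2 M₂ S) (hS : IsSyl2 ⊤ S)
    (huniq : ∀ M : Subgroup G, IsMaxLocal M → S ≤ M → (∃ P Q q, ThreeType M P Q S q) → M = M₁)
    (h₂ : S = Q₂ ∨ ¬ 3 ∣ Nat.card M₂) : ∃ P₂ Q₂' : Subgroup G, CaseII M₁ P₁ Q₁ S P₂ Q₂' q := by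
  classical
  -- `N(S) ≤ M₁`
  have hN : Subgroup.normalizer (S : Set G) ≤ M₁ := by
    intro g hg
    by_contra hgM
    have hcS : cj g S = S := cj_eq_of_mem_normalizer hg
    have hSM : IsSyl2 (cj g M₁) S := by
      have := isSyl2_cj (g := g) h₁.syl
      rwa [hcS] at this
    obtain ⟨Q', hQ'⟩ := exists_isO2 (cj g M₁)
    have hmax := isMaxLocal_cj (g := g) hM₁
    rcases I.types hmax hQ' hSM with h | ⟨P, q', h⟩ | h
    · exact three_of_conj h₁ hQ' (Or.inl h)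
    · exact cj_ne_self hM₁ hgM (huniq _ hmax hSM.le ⟨P, Q', q', h⟩)
    · exact three_of_conj h₁ hQ' (Or.inr h)
  have h3 : ¬ 3 ∣ Nat.card M₂ := by
    rcases h₂ with h | h
    · exfalso
      have h4 : M₂ ≤ Subgroup.normalizer (S : Set G) := by
        rw [h]; exact le_normalizer_of hQ₂.normal
      exact hne (hM₂.2 M₁ (h4.trans hN) hM₁.1)
    · exact h
  have hM₂n : ¬ M₂ ≤ M₁ := fun h => hne (hM₂.2 M₁ h hM₁.1)
  obtain ⟨P₂, hP₂, hmin⟩ := (Set.toFinite {K : Subgroup G | S ≤ K ∧ K ≤ M₂ ∧ ¬ K ≤ M₁}).exists_minimal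
    ⟨M₂, hS₂.le, le_rfl, hM₂n⟩
  obtain ⟨hSP, hPM, hPn⟩ := hP₂
  obtain ⟨X, hX⟩ := exists_isO2 P₂
  have hle : Q₂ ≤ X := by
    have hQS : Q₂ ≤ S := isO2_le_isSyl2 hQ₂ hS₂
    exact hX.max _ (hQS.trans hSP) hQ₂.two fun m hm y hy => hQ₂.normal m (hPM hm) y hy
  refine ⟨P₂, X, h₁, hM₁, hS, hN, fun h => h3 (h.trans (Subgroup.card_dvd_of_le hPM)), hSP, hPn, ?_, hX, ?_, ?_⟩
  · intro K hSK hKP hKn
    by_contra hKM
    exact hKn (le_antisymm hKP (hmin ⟨hSK, hKP.trans hPM, hKM⟩ hKP))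
  · intro g _ hc
    exact hle (cent_le hG hM₂ hQ₂ fun x hx => hc x (hle hx))
  · intro A hA1 hA2 hn
    exact normalizer_le_of I.types h₁ hM₁ hA1 hA2 hn

/-- piece O, assembly -/
theorem main_of [IsSimpleGroup G] (hnab : ∃ a b : G, a * b ≠ b * a) (h2 : 2 ∣ Nat.card G) (hG : CharTwo G)
    (I : Inputs G) : (∃ M : Subgroup G, Cfsg.IsStronglyEmbedded M) ∨ IsCIT G := by
  classical
  rcases select hnab h2 with h | ⟨M₁, M₂, T, hM₁, hM₂, hne, hT₁, hT₂, hTb, hT⟩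
  · exact Or.inl h
  right
  obtain ⟨Q₁, hQ₁⟩ := exists_isO2 M₁
  obtain ⟨Q₂, hQ₂⟩ := exists_isO2 M₂
  -- the case that `M₁` is of type 3t, `T` is Sylow in `G`
  have step : ∀ {M₁ M₂ P₁ Q₁ Q₂ T : Subgroup G} {q : ℕ}, IsMaxLocal M₁ → IsMaxLocal M₂ → M₁ ≠ M₂ → IsO2 M₂ Q₂ →
      ThreeType M₁ P₁ Q₁ T q → IsSyl2 M₂ T → IsSyl2 ⊤ T → IsCIT G := by
    intro M₁ M₂ P₁ Q₁ Q₂ T q hM₁ hM₂ hne hQ₂ h₁ hT₂ hT
    by_cases hu : ∀ M : Subgroup G, IsMaxLocal M → T ≤ M → (∃ P Q q, ThreeType M P Q T q) → M = M₁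
    · exfalso
      rcases I.types hM₂ hQ₂ hT₂ with h | ⟨P, q', h⟩ | h
      · obtain ⟨P₂, Q', hc⟩ := exists_caseII I hG h₁ hM₁ hM₂ hne hQ₂ hT₂ hT hu (Or.inl h)
        exact caseII I hc
      · exact hne (hu M₂ hM₂ hT₂.le ⟨P, Q₂, q', h⟩).symm
      · obtain ⟨P₂, Q', hc⟩ := exists_caseII I hG h₁ hM₁ hM₂ hne hQ₂ hT₂ hT hu (Or.inr h)
        exact caseII I hc
    · push Not at hu
      obtain ⟨M, hM, hTM, ⟨P, Q, q', h⟩, hne'⟩ := hu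
      exact caseI I h₁ h hM₁ hM hne'.symm (Or.inl hT)
  rcases I.types hM₁ hQ₁ hT₁ with h | ⟨P₁, q₁, h₁⟩ | h
  · -- `M₁` alpha
    rcases I.types hM₂ hQ₂ hT₂ with h' | ⟨P₂, q₂, h₂⟩ | h'
    · exact (not_both I.sFour hG hM₁ hM₂ hne hQ₁ hQ₂ hT₁ hT₂ hTb (Or.inl h) (Or.inl h')).elim
    · rcases hT with hT | ⟨⟨g, hg⟩, -⟩
      · exact step hM₂ hM₁ hne.symm hQ₁ h₂ hT₁ hT
      · exfalso
        have hg' : M₁ = cj g⁻¹ M₂ := by rw [hg]; exact (cj_inv_cj g M₁).symm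
        rw [hg'] at hQ₁
        exact three_of_conj h₂ hQ₁ (Or.inl h)
    · exact (not_both I.sFour hG hM₁ hM₂ hne hQ₁ hQ₂ hT₁ hT₂ hTb (Or.inl h) (Or.inr h')).elim
  · -- `M₁` 3t
    rcases hT with hT | ⟨⟨g, hg⟩, hu⟩
    · exact step hM₁ hM₂ hne hQ₂ h₁ hT₂ hT
    · rcases I.types hM₂ hQ₂ hT₂ with h' | ⟨P₂, q₂, h₂⟩ | h'
      · exfalso
        rw [hg] at hQ₂
        exact three_of_conj h₁ hQ₂ (Or.inl h')
      · exact caseI I h₁ h₂ hM₁ hM₂ hne (Or.inr hu)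
      · exfalso
        rw [hg] at hQ₂ h'
        exact three_of_conj h₁ hQ₂ (Or.inr h')
  · rcases I.types hM₂ hQ₂ hT₂ with h' | ⟨P₂, q₂, h₂⟩ | h'
    · exact (not_both I.sFour hG hM₁ hM₂ hne hQ₁ hQ₂ hT₁ hT₂ hTb (Or.inr h) (Or.inl h')).elim
    · rcases hT with hT | ⟨⟨g, hg⟩, -⟩
      · exact step hM₂ hM₁ hne.symm hQ₁ h₂ hT₁ hT
      · exfalso
        have hg' : M₁ = cj g⁻¹ M₂ := by rw [hg]; exact (cj_inv_cj g M₁).symm
        rw [hg'] at hQ₁ h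
        exact three_of_conj h₂ hQ₁ (Or.inr h)
    · exact (not_both I.sFour hG hM₁ hM₂ hne hQ₁ hQ₂ hT₁ hT₂ hTb (Or.inr h) (Or.inr h')).elim

end Cfsg.Agent.OddCyclic.T1Assembly
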