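import Mathlib
import Cfsg.Agent.OddCyclic.T1Defs
import Cfsg.Agent.OddCyclic.T1Local
import Cfsg.Agent.OddCyclic.T1Torus
import Cfsg.Agent.LieExceptional.CITBasic
import Cfsg.Agent.LieExceptional.CITCommute
import Cfsg.Agent.LieExceptional.CITSylowFour

/-!
# Piece I5 of `blueprints/S0342-T0eq1.md` (3.6): `q = 4` and `T` Sylow in `G` imply that `G` is a CIT group
-/

set_option autoImplicit false

namespace Cfsg.Agent.OddCyclic.T1CIT

open Cfsg.Agent.LieExceptional.CITDefs Cfsg.Agent.OddCyclic.T1Defs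
open Cfsg.Agent.LieExceptional

universe u
variable {G : Type u} [Group G]

/-- an element of odd order commuting with the involution (or 1) `[h, r]` centralises `r` -/
theorem comm_of_odd {h r : G} (ho : Odd (orderOf h))
    (hc : h * (h * r * h⁻¹ * r⁻¹) = (h * r * h⁻¹ * r⁻¹) * h)
    (h2 : (h * r * h⁻¹ * r⁻¹) * (h * r * h⁻¹ * r⁻¹) = 1) : h * r = r * h := by
  set c := h * r * h⁻¹ * r⁻¹ with hcdef
  have h0 : h * r * h⁻¹ = c * r := by rw [hcdef]; group
  have hk : ∀ k : ℕ, h ^ k * r * (h ^ k)⁻¹ = c ^ k * r := by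
    intro k
    induction k with
    | zero => simp
    | succ k ih =>
      have hck : h * c ^ k = c ^ k * h := (Commute.pow_right (show Commute h c from hc) k).eq
      calc h ^ (k+1) * r * (h ^ (k+1))⁻¹ = h * (h ^ k * r * (h ^ k)⁻¹) * h⁻¹ := by
            rw [pow_succ']; group
        _ = (h * c ^ k) * r * h⁻¹ := by rw [ih]; group
        _ = c ^ k * (h * r * h⁻¹) := by rw [hck]; group
        _ = c ^ (k+1) * r := by rw [h0, pow_succ]; group
  have h1 := hk (orderOf h)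
  rw [pow_orderOf_eq_one] at h1
  have h3 : c ^ orderOf h = 1 := by
    have : 1 * r * 1⁻¹ = c ^ orderOf h * r := h1
    simpa using this.symm
  obtain ⟨j, hj⟩ := ho
  have hc1 : c = 1 := by
    rw [hj, pow_succ, pow_mul, pow_two, h2, one_pow, one_mul] at h3
    exact h3
  rw [hc1, one_mul] at h0
  calc h * r = h * r * h⁻¹ * h := by group
    _ = r * h := by rw [h0]

/-- a permutation of order prime to 6 of a set of four points is trivial -/
theorem perm_four {X : Type*} [Finite X] (hX : Nat.card X = 4) (σ : Equiv.Perm X) {m : ℕ} (hm : Odd m)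
    (hm3 : ¬ 3 ∣ m) (hσ : σ ^ m = 1) : σ = 1 := by
  have h1 : orderOf σ ∣ 24 := by
    have h := orderOf_dvd_natCard σ
    rw [Nat.card_perm, hX] at h
    exact h
  have h2 : orderOf σ ∣ m := orderOf_dvd_of_pow_eq_one hσ
  rw [← orderOf_eq_one_iff]
  refine Nat.Coprime.eq_one_of_dvd ?_ h1
  have h24 : (24 : ℕ) = 2 ^ 3 * 3 := by norm_num
  rw [h24]
  have hodd : Odd (orderOf σ) := Odd.of_dvd_nat hm h2
  refine Nat.Coprime.mul_right (Nat.Coprime.pow_right 3 hodd.coprime_two_right) ?_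
  rw [Nat.coprime_comm]
  exact (Nat.Prime.coprime_iff_not_dvd Nat.prime_three).2 fun h => hm3 (h.trans h2)

theorem act_four [Finite G] {A B : Subgroup G} (hBA : B ≤ A) (hcard : Nat.card A = 4 * Nat.card B) {h : G}
    (hA : ∀ a, a ∈ A ↔ h * a * h⁻¹ ∈ A) (hB : ∀ b, b ∈ B ↔ h * b * h⁻¹ ∈ B)
    (ho : Odd (orderOf h)) (h3 : ¬ 3 ∣ orderOf h) {a : G} (ha : a ∈ A) : a⁻¹ * (h * a * h⁻¹) ∈ B := by
  let e : Equiv.Perm A := (MulAut.conj h).toEquiv.subtypeEquiv (fun a => hA a)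
  have he : ∀ x : A, ((e x : A) : G) = h * x * h⁻¹ := fun x => rfl
  have hek : ∀ (k : ℕ) (x : A), (((e ^ k) x : A) : G) = h ^ k * x * (h ^ k)⁻¹ := by
    intro k
    induction k with
    | zero => intro x; simp
    | succ k ih =>
      intro x
      rw [pow_succ, Equiv.Perm.mul_apply, ih, he, pow_succ]
      group
  have hrel : ∀ x y : A, (QuotientGroup.leftRel (B.subgroupOf A)) x y ↔
      (QuotientGroup.leftRel (B.subgroupOf A)) (e x) (e y) := by
    intro x y
    rw [QuotientGroup.leftRel_apply, QuotientGroup.leftRel_apply, Subgroup.mem_subgroupOf,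
      Subgroup.mem_subgroupOf]
    have : (((e x)⁻¹ * e y : A) : G) = h * ((x⁻¹ * y : A) : G) * h⁻¹ := by
      push_cast
      rw [he, he]
      group
    rw [this]
    exact hB _
  let σ : Equiv.Perm (A ⧸ B.subgroupOf A) := Quotient.congr e hrel
  have hσ : ∀ (k : ℕ) (x : A), (σ ^ k) (QuotientGroup.mk x) = QuotientGroup.mk ((e ^ k) x) := by
    intro k
    induction k with
    | zero => intro x; simp
    | succ k ih =>
      intro x
      rw [pow_succ, Equiv.Perm.mul_apply, pow_succ, Equiv.Perm.mul_apply]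
      exact ih (e x)
  have hX : Nat.card (A ⧸ B.subgroupOf A) = 4 := by
    have h1 := Subgroup.card_eq_card_quotient_mul_card_subgroup (B.subgroupOf A)
    have h2 : Nat.card (B.subgroupOf A) = Nat.card B :=
      Nat.card_congr (Subgroup.subgroupOfEquivOfLe hBA).toEquiv
    rw [h2, hcard] at h1
    exact (Nat.eq_of_mul_eq_mul_right Nat.card_pos h1).symm
  have hm : σ ^ orderOf h = 1 := by
    ext x
    induction x using QuotientGroup.induction_on with
    | H x =>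
      rw [hσ]
      congr 1
      apply Subtype.ext
      rw [hek, pow_orderOf_eq_one]
      simp
  have h1 := perm_four hX σ ho h3 hm
  have h2 := hσ 1 ⟨a, ha⟩
  rw [h1, pow_one, pow_one, Equiv.Perm.one_apply, QuotientGroup.eq, Subgroup.mem_subgroupOf] at h2
  have h4 : (((⟨a, ha⟩ : A)⁻¹ * e ⟨a, ha⟩ : A) : G) = a⁻¹ * (h * a * h⁻¹) := by
    push_cast
    rw [he]
  rw [h4] at h2
  exact h2

/-- a subgroup containing a Sylow 2-subgroup of `H` and all elements of odd order of `H` contains `H` -/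
theorem le_of_odd [Finite G] {H D T : Subgroup G} (hT : IsSyl2 H T) (hTD : T ≤ D)
    (ho : ∀ x ∈ H, Odd (orderOf x) → x ∈ D) : H ≤ D := by
  have key : (D.subgroupOf H).index = 1 := by
    by_contra hne
    obtain ⟨p, hp, hpd⟩ := Nat.exists_prime_and_dvd hne
    have : Fact p.Prime := ⟨hp⟩
    by_cases hp2 : p = 2
    · subst hp2
      have h1 : ((CITBasic.IsSyl2.toSylow hT : Sylow 2 H) : Subgroup H) ≤ D.subgroupOf H :=
        fun x hx => hTD (Subgroup.mem_subgroupOf.1 hx)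
      exact (CITBasic.IsSyl2.toSylow hT).not_dvd_index (hpd.trans (Subgroup.index_dvd_of_le h1))
    · let P : Sylow p H := default
      have h1 : (P : Subgroup H) ≤ D.subgroupOf H := by
        intro x hx
        rw [Subgroup.mem_subgroupOf]
        refine ho x x.2 ?_
        obtain ⟨k, hk⟩ := P.2 ⟨x, hx⟩
        have hk' : x ^ p ^ k = 1 := congrArg Subtype.val hk
        have hk2 : (x : G) ^ p ^ k = 1 := by
          have := congrArg Subtype.val hk'
          simpa using this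
        exact Odd.of_dvd_nat (Odd.pow (hp.odd_of_ne_two hp2)) (orderOf_dvd_of_pow_eq_one hk2)
      exact P.not_dvd_index (hpd.trans (Subgroup.index_dvd_of_le h1))
  exact Subgroup.subgroupOf_eq_top.1 (Subgroup.index_eq_one.1 key)

/-- a group without nontrivial elements of odd order is a 2-group -/
theorem isPGroup_of_odd [Finite G] {K : Subgroup G} (h : ∀ x ∈ K, Odd (orderOf x) → x = 1) : IsPGroup 2 K := by
  rintro ⟨k, hk⟩
  obtain ⟨a, m, hm, ham⟩ := Nat.exists_eq_two_pow_mul_odd (orderOf_pos k).ne'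
  refine ⟨a, Subtype.ext ?_⟩
  have h1 : orderOf (k ^ 2 ^ a) = m := by
    rw [orderOf_pow_of_dvd (by positivity) (ham ▸ dvd_mul_right _ _), ham]
    exact Nat.mul_div_cancel_left _ (by positivity)
  exact h _ (K.pow_mem hk _) (h1 ▸ hm)

theorem eq_one_of_two_odd {K : Subgroup G} (hK : IsPGroup 2 K) {x : G} (hx : x ∈ K) (ho : Odd (orderOf x)) :
    x = 1 := by
  obtain ⟨k, hk⟩ := hK ⟨x, hx⟩
  have hk' : x ^ 2 ^ k = 1 := congrArg Subtype.val hk
  rw [← orderOf_eq_one_iff]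
  exact Nat.Coprime.eq_one_of_dvd (Nat.Coprime.pow_right k ho.coprime_two_right)
    (orderOf_dvd_of_pow_eq_one hk')

section pair
variable {M₁ M₂ P₁ P₂ V₁ V₂ T : Subgroup G}

theorem symm {q : ℕ} (h : Pair M₁ M₂ P₁ P₂ V₁ V₂ T q) : Pair M₂ M₁ P₂ P₁ V₂ V₁ T q where
  t₁ := h.t₂
  t₂ := h.t₁
  max₁ := h.max₂
  max₂ := h.max₁
  ne := h.ne.symm
  elem₁ := h.elem₂
  elem₂ := h.elem₁
  card_V₁ := h.card_V₂
  card_V₂ := h.card_V₁
  card_C := h.card_C
  sup := by rw [h.sup, sup_comm]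
  inf := by rw [inf_comm, h.inf]
  card := h.card
  elem := fun A h1 h2 => (h.elem A h1 h2).symm
  cent₁ := h.cent₂
  cent₂ := h.cent₁

theorem le₁ {q : ℕ} (h : Pair M₁ M₂ P₁ P₂ V₁ V₂ T q) : V₁ ≤ T := by
  rw [h.sup]; exact le_sup_left

variable [Finite G]

omit [Finite G] in
theorem card_zpowers_two {z : G} (hz : z * z = 1) (hz1 : z ≠ 1) : Nat.card (Subgroup.zpowers z) = 2 := by
  rw [Nat.card_zpowers]
  exact CITSylowFour.orderOf_eq_two hz hz1

theorem le_T_of_le (h : Pair M₁ M₂ P₁ P₂ V₁ V₂ T 4) (hMP : M₁ = P₁) {z : G}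
    (hz : z ∈ omegaZ T) (hz1 : z ≠ 1) {H : Subgroup G} (hzH : ∀ x ∈ H, x * z = z * x) (hTH : T ≤ H)
    (h3 : ∀ x ∈ H, orderOf x ≠ 3) (hH : H ≤ M₁) : H ≤ T := by
  have hL := h.t₁.ltype
  rcases T1Local.normalizes_or hL hTH (hMP ▸ hH) with h1 | h1
  · obtain ⟨K, hK1, hK2, hK3, hK4, hK5⟩ := T1Local.exists_torus' hL
    intro g hg
    have hgP : g ∈ P₁ := hMP ▸ hH hg
    obtain ⟨t, ht, k, hk, rfl⟩ := hK5 g hgP (h1 g hg)
    have hkH : k ∈ H := by
      have := H.mul_mem (H.inv_mem (hTH ht)) hg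
      simpa using this
    have hk3 : orderOf k ∣ 3 := by
      have := Subgroup.orderOf_dvd_natCard K hk
      rwa [hK3] at this
    rcases (Nat.dvd_prime Nat.prime_three).1 hk3 with h5 | h5
    · rw [orderOf_eq_one_iff] at h5
      rw [h5, mul_one]
      exact ht
    · exact absurd h5 (h3 k hkH)
  · exfalso
    have hV : omegaZ V₁ = V₁ := CITSylowFour.omegaZ_of_elem h.elem₁
    have hzV : z ∈ V₁ := (h.inf ▸ hz : z ∈ V₁ ⊓ V₂).1
    have hle : V₁ ≤ Subgroup.zpowers z := by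
      intro w hw
      by_cases hw1 : w = 1
      · rw [hw1]; exact Subgroup.one_mem _
      · obtain ⟨g, hg, hgw⟩ := T1Local.nat_trans hL (by rw [hV]; exact h.card_V₁) z (hV.symm ▸ hzV) hz1 w
          (hV.symm ▸ hw) hw1
        rw [hzH g (h1 ▸ hg)] at hgw
        rw [← hgw]
        simp
    have h5 := Subgroup.card_dvd_of_le hle
    rw [h.card_V₁, card_zpowers_two hz.2.1 hz1] at h5
    norm_num at h5

/-- `omegaZ T` is central in `H` -/
theorem central (h : Pair M₁ M₂ P₁ P₂ V₁ V₂ T 4) (hMP : M₁ = P₁) {z : G}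
    (hz : z ∈ omegaZ T) (hz1 : z ≠ 1) {H : Subgroup G} (hzH : ∀ x ∈ H, x * z = z * x) (hT : IsSyl2 H T)
    (h3 : ∀ x ∈ H, ¬ 3 ∣ orderOf x) {W : Subgroup G} (hWn : ∀ x ∈ H, ∀ w ∈ W, x * w * x⁻¹ ∈ W)
    (hCW : omegaZ T ≤ W) (hWV : W ≤ V₁) : ∀ x ∈ H, ∀ c ∈ omegaZ T, x * c = c * x := by
  have hd1 : 4 ∣ Nat.card W := h.card_C ▸ Subgroup.card_dvd_of_le hCW
  have hd2 : Nat.card W ∣ 16 := by
    have := Subgroup.card_dvd_of_le hWV
    rwa [h.card_V₁] at this
  have hcases : Nat.card W = 4 ∨ Nat.card W = 8 ∨ Nat.card W = 16 := by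
    have hle := Nat.le_of_dvd (by norm_num) hd2
    obtain ⟨k, hk⟩ := hd1
    rw [hk] at hle hd2 ⊢
    have hk4 : k ≤ 4 := by omega
    interval_cases k
    · norm_num at hd2
    · left; rfl
    · right; left; rfl
    · norm_num at hd2
    · right; right; rfl
  have hWn' : ∀ x ∈ H, ∀ w, w ∈ W ↔ x * w * x⁻¹ ∈ W := fun x hx w =>
    (CITSylowFour.conj_mem_iff le_rfl (hWn x hx) w).symm
  have hzW : z ∈ W := hCW hz
  -- it suffices to treat elements of odd order
  suffices hodd : (∀ x ∈ H, Odd (orderOf x) → ∀ c ∈ omegaZ T, x * c = c * x) ∨ H ≤ T by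
    rcases hodd with hodd | hle
    · have := le_of_odd (D := Subgroup.centralizer (omegaZ T : Set G)) hT (fun t ht => by
        rw [Subgroup.mem_centralizer_iff]
        exact fun c hc => hc.2.2 t ht) (fun x hx ho => by
        rw [Subgroup.mem_centralizer_iff]
        exact fun c hc => (hodd x hx ho c hc).symm)
      intro x hx c hc
      exact (Subgroup.mem_centralizer_iff.1 (this hx) c hc).symm
    · exact fun x hx c hc => (hc.2.2 x (hle hx)).symm
  rcases hcases with h4 | h8 | h16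
  · left
    intro x hx ho c hc
    have h1 := act_four (A := W) (B := ⊥) bot_le (by rw [h4]; simp) (hWn' x hx) (fun b => by
      rw [Subgroup.mem_bot, Subgroup.mem_bot]
      constructor
      · rintro rfl; simp
      · intro hb; exact CITSylowFour.conj_eq_one hb) ho (h3 x hx) (hCW hc)
    rw [Subgroup.mem_bot, inv_mul_eq_one] at h1
    calc x * c = x * c * x⁻¹ * x := by group
      _ = c * x := by rw [← h1]
  · left
    intro x hx ho c hc
    have hzz : ∀ y ∈ Subgroup.zpowers z, x * y = y * x := by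
      rintro y ⟨k, rfl⟩
      exact (Commute.zpow_right (show Commute x z from hzH x hx) k).eq
    have h1 := act_four (A := W) (B := Subgroup.zpowers z) (by rwa [Subgroup.zpowers_le])
      (by rw [h8, card_zpowers_two hz.2.1 hz1]) (hWn' x hx) (fun b => by
      refine (CITSylowFour.conj_mem_iff le_rfl (fun y hy => ?_) b).symm
      rw [hzz y hy, mul_inv_cancel_right]
      exact hy) ho (h3 x hx) (hCW hc)
    have hcomm : ∀ y ∈ Subgroup.zpowers z, c * y = y * c := by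
      rintro y ⟨k, rfl⟩
      exact (Commute.zpow_right (show Commute c z from hc.2.2 z hz.1) k).eq
    have h2 : x * c * x⁻¹ * c⁻¹ ∈ Subgroup.zpowers z := by
      have h5 := hcomm _ h1
      have h6 : x * c * x⁻¹ * c⁻¹ = c⁻¹ * (x * c * x⁻¹) := by
        calc x * c * x⁻¹ * c⁻¹ = c * (c⁻¹ * (x * c * x⁻¹)) * c⁻¹ := by group
          _ = c⁻¹ * (x * c * x⁻¹) := by rw [h5]; group
      rw [h6]
      exact h1
    refine comm_of_odd ho (hzz _ h2) ?_
    have h7 : ∀ y ∈ Subgroup.zpowers z, y * y = 1 := by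
      rintro y ⟨k, rfl⟩
      show z ^ k * z ^ k = 1
      rw [← (Commute.refl z).mul_zpow, hz.2.1, one_zpow]
    exact h7 _ h2
  · right
    have hWV' : W = V₁ := Subgroup.eq_of_le_of_card_ge hWV (by rw [h.card_V₁, h16]; norm_num)
    apply le_T_of_le h hMP hz hz1 hzH hT.le (fun x hx h5 => h3 x hx (h5 ▸ dvd_rfl))
    intro x hx
    refine CITSylowFour.mem_of_isMaxLocal h.max₁ (V := V₁) ?_ ?_ ?_ (fun v hv => ?_)
    · rintro h0
      have := h.card_V₁
      rw [h0, Subgroup.card_bot] at this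
      norm_num at this
    · exact h.t₁.o2.two
    · exact h.t₁.o2.normal
    · rw [← hWV'] at hv ⊢
      exact hWn x hx v hv

omit [Finite G] in
theorem T_not_le (h : Pair M₁ M₂ P₁ P₂ V₁ V₂ T 4) : ¬ V₁ = V₂ := by
  intro h1
  have h2 := h.inf
  rw [← h1, inf_idem] at h2
  have h3 := h.card_C
  rw [← h2, h.card_V₁] at h3
  norm_num at h3

omit [Finite G] in
/-- whatever normalises `T` maps `V₁` into `V₁` or `V₂` -/
theorem maps (h : Pair M₁ M₂ P₁ P₂ V₁ V₂ T 4) {x : G} (hx : ∀ t ∈ T, x * t * x⁻¹ ∈ T) :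
    (∀ v ∈ V₁, x * v * x⁻¹ ∈ V₁) ∨ ∀ v ∈ V₁, x * v * x⁻¹ ∈ V₂ := by
  have h1 := h.elem (V₁.map (MulAut.conj x).toMonoidHom) (by
    rintro _ ⟨v, hv, rfl⟩
    exact hx v (le₁ h hv)) (by
    rintro _ ⟨v, hv, rfl⟩
    show x * v * x⁻¹ * (x * v * x⁻¹) = 1
    calc x * v * x⁻¹ * (x * v * x⁻¹) = x * (v * v) * x⁻¹ := by group
      _ = 1 := by rw [h.elem₁ v hv]; group)
  rcases h1 with h1 | h1
  · exact Or.inl fun v hv => h1 ⟨v, hv, rfl⟩
  · exact Or.inr fun v hv => h1 ⟨v, hv, rfl⟩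

theorem cent_le (hG : Hyp G) (h : Pair M₁ M₂ P₁ P₂ V₁ V₂ T 4) (hMP₁ : M₁ = P₁) (hMP₂ : M₂ = P₂)
    (hT : IsSyl2 (⊤ : Subgroup G) T) {z : G} (hz : z ∈ omegaZ T) (hz1 : z ≠ 1) {x : G} (hx : x * z = z * x) :
    x ∈ T := by
  set H := Subgroup.centralizer ({z} : Set G) with hHdef
  have hmem : ∀ y, y ∈ H ↔ y * z = z * y := fun y => by
    rw [hHdef, Subgroup.mem_centralizer_singleton_iff]
  have hzH : ∀ y ∈ H, y * z = z * y := fun y hy => (hmem y).1 hy
  have hTH : T ≤ H := fun t ht => (hmem t).2 (hz.2.2 t ht).symm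
  have hTS : IsSyl2 H T := ⟨hTH, hT.two, fun Y _ h2 h3 => hT.max Y le_top h2 h3⟩
  -- no elements of order divisible by 3 in `H`
  have h3 : ∀ y ∈ H, ¬ 3 ∣ orderOf y := by
    rintro y hy ⟨k, hk⟩
    have hpos := orderOf_pos y
    have hk0 : k ≠ 0 := by rintro rfl; omega
    have h5 : orderOf (y ^ k) = 3 := by
      rw [orderOf_pow_of_dvd hk0 (hk ▸ dvd_mul_left _ _), hk]
      exact Nat.mul_div_cancel _ (Nat.pos_of_ne_zero hk0)
    have h6 : Commute (y ^ k) z := Commute.pow_left (hzH y hy) k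
    have h7 := h6.orderOf_mul_eq_mul_orderOf_of_coprime (by
      rw [h5, CITSylowFour.orderOf_eq_two hz.2.1 hz1]; norm_num)
    rw [h5, CITSylowFour.orderOf_eq_two hz.2.1 hz1] at h7
    exact hG.nosix _ h7
  obtain ⟨R, hR⟩ := CITBasic.exists_isO2 H
  have hN : Subgroup.normalizer ((Subgroup.zpowers z : Subgroup G) : Set G) = H := by
    ext y
    rw [hmem, Subgroup.mem_normalizer_iff]
    have hzz : ∀ w, w ∈ Subgroup.zpowers z ↔ w = 1 ∨ w = z := by
      intro w
      constructor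
      · rintro ⟨k, rfl⟩
        have h2 : z ^ (2 : ℤ) = 1 := by
          rw [zpow_ofNat, pow_two]; exact hz.2.1
        rcases Int.even_or_odd' k with ⟨j, hj | hj⟩
        · left
          show z ^ k = 1
          rw [hj, zpow_mul, h2, one_zpow]
        · right
          show z ^ k = z
          rw [hj, zpow_add, zpow_mul, h2, one_zpow, one_mul, zpow_one]
      · rintro (rfl | rfl)
        · exact Subgroup.one_mem _
        · exact Subgroup.mem_zpowers _
    constructor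
    · intro hy
      have h1 := (hy z).1 (Subgroup.mem_zpowers z)
      rw [hzz] at h1
      rcases h1 with h1 | h1
      · exact absurd (CITSylowFour.conj_eq_one h1) hz1
      · calc y * z = y * z * y⁻¹ * y := by group
          _ = z * y := by rw [h1]
    · intro hy w
      rw [hzz, hzz]
      have hyz : y * z * y⁻¹ = z := by rw [hy]; group
      constructor
      · rintro (rfl | rfl)
        · left; group
        · right; exact hyz
      · rintro (h1 | h1)
        · left; exact CITSylowFour.conj_eq_one h1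
        · right; exact CITSylowFour.conj_inj (h1.trans hyz.symm)
  have hRc : Subgroup.centralizer (R : Set G) ≤ R := by
    refine hG.char2 (Subgroup.zpowers z) R ?_ ?_ (hN ▸ hR)
    · exact hT.two.to_le (by rw [Subgroup.zpowers_le]; exact hz.1)
    · rw [Ne, Subgroup.zpowers_eq_bot]; exact hz1
  have hRT : R ≤ T := CITCommute.o2_le_syl hR hTS
  have hCR : omegaZ T ≤ R := fun c hc => hRc (by
    rw [Subgroup.mem_centralizer_iff]
    exact fun r hr => (hc.2.2 r (hRT hr)).symm)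
  -- `omegaZ T` is central in `H`
  have hcen : ∀ y ∈ H, ∀ c ∈ omegaZ T, y * c = c * y := by
    have hWn : ∀ y ∈ H, ∀ w ∈ omegaZ R, y * w * y⁻¹ ∈ omegaZ R := fun y hy w hw =>
      CITCommute.omegaZ_conj hR.normal hy hw
    have hCW : omegaZ T ≤ omegaZ R := fun c hc => ⟨hCR hc, hc.2.1, fun r hr => hc.2.2 r (hRT hr)⟩
    rcases h.elem (omegaZ R) (fun w hw => hRT hw.1) (fun w hw => hw.2.1) with hW | hW
    · exact central h hMP₁ hz hz1 hzH hTS h3 hWn hCW hW
    · exact central (symm h) hMP₂ hz hz1 hzH hTS h3 hWn hCW hW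
  have hcz : ∀ y ∈ H, ∀ c ∈ omegaZ T, y * c * y⁻¹ ∈ omegaZ T := fun y hy c hc => by
    rw [hcen y hy c hc, mul_inv_cancel_right]; exact hc
  -- the subgroup acting trivially on `R / omegaZ T`
  let K : Subgroup G :=
    { carrier := {y | y ∈ H ∧ ∀ r ∈ R, y * r * y⁻¹ * r⁻¹ ∈ omegaZ T}
      one_mem' := ⟨H.one_mem, fun r _ => by simp [(omegaZ T).one_mem]⟩
      mul_mem' := by
        rintro a b ⟨ha, ha'⟩ ⟨hb, hb'⟩
        refine ⟨H.mul_mem ha hb, fun r hr => ?_⟩
        have e : a * b * r * (a * b)⁻¹ * r⁻¹ = (a * (b * r * b⁻¹ * r⁻¹) * a⁻¹) * (a * r * a⁻¹ * r⁻¹) := by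
          group
        rw [e]
        exact (omegaZ T).mul_mem (hcz a ha _ (hb' r hr)) (ha' r hr)
      inv_mem' := by
        rintro a ⟨ha, ha'⟩
        refine ⟨H.inv_mem ha, fun r hr => ?_⟩
        have e : a⁻¹ * r * a⁻¹⁻¹ * r⁻¹ = a⁻¹ * (a * r * a⁻¹ * r⁻¹)⁻¹ * a⁻¹⁻¹ := by group
        rw [e]
        exact hcz _ (H.inv_mem ha) _ ((omegaZ T).inv_mem (ha' r hr)) }
  have hKmem : ∀ y, y ∈ K ↔ y ∈ H ∧ ∀ r ∈ R, y * r * y⁻¹ * r⁻¹ ∈ omegaZ T := fun y => Iff.rfl
  have hK2 : IsPGroup 2 K := by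
    refine isPGroup_of_odd fun y hy ho => ?_
    have hyR : y ∈ R := hRc (by
      rw [Subgroup.mem_centralizer_iff]
      intro r hr
      have h5 := hy.2 r hr
      exact (comm_of_odd ho (hcen y hy.1 _ h5) h5.2.1).symm)
    exact eq_one_of_two_odd hR.two hyR ho
  have hTK : T ≤ K := by
    intro t ht
    refine ⟨hTH ht, fun r hr => ?_⟩
    rw [← h.inf]
    exact ⟨T1Local.comm_mem h.t₁.ltype t ht r (hRT hr), T1Local.comm_mem h.t₂.ltype t ht r (hRT hr)⟩
  have hKT : K = T := hT.max K le_top hK2 hTK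
  have hTn : ∀ y ∈ H, ∀ t ∈ T, y * t * y⁻¹ ∈ T := by
    intro y hy t ht
    rw [← hKT, hKmem]
    refine ⟨H.mul_mem (H.mul_mem hy (hTH ht)) (H.inv_mem hy), fun r hr => ?_⟩
    have hr' : y⁻¹ * r * y ∈ R := by
      have := hR.normal y⁻¹ (H.inv_mem hy) r hr
      rwa [inv_inv] at this
    have e : y * t * y⁻¹ * r * (y * t * y⁻¹)⁻¹ * r⁻¹ =
        y * (t * (y⁻¹ * r * y) * t⁻¹ * (y⁻¹ * r * y)⁻¹) * y⁻¹ := by group
    rw [e]
    exact hcz y hy _ ((hTK ht).2 _ hr')
  have hHN : H ≤ Subgroup.normalizer (V₁ : Set G) := by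
    have hmk : ∀ y : G, (∀ v ∈ V₁, y * v * y⁻¹ ∈ V₁) → y ∈ Subgroup.normalizer (V₁ : Set G) := by
      intro y hy
      rw [Subgroup.mem_normalizer_iff]
      exact fun v => (CITSylowFour.conj_mem_iff le_rfl hy v).symm
    refine le_of_odd hTS (fun t ht => hmk t (h.t₁.o2.normal t (h.t₁.syl.le ht))) ?_
    intro y hy ho
    have hcard : Nat.card V₂ ≤ Nat.card V₁ := by rw [h.card_V₁, h.card_V₂]
    have hcard' : Nat.card V₁ ≤ Nat.card V₂ := by rw [h.card_V₁, h.card_V₂]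
    rcases maps h (hTn y hy) with h1 | h1
    · exact hmk y h1
    · have h2 : ∀ v ∈ V₂, y * v * y⁻¹ ∈ V₁ := by
        rcases maps (symm h) (hTn y hy) with h2 | h2
        · exfalso
          apply T_not_le h
          ext v
          exact (CITSylowFour.conj_mem_iff hcard h1 v).symm.trans (CITSylowFour.conj_mem_iff le_rfl h2 v)
        · exact h2
      have h5 : y * y ∈ Subgroup.normalizer (V₁ : Set G) := by
        apply hmk
        intro v hv
        have e : y * y * v * (y * y)⁻¹ = y * (y * v * y⁻¹) * y⁻¹ := by group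
        rw [e]
        exact h2 _ (h1 v hv)
      obtain ⟨j, hj⟩ := ho
      have h6 : y = (y * y) ^ (j + 1) := by
        rw [← pow_two, ← pow_mul]
        have : 2 * (j + 1) = orderOf y + 1 := by rw [hj]; ring
        rw [this, pow_succ, pow_orderOf_eq_one, one_mul]
      rw [h6]
      exact Subgroup.pow_mem _ h5 _
  have hHM : H ≤ M₁ := by
    intro y hy
    refine CITSylowFour.mem_of_isMaxLocal h.max₁ (V := V₁) ?_ h.t₁.o2.two h.t₁.o2.normal (fun v hv => ?_)
    · rintro h0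
      have := h.card_V₁
      rw [h0, Subgroup.card_bot] at this
      norm_num at this
    · exact (Subgroup.mem_normalizer_iff.1 (hHN hy) v).1 hv
  exact le_T_of_le h hMP₁ hz hz1 hzH hTH (fun y hy h5 => h3 y hy (h5 ▸ dvd_rfl)) hHM ((hmem x).2 hx)

end pair

/-- 3.6 -/
theorem four_cit [Finite G] [IsSimpleGroup G] (hG : Hyp G) {M₁ M₂ P₁ P₂ V₁ V₂ T : Subgroup G}
    (h : Pair M₁ M₂ P₁ P₂ V₁ V₂ T 4) (hT : IsSyl2 (⊤ : Subgroup G) T) : IsCIT G := by
  obtain ⟨-, hMP₁, hMP₂⟩ := T1Torus.q_le_four hG h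
  have hex : ∃ z ∈ omegaZ T, z ≠ 1 := by
    by_contra hcon
    push Not at hcon
    have h1 : omegaZ T = ⊥ := (Subgroup.eq_bot_iff_forall _).2 hcon
    have h2 := h.card_C
    rw [h1, Subgroup.card_bot] at h2
    norm_num at h2
  obtain ⟨z, hz, hz1⟩ := hex
  have key : ∀ {M₁ M₂ P₁ P₂ V₁ V₂ : Subgroup G}, Pair M₁ M₂ P₁ P₂ V₁ V₂ T 4 → ∀ v ∈ V₁, v ≠ 1 →
      ∃ g : G, g * v * g⁻¹ = z := by
    intro M₁ M₂ P₁ P₂ V₁ V₂ h v hv hv1
    have hV : omegaZ V₁ = V₁ := CITSylowFour.omegaZ_of_elem h.elem₁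
    have hzV : z ∈ V₁ := (h.inf ▸ hz : z ∈ V₁ ⊓ V₂).1
    obtain ⟨g, -, hg⟩ := T1Local.nat_trans h.t₁.ltype (by rw [hV]; exact h.card_V₁) v (hV.symm ▸ hv) hv1 z
      (hV.symm ▸ hzV) hz1
    exact ⟨g, hg⟩
  intro t ht
  have ht2 : t * t = 1 := by rw [← pow_two, ← ht, pow_orderOf_eq_one]
  have ht1 : t ≠ 1 := by
    rintro rfl
    rw [orderOf_one] at ht
    norm_num at ht
  -- `t` is conjugate to `z`
  obtain ⟨g, hg⟩ : ∃ g : G, g * t * g⁻¹ = z := by
    have hel : Elem (Subgroup.zpowers t) := by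
      rintro y ⟨k, rfl⟩
      show t ^ k * t ^ k = 1
      rw [← (Commute.refl t).mul_zpow, ht2, one_zpow]
    have hp : IsPGroup 2 (Subgroup.zpowers t) := by
      rintro ⟨y, hy⟩
      exact ⟨1, Subtype.ext (by simpa [pow_two] using hel y hy)⟩
    obtain ⟨T', hT', htT'⟩ := CITBasic.exists_isSyl2 (⊤ : Subgroup G) (Subgroup.zpowers t) le_top hp
    obtain ⟨m, -, hm⟩ := CITBasic.IsSyl2.conj hT' hT
    have h1 : m * t * m⁻¹ ∈ T := by
      rw [hm]
      exact ⟨t, htT' (Subgroup.mem_zpowers t), rfl⟩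
    have h2 : m * t * m⁻¹ ≠ 1 := CITSylowFour.conj_ne_one ht1
    have h3 := h.elem (Subgroup.zpowers (m * t * m⁻¹)) (by rw [Subgroup.zpowers_le]; exact h1) (by
      rintro y ⟨k, rfl⟩
      show (m * t * m⁻¹) ^ k * (m * t * m⁻¹) ^ k = 1
      have e : m * t * m⁻¹ * (m * t * m⁻¹) = 1 := by
        calc m * t * m⁻¹ * (m * t * m⁻¹) = m * (t * t) * m⁻¹ := by group
          _ = 1 := by rw [ht2]; group
      rw [← (Commute.refl _).mul_zpow, e, one_zpow])
    obtain ⟨g, hg⟩ : ∃ g : G, g * (m * t * m⁻¹) * g⁻¹ = z := by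
      rcases h3 with h3 | h3
      · exact key h _ (h3 (Subgroup.mem_zpowers _)) h2
      · exact key (symm h) _ (h3 (Subgroup.mem_zpowers _)) h2
    exact ⟨g * m, by rw [← hg]; group⟩
  rintro ⟨x, hx⟩
  rw [Subgroup.mem_centralizer_singleton_iff] at hx
  have h1 : g * x * g⁻¹ ∈ T := by
    refine cent_le hG h hMP₁ hMP₂ hT hz hz1 ?_
    rw [← hg]
    calc g * x * g⁻¹ * (g * t * g⁻¹) = g * (x * t) * g⁻¹ := by group
      _ = g * t * g⁻¹ * (g * x * g⁻¹) := by rw [hx]; group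
  obtain ⟨k, hk⟩ := hT.two ⟨_, h1⟩
  have hk' : (g * x * g⁻¹) ^ 2 ^ k = 1 := congrArg Subtype.val hk
  refine ⟨k, Subtype.ext ?_⟩
  rw [conj_pow] at hk'
  exact CITSylowFour.conj_eq_one hk'

end Cfsg.Agent.OddCyclic.T1CIT
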