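import Mathlib
import Cfsg.Agent.OddCyclic.T1Defs
import Cfsg.Agent.OddCyclic.T1Local
import Cfsg.Agent.OddCyclic.T1Class2
import Cfsg.Agent.OddCyclic.T1Unique
import Cfsg.Agent.OddCyclic.T1Structure
import Cfsg.Agent.LieExceptional.CITBasic
import Cfsg.Agent.LieExceptional.CITNonCommute

/-!
# S0342, no elements of order 6, Case I: two maximal local subgroups of type 3t over the same `T`

3.1 and 3.2 of `blueprints/S0342-T0eq1.md`.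
-/

set_option autoImplicit false
universe u

namespace Cfsg.Agent.OddCyclic.T1CaseI

open Cfsg.Agent.LieExceptional Cfsg.Agent.LieExceptional.CITDefs Cfsg.Agent.OddCyclic.T1Defs

variable {G : Type u} [Group G] [Finite G]

omit [Finite G] in
/-- `O₂(M) ≠ 1` for a maximal local subgroup -/
theorem o2_ne_bot {M Q : Subgroup G} (hM : IsMaxLocal M) (hQ : IsO2 M Q) : Q ≠ ⊥ := by
  obtain ⟨X, hX1, hX⟩ := hM.1
  rintro rfl
  exact hX1 (le_bot_iff.1 (hQ.max X hX.le hX.two hX.normal))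

omit [Finite G] in
theorem conj_omegaZ {M Q : Subgroup G} (hQ : IsO2 M Q) {m : G} (hm : m ∈ M) {v : G} (hv : v ∈ omegaZ Q) :
    m * v * m⁻¹ ∈ omegaZ Q := by
  obtain ⟨hvQ, hv2, hvc⟩ := mem_omegaZ.1 hv
  refine mem_omegaZ.2 ⟨hQ.normal m hm v hvQ, ?_, fun y hy => ?_⟩
  · calc m * v * m⁻¹ * (m * v * m⁻¹) = m * (v * v) * m⁻¹ := by group
      _ = 1 := by rw [hv2]; group
  · have h1 := hQ.normal m⁻¹ (M.inv_mem hm) y hy
    have h2 := hvc _ h1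
    calc m * v * m⁻¹ * y = m * (v * (m⁻¹ * y * m⁻¹⁻¹)) * m⁻¹ := by group
      _ = m * ((m⁻¹ * y * m⁻¹⁻¹) * v) * m⁻¹ := by rw [h2]
      _ = y * (m * v * m⁻¹) := by group

/-- 1.6 -/
theorem normalizer_le [IsSimpleGroup G] (hG : Hyp G) {M₁ P₁ Q₁ T A : Subgroup G} {q : ℕ} (h : ThreeType M₁ P₁ Q₁ T q)
    (hM₁ : IsMaxLocal M₁) (hA1 : A ≠ ⊥) (hA2 : IsPGroup 2 A) (hn : ∀ p ∈ P₁, ∀ a ∈ A, p * a * p⁻¹ ∈ A) :
    Subgroup.normalizer (A : Set G) ≤ M₁ :=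
  T1Unique.normalizer_le_of (fun hM hQ hT => T1Structure.types hG hM hQ hT) h hM₁ hA1 hA2 hn

/-- if a nontrivial 2-subgroup is normalised by `P₁` and by `M₂`, then `M₁ = M₂` -/
theorem eq_of_normal [IsSimpleGroup G] (hG : Hyp G) {M₁ M₂ P₁ Q₁ T A : Subgroup G} {q : ℕ}
    (h : ThreeType M₁ P₁ Q₁ T q) (hM₁ : IsMaxLocal M₁) (hM₂ : IsMaxLocal M₂) (hA1 : A ≠ ⊥) (hA2 : IsPGroup 2 A)
    (hn : ∀ p ∈ P₁, ∀ a ∈ A, p * a * p⁻¹ ∈ A) (hn' : ∀ m ∈ M₂, ∀ a ∈ A, m * a * m⁻¹ ∈ A) : M₁ = M₂ := by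
  have h1 := normalizer_le hG h hM₁ hA1 hA2 hn
  exact hM₂.2 M₁ ((CITNonCommute.le_normalizer_of_forall hn').trans h1) hM₁.1

/-- 3.1 -/
theorem caseI_not_commute [IsSimpleGroup G] (hG : Hyp G) {M₁ M₂ P₁ P₂ Q₁ Q₂ T : Subgroup G} {q₁ q₂ : ℕ}
    (h₁ : ThreeType M₁ P₁ Q₁ T q₁) (h₂ : ThreeType M₂ P₂ Q₂ T q₂) (hM₁ : IsMaxLocal M₁) (hM₂ : IsMaxLocal M₂)
    (hne : M₁ ≠ M₂) : ¬ ∀ v ∈ omegaZ Q₁, ∀ w ∈ omegaZ Q₂, v * w = w * v := by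
  intro hc
  have hQ₁ := o2_ne_bot hM₁ h₁.o2
  have hQ₂ := o2_ne_bot hM₂ h₂.o2
  have hT₁ : Q₁ ≤ T := CITNonCommute.o2_le_syl h₁.o2 h₁.syl
  have hT₂ : Q₂ ≤ T := CITNonCommute.o2_le_syl h₂.o2 h₂.syl
  have hV₁ : omegaZ Q₁ ≤ Q₂ := fun v hv =>
    T1Local.cent_V h₂.ltype hQ₂ v (hT₁ (mem_omegaZ.1 hv).1) (fun w hw => hc v hv w hw)
  have hV₂ : omegaZ Q₂ ≤ Q₁ := fun w hw =>
    T1Local.cent_V h₁.ltype hQ₁ w (hT₂ (mem_omegaZ.1 hw).1) (fun v hv => (hc v hv w hw).symm)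
  -- `Q₂ ⊓ C(V₁) = Q₁ ⊓ Q₂ = Q₁ ⊓ C(V₂)`
  have e₁ : Q₂ ⊓ Subgroup.centralizer (omegaZ Q₁ : Set G) = Q₁ ⊓ Q₂ := by
    apply le_antisymm
    · rintro x ⟨hx, hxc⟩
      refine ⟨T1Local.cent_V h₁.ltype hQ₁ x (hT₂ hx) (fun v hv => ?_), hx⟩
      exact (Subgroup.mem_centralizer_iff.1 hxc v hv).symm
    · rintro x ⟨hx, hx'⟩
      refine ⟨hx', Subgroup.mem_centralizer_iff.2 fun v hv => (mem_omegaZ.1 hv).2.2 x hx⟩
  have e₂ : Q₁ ⊓ Subgroup.centralizer (omegaZ Q₂ : Set G) = Q₁ ⊓ Q₂ := by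
    apply le_antisymm
    · rintro x ⟨hx, hxc⟩
      refine ⟨hx, T1Local.cent_V h₂.ltype hQ₂ x (hT₁ hx) (fun v hv => ?_)⟩
      exact (Subgroup.mem_centralizer_iff.1 hxc v hv).symm
    · rintro x ⟨hx, hx'⟩
      refine ⟨hx, Subgroup.mem_centralizer_iff.2 fun v hv => (mem_omegaZ.1 hv).2.2 x hx'⟩
  have n₂ := T1Class2.centralizer_invariant h₂ hV₁ (fun t ht a ha => conj_omegaZ h₁.o2 (h₁.syl.le ht) ha)
  have n₁ := T1Class2.centralizer_invariant h₁ hV₂ (fun t ht a ha => conj_omegaZ h₂.o2 (h₂.syl.le ht) ha)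
  rw [e₁] at n₂
  rw [e₂] at n₁
  have hD1 : Q₁ ⊓ Q₂ ≠ ⊥ := by
    intro h0
    have h1 : omegaZ Q₁ ≤ Q₁ ⊓ Q₂ := le_inf (fun v hv => (mem_omegaZ.1 hv).1) hV₁
    rw [h0] at h1
    exact CITBasic.omegaZ_ne_bot h₁.o2.two hQ₁ (le_bot_iff.1 h1)
  have hD2 : IsPGroup 2 (Q₁ ⊓ Q₂ : Subgroup G) := h₁.o2.two.to_le inf_le_left
  have hN₂ := normalizer_le hG h₂ hM₂ hD1 hD2 n₂
  have hP : P₁ ≤ M₂ := (CITNonCommute.le_normalizer_of_forall n₁).trans hN₂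
  exact hne (eq_of_normal hG h₁ hM₁ hM₂ hQ₂ h₂.o2.two (fun p hp => h₂.o2.normal p (hP hp)) h₂.o2.normal)

omit [Finite G] in
theorem omegaZ_of_elem {V : Subgroup G} (hV : Elem V) : omegaZ V = V := by
  ext x
  rw [mem_omegaZ]
  exact ⟨fun h => h.1, fun h => ⟨h, hV x h, fun y hy => hV.comm h hy⟩⟩

omit [Finite G] in
theorem exists_mul {A Q M T : Subgroup G} (hQ : IsO2 M Q) (hA : A ≤ M) (hT : T = A ⊔ Q) :
    ∀ t ∈ T, ∃ v ∈ A, ∃ x ∈ Q, t = v * x := by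
  intro t ht
  have ht' : t ∈ ((A ⊔ Q : Subgroup G) : Set G) := by rw [← hT]; exact ht
  rw [Subgroup.coe_mul_of_left_le_normalizer_right A Q
    (hA.trans (CITNonCommute.le_normalizer_of_forall hQ.normal))] at ht'
  obtain ⟨v, hv, x, hx, rfl⟩ := Set.mem_mul.1 ht'
  exact ⟨v, hv, x, hx, rfl⟩

omit [Finite G] in
theorem sq_transfer {X₁ X₂ T : Subgroup G} (hX₁T : X₁ ≤ T)
    (hT : ∀ t ∈ T, ∃ v ∈ omegaZ X₁, ∃ x ∈ X₂, t = v * x) (x : G) (hx : x ∈ X₁) :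
    ∃ y ∈ X₁ ⊓ X₂, x * x = y * y := by
  obtain ⟨v, hv, y, hy, rfl⟩ := hT x (hX₁T hx)
  have hyX : y ∈ X₁ := (X₁.mul_mem_cancel_left hv.1).1 hx
  refine ⟨y, ⟨hyX, hy⟩, ?_⟩
  have e := hv.2.2 y hyX
  calc v * y * (v * y) = v * (y * v) * y := by group
    _ = v * (v * y) * y := by rw [e]
    _ = (v * v) * (y * y) := by group
    _ = y * y := by rw [hv.2.1, one_mul]

/-- 3.2 -/
theorem caseI_pair [IsSimpleGroup G] (hG : Hyp G) {M₁ M₂ P₁ P₂ Q₁ Q₂ T : Subgroup G} {q₁ q₂ : ℕ}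
    (h₁ : ThreeType M₁ P₁ Q₁ T q₁) (h₂ : ThreeType M₂ P₂ Q₂ T q₂) (hM₁ : IsMaxLocal M₁) (hM₂ : IsMaxLocal M₂)
    (hne : M₁ ≠ M₂) : Pair M₁ M₂ P₁ P₂ Q₁ Q₂ T q₁ := by
  have hc := caseI_not_commute hG h₁ h₂ hM₁ hM₂ hne
  have hX₁T : Q₁ ≤ T := CITNonCommute.o2_le_syl h₁.o2 h₁.syl
  have hX₂T : Q₂ ≤ T := CITNonCommute.o2_le_syl h₂.o2 h₂.syl
  have hV₁Q : omegaZ Q₁ ≤ Q₁ := fun v hv => (mem_omegaZ.1 hv).1
  have hV₂Q : omegaZ Q₂ ≤ Q₂ := fun v hv => (mem_omegaZ.1 hv).1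
  obtain ⟨hq, hcV₁, hcV₂, hT₁, hT₂, -, hVV, -, -⟩ := T1Local.pair_natural h₁.ltype h₂.ltype
    (hV₂Q.trans hX₂T) (hV₁Q.trans hX₁T) hc
  subst hq
  have a2 := exists_mul h₂.o2 ((hV₁Q.trans hX₁T).trans h₂.syl.le) hT₂
  have b2 := exists_mul h₁.o2 ((hV₂Q.trans hX₂T).trans h₁.syl.le) hT₁
  -- the subgroup generated by the squares
  let P : Subgroup G := Subgroup.closure {y | ∃ x ∈ Q₁, y = x * x}
  have hset : {y | ∃ x ∈ Q₁, y = x * x} = {y | ∃ x ∈ Q₂, y = x * x} := by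
    ext y
    constructor
    · rintro ⟨x, hx, rfl⟩
      obtain ⟨z, hz, e⟩ := sq_transfer hX₁T a2 x hx
      exact ⟨z, hz.2, e⟩
    · rintro ⟨x, hx, rfl⟩
      obtain ⟨z, hz, e⟩ := sq_transfer hX₂T b2 x hx
      exact ⟨z, hz.2, e⟩
  have hnorm : ∀ (M X : Subgroup G), IsO2 M X → ∀ m ∈ M,
      ∀ p ∈ Subgroup.closure {y | ∃ x ∈ X, y = x * x},
      m * p * m⁻¹ ∈ Subgroup.closure {y | ∃ x ∈ X, y = x * x} := by
    intro M X hX m hm p hp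
    have : (MulAut.conj m).toMonoidHom p ∈
        (Subgroup.closure {y | ∃ x ∈ X, y = x * x}).map (MulAut.conj m).toMonoidHom :=
      Subgroup.mem_map_of_mem _ hp
    rw [MonoidHom.map_closure] at this
    refine (Subgroup.closure_mono ?_) this
    rintro _ ⟨y, ⟨x, hx, rfl⟩, rfl⟩
    refine ⟨m * x * m⁻¹, hX.normal m hm x hx, ?_⟩
    simp [MulAut.conj_apply]
  have hPX : P ≤ Q₁ := by
    rw [Subgroup.closure_le]
    rintro _ ⟨x, hx, rfl⟩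
    exact Q₁.mul_mem hx hx
  have hP2 : IsPGroup 2 P := h₁.o2.two.to_le hPX
  have hPbot : P = ⊥ := by
    by_contra hPb
    refine hne (CITNonCommute.eq_of_normalize hM₁ hM₂ hPb hP2 (hnorm M₁ Q₁ h₁.o2) ?_)
    have := hnorm M₂ Q₂ h₂.o2
    rw [← hset] at this
    exact this
  have hE₁ : Elem Q₁ := by
    intro x hx
    have : x * x ∈ P := Subgroup.subset_closure ⟨x, hx, rfl⟩
    rw [hPbot] at this
    exact Subgroup.mem_bot.1 this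
  have hE₂ : Elem Q₂ := by
    intro x hx
    have : x * x ∈ P := Subgroup.subset_closure (by rw [hset]; exact ⟨x, hx, rfl⟩)
    rw [hPbot] at this
    exact Subgroup.mem_bot.1 this
  have hV₁ := omegaZ_of_elem hE₁
  have hV₂ := omegaZ_of_elem hE₂
  have hcent₁ : ∀ t ∈ T, t ∉ Q₁ → ∀ v ∈ Q₁, t * v = v * t → v ∈ omegaZ T := fun t ht htQ v hv hcm =>
    T1Local.nat_mem h₁.ltype hcV₁ ht htQ (hV₁.ge hv) hcm
  have hcent₂ : ∀ t ∈ T, t ∉ Q₂ → ∀ v ∈ Q₂, t * v = v * t → v ∈ omegaZ T := fun t ht htQ v hv hcm =>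
    T1Local.nat_mem h₂.ltype hcV₂ ht htQ (hV₂.ge hv) hcm
  have hcC := T1Local.nat_card h₁.ltype hcV₁
  have hcT := T1Local.card_T h₁.ltype
  have hcQ₁ := hcV₁
  have hcQ₂ := hcV₂
  rw [hV₁] at hcQ₁
  rw [hV₂] at hcQ₂
  have hinf := hVV
  rw [hV₁, hV₂] at hinf
  have hinv : ∀ x ∈ T, x * x = 1 → x ∈ Q₁ ∨ x ∈ Q₂ := by
    intro x hx hxx
    obtain ⟨v, hv, y, hy, rfl⟩ := a2 x hx
    rw [hV₁] at hv
    by_cases hyX : y ∈ Q₁
    · exact Or.inl (Q₁.mul_mem hv hyX)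
    · right
      -- `v` and `y` commute
      have hvv := hE₁ v hv
      have hyy := hE₂ y hy
      have hcomm : y * v = v * y := by
        have h2 : v * y = (v * y)⁻¹ := eq_inv_of_mul_eq_one_left hxx
        have hv' : v⁻¹ = v := inv_eq_of_mul_eq_one_left hvv
        have hy' : y⁻¹ = y := inv_eq_of_mul_eq_one_left hyy
        rw [mul_inv_rev, hv', hy'] at h2
        exact h2.symm
      have hvC := hcent₁ y (hX₂T hy) hyX v hv hcomm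
      have hv2 : v ∈ Q₂ := by
        rw [← hinf] at hvC
        exact hvC.2
      exact Q₂.mul_mem hv2 hy
  exact
    { t₁ := h₁
      t₂ := h₂
      max₁ := hM₁
      max₂ := hM₂
      ne := hne
      elem₁ := hE₁
      elem₂ := hE₂
      card_V₁ := hcQ₁
      card_V₂ := hcQ₂
      card_C := hcC
      sup := by rw [hV₁] at hT₂; exact hT₂
      inf := hinf
      card := by rw [hcT, hcQ₁]; ring
      elem := fun A hA hAe => by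
        have h0 : ∀ x ∈ A, x ∈ Q₁ ∨ x ∈ Q₂ := fun x hx => hinv x (hA hx) (hAe x hx)
        by_contra hcon
        push Not at hcon
        obtain ⟨a, ha, ha'⟩ := SetLike.not_le_iff_exists.1 hcon.1
        obtain ⟨b, hb, hb'⟩ := SetLike.not_le_iff_exists.1 hcon.2
        have ha2 := (h0 a ha).resolve_left ha'
        have hb1 := (h0 b hb).resolve_right hb'
        rcases h0 _ (A.mul_mem ha hb) with h | h
        · exact ha' ((Q₁.mul_mem_cancel_right hb1).1 h)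
        · exact hb' ((Q₂.mul_mem_cancel_left ha2).1 h)
      cent₁ := hcent₁
      cent₂ := hcent₂ }

end Cfsg.Agent.OddCyclic.T1CaseI
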