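import Cfsg.Agent.OddCyclic.T1Defs
import Cfsg.Agent.OddCyclic.T1Local
import Cfsg.Agent.OddCyclic.T1Structure
import Cfsg.Agent.OddCyclic.T1Torus
import Cfsg.Agent.LieExceptional.CITSylowFour
import Cfsg.Agent.LieExceptional.CITGlobalBasic

/-!
# T1-I4 (3.5): the pair with `q = 4`: `T` is a Sylow 2-subgroup of `G`

Adapted from `CITSylowFour` (the CIT hypothesis is replaced by: no elements of order 6, and the uniqueness of the
maximal local subgroup above 2-subgroups properly containing `T`).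
-/

set_option autoImplicit false

universe u

namespace Cfsg.Agent.OddCyclic.T1Four

open Cfsg.Agent.LieExceptional.CITDefs Cfsg.Agent.OddCyclic.T1Defs
open Cfsg.Agent.LieExceptional.CITSylowFour

variable {G : Type u} [Group G] [Finite G]

omit [Finite G] in
/-- without elements of order 6, a nontrivial element of 2-power order does not commute with an element of order 3 -/
theorem fpf6 (hG : NoSix G) {d x : G} (hd : orderOf d = 3) {k : ℕ}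
    (hx : x ^ 2 ^ k = 1) (hc : d * x = x * d) : x = 1 := by
  have : Fact (Nat.Prime 2) := ⟨Nat.prime_two⟩
  by_contra hx1
  obtain ⟨j, hj, hj2⟩ : ∃ j, orderOf x = 2 ^ j ∧ 1 ≤ j := by
    obtain ⟨j, hj, hj2⟩ := (Nat.dvd_prime_pow Nat.prime_two).1 (orderOf_dvd_of_pow_eq_one hx)
    refine ⟨j, hj2, ?_⟩
    rcases Nat.eq_zero_or_pos j with h0 | h0
    · rw [h0, pow_zero, orderOf_eq_one_iff] at hj2
      exact absurd hj2 hx1
    · exact h0
  have ht : orderOf (x ^ 2 ^ (j - 1)) = 2 := by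
    have h1 : (2 : ℕ) ^ (j - 1) = orderOf x / 2 := by
      rw [hj]
      obtain ⟨i, rfl⟩ : ∃ i, j = i + 1 := ⟨j - 1, by omega⟩
      rw [Nat.add_sub_cancel, pow_succ, Nat.mul_div_cancel _ (by norm_num)]
    rw [h1]
    refine orderOf_pow_orderOf_div ?_ ?_
    · rw [hj]; positivity
    · rw [hj]; exact dvd_pow_self 2 (by omega)
  have hcm : Commute d (x ^ 2 ^ (j - 1)) := Commute.pow_right hc _
  have h6 := hcm.orderOf_mul_eq_mul_orderOf_of_coprime (by rw [hd, ht]; norm_num)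
  rw [hd, ht] at h6
  exact hG _ h6

omit [Finite G] in
theorem fpf6' (hG : NoSix G) {Y : Subgroup G} (hY : IsPGroup 2 Y) {d x : G} (hd : orderOf d = 3)
    (hx : x ∈ Y) (hc : d * x = x * d) : x = 1 := by
  obtain ⟨k, hk⟩ := hY ⟨x, hx⟩
  refine fpf6 hG hd (k := k) ?_ hc
  have := congrArg Subtype.val hk
  simpa using this

section conf

variable {M₁ M₂ V₁ V₂ T C : Subgroup G}

/-- an element of order three in `N_{M₁}(T)`, permuting `C#` in a cycle -/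
theorem exists_three (h : Conf M₁ M₂ V₁ V₂ T C)
    (cT : ∀ c ∈ C, c ≠ 1 → ∀ m ∈ M₁, m * c * m⁻¹ = c → m ∈ T) :
    ∃ d ∈ M₁, orderOf d = 3 ∧ (∀ t ∈ T, d * t * d⁻¹ ∈ T) := by
  obtain ⟨a, ha, ha1, -⟩ := h.exists_notMem 1 1
  obtain ⟨b, hb, hb1, hba⟩ := h.exists_notMem 1 a
  have haV := ((h.memC a).1 ha).1
  have hbV := ((h.memC b).1 hb).1
  obtain ⟨m, hm, hmab⟩ := h.trans₁ a haV ha1 b hbV hb1
  have hmC := h.spread m hm ⟨a, ha, ha1, by rw [hmab]; exact hb⟩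
  have hmT := h.normalizes m hm hmC
  -- `m` permutes `a → b → ab → a`
  have hcomm : a * b = b * a := h.elem₁.comm haV hbV
  have habC : a * b ∈ C := C.mul_mem ha hb
  have h1 : m * b * m⁻¹ = a * b := by
    have h2 : m * b * m⁻¹ ∈ C := hmC b hb
    rcases h.four ha hb h2 ha1 hb1 (Ne.symm hba) with h3 | h3 | h3 | h3
    · exact absurd h3 (conj_ne_one hb1)
    · -- then `m` centralises `a * b`
      exfalso
      have h4 : m * (a * b) * m⁻¹ = a * b := by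
        rw [conj_mul', hmab, h3, hcomm]
      have h5 : m ∈ T := cT _ habC (h.prod_ne_one hb (Ne.symm hba)) m hm h4
      have h6 := h.cent a ha m h5
      have h7 : m * a * m⁻¹ = a := by rw [← h6]; group
      rw [h7] at hmab
      exact hba hmab.symm
    · exfalso
      exact hba (conj_inj (h3.trans hmab.symm))
    · exact h3
  have h2 : m * (a * b) * m⁻¹ = a := by
    rw [conj_mul', hmab, h1, hcomm, ← mul_assoc, h.sq_C hb, one_mul]
  have h3 : m ^ 3 ∈ T := by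
    refine cT a ha ha1 _ (M₁.pow_mem hm 3) ?_
    calc m ^ 3 * a * (m ^ 3)⁻¹ = m * (m * (m * a * m⁻¹) * m⁻¹) * m⁻¹ := by
          rw [pow_three]; group
      _ = a := by rw [hmab, h1, h2]
  have h4 : m ∉ T := by
    intro h5
    have h6 := h.cent a ha m h5
    have h7 : m * a * m⁻¹ = a := by rw [← h6]; group
    rw [h7] at hmab
    exact hba hmab.symm
  have h5 : 3 ∣ orderOf m := by
    by_contra h6
    obtain ⟨j, hj⟩ := exists_pow_eq_self_of_coprime (x := m) (n := 3)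
      ((Nat.Prime.coprime_iff_not_dvd Nat.prime_three).2 h6)
    exact h4 (hj ▸ T.pow_mem h3 j)
  have h6 : ∀ n : ℕ, ∀ t ∈ T, m ^ n * t * (m ^ n)⁻¹ ∈ T := by
    intro n
    induction n with
    | zero => intro t ht; simpa using ht
    | succ n ih =>
      intro t ht
      rw [pow_succ', conj_conj]
      exact hmT _ (ih t ht)
  exact ⟨m ^ (orderOf m / 3), M₁.pow_mem hm _,
    orderOf_pow_orderOf_div (orderOf_pos m).ne' h5, h6 _⟩
/-- the elements of the coset `T d` are the `T`-conjugates of `d` -/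
theorem exists_conj (h : Conf M₁ M₂ V₁ V₂ T C) (hG : NoSix G) {d : G} (hd : orderOf d = 3)
    (hdT : ∀ t ∈ T, d * t * d⁻¹ ∈ T) (t : G) (ht : t ∈ T) : ∃ u ∈ T, u * d * u⁻¹ = t * d := by
  let f : T → T := fun u => ⟨u * (d * (u : G)⁻¹ * d⁻¹), T.mul_mem u.2 (hdT _ (T.inv_mem u.2))⟩
  have hf : Function.Injective f := by
    intro u w huw
    have h1 : (u : G) * (d * (u : G)⁻¹ * d⁻¹) = w * (d * (w : G)⁻¹ * d⁻¹) := congrArg Subtype.val huw
    have h2 : (u : G) * d * (u : G)⁻¹ = w * d * (w : G)⁻¹ := by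
      have h3 := congrArg (· * d) h1
      simpa [mul_assoc] using h3
    have h3 : d * ((w : G)⁻¹ * u) = (w : G)⁻¹ * u * d := by
      have h4 : (w : G)⁻¹ * ((u : G) * d * (u : G)⁻¹) * u = (w : G)⁻¹ * (w * d * (w : G)⁻¹) * u := by
        rw [h2]
      calc d * ((w : G)⁻¹ * u) = (w : G)⁻¹ * (w * d * (w : G)⁻¹) * u := by group
        _ = (w : G)⁻¹ * ((u : G) * d * (u : G)⁻¹) * u := h4.symm
        _ = (w : G)⁻¹ * u * d := by group
    have h4 := fpf6' hG h.T2 hd (T.mul_mem (T.inv_mem w.2) u.2) h3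
    exact Subtype.ext (inv_mul_eq_one.1 h4).symm
  obtain ⟨u, hu⟩ := (Finite.injective_iff_surjective.1 hf) ⟨t, ht⟩
  refine ⟨u, u.2, ?_⟩
  have h1 : (u : G) * (d * (u : G)⁻¹ * d⁻¹) = t := congrArg Subtype.val hu
  rw [← h1]
  group
/-- if `T` is not a Sylow 2-subgroup of `G` then there is an involution normalising `T`, acting
nontrivially on `C` -/
theorem exists_invol (h : Conf M₁ M₂ V₁ V₂ T C) (hG : NoSix G)
    (cT : ∀ c ∈ C, c ≠ 1 → ∀ m ∈ M₁, m * c * m⁻¹ = c → m ∈ T) {Y : Subgroup G}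
    (hY : IsPGroup 2 Y) (hTY : T ≤ Y) (hne : Y ≠ T) :
    ∃ g ∈ Y, g ∉ T ∧ (∀ t ∈ T, g * t * g⁻¹ ∈ T) ∧ g * g = 1 ∧ (∃ c ∈ C, g * c * g⁻¹ ≠ c) ∧
      ∃ d, orderOf d = 3 ∧ g * d * g⁻¹ = d⁻¹ ∧ (∀ t ∈ T, d * t * d⁻¹ ∈ T) ∧ (∀ v ∈ V₁, d * v * d⁻¹ ∈ V₁) ∧
        ∀ v ∈ V₂, d * v * d⁻¹ ∈ V₂ := by
  obtain ⟨s, hsY, hsT, hs⟩ := exists_normalizing hY hTY hne
  obtain ⟨d, hdM, hd3, hdT⟩ := exists_three h cT
  have hdC := h.char d hdT
  have hd1 : d ^ 3 = 1 := by rw [← hd3]; exact pow_orderOf_eq_one d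
  obtain ⟨hs1, hs2⟩ := h.swap hY hTY hsY hs hsT
  have c12 : Nat.card V₂ ≤ Nat.card V₁ := by rw [h.card₁, h.card₂]
  have c21 : Nat.card V₁ ≤ Nat.card V₂ := by rw [h.card₁, h.card₂]
  -- `d` normalises `V₂`
  have hdV : ∀ v ∈ V₂, d * v * d⁻¹ ∈ V₂ := by
    rcases h.maps hdT h.le₂ h.elem₂ with h1 | h1
    · exfalso
      apply h.ne'
      intro v hv
      exact (conj_mem_iff le_rfl (h.norm₁ d hdM) v).1 (h1 v hv)
    · exact h1
  -- `e = s d s⁻¹` lies in `M₁`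
  set e : G := s * d * s⁻¹ with he
  have he3 : orderOf e = 3 := by
    have := MulEquiv.orderOf_eq (MulAut.conj s) d
    rw [MulAut.conj_apply] at this
    rw [he, this, hd3]
  have heM : e ∈ M₁ := by
    apply h.mem₁
    intro v hv
    obtain ⟨w, rfl⟩ : ∃ w, v = s * w * s⁻¹ := ⟨s⁻¹ * v * s, by group⟩
    have hw : w ∈ V₂ := (conj_mem_iff c21 hs2 w).1 hv
    have h1 := hs2 _ (hdV w hw)
    rw [he]
    convert h1 using 1
    group
  have heT : ∀ t ∈ T, e * t * e⁻¹ ∈ T := by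
    intro t ht
    obtain ⟨w, rfl⟩ : ∃ w, t = s * w * s⁻¹ := ⟨s⁻¹ * t * s, by group⟩
    have hw : w ∈ T := (conj_mem_iff le_rfl hs w).1 ht
    have h1 := hs _ (hdT w hw)
    rw [he]
    convert h1 using 1
    group
  have heC := h.char e heT
  obtain ⟨a, ha, ha1, -⟩ := h.exists_notMem 1 1
  set b := d * a * d⁻¹ with hb
  have hbC : b ∈ C := hdC a ha
  have hb1 : b ≠ 1 := conj_ne_one ha1
  have hnofix : ∀ f : G, orderOf f = 3 → ∀ c ∈ C, f * c * f⁻¹ = c → c = 1 := by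
    intro f hf c hc hfc
    exact fpf6' hG h.T2 hf (h.C_le hc) (mul_inv_eq_iff_eq_mul.1 hfc)
  have hab : a ≠ b := fun h1 => ha1 (hnofix d hd3 a ha h1.symm)
  have hc' : d * b * d⁻¹ ∈ C := hdC b hbC
  have hc : d * b * d⁻¹ = a * b := by
    rcases h.four ha hbC hc' ha1 hb1 hab with h3 | h3 | h3 | h3
    · exact absurd h3 (conj_ne_one hb1)
    · exfalso
      -- d² a d⁻² = a
      have h4 : d ^ 2 * a * (d ^ 2)⁻¹ = a := by
        rw [pow_two, conj_conj, ← hb, h3]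
      have h5 : orderOf (d ^ 2) = 3 := by
        rw [Nat.Coprime.orderOf_pow, hd3]
        rw [hd3]; norm_num
      exact ha1 (hnofix _ h5 a ha h4)
    · exact absurd (hnofix d hd3 b hbC h3) hb1
    · exact h3
  have hx : e * a * e⁻¹ ∈ C := heC a ha
  have hkey : ∃ f, orderOf f = 3 ∧ (∀ t ∈ T, f * t * f⁻¹ ∈ T) ∧ (f = d ∨ f = d⁻¹) ∧
      ∃ t ∈ T, e = t * f := by
    rcases h.four ha hbC hx ha1 hb1 hab with h3 | h3 | h3 | h3
    · exact absurd h3 (conj_ne_one ha1)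
    · exact absurd (hnofix e he3 a ha h3) ha1
    · refine ⟨d, hd3, hdT, Or.inl rfl, ?_⟩
      have h4 : d⁻¹ * e ∈ T := by
        refine cT a ha ha1 _ (M₁.mul_mem (M₁.inv_mem hdM) heM) ?_
        rw [conj_conj, h3, hb]
        group
      refine ⟨d * (d⁻¹ * e) * d⁻¹, hdT _ h4, by group⟩
    · have hdi : ∀ t ∈ T, d⁻¹ * t * d⁻¹⁻¹ ∈ T := by
        intro t ht
        refine (conj_mem_iff le_rfl hdT _).1 ?_
        convert ht using 1
        group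
      refine ⟨d⁻¹, by rw [orderOf_inv, hd3], hdi, Or.inr rfl, ?_⟩
      have h4 : d * e ∈ T := by
        refine cT a ha ha1 _ (M₁.mul_mem hdM heM) ?_
        rw [conj_conj, h3, conj_mul', ← hb, hc]
        have h5 : b * (a * b) = a := by
          rw [h.cent a ha b (h.C_le hbC), ← mul_assoc, h.sq_C hbC, one_mul]
        exact h5
      refine ⟨d⁻¹ * (d * e) * d⁻¹⁻¹, hdi _ h4, by group⟩
  obtain ⟨f, hf3, hfT, hfd, t, ht, het⟩ := hkey
  obtain ⟨u, hu, hut⟩ := exists_conj h hG hf3 hfT t ht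
  -- `g = u⁻¹ s` maps `d` to `f`
  have hgd : (u⁻¹ * s) * d * (u⁻¹ * s)⁻¹ = f := by
    rw [conj_conj, ← he, het, ← hut]
    group
  have hgY : u⁻¹ * s ∈ Y := Y.mul_mem (Y.inv_mem (hTY hu)) hsY
  have hgT : u⁻¹ * s ∉ T := fun h1 => hsT ((T.mul_mem_cancel_left (T.inv_mem hu)).1 h1)
  have hgn : ∀ t ∈ T, (u⁻¹ * s) * t * (u⁻¹ * s)⁻¹ ∈ T := by
    intro t ht
    rw [conj_conj]
    exact T.mul_mem (T.mul_mem (T.inv_mem hu) (hs t ht)) (T.inv_mem (T.inv_mem hu))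
  set g := u⁻¹ * s with hg
  have hgf : f = d⁻¹ := by
    rcases hfd with h1 | h1
    · exfalso
      rw [h1] at hgd
      have h2 := fpf6' hG hY hd3 hgY (mul_inv_eq_iff_eq_mul.1 hgd).symm
      rw [h2] at hgT
      exact hgT T.one_mem
    · exact h1
  rw [hgf] at hgd
  refine ⟨g, hgY, hgT, hgn, ?_, ?_, d, hd3, hgd, hdT, h.norm₁ d hdM, hdV⟩
  · refine fpf6' hG hY hd3 (Y.mul_mem hgY hgY) ?_
    have h1 : (g * g) * d * (g * g)⁻¹ = d := by
      rw [conj_conj, hgd]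
      have h2 : g * d⁻¹ * g⁻¹ = (g * d * g⁻¹)⁻¹ := by group
      rw [h2, hgd, inv_inv]
    exact (mul_inv_eq_iff_eq_mul.1 h1).symm
  · by_contra hcon
    push Not at hcon
    have h1 := hcon a ha
    have h2 := hcon b hbC
    have h3 : d * b * d⁻¹ = a := by
      calc d * b * d⁻¹ = d * (g * b * g⁻¹) * d⁻¹ := by rw [h2]
        _ = d * ((g * d * g⁻¹) * (g * a * g⁻¹) * (g * d * g⁻¹)⁻¹) * d⁻¹ := by rw [hb]; group
        _ = d * (d⁻¹ * a * d⁻¹⁻¹) * d⁻¹ := by rw [hgd, h1]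
        _ = a := by group
    rw [hc] at h3
    exact hb1 (mul_eq_left.1 h3)
/-- `g` is not conjugate to an element of `T` -/
theorem not_conj (h : Conf M₁ M₂ V₁ V₂ T C) {Y : Subgroup G}
    (hY : IsPGroup 2 Y) (hTY : T ≤ Y) {g : G} (hgY : g ∈ Y) (hgT : g ∉ T)
    (hn : ∀ t ∈ T, g * t * g⁻¹ ∈ T) (h2 : g * g = 1) (hgC : ∃ c ∈ C, g * c * g⁻¹ ≠ c)
    (hS : ∀ k ∈ C, k ≠ 1 → g * k * g⁻¹ = k → ∀ z : G, z * k * z⁻¹ = k → z ∈ bigS T g hn h2) (x : G) :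
    x * g * x⁻¹ ∉ T := by
  intro hx
  have hg1 : g ≠ 1 := fun h3 => hgT (h3 ▸ T.one_mem)
  obtain ⟨k, hkC, hk1, hgk, y, hyk, hgy⟩ := h.exists_root hY hTY hgY hgT hn h2 hgC
  have hcent : ∀ z : G, z * k * z⁻¹ = k → z ∈ bigS T g hn h2 := hS k hkC hk1 hgk
  -- `g` is conjugate to `k`
  obtain ⟨x', hx'⟩ : ∃ x', x' * g * x'⁻¹ = k := by
    have h3 : x * g * x⁻¹ * (x * g * x⁻¹) = 1 := by
      calc x * g * x⁻¹ * (x * g * x⁻¹) = x * (g * g) * x⁻¹ := by group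
        _ = 1 := by rw [h2]; group
    rcases h.inv _ hx h3 with h4 | h4
    · obtain ⟨m, -, hm⟩ := h.trans₁ _ h4 (conj_ne_one hg1) k ((h.memC k).1 hkC).1 hk1
      exact ⟨m * x, by rw [conj_conj, hm]⟩
    · obtain ⟨m, -, hm⟩ := h.trans₂ _ h4 (conj_ne_one hg1) k ((h.memC k).1 hkC).2 hk1
      exact ⟨m * x, by rw [conj_conj, hm]⟩
  -- `y' = x' y x'⁻¹ ∈ S`
  have hyS : x' * y * x'⁻¹ ∈ bigS T g hn h2 := by
    apply hcent
    have h3 : y * g * y⁻¹ = g := by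
      have h4 : g * y = y * g := mul_inv_eq_iff_eq_mul.1 hgy
      rw [← h4]; group
    calc x' * y * x'⁻¹ * k * (x' * y * x'⁻¹)⁻¹
        = x' * y * x'⁻¹ * (x' * g * x'⁻¹) * (x' * y * x'⁻¹)⁻¹ := by rw [hx']
      _ = x' * (y * g * y⁻¹) * x'⁻¹ := by group
      _ = k := by rw [h3, hx']
  have hkT : x' * k * x'⁻¹ ∈ T := by
    have h3 : x' * y * x'⁻¹ * (x' * y * x'⁻¹) = x' * k * x'⁻¹ := by
      rw [← hyk]; group
    rw [← h3]
    by_cases h4 : x' * y * x'⁻¹ ∈ T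
    · exact T.mul_mem h4 h4
    · exact bigS_mul hyS hyS h4 h4
  have h3 : x' * k * x'⁻¹ * (x' * k * x'⁻¹) = 1 := by
    calc x' * k * x'⁻¹ * (x' * k * x'⁻¹) = x' * (k * k) * x'⁻¹ := by group
      _ = 1 := by rw [h.sq_C hkC]; group
  have key : ∀ V : Subgroup G, Elem V → Nat.card V = 16 → k ∈ V → x' * k * x'⁻¹ ∈ V → False := by
    intro V he hc hkV hk2
    have h4 : V.map (MulAut.conj x'⁻¹).toMonoidHom ≤ T := by
      refine h.elem_le hY hTY hgY hn h2 ?_ ?_ ?_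
      · rintro _ ⟨v, hv, rfl⟩
        apply hcent
        show x'⁻¹ * v * x'⁻¹⁻¹ * k * (x'⁻¹ * v * x'⁻¹⁻¹)⁻¹ = k
        have h5 : v * (x' * k * x'⁻¹) * v⁻¹ = x' * k * x'⁻¹ := by
          rw [he.comm hv hk2]; group
        calc x'⁻¹ * v * x'⁻¹⁻¹ * k * (x'⁻¹ * v * x'⁻¹⁻¹)⁻¹
            = x'⁻¹ * (v * (x' * k * x'⁻¹) * v⁻¹) * x' := by group
          _ = k := by rw [h5]; group
      · rintro _ ⟨w, hw, rfl⟩
        show x'⁻¹ * w * x'⁻¹⁻¹ * (x'⁻¹ * w * x'⁻¹⁻¹) = 1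
        calc x'⁻¹ * w * x'⁻¹⁻¹ * (x'⁻¹ * w * x'⁻¹⁻¹) = x'⁻¹ * (w * w) * x'⁻¹⁻¹ := by group
          _ = 1 := by rw [he w hw]; group
      · rw [Subgroup.card_map_of_injective (MulAut.conj x'⁻¹).injective, hc]
    apply hgT
    refine h4 ⟨k, hkV, ?_⟩
    show x'⁻¹ * k * x'⁻¹⁻¹ = g
    rw [← hx']; group
  rcases h.inv _ hkT h3 with h4 | h4
  · exact key V₁ h.elem₁ h.card₁ ((h.memC k).1 hkC).1 h4
  · exact key V₂ h.elem₂ h.card₂ ((h.memC k).1 hkC).2 h4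

/-- a `d`-invariant subgroup `Q` of the ambient group containing all `v (g v g⁻¹)⁻¹`, `v ∈ V₁`, contains `V₁`, `V₂` -/
theorem le_of_comm (h : Conf M₁ M₂ V₁ V₂ T C) (hG : NoSix G) {g d : G} (h2 : g * g = 1) (hd : orderOf d = 3)
    (hgd : g * d * g⁻¹ = d⁻¹) (hs1 : ∀ v ∈ V₁, g * v * g⁻¹ ∈ V₂) (hs2 : ∀ v ∈ V₂, g * v * g⁻¹ ∈ V₁)
    (hd1 : ∀ v ∈ V₁, d * v * d⁻¹ ∈ V₁) (hd2 : ∀ v ∈ V₂, d * v * d⁻¹ ∈ V₂)
    {Q : Subgroup G} (hQ : ∀ u ∈ Q, d * u * d⁻¹ ∈ Q) (hc : ∀ v ∈ V₁, v * g * v⁻¹ * g⁻¹ ∈ Q) : T ≤ Q := by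
  have hd3 : d ^ 3 = 1 := by rw [← hd]; exact pow_orderOf_eq_one d
  have hd3' : d * d * d = 1 := by rw [← hd3, pow_succ, pow_two]
  -- `x = v (g v g⁻¹)⁻¹ ∈ Q`, so `v w ∈ Q` where `w = g v g⁻¹ ∈ V₂`
  have h1 : ∀ v ∈ V₁, v * (g * v * g⁻¹) ∈ Q := by
    intro v hv
    have h3 := hc v hv
    have h4 : v * g * v⁻¹ * g⁻¹ = v * (g * v * g⁻¹)⁻¹ := by group
    rw [h4, inv_eq_of_mul_eq_one_left (h.elem₂ _ (hs1 v hv))] at h3
    exact h3
  have hW : ∀ v ∈ V₁, g * v * g⁻¹ ∈ Q := by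
    intro v hv
    set w := g * v * g⁻¹ with hw
    have hwV : w ∈ V₂ := hs1 v hv
    have e1 : v * w ∈ Q := h1 v hv
    -- `d v d⁻¹ * (g (d v d⁻¹) g⁻¹) = d v d⁻¹ * (d⁻¹ w d)`; conjugate by `d⁻¹`: `v * d⁻² w d²`
    have e2 : (d * v * d⁻¹) * (d⁻¹ * w * d) ∈ Q := by
      have h5 := h1 _ (hd1 v hv)
      have h6 : g * (d * v * d⁻¹) * g⁻¹ = d⁻¹ * w * d := by
        calc g * (d * v * d⁻¹) * g⁻¹ = (g * d * g⁻¹) * (g * v * g⁻¹) * (g * d * g⁻¹)⁻¹ := by group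
          _ = d⁻¹ * w * d := by rw [hgd, ← hw, inv_inv]
      rwa [h6] at h5
    have e3 : v * (d * w * d⁻¹) ∈ Q := by
      have h5 := hQ _ (hQ _ e2)
      have h6 : d * (d * (d * v * d⁻¹ * (d⁻¹ * w * d)) * d⁻¹) * d⁻¹ =
          (d * d * d) * v * (d * d * d)⁻¹ * (d * w * d⁻¹) := by group
      rw [h6, hd3'] at h5
      simpa using h5
    have hwi : w⁻¹ = w := inv_eq_of_mul_eq_one_left (h.elem₂ w hwV)
    have e4 : w * (d * w * d⁻¹) ∈ Q := by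
      have h5 := Q.mul_mem (Q.inv_mem e1) e3
      have h6 : (v * w)⁻¹ * (v * (d * w * d⁻¹)) = w⁻¹ * (d * w * d⁻¹) := by group
      rwa [h6, hwi] at h5
    -- `w * w^d * w^(d²) = 1`
    have e5 : w * (d * w * d⁻¹) * (d * (d * w * d⁻¹) * d⁻¹) = 1 := by
      have hw1 := hd2 w hwV
      have hw2 := hd2 _ hw1
      refine fpf6' hG (h.T2.to_le h.le₂) hd (V₂.mul_mem (V₂.mul_mem hwV hw1) hw2) ?_
      have h5 : d * (w * (d * w * d⁻¹) * (d * (d * w * d⁻¹) * d⁻¹)) * d⁻¹ =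
          (d * w * d⁻¹) * (d * (d * w * d⁻¹) * d⁻¹) * (d ^ 3 * w * (d ^ 3)⁻¹) := by group
      have h6 : d * (w * (d * w * d⁻¹) * (d * (d * w * d⁻¹) * d⁻¹)) * d⁻¹ =
          w * (d * w * d⁻¹) * (d * (d * w * d⁻¹) * d⁻¹) := by
        rw [h5, hd3, one_mul, inv_one, mul_one, mul_assoc w, h.elem₂.comm hwV (V₂.mul_mem hw1 hw2)]
      exact mul_inv_eq_iff_eq_mul.1 h6
    have e6 : d * (d * w * d⁻¹) * d⁻¹ ∈ Q := by
      have h5 : d * (d * w * d⁻¹) * d⁻¹ = (w * (d * w * d⁻¹))⁻¹ := eq_inv_of_mul_eq_one_right e5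
      rw [h5]
      exact Q.inv_mem e4
    have e7 := hQ _ e6
    have h5 : d * (d * (d * w * d⁻¹) * d⁻¹) * d⁻¹ = (d * d * d) * w * (d * d * d)⁻¹ := by group
    rw [h5, hd3'] at e7
    simpa using e7
  have hV1 : V₁ ≤ Q := by
    intro v hv
    exact (Q.mul_mem_cancel_right (hW v hv)).1 (h1 v hv)
  have hV2 : V₂ ≤ Q := by
    intro w hw
    have h3 := hW _ (hs2 w hw)
    have h4 : g * (g * w * g⁻¹) * g⁻¹ = w := by
      rw [← conj_conj, h2]; group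
    rwa [h4] at h3
  exact h.sup Q hV1 hV2

end conf

theorem conf_of_pair {M₁ M₂ P₁ P₂ V₁ V₂ T : Subgroup G} (h : Pair M₁ M₂ P₁ P₂ V₁ V₂ T 4)
    (cT : ∀ c ∈ omegaZ T, c ≠ 1 → ∀ m ∈ M₁, m * c * m⁻¹ = c → m ∈ T) : Conf M₁ M₂ V₁ V₂ T (omegaZ T) := by
  have c₁ : Nat.card V₁ = 16 := by rw [h.card_V₁]; norm_num
  have c₂ : Nat.card V₂ = 16 := by rw [h.card_V₂]; norm_num
  have e₁ : omegaZ V₁ = V₁ := omegaZ_of_elem h.elem₁
  have e₂ : omegaZ V₂ = V₂ := omegaZ_of_elem h.elem₂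
  have n₁ : V₁ ≠ ⊥ := by
    rintro rfl
    rw [Subgroup.card_bot] at c₁
    omega
  have n₂ : V₂ ≠ ⊥ := by
    rintro rfl
    rw [Subgroup.card_bot] at c₂
    omega
  have l₁ : V₁ ≤ T := h.sup ▸ le_sup_left
  have l₂ : V₂ ≤ T := h.sup ▸ le_sup_right
  have hchar : ∀ g : G, (∀ t ∈ T, g * t * g⁻¹ ∈ T) → ∀ c ∈ omegaZ T, g * c * g⁻¹ ∈ omegaZ T := by
    intro g hg c hc
    rw [mem_omegaZ] at hc ⊢
    refine ⟨hg c hc.1, ?_, fun y hy => ?_⟩
    · calc g * c * g⁻¹ * (g * c * g⁻¹) = g * (c * c) * g⁻¹ := by group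
        _ = 1 := by rw [hc.2.1]; group
    · obtain ⟨x, rfl⟩ : ∃ x, y = g * x * g⁻¹ := ⟨g⁻¹ * y * g, by group⟩
      have hx : x ∈ T := (conj_mem_iff le_rfl hg x).1 hy
      calc g * c * g⁻¹ * (g * x * g⁻¹) = g * (c * x) * g⁻¹ := by group
        _ = g * (x * c) * g⁻¹ := by rw [hc.2.2 x hx]
        _ = g * x * g⁻¹ * (g * c * g⁻¹) := by group
  have hmemC : ∀ x, x ∈ omegaZ T ↔ x ∈ V₁ ∧ x ∈ V₂ := fun x => by rw [← h.inf, Subgroup.mem_inf]
  -- an element of `M₁` mapping some `c ∈ C#` into `C` normalises `T`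
  have key : ∀ m ∈ M₁, (∃ v ∈ omegaZ T, v ≠ 1 ∧ m * v * m⁻¹ ∈ omegaZ T) → ∀ t ∈ T, m * t * m⁻¹ ∈ T := by
    rintro m hm ⟨v, hv, hv1, hmv⟩ t ht
    refine cT _ hmv (conj_ne_one hv1) _ (M₁.mul_mem (M₁.mul_mem hm (h.t₁.syl.le ht)) (M₁.inv_mem hm)) ?_
    calc m * t * m⁻¹ * (m * v * m⁻¹) * (m * t * m⁻¹)⁻¹ = m * (t * v * t⁻¹) * m⁻¹ := by group
      _ = m * v * m⁻¹ := by rw [← hv.2.2 t ht]; group
  refine
    { T2 := h.t₁.syl.two
      le₁ := l₁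
      le₂ := l₂
      elem₁ := h.elem₁
      elem₂ := h.elem₂
      card₁ := c₁
      card₂ := c₂
      cardT := by rw [h.card]; norm_num
      cardC := h.card_C
      sup := fun L h1 h2 => h.sup ▸ sup_le h1 h2
      memC := hmemC
      cent := fun c hc t ht => hc.2.2 t ht
      char := hchar
      inv := ?_
      mem₁ := fun g hg => mem_of_isMaxLocal h.max₁ n₁ h.t₁.o2.two h.t₁.o2.normal hg
      mem₂ := fun g hg => mem_of_isMaxLocal h.max₂ n₂ h.t₂.o2.two h.t₂.o2.normal hg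
      norm₁ := h.t₁.o2.normal
      leM₁ := h.t₁.syl.le
      leM₂ := h.t₂.syl.le
      max₁ := h.t₁.syl.max
      max₂ := h.t₂.syl.max
      trans₁ := ?_
      trans₂ := ?_
      spread := fun m hm hv => hchar m (key m hm hv)
      normalizes := ?_
      comm := ?_
      ncomm := ?_ }
  · intro x hx hx2
    have h1 := h.elem (Subgroup.zpowers x) (by rw [Subgroup.zpowers_le]; exact hx) (by
      rintro _ ⟨n, rfl⟩
      show x ^ n * x ^ n = 1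
      rw [← (Commute.refl x).mul_zpow, hx2, one_zpow])
    rcases h1 with h1 | h1
    · exact Or.inl (h1 (Subgroup.mem_zpowers x))
    · exact Or.inr (h1 (Subgroup.mem_zpowers x))
  · intro v hv hv1 w hw hw1
    obtain ⟨g, hg, hgw⟩ := T1Local.nat_trans h.t₁.ltype (by rw [e₁]; exact h.card_V₁) v (e₁.symm ▸ hv) hv1 w
      (e₁.symm ▸ hw) hw1
    exact ⟨g, h.t₁.le hg, hgw⟩
  · intro v hv hv1 w hw hw1
    obtain ⟨g, hg, hgw⟩ := T1Local.nat_trans h.t₂.ltype (by rw [e₂]; exact h.card_V₂) v (e₂.symm ▸ hv) hv1 w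
      (e₂.symm ▸ hw) hw1
    exact ⟨g, h.t₂.le hg, hgw⟩
  · intro m hm hmC
    have h4 : ∃ v ∈ omegaZ T, v ≠ 1 := by
      by_contra hcon
      push Not at hcon
      have h1 : omegaZ T = ⊥ := (Subgroup.eq_bot_iff_forall _).2 hcon
      have h3 := h.card_C
      rw [h1, Subgroup.card_bot] at h3
      omega
    obtain ⟨v, hv, hv1⟩ := h4
    exact key m hm ⟨v, hv, hv1, hmC v hv⟩
  · intro v hv w hw
    rw [hmemC]
    constructor
    · have h1 := h.t₁.o2.normal w (h.t₁.syl.le (l₂ hw)) _ (V₁.inv_mem hv)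
      have h3 : v * w * v⁻¹ * w⁻¹ = v * (w * v⁻¹ * w⁻¹) := by group
      rw [h3]
      exact V₁.mul_mem hv h1
    · have h1 := h.t₂.o2.normal v (h.t₂.syl.le (l₁ hv)) _ hw
      exact V₂.mul_mem h1 (V₂.inv_mem hw)
  · intro v hv hv2 w hw hc
    exact h.cent₂ v (l₁ hv) hv2 w hw hc


/-- `C_{M₁}(c) = T` for `c ∈ C#` -/
theorem cT_of (hG : NoSix G) {M₁ M₂ P₁ P₂ V₁ V₂ T : Subgroup G} (h : Pair M₁ M₂ P₁ P₂ V₁ V₂ T 4)
    (hMP : M₁ = P₁) : ∀ c ∈ omegaZ T, c ≠ 1 → ∀ m ∈ M₁, m * c * m⁻¹ = c → m ∈ T := by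
  intro c hc hc1 m hm hmc
  have hL := h.t₁.ltype
  have hcT : c ∈ T := hc.1
  have no3 : ∀ x ∈ M₁ ⊓ Subgroup.centralizer ({c} : Set G), orderOf x = 3 → False := by
    intro x hx hx3
    exact hc1 (fpf6' hG h.t₁.syl.two hx3 hcT (Subgroup.mem_centralizer_singleton_iff.1 hx.2))
  have hTK : T ≤ M₁ ⊓ Subgroup.centralizer ({c} : Set G) := by
    refine le_inf h.t₁.syl.le fun t ht => ?_
    rw [Subgroup.mem_centralizer_singleton_iff]
    exact (hc.2.2 t ht).symm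
  have hmK : m ∈ M₁ ⊓ Subgroup.centralizer ({c} : Set G) :=
    ⟨hm, Subgroup.mem_centralizer_singleton_iff.2 (mul_inv_eq_iff_eq_mul.1 hmc)⟩
  rcases T1Local.normalizes_or hL hTK (by rw [← hMP]; exact inf_le_left) with h1 | h1
  · obtain ⟨K, hK1, hK2, hK3, hK4, hK5⟩ := T1Local.exists_torus' hL
    obtain ⟨t, ht, k, hk, rfl⟩ := hK5 m (hMP ▸ hm) (h1 m hmK)
    have hkH : k ∈ M₁ ⊓ Subgroup.centralizer ({c} : Set G) := by
      have := Subgroup.mul_mem _ (Subgroup.inv_mem _ (hTK ht)) hmK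
      rwa [inv_mul_cancel_left] at this
    have hk3 : orderOf k ∣ 3 := by
      have := Subgroup.orderOf_dvd_natCard K hk
      rwa [hK3] at this
    rcases (Nat.dvd_prime Nat.prime_three).1 hk3 with h5 | h5
    · rw [orderOf_eq_one_iff] at h5
      rw [h5, mul_one]
      exact ht
    · exact absurd h5 (fun h6 => no3 k hkH h6)
  · exfalso
    obtain ⟨t, ht, htQ⟩ := T1Local.exists_not_mem hL
    obtain ⟨x, hx, hx3, -⟩ := T1Local.inverts hL t ht htQ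
    exact no3 x (h1 ▸ hx) hx3

/-- 3.5 -/
theorem four_sylow [IsSimpleGroup G] (hG : Hyp G) {M₁ M₂ P₁ P₂ V₁ V₂ T : Subgroup G}
    (h : Pair M₁ M₂ P₁ P₂ V₁ V₂ T 4) (hu : UniqueAbove T) : IsSyl2 (⊤ : Subgroup G) T := by
  obtain ⟨-, hMP₁, -⟩ := T1Torus.q_le_four hG h
  have cT := cT_of hG.nosix h hMP₁
  have hC := conf_of_pair h cT
  refine ⟨le_top, hC.T2, fun Y _ hY hTY => ?_⟩
  by_contra hne
  obtain ⟨g, hgY, hgT, hn, h2, hgC, d, hd3, hgd, hdT, hd1, hd2⟩ := exists_invol hC hG.nosix cT hY hTY hne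
  obtain ⟨hs1, hs2⟩ := hC.swap hY hTY hgY hn hgT
  have hS2 : IsPGroup 2 (bigS T g hn h2) := hY.to_le (bigS_le hTY hgY)
  have hdd : d ^ 3 = 1 := by rw [← hd3]; exact pow_orderOf_eq_one d
  have hTne : T ≠ ⊥ := by
    rintro h1
    have h3 := hC.cardT
    rw [h1, Subgroup.card_bot] at h3
    omega
  -- the maximal local subgroup above `N_G(T)`
  obtain ⟨X, hTX, hX⟩ := exists_isO2_ge (Subgroup.normalizer (T : Set G)) T Subgroup.le_normalizer hC.T2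
    (fun m hm x hx => (Subgroup.mem_normalizer_iff.1 hm x).1 hx)
  obtain ⟨M₃, hNM, hM₃⟩ := Cfsg.Agent.LieExceptional.CITGlobalBasic.exists_isMaxLocal
    ⟨X, fun h1 => hTne (le_bot_iff.1 (h1 ▸ hTX)), hX⟩
  have hnorm : ∀ x : G, (∀ t ∈ T, x * t * x⁻¹ ∈ T) → x ∈ M₃ := by
    intro x hx
    apply hNM
    rw [Subgroup.mem_normalizer_iff]
    exact fun y => (conj_mem_iff le_rfl hx y).symm
  have hSM : bigS T g hn h2 ≤ M₃ := fun x hx => hnorm x (bigS_normalizes hx)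
  have hdM : d ∈ M₃ := hnorm d hdT
  obtain ⟨Q₃, hQ₃⟩ := Cfsg.Agent.LieExceptional.CITGlobalBasic.exists_isO2 M₃
  have hSyl : IsSyl2 M₃ (bigS T g hn h2) :=
    ⟨hSM, hS2, fun Z _ hZ2 hSZ => hC.sylow hY hTY hgY hgT hn h2 hZ2 hSZ⟩
  have hQS : Q₃ ≤ bigS T g hn h2 := Cfsg.Agent.LieExceptional.CITCommute.o2_le_syl hQ₃ hSyl
  have hgi : g⁻¹ = g := inv_eq_of_mul_eq_one_left h2
  have hQT : Q₃ ≤ T := by
    intro u hu
    by_contra huT
    have hgu : g * u ∈ T := (hQS hu).resolve_left huT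
    have h1 : d * u * d⁻¹ ∈ bigS T g hn h2 := hQS (hQ₃.normal d hdM u hu)
    have hdi : d⁻¹ * (g * u) * d⁻¹⁻¹ ∈ T := by
      refine (conj_mem_iff le_rfl hdT _).1 ?_
      have h3 : d * (d⁻¹ * (g * u) * d⁻¹⁻¹) * d⁻¹ = g * u := by group
      rw [h3]
      exact hgu
    have h3 : d ∈ bigS T g hn h2 := by
      have h4 : (d⁻¹ * (g * u) * d⁻¹⁻¹)⁻¹ * (g * (d * u * d⁻¹)) ∈ bigS T g hn h2 :=
        Subgroup.mul_mem _ (Subgroup.inv_mem _ (T_le_bigS hdi)) (Subgroup.mul_mem _ g_mem_bigS h1)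
      have h5 : (d⁻¹ * (g * u) * d⁻¹⁻¹)⁻¹ * (g * (d * u * d⁻¹)) = d := by
        have h6 : g * (d * u * d⁻¹) = (g * d * g⁻¹) * (g * u) * d⁻¹ := by group
        rw [h6, hgd]
        have h7 : (d⁻¹ * (g * u) * d⁻¹⁻¹)⁻¹ * (d⁻¹ * (g * u) * d⁻¹) = (d ^ 3)⁻¹ * d := by group
        rw [h7, hdd]; simp
      rwa [h5] at h4
    have h6 : d = 1 := fpf6' hG.nosix hS2 hd3 h3 rfl
    rw [h6, orderOf_one] at hd3
    omega
  have hTQ : T ≤ Q₃ := by
    rcases T1Structure.types hG hM₃ hQ₃ hSyl with h1 | ⟨P₃, q₃, h3⟩ | h3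
    · exact absurd (hQT (h1 ▸ g_mem_bigS)) hgT
    · refine le_of_comm hC hG.nosix h2 hd3 hgd hs1 hs2 hd1 hd2 (fun u hu => hQ₃.normal d hdM u hu) fun v hv => ?_
      exact T1Local.comm_mem h3.ltype v (T_le_bigS (hC.le₁ hv)) g g_mem_bigS
    · exfalso
      apply h3
      rw [← hd3]
      exact Subgroup.orderOf_dvd_natCard M₃ hdM
  have hQeq : Q₃ = T := le_antisymm hQT hTQ
  have hM3T : ∀ m ∈ M₃, ∀ t ∈ T, m * t * m⁻¹ ∈ T := by
    intro m hm t ht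
    rw [← hQeq] at ht ⊢
    exact hQ₃.normal m hm t ht
  have hlt : T < bigS T g hn h2 :=
    lt_of_le_of_ne T_le_bigS fun h1 => hgT (by rw [h1]; exact g_mem_bigS)
  have hS : ∀ k ∈ omegaZ T, k ≠ 1 → g * k * g⁻¹ = k → ∀ z : G, z * k * z⁻¹ = k → z ∈ bigS T g hn h2 := by
    intro k hk hk1 hgk z hz
    have hkp : IsPGroup 2 (Subgroup.zpowers k) := hC.T2.to_le (by
      rw [Subgroup.zpowers_le]
      exact hk.1)
    obtain ⟨X', hkX, hX'⟩ := exists_isO2_ge (Subgroup.centralizer ({k} : Set G)) (Subgroup.zpowers k) (by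
      rw [Subgroup.zpowers_le]
      exact Subgroup.mem_centralizer_singleton_iff.2 rfl) hkp (by
      rintro m hm _ ⟨n, rfl⟩
      refine ⟨n, ?_⟩
      have h1 : Commute m k := Subgroup.mem_centralizer_singleton_iff.1 hm
      show k ^ n = m * k ^ n * m⁻¹
      rw [(h1.zpow_right n).eq, mul_inv_cancel_right])
    obtain ⟨M₄, hKM, hM₄⟩ := Cfsg.Agent.LieExceptional.CITGlobalBasic.exists_isMaxLocal
      ⟨X', fun h1 => hk1 (by
        have h3 := hkX (Subgroup.mem_zpowers k)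
        rwa [h1, Subgroup.mem_bot] at h3), hX'⟩
    have hSK : bigS T g hn h2 ≤ Subgroup.centralizer ({k} : Set G) := by
      refine bigS_le (fun t ht => ?_) ?_
      · rw [Subgroup.mem_centralizer_singleton_iff]
        exact (hC.cent k hk t ht).symm
      · rw [Subgroup.mem_centralizer_singleton_iff]
        exact mul_inv_eq_iff_eq_mul.1 hgk
    have hM : M₄ = M₃ := hu _ hS2 hlt M₄ M₃ hM₄ hM₃ (hSK.trans hKM) hSM
    have hzM : z ∈ M₃ := by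
      rw [← hM]
      exact hKM (Subgroup.mem_centralizer_singleton_iff.2 (mul_inv_eq_iff_eq_mul.1 hz))
    rcases hC.maps (hM3T z hzM) hC.le₁ hC.elem₁ with h1 | h1
    · exact T_le_bigS (cT k hk hk1 z (hC.mem₁ z h1) hz)
    · refine Or.inr (cT k hk hk1 (g * z) (hC.mem₁ _ fun v hv => ?_) ?_)
      · rw [conj_conj]
        exact hs2 _ (h1 v hv)
      · rw [conj_conj, hz, hgk]
  let P : Sylow 2 G :=
    { toSubgroup := bigS T g hn h2
      isPGroup' := hS2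
      is_maximal' := fun {Q} hQ hle => hC.sylow hY hTY hgY hgT hn h2 hQ hle }
  have hrel : T.relIndex (P : Subgroup G) = 2 := by
    rw [Subgroup.relIndex_eq_two_iff]
    have hgS : g ∈ bigS T g hn h2 := g_mem_bigS
    refine ⟨g, hgS, fun b hb => ?_⟩
    by_cases hbT : b ∈ T
    · exact Or.inr ⟨hbT, fun h6 => hgT ((T.mul_mem_cancel_left hbT).1 h6)⟩
    · exact Or.inl ⟨bigS_mul (hn := hn) (h2 := h2) hb hgS hbT hgT, hbT⟩
  rcases Cfsg.Agent.Transfer.ThompsonTransfer.thompson_transfer P T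
    (T_le_bigS (hn := hn) (h2 := h2)) hrel g
    (by rw [pow_two]; exact h2) with ⟨N, hN, hNi, -⟩ | ⟨x, hx⟩
  · rcases hN.eq_bot_or_eq_top with h3 | h3
    · rw [h3, Subgroup.index_bot] at hNi
      have h4 := Subgroup.card_le_card_group T
      rw [hC.cardT, hNi] at h4
      omega
    · rw [h3, Subgroup.index_top] at hNi
      omega
  · exact not_conj hC hY hTY hgY hgT hn h2 hgC hS x hx

end Cfsg.Agent.OddCyclic.T1Four
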