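import Mathlib

/-!
# T1-E: the cubic lemma (blueprints/S0342-T0eq1.md, 0.3)
-/

set_option autoImplicit false

namespace Cfsg.Agent.OddCyclic.T1Cubic

variable {W : Type*} [CommGroup W]

theorem fix_zpow {y : MulAut W} {w : W} (h : y w = w) (j : ℤ) : (y ^ j) w = w := by
  have h1 : y ∈ MulAction.stabilizer (MulAut W) w := h
  exact Subgroup.zpow_mem _ h1 j

theorem fix_of_coprime {y : MulAut W} {n : ℕ} (hy : y ^ n = 1) {j : ℤ} (hj : IsCoprime j (n : ℤ)) {w : W}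
    (h : (y ^ j) w = w) : y w = w := by
  obtain ⟨a, b, hab⟩ := hj
  have h1 := fix_zpow h a
  have h2 : (y ^ j) ^ a = y := by
    rw [← zpow_mul]
    have : j * a = 1 + (n : ℤ) * (-b) := by linarith [hab, mul_comm a j, mul_comm b (n : ℤ)]
    rw [this, zpow_add, zpow_one, zpow_mul, zpow_natCast, hy, one_zpow, mul_one]
  rwa [h2] at h1

/-- in an elementary abelian 2-group: `a b = 1` iff `a = b` -/
theorem eq_iff (hW : ∀ w : W, w * w = 1) {a b : W} : a * b = 1 ↔ a = b := by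
  constructor
  · intro h
    rw [← inv_eq_of_mul_eq_one_left (hW b)]
    exact eq_inv_of_mul_eq_one_left h
  · rintro rfl
    exact hW a

section
variable (hW : ∀ w : W, w * w = 1) (y s : MulAut W) {n k : ℕ} (hn : Odd n) (hy : y ^ n = 1)
  (hs : s⁻¹ * y * s = y ^ k) (hk : n ∣ k ^ 2 + 1)

include hy in
theorem zpow_eq {a b : ℤ} (h : (n : ℤ) ∣ a - b) : y ^ a = y ^ b := by
  obtain ⟨c, hc⟩ := h
  have : a = b + (n : ℤ) * c := by linarith
  rw [this, zpow_add, zpow_mul, zpow_natCast, hy, one_zpow, mul_one]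

include hy hs hk in
theorem conj_s : s * y = y ^ (-(k : ℤ)) * s := by
  have hkz : (n : ℤ) ∣ (k : ℤ) ^ 2 + 1 := by exact_mod_cast hk
  have h1 : s⁻¹ * y ^ (-(k : ℤ)) * s = y := by
    have : s⁻¹ * y ^ (-(k : ℤ)) * s = (s⁻¹ * y * s) ^ (-(k : ℤ)) := by
      have := (conj_zpow (i := -(k : ℤ)) (a := s⁻¹) (b := y))
      rw [inv_inv] at this
      exact this.symm
    rw [this, hs, ← zpow_natCast, ← zpow_mul]
    have h2 : y ^ ((k : ℤ) * -(k : ℤ)) = y ^ (1 : ℤ) := by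
      apply zpow_eq y hy
      have : (k : ℤ) * -(k : ℤ) - 1 = -((k : ℤ) ^ 2 + 1) := by ring
      rw [this]
      exact (dvd_neg).2 hkz
    rw [h2, zpow_one]
  calc s * y = s * (s⁻¹ * y ^ (-(k : ℤ)) * s) := by rw [h1]
    _ = y ^ (-(k : ℤ)) * s := by group

include hy hs hk in
theorem conj_s_zpow (j : ℤ) : s * y ^ j = y ^ (-(k : ℤ) * j) * s := by
  have h := conj_s y s hy hs hk
  have h1 : s * y * s⁻¹ = y ^ (-(k : ℤ)) := by rw [h]; group
  have h2 : s * y ^ j * s⁻¹ = y ^ (-(k : ℤ) * j) := by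
    rw [← conj_zpow, h1, ← zpow_mul]
  rw [← h2]; group

include hW hn hy hs hk in
theorem fixed_of (h3 : ∀ w : W, w * s w * s (s w) * s (s (s w)) = 1) {w : W}
    (h1 : y (s w * w) = s w * w) (h2 : y (s (s w) * w) = s (s w) * w)
    (h4 : y (s (s (s w)) * w) = s (s (s w)) * w) : y w = w := by
  have hkz : (n : ℤ) ∣ (k : ℤ) ^ 2 + 1 := by exact_mod_cast hk
  have hc (j : ℤ) (v : W) : s ((y ^ j) v) = (y ^ (-(k : ℤ) * j)) (s v) := by
    have := congrArg (fun f : MulAut W => f v) (conj_s_zpow y s hy hs hk j)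
    exact this
  have hc1 (v : W) : s (y v) = (y ^ (-(k : ℤ))) (s v) := by
    have := hc 1 v
    rwa [zpow_one, mul_one] at this
  -- s² y v = y⁻¹ s² v
  have hc2 (v : W) : s (s (y v)) = (y ^ (-1 : ℤ)) (s (s v)) := by
    rw [hc1, hc]
    have e : y ^ (-(k : ℤ) * -(k : ℤ)) = y ^ (-1 : ℤ) := by
      apply zpow_eq y hy
      have : -(k : ℤ) * -(k : ℤ) - -1 = (k : ℤ) ^ 2 + 1 := by ring
      rw [this]; exact hkz
    rw [e]
  have hc3 (v : W) : s (s (s (y v))) = (y ^ (k : ℤ)) (s (s (s v))) := by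
    rw [hc2, hc]
    have e : -(k : ℤ) * -1 = (k : ℤ) := by ring
    rw [e]
  -- s w = (s w * w) * w
  have key (v w' : W) (j : ℤ) (hv : y (v * w') = v * w') : (y ^ j) v = (v * w') * (y ^ j) w' := by
    have h5 := fix_zpow hv j
    rw [map_mul] at h5
    calc (y ^ j) v = (y ^ j) v * ((y ^ j) w' * (y ^ j) w') := by rw [hW, mul_one]
      _ = ((y ^ j) v * (y ^ j) w') * (y ^ j) w' := (mul_assoc _ _ _).symm
      _ = _ := by rw [h5]
  have hsum := h3 (y w)
  rw [hc3, hc2, hc1, key _ _ _ h1, key _ _ _ h2, key _ _ _ h4] at hsum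
  have hsum' : (w * s w * s (s w) * s (s (s w))) *
      (y w * (y ^ (-(k : ℤ))) w * (y ^ (-1 : ℤ)) w * (y ^ (k : ℤ)) w) = 1 := by
    rw [← hsum]
    calc (w * s w * s (s w) * s (s (s w))) *
      (y w * (y ^ (-(k : ℤ))) w * (y ^ (-1 : ℤ)) w * (y ^ (k : ℤ)) w)
        = (w * w) * ((w * s w * s (s w) * s (s (s w))) *
      (y w * (y ^ (-(k : ℤ))) w * (y ^ (-1 : ℤ)) w * (y ^ (k : ℤ)) w)) := by rw [hW w, one_mul]
      _ = _ := by
        simp only [mul_comm, mul_left_comm, mul_assoc]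
  rw [h3, one_mul] at hsum'
  -- u := Z w * w
  set Z : MulAut W := y ^ (-((k : ℤ) + 1)) with hZ
  have hu : (y ^ (k : ℤ)) (Z w * w) = y (Z w * w) := by
    rw [← eq_iff hW, map_mul, map_mul, hZ]
    have e1 : (y ^ (k : ℤ)) ((y ^ (-((k : ℤ) + 1))) w) = (y ^ (-1 : ℤ)) w := by
      have : (y ^ (k : ℤ)) * (y ^ (-((k : ℤ) + 1))) = y ^ (-1 : ℤ) := by
        rw [← zpow_add]; congr 1; ring
      rw [← this]; rfl
    have e2 : y ((y ^ (-((k : ℤ) + 1))) w) = (y ^ (-(k : ℤ))) w := by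
      have : y * (y ^ (-((k : ℤ) + 1))) = y ^ (-(k : ℤ)) := by
        nth_rewrite 1 [← zpow_one y]
        rw [← zpow_add]; congr 1; ring
      rw [← this]; rfl
    rw [e1, e2, ← hsum']
    simp only [mul_comm, mul_left_comm, mul_assoc]
  have hcop1 : IsCoprime ((k : ℤ) - 1) (n : ℤ) := by
    obtain ⟨m, hm⟩ := hn
    obtain ⟨c, hc⟩ := hkz
    -- (k-1)(k+1) + 2 = n c ; n = 2m+1
    refine ⟨-(-(m : ℤ)) * ((k : ℤ) + 1), 1 - (m : ℤ) * c, ?_⟩
    have hm' : (n : ℤ) = 2 * m + 1 := by exact_mod_cast hm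
    have : ((k : ℤ) - 1) * ((k : ℤ) + 1) = (n : ℤ) * c - 2 := by
      rw [← hc]; ring
    calc -(-(m : ℤ)) * ((k : ℤ) + 1) * ((k : ℤ) - 1) + (1 - (m : ℤ) * c) * (n : ℤ)
        = (m : ℤ) * (((k : ℤ) - 1) * ((k : ℤ) + 1)) + (1 - (m : ℤ) * c) * (n : ℤ) := by ring
      _ = (m : ℤ) * ((n : ℤ) * c - 2) + (1 - (m : ℤ) * c) * (n : ℤ) := by rw [this]
      _ = (n : ℤ) - 2 * m := by ring
      _ = 1 := by rw [hm']; ring
  have hcop2 : IsCoprime (-((k : ℤ) + 1)) (n : ℤ) := by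
    obtain ⟨m, hm⟩ := hn
    obtain ⟨c, hc⟩ := hkz
    refine ⟨-(m : ℤ) * ((k : ℤ) - 1), 1 - (m : ℤ) * c, ?_⟩
    have hm' : (n : ℤ) = 2 * m + 1 := by exact_mod_cast hm
    have : ((k : ℤ) - 1) * ((k : ℤ) + 1) = (n : ℤ) * c - 2 := by
      rw [← hc]; ring
    calc -(m : ℤ) * ((k : ℤ) - 1) * -((k : ℤ) + 1) + (1 - (m : ℤ) * c) * (n : ℤ)
        = (m : ℤ) * (((k : ℤ) - 1) * ((k : ℤ) + 1)) + (1 - (m : ℤ) * c) * (n : ℤ) := by ring
      _ = (m : ℤ) * ((n : ℤ) * c - 2) + (1 - (m : ℤ) * c) * (n : ℤ) := by rw [this]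
      _ = (n : ℤ) - 2 * m := by ring
      _ = 1 := by rw [hm']; ring
  have hu1 : (y ^ ((k : ℤ) - 1)) (y (Z w * w)) = y (Z w * w) := by
    rw [← hu]
    have : (y ^ ((k : ℤ) - 1)) * y = y ^ (k : ℤ) := by
      nth_rewrite 2 [← zpow_one y]
      rw [← zpow_add]; congr 1; ring
    rw [← this]
    show (y ^ ((k : ℤ) - 1)) ((y ^ ((k : ℤ) - 1) * y) (Z w * w)) = _
    rw [this, hu]
    show ((y ^ ((k : ℤ) - 1)) * y) (Z w * w) = _
    rw [this, hu]
  have hu2 : y (Z w * w) = Z w * w := y.injective (fix_of_coprime hy hcop1 hu1)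
  have hZu : Z (Z w * w) = Z w * w := fix_zpow hu2 _
  have hZZ : Z (Z w) = w := by
    rw [map_mul] at hZu
    calc Z (Z w) = Z (Z w) * (Z w * Z w) := by rw [hW, mul_one]
      _ = (Z (Z w) * Z w) * Z w := (mul_assoc _ _ _).symm
      _ = (Z w * w) * Z w := by rw [hZu]
      _ = w * (Z w * Z w) := by rw [mul_comm (Z w) w, mul_assoc]
      _ = w := by rw [hW, mul_one]
  have hZw : Z w = w := by
    obtain ⟨m, hm⟩ := hn
    have hZn : Z ^ n = 1 := by
      rw [hZ, ← zpow_natCast, ← zpow_mul, mul_comm, zpow_mul, zpow_natCast, hy, one_zpow]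
    have h5 : (Z ^ 2) w = w := by rw [pow_two]; exact hZZ
    have h6 : ((Z ^ 2) ^ m) w = w := by
      have := fix_zpow h5 (m : ℤ)
      rwa [zpow_natCast] at this
    have h7 : (Z ^ n) w = Z w := by
      rw [hm, pow_add, pow_one, pow_mul]
      have hcomm : (Z ^ 2) ^ m * Z = Z * (Z ^ 2) ^ m := by
        rw [← pow_mul, ← pow_succ, ← pow_succ']
      rw [hcomm]
      show Z (((Z ^ 2) ^ m) w) = Z w
      rw [h6]
    rw [← h7, hZn]; rfl
  exact fix_of_coprime hy hcop2 hZw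

end

theorem cubic {W : Type*} [CommGroup W] [Finite W] (hW : ∀ w : W, w * w = 1) (y s : MulAut W) {n k : ℕ} (hn : Odd n)
    (hy : y ^ n = 1) (hs : s⁻¹ * y * s = y ^ k) (hk : n ∣ k ^ 2 + 1)
    (h3 : ∀ w : W, w * s w * s (s w) * s (s (s w)) = 1) : y = 1 := by
  -- round 1
  have r1 : ∀ c : W, s c = c → y c = c := by
    intro c hc
    have e : (1 : W) = c * c := (hW c).symm
    apply fixed_of hW y s hn hy hs hk h3
    · rw [hc, hW, map_one]
    · rw [hc, hc, hW, map_one]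
    · rw [hc, hc, hc, hW, map_one]
  -- round 2
  have r2 : ∀ c : W, s (s c) = c → y c = c := by
    intro c hc
    have h1 : y (s c * c) = s c * c := by
      apply r1
      rw [map_mul, hc, mul_comm]
    apply fixed_of hW y s hn hy hs hk h3
    · exact h1
    · rw [hc, hW, map_one]
    · rw [hc]; exact h1
  ext c
  show y c = c
  have h4 : s (s (s c)) = c * s c * s (s c) := by
    have := h3 c
    rw [eq_iff hW] at this
    exact this.symm
  -- (s s c) (c) is fixed by s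
  have e2 : s (s (s c) * c) = s (s c) * c := by
    rw [map_mul, h4]
    calc c * s c * s (s c) * s c = (s c * s c) * (s (s c) * c) := by
          simp only [mul_comm, mul_left_comm, mul_assoc]
      _ = s (s c) * c := by rw [hW, one_mul]
  have e1 : s (s (s c * c)) = s c * c := by
    rw [map_mul, map_mul, h4]
    calc c * s c * s (s c) * s (s c) = (s c * c) * (s (s c) * s (s c)) := by
          simp only [mul_comm, mul_left_comm, mul_assoc]
      _ = s c * c := by rw [hW, mul_one]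
  apply fixed_of hW y s hn hy hs hk h3
  · exact r2 _ e1
  · exact r1 _ e2
  · have e3 : s (s (s c)) * c = s (s c * c) := by
      rw [h4, map_mul]
      calc c * s c * s (s c) * c = (c * c) * (s (s c) * s c) := by
            simp only [mul_comm, mul_left_comm, mul_assoc]
        _ = s (s c) * s c := by rw [hW, one_mul]
    rw [e3]
    apply r2
    rw [e1]

end Cfsg.Agent.OddCyclic.T1Cubic
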