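import Cfsg.Agent.OddCyclic.T1Defs
import Cfsg.Agent.OddCyclic.T1Cubic
import Cfsg.Agent.PLocal.SectionFrattini
import Cfsg.Agent.Lib.FrattiniPGroup
import Cfsg.Agent.Lib.Cores

/-!
# T1-K: the cubic lemma for the action on `Q₂ / Φ(Q₂)`
-/

set_option autoImplicit false

namespace Cfsg.Agent.OddCyclic.T1CubAux

open Cfsg.Agent.LieExceptional.CITDefs Cfsg.Agent.OddCyclic.T1Defs Cfsg
open scoped commutatorElement

universe u

theorem alg {W : Type*} [CommGroup W] (hW : ∀ w : W, w * w = 1) {a b c d : W}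
    (h : d * c⁻¹ * (c * b⁻¹)⁻¹ * (c * b⁻¹ * (b * a⁻¹)⁻¹)⁻¹ = 1) : a * b * c * d = 1 := by
  have hinv : ∀ v : W, v⁻¹ = v := fun v => inv_eq_of_mul_eq_one_left (hW v)
  simp only [hinv] at h
  rw [← h]
  have x1 := hW b
  have x2 := hW c
  calc a * b * c * d = (b * b) * (c * c) * (a * b * c * d) := by rw [x1, x2, one_mul, one_mul]
    _ = d * c * (c * b) * (c * b * (b * a)) := by
      simp only [mul_comm, mul_left_comm, mul_assoc]

/-- group version: `N` a normal 2-subgroup of `P` with `C_P(N) ≤ N` -/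
theorem mem_of_cubic {P : Type u} [Group P] [Finite P] (N : Subgroup P) [hNn : N.Normal] (hN : IsPGroup 2 N)
    (hmax : ∀ K : Subgroup P, K.Normal → IsPGroup 2 K → K ≤ N)
    (hc : Subgroup.centralizer (N : Set P) ≤ N) {y s : P} {n k : ℕ} (hn : Odd n) (hyn : y ^ n ∈ N)
    (hconj : s⁻¹ * y * s * (y ^ k)⁻¹ ∈ N) (hk : n ∣ k ^ 2 + 1)
    (h3 : ∀ w ∈ N, s * (s * (s * w * s⁻¹ * w⁻¹) * s⁻¹ * (s * w * s⁻¹ * w⁻¹)⁻¹) * s⁻¹ *
      (s * (s * w * s⁻¹ * w⁻¹) * s⁻¹ * (s * w * s⁻¹ * w⁻¹)⁻¹)⁻¹ = 1) : y ∈ N := by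
  classical
  have hf2 : Fact (Nat.Prime 2) := ⟨Nat.prime_two⟩
  set F : Subgroup P := (_root_.frattini N).map N.subtype with hF
  have hFn : F.Normal := by
    have h1 : (_root_.frattini N).Characteristic := frattini_characteristic
    exact inferInstance
  have hker := PLocal.SectionFrattini.isPGroup_sectionKernel_frattini N hN hc
  have hkn : (sectionKernel N F).Normal := by
    have h1 : (N.map (QuotientGroup.mk' F)).Normal := hNn.map _ (QuotientGroup.mk'_surjective F)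
    have : (Subgroup.centralizer ((N.map (QuotientGroup.mk' F) : Subgroup (P ⧸ F)) : Set (P ⧸ F))).Normal :=
      inferInstance
    exact this.comap (QuotientGroup.mk' F)
  apply hmax _ hkn hker
  set W : Subgroup (P ⧸ F) := N.map (QuotientGroup.mk' F) with hW
  have hWn : W.Normal := hNn.map _ (QuotientGroup.mk'_surjective F)
  have hWc : ∀ x ∈ W, ∀ y ∈ W, x * y = y * x := by
    rintro _ ⟨x, hx, rfl⟩ _ ⟨y, hy, rfl⟩
    rw [← map_mul, ← map_mul]
    refine (QuotientGroup.eq).mpr ?_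
    have h1 := Lib.FrattiniPGroup.commutator_mem_frattini hN ⟨y, hy⟩⁻¹ ⟨x, hx⟩⁻¹
    refine ⟨_, h1, ?_⟩
    simp only [commutatorElement_def, Subgroup.coe_subtype]
    push_cast
    group
  have hW2 : ∀ x ∈ W, x * x = 1 := by
    rintro _ ⟨x, hx, rfl⟩
    rw [← map_mul]
    refine (QuotientGroup.eq_one_iff _).mpr ?_
    exact ⟨_, Lib.FrattiniPGroup.pow_mem_frattini hN ⟨x, hx⟩, by simp [pow_two]⟩
  letI : CommGroup W := { (inferInstance : Group W) with mul_comm := fun x y => Subtype.ext (hWc x x.2 y y.2) }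
  have hWsq : ∀ w : W, w * w = 1 := fun w => Subtype.ext (hW2 w w.2)
  set ρ : P →* MulAut W := (MulAut.conjNormal (H := W)).comp (QuotientGroup.mk' F) with hρ
  have hρv : ∀ (g : P) (w : W), ((ρ g w : W) : P ⧸ F) = QuotientGroup.mk' F g * w * (QuotientGroup.mk' F g)⁻¹ := by
    intro g w
    exact MulAut.conjNormal_apply _ _
  have hρN : ∀ g ∈ N, ρ g = 1 := by
    intro g hg
    ext w
    rw [hρv]
    have : QuotientGroup.mk' F g * w = w * QuotientGroup.mk' F g := hWc _ ⟨g, hg, rfl⟩ _ w.2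
    rw [this, mul_inv_cancel_right]
    rfl
  have hcub := T1Cubic.cubic hWsq (ρ y) (ρ s) (n := n) (k := k) hn (by
      rw [← map_pow]; exact hρN _ hyn) (by
      have h1 := hρN _ hconj
      rw [map_mul, map_inv, map_pow, map_mul, map_mul, map_inv] at h1
      exact mul_inv_eq_one.1 h1) hk (by
      intro w
      obtain ⟨w0, hw0, hw⟩ := w.2
      -- images
      set m : P →* P ⧸ F := QuotientGroup.mk' F with hm
      have h4 := congrArg m (h3 w0 hw0)
      apply Subtype.ext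
      have e1 : ((ρ s w : W) : P ⧸ F) = m s * m w0 * (m s)⁻¹ := by rw [hρv, ← hw]
      have e2 : ((ρ s (ρ s w) : W) : P ⧸ F) = m s * (m s * m w0 * (m s)⁻¹) * (m s)⁻¹ := by rw [hρv, e1]
      have e3 : ((ρ s (ρ s (ρ s w)) : W) : P ⧸ F) = m s * (m s * (m s * m w0 * (m s)⁻¹) * (m s)⁻¹) * (m s)⁻¹ := by
        rw [hρv, e2]
      -- set a = w, b = s w, c = s² w, d = s³ w in the commutative group of exponent 2
      have hd : ρ s (ρ s (ρ s w)) * (ρ s (ρ s w))⁻¹ * ((ρ s (ρ s w)) * (ρ s w)⁻¹)⁻¹ *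
          ((ρ s (ρ s w)) * (ρ s w)⁻¹ * (ρ s w * w⁻¹)⁻¹)⁻¹ = 1 := by
        apply Subtype.ext
        have hwv : ((w : W) : P ⧸ F) = m w0 := hw.symm
        simp only [Subgroup.coe_mul, Subgroup.coe_inv, e1, e2, e3, hwv, Subgroup.coe_one]
        have h5 : m s * (m s * (m s * m w0 * (m s)⁻¹ * (m w0)⁻¹) * (m s)⁻¹ *
            (m s * m w0 * (m s)⁻¹ * (m w0)⁻¹)⁻¹) * (m s)⁻¹ *
            (m s * (m s * m w0 * (m s)⁻¹ * (m w0)⁻¹) * (m s)⁻¹ * (m s * m w0 * (m s)⁻¹ * (m w0)⁻¹)⁻¹)⁻¹ = 1 := by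
          simpa only [map_mul, map_inv, map_one] using h4
        rw [← h5]
        group
      exact congrArg Subtype.val (alg hWsq hd))
  rw [PLocal.SectionFrattini.mem_sectionKernel]
  intro x hx
  have h5 : ρ y ⟨QuotientGroup.mk' F x, ⟨x, hx, rfl⟩⟩ = ⟨QuotientGroup.mk' F x, ⟨x, hx, rfl⟩⟩ := by
    rw [hcub]; rfl
  have h6 := congrArg Subtype.val h5
  rw [hρv] at h6
  have h7 : QuotientGroup.mk' F ⁅x, y⁆ = 1 := by
    rw [map_commutatorElement, commutatorElement_eq_one_iff_mul_comm]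
    have h8 : QuotientGroup.mk' F y * QuotientGroup.mk' F x * (QuotientGroup.mk' F y)⁻¹ = QuotientGroup.mk' F x := h6
    exact (mul_inv_eq_iff_eq_mul.1 h8).symm
  rwa [← MonoidHom.mem_ker, QuotientGroup.ker_mk'] at h7

end Cfsg.Agent.OddCyclic.T1CubAux
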