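import Mathlib
import Cfsg.Agent.OddCyclic.T1Defs
import Cfsg.Agent.OddCyclic.T1SzFacts
import Cfsg.Agent.LieExceptional.CITGlobal
import Cfsg.Agent.LieExceptional.CITBasic

/-!
# Counting in the case `P₂/Q₂ ≅ Sz(q₂)` (4.1 of blueprints/S0342-T0eq1.md)
-/

set_option autoImplicit false

namespace Cfsg.Agent.OddCyclic.T1SzCount

open Cfsg.Agent.LieExceptional Cfsg.Agent.LieExceptional.CITDefs Cfsg.Agent.OddCyclic.T1Defs
  Cfsg.Agent.OddCyclic.T1SzFacts

universe u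

variable {G : Type u} [Group G] [Finite G]

omit [Finite G] in
theorem card_map {P₂ Q₂ : Subgroup G} {H : Type*} [Group H] (φ : P₂ →* H) (hker : φ.ker = Q₂.subgroupOf P₂)
    {K : Subgroup G} (hK : K ≤ P₂) :
    Nat.card K = Nat.card ((K.subgroupOf P₂).map φ) * Nat.card (K ⊓ Q₂ : Subgroup G) := by
  let ψ : K.subgroupOf P₂ →* H := φ.comp (K.subgroupOf P₂).subtype
  have h1 : Nat.card (K.subgroupOf P₂) = Nat.card K := Nat.card_congr (Subgroup.subgroupOfEquivOfLe hK).toEquiv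
  have h2 : ψ.range = (K.subgroupOf P₂).map φ := by
    rw [MonoidHom.range_comp, Subgroup.range_subtype]
  have hmem : ∀ x : P₂, φ x = 1 ↔ (x : G) ∈ Q₂ := by
    intro x
    rw [← MonoidHom.mem_ker, hker, Subgroup.mem_subgroupOf]
  have h3 : Nat.card ψ.ker = Nat.card (K ⊓ Q₂ : Subgroup G) := by
    refine Nat.card_congr
      { toFun := fun x => ⟨(x : K.subgroupOf P₂), Subgroup.mem_inf.2 ⟨(x : K.subgroupOf P₂).2, ?_⟩⟩
        invFun := fun y => ⟨⟨⟨y, hK (Subgroup.mem_inf.1 y.2).1⟩, (Subgroup.mem_inf.1 y.2).1⟩, ?_⟩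
        left_inv := ?_
        right_inv := ?_ }
    · exact (hmem _).1 x.2
    · exact (hmem _).2 (Subgroup.mem_inf.1 y.2).2
    · intro x
      rfl
    · intro y
      rfl
  rw [← h1, ← Subgroup.card_mul_index ψ.ker, Subgroup.index_ker, h2, h3, mul_comm]

omit [Finite G] in
theorem isSyl2_of_top {K S : Subgroup G} (h : IsSyl2 (⊤ : Subgroup G) S) (hS : S ≤ K) : IsSyl2 K S where
  le := hS
  two := h.two
  max := fun Y _ hY2 hSY => h.max Y le_top hY2 hSY

/-- the image of `S` is a Sylow 2-subgroup -/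
theorem exists_sylow {P₂ S : Subgroup G} {H : Type u} [Group H] [Finite H] {φ : P₂ →* H}
    (hφ : Function.Surjective φ) (hS : IsSyl2 P₂ S) : ∃ T : Sylow 2 H, (T : Subgroup H) = (S.subgroupOf P₂).map φ := by
  have : Fact (Nat.Prime 2) := ⟨Nat.prime_two⟩
  exact ⟨(CITBasic.IsSyl2.toSylow hS).mapSurjective hφ, rfl⟩

/-- `φ⁻¹(N_H(φ(S))) ≤ N(S)` -/
theorem mem_normalizer {P₂ Q₂ S : Subgroup G} {H : Type u} [Group H] {φ : P₂ →* H}
    (hker : φ.ker = Q₂.subgroupOf P₂) (hQS : Q₂ ≤ S) {p : P₂}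
    (hp : ∀ x ∈ (S.subgroupOf P₂).map φ, φ p * x * (φ p)⁻¹ ∈ (S.subgroupOf P₂).map φ) (hSP : S ≤ P₂) :
    (p : G) ∈ Subgroup.normalizer (S : Set G) := by
  have key : ∀ s ∈ S, (p : G) * s * (p : G)⁻¹ ∈ S := by
    intro s hs
    have h1 := hp (φ ⟨s, hSP hs⟩) ⟨⟨s, hSP hs⟩, hs, rfl⟩
    rw [← map_inv, ← map_mul, ← map_mul] at h1
    obtain ⟨t, ht, h2⟩ := h1
    have h3 : t⁻¹ * (p * ⟨s, hSP hs⟩ * p⁻¹) ∈ φ.ker := by
      rw [MonoidHom.mem_ker, map_mul, map_inv, h2, inv_mul_cancel]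
    rw [hker, Subgroup.mem_subgroupOf] at h3
    have h4 : (t : G)⁻¹ * ((p : G) * s * (p : G)⁻¹) ∈ Q₂ := h3
    have h5 := mul_mem (show (t : G) ∈ S from ht) (hQS h4)
    rwa [mul_inv_cancel_left] at h5
  rw [Subgroup.mem_normalizer_iff]
  intro s
  constructor
  · exact key s
  · intro hs
    -- finite: conjugation by `p` is a bijection of `S`
    have hinj : Function.Injective (fun s : S => (⟨(p : G) * s * (p : G)⁻¹, key s s.2⟩ : S)) := by
      intro a b hab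
      have := congrArg Subtype.val hab
      simp only at this
      apply Subtype.ext
      exact mul_left_cancel (mul_right_cancel this)
    obtain ⟨⟨t, ht⟩, h⟩ := Finite.surjective_of_injective hinj ⟨_, hs⟩
    have h1 : (p : G) * t * (p : G)⁻¹ = (p : G) * s * (p : G)⁻¹ := congrArg Subtype.val h
    have h2 : t = s := mul_left_cancel (mul_right_cancel h1)
    rw [← h2]
    exact ht

/-- `φ(Q) = Z(φ(S))` -/
theorem map_Q {M P Q S P₂ Q₂ : Subgroup G} {q : ℕ} (h : CaseII M P Q S P₂ Q₂ q) {H : Type u} [Group H]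
    [Finite H] {φ : P₂ →* H} (hφ : Function.Surjective φ) (hker : φ.ker = Q₂.subgroupOf P₂)
    (hm : SzMore H ((S.subgroupOf P₂).map φ)) (hsq : ∀ t ∈ S, t * t ∈ Q) (hns : S = Q ⊔ Q₂ → False) :
    (Q.subgroupOf P₂).map φ = (S.subgroupOf P₂).map φ ⊓
      Subgroup.centralizer (((S.subgroupOf P₂).map φ : Subgroup H) : Set H) := by
  have hQS : Q ≤ S := CITGlobal.isO2_le_isSyl2 h.t₁.o2 h.t₁.syl
  have hQ₂S : Q₂ ≤ S := CITGlobal.isO2_le_isSyl2 h.o2 (isSyl2_of_top h.sylow h.le)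
  have hle : (Q.subgroupOf P₂).map φ ≤ (S.subgroupOf P₂).map φ := by
    apply Subgroup.map_mono
    exact Subgroup.comap_mono hQS
  rcases hm.eq_or hle (by
      intro z hz hz2
      obtain ⟨x, hx, rfl⟩ := hm.exists_sq z hz hz2
      obtain ⟨s, hs, rfl⟩ := hx
      rw [← map_mul]
      exact ⟨s * s, hsq s hs, rfl⟩) (by
      intro d hd k hk
      obtain ⟨p, rfl⟩ := hφ d
      obtain ⟨x, hx, rfl⟩ := hk
      have hx : (x : G) ∈ Q := hx
      have hp : (p : G) ∈ Subgroup.normalizer (S : Set G) := by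
        refine mem_normalizer hker hQ₂S ?_ h.le
        intro x hx
        exact (Subgroup.mem_normalizer_iff.1 hd x).1 hx
      rw [← map_inv, ← map_mul, ← map_mul]
      exact ⟨p * x * p⁻¹, h.t₁.o2.normal _ (h.norm hp) _ hx, rfl⟩) with h1 | h1
  · exact h1
  · exfalso
    apply hns
    apply le_antisymm
    · intro s hs
      have h2 : φ ⟨s, h.le hs⟩ ∈ (Q.subgroupOf P₂).map φ := by
        rw [h1]
        exact ⟨⟨s, h.le hs⟩, hs, rfl⟩
      obtain ⟨x, hx, h3⟩ := h2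
      have hx : (x : G) ∈ Q := hx
      have h4 : x⁻¹ * ⟨s, h.le hs⟩ ∈ φ.ker := by
        rw [MonoidHom.mem_ker, map_mul, map_inv, h3, inv_mul_cancel]
      rw [hker, Subgroup.mem_subgroupOf] at h4
      have h5 : (x : G)⁻¹ * s ∈ Q₂ := h4
      have h6 := mul_mem (Subgroup.mem_sup_left hx : (x : G) ∈ Q ⊔ Q₂) (Subgroup.mem_sup_right h5)
      rwa [mul_inv_cancel_left] at h6
    · exact sup_le hQS hQ₂S

/-- (Sz), `V ≰ Q₂`: `q₂ < q` and elementary abelian subgroups of `S/Q₂` have order at most `q₂` -/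
theorem sz_lt_aux {M P Q S P₂ Q₂ : Subgroup G} {q : ℕ} (h : CaseII M P Q S P₂ Q₂ q) (hz : SzType P₂ Q₂)
    (hcard : Nat.card S = q * Nat.card Q) (hsq : ∀ t ∈ S, t * t ∈ Q) (hns : S = Q ⊔ Q₂ → False)
    (hV : ¬ omegaZ Q ≤ Q₂) {A : Subgroup G} (hA : A ≤ S) (hAe : Elem A) :
    Nat.card A < q * Nat.card (A ⊓ Q₂ : Subgroup G) := by
  obtain ⟨H, iH, φ, hφ, hker, hsz⟩ := hz
  have : Finite H := Finite.of_surjective φ hφ
  have hSs : IsSyl2 P₂ S := isSyl2_of_top h.sylow h.le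
  have hQS : Q ≤ S := CITGlobal.isO2_le_isSyl2 h.t₁.o2 h.t₁.syl
  have hQ₂S : Q₂ ≤ S := CITGlobal.isO2_le_isSyl2 h.o2 hSs
  obtain ⟨T, hT⟩ := exists_sylow hφ hSs
  have hm := szMore hsz T
  rw [hT] at hm
  have hQm := map_Q h hφ hker hm hsq hns
  set Z : Subgroup H := (S.subgroupOf P₂).map φ ⊓
      Subgroup.centralizer (((S.subgroupOf P₂).map φ : Subgroup H) : Set H) with hZ
  have e1 := card_map φ hker h.le
  have e2 := card_map φ hker (hQS.trans h.le)
  have e3 := card_map φ hker (hA.trans h.le)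
  rw [hm.card_eq] at e1
  rw [hQm] at e2
  have hSQ : S ⊓ Q₂ = Q₂ := inf_eq_right.2 hQ₂S
  rw [hSQ, ← hZ] at e1
  -- `Q₂ ≰ Q`
  have hlt : Nat.card (Q ⊓ Q₂ : Subgroup G) < Nat.card Q₂ := by
    have hne : ¬ Q₂ ≤ Q := by
      intro hle
      apply hV
      intro v hv
      obtain ⟨hvQ, -, hvc⟩ := mem_omegaZ.1 hv
      exact h.cent v (h.le (hQS hvQ)) fun x hx => hvc x (hle hx)
    refine lt_of_le_of_ne (Nat.card_le_card_of_injective _ (Subgroup.inclusion_injective inf_le_right)) ?_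
    intro heq
    apply hne
    have := Subgroup.eq_of_le_of_card_ge (inf_le_right : Q ⊓ Q₂ ≤ Q₂) heq.ge
    exact this ▸ inf_le_left
  have hZ0 : 0 < Nat.card Z := Nat.card_pos
  -- `q₂ |Q₂| = q |Q ∩ Q₂|`
  have e4 : Nat.card Z * Nat.card Q₂ = q * Nat.card (Q ⊓ Q₂ : Subgroup G) := by
    have h1 : Nat.card Z ^ 2 * Nat.card Q₂ = q * (Nat.card Z * Nat.card (Q ⊓ Q₂ : Subgroup G)) := by
      rw [← e1, hcard, e2]
    apply Nat.eq_of_mul_eq_mul_left hZ0
    calc Nat.card Z * (Nat.card Z * Nat.card Q₂) = Nat.card Z ^ 2 * Nat.card Q₂ := by ring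
      _ = q * (Nat.card Z * Nat.card (Q ⊓ Q₂ : Subgroup G)) := h1
      _ = Nat.card Z * (q * Nat.card (Q ⊓ Q₂ : Subgroup G)) := by ring
  have hq : Nat.card Z < q := by
    have h0 : 0 < Nat.card (Q ⊓ Q₂ : Subgroup G) := Nat.card_pos
    by_contra hcon
    push Not at hcon
    have h1 : q * Nat.card (Q ⊓ Q₂ : Subgroup G) < Nat.card Z * Nat.card Q₂ :=
      lt_of_le_of_lt (Nat.mul_le_mul_right _ hcon) (Nat.mul_lt_mul_of_pos_left hlt hZ0)
    omega
  -- the image of `A`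
  have hAZ : Nat.card ((A.subgroupOf P₂).map φ) ≤ Nat.card Z := by
    have hle : (A.subgroupOf P₂).map φ ≤ Z := by
      rw [hZ]
      refine hm.elem_le ?_ ?_
      · apply Subgroup.map_mono
        exact Subgroup.comap_mono hA
      · rintro _ ⟨a, ha, rfl⟩
        have ha : (a : G) ∈ A := ha
        have h1 : a * a = 1 := Subtype.ext (hAe a ha)
        rw [← map_mul, h1, map_one]
    exact Nat.card_le_card_of_injective _ (Subgroup.inclusion_injective hle)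
  rw [e3]
  have h0 : 0 < Nat.card (A ⊓ Q₂ : Subgroup G) := Nat.card_pos
  exact Nat.mul_lt_mul_of_pos_right (lt_of_le_of_lt hAZ hq) h0

end Cfsg.Agent.OddCyclic.T1SzCount
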