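import Cfsg.Agent.OddCyclic.T1Defs
import Cfsg.Agent.OddCyclic.T1CubAux
import Cfsg.Agent.OddCyclic.T1Abel
import Cfsg.Agent.OddCyclic.T1Class2
import Cfsg.Agent.OddCyclic.T1Local
import Cfsg.Agent.OddCyclic.T1SzFacts
import Cfsg.Agent.OddCyclic.T1SzCount

/-!
# T1-K: step 4.1 of blueprints/S0342-T0eq1.md
-/

set_option autoImplicit false

namespace Cfsg.Agent.OddCyclic.T1Cub

open Cfsg.Agent.LieExceptional Cfsg.Agent.LieExceptional.CITDefs Cfsg.Agent.OddCyclic.T1Defs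

universe u

variable {G : Type u} [Group G] [Finite G]

/-- `Q` has class at most two -/
theorem class_two {M P Q S P₂ Q₂ : Subgroup G} {q : ℕ} (h : CaseII M P Q S P₂ Q₂ q) :
    ∀ a ∈ Q, ∀ b ∈ Q, ∀ c ∈ Q, (a * b * a⁻¹ * b⁻¹) * c = c * (a * b * a⁻¹ * b⁻¹) := by
  obtain ⟨t, ht, htQ⟩ := T1Local.exists_not_mem h.t₁.ltype
  obtain ⟨x, hx, hx3, -⟩ := T1Local.inverts h.t₁.ltype t ht htQ
  have hxM := h.t₁.le hx
  intro a ha b hb c hc
  exact T1Class2.class_two h.t₁.o2.two hx3 (h.t₁.o2.normal x hxM) (h.t₁.fpf x hxM hx3) ha hb hc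

/-- the cubic lemma in the situation `S = Q Q₂` -/
theorem mem_of_S {M P Q S P₂ Q₂ : Subgroup G} {q : ℕ} (h : CaseII M P Q S P₂ Q₂ q) (hS : S = Q ⊔ Q₂) {y s : G}
    (hy : y ∈ P₂) (hs : s ∈ S) {n k : ℕ} (hn : Odd n) (hyn : y ^ n ∈ Q₂)
    (hconj : s⁻¹ * y * s * (y ^ k)⁻¹ ∈ Q₂) (hk : n ∣ k ^ 2 + 1) : y ∈ Q₂ := by
  have hQ2S := T1Abel.Q₂_le_S h
  have hQS := T1Abel.Q_le_S h
  have hcl := class_two h
  have hQn : Q ≤ Subgroup.normalizer (Q₂ : Set G) :=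
    T1Abel.le_normalizer_of (fun k hk a ha => h.o2.normal k (h.le (hQS hk)) a ha)
  -- `s = a b`
  obtain ⟨a, ha, b, hb, rfl⟩ : ∃ a ∈ Q, ∃ b ∈ Q₂, s = a * b := by
    rw [hS] at hs
    have h1 : s ∈ ((Q ⊔ Q₂ : Subgroup G) : Set G) := hs
    rw [Subgroup.coe_mul_of_left_le_normalizer_right Q Q₂ hQn] at h1
    obtain ⟨a, ha, b, hb, hab⟩ := h1
    exact ⟨a, ha, b, hb, hab.symm⟩
  have haP : a ∈ P₂ := h.le (hQS ha)
  have hbP : b ∈ P₂ := h.o2.le hb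
  -- the conjugation relation for `a`
  have hconj' : a⁻¹ * y * a * (y ^ k)⁻¹ ∈ Q₂ := by
    have h1 : a⁻¹ * y * a * (y ^ k)⁻¹ =
        b * ((a * b)⁻¹ * y * (a * b) * (y ^ k)⁻¹) * ((y ^ k) * b⁻¹ * (y ^ k)⁻¹) := by group
    rw [h1]
    exact Q₂.mul_mem (Q₂.mul_mem hb hconj) (h.o2.normal _ (P₂.pow_mem hy k) _ (Q₂.inv_mem hb))
  -- work in `P₂`
  set N : Subgroup P₂ := Q₂.subgroupOf P₂ with hN
  have hNn : N.Normal := ⟨fun x hx g => by
    rw [hN, Subgroup.mem_subgroupOf] at hx ⊢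
    exact h.o2.normal g g.2 x hx⟩
  have hN2 : IsPGroup 2 N := h.o2.two.comap_of_injective P₂.subtype P₂.subtype_injective
  have hmax : ∀ K : Subgroup P₂, K.Normal → IsPGroup 2 K → K ≤ N := by
    intro K hK hK2 x hx
    rw [hN, Subgroup.mem_subgroupOf]
    refine h.o2.max (K.map P₂.subtype) (Subgroup.map_subtype_le K) (hK2.map _) ?_ ⟨x, hx, rfl⟩
    rintro m hm _ ⟨z, hz, rfl⟩
    exact ⟨⟨m, hm⟩ * z * ⟨m, hm⟩⁻¹, hK.conj_mem z hz _, rfl⟩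
  have hNc : Subgroup.centralizer (N : Set P₂) ≤ N := by
    intro x hx
    rw [hN, Subgroup.mem_subgroupOf]
    refine h.cent x x.2 (fun z hz => ?_)
    have h1 := (Subgroup.mem_centralizer_iff.1 hx) ⟨z, h.o2.le hz⟩ hz
    exact (congrArg Subtype.val h1).symm
  have hmem := T1CubAux.mem_of_cubic N hN2 hmax hNc (y := ⟨y, hy⟩) (s := ⟨a, haP⟩) hn hyn hconj' hk (by
    intro w hw
    apply Subtype.ext
    have hw : (w : G) ∈ Q₂ := hw
    set c1 : G := a * w * a⁻¹ * (w : G)⁻¹ with hc1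
    have hc1Q : c1 ∈ Q := by
      have h2 : (w : G) * a⁻¹ * (w : G)⁻¹ ∈ Q :=
        h.t₁.o2.normal w (h.t₁.syl.le (hQ2S hw)) _ (Q.inv_mem ha)
      have h3 : c1 = a * ((w : G) * a⁻¹ * (w : G)⁻¹) := by rw [hc1]; group
      rw [h3]
      exact Q.mul_mem ha h2
    have hc := hcl a ha c1 hc1Q a ha
    show a * (a * c1 * a⁻¹ * c1⁻¹) * a⁻¹ * (a * c1 * a⁻¹ * c1⁻¹)⁻¹ = 1
    rw [← hc]; group)
  exact hmem

theorem card_of_sup {M P Q S P₂ Q₂ : Subgroup G} {q p : ℕ} {r : G} (h : CaseII M P Q S P₂ Q₂ q)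
    (hr : RType P₂ Q₂ S p r) (hS : S = Q ⊔ Q₂) : Nat.card S = 2 * Nat.card Q₂ := by
  have hQ2S := T1Abel.Q₂_le_S h
  obtain ⟨s₀, hs₀, hcyc⟩ := hr.cyc
  -- no element of order 4
  have key : ∀ s ∈ S, s * s ∉ Q₂ → (s * s) * (s * s) ∈ Q₂ → False := by
    intro s hs h2 h4
    obtain ⟨k, hk⟩ := hr.norm s (h.le hs)
    have hinv := hr.inv (s * s) (S.mul_mem hs hs) h2 h4
    obtain ⟨a, ha⟩ := hr.order
    -- conjugation by `s` is the power `k` modulo `Q₂`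
    have hpow : ∀ j : ℕ, s * r ^ j * s⁻¹ * (r ^ (k * j))⁻¹ ∈ Q₂ := by
      intro j
      induction j with
      | zero => simp
      | succ j ih =>
        have e : s * r ^ (j + 1) * s⁻¹ * (r ^ (k * (j + 1)))⁻¹ =
            (s * r ^ j * s⁻¹ * (r ^ (k * j))⁻¹) * ((r ^ (k * j)) * (s * r * s⁻¹ * (r ^ k)⁻¹) * (r ^ (k * j))⁻¹) := by
          rw [pow_succ r j, mul_add, mul_one, add_comm (k * j) k, pow_add r k]
          group
        rw [e]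
        exact Q₂.mul_mem ih (h.o2.normal _ (P₂.pow_mem hr.mem _) _ hk)
    have hkk : r ^ (k * k + 1) ∈ Q₂ := by
      have h5 := hpow k
      have h6 : s * (s * r * s⁻¹ * (r ^ k)⁻¹) * s⁻¹ ∈ Q₂ := h.o2.normal s (h.le hs) _ hk
      -- s² r s⁻² = (..) r^(k k)
      have h7 : (s * s) * r * (s * s)⁻¹ * (r ^ (k * k))⁻¹ ∈ Q₂ := by
        have e : (s * s) * r * (s * s)⁻¹ * (r ^ (k * k))⁻¹ =
            (s * (s * r * s⁻¹ * (r ^ k)⁻¹) * s⁻¹) * (s * r ^ k * s⁻¹ * (r ^ (k * k))⁻¹) := by group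
        rw [e]
        exact Q₂.mul_mem h6 h5
      have e : r ^ (k * k + 1) = ((s * s) * r * (s * s)⁻¹ * (r ^ (k * k))⁻¹)⁻¹ * ((s * s) * r * (s * s)⁻¹ * r) := by
        rw [pow_succ]; group
      rw [e]
      exact Q₂.mul_mem (Q₂.inv_mem h7) hinv
    -- `n = gcd (p ^ a) (k ^ 2 + 1)`
    set n := Nat.gcd (p ^ a) (k ^ 2 + 1) with hn
    have hnr : r ^ n ∈ Q₂ := by
      have h8 : r ^ (k ^ 2 + 1) ∈ Q₂ := by rw [pow_two]; exact hkk
      have h9 : (r ^ (p ^ a : ℕ)) ∈ Q₂ := by rw [ha]; exact Q₂.one_mem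
      have h10 : (n : ℤ) = (p ^ a : ℕ) * Nat.gcdA (p ^ a) (k ^ 2 + 1) + (k ^ 2 + 1 : ℕ) * Nat.gcdB (p ^ a) (k ^ 2 + 1) :=
        Nat.gcd_eq_gcd_ab _ _
      rw [← zpow_natCast, h10, zpow_add, zpow_mul, zpow_mul, zpow_natCast, zpow_natCast]
      exact Q₂.mul_mem (Q₂.zpow_mem h9 _) (Q₂.zpow_mem h8 _)
    have hodd : Odd n := by
      have : Odd (p ^ a) := (hr.prime.odd_of_ne_two (by have := hr.five; omega)).pow
      exact this.of_dvd_nat (Nat.gcd_dvd_left _ _)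
    apply hr.not_mem
    refine mem_of_S h hS hr.mem (S.inv_mem hs) hodd hnr (k := k) ?_ (Nat.gcd_dvd_right _ _)
    rw [inv_inv]
    exact hk
  -- `s₀ ^ 2 ∈ Q₂`
  have hsq : s₀ * s₀ ∈ Q₂ := by
    obtain ⟨m, hm⟩ := h.sylow.two ⟨s₀, hs₀⟩
    have hm' : s₀ ^ 2 ^ m = 1 := congrArg Subtype.val hm
    clear hm hcyc
    -- descent
    have : ∀ m : ℕ, ∀ s ∈ S, s ^ 2 ^ m ∈ Q₂ → s * s ∈ Q₂ := by
      intro m
      induction m with
      | zero =>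
        intro s _ hs'
        rw [pow_zero, pow_one] at hs'
        exact Q₂.mul_mem hs' hs'
      | succ m ih =>
        intro s hs hs'
        have h1 : (s * s) ^ 2 ^ m ∈ Q₂ := by
          rw [← pow_two, ← pow_mul, ← pow_succ']; exact hs'
        have h2 := ih (s * s) (S.mul_mem hs hs) h1
        by_contra h3
        exact key s hs h3 h2
    exact this m s₀ hs₀ (by rw [hm']; exact Q₂.one_mem)
  -- `s₀ ∉ Q₂`
  have hpw : ∀ k : ℕ, s₀ ^ k ∈ Q₂ ∨ s₀ ^ k * s₀⁻¹ ∈ Q₂ := by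
    intro k
    induction k with
    | zero => left; rw [pow_zero]; exact Q₂.one_mem
    | succ k ih =>
      rcases ih with h1 | h1
      · right
        rw [pow_succ, mul_inv_cancel_right]; exact h1
      · left
        have e : s₀ ^ (k + 1) = (s₀ ^ k * s₀⁻¹) * (s₀ * s₀) := by rw [pow_succ]; group
        rw [e]
        exact Q₂.mul_mem h1 hsq
  have hs₀Q : s₀ ∉ Q₂ := by
    intro h1
    apply hr.ne
    apply le_antisymm _ hQ2S
    intro s hs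
    obtain ⟨k, hk⟩ := hcyc s hs
    have := Q₂.mul_mem hk (Q₂.pow_mem h1 k)
    rwa [inv_mul_cancel_right] at this
  have hcos : ∀ s ∈ S, s ∈ Q₂ ∨ s * s₀⁻¹ ∈ Q₂ := by
    intro s hs
    obtain ⟨k, hk⟩ := hcyc s hs
    rcases hpw k with h1 | h1
    · left
      have := Q₂.mul_mem hk h1
      rwa [inv_mul_cancel_right] at this
    · right
      have := Q₂.mul_mem hk h1
      have e : s * (s₀ ^ k)⁻¹ * (s₀ ^ k * s₀⁻¹) = s * s₀⁻¹ := by group
      rwa [e] at this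
  -- count
  have hidx : (Q₂.subgroupOf S).index = 2 := by
    rw [Subgroup.index_eq_two_iff]
    refine ⟨⟨s₀⁻¹, S.inv_mem hs₀⟩, fun b => ?_⟩
    have hb := hcos b b.2
    simp only [Subgroup.mem_subgroupOf, Subgroup.coe_mul]
    by_cases hbQ : (b : G) ∈ Q₂
    · right
      refine ⟨hbQ, fun h2 => ?_⟩
      apply hs₀Q
      have := Q₂.mul_mem (Q₂.inv_mem hbQ) h2
      rw [inv_mul_cancel_left] at this
      exact (Q₂.inv_mem_iff).1 this
    · left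
      exact ⟨hb.resolve_left hbQ, hbQ⟩
  have hcard := Subgroup.card_mul_index (Q₂.subgroupOf S)
  rw [hidx, Nat.card_congr (Subgroup.subgroupOfEquivOfLe hQ2S).toEquiv] at hcard
  rw [← hcard, mul_comm]

theorem not_sz_of_sup {M P Q S P₂ Q₂ : Subgroup G} {q : ℕ} (h : CaseII M P Q S P₂ Q₂ q) (hz : SzType P₂ Q₂)
    (hS : S = Q ⊔ Q₂) : False := by
  obtain ⟨H, iH, φ, hφ, hker, hsz⟩ := hz
  have hfin : Finite H := Finite.of_surjective φ hφ
  have hSP : IsSyl2 P₂ S := T1Abel.isSyl2_of_le h.sylow h.le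
  obtain ⟨T, hT⟩ := T1SzCount.exists_sylow hφ hSP
  obtain ⟨y, s, hy1, hy5, -, hsT, -, -, -, -, hsy⟩ := T1SzFacts.exists_five hsz T
  rw [hT] at hsT
  obtain ⟨s', hs', rfl⟩ := hsT
  obtain ⟨y', rfl⟩ := hφ y
  have hs'S : (s' : G) ∈ S := hs'
  have hmem : ∀ x : P₂, φ x = 1 → (x : G) ∈ Q₂ := by
    intro x hx
    have : x ∈ φ.ker := hx
    rw [hker] at this
    exact this
  have h5 : (y' : G) ^ 5 ∈ Q₂ := by
    have := hmem (y' ^ 5) (by rw [map_pow, hy5])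
    simpa using this
  have hc : (s' : G)⁻¹ * y' * s' * ((y' : G) ^ 2)⁻¹ ∈ Q₂ := by
    have := hmem (s'⁻¹ * y' * s' * (y' ^ 2)⁻¹) (by
      rw [map_mul, map_inv, map_pow, map_mul, map_mul, map_inv, hsy, mul_inv_cancel])
    simpa using this
  have h6 := mem_of_S h hS y'.2 hs'S (n := 5) (k := 2) (by decide) h5 hc (by norm_num)
  apply hy1
  have h7 : y' ∈ φ.ker := by
    rw [hker]; exact h6
  exact h7

end Cfsg.Agent.OddCyclic.T1Cub
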