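import Mathlib
import Cfsg.Prelude.Def_CaseTheorems
import Cfsg.Agent.OddCyclic.T1Defs
import Cfsg.Agent.OddCyclic.T1Tools
import Cfsg.Agent.OddCyclic.T1Local
import Cfsg.Agent.OddCyclic.T1Cub

/-!
# S0342, no elements of order 6, piece M (4.3 of blueprints/S0342-T0eq1.md)
-/

set_option autoImplicit false
set_option linter.unusedSectionVars false
set_option linter.unusedVariables false

namespace Cfsg.Agent.OddCyclic.T1NonAbel

open Cfsg.Agent.LieExceptional.CITDefs Cfsg.Agent.OddCyclic.T1Defs Cfsg.Agent.OddCyclic.T1Tools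
open Cfsg.Agent.LieExceptional
open Subgroup

universe u

variable {G : Type u} [Group G] [Finite G]

/-! ### transport under automorphisms -/

section Transport

variable {P Q T : Subgroup G} {q : ℕ}

theorem mem_map_iff (e : G ≃* G) {H : Subgroup G} {x : G} : x ∈ H.map e.toMonoidHom ↔ e.symm x ∈ H := by
  constructor
  · rintro ⟨y, hy, rfl⟩
    simpa using hy
  · intro h
    exact ⟨e.symm x, h, by simp⟩

theorem isPGroup_map_iff (e : G ≃* G) {H : Subgroup G} : IsPGroup 2 (H.map e.toMonoidHom) ↔ IsPGroup 2 H := by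
  constructor
  · intro h
    exact h.of_equiv (H.equivMapOfInjective e.toMonoidHom e.injective).symm
  · intro h
    exact h.map _

theorem map_symm_map (e : G ≃* G) (H : Subgroup G) : (H.map e.symm.toMonoidHom).map e.toMonoidHom = H := by
  ext x
  rw [mem_map_iff, mem_map_iff]
  simp

theorem isO2_map (e : G ≃* G) (h : IsO2 P Q) : IsO2 (P.map e.toMonoidHom) (Q.map e.toMonoidHom) where
  le := Subgroup.map_mono h.le
  two := h.two.map _
  normal := by
    rintro _ ⟨m, hm, rfl⟩ _ ⟨x, hx, rfl⟩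
    exact ⟨m * x * m⁻¹, h.normal m hm x hx, by simp⟩
  max := by
    intro Y hY hY2 hYn
    have h1 := h.max (Y.map e.symm.toMonoidHom) ?_ (hY2.map _) ?_
    · have h2 := Subgroup.map_mono (f := e.toMonoidHom) h1
      rwa [map_symm_map] at h2
    · intro x hx
      rw [mem_map_iff] at hx
      have h2 := hY hx
      rw [mem_map_iff] at h2
      simpa using h2
    · rintro m hm _ ⟨y, hy, rfl⟩
      rw [mem_map_iff]
      have h2 := hYn (e m) ⟨m, hm, rfl⟩ y hy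
      simpa using h2

theorem isSyl2_map' (e : G ≃* G) (h : IsSyl2 P T) : IsSyl2 (P.map e.toMonoidHom) (T.map e.toMonoidHom) where
  le := Subgroup.map_mono h.le
  two := h.two.map _
  max := by
    intro Y hY hY2 hTY
    have h1 := h.max (Y.map e.symm.toMonoidHom) ?_ (hY2.map _) ?_
    · rw [← h1, map_symm_map]
    · intro x hx
      rw [mem_map_iff] at hx
      have h2 := hY hx
      rw [mem_map_iff] at h2
      simpa using h2
    · intro x hx
      rw [mem_map_iff]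
      have h2 := hTY ⟨x, hx, rfl⟩
      simpa using h2

theorem lType_map (e : G ≃* G) (h : LType P Q T q) :
    LType (P.map e.toMonoidHom) (Q.map e.toMonoidHom) (T.map e.toMonoidHom) q where
  o2 := isO2_map e h.o2
  syl := isSyl2_map' e h.syl
  iso := by
    obtain ⟨F, h1, h2, h3, φ, hφ, hker, hq⟩ := h.iso
    refine ⟨F, h1, h2, h3, φ.comp (P.equivMapOfInjective e.toMonoidHom e.injective).symm.toMonoidHom, ?_, ?_, hq⟩
    · exact hφ.comp (P.equivMapOfInjective e.toMonoidHom e.injective).symm.surjective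
    · ext x
      obtain ⟨y, rfl⟩ := (P.equivMapOfInjective e.toMonoidHom e.injective).surjective x
      rw [MonoidHom.mem_ker, Subgroup.mem_subgroupOf]
      have h4 : (((P.equivMapOfInjective e.toMonoidHom e.injective) y : P.map e.toMonoidHom) : G) = e (y : G) := rfl
      rw [h4, mem_map_iff, MulEquiv.symm_apply_apply, ← Subgroup.mem_subgroupOf, ← hker, MonoidHom.mem_ker]
      show φ ((P.equivMapOfInjective e.toMonoidHom e.injective).symm
        ((P.equivMapOfInjective e.toMonoidHom e.injective) y)) = 1 ↔ φ y = 1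
      rw [MulEquiv.symm_apply_apply]
  fpf := by
    rintro _ ⟨x, hx, rfl⟩ hx3 _ ⟨u, hu, rfl⟩ hc
    have h1 : e (x * u) = e (u * x) := by
      rw [map_mul, map_mul]
      exact hc
    have h2 := e.injective h1
    have h3 : orderOf x = 3 := by
      rw [← hx3]
      exact (orderOf_injective e.toMonoidHom e.injective x).symm
    rw [h.fpf x hx h3 u hu h2]
    exact map_one _

theorem omegaZ_map (e : G ≃* G) (Q : Subgroup G) : omegaZ (Q.map e.toMonoidHom) = (omegaZ Q).map e.toMonoidHom := by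
  ext x
  rw [mem_map_iff, mem_omegaZ, mem_omegaZ, mem_map_iff]
  constructor
  · rintro ⟨h1, h2, h3⟩
    refine ⟨h1, by rw [← map_mul, h2, map_one], fun y hy => ?_⟩
    have h4 := h3 (e y) ⟨y, hy, rfl⟩
    apply e.injective
    simpa using h4
  · rintro ⟨h1, h2, h3⟩
    refine ⟨h1, ?_, fun y hy => ?_⟩
    · apply e.symm.injective
      rw [map_mul, h2, map_one]
    · rw [mem_map_iff] at hy
      apply e.symm.injective
      rw [map_mul, map_mul]
      exact h3 _ hy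

end Transport

/-! ### the action modulo `V` -/

section ModV

variable {P Q T : Subgroup G} {q : ℕ}

/-- an element `y` of `P` of order 3 acts fixed point freely on `Q/V`, `V = omegaZ Q` -/
theorem mem_V_of_comm (h : LType P Q T q) {y : G} (hy : y ∈ P) (hy3 : orderOf y = 3) {d : G} (hd : d ∈ Q)
    (hc : y * d * y⁻¹ * d⁻¹ ∈ omegaZ Q) : d ∈ omegaZ Q := by
  have hn := CITFFAux.omegaZ_conj h.o2.normal
  -- `v ↦ [y, v]` is injective on `V`, hence bijective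
  let f : omegaZ Q → omegaZ Q := fun v => ⟨y * v * y⁻¹ * (v : G)⁻¹, mul_mem (hn y hy v v.2) (inv_mem v.2)⟩
  have hf : Function.Injective f := by
    intro v w hvw
    have h1 : y * (v : G) * y⁻¹ * (v : G)⁻¹ = y * w * y⁻¹ * (w : G)⁻¹ := congrArg Subtype.val hvw
    have h2 : y * ((w : G)⁻¹ * v) = ((w : G)⁻¹ * v) * y := by
      have h3 : (y * (w : G) * y⁻¹)⁻¹ * (y * (v : G) * y⁻¹) = (w : G)⁻¹ * v := by
        have h4 : y * (v : G) * y⁻¹ = (y * w * y⁻¹) * (w : G)⁻¹ * v := by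
          rw [← h1]; group
        rw [h4]; group
      calc y * ((w : G)⁻¹ * v) = ((y * (w : G) * y⁻¹)⁻¹ * (y * (v : G) * y⁻¹)) * y := by group
        _ = _ := by rw [h3]
    have h5 := h.fpf y hy hy3 ((w : G)⁻¹ * v) (mul_mem (inv_mem w.2.1) v.2.1) h2
    exact Subtype.ext (inv_mul_eq_one.1 h5).symm
  have hs : Function.Surjective f := Finite.surjective_of_injective hf
  obtain ⟨v, hv⟩ := hs ⟨_, inv_mem hc⟩
  have hv' : y * (v : G) * y⁻¹ * (v : G)⁻¹ = (y * d * y⁻¹ * d⁻¹)⁻¹ := congrArg Subtype.val hv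
  have h1 : y * ((v : G) * d) = ((v : G) * d) * y := by
    have hcd : (y * d * y⁻¹ * d⁻¹) * (v : G)⁻¹ = (v : G)⁻¹ * (y * d * y⁻¹ * d⁻¹) := by
      exact hc.2.2 _ (inv_mem v.2.1)
    have h2 : (y * (v : G) * y⁻¹) * (y * d * y⁻¹) * d⁻¹ * (v : G)⁻¹ = 1 := by
      calc (y * (v : G) * y⁻¹) * (y * d * y⁻¹) * d⁻¹ * (v : G)⁻¹
          = (y * (v : G) * y⁻¹) * ((y * d * y⁻¹ * d⁻¹) * (v : G)⁻¹) := by group
        _ = (y * (v : G) * y⁻¹) * ((v : G)⁻¹ * (y * d * y⁻¹ * d⁻¹)) := by rw [hcd]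
        _ = (y * (v : G) * y⁻¹ * (v : G)⁻¹) * (y * d * y⁻¹ * d⁻¹) := by group
        _ = 1 := by rw [hv', inv_mul_cancel]
    calc y * ((v : G) * d) = ((y * (v : G) * y⁻¹) * (y * d * y⁻¹) * d⁻¹ * (v : G)⁻¹) * ((v : G) * d) * y := by group
      _ = _ := by rw [h2, one_mul]
  have h2 := h.fpf y hy hy3 ((v : G) * d) (mul_mem v.2.1 hd) h1
  have h3 : d = (v : G)⁻¹ := (inv_eq_of_mul_eq_one_right h2).symm
  rw [h3]
  exact inv_mem v.2

/-- commutators modulo `V` are multiplicative in the second argument -/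
theorem comm_mul_mem (h : LType P Q T q) {a b d : G} (hb : b ∈ P) (ha : a ∈ P)
    (h1 : a * d * a⁻¹ * d⁻¹ ∈ omegaZ Q) (h2 : b * d * b⁻¹ * d⁻¹ ∈ omegaZ Q) :
    (a * b) * d * (a * b)⁻¹ * d⁻¹ ∈ omegaZ Q := by
  have hn := CITFFAux.omegaZ_conj h.o2.normal
  have h3 := mul_mem (hn a ha _ h2) h1
  have h4 : a * (b * d * b⁻¹ * d⁻¹) * a⁻¹ * (a * d * a⁻¹ * d⁻¹) = (a * b) * d * (a * b)⁻¹ * d⁻¹ := by group
  rwa [h4] at h3

theorem comm_pow_mem (h : LType P Q T q) {a d : G} (ha : a ∈ P)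
    (h1 : a * d * a⁻¹ * d⁻¹ ∈ omegaZ Q) (n : ℕ) : a ^ n * d * (a ^ n)⁻¹ * d⁻¹ ∈ omegaZ Q := by
  induction n with
  | zero => simp [one_mem]
  | succ n ih =>
    rw [pow_succ]
    exact comm_mul_mem h ha (pow_mem ha n) ih h1

/-- a power of an element of order 3 modulo `Q` has order 3 -/
theorem exists_pow_three (h : LType P Q T q) {a x : G} (ha : a ∈ P) (hx : x ∈ P) (hx3 : orderOf x = 3)
    (hax : a * x⁻¹ ∈ Q) : ∃ n : ℕ, orderOf (a ^ n) = 3 := by
  -- `a` has order `3 · 2 ^ k`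
  have h0 : ∀ n : ℕ, a ^ n * (x ^ n)⁻¹ ∈ Q := by
    intro n
    induction n with
    | zero => simp [one_mem]
    | succ n ih =>
      have h1 := mul_mem (h.o2.normal (a ^ n) (pow_mem ha n) _ hax) ih
      have h2 : a ^ n * (a * x⁻¹) * (a ^ n)⁻¹ * (a ^ n * (x ^ n)⁻¹) = a ^ (n + 1) * (x ^ (n + 1))⁻¹ := by
        rw [pow_succ, pow_succ']
        group
      rwa [h2] at h1
  have h1 := h0 3
  rw [← hx3, pow_orderOf_eq_one, inv_one, mul_one, hx3] at h1
  obtain ⟨k, hk⟩ := h.o2.two ⟨_, h1⟩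
  have hk' : (a ^ 3) ^ 2 ^ k = 1 := congrArg Subtype.val hk
  refine ⟨2 ^ k, ?_⟩
  apply orderOf_eq_prime
  · rw [← pow_mul, mul_comm, pow_mul, hk']
  · intro h2
    have h3 := h0 (2 ^ k)
    rw [h2, one_mul] at h3
    have h4 := inv_mem h3
    rw [inv_inv] at h4
    refine T1Local.three_not_two h.o2.two h4 ?_
    rw [orderOf_pow' x (by positivity), hx3]
    have h5 : Nat.gcd 3 (2 ^ k) = 1 := Nat.Coprime.pow_right k (by norm_num)
    rw [h5]

end ModV

theorem mem_V_of_inverted {P Q T : Subgroup G} {q : ℕ} (h : LType P Q T q) {t x : G} (ht : t ∈ T) (hx : x ∈ P)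
    (hx3 : orderOf x = 3) (hxt : t * x * t⁻¹ * x ∈ Q) {d : G} (hd : d ∈ Q)
    (h1 : t * d * t⁻¹ * d⁻¹ ∈ omegaZ Q) (h2 : (x * t * x⁻¹) * d * (x * t * x⁻¹)⁻¹ * d⁻¹ ∈ omegaZ Q) :
    d ∈ omegaZ Q := by
  have hn := CITFFAux.omegaZ_conj h.o2.normal
  have htP := h.syl.le ht
  have hc : x * t * x⁻¹ ∈ P := mul_mem (mul_mem hx htP) (inv_mem hx)
  have h3 : (x * t * x⁻¹)⁻¹ * d * (x * t * x⁻¹)⁻¹⁻¹ * d⁻¹ ∈ omegaZ Q := by
    have h4 := hn _ (inv_mem hc) _ (inv_mem h2)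
    have h5 : (x * t * x⁻¹)⁻¹ * ((x * t * x⁻¹) * d * (x * t * x⁻¹)⁻¹ * d⁻¹)⁻¹ * (x * t * x⁻¹)⁻¹⁻¹ =
        (x * t * x⁻¹)⁻¹ * d * (x * t * x⁻¹)⁻¹⁻¹ * d⁻¹ := by group
    rwa [h5] at h4
  have h4 := comm_mul_mem h (inv_mem hc) htP h1 h3
  have ha : (t * (x * t * x⁻¹)⁻¹) * x⁻¹ ∈ Q := by
    have h5 : x⁻¹ * x⁻¹ * x⁻¹ = 1 := by
      have h6 : x ^ 3 = 1 := by rw [← hx3]; exact pow_orderOf_eq_one x
      have h7 : x⁻¹ * x⁻¹ * x⁻¹ = (x ^ 3)⁻¹ := by group
      rw [h7, h6, inv_one]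
    have h6 : (t * (x * t * x⁻¹)⁻¹) * x⁻¹ = (t * x * t⁻¹ * x) * (x⁻¹ * x⁻¹ * x⁻¹) := by group
    rw [h6, h5, mul_one]
    exact hxt
  obtain ⟨n, hn3⟩ := exists_pow_three h (mul_mem htP (inv_mem hc)) hx hx3 ha
  exact mem_V_of_comm h (pow_mem (mul_mem htP (inv_mem hc)) n) hn3 hd
    (comm_pow_mem h (mul_mem htP (inv_mem hc)) h4 n)

theorem two_cosets {A B : Subgroup G} (hBA : B ≤ A) (hc : Nat.card A ≤ 2 * Nat.card B) {s t : G}
    (hs : s ∈ A) (ht : t ∈ A) (hsB : s ∉ B) (htB : t ∉ B) : s * t ∈ B := by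
  have h1 := card_mul_relIndex hBA
  have h2 : B.relIndex A ≤ 2 := by
    rw [← h1, mul_comm 2] at hc
    exact Nat.le_of_mul_le_mul_left hc Nat.card_pos
  have h3 : B.relIndex A ≠ 1 := by
    intro h3
    exact hsB (Subgroup.relIndex_eq_one.1 h3 hs)
  have h4 : B.relIndex A ≠ 0 := by
    intro h4
    rw [h4, mul_zero] at h1
    exact Nat.card_pos.ne h1
  have h5 : (B.subgroupOf A).index = 2 := by
    show B.relIndex A = 2
    omega
  have h6 := (Subgroup.mul_mem_iff_of_index_two h5 (a := (⟨s, hs⟩ : A)) (b := ⟨t, ht⟩)).2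
    ⟨fun h => absurd (Subgroup.mem_subgroupOf.1 h) hsB, fun h => absurd (Subgroup.mem_subgroupOf.1 h) htB⟩
  exact Subgroup.mem_subgroupOf.1 h6

theorem card_le_two {A B : Subgroup G} (hBA : B ≤ A)
    (h : ∀ s ∈ A, ∀ t ∈ A, s ∉ B → t ∉ B → s * t ∈ B) : Nat.card A ≤ 2 * Nat.card B := by
  by_cases hAB : A ≤ B
  · have := Subgroup.card_le_of_le hAB
    omega
  · obtain ⟨s, hs, hsB⟩ := SetLike.not_le_iff_exists.1 hAB
    have h1 : (A : Set G) ⊆ (B : Set G) ∪ (fun b => s⁻¹ * b) '' (B : Set G) := by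
      intro t ht
      by_cases htB : t ∈ B
      · exact Or.inl htB
      · exact Or.inr ⟨s * t, h s hs t ht hsB htB, by simp⟩
    have h2 := Set.ncard_le_ncard h1 (Set.toFinite _)
    have h3 := Set.ncard_union_le (B : Set G) ((fun b => s⁻¹ * b) '' (B : Set G))
    have h4 := Set.ncard_image_le (f := fun b => s⁻¹ * b) (s := (B : Set G)) (Set.toFinite _)
    have h5 : (A : Set G).ncard = Nat.card A := rfl
    have h6 : (B : Set G).ncard = Nat.card B := rfl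
    omega

section Core

variable {P Q T : Subgroup G} {q : ℕ}

/-- if `t ∈ T ∖ Q` satisfies `[t, D] ≤ V` for a subgroup `D` of index `n` in `Q` then `|D| ≤ n |V|` -/
theorem card_le_of_comm (h : LType P Q T q) {t : G} (ht : t ∈ T) (htQ : t ∉ Q) {D : Subgroup G} (hDQ : D ≤ Q)
    {n : ℕ} (hc : Nat.card Q ≤ n * Nat.card D) (hD : ∀ d ∈ D, t * d * t⁻¹ * d⁻¹ ∈ omegaZ Q) :
    Nat.card D ≤ n * Nat.card (omegaZ Q) := by
  have hn := CITFFAux.omegaZ_conj h.o2.normal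
  obtain ⟨x, hx, hx3, hxt⟩ := T1Local.inverts h t ht htQ
  have h1 : D.map (MulAut.conj x).toMonoidHom ≤ Q := by
    rintro _ ⟨d, hd, rfl⟩
    exact h.o2.normal x hx d (hDQ hd)
  have h2 : Nat.card (D.map (MulAut.conj x).toMonoidHom) = Nat.card D :=
    Subgroup.card_map_of_injective (MulAut.conj x).injective
  have h3 := card_le_inf (A := D.map (MulAut.conj x).toMonoidHom) (B := D) h1 hDQ (n := n) (by rw [h2]; exact hc)
  refine h3.trans (Nat.mul_le_mul_left n (Subgroup.card_le_of_le ?_))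
  rintro d ⟨⟨d', hd', hdd⟩, hd⟩
  have hdd' : x * d' * x⁻¹ = d := hdd
  apply mem_V_of_inverted h ht hx hx3 hxt (hDQ hd) (hD d hd)
  rw [← hdd']
  have h4 := hn x hx _ (hD d' hd')
  have h5 : x * (t * d' * t⁻¹ * d'⁻¹) * x⁻¹ = x * t * x⁻¹ * (x * d' * x⁻¹) * (x * t * x⁻¹)⁻¹ * (x * d' * x⁻¹)⁻¹ := by
    group
  rwa [h5] at h4

theorem core_bound (h : LType P Q T q) {D W : Subgroup G} (hDQ : D ≤ Q) (hVD : omegaZ Q ≤ D)
    (hcD : Nat.card Q ≤ 2 * Nat.card D) (hQD : ¬ Q ≤ D) (hWT : W ≤ T)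
    (hW : ∀ t ∈ W, ∀ d ∈ D, t * d * t⁻¹ * d⁻¹ ∈ omegaZ Q) (hWQ : ∀ t ∈ W, ∀ a ∈ Q, t * a * t⁻¹ * a⁻¹ ∈ D)
    (hWc : Nat.card W = q ^ 2) (hWc' : Nat.card (W ⊓ Q : Subgroup G) = q) :
    q = 2 ∧ Nat.card Q = 4 * Nat.card (omegaZ Q) := by
  have hn := CITFFAux.omegaZ_conj h.o2.normal
  have hq2 := T1Local.two_le h
  obtain ⟨a, ha, haD⟩ := SetLike.not_le_iff_exists.1 hQD
  have hVQ : omegaZ Q ≤ Q := fun v hv => hv.1
  obtain ⟨t, ht, htQ⟩ : ∃ t ∈ W, t ∉ Q := by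
    by_contra hne
    push Not at hne
    rw [inf_eq_left.2 hne, hWc] at hWc'
    nlinarith
  have hDV := card_le_of_comm h (hWT ht) htQ hDQ hcD (hW t ht)
  -- `|Q| = 4 |V|`
  have h1 := card_mul_relIndex hVD
  have h2 := card_mul_relIndex hDQ
  have hV0 : 0 < Nat.card (omegaZ Q) := Nat.card_pos
  have hD0 : 0 < Nat.card D := Nat.card_pos
  have h3 : D.relIndex Q = 2 := by
    have h4 : D.relIndex Q ≤ 2 := by
      rw [← h2, mul_comm 2] at hcD
      exact Nat.le_of_mul_le_mul_left hcD hD0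
    have h5 : D.relIndex Q ≠ 1 := fun h5 => hQD (Subgroup.relIndex_eq_one.1 h5)
    have h6 : D.relIndex Q ≠ 0 := by
      intro h6
      rw [h6, mul_zero] at h2
      exact Nat.card_pos.ne h2
    omega
  obtain ⟨x, hx, hx3, -⟩ := T1Local.inverts h t (hWT ht) htQ
  have h4 : (omegaZ Q).relIndex D = 2 := by
    have h4 : (omegaZ Q).relIndex D ≤ 2 := by
      rw [← h1, mul_comm 2] at hDV
      exact Nat.le_of_mul_le_mul_left hDV hV0
    have h5 : (omegaZ Q).relIndex D ≠ 1 := by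
      intro h5
      have h6 : D = omegaZ Q := le_antisymm (Subgroup.relIndex_eq_one.1 h5) hVD
      rw [h6] at hcD haD
      have h7 : x * a * x⁻¹ ∉ omegaZ Q := by
        intro h7
        have h8 := hn x⁻¹ (inv_mem hx) _ h7
        have h9 : x⁻¹ * (x * a * x⁻¹) * x⁻¹⁻¹ = a := by group
        rw [h9] at h8
        exact haD h8
      exact haD (mem_V_of_comm h hx hx3 ha (two_cosets hVQ hcD (h.o2.normal x hx a ha) (inv_mem ha) h7
        (fun h8 => haD (by simpa using inv_mem h8))))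
    have h6 : (omegaZ Q).relIndex D ≠ 0 := by
      intro h6
      rw [h6, mul_zero] at h1
      exact Nat.card_pos.ne h1
    omega
  have h5 : Nat.card Q = 4 * Nat.card (omegaZ Q) := by
    rw [← h2, ← h1, h3, h4]
    ring
  refine ⟨?_, h5⟩
  -- no element of `W ∖ Q` centralises `Q / V`
  have hDV2 : Nat.card D ≤ 2 * Nat.card (omegaZ Q) := hDV
  have key : ∀ t ∈ W, t ∉ Q → t * a * t⁻¹ * a⁻¹ ∉ omegaZ Q := by
    intro t ht htQ hta
    have h6 : ∀ d ∈ Q, t * d * t⁻¹ * d⁻¹ ∈ omegaZ Q := by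
      intro d hd
      by_cases hdD : d ∈ D
      · exact hW t ht d hdD
      · have h7 : a⁻¹ * d ∈ D := two_cosets hDQ hcD (inv_mem ha) hd (fun h8 => haD (by simpa using inv_mem h8)) hdD
        have h8 := hW t ht _ h7
        have h9 := mul_mem hta (hn a (h.o2.le ha) _ h8)
        have h10 : t * a * t⁻¹ * a⁻¹ * (a * (t * (a⁻¹ * d) * t⁻¹ * (a⁻¹ * d)⁻¹) * a⁻¹) = t * d * t⁻¹ * d⁻¹ := by
          group
        rwa [h10] at h9
    have h7 := card_le_of_comm h (hWT ht) htQ le_rfl (n := 1) (by rw [one_mul]) h6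
    omega
  by_contra hq
  -- `|W| ≤ 2 |W ∩ Q|`
  have h6 : Nat.card W ≤ 2 * Nat.card (W ⊓ Q : Subgroup G) := by
    apply card_le_two inf_le_left
    intro s hs t ht hsQ htQ
    have hsQ' : s ∉ Q := fun h7 => hsQ ⟨hs, h7⟩
    have htQ' : t ∉ Q := fun h7 => htQ ⟨ht, h7⟩
    refine ⟨mul_mem hs ht, ?_⟩
    by_contra hst
    apply key (s * t) (mul_mem hs ht) hst
    have h7 := two_cosets hVD hDV2 (hWQ t ht a ha) (hWQ s hs a ha) (key t ht htQ') (key s hs hsQ')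
    have h8 := mul_mem (hW s hs _ (hWQ t ht a ha)) h7
    have h9 : s * (t * a * t⁻¹ * a⁻¹) * s⁻¹ * (t * a * t⁻¹ * a⁻¹)⁻¹ * (t * a * t⁻¹ * a⁻¹ * (s * a * s⁻¹ * a⁻¹)) =
        (s * t) * a * (s * t)⁻¹ * a⁻¹ := by group
    rwa [h9] at h8
  rw [hWc, hWc'] at h6
  have h7 : 3 ≤ q := by omega
  nlinarith

end Core

/-- `q = 2`, `|Q| = 16`: the involutions of `Q` lie in `V` -/
theorem involution_mem_V {P Q T : Subgroup G} {q : ℕ} (h : LType P Q T q)
    (hQ : Nat.card Q = 4 * Nat.card (omegaZ Q)) {i : G} (hi : i ∈ Q) (hi2 : i * i = 1) : i ∈ omegaZ Q := by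
  by_contra hiV
  have hn := CITFFAux.omegaZ_conj h.o2.normal
  obtain ⟨t, ht, htQ⟩ := T1Local.exists_not_mem h
  obtain ⟨x, hx, hx3, -⟩ := T1Local.inverts h t ht htQ
  have hx3' : x ^ 3 = 1 := by rw [← hx3]; exact pow_orderOf_eq_one x
  -- the four coset representatives
  let u : Fin 4 → G := ![1, i, x * i * x⁻¹, x⁻¹ * i * x]
  have hu : ∀ j, u j ∈ Q := by
    intro j
    fin_cases j
    · exact one_mem _
    · exact hi
    · exact h.o2.normal x hx i hi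
    · have := h.o2.normal x⁻¹ (inv_mem hx) i hi
      rwa [inv_inv] at this
  have hu2 : ∀ j, u j * u j = 1 := by
    intro j
    fin_cases j
    · exact one_mul 1
    · exact hi2
    · show x * i * x⁻¹ * (x * i * x⁻¹) = 1
      have : x * i * x⁻¹ * (x * i * x⁻¹) = x * (i * i) * x⁻¹ := by group
      rw [this, hi2]; group
    · show x⁻¹ * i * x * (x⁻¹ * i * x) = 1
      have : x⁻¹ * i * x * (x⁻¹ * i * x) = x⁻¹ * (i * i) * x := by group
      rw [this, hi2]; group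
  have hconj : ∀ y ∈ P, y * i * y⁻¹ ∉ omegaZ Q := by
    intro y hy h1
    have h2 := hn y⁻¹ (inv_mem hy) _ h1
    have h3 : y⁻¹ * (y * i * y⁻¹) * y⁻¹⁻¹ = i := by group
    rw [h3] at h2
    exact hiV h2
  have hthree : ∀ y ∈ P, orderOf y = 3 → (y * i * y⁻¹) * i⁻¹ ∉ omegaZ Q := fun y hy hy3 h1 =>
    hiV (mem_V_of_comm h hy hy3 hi h1)
  have hx3i : orderOf x⁻¹ = 3 := by rw [orderOf_inv, hx3]
  have hiinv : i⁻¹ = i := inv_eq_of_mul_eq_one_left hi2
  have hne : ∀ j k, j < k → u k * (u j)⁻¹ ∉ omegaZ Q := by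
    intro j k hjk h1
    fin_cases j <;> fin_cases k <;> first | exact absurd hjk (by decide) | skip
    · apply hiV
      have h2 : i * 1⁻¹ ∈ omegaZ Q := h1
      simpa using h2
    · apply hconj x hx
      have h2 : x * i * x⁻¹ * 1⁻¹ ∈ omegaZ Q := h1
      simpa using h2
    · apply hconj x⁻¹ (inv_mem hx)
      have h2 : x⁻¹ * i * x * 1⁻¹ ∈ omegaZ Q := h1
      simpa using h2
    · exact hthree x hx hx3 h1
    · apply hthree x⁻¹ (inv_mem hx) hx3i
      rw [inv_inv]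
      exact h1
    · have h2 : x⁻¹ * i * x * (x * i * x⁻¹)⁻¹ ∈ omegaZ Q := h1
      have h3 := hn x⁻¹ (inv_mem hx) _ h2
      apply hthree x hx hx3
      have h4 : x⁻¹ * (x⁻¹ * i * x * (x * i * x⁻¹)⁻¹) * x⁻¹⁻¹ = x * i * x⁻¹ * i⁻¹ := by
        have h5 : x⁻¹ * x⁻¹ = x := by
          calc x⁻¹ * x⁻¹ = x⁻¹ * x⁻¹ * 1 := (mul_one _).symm
            _ = x⁻¹ * x⁻¹ * x ^ 3 := by rw [hx3']
            _ = x := by group
        have h6 : x * x = x⁻¹ := by
          calc x * x = (x⁻¹ * x⁻¹)⁻¹ := by rw [mul_inv_rev, inv_inv]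
            _ = x⁻¹ := by rw [h5]
        calc x⁻¹ * (x⁻¹ * i * x * (x * i * x⁻¹)⁻¹) * x⁻¹⁻¹ = (x⁻¹ * x⁻¹) * i * (x * x) * i⁻¹ := by group
          _ = x * i * x⁻¹ * i⁻¹ := by rw [h5, h6]
      rwa [h4] at h3
  have hne' : ∀ j k, j ≠ k → u k * (u j)⁻¹ ∉ omegaZ Q := by
    intro j k hjk
    rcases lt_or_gt_of_ne hjk with h1 | h1
    · exact hne j k h1
    · intro h2
      apply hne k j h1
      have h3 := inv_mem h2
      rwa [mul_inv_rev, inv_inv] at h3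
  let f : Fin 4 × omegaZ Q → Q := fun p => ⟨(p.2 : G) * u p.1, mul_mem p.2.2.1 (hu _)⟩
  have hf : Function.Injective f := by
    rintro ⟨j, v⟩ ⟨k, w⟩ hjk
    have h1 : (v : G) * u j = w * u k := congrArg Subtype.val hjk
    have h2 : u k * (u j)⁻¹ = (w : G)⁻¹ * v := by
      rw [mul_inv_eq_iff_eq_mul, mul_assoc, h1]
      group
    have h3 : j = k := by
      by_contra hjk
      apply hne' j k hjk
      rw [h2]
      exact mul_mem (inv_mem w.2) v.2
    subst h3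
    have h4 : (v : G) = w := mul_right_cancel h1
    rw [Subtype.ext h4]
  have hcard : Nat.card Q ≤ Nat.card (Fin 4 × omegaZ Q) := by
    rw [Nat.card_prod, hQ, Nat.card_fin]
  have hbij := Function.Injective.bijective_of_nat_card_le hf hcard
  apply hiV
  -- now `Q` is elementary abelian
  have hel : Elem Q := by
    intro d hd
    obtain ⟨⟨j, v⟩, hjv⟩ := hbij.2 ⟨d, hd⟩
    have h1 : (v : G) * u j = d := congrArg Subtype.val hjv
    have h2 := v.2.2.2 (u j) (hu j)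
    rw [← h1]
    calc (v : G) * u j * (v * u j) = (v * u j) * v * u j := by group
      _ = (u j * v) * v * u j := by rw [h2]
      _ = u j * (v * v) * u j := by group
      _ = 1 := by rw [v.2.2.1, mul_one, hu2]
  exact ⟨hi, hi2, fun y hy => hel.comm hi hy⟩

/-- the end of 4.3 -/
theorem rank_two {P Q T : Subgroup G} (h : LType P Q T 2) (hV : Nat.card (omegaZ Q) = 4)
    (hQ : Nat.card Q = 4 * Nat.card (omegaZ Q)) {A : Subgroup G} (hA : A ≤ T) (hAe : Elem A) : Nat.card A ≤ 4 := by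
  have hQ1 : Q ≠ ⊥ := by
    rintro rfl
    rw [Subgroup.card_bot] at hQ
    omega
  have h1 : Nat.card T ≤ 2 * Nat.card Q := (T1Local.card_T h).le
  have h2 := card_le_inf (T1Local.Q_le_T h) hA h1
  have h3 : Q ⊓ A ≤ omegaZ Q := fun x hx => involution_mem_V h hQ hx.1 (hAe x hx.2)
  by_contra h4
  push Not at h4
  have h5 : Q ⊓ A = omegaZ Q := by
    have h6 := Subgroup.card_dvd_of_le h3
    rw [hV] at h6
    apply Subgroup.eq_of_le_of_card_ge h3
    rw [hV]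
    have h7 := Nat.le_of_dvd (by norm_num) h6
    interval_cases h8 : Nat.card (Q ⊓ A : Subgroup G)
    · omega
    · omega
    · omega
    · omega
    · omega
  have h6 : A ≤ Q := by
    intro a ha
    apply T1Local.cent_V h hQ1 a (hA ha)
    intro v hv
    rw [← h5] at hv
    exact hAe.comm ha hv.2
  rw [inf_eq_right.2 h6] at h5
  rw [h5, hV] at h4
  omega

/-- piece M (4.3) -/
theorem not_nonabelian {M P Q S P₂ Q₂ : Subgroup G} {q : ℕ} (h : CaseII M P Q S P₂ Q₂ q) (hr : ¬ Cfsg.PRankLE 2 2 G)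
    (hst : (∃ p r, RType P₂ Q₂ S p r) ∨ SzType P₂ Q₂) (hV : omegaZ Q ≤ Q₂)
    (hE : ¬ ∀ g ∈ P₂, ∀ v ∈ omegaZ Q, ∀ w ∈ omegaZ Q, v * (g * w * g⁻¹) = (g * w * g⁻¹) * v) : False := by
  have hL := h.t₁.ltype
  push Not at hE
  obtain ⟨g, hg, v, hv, w, hw, hvw⟩ := hE
  set e : G ≃* G := MulAut.conj g with he
  have hL' := lType_map e hL
  have hVm := omegaZ_map e Q
  have hQ₂S := Q₂_le_S h
  have hQS := Q_le_S h
  -- `V' = V^g ≤ Q₂`
  have hV' : omegaZ (Q.map e.toMonoidHom) ≤ Q₂ := by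
    rw [hVm]
    rintro _ ⟨y, hy, rfl⟩
    exact h.o2.normal g hg y (hV hy)
  have hQ₂T' : Q₂ ≤ S.map e.toMonoidHom := by
    intro y hy
    refine ⟨g⁻¹ * y * g⁻¹⁻¹, hQ₂S (h.o2.normal g⁻¹ (inv_mem hg) y hy), ?_⟩
    show g * (g⁻¹ * y * g⁻¹⁻¹) * g⁻¹ = y
    group
  obtain ⟨-, hcV, hcV', hS, -, hZ, -, -, hV'Q⟩ := T1Local.pair_natural hL hL' (hV'.trans hQ₂S) (hV.trans hQ₂T') (by
    intro hc
    apply hvw
    apply hc v hv
    rw [hVm]
    exact ⟨w, hw, rfl⟩)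
  -- `S = Q Q₂`
  have hSQ : S = Q ⊔ Q₂ := by
    apply le_antisymm
    · calc S = omegaZ (Q.map e.toMonoidHom) ⊔ Q := hS
        _ ≤ Q ⊔ Q₂ := sup_le (hV'.trans le_sup_right) le_sup_left
    · exact sup_le hQS hQ₂S
  obtain ⟨p, r, hR⟩ : ∃ p r, RType P₂ Q₂ S p r := by
    rcases hst with h1 | h1
    · exact h1
    · exact absurd (T1Cub.not_sz_of_sup h h1 hSQ) id
  have hcS := T1Cub.card_of_sup h hR hSQ
  -- `|Q : Q ∩ Q₂| = 2`
  have hQ₂n : Q ≤ normalizer (Q₂ : Set G) := by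
    refine le_trans (hQS.trans h.le) (CITNonCommute.le_normalizer_of_forall h.o2.normal)
  have hcD : Nat.card Q = 2 * Nat.card (Q ⊓ Q₂ : Subgroup G) := by
    have h1 := card_sup_mul hQ₂n
    rw [sup_comm, ← hSQ, hcS, inf_comm] at h1
    have h2 : 0 < Nat.card Q₂ := Nat.card_pos
    have h3 : Nat.card Q₂ * (2 * Nat.card (Q ⊓ Q₂ : Subgroup G)) = Nat.card Q₂ * Nat.card Q := by
      rw [← h1]; ring
    exact (Nat.eq_of_mul_eq_mul_left h2 h3).symm
  have hD0 : 0 < Nat.card (Q ⊓ Q₂ : Subgroup G) := Nat.card_pos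
  have hQP : S ≤ P₂ := h.le
  -- `[V', Q₂] ≤ Z`
  have hcomm : ∀ t ∈ omegaZ (Q.map e.toMonoidHom), ∀ d ∈ Q₂, t * d * t⁻¹ * d⁻¹ ∈ omegaZ Q := by
    intro t ht d hd
    have h1 := T1Local.nat_comm hL' hcV' d (hQ₂T' hd) t ht
    rw [← hZ] at h1
    have h2 := T1Local.omegaZ_le hL (T1Local.ne_bot_of_card hL hcV) (inv_mem h1)
    have h3 : (d * t * d⁻¹ * t⁻¹)⁻¹ = t * d * t⁻¹ * d⁻¹ := by group
    rwa [h3] at h2
  obtain ⟨hq, hcQ⟩ := core_bound hL (D := Q ⊓ Q₂) (W := omegaZ (Q.map e.toMonoidHom)) inf_le_left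
    (le_inf (fun y hy => hy.1) hV) hcD.le (fun h1 => by
      rw [inf_eq_left.2 (h1.trans inf_le_right)] at hcD
      have : 0 < Nat.card Q := Nat.card_pos
      omega) (hV'.trans hQ₂S) (fun t ht d hd => hcomm t ht d hd.2)
    (fun t ht a ha => ⟨Q.mul_mem (hL.o2.normal t (hL.syl.le (hQ₂S (hV' ht))) a ha) (Q.inv_mem ha), by
      have h1 : a * t⁻¹ * a⁻¹ ∈ Q₂ := h.o2.normal a (hQP (hQS ha)) _ (inv_mem (hV' ht))
      have h2 := mul_mem (hV' ht) h1
      have h3 : t * (a * t⁻¹ * a⁻¹) = t * a * t⁻¹ * a⁻¹ := by group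
      rwa [h3] at h2⟩) hcV' (by rw [hV'Q]; exact T1Local.nat_card hL hcV)
  subst hq
  -- an elementary abelian subgroup of order > 4
  apply hr
  intro A hAc hAe
  have hA2 : IsPGroup 2 A := fun a => ⟨1, by
    apply Subtype.ext
    show (a : G) ^ 2 ^ 1 = 1
    rw [pow_one]
    exact hAe a a.2⟩
  obtain ⟨T', hT', hAT'⟩ := CITBasic.exists_isSyl2 (⊤ : Subgroup G) A le_top hA2
  obtain ⟨m, -, hm⟩ := CITBasic.IsSyl2.conj hT' h.sylow
  have h1 := rank_two hL (by rw [hcV]; norm_num) hcQ (A := A.map (MulAut.conj m).toMonoidHom)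
    (by rw [hm]; exact Subgroup.map_mono hAT') (by
      rintro _ ⟨a, ha, rfl⟩
      have h2 := hAe a ha
      rw [sq] at h2
      show m * a * m⁻¹ * (m * a * m⁻¹) = 1
      have h3 : m * a * m⁻¹ * (m * a * m⁻¹) = m * (a * a) * m⁻¹ := by group
      rw [h3, h2]; group)
  rw [Subgroup.card_map_of_injective (MulAut.conj m).injective] at h1
  exact h1

end Cfsg.Agent.OddCyclic.T1NonAbel
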