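import Mathlib
import Cfsg.Agent.OddCyclic.UniStruct
import Cfsg.Agent.OddCyclic.JInner
import Cfsg.Agent.SectRankFour.OutAb
import Cfsg.Agent.Schreier.Sz
import Cfsg.Agent.ThreePrime.SzDataExists

/-!
# Tameness of PSL(2, q), of the Suzuki groups and of J₁
-/

set_option autoImplicit false

namespace Cfsg.Agent.OddCyclic.UniStruct

open Subgroup Cfsg
open scoped commutatorElement

/-- groups with abelian outer automorphism group are tame -/
theorem Tame.of_comm {K : Type*} [Group K]
    (h : ∀ a b : MulAut K, a * b * a⁻¹ * b⁻¹ ∈ (MulAut.conj : K →* MulAut K).range) : Tame K := by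
  refine ⟨fun C hC => ?_, fun x s _ => h x s⟩
  rw [← hC, commutator_le]
  intro a _ b _
  exact h a b

theorem tame_psl_two (F : Type*) [Field F] [Finite F] : Tame (Matrix.ProjectiveSpecialLinearGroup (Fin 2) F) := by
  apply Tame.of_comm
  intro a b
  have h := SectRankFour.OutAb.psl_two F
  exact h (commutator_mem_commutator (mem_top a) (mem_top b))

/-- groups all of whose automorphisms are inner are tame -/
theorem Tame.of_inner {K : Type*} [Group K] (h : ∀ a : MulAut K, ∃ g : K, ∀ x, a x = g * x * g⁻¹) : Tame K := by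
  apply Tame.of_comm
  intro a b
  obtain ⟨g, hg⟩ := h (a * b * a⁻¹ * b⁻¹)
  exact ⟨g, MulEquiv.ext fun x => (hg x).symm⟩

theorem tame_of_local {K : Type*} [Group K] [Finite K] (h : SporRec.J1.Defs.Local K) (hk : ∃ k : K, orderOf k = 2) :
    Tame K := by
  obtain ⟨k, hk⟩ := hk
  exact Tame.of_inner fun a => JInner.inner h k hk a

theorem tame_suzuki {K : Type*} [Group K] [Finite K] (h : Cfsg.Lie.IsoSuzuki K) : Tame K := by
  refine ⟨Schreier.Sz.schFor h, fun x s ⟨n, hn⟩ => ?_⟩
  obtain ⟨F, iF, iF', m, hm, hF, ⟨R⟩⟩ := ThreePrime.SzRel.exists_rel h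
  obtain ⟨j, hj⟩ := R.inner hm hF s ⟨n, hn⟩
  have h1 : x * s * x⁻¹ ∈ (MulAut.conj : K →* MulAut K).range := by
    rw [hj]
    have := Schreier.Basic.conj_range_normal K
    exact this.conj_mem _ ⟨j, rfl⟩ x
  refine mul_mem h1 (inv_mem ?_)
  rw [hj]
  exact ⟨j, rfl⟩

end Cfsg.Agent.OddCyclic.UniStruct
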