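import Cfsg.Agent.OddCyclic.Om5Lin
import Cfsg.Agent.OddCyclic.FFMain

/-!
# (Omega5): the case `U ≤ O₂(C_G(z))`, conclusion
-/

set_option autoImplicit false
set_option linter.unusedSectionVars false

namespace Cfsg.Agent.OddCyclic.Om5

open Subgroup Matrix
open Cfsg.Agent.OddCyclic.T1Defs (OddCyc)
open Cfsg.Agent.OddCyclic.PumpMain (KZero)
open Cfsg.Agent.OddCyclic.FFBasic Cfsg.Agent.OddCyclic.T1Module Cfsg.Agent.OddCyclic.FFRed

variable {X V : Type*} [Group X] [CommGroup V] {ρ : X →* MulAut V}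

/-- no normal subgroup `SL₂(q)`, `q ≥ 8`, with natural module -/
def NoNat (ρ : X →* MulAut V) : Prop :=
  ∀ (L : Subgroup X) [L.Normal] (F : Type) [Field F] [Fintype F] [CharP F 2], 8 ≤ Fintype.card F →
    (e₀ : SpecialLinearGroup (Fin 2) F ≃* L) →
    (∀ e : SpecialLinearGroup (Fin 2) F ≃* L, FFSl2.IsNat (ρ.comp (L.subtype.comp e.toMonoidHom))) → False

/-- `L ≅ SL₂(q)` -/
theorem Off.false_of_sl2 [Finite X] [Finite V] (hc : OddCyc X) (hV : ∀ v : V, v * v = 1) (hρ : Function.Injective ρ)
    {T : Sylow 2 X} {Λ : Subgroup V} {x s : X} {μ : V} (h : Lam ρ T Λ x s μ) {E : Subgroup X} (hE : Off ρ E)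
    (hnn : NoNat ρ)
    {L A : Subgroup X} [hL : L.Normal] {F : Type} [Field F] [Fintype F] [CharP F 2] (h4 : 4 ≤ Fintype.card F)
    (e : SpecialLinearGroup (Fin 2) F ≃* L) (hA : Fr ρ L A) : False := by
  by_cases hAL : A ≤ L
  · have hN : ∀ e : SpecialLinearGroup (Fin 2) F ≃* L, FFSl2.IsNat (ρ.comp (L.subtype.comp e.toMonoidHom)) := by
      intro e
      set j : SpecialLinearGroup (Fin 2) F →* X := L.subtype.comp e.toMonoidHom with hj
      have hinj : Function.Injective j := L.subtype_injective.comp e.injective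
      have hrange : j.range = L := by
        ext x
        constructor
        · rintro ⟨y, rfl⟩; exact (e y).2
        · intro hx
          exact ⟨e.symm ⟨x, hx⟩, by show ((e (e.symm ⟨x, hx⟩) : L) : X) = x; rw [e.apply_symm_apply]⟩
      have hAr : A ≤ j.range := by rw [hrange]; exact hAL
      have hne : ∃ g v, (ρ.comp j) g v ≠ v := by
        obtain ⟨⟨a, ha⟩, ha1'⟩ := Subgroup.ne_bot_iff_exists_ne_one.1 hA.ne
        have ha1 : a ≠ 1 := fun h => ha1' (Subtype.ext h)
        obtain ⟨v, hv⟩ := hA.faithL a (hAL ha) ha1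
        obtain ⟨g, hg⟩ := hAr ha
        refine ⟨g, v, ?_⟩
        show ρ (j g) v ≠ v
        rw [hg]; exact hv
      exact (FFSl2.main h4 hV hne (FFLoc.bo_comap hA.bo hinj hAr) (FFLoc.comap_ne_bot hA.ne hAr)).1
    by_cases h8 : 8 ≤ Fintype.card F
    · exact hnn L F h8 e hN
    · have hF4 : Fintype.card F = 4 := by
        obtain ⟨f, hf, hF⟩ := T1Sl2.card_pow F
        rw [hF] at h4 h8 ⊢
        have h1 : f < 3 := by
          by_contra hcon
          exact h8 (by
            calc 8 = 2 ^ 3 := by norm_num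
              _ ≤ 2 ^ f := Nat.pow_le_pow_right (by norm_num) (by omega))
        have h2 : f = 1 ∨ f = 2 := by omega
        rcases h2 with rfl | rfl
        · norm_num at h4
        · norm_num
      have hidx := (hN e).top
      rw [FFLoc.CS_comp, ← MonoidHom.range_eq_map] at hidx
      have h2 : (L.subtype.comp e.toMonoidHom).range = L := by
        ext g
        constructor
        · rintro ⟨y, rfl⟩; exact (e y).2
        · intro hg
          exact ⟨e.symm ⟨g, hg⟩, by show ((e (e.symm ⟨g, hg⟩) : L) : X) = g; rw [e.apply_symm_apply]⟩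
      rw [h2, hF4] at hidx
      exact hE.false_of_four hc hV hρ h hF4 e (by rw [hidx]; norm_num)
  · obtain ⟨hF4, -, -, hidx, -⟩ := FFOuter.main h4 e hA hV hAL
    exact hE.false_of_four hc hV hρ h hF4 e (by rw [hidx])

/-- **the case `U ≤ O₂(C_G(z))`** -/
theorem Off.false_of_lam [Finite X] [Finite V] (hc : OddCyc X)
    (hk : ∀ J : Subgroup X, IsSimpleGroup J → (∃ x y : J, x * y ≠ y * x) → KZero J)
    (hV : ∀ v : V, v * v = 1) (hρ : Function.Injective ρ)
    {T : Sylow 2 X} {Λ : Subgroup V} {x s : X} {μ : V} (h : Lam ρ T Λ x s μ) {E : Subgroup X} (hE : Off ρ E)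
    (hnn : NoNat ρ) : False := by
  obtain ⟨A, hAE, hA1, hA⟩ := hE.exists_bo
  have h2' : pCore 2 X = ⊥ := by
    rw [Cfsg.Agent.Lib.Cores.pCore_def, eq_bot_iff]
    exact sSup_le fun D hD => (h.o2 hρ D hD.1 hD.2).le
  rcases FFStruct.main hc hk h2' hV hρ hA hA1 with h3 | ⟨L, hLn, hs, hK, hns, hFr⟩
  · exact hE.false_of_s3 hV hAE h3
  rcases hK with ⟨F, _, _, hp, h5, ⟨e⟩⟩ | ⟨F, _, _, f, hf, hF, ⟨e⟩⟩ | hK | ⟨hJ, k, hk⟩
  · have hodd : Odd (Fintype.card F) := hp.odd_of_ne_two (by omega)
    by_cases h5' : Fintype.card F = 5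
    · obtain ⟨K, _, _, _, hK4, ⟨e'⟩⟩ := T1Socle.exists_four h5'
      exact hE.false_of_sl2 hc hV hρ h hnn (F := K) (by rw [hK4]) (e.trans e').symm hFr
    · have h7 : 7 ≤ Fintype.card F := by
        have h6 : Fintype.card F ≠ 6 := by
          intro h6
          rw [h6] at hp
          revert hp
          norm_num
        omega
      have R := Cfsg.Agent.GH.L2Aut.Rep.ofEquiv (Cfsg.Agent.GH.L2Aut.two_ne_zero_of_odd hodd) e
      have hF' : (Nat.card F).Prime := by rw [Nat.card_eq_fintype_card]; exact hp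
      have h7' : 7 ≤ Nat.card F := by rw [Nat.card_eq_fintype_card]; exact h7
      have h1 := FFPsl.le_L R hFr hV hc hF' h7'
      have h2 := FFPsl.seven R hFr hV hc hF' h7'
      have h32 := FFThree.l32_of R h2
      obtain ⟨⟨a, ha⟩, ha1'⟩ := Subgroup.ne_bot_iff_exists_ne_one.1 hA1
      have ha1 : a ≠ 1 := fun h => ha1' (Subtype.ext h)
      -- `|A| ≤ 4`
      have hA4 : Nat.card A ≤ 4 := by
        let g : A →* MulAut L := (MulAut.conjNormal (H := L)).comp A.subtype
        have hg : Function.Injective g := by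
          rw [injective_iff_map_eq_one]
          intro u hu1
          apply Subtype.ext
          apply hFr.faithA u u.2
          intro l hl
          have h3 : MulAut.conjNormal (u : X) (⟨l, hl⟩ : L) = ⟨l, hl⟩ := DFunLike.congr_fun hu1 ⟨l, hl⟩
          have h4 := congrArg Subtype.val h3
          rw [MulAut.conjNormal_apply] at h4
          exact mul_inv_eq_iff_eq_mul.1 h4
        have h3 : Nat.card g.range ≤ 4 := by
          apply B2Pgl.card_elem R
          · intro α _
            exact PGLTorus.mem_PGL_of_prime R hF' α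
          · rintro _ ⟨u, rfl⟩
            rw [← map_mul]
            have : u * u = 1 := Subtype.ext (hA.sq u u.2)
            rw [this, map_one]
        rwa [← Nat.card_congr (MonoidHom.ofInjective hg).toEquiv] at h3
      have hidx : (fx ρ a).index ≤ 4 := by
        calc (fx ρ a).index ≤ (CS ρ A).index := Nat.le_of_dvd
              (Nat.pos_of_ne_zero Subgroup.index_ne_zero_of_finite) (Subgroup.index_dvd_of_le (CS_le_fx' ha))
          _ ≤ Nat.card A := hA.index_le
          _ ≤ 4 := hA4
      exact hE.false_of_seven hc hV hρ h hs R hF' h32 (h1 ha) ha1 (hA.sq a ha) hidx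
  · have h4 : 4 ≤ Fintype.card F := by
      rw [hF]
      calc 4 = 2 ^ 2 := by norm_num
        _ ≤ 2 ^ f := Nat.pow_le_pow_right (by norm_num) hf
    have hch : CharP F 2 := by
      have hch := ringChar.charP F
      have h1 : ringChar F ∣ 2 ^ f := by
        rw [← hF, ← CharP.cast_eq_zero_iff F (ringChar F), Nat.cast_card_eq_zero]
      have h2 : (ringChar F).Prime := CharP.char_is_prime F (ringChar F)
      have h3 : ringChar F = 2 := (Nat.prime_dvd_prime_iff_eq h2 Nat.prime_two).1 (h2.dvd_of_dvd_pow h1)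
      rwa [h3] at hch
    obtain ⟨g⟩ := WeakTI.PslTwo.nonempty_equiv (F := F)
    exact hE.false_of_sl2 hc hV hρ h hnn h4 (g.trans e.symm) hFr
  · exact absurd hK hns
  · exact (FFJ1.main hFr hV hJ hk).elim

end Cfsg.Agent.OddCyclic.Om5
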