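import Cfsg.Agent.OddCyclic.Om5BInv

/-!
# (Omega5): the commutator form on `V = W / ⟨z⟩` in the case `U ≰ O₂(C_G(z))`
-/

set_option autoImplicit false
set_option linter.unusedSectionVars false

namespace Cfsg.Agent.OddCyclic.Om5

open Subgroup Cfsg Cfsg.Agent.ZN

universe u

variable {G : Type u} [Group G] [Finite G] {S M U : Subgroup G} {φ : M →* Equiv.Perm (Fin 5)} {e : Fin 5 → Fin 5 → G}

/-- 0 if `a`, `b` commute, else 1 -/
noncomputable def cmf {G : Type*} [Group G] (a b : G) : ZMod 2 := by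
  classical
  exact if a * b = b * a then 0 else 1

theorem cmf_eq_zero {G : Type*} [Group G] {a b : G} : cmf a b = 0 ↔ a * b = b * a := by
  classical
  unfold cmf
  split_ifs with h
  · exact ⟨fun _ => h, fun _ => rfl⟩
  · exact ⟨fun h1 => absurd h1 (by decide), fun h1 => absurd h1 h⟩

theorem cmf_eq_one {G : Type*} [Group G] {a b : G} : cmf a b = 1 ↔ ¬ a * b = b * a := by
  classical
  unfold cmf
  split_ifs with h
  · exact ⟨fun h1 => absurd h1 (by decide), fun h1 => absurd h h1⟩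
  · exact ⟨fun _ => h, fun _ => rfl⟩

theorem cmf_congr {G : Type*} [Group G] {a b c d : G} (h : a * b = b * a ↔ c * d = d * c) : cmf a b = cmf c d := by
  by_cases h1 : a * b = b * a
  · rw [cmf_eq_zero.2 h1, cmf_eq_zero.2 (h.1 h1)]
  · rw [cmf_eq_one.2 h1, cmf_eq_one.2 (fun h2 => h1 (h.2 h2))]

theorem cmf_symm {G : Type*} [Group G] (a b : G) : cmf a b = cmf b a := cmf_congr ⟨fun h => h.symm, fun h => h.symm⟩

/-- additivity if commutators with `a` are in `⟨z⟩`, `z` central -/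
theorem cmf_mul {G : Type*} [Group G] {a b c z : G} (hz : z * z = 1) (hzb : z * b = b * z)
    (hb : a * b * a⁻¹ * b⁻¹ = 1 ∨ a * b * a⁻¹ * b⁻¹ = z) (hc : a * c * a⁻¹ * c⁻¹ = 1 ∨ a * c * a⁻¹ * c⁻¹ = z)
    (hz1 : z ≠ 1) : cmf a (b * c) = cmf a b + cmf a c := by
  have key : ∀ {x : G}, a * x * a⁻¹ * x⁻¹ = 1 ↔ a * x = x * a := fun {x} => by
    rw [mul_inv_eq_one, mul_inv_eq_iff_eq_mul]
  have e1 : a * (b * c) * a⁻¹ * (b * c)⁻¹ = (a * b * a⁻¹ * b⁻¹) * (b * (a * c * a⁻¹ * c⁻¹) * b⁻¹) := by group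
  rcases hb with hb | hb
  · rw [cmf_eq_zero.2 (key.1 hb), zero_add]
    apply cmf_congr
    rw [← key, ← key, e1, hb, one_mul]
    constructor
    · intro h1
      have : b⁻¹ * (b * (a * c * a⁻¹ * c⁻¹) * b⁻¹) * b = 1 := by rw [h1]; group
      calc a * c * a⁻¹ * c⁻¹ = b⁻¹ * (b * (a * c * a⁻¹ * c⁻¹) * b⁻¹) * b := by group
        _ = 1 := this
    · intro h1
      rw [h1]; group
  · have hbz : b * z * b⁻¹ = z := by rw [← hzb, mul_inv_cancel_right]
    have hb1 : ¬ a * b = b * a := fun h => hz1 (by rw [← hb]; exact key.2 h)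
    rw [cmf_eq_one.2 hb1]
    rcases hc with hc | hc
    · rw [cmf_eq_zero.2 (key.1 hc), add_zero, cmf_eq_one, ← key, e1, hb, hc, mul_one, mul_inv_cancel, mul_one]
      exact hz1
    · have hc1 : ¬ a * c = c * a := fun h => hz1 (by rw [← hc]; exact key.2 h)
      rw [cmf_eq_one.2 hc1, cmf_eq_zero.2 (key.1 (by rw [e1, hb, hc, hbz, hz]))]
      decide

/-- the commutator form -/
theorem Dat.exists_frm {h : Sit0 S M U φ e} (hU : ¬ U ≤ o2 (CC e)) {V : Type u} [CommGroup V] {π : WW e →* V}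
    {ρ : CC e →* MulAut V} {T : Sylow 2 ρ.range} {Λ : Subgroup V} {x s : ρ.range} {μ : V}
    (D : Dat h π ρ T Λ x s μ) : ∃ f : V → V → ZMod 2, Frm ρ.range.subtype f := by
  have hQ := (h.e_mem_o2 hU).1
  have hWO := h.WW_le hQ
  have hWM : ∀ w ∈ WW e, w ∈ M := fun w hw => h.o2_le_M (hWO hw)
  have hWC : WW e ≤ CC e := hWO.trans (MinSimple.VModule.o2_le _)
  have hzc : ∀ w ∈ WW e, w * sg e 4 = sg e 4 * w := fun w hw => Sit0.mem_CC.1 (hWC hw)
  have hcomm : ∀ a b : WW e, (a : G) * b * (a : G)⁻¹ * (b : G)⁻¹ = 1 ∨ (a : G) * b * (a : G)⁻¹ * (b : G)⁻¹ = sg e 4 :=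
    fun a b => h.comm_z (hWO a.2) b.2
  have hmul : ∀ a b c : WW e, cmf (a : G) (b * c) = cmf (a : G) b + cmf (a : G) c := fun a b c =>
    cmf_mul h.z_sq (hzc b b.2).symm (hcomm a b) (hcomm a c) h.z_ne
  have hker : ∀ a b : WW e, π b = 1 → cmf (a : G) b = 0 := by
    intro a b hb
    rw [cmf_eq_zero]
    rcases (D.md.ker b).1 hb with h1 | h1
    · rw [h1, mul_one, one_mul]
    · rw [h1]; exact hzc a a.2
  have hind : ∀ a b b' : WW e, π b = π b' → cmf (a : G) b = cmf (a : G) b' := by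
    intro a b b' hb
    have h1 : π (b'⁻¹ * b) = 1 := by rw [map_mul, map_inv, hb, inv_mul_cancel]
    have h2 := hmul a b' (b'⁻¹ * b)
    rw [hker a _ h1, add_zero] at h2
    rw [← h2]
    congr 1
    change (b : G) = b' * ((b' : G)⁻¹ * b)
    group
  have hind2 : ∀ a a' b b' : WW e, π a = π a' → π b = π b' → cmf (a : G) b = cmf (a' : G) b' := by
    intro a a' b b' ha hb
    rw [hind a b b' hb, cmf_symm, hind b' a a' ha, cmf_symm]
  let g : V → WW e := Function.surjInv D.md.surj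
  have hg : ∀ v, π (g v) = v := Function.surjInv_eq D.md.surj
  refine ⟨fun v w => cmf (g v : G) (g w), ⟨?_, ?_, ?_, ?_⟩⟩
  · intro v w w'
    change cmf (g v : G) (g (w * w')) = cmf (g v : G) (g w) + cmf (g v : G) (g w')
    rw [← hmul]
    exact hind (g v) (g (w * w')) (g w * g w') (by rw [hg, map_mul, hg, hg])
  · intro v w
    exact cmf_symm _ _
  · rintro ⟨_, c, rfl⟩ v w
    change cmf (g (ρ c v) : G) (g (ρ c w)) = cmf (g v : G) (g w)
    have h1 : ∀ v, π (g (ρ c v)) = π ⟨(c : G) * g v * (c : G)⁻¹, D.md.norm _ c.2 _ (g v).2⟩ := by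
      intro v
      rw [hg, ← D.md.act c (g v) (D.md.norm _ c.2 _ (g v).2), hg]
    rw [hind2 _ _ _ _ (h1 v) (h1 w)]
    apply cmf_congr
    change (c : G) * g v * (c : G)⁻¹ * ((c : G) * g w * (c : G)⁻¹) = (c : G) * g w * (c : G)⁻¹ * ((c : G) * g v * (c : G)⁻¹) ↔ _
    have e1 : (c : G) * g v * (c : G)⁻¹ * ((c : G) * g w * (c : G)⁻¹) = (c : G) * ((g v : G) * g w) * (c : G)⁻¹ := by group
    have e2 : (c : G) * g w * (c : G)⁻¹ * ((c : G) * g v * (c : G)⁻¹) = (c : G) * ((g w : G) * g v) * (c : G)⁻¹ := by group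
    rw [e1, e2]
    constructor
    · intro h2; exact mul_left_cancel (mul_right_cancel h2)
    · intro h2; rw [h2]
  · -- two elements of `W` which do not commute
    obtain ⟨w, hw, hw3⟩ := h.exists_move hU
    have h4 : φ w 4 = 4 := (h.mem_CC_iff w).1 (hWC hw)
    obtain ⟨j, hj3, hj4, hj⟩ : ∃ j : Fin 5, j ≠ 3 ∧ j ≠ 4 ∧ φ w 3 ≠ j := by
      have key : ∀ k : Fin 5, ∃ j : Fin 5, j ≠ 3 ∧ j ≠ 4 ∧ k ≠ j := by decide
      exact key _
    have hjW : e 3 j ∈ WW e := h.e_mem_WW (by decide) hj4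
    refine ⟨π ⟨w, hw⟩, π ⟨e 3 j, hjW⟩, ?_⟩
    change cmf (g (π ⟨w, hw⟩) : G) (g (π ⟨e 3 j, hjW⟩)) ≠ 0
    rw [hind2 (g (π ⟨w, hw⟩)) ⟨w, hw⟩ (g (π ⟨e 3 j, hjW⟩)) ⟨e 3 j, hjW⟩ (hg _) (hg _)]
    intro h5
    have h6 : (w : G) * e 3 j = e 3 j * w := cmf_eq_zero.1 h5
    have h7 := h.conj w 3 j
    rw [h6, mul_inv_cancel_right] at h7
    rcases h.toFrame.e_inj (Ne.symm hj3) h7 with ⟨h8, -⟩ | ⟨-, h8⟩
    · exact hw3 h8.symm
    · exact hj h8.symm

end Cfsg.Agent.OddCyclic.Om5
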