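import Cfsg.Agent.OddCyclic.Om5Off
import Cfsg.Agent.OddCyclic.T1CIT

/-!
# (Omega5), sections (6.3.1), (6.3.2): the offender, conclusion
-/

set_option autoImplicit false
set_option linter.unusedSectionVars false

namespace Cfsg.Agent.OddCyclic.Om5

open Subgroup Cfsg Cfsg.Agent.ZN
open Cfsg.Agent.MinSimple.Geo (cj mem_cj conj_mem_cj cj_cj lines ws le_ws ws_le mem_lines_cj cj_ws)
open Cfsg.Agent.OddCyclic.T1Module (CS)
open Cfsg.Agent.OddCyclic.FFSl2 (stb mem_stb)

universe u

variable {G : Type u} [Group G] [Finite G] {S M U : Subgroup G} {φ : M →* Equiv.Perm (Fin 5)}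
  {e : Fin 5 → Fin 5 → G}

theorem comm_symm {a b z : G} (hz : z * z = 1) (h : a * b * a⁻¹ * b⁻¹ = 1 ∨ a * b * a⁻¹ * b⁻¹ = z) :
    b * a * b⁻¹ * a⁻¹ = 1 ∨ b * a * b⁻¹ * a⁻¹ = z := by
  have e1 : b * a * b⁻¹ * a⁻¹ = (a * b * a⁻¹ * b⁻¹)⁻¹ := by group
  rw [e1]
  rcases h with h1 | h1
  · left; rw [h1, inv_one]
  · right; rw [h1]; exact inv_eq_of_mul_eq_one_left hz

namespace Dat

variable {h : Sit0 S M U φ e} {V : Type u} [CommGroup V] [Finite V] {π : WW e →* V}
  {ρ : CC e →* MulAut V} {T : Sylow 2 ρ.range} {Λ : Subgroup V} {x s : ρ.range} {μ : V}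

theorem fix_iff (D : Dat h π ρ T Λ x s μ) (d : CC e) (w : WW e) :
    ρ d (π w) = π w ↔ (d : G) * w * (d : G)⁻¹ * (w : G)⁻¹ = 1 ∨ (d : G) * w * (d : G)⁻¹ * (w : G)⁻¹ = sg e 4 := by
  rw [D.md.act d w (D.md.norm _ d.2 _ w.2), ← mul_inv_eq_one, ← map_inv, ← map_mul, D.md.ker]
  rfl

theorem exists_off (D : Dat h π ρ T Λ x s μ) (hU : U ≤ o2 (CC e)) {E : Subgroup G} (C : Crit U e E) :
    ∃ F : Subgroup ρ.range, Off ρ.range.subtype F := by
  have hWF : WW e ≤ ws U (sg e 4) := Crit.WW_le_ws h
  have hEC := C.le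
  have happ : ∀ (r : CC e) (v : V), ρ.range.subtype (ρ.rangeRestrict r) v = ρ r v := fun r v => rfl
  -- the kernel on `E`
  have hker : ∀ (d : G) (hd : d ∈ E), ρ ⟨d, hEC hd⟩ = 1 ↔ ∀ f ∈ ws U (sg e 4), d * f = f * d := by
    intro d hd
    constructor
    · intro h1
      apply C.cent_ws h hd
      intro w hw
      have h2 := (D.fix_iff ⟨d, hEC hd⟩ ⟨w, hw⟩).1 (by rw [h1]; rfl)
      exact h2
    · intro h1
      refine MulEquiv.ext fun v => ?_
      obtain ⟨w, rfl⟩ := D.md.surj v
      have h2 := h1 w (hWF w.2)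
      rw [MulAut.one_apply, D.fix_iff]
      left
      change d * w * d⁻¹ * (w : G)⁻¹ = 1
      rw [h2, mul_inv_cancel_right, mul_inv_cancel]
  -- the homomorphism
  let f0 : E →* ρ.range := ρ.rangeRestrict.comp (Subgroup.inclusion hEC)
  have hf0 : ∀ d : E, f0 d = ρ.rangeRestrict ⟨d, hEC d.2⟩ := fun d => rfl
  have hcardF : Nat.card f0.range = (E ⊓ centralizer (ws U (sg e 4) : Set G)).relIndex E := by
    rw [← Subgroup.index_ker, Subgroup.relIndex]
    congr 1
    ext d
    rw [MonoidHom.mem_ker, mem_subgroupOf, mem_inf]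
    constructor
    · intro h1
      refine ⟨d.2, ?_⟩
      have h2 := (hker d d.2).1 (congrArg Subtype.val h1)
      exact mem_centralizer_iff.2 fun f hf => (h2 f hf).symm
    · rintro ⟨_, h1⟩
      rw [hf0]
      apply Subtype.ext
      exact (hker d d.2).2 fun f hf => ((mem_centralizer_iff.1 h1) f hf).symm
  refine ⟨f0.range, ⟨?_, ?_, ?_, ?_, ?_⟩⟩
  · rintro _ ⟨a, rfl⟩ _ ⟨b, rfl⟩
    rw [← map_mul, ← map_mul]
    congr 1
    exact Subtype.ext (C.comm a a.2 b b.2)
  · rintro _ ⟨a, rfl⟩
    rw [← map_mul]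
    have h1 : a * a = 1 := Subtype.ext (C.sq a a.2)
    rw [h1, map_one]
  · intro h1
    obtain ⟨d, hd, f, hf, hdf⟩ := C.ne
    apply hdf
    have h2 : f0 ⟨d, hd⟩ ∈ f0.range := ⟨_, rfl⟩
    rw [h1, mem_bot] at h2
    exact (hker d hd).1 (congrArg Subtype.val h2) f hf
  · -- the offender inequality
    rw [hcardF]
    refine le_trans ?_ C.card
    have h1 : (CS ρ.range.subtype f0.range).comap π = (centralizer (E : Set G)).subgroupOf (WW e) := by
      ext w
      rw [mem_comap, mem_subgroupOf]
      constructor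
      · intro h2
        have h3 : ∀ d ∈ E, (w : G) * d = d * w := by
          apply C.cent_D h hU w.2
          intro d hd
          apply comm_symm h.z_sq
          have h4 := h2 (f0 ⟨d, hd⟩) ⟨_, rfl⟩
          rw [hf0, happ] at h4
          exact (D.fix_iff ⟨d, hEC hd⟩ w).1 h4
        exact mem_centralizer_iff.2 fun d hd => (h3 d hd).symm
      · rintro h2 _ ⟨d, rfl⟩
        rw [hf0, happ, D.fix_iff]
        left
        have h3 := (mem_centralizer_iff.1 h2) d d.2
        change (d : G) * w * (d : G)⁻¹ * (w : G)⁻¹ = 1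
        rw [h3, mul_inv_cancel_right, mul_inv_cancel]
    have h2 : (CS ρ.range.subtype f0.range).index = (centralizer (E : Set G)).relIndex (WW e) := by
      rw [← Subgroup.index_comap_of_surjective _ D.md.surj, h1]
      rfl
    rw [h2, Subgroup.inf_relIndex_left]
    exact Subgroup.relIndex_le_of_le_right hWF Subgroup.index_ne_zero_of_finite
  · intro K hK
    let K' : Subgroup G := (K.comap ρ.rangeRestrict).map (CC e).subtype
    have hK' : ∀ (d : G) (hd : d ∈ CC e), d ∈ K' → ρ.rangeRestrict ⟨d, hd⟩ ∈ K := by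
      rintro d hd ⟨d', hd', rfl⟩
      exact hd'
    suffices h1 : E ≤ K' by
      rintro _ ⟨d, rfl⟩
      exact hK' d (hEC d.2) (h1 d.2)
    apply C.gen
    intro g hg
    by_cases hne : ∃ f ∈ ws U (sg e 4), ∃ u ∈ U, f * (g * u * g⁻¹) ≠ g * u * g⁻¹ * f
    swap
    · push Not at hne
      intro v hv
      refine ⟨⟨g * v * g⁻¹, hEC (hg v hv)⟩, ?_, rfl⟩
      have h1 : ρ.rangeRestrict ⟨g * v * g⁻¹, hEC (hg v hv)⟩ = 1 := by
        apply Subtype.ext
        exact (hker _ (hg v hv)).2 fun f hf => (hne f hf v hv).symm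
      change ρ.rangeRestrict _ ∈ K
      rw [h1]; exact one_mem _
    -- the homomorphism `U → ρ.range`
    let ψ : U →* ρ.range :=
      { toFun := fun v => ρ.rangeRestrict ⟨g * v * g⁻¹, hEC (hg v v.2)⟩
        map_one' := by
          have h1 : (⟨g * ((1 : U) : G) * g⁻¹, hEC (hg _ (1 : U).2)⟩ : CC e) = 1 := by
            apply Subtype.ext
            change g * 1 * g⁻¹ = 1
            group
          rw [h1, map_one]
        map_mul' := fun a b => by
          rw [← map_mul]
          congr 1
          apply Subtype.ext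
          change g * (a * b : G) * g⁻¹ = g * a * g⁻¹ * (g * b * g⁻¹)
          group }
    have hψ : ∀ v : U, ψ v = ρ.rangeRestrict ⟨g * v * g⁻¹, hEC (hg v v.2)⟩ := fun v => rfl
    have hA : ψ.range ≤ K := by
      apply hK
      · rintro _ ⟨v, rfl⟩
        exact ⟨⟨g * v * g⁻¹, hg v v.2⟩, rfl⟩
      · -- the order
        have h1 : Nat.card (ψ.ker.map U.subtype) ≤ 2 := by
          apply h.toFrame.card_small (map_subtype_le _)
          rintro i j hij ⟨v, hv, hve⟩
          have hve' : (v : G) = e i j := hve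
          obtain ⟨f, hf, u, hu, hfu⟩ := hne
          apply hfu
          have h2 : ψ v = 1 := hv
          rw [hψ] at h2
          have h3 := (hker _ (hg v v.2)).1 (congrArg Subtype.val h2) f hf
          rw [hve'] at h3
          exact C.cent_of h hU hg hf hij h3.symm u hu
        rw [card_map_of_injective U.subtype_injective] at h1
        have h2 := ψ.ker.card_mul_index
        rw [Subgroup.index_ker, h.toFrame.card_U] at h2
        by_contra h3
        push Not at h3
        have h4 : Nat.card ψ.ker * Nat.card ψ.range ≤ 2 * 7 := Nat.mul_le_mul h1 (by omega)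
        omega
      · intro v
        obtain ⟨w, rfl⟩ := D.md.surj v
        by_cases hv : π w ∈ CS ρ.range.subtype ψ.range
        · exact Or.inl hv
        right
        set Kv : Subgroup U := (stb ρ.range.subtype (π w)).comap ψ with hKv
        have hmem : ∀ u : U, u ∈ Kv ↔ g * u * g⁻¹ * w * (g * u * g⁻¹)⁻¹ * (w : G)⁻¹ = 1 ∨
            g * u * g⁻¹ * w * (g * u * g⁻¹)⁻¹ * (w : G)⁻¹ = sg e 4 := by
          intro u
          rw [hKv, mem_comap, mem_stb, hψ, happ, D.fix_iff]
        have hxz : ∀ u : U, g * u * g⁻¹ * sg e 4 = sg e 4 * (g * u * g⁻¹) := fun u => C.z_comm (hg u u.2)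
        -- the homomorphism `u ↦ [u^g, w]`
        let χ : Kv →* zpowers (sg e 4) :=
          { toFun := fun u => ⟨g * (u : U) * g⁻¹ * w * (g * (u : U) * g⁻¹)⁻¹ * (w : G)⁻¹,
              (MinSimple.Geo.mem_zpowers_iff_of_mul_self h.z_sq).2 ((hmem u).1 u.2)⟩
            map_one' := by
              apply Subtype.ext
              change g * 1 * g⁻¹ * w * (g * 1 * g⁻¹)⁻¹ * (w : G)⁻¹ = 1
              group
            map_mul' := fun a b => by
              apply Subtype.ext
              change g * ((a : U) * (b : U) : G) * g⁻¹ * w * (g * ((a : U) * (b : U) : G) * g⁻¹)⁻¹ * (w : G)⁻¹ =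
                (g * (a : U) * g⁻¹ * w * (g * (a : U) * g⁻¹)⁻¹ * (w : G)⁻¹) *
                (g * (b : U) * g⁻¹ * w * (g * (b : U) * g⁻¹)⁻¹ * (w : G)⁻¹)
              set A : G := g * (a : U) * g⁻¹ with hA
              set B : G := g * (b : U) * g⁻¹ with hB
              have hAB : g * ((a : U) * (b : U) : G) * g⁻¹ = A * B := by rw [hA, hB]; group
              rw [hAB]
              have hBz : B * w * B⁻¹ * (w : G)⁻¹ = 1 ∨ B * w * B⁻¹ * (w : G)⁻¹ = sg e 4 := (hmem b).1 b.2
              have hAz : A * w * A⁻¹ * (w : G)⁻¹ = 1 ∨ A * w * A⁻¹ * (w : G)⁻¹ = sg e 4 := (hmem a).1 a.2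
              have e1 : A * B * w * (A * B)⁻¹ * (w : G)⁻¹ = A * (B * w * B⁻¹ * (w : G)⁻¹) * A⁻¹ * (A * w * A⁻¹ * (w : G)⁻¹) := by
                group
              rw [e1]
              rcases hBz with hb | hb
              · rw [hb]; group
              · rw [hb]
                have h3 : A * sg e 4 * A⁻¹ = sg e 4 := mul_inv_eq_iff_eq_mul.2 (hxz a)
                rw [h3]
                rcases hAz with ha | ha
                · rw [ha, mul_one, one_mul]
                · rw [ha] }
        have h1 : Nat.card (χ.ker.map Kv.subtype) ≤ 2 := by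
          have h2 : Nat.card ((χ.ker.map Kv.subtype).map U.subtype) ≤ 2 := by
            apply h.toFrame.card_small (map_subtype_le _)
            rintro i j hij ⟨_, ⟨v, hv', rfl⟩, hve⟩
            have hve' : ((v : U) : G) = e i j := hve
            apply hv
            rintro _ ⟨u, rfl⟩
            have h3 : χ v = 1 := hv'
            have h4 : g * ((v : U) : G) * g⁻¹ * w * (g * ((v : U) : G) * g⁻¹)⁻¹ * (w : G)⁻¹ = 1 :=
              congrArg Subtype.val h3
            rw [hve', mul_inv_eq_one, mul_inv_eq_iff_eq_mul] at h4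
            have h5 := C.cent_of h hU hg (hWF w.2) hij h4.symm u u.2
            rw [hψ, happ, D.fix_iff]
            left
            change g * (u : G) * g⁻¹ * w * (g * (u : G) * g⁻¹)⁻¹ * (w : G)⁻¹ = 1
            rw [← h5, mul_inv_cancel_right, mul_inv_cancel]
          rwa [card_map_of_injective U.subtype_injective] at h2
        rw [card_map_of_injective Kv.subtype_injective] at h1
        have h2 : Nat.card Kv ≤ 4 := by
          have h3 := χ.ker.card_mul_index
          rw [Subgroup.index_ker] at h3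
          have h4 : Nat.card χ.range ≤ 2 := by
            have h5 : Nat.card χ.range ≤ Nat.card (zpowers (sg e 4)) := Subgroup.card_le_card_group _
            rw [T1CIT.card_zpowers_two h.z_sq h.z_ne] at h5
            exact h5
          calc Nat.card Kv = Nat.card χ.ker * Nat.card χ.range := h3.symm
            _ ≤ 2 * 2 := Nat.mul_le_mul h1 h4
        -- comparison
        have h3 : ψ.range ⊓ stb ρ.range.subtype (π w) = Kv.map ψ := by
          ext t
          rw [mem_inf, mem_map]
          constructor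
          · rintro ⟨⟨u, rfl⟩, ht⟩
            exact ⟨u, ht, rfl⟩
          · rintro ⟨u, hu, rfl⟩
            exact ⟨⟨u, rfl⟩, hu⟩
        have h4 : Nat.card (Kv.map ψ) * Nat.card ψ.ker = Nat.card Kv := by
          have h5 := Subgroup.card_mul_index (ψ.comp Kv.subtype).ker
          rw [Subgroup.index_ker] at h5
          have h6 : (ψ.comp Kv.subtype).range = Kv.map ψ := by
            ext t
            constructor
            · rintro ⟨u, rfl⟩
              exact ⟨u, u.2, rfl⟩
            · rintro ⟨u, hu, rfl⟩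
              exact ⟨⟨u, hu⟩, rfl⟩
          have h7 : Nat.card (ψ.comp Kv.subtype).ker = Nat.card ψ.ker := by
            refine Nat.card_congr ⟨fun u => ⟨u.1.1, u.2⟩, fun u => ⟨⟨u.1, ?_⟩, u.2⟩, fun u => rfl, fun u => rfl⟩
            have h8 : ψ u.1 = 1 := u.2
            rw [hKv, mem_comap, h8]
            exact one_mem _
          rw [h6, h7] at h5
          rw [mul_comm]; exact h5
        have h5 := ψ.ker.card_mul_index
        rw [Subgroup.index_ker, h.toFrame.card_U] at h5
        rw [h3]
        have h6 : 0 < Nat.card ψ.ker := Nat.card_pos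
        refine Nat.le_of_mul_le_mul_left (?_ : Nat.card ψ.ker * _ ≤ Nat.card ψ.ker * _) h6
        calc Nat.card ψ.ker * (4 * Nat.card (Kv.map ψ)) = 4 * (Nat.card (Kv.map ψ) * Nat.card ψ.ker) := by ring
          _ ≤ 4 * 4 := by rw [h4]; omega
          _ = Nat.card ψ.ker * Nat.card ψ.range := by rw [h5]
    intro v hv
    exact ⟨⟨g * v * g⁻¹, hEC (hg v hv)⟩, hA ⟨⟨v, hv⟩, rfl⟩, rfl⟩

end Dat

end Cfsg.Agent.OddCyclic.Om5
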