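import Cfsg.Agent.OddCyclic.Om5BPsl
import Cfsg.Agent.OddCyclic.Om5Frm
import Cfsg.Agent.OddCyclic.Om5End
import Cfsg.Agent.OddCyclic.Om5OffB
import Cfsg.Agent.OddCyclic.FFSec

/-!
# (Omega5) is impossible

Section 6 of blueprints/S0342-C2-reduction-helper213.md: a subgroup `U` of order 16 with `N_G(U)/C_G(U) = S₅`
acting on `U` as on the even subsets of `{1,…,5}` in the situation `Om5.Sit` does not exist.
-/

set_option autoImplicit false
set_option linter.unusedSectionVars false

namespace Cfsg.Agent.OddCyclic.Om5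

open Subgroup Matrix Cfsg Cfsg.Agent.ZN
open Cfsg.Agent.OddCyclic.T1Defs (OddCyc)
open Cfsg.Agent.OddCyclic.PumpMain (KZero)
open Cfsg.Agent.OddCyclic.FFBasic Cfsg.Agent.OddCyclic.T1Module Cfsg.Agent.OddCyclic.FFRed

section abs

variable {X V : Type*} [Group X] [CommGroup V] {ρ : X →* MulAut V} {T : Sylow 2 X} {Λ : Subgroup V} {x s : X} {μ : V}
  {a : X}

/-- **the case `U ≰ O₂(C_G(z))`** -/
theorem Inv.false_of_lam [Finite X] [Finite V] (hc : OddCyc X)
    (hk : ∀ J : Subgroup X, IsSimpleGroup J → (∃ x y : J, x * y ≠ y * x) → KZero J)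
    (hV : ∀ v : V, v * v = 1) (hρ : Function.Injective ρ) (h : Lam ρ T Λ x s μ) (I : Inv ρ T Λ x a)
    {f : V → V → ZMod 2} (hf : Frm ρ f) : False := by
  have h2 : pCore 2 X = ⊥ := by
    rw [Cfsg.Agent.Lib.Cores.pCore_def, eq_bot_iff]
    exact sSup_le fun D hD => (h.o2 hρ D hD.1 hD.2).le
  by_cases hF : ∀ z ∈ fittingSubgroup X, a * z = z * a
  · by_cases hK : ∀ K : Subgroup X, IsComponent K → a ∈ centralizer (K : Set X)
    · exact I.ne (FFStruct.eq_one_of_centralizes h2 I.sq hF hK)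
    · push Not at hK
      obtain ⟨L, hL, hna⟩ := hK
      have hLn : L.Normal := FFStruct.component_normal hc hL
      have hs : IsSimpleGroup L := FFStruct.simple_component hc h2 hL
      have hKz : KZero L := by
        refine hk L hs ?_
        by_contra hcon
        push Not at hcon
        exact Cfsg.Agent.SignalizersComponents.Components.quasisimple_not_isMulCommutative hL.2 ⟨⟨hcon⟩⟩
      rcases hKz with ⟨F, _, _, hp, h5, ⟨e⟩⟩ | ⟨F, _, _, f, hf, hF, ⟨e⟩⟩ | hSz | ⟨hJ, k, hk⟩
      · have hodd : Odd (Fintype.card F) := hp.odd_of_ne_two (by omega)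
        by_cases h5' : Fintype.card F = 5
        · obtain ⟨K, _, _, _, hK4, ⟨e'⟩⟩ := T1Socle.exists_four h5'
          exact I.false_of_sl2 hc h (F := K) (e.trans e').symm hna
        · have h7 : 7 ≤ Fintype.card F := by
            have h6 : Fintype.card F ≠ 6 := by
              intro h6
              rw [h6] at hp
              revert hp
              norm_num
            omega
          have R := Cfsg.Agent.GH.L2Aut.Rep.ofEquiv (Cfsg.Agent.GH.L2Aut.two_ne_zero_of_odd hodd) e
          exact I.false_of_psl hc hV hρ h R (by rw [Nat.card_eq_fintype_card]; exact hp)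
            (by rw [Nat.card_eq_fintype_card]; exact h7) hna
      · have hch : CharP F 2 := by
          have hch := ringChar.charP F
          have h1 : ringChar F ∣ 2 ^ f := by
            rw [← hF, ← CharP.cast_eq_zero_iff F (ringChar F), Nat.cast_card_eq_zero]
          have h2 : (ringChar F).Prime := CharP.char_is_prime F (ringChar F)
          have h3 : ringChar F = 2 := (Nat.prime_dvd_prime_iff_eq h2 Nat.prime_two).1 (h2.dvd_of_dvd_pow h1)
          rwa [h3] at hch
        obtain ⟨g⟩ := WeakTI.PslTwo.nonempty_equiv (F := F)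
        exact I.false_of_sl2 hc h (g.trans e.symm) hna
      · exact I.false_of_sz hV hρ h hSz hna
      · exact I.false_of_j1 hV hρ h hJ hk hna
  · push Not at hF
    obtain ⟨z, hz, hza⟩ := hF
    obtain ⟨r, y, hr, hr2, -, hy, hyn, hay, hay'⟩ := FFStruct.exists_inverted hc h2 I.sq hz hza
    exact I.false_of_fitting hc hV hρ h hf hr hr2 hy hyn hay hay'

end abs

universe u

variable {G : Type u} [Group G] [Finite G] {S M U : Subgroup G} {φ : M →* Equiv.Perm (Fin 5)} {e : Fin 5 → Fin 5 → G}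

/-- the common part of the two applications: `hnn` excludes `SL₂(q)`, `q ≥ 8`, with the natural module -/
theorem Sit0.false_of (h : Sit0 S M U φ e) {s₀ : M} (hs₀S : (s₀ : G) ∈ S) (hφs : φ s₀ = Equiv.swap 0 1)
    (hk : ∀ (V : Type u) [CommGroup V] (ρ : CC e →* MulAut V) (J : Subgroup ρ.range), IsSimpleGroup J →
      (∃ x y : J, x * y ≠ y * x) → KZero J)
    (hnn : U ≤ o2 (CC e) → ∀ (V : Type u) [CommGroup V] [Finite V] (π : WW e →* V) (ρ : CC e →* MulAut V)
      (T : Sylow 2 ρ.range) (Λ : Subgroup V) (x s : ρ.range) (μ : V), Dat h π ρ T Λ x s μ →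
      ((s₀ : G) * s₀ = 1 → s * s = 1) → OddCyc ρ.range → NoNat ρ.range.subtype) : False := by
  have hcX : ∀ (V : Type u) [CommGroup V] (ρ : CC e →* MulAut V), OddCyc ρ.range := fun V _ ρ =>
    T1Structure.oddCyc_of_surjective
      (T1Structure.oddCyc_of_injective h.cyc (CC e).subtype (CC e).subtype_injective) ρ.rangeRestrict
      ρ.rangeRestrict_surjective
  by_cases hU : U ≤ o2 (CC e)
  · obtain ⟨E, C⟩ := h.exists_crit hU
    obtain ⟨V, _, _, π, ρ, T, Λ, x, s, μ, D, hss⟩ := h.exists_dat (hU (h.mem 0 1)) hs₀S hφs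
    obtain ⟨F, hF⟩ := D.exists_off hU C
    exact hF.false_of_lam (hcX V ρ) (hk V ρ) D.md.sq (Subgroup.subtype_injective _) D.lam
      (hnn hU V π ρ T Λ x s μ D hss (hcX V ρ))
  · obtain ⟨V, _, _, π, ρ, T, Λ, x, s, μ, D, -⟩ := h.exists_dat (h.e_mem_o2 hU).1 hs₀S hφs
    obtain ⟨a, I⟩ := D.exists_a hU
    obtain ⟨f, hf⟩ := D.exists_frm hU
    exact I.false_of_lam (hcX V ρ) (hk V ρ) D.md.sq (Subgroup.subtype_injective _) D.lam hf

/-- **(Omega5) is impossible**: `hk`: the simple nonabelian subgroups of the homomorphic images of `C_G(z)` are in the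
list `KZero` -/
theorem false_of_sit (h : Sit S M U φ e)
    (hk : ∀ (V : Type u) [CommGroup V] (ρ : CC e →* MulAut V) (J : Subgroup ρ.range), IsSimpleGroup J →
      (∃ x y : J, x * y ≠ y * x) → KZero J) : False := by
  obtain ⟨s₀, hs₀S, hs₀2, hφs⟩ := h.inv
  refine h.toSit0.false_of hs₀S hφs hk ?_
  intro _ V _ _ π ρ T Λ x s μ D hss hc L hL F _ _ _ h8 e₀ hN
  exact D.lam.false_of_nat hc D.md.sq (Subgroup.subtype_injective _) (hss hs₀2) h8 e₀ hN

/-- `C_G(z) ≠ G` -/
theorem Sit0.CC_ne_top (h : Sit0 S M U φ e) : CC e ≠ ⊤ := by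
  intro htop
  have hz : sg e 4 * sg e 4 = 1 := h.z_sq
  have hc : ∀ g : G, g * sg e 4 = sg e 4 * g := fun g => Sit0.mem_CC.1 (by rw [htop]; exact mem_top g)
  have hn : ∀ K : Subgroup G, K ≤ normalizer ((zpowers (sg e 4) : Subgroup G) : Set G) := by
    intro K g _
    apply centralizer_le_normalizer
    rw [mem_centralizer_iff]
    rintro _ ⟨k, rfl⟩
    exact (Commute.zpow_right (hc g) k).symm
  have h2 : IsPGroup 2 (zpowers (sg e 4)) := by
    rintro ⟨_, k, rfl⟩
    refine ⟨1, Subtype.ext ?_⟩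
    change (sg e 4 ^ k) ^ 2 ^ 1 = 1
    rw [pow_one, pow_two, ← _root_.zpow_add, ← two_mul, _root_.zpow_mul]
    have : sg e 4 ^ (2 : ℤ) = 1 := by rw [zpow_two, hz]
    rw [this, _root_.one_zpow]
  have h3 := h.nonlocal (zpowers (sg e 4)) h2 (hn _) (hn _)
  rw [zpowers_eq_bot] at h3
  exact h.z_ne h3

/-- `C_G(z) ≠ G` -/
theorem CC_ne_top (h : Sit S M U φ e) : CC e ≠ ⊤ := h.toSit0.CC_ne_top

/-- **(Omega5) is impossible**, in a group all of whose proper sections are in the list -/
theorem false_of_secZero (h : Sit S M U φ e) (hsec : CompStart.SecZero G) : False :=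
  false_of_sit h fun _ _ ρ J hJ hab =>
    FFSec.kzero_of_image hsec (CC_ne_top h) ρ.rangeRestrict ρ.rangeRestrict_surjective J hJ hab

end Cfsg.Agent.OddCyclic.Om5
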