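import Cfsg.Agent.OddCyclic.Om5Mod
import Cfsg.Agent.OddCyclic.T1Tools
import Cfsg.Agent.MinSimple.VModule

/-!
# (Omega5): conjugates of `U`

* `not_conj`: the nonsingular vectors are not conjugate to the singular ones;
* `mem_of_conj_mem`: `e i j ∈ U^g` only for `g ∈ M`;
* `comm_conj`: `U^g ≤ M` implies `[U, U^g] = 1`;
* `gen_inf`, `gen_comm`: a commutative subgroup `D` generated by conjugates of `U`, normalised by `U` and not centralised
  by `U`, contains no nonsingular vector, and `f ∈ D` centralises `U` if it centralises one nonsingular vector.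
-/

set_option autoImplicit false
set_option linter.unusedSectionVars false

namespace Cfsg.Agent.OddCyclic.Om5

open Subgroup Cfsg Cfsg.Agent.ZN
open Cfsg.Agent.LieExceptional.CITDefs (IsSyl2)

universe u

variable {G : Type u} [Group G] [Finite G] {S M U : Subgroup G} {φ : M →* Equiv.Perm (Fin 5)}
  {e : Fin 5 → Fin 5 → G}

theorem card_even : Nat.card {v : Fin 5 → ZMod 2 // v 0 + v 1 + v 2 + v 3 + v 4 = 0} = 16 := by
  rw [Nat.card_eq_fintype_card]
  decide +kernel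

namespace Frame

theorem card_U (h : Frame M U φ e) : Nat.card U = 16 := by
  rw [← card_even]
  refine (Nat.card_congr (Equiv.ofBijective (fun v : {v : Fin 5 → ZMod 2 // v 0 + v 1 + v 2 + v 3 + v 4 = 0} =>
    (⟨vw h v.1, h.vw_mem _⟩ : U)) ⟨fun v v' hvv => ?_, fun x => ?_⟩)).symm
  · exact Subtype.ext (h.vw_inj v.2 v'.2 (congrArg Subtype.val hvv))
  · obtain ⟨v, hv, hx⟩ := h.exists_vec x.2
    exact ⟨⟨v, hv⟩, Subtype.ext hx.symm⟩

/-- a subgroup of `U` without nonsingular vectors has at most one nontrivial element -/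
theorem small (h : Frame M U φ e) {K : Subgroup G} (hK : K ≤ U) (hn : ∀ i j, i ≠ j → e i j ∉ K) :
    ∃ i, ∀ x ∈ K, x = 1 ∨ x = sg e i := by
  by_cases h0 : ∃ x ∈ K, x ≠ 1
  · obtain ⟨x, hx, hx1⟩ := h0
    rcases h.cls (hK hx) with h1 | ⟨i, j, hij, h1⟩ | ⟨i, h1⟩
    · exact absurd h1 hx1
    · rw [h1] at hx
      exact absurd hx (hn i j hij)
    · refine ⟨i, fun y hy => ?_⟩
      rcases h.cls (hK hy) with h2 | ⟨k, l, hkl, h2⟩ | ⟨k, h2⟩
      · exact Or.inl h2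
      · rw [h2] at hy
        exact absurd hy (hn k l hkl)
      · by_cases hik : k = i
        · right; rw [h2, hik]
        · exfalso
          have h3 := mul_mem hy hx
          rw [h1, h2, h.sg_mul] at h3
          exact hn k i hik h3
  · push Not at h0
    exact ⟨0, fun x hx => Or.inl (h0 x hx)⟩

theorem card_small (h : Frame M U φ e) {K : Subgroup G} (hK : K ≤ U) (hn : ∀ i j, i ≠ j → e i j ∉ K) :
    Nat.card K ≤ 2 := by
  obtain ⟨i, hi⟩ := h.small hK hn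
  have h1 : Nat.card K ≤ Nat.card ({1, sg e i} : Set G) := by
    refine Nat.card_le_card_of_injective (fun x : K => (⟨x.1, by
      rcases hi x.1 x.2 with h2 | h2
      · left; exact h2
      · right; exact h2⟩ : ({1, sg e i} : Set G))) fun x y hxy => ?_
    have h3 : (x : G) = y := congrArg (fun t : ({1, sg e i} : Set G) => (t : G)) hxy
    exact Subtype.ext h3
  refine h1.trans ?_
  rw [Nat.card_coe_set_eq]
  exact (Set.ncard_insert_le _ _).trans (by rw [Set.ncard_singleton])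

theorem mem_conj (h : Frame M U φ e) {m : G} (hm : m ∈ M) {x : G} (hx : x ∈ U) : m * x * m⁻¹ ∈ U := by
  rw [h.norm] at hm
  exact (mem_normalizer_iff.1 hm x).1 hx

theorem mem_iff (h : Frame M U φ e) {m : G} (hm : ∀ x ∈ U, m * x * m⁻¹ ∈ U) : m ∈ M := by
  rw [h.norm]
  refine MinSimple.VModule.mem_normalizer_of_map_le ?_
  rintro _ ⟨x, hx, rfl⟩
  exact hm x hx

end Frame

/-- the image of the Sylow 2-subgroup in `S₅` does not fix a pair -/
theorem perm_card : ∀ k l : Fin 5, k ≠ l →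
    (Finset.univ.filter fun π : Equiv.Perm (Fin 5) => π 4 = 4 ∧ ((π k = k ∧ π l = l) ∨ (π k = l ∧ π l = k))).card ≤ 6 := by
  decide +kernel

theorem exists_perm {i j k l : Fin 5} (hij : i ≠ j) (hkl : k ≠ l) : ∃ π : Equiv.Perm (Fin 5), π i = k ∧ π j = l := by
  refine ⟨Equiv.swap (Equiv.swap i k j) l * Equiv.swap i k, ?_, ?_⟩
  · rw [Equiv.Perm.mul_apply, Equiv.swap_apply_left]
    refine Equiv.swap_apply_of_ne_of_ne ?_ hkl
    intro h1
    apply hij
    apply (Equiv.swap i k).injective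
    rw [Equiv.swap_apply_left, ← h1]
  · rw [Equiv.Perm.mul_apply, Equiv.swap_apply_left]

theorem exists_perm_one (i k : Fin 5) : ∃ π : Equiv.Perm (Fin 5), π i = k := ⟨Equiv.swap i k, Equiv.swap_apply_left i k⟩

theorem dl_pair : ∀ a b c d : Fin 5, a ≠ b → dl a + dl b = dl c + dl d → (a = c ∧ b = d) ∨ (a = d ∧ b = c) := by
  decide +kernel

theorem Frame.e_inj {G : Type u} [Group G] {M U : Subgroup G} {φ : M →* Equiv.Perm (Fin 5)}
    {e : Fin 5 → Fin 5 → G} (h : Frame M U φ e) {a b c d : Fin 5} (hab : a ≠ b) (h1 : e a b = e c d) :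
    (a = c ∧ b = d) ∨ (a = d ∧ b = c) := by
  rw [← h.vw_two, ← h.vw_two] at h1
  exact dl_pair _ _ _ _ hab (h.vw_inj (dl_two _ _) (dl_two _ _) h1)

namespace Sit0

theorem z_mem (h : Sit0 S M U φ e) : sg e 4 ∈ U := h.toFrame.sg_mem 4

theorem fix' (h : Sit0 S M U φ e) {s : G} (hs : s ∈ S) : s * sg e 4 = sg e 4 * s := h.fix s hs

theorem phi_fix (h : Sit0 S M U φ e) {s : M} (hs : (s : G) ∈ S) : φ s 4 = 4 := by
  have h1 := h.toFrame.conj_sg s 4
  rw [h.fix' hs, mul_inv_cancel_right] at h1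
  exact (h.toFrame.sg_inj h1).symm

theorem eight_dvd (h : Sit0 S M U φ e) : 8 ∣ Nat.card ((S.subgroupOf M).map φ) := by
  have : Fact (Nat.Prime 2) := ⟨Nat.prime_two⟩
  have h1 : IsSyl2 M S := T1Tools.isSyl2_of_le h.syl h.le
  have h2 : ¬ 2 ∣ (S.subgroupOf M).index :=
    (Cfsg.Agent.LieExceptional.CITBasic.IsSyl2.toSylow h1).not_dvd_index
  have h3 : ((S.subgroupOf M).map φ).index ∣ (S.subgroupOf M).index := (S.subgroupOf M).index_map_dvd h.surj
  have h4 := ((S.subgroupOf M).map φ).card_mul_index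
  rw [Nat.card_eq_fintype_card (α := Equiv.Perm (Fin 5)), Fintype.card_perm, Fintype.card_fin] at h4
  have h5 : (2 ^ 3).Coprime ((S.subgroupOf M).map φ).index := by
    refine Nat.Coprime.pow_left 3 ?_
    exact (Nat.Prime.coprime_iff_not_dvd Nat.prime_two).2 fun h6 => h2 (h6.trans h3)
  refine (h5.dvd_mul_right).1 ?_
  rw [h4]
  decide

/-- nonsingular vectors are not conjugate to singular vectors -/
theorem not_conj (h : Sit0 S M U φ e) {i j k : Fin 5} (hij : i ≠ j) (g : G) : g * e i j * g⁻¹ ≠ sg e k := by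
  have : Fact (Nat.Prime 2) := ⟨Nat.prime_two⟩
  -- the special case
  have key : ∀ g : G, g * e 0 1 * g⁻¹ ≠ sg e 4 := by
    intro g hg
    have h1 : S.map (MulAut.conj g⁻¹).toMonoidHom ≤ centralizer ({e 0 1} : Set G) := by
      rintro _ ⟨s, hs, rfl⟩
      rw [mem_centralizer_singleton_iff]
      change g⁻¹ * s * g⁻¹⁻¹ * e 0 1 = e 0 1 * (g⁻¹ * s * g⁻¹⁻¹)
      have h2 := h.fix' hs
      rw [← hg] at h2
      calc g⁻¹ * s * g⁻¹⁻¹ * e 0 1 = g⁻¹ * (s * (g * e 0 1 * g⁻¹)) * g := by group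
        _ = _ := by rw [h2]; group
    have h2 := T1Tools.isSyl2_map h.syl g⁻¹ (h1.trans h.cent)
    have h3 := T1Tools.isSyl2_of_le h.syl h.le
    obtain ⟨m, hm, hmm⟩ := Cfsg.Agent.LieExceptional.CITBasic.IsSyl2.conj h3 h2
    obtain ⟨k, hk⟩ : ∃ k, φ ⟨m, hm⟩ k = 0 := ⟨(φ ⟨m, hm⟩).symm 0, (φ ⟨m, hm⟩).apply_symm_apply 0⟩
    obtain ⟨l, hl⟩ : ∃ l, φ ⟨m, hm⟩ l = 1 := ⟨(φ ⟨m, hm⟩).symm 1, (φ ⟨m, hm⟩).apply_symm_apply 1⟩
    have hkl : k ≠ l := by
      rintro rfl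
      rw [hk] at hl
      exact absurd hl (by decide)
    have h4 : m * e k l * m⁻¹ = e 0 1 := by
      have := h.conj ⟨m, hm⟩ k l
      rwa [hk, hl] at this
    -- `S` centralises `e k l`
    have h5 : ∀ s ∈ S, s * e k l * s⁻¹ = e k l := by
      intro s hs
      have h6 : m * s * m⁻¹ ∈ S.map (MulAut.conj g⁻¹).toMonoidHom := by rw [hmm]; exact ⟨s, hs, rfl⟩
      have h7 := mem_centralizer_singleton_iff.1 (h1 h6)
      rw [← h4] at h7
      have h8 : m * (s * e k l) * m⁻¹ = m * (e k l * s) * m⁻¹ := by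
        calc m * (s * e k l) * m⁻¹ = m * s * m⁻¹ * (m * e k l * m⁻¹) := by group
          _ = m * e k l * m⁻¹ * (m * s * m⁻¹) := h7
          _ = _ := by group
      have h9 := mul_left_cancel (mul_right_cancel h8)
      rw [h9, mul_inv_cancel_right]
    have h6 : ∀ π ∈ (S.subgroupOf M).map φ, π 4 = 4 ∧ ((π k = k ∧ π l = l) ∨ (π k = l ∧ π l = k)) := by
      rintro _ ⟨s, hs, rfl⟩
      rw [SetLike.mem_coe, mem_subgroupOf] at hs
      refine ⟨h.phi_fix hs, ?_⟩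
      have h7 := h5 s hs
      rw [h.conj] at h7
      exact h.toFrame.e_inj (fun h8 => hkl ((φ s).injective h8)) h7
    have h7 : Nat.card ((S.subgroupOf M).map φ) ≤ 6 := by
      refine le_trans ?_ (perm_card k l hkl)
      rw [← Set.ncard_coe_finset, ← SetLike.coe_sort_coe, Nat.card_coe_set_eq]
      refine Set.ncard_le_ncard (fun π hπ => ?_) (Set.toFinite _)
      rw [Finset.mem_coe, Finset.mem_filter]
      exact ⟨Finset.mem_univ _, h6 π hπ⟩
    have h8 := Nat.le_of_dvd Nat.card_pos h.eight_dvd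
    omega
  intro hg
  obtain ⟨π, hπ, hπ'⟩ := exists_perm (show (0 : Fin 5) ≠ 1 by decide) hij
  obtain ⟨m, rfl⟩ := h.surj π
  obtain ⟨π', hπ2⟩ := exists_perm_one k 4
  obtain ⟨m', rfl⟩ := h.surj π'
  refine key ((m' : G) * g * m) ?_
  have h1 := h.conj m 0 1
  rw [hπ, hπ'] at h1
  have h2 := h.toFrame.conj_sg m' k
  rw [hπ2, ← hg, ← h1] at h2
  rw [← h2]
  group

theorem cent_e (h : Sit0 S M U φ e) {i j : Fin 5} (hij : i ≠ j) {x : G} (hx : x * e i j = e i j * x) : x ∈ M := by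
  obtain ⟨π, hπ, hπ'⟩ := exists_perm (show (0 : Fin 5) ≠ 1 by decide) hij
  obtain ⟨m, rfl⟩ := h.surj π
  have h1 := h.conj m 0 1
  rw [hπ, hπ'] at h1
  have h2 : (m : G)⁻¹ * x * m ∈ M := by
    apply h.cent
    rw [mem_centralizer_singleton_iff]
    rw [← h1] at hx
    calc (m : G)⁻¹ * x * m * e 0 1 = (m : G)⁻¹ * (x * ((m : G) * e 0 1 * (m : G)⁻¹)) * m := by group
      _ = _ := by rw [hx]; group
  have h3 := mul_mem (mul_mem m.2 h2) (inv_mem m.2)
  have h4 : (m : G) * ((m : G)⁻¹ * x * m) * (m : G)⁻¹ = x := by group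
  rwa [h4] at h3

theorem mem_of_conj_mem (h : Sit0 S M U φ e) {i j : Fin 5} (hij : i ≠ j) {g : G} (hg : g * e i j * g⁻¹ ∈ U) :
    g ∈ M := by
  rcases h.toFrame.cls hg with h1 | ⟨k, l, hkl, h1⟩ | ⟨k, h1⟩
  · exfalso
    apply h.ne i j hij
    rwa [mul_inv_eq_one, mul_eq_left] at h1
  · obtain ⟨π, hπ, hπ'⟩ := exists_perm hkl hij
    obtain ⟨m, rfl⟩ := h.surj π
    have h2 := h.conj m k l
    rw [hπ, hπ', ← h1] at h2
    have h3 : (m : G) * g ∈ M := by
      apply h.cent_e hij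
      have h4 : (m : G) * g * e i j * ((m : G) * g)⁻¹ = e i j := by
        calc (m : G) * g * e i j * ((m : G) * g)⁻¹ = (m : G) * (g * e i j * g⁻¹) * (m : G)⁻¹ := by group
          _ = e i j := h2
      exact mul_inv_eq_iff_eq_mul.1 h4
    have h4 := mul_mem (inv_mem m.2) h3
    rwa [inv_mul_cancel_left] at h4
  · exact absurd h1 (h.not_conj hij g)

theorem mem_of_conj_eq (h : Sit0 S M U φ e) {i j : Fin 5} (hij : i ≠ j) {g v : G} (hv : v ∈ U)
    (hg : g * v * g⁻¹ = e i j) : g ∈ M := by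
  have h1 : g⁻¹ * e i j * g⁻¹⁻¹ ∈ U := by
    rw [← hg]
    have h2 : g⁻¹ * (g * v * g⁻¹) * g⁻¹⁻¹ = v := by group
    rwa [h2]
  have h2 := inv_mem (h.mem_of_conj_mem hij h1)
  rwa [inv_inv] at h2

end Sit0

/-- if no commutator `[m, x]`, `x ∈ U`, is a nonsingular vector then `m` centralises `U` -/
theorem Frame.trivial_crit (h : Frame M U φ e) {m : M}
    (hm : ∀ x ∈ U, ∀ i j, i ≠ j → (m : G) * x * (m : G)⁻¹ * x⁻¹ ≠ e i j) : φ m = 1 := by
  let K : Subgroup G :=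
    { carrier := {y | ∃ x ∈ U, y = (m : G) * x * (m : G)⁻¹ * x⁻¹}
      mul_mem' := by
        rintro a b ⟨x, hx, rfl⟩ ⟨y, hy, rfl⟩
        refine ⟨x * y, mul_mem hx hy, ?_⟩
        have h1 : x⁻¹ * ((m : G) * y * (m : G)⁻¹) = ((m : G) * y * (m : G)⁻¹) * x⁻¹ :=
          h.comm (inv_mem hx) (h.mem_conj m.2 hy)
        have h2 : y⁻¹ * x⁻¹ = x⁻¹ * y⁻¹ := h.comm (inv_mem hy) (inv_mem hx)
        calc (m : G) * x * (m : G)⁻¹ * x⁻¹ * ((m : G) * y * (m : G)⁻¹ * y⁻¹)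
            = (m : G) * x * (m : G)⁻¹ * (x⁻¹ * ((m : G) * y * (m : G)⁻¹)) * y⁻¹ := by group
          _ = (m : G) * x * (m : G)⁻¹ * (((m : G) * y * (m : G)⁻¹) * x⁻¹) * y⁻¹ := by rw [h1]
          _ = (m : G) * (x * y) * (m : G)⁻¹ * (x⁻¹ * y⁻¹) := by group
          _ = (m : G) * (x * y) * (m : G)⁻¹ * (x * y)⁻¹ := by rw [← h2, mul_inv_rev]
      one_mem' := ⟨1, one_mem _, by group⟩
      inv_mem' := by
        rintro a ⟨x, hx, rfl⟩
        refine ⟨x⁻¹, inv_mem hx, ?_⟩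
        have h1 : x * ((m : G) * x⁻¹ * (m : G)⁻¹) = ((m : G) * x⁻¹ * (m : G)⁻¹) * x :=
          h.comm hx (h.mem_conj m.2 (inv_mem hx))
        calc ((m : G) * x * (m : G)⁻¹ * x⁻¹)⁻¹ = x * ((m : G) * x⁻¹ * (m : G)⁻¹) := by group
          _ = _ := by rw [h1, inv_inv] }
  have hK : K ≤ U := by
    rintro _ ⟨x, hx, rfl⟩
    exact mul_mem (h.mem_conj m.2 hx) (inv_mem hx)
  obtain ⟨i, hi⟩ := h.small hK (by
    rintro i j hij ⟨x, hx, hxx⟩
    exact hm x hx i j hij hxx.symm)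
  apply h.trivial_of (i := i)
  intro x hx
  rcases hi _ ⟨x, hx, rfl⟩ with h1 | h1
  · left
    exact mul_inv_eq_one.1 h1
  · right
    rw [mul_inv_eq_iff_eq_mul] at h1
    rw [h1]
    exact h.comm (h.sg_mem i) hx

/-- an elementary abelian 2-subgroup of `S₅` has order at most 4 -/
theorem perm_elem {I : Subgroup (Equiv.Perm (Fin 5))} (hI : ∀ x ∈ I, x * x = 1) : Nat.card I ≤ 4 := by
  have : Fact (Nat.Prime 2) := ⟨Nat.prime_two⟩
  have hp : IsPGroup 2 I := fun x => ⟨1, by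
    apply Subtype.ext
    change (x : Equiv.Perm (Fin 5)) ^ 2 ^ 1 = 1
    rw [pow_one, sq]
    exact hI x x.2⟩
  obtain ⟨n, hn⟩ := hp.exists_card_eq
  have h4 := I.card_mul_index
  have h120 : Nat.card (Equiv.Perm (Fin 5)) = 120 := by
    rw [Nat.card_eq_fintype_card, Fintype.card_perm, Fintype.card_fin]; rfl
  rw [h120, hn] at h4
  have h5 : n < 4 := by
    by_contra h6
    push Not at h6
    have h7 : 2 ^ 4 ∣ 2 ^ n := pow_dvd_pow 2 h6
    have h8 : 2 ^ 4 ∣ 120 := by rw [← h4]; exact h7.mul_right _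
    exact absurd h8 (by decide)
  rcases Nat.lt_or_ge n 3 with h6 | h6
  · rw [hn]
    calc 2 ^ n ≤ 2 ^ 2 := Nat.pow_le_pow_right (by norm_num) (by omega)
      _ = 4 := by norm_num
  · exfalso
    have h7 : n = 3 := by omega
    subst h7
    have h8 : I.index = 15 := by omega
    have h9 : ¬ 2 ∣ I.index := by rw [h8]; decide
    set c : Equiv.Perm (Fin 5) := Equiv.swap 0 1 * Equiv.swap 1 2 * Equiv.swap 2 3 with hc
    have hc4 : c ^ 4 = 1 := by rw [hc]; decide +kernel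
    have hc2 : c * c ≠ 1 := by rw [hc]; decide +kernel
    have hz : IsPGroup 2 (zpowers c) := by
      apply IsPGroup.of_card (n := 2)
      rw [Nat.card_zpowers]
      refine orderOf_eq_prime_pow (p := 2) (n := 1) ?_ ?_
      · rw [pow_one, sq]; exact hc2
      · exact hc4
    obtain ⟨P, hP⟩ := hz.exists_le_sylow
    obtain ⟨g, hg⟩ := MulAction.exists_smul_eq (Equiv.Perm (Fin 5)) P (hp.toSylow h9)
    have h10 : g * c * g⁻¹ ∈ (hp.toSylow h9 : Subgroup _) := by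
      rw [← hg]
      exact ⟨c, hP (mem_zpowers c), rfl⟩
    have h11 := hI _ h10
    apply hc2
    have h12 : g * (c * c) * g⁻¹ = 1 := by rw [← h11]; group
    rwa [mul_inv_eq_one, mul_eq_left] at h12

namespace Sit0

/-- (6.1) -/
theorem comm_conj (h : Sit0 S M U φ e) {g : G} (hg : ∀ v ∈ U, g * v * g⁻¹ ∈ M) :
    ∀ u ∈ U, ∀ v ∈ U, u * (g * v * g⁻¹) = g * v * g⁻¹ * u := by
  by_cases hgM : g ∈ M
  · intro u hu v hv
    exact h.toFrame.comm hu (h.toFrame.mem_conj hgM hv)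
  let ψ : U →* Equiv.Perm (Fin 5) := φ.comp
    { toFun := fun v => ⟨g * v * g⁻¹, hg v v.2⟩
      map_one' := by apply Subtype.ext; change g * 1 * g⁻¹ = 1; group
      map_mul' := fun a b => by
        apply Subtype.ext
        change g * (a * b : G) * g⁻¹ = g * a * g⁻¹ * (g * b * g⁻¹)
        group }
  have hψ : ∀ v : U, ψ v = φ ⟨g * v * g⁻¹, hg v v.2⟩ := fun v => rfl
  have h1 : Nat.card ψ.range ≤ 4 := by
    apply perm_elem
    rintro _ ⟨v, rfl⟩
    rw [← map_mul]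
    have h2 : v * v = 1 := Subtype.ext (h.sq v v.2)
    rw [h2, map_one]
  have h2 : 4 ≤ Nat.card ψ.ker := by
    have h3 := ψ.ker.card_mul_index
    rw [Subgroup.index_ker, h.toFrame.card_U] at h3
    by_contra h4
    push Not at h4
    have h5 : Nat.card ψ.ker * Nat.card ψ.range ≤ 3 * 4 := Nat.mul_le_mul (by omega) h1
    omega
  obtain ⟨i, j, hij, hmem⟩ : ∃ i j, i ≠ j ∧ e i j ∈ ψ.ker.map U.subtype := by
    by_contra hcon
    push Not at hcon
    have h3 := h.toFrame.card_small (K := ψ.ker.map U.subtype) (map_subtype_le _) (fun i j hij => hcon i j hij)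
    rw [card_map_of_injective U.subtype_injective] at h3
    omega
  obtain ⟨v, hv, hve⟩ := hmem
  have h3 : φ ⟨g * v * g⁻¹, hg v v.2⟩ = 1 := hv
  have h4 := h.ker _ h3
  have hve' : (v : G) = e i j := hve
  have h5 : ∀ u ∈ U, g⁻¹ * u * g ∈ M := by
    intro u hu
    apply h.cent_e hij
    have h6 : g * v * g⁻¹ * u = u * (g * v * g⁻¹) := h4 u hu
    rw [← hve']
    calc g⁻¹ * u * g * v = g⁻¹ * (u * (g * v * g⁻¹)) * g := by group
      _ = g⁻¹ * (g * v * g⁻¹ * u) * g := by rw [h6]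
      _ = _ := by group
  intro u hu v hv
  have h6 : φ ⟨g * v * g⁻¹, hg v hv⟩ = 1 := by
    apply h.toFrame.trivial_crit
    intro x hx k l hkl h7
    apply hgM
    have h8 : v * ((g⁻¹ * x * g) * v⁻¹ * (g⁻¹ * x * g)⁻¹) ∈ U :=
      mul_mem hv (h.toFrame.mem_conj (h5 x hx) (inv_mem hv))
    refine h.mem_of_conj_eq hkl h8 ?_
    rw [← h7]
    change _ = g * v * g⁻¹ * x * (g * v * g⁻¹)⁻¹ * x⁻¹
    group
  exact (h.ker _ h6 u hu).symm

/-- the subgroups generated by conjugates of `U` -/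
def Gen (U D : Subgroup G) : Prop :=
  ∀ K : Subgroup G, (∀ g : G, (∀ v ∈ U, g * v * g⁻¹ ∈ D) → ∀ v ∈ U, g * v * g⁻¹ ∈ K) → D ≤ K

theorem gen_inf (h : Sit0 S M U φ e) {D : Subgroup G} (hD : ∀ a ∈ D, ∀ b ∈ D, a * b = b * a) (hgen : Gen U D)
    (hne : ∃ d ∈ D, ∃ u ∈ U, d * u ≠ u * d) {i j : Fin 5} (hij : i ≠ j) : e i j ∉ D := by
  intro hmem
  obtain ⟨d, hd, u, hu, hdu⟩ := hne
  have h1 : D ≤ centralizer ({u} : Set G) := by
    apply hgen
    intro g hg v hv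
    rw [mem_centralizer_singleton_iff]
    exact (h.comm_conj (fun w hw => h.cent_e hij (hD _ (hg w hw) _ hmem)) u hu v hv).symm
  exact hdu (mem_centralizer_singleton_iff.1 (h1 hd))

theorem gen_comm (h : Sit0 S M U φ e) {D : Subgroup G} (hD : ∀ a ∈ D, ∀ b ∈ D, a * b = b * a) (hgen : Gen U D)
    (hU : ∀ u ∈ U, ∀ d ∈ D, u * d * u⁻¹ ∈ D) (hne : ∃ d ∈ D, ∃ u ∈ U, d * u ≠ u * d) {i j : Fin 5} (hij : i ≠ j)
    {f : G} (hf : f ∈ D) (hfe : f * e i j = e i j * f) : ∀ u ∈ U, f * u = u * f := by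
  have hfM : f ∈ M := h.cent_e hij hfe
  have h1 : φ ⟨f, hfM⟩ = 1 := by
    apply h.toFrame.trivial_crit
    intro x hx k l hkl h2
    apply h.gen_inf hD hgen hne hkl
    rw [← h2]
    change f * x * f⁻¹ * x⁻¹ ∈ D
    have h3 : f * x * f⁻¹ * x⁻¹ = f * (x * f⁻¹ * x⁻¹) := by group
    rw [h3]
    exact mul_mem hf (hU x hx _ (inv_mem hf))
  exact h.ker _ h1

end Sit0

end Cfsg.Agent.OddCyclic.Om5
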