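import Cfsg.Agent.OddCyclic.RedX
import Cfsg.Agent.OddCyclic.RedFFDefs

/-!
# S0342, (C2), 2.2-2.4: the types of a 2-local subgroup

`X` of characteristic 2 with Sylow 2-subgroup `T`, `YC X T Y`: `Y ≤ Ω₁Z(O₂(X))` is normal in `X`, 2-reduced, contains
`Ω₁Z(T)` and the planes of the blocks (`Y = mod X T`, or `mod X T ⊔ Y'`). `kk X T = ⟨J(T)^X⟩`. `TyY X T Y` is the output of
the offender theorem FFC for `X / C_X(Y)` on `Y`; `Ty X T = TyY X T (mod X T)`: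
* `zero`: `J(T)` centralises `Y`;
* `tri` (1): exactly one plane `V`, normal in `X`;
* `sev` (L3a): `Y = N × C_Y(kk)`, `|N| = 8`, `X` induces `L₃(2)` on `N`, `bau T` induces a Sylow 2-subgroup;
  exactly one plane `V`, of point `z`;
* `fiv` (S5): `U = [Y, kk]` is the orthogonal module (even subsets of `{0, …, 4}`) for `S₅`, exactly two planes;
* `lin` (Lin q): an `SL₂(q)`-block, no plane;
* `bc` (L3b), (L3c): `L₃(2)`, the image of `J(T)` is a four-group, no block.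
-/

set_option autoImplicit false

namespace Cfsg.Agent.OddCyclic.RedTy

open Subgroup Cfsg Cfsg.Agent.ZN Cfsg.Agent.ZN.ChoiceBase Cfsg.Agent.MinSimple Cfsg.Agent.MinSimple.DBlkApi
open Cfsg.Agent.MinSimple.LemX (nc)
open Cfsg.Agent.OddCyclic.COneDefs (LBlk)
open Cfsg.Agent.OddCyclic.RedX (mod Loc)

universe u

variable {G : Type u} [Group G]

/-- `⟨J(T)^X⟩` -/
def kk (X T : Subgroup G) : Subgroup G := nc X (jj T)

/-- `Y` is a 2-reduced normal subgroup of `X`, containing `Ω₁Z(T)` and the planes of the blocks of `X` -/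
structure YC (X T Y : Subgroup G) : Prop extends Loc X T where
  le : Y ≤ zc (o2 X)
  nor : X ≤ normalizer (Y : Set G)
  core : ∀ D : Subgroup G, D ≤ X → X ≤ normalizer (D : Set G) →
    (∀ d ∈ D, ∃ c ∈ centralizer (Y : Set G), ∃ t ∈ T, d = c * t) → D ≤ centralizer (Y : Set G)
  zc_le : zc T ≤ Y
  vl_le : ∀ L : Subgroup G, L ≤ X → RedX.IsB (bau T) L → vl (bau T) L ≤ Y

theorem yc_mod [Finite G] {X T : Subgroup G} (h : Loc X T) : YC X T (mod X T) where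
  toLoc := h
  le := RedX.mod_le h
  nor := LemX.le_normalizer_nc _ _
  core := fun D _ hD h1 => RedX.mod_core h hD h1
  zc_le := RedX.zc_le_mod
  vl_le := fun L hL h1 => RedX.vl_le_mod hL h1

/-- `Y ⊔ mod X T` for a 2-reduced `Y` -/
theorem yc_sup [Finite G] {X T Y : Subgroup G} (h : Loc X T) (h1 : Y ≤ zc (o2 X)) (h2 : X ≤ normalizer (Y : Set G))
    (h3 : ∀ D : Subgroup G, D ≤ X → X ≤ normalizer (D : Set G) →
      (∀ d ∈ D, ∃ c ∈ centralizer (Y : Set G), ∃ t ∈ T, d = c * t) → D ≤ centralizer (Y : Set G)) :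
    YC X T (Y ⊔ mod X T) where
  toLoc := h
  le := sup_le h1 (RedX.mod_le h)
  nor := by
    rw [le_normalizer_iff]
    intro g hg y hy
    have h4 : Y ⊔ mod X T ≤ (Y ⊔ mod X T).comap (MulAut.conj g).toMonoidHom := by
      refine sup_le (fun y hy => ?_) fun y hy => ?_
      · exact (le_sup_left : Y ≤ Y ⊔ mod X T) (Four.conj_mem (h2 hg) hy)
      · exact (le_sup_right : mod X T ≤ Y ⊔ mod X T) (Four.conj_mem (LemX.le_normalizer_nc _ _ hg) hy)
    exact h4 hy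
  core := fun D hDX hD h4 => by
    have h5 : ∀ W : Subgroup G, W ≤ Y ⊔ mod X T → centralizer ((Y ⊔ mod X T : Subgroup G) : Set G) ≤
        centralizer (W : Set G) := fun W hW => centralizer_le hW
    have h6 : D ≤ centralizer (Y : Set G) := h3 D hDX hD fun d hd => by
      obtain ⟨c, hc, t, ht, he⟩ := h4 d hd
      exact ⟨c, h5 Y le_sup_left hc, t, ht, he⟩
    have h7 : D ≤ centralizer (mod X T : Set G) := RedX.mod_core h hD fun d hd => by
      obtain ⟨c, hc, t, ht, he⟩ := h4 d hd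
      exact ⟨c, h5 (mod X T) le_sup_right hc, t, ht, he⟩
    exact le_centralizer_iff.1 (sup_le (le_centralizer_iff.1 h6) (le_centralizer_iff.1 h7))
  zc_le := RedX.zc_le_mod.trans le_sup_right
  vl_le := fun L hL h1 => (RedX.vl_le_mod hL h1).trans le_sup_right

/-- 3-element -/
def El3 (x : G) : Prop := ∃ n : ℕ, x ^ 3 ^ n = 1

/-- type (1) -/
structure TriY (X T Y V : Subgroup G) : Prop where
  le : V ≤ Y
  norm : X ≤ normalizer (V : Set G)
  blk : ∃ (L : Subgroup G) (k : ℕ), L ≤ X ∧ IsDBlk (bau T) L k ∧ vl (bau T) L = V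
  only : ∀ (L : Subgroup G) (k : ℕ), L ≤ X → IsDBlk (bau T) L k → vl (bau T) L = V
  nolin : ∀ (L : Subgroup G) (q : ℕ), L ≤ X → ¬ LBlk (bau T) L q
  three : ∀ x ∈ X, El3 x → ∀ y ∈ Y, x * y * x⁻¹ * y⁻¹ ∈ V
  split : Y ≤ V ⊔ (Y ⊓ centralizer (kk X T : Set G))
  disj : V ⊓ centralizer (kk X T : Set G) = ⊥
  index : (bau T ⊓ centralizer (Y : Set G)).relIndex (bau T) = 2

/-- type (L3a) -/
structure SevY (X T Y N V : Subgroup G) (z : G) : Prop where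
  le : N ≤ Y
  norm : X ≤ normalizer (N : Set G)
  card : Nat.card N = 8
  full : ∀ φ : MulAut N, ∃ x ∈ X, ∀ n : N, ((φ n : N) : G) = x * n * x⁻¹
  split : Y ≤ N ⊔ (Y ⊓ centralizer (kk X T : Set G))
  disj : N ⊓ centralizer (kk X T : Set G) = ⊥
  three : ∀ x ∈ X, El3 x → ∀ y ∈ Y, x * y * x⁻¹ * y⁻¹ ∈ N
  index : (bau T ⊓ centralizer (Y : Set G)).relIndex (bau T) = 8
  VN : V ≤ N
  zV : z ∈ V
  z_ne : z ≠ 1
  T_norm : T ≤ normalizer (V : Set G)
  T_cent : ∀ t ∈ T, t * z = z * t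
  blk : ∃ (L : Subgroup G) (k : ℕ), L ≤ X ∧ IsDBlk (bau T) L k ∧ vl (bau T) L = V
  only : ∀ (L : Subgroup G) (k : ℕ), L ≤ X → IsDBlk (bau T) L k → vl (bau T) L = V
  nolin : ∀ (L : Subgroup G) (q : ℕ), L ≤ X → ¬ LBlk (bau T) L q
  gen : X ≤ (X ⊓ normalizer (V : Set G)) ⊔ (X ⊓ centralizer ({z} : Set G)) ⊔ (X ⊓ normalizer (jj T : Set G))
  ncl : N ≤ nc (X ⊓ centralizer (zc T : Set G)) V

/-- type (S5): the module data of `Om5.Frame`, for `X` -/
structure FivY (X T Y U : Subgroup G) (φ : X →* Equiv.Perm (Fin 5)) (e : Fin 5 → Fin 5 → G) : Prop where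
  le : U ≤ Y
  norm : X ≤ normalizer (U : Set G)
  surj : Function.Surjective φ
  ker : ∀ h : X, φ h = 1 → ∀ u ∈ U, (h : G) * u = u * h
  sq : ∀ u ∈ U, u * u = 1
  mem : ∀ i j, e i j ∈ U
  self : ∀ i, e i i = 1
  ne : ∀ i j, i ≠ j → e i j ≠ 1
  symm : ∀ i j, e i j = e j i
  mul : ∀ i j k, e i j * e j k = e i k
  all : ∀ u ∈ U, ∃ i j k l, u = e i j * e k l
  conj : ∀ (h : X) (i j), (h : G) * e i j * (h : G)⁻¹ = e (φ h i) (φ h j)
  three : ∀ x ∈ X, El3 x → ∀ y ∈ Y, x * y * x⁻¹ * y⁻¹ ∈ U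
  split : Y ≤ U ⊔ (Y ⊓ centralizer (kk X T : Set G))
  disj : U ⊓ centralizer (kk X T : Set G) = ⊥
  bau_le : ∀ h : X, (h : G) ∈ bau T → φ h ∈ closure {Equiv.swap 0 1, Equiv.swap 2 3}
  tr₁ : ∃ A ∈ AA T, ∃ h : X, (h : G) ∈ A ∧ φ h = Equiv.swap 0 1
  tr₂ : ∃ A ∈ AA T, ∃ h : X, (h : G) ∈ A ∧ φ h = Equiv.swap 2 3
  blk₁ : ∃ (L : Subgroup G) (k : ℕ), L ≤ X ∧ IsDBlk (bau T) L k ∧ vl (bau T) L = closure {e 0 1, e 0 4}
  blk₂ : ∃ (L : Subgroup G) (k : ℕ), L ≤ X ∧ IsDBlk (bau T) L k ∧ vl (bau T) L = closure {e 2 3, e 2 4}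
  only : ∀ (L : Subgroup G) (k : ℕ), L ≤ X → IsDBlk (bau T) L k →
    (vl (bau T) L = closure {e 0 1, e 0 4} ∧ IsPt (bau T) L (e 0 1) ∧ e 2 3 ∈ rl (bau T) L) ∨
    (vl (bau T) L = closure {e 2 3, e 2 4} ∧ IsPt (bau T) L (e 2 3) ∧ e 0 1 ∈ rl (bau T) L)
  nolin : ∀ (L : Subgroup G) (q : ℕ), L ≤ X → ¬ LBlk (bau T) L q
  bau_ne : bau T ≠ T

/-- type (Lin q) -/
structure Lin (X T L : Subgroup G) (q : ℕ) : Prop where
  le : L ≤ X
  blk : LBlk (bau T) L q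
  norm : X ≤ normalizer (vl (bau T) L : Set G)
  only : ∀ (L' : Subgroup G) (q' : ℕ), L' ≤ X → LBlk (bau T) L' q' → zl (bau T) L' = zl (bau T) L ∧ q' = q
  nodih : ∀ (L' : Subgroup G) (k : ℕ), L' ≤ X → ¬ IsDBlk (bau T) L' k
  gen : X ≤ L ⊔ (X ⊓ centralizer (zc T : Set G)) ⊔ (X ⊓ normalizer (jj T : Set G))

/-- types (L3b), (L3c): `L` is the preimage of the normal simple subgroup of order 168 of `X / C_X(Y)` -/
structure BcY (X T Y L : Subgroup G) : Prop where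
  le : L ≤ X
  norm : X ≤ normalizer (L : Set G)
  cent_le : X ⊓ centralizer (Y : Set G) ≤ L
  simple : ∃ (Q : Type u) (_ : Group Q) (π : L →* Q), Function.Surjective π ∧
    π.ker = (centralizer (Y : Set G)).subgroupOf L ∧ IsSimpleGroup Q ∧ Nat.card Q = 168
  jj_le : jj T ≤ L
  four : (jj T ⊓ centralizer (Y : Set G)).relIndex (jj T) = 4
  fix : ∀ a ∈ jj T, a ∉ centralizer (Y : Set G) → ∀ y ∈ Y, a * y = y * a → ∀ b ∈ jj T, b * y = y * b
  /-- `|Y : C_Y(J)| = 2` or `4` -/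
  index : (Y ⊓ centralizer (jj T : Set G)).relIndex (Y) = 2 ∨
    (Y ⊓ centralizer (jj T : Set G)).relIndex (Y) = 4
  /-- all `A ∈ 𝒜(T)` have the image `1` or the image of `J(T)` -/
  img : ∀ A ∈ AA T, A ≤ centralizer (Y : Set G) ∨ jj T ≤ A ⊔ (X ⊓ centralizer (Y : Set G))
  gen : X ≤ (X ⊓ centralizer (zc T : Set G)) ⊔ (X ⊓ normalizer (jj T : Set G))
  noblk : ∀ L' : Subgroup G, L' ≤ X → ¬ RedX.IsB (bau T) L'
  bau_ne : bau T ≠ T
  /-- if no 3-element of `N_X(J)` moves `C_Y(J)` then `|C_Y(J)| ≤ 2 |C_Y(kk)|` -/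
  alt : Nat.card (Y ⊓ zc (bau T) : Subgroup G) ≤ 2 * Nat.card (Y ⊓ centralizer (kk X T : Set G) : Subgroup G) ∨
    ∃ x ∈ X, El3 x ∧ x ∈ normalizer (jj T : Set G) ∧ ∃ y ∈ Y ⊓ zc (bau T), x * y ≠ y * x
  /-- `3 ∤ |C_X(Y)|` -/
  three : ∀ x ∈ X, El3 x → (∀ y ∈ Y, x * y = y * x) → x = 1
  three' : ∀ x ∈ X, El3 x → x ^ 3 = 1

/-- the types of `X`, with respect to the 2-reduced normal subgroup `Y` -/
inductive TyY (X T Y : Subgroup G) : Prop
  | zero (h : jj T ≤ centralizer (Y : Set G))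
  | tri (V : Subgroup G) (h : TriY X T Y V)
  | sev (N V : Subgroup G) (z : G) (h : SevY X T Y N V z)
  | fiv (U : Subgroup G) (φ : X →* Equiv.Perm (Fin 5)) (e : Fin 5 → Fin 5 → G) (h : FivY X T Y U φ e)
  | lin (L : Subgroup G) (q : ℕ) (h : Lin X T L q)
  | bc (L : Subgroup G) (h : BcY X T Y L)

/-! ### the case `Y = mod X T` -/

abbrev Tri (X T V : Subgroup G) : Prop := TriY X T (mod X T) V
abbrev Sev (X T N V : Subgroup G) (z : G) : Prop := SevY X T (mod X T) N V z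
abbrev Fiv (X T U : Subgroup G) (φ : X →* Equiv.Perm (Fin 5)) (e : Fin 5 → Fin 5 → G) : Prop :=
  FivY X T (mod X T) U φ e
abbrev Bc (X T L : Subgroup G) : Prop := BcY X T (mod X T) L
abbrev Ty (X T : Subgroup G) : Prop := TyY X T (mod X T)

/-- FFC for all quotients of the proper subgroups of `G` -/
def FFA (G : Type u) [Group G] : Prop :=
  ∀ X : Subgroup G, X ≠ ⊤ → ∀ (H : Type u) [Group H] (f : X →* H), Function.Surjective f → RedFFDefs.FFC H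

end Cfsg.Agent.OddCyclic.RedTy
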