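import Cfsg.Agent.OddCyclic.RedFiveThree
import Cfsg.Agent.OddCyclic.RedTy
import Cfsg.Agent.J4M.TwoGroup

/-!
# S0342, (C2), (5.3): two planes with `|Z_J| = 4`, `C(z₁)` of type `(L3a)`, is impossible

`false_of_sev`, `false_of_fiv`.
-/

set_option autoImplicit false

namespace Cfsg.Agent.OddCyclic.RedFiveThree

open Subgroup Cfsg Cfsg.Agent.ZN Cfsg.Agent.MinSimple Cfsg.Agent.MinSimple.DBlkApi
open Cfsg.Agent.OddCyclic.CompStandard (cj mem_cj conj_mem_cj cj_mul cj_one card_cj cj_eq_iff cj_mono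
  cj_centralizer_singleton cj_normalizer cj_cj_inv forall_of_mem_normalizer mem_normalizer_of_forall)
open Cfsg.Agent.MinSimple.LemX (nc nc_le)
open Cfsg.Agent.OddCyclic.RedTy
open Cfsg.Agent.OddCyclic.RedX (Loc)

universe u

variable {G : Type u} [Group G]

/-! ### Automorphisms of elementary abelian 2-groups -/

/-- a hyperplane over `D` avoiding `a` -/
theorem exists_hyp [Finite G] {N D : Subgroup G} (hsq : ∀ x ∈ N, x * x = 1) (hD : D ≤ N) {a : G}
    (haD : a ∉ D) : ∃ H ≤ N, D ≤ H ∧ a ∉ H ∧ ∀ x ∈ N, x ∉ H → a * x ∈ H := by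
  classical
  obtain ⟨H, hDH, hH⟩ := Set.Finite.exists_le_maximal
    (Set.toFinite {H : Subgroup G | H ≤ N ∧ a ∉ H}) (show D ∈ {H : Subgroup G | H ≤ N ∧ a ∉ H} from ⟨hD, haD⟩)
  refine ⟨H, hH.prop.1, hDH, hH.prop.2, fun x hx hxH => ?_⟩
  by_contra hax
  have h1 : ¬ (a ∉ H ⊔ zpowers x) := by
    intro h2
    have h3 : H ⊔ zpowers x ∈ {H : Subgroup G | H ≤ N ∧ a ∉ H} :=
      ⟨sup_le hH.prop.1 (zpowers_le.mpr hx), h2⟩
    have h4 := hH.le_of_ge h3 le_sup_left
    exact hxH (h4 (mem_sup_right (mem_zpowers x)))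
  rw [not_not] at h1
  have hn : zpowers x ≤ normalizer (H : Set G) := by
    rw [zpowers_le]
    refine mem_normalizer_of_forall fun y hy => ?_
    rw [comm_of_sq hsq hx (hH.prop.1 hy), mul_inv_cancel_right]
    exact hy
  have h2 : a ∈ ((H ⊔ zpowers x : Subgroup G) : Set G) := h1
  rw [Subgroup.coe_mul_of_right_le_normalizer_left H _ hn] at h2
  obtain ⟨h, hh, y, hy, e⟩ := Set.mem_mul.mp h2
  rw [SetLike.mem_coe, DBlkApi.zpowers_eq (by rw [pow_two]; exact hsq x hx)] at hy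
  rcases hy with rfl | rfl
  · rw [mul_one] at e
    exact hH.prop.2 (e ▸ hh)
  · apply hax
    rw [← e, mul_assoc, hsq _ hx, mul_one]
    exact hh

/-- a transvection of `N` fixing `D` and moving `a ∉ D` to `b`, `a b ∈ D` -/
theorem exists_tv [Finite G] {N D : Subgroup G} (hsq : ∀ x ∈ N, x * x = 1) (hD : D ≤ N) {a b : G} (ha : a ∈ N)
    (haD : a ∉ D) (hb : b ∈ N) (hab : a * b ∈ D) :
    ∃ φ : MulAut N, (φ ⟨a, ha⟩ : G) = b ∧ ∀ (d : G) (hd : d ∈ D), (φ ⟨d, hD hd⟩ : G) = d := by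
  classical
  obtain ⟨H, hHN, hDH, haH, hH⟩ := exists_hyp hsq hD haD
  have hcm : ∀ x ∈ N, ∀ y ∈ N, x * y = y * x := fun x hx y hy => comm_of_sq hsq hx hy
  have habN : a * b ∈ N := N.mul_mem ha hb
  have hmul : ∀ x ∈ N, ∀ y ∈ N, x ∉ H → y ∉ H → x * y ∈ H := by
    intro x hx y hy hxH hyH
    have h1 := H.mul_mem (hH x hx hxH) (hH y hy hyH)
    have h2 : a * x * (a * y) = x * y := by
      calc a * x * (a * y) = x * (a * a) * y := by rw [hcm a ha x hx]; group
        _ = x * y := by rw [hsq a ha, mul_one]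
    rwa [h2] at h1
  let f : G → G := fun x => if x ∈ H then x else x * (a * b)
  have hfN : ∀ x ∈ N, f x ∈ N := by
    intro x hx
    simp only [f]
    split_ifs
    · exact hx
    · exact N.mul_mem hx habN
  have hfH : ∀ x ∈ H, f x = x := fun x hx => by simp only [f]; rw [if_pos hx]
  have hfH' : ∀ x ∉ H, f x = x * (a * b) := fun x hx => by simp only [f]; rw [if_neg hx]
  have hff : ∀ x ∈ N, f (f x) = x := by
    intro x hx
    by_cases h : x ∈ H
    · rw [hfH x h, hfH x h]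
    · rw [hfH' x h, hfH', mul_assoc, hsq _ habN, mul_one]
      intro h1
      exact h ((H.mul_mem_cancel_right (hDH hab)).mp h1)
  have hfm : ∀ x ∈ N, ∀ y ∈ N, f (x * y) = f x * f y := by
    intro x hx y hy
    by_cases h : x ∈ H <;> by_cases h' : y ∈ H
    · rw [hfH x h, hfH y h', hfH _ (H.mul_mem h h')]
    · rw [hfH x h, hfH' y h', hfH' _ (fun h1 => h' ((H.mul_mem_cancel_left h).mp h1)), mul_assoc]
    · rw [hfH' x h, hfH y h', hfH' _ (fun h1 => h ((H.mul_mem_cancel_right h').mp h1)), mul_assoc,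
        mul_assoc, hcm y hy _ habN]
    · rw [hfH' x h, hfH' y h', hfH _ (hmul x hx y hy h h')]
      calc x * y = x * (((a * b) * (a * b)) * y) := by rw [hsq _ habN, one_mul]
        _ = x * (a * b) * (y * (a * b)) := by rw [hcm y hy _ habN]; group
  refine ⟨{ toFun := fun x => ⟨f x, hfN x x.2⟩
            invFun := fun x => ⟨f x, hfN x x.2⟩
            left_inv := fun x => Subtype.ext (hff x x.2)
            right_inv := fun x => Subtype.ext (hff x x.2)
            map_mul' := fun x y => Subtype.ext (hfm x x.2 y y.2) }, ?_, fun d hd => hfH d (hDH hd)⟩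
  show f a = b
  rw [hfH' a haH, ← mul_assoc, hsq a ha, one_mul]

/-- `Aut N` is transitive on the involutions -/
theorem exists_aut [Finite G] {N : Subgroup G} (hsq : ∀ x ∈ N, x * x = 1) {a b : G} (ha : a ∈ N) (hb : b ∈ N)
    (ha1 : a ≠ 1) (hb1 : b ≠ 1) : ∃ φ : MulAut N, (φ ⟨a, ha⟩ : G) = b := by
  have hab : a * b ∈ N := N.mul_mem ha hb
  have haD : a ∉ zpowers (a * b) := by
    rw [DBlkApi.zpowers_eq (by rw [pow_two]; exact hsq _ hab)]
    rintro (h | h)
    · exact ha1 h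
    · exact hb1 (by simpa using h.symm)
  obtain ⟨φ, h, -⟩ := exists_tv hsq (zpowers_le.mpr hab) ha haD hb (mem_zpowers _)
  exact ⟨φ, h⟩

/-- an automorphism fixing `z` and moving a plane through `z` -/
theorem exists_aut_move [Finite G] {N V : Subgroup G} (hsq : ∀ x ∈ N, x * x = 1) (hV : V ≤ N)
    (hcV : Nat.card V = 4) (hc : Nat.card N = 8) {z : G} (hz : z ∈ V) (hz1 : z ≠ 1) :
    ∃ φ : MulAut N, (φ ⟨z, hV hz⟩ : G) = z ∧ ∃ (a : G) (ha : a ∈ V), (φ ⟨a, hV ha⟩ : G) ∉ V := by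
  have hsqV : ∀ x ∈ V, x ^ 2 = 1 := fun x hx => by rw [pow_two]; exact hsq x (hV hx)
  obtain ⟨a, ha, haz⟩ : ∃ a ∈ V, a ∉ zpowers z := by
    by_contra hno
    push Not at hno
    have h1 : V ≤ zpowers z := hno
    have h2 := Subgroup.card_le_of_le h1
    rw [hcV, DBlkApi.card_zpowers (hsqV z hz) hz1] at h2
    omega
  obtain ⟨b, hb, hbV⟩ : ∃ b ∈ N, b ∉ V := by
    by_contra hno
    push Not at hno
    have h1 : N ≤ V := hno
    have h2 := Subgroup.card_le_of_le h1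
    rw [hcV, hc] at h2
    omega
  have haN := hV ha
  have hzN := hV hz
  have hab : a * b ∈ N := N.mul_mem haN hb
  set D : Subgroup G := zpowers z ⊔ zpowers (a * b) with hD
  have hDN : D ≤ N := sup_le (zpowers_le.mpr hzN) (zpowers_le.mpr hab)
  have haD : a ∉ D := by
    intro h
    have h1 : Nat.card D ≤ 2 * 2 := by
      refine (J4M.TwoGroup.card_sup_le _ _ ?_).trans ?_
      · rw [zpowers_le]
        refine mem_normalizer_of_forall fun y hy => ?_
        have hyN : y ∈ N := zpowers_le.mpr hzN hy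
        rw [comm_of_sq hsq hab hyN, mul_inv_cancel_right]
        exact hy
      · refine Nat.mul_le_mul ?_ ?_
        · rw [DBlkApi.card_zpowers (hsqV z hz) hz1]
        · rw [DBlkApi.card_zpowers (by rw [pow_two]; exact hsq _ hab)]
          intro h2
          apply hbV
          rw [mul_eq_one_iff_inv_eq] at h2
          rw [← h2]
          exact V.inv_mem ha
    have h2 : V ≤ D := by
      intro x hx
      rcases Four.four hcV hsqV hz ha hz1 (fun h => haz (h ▸ one_mem _)) (fun h => haz (h ▸ mem_zpowers z)) x hx with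
        rfl | rfl | rfl | rfl
      · exact one_mem _
      · exact mem_sup_left (mem_zpowers _)
      · exact h
      · exact mul_mem (mem_sup_left (mem_zpowers _)) h
    have h3 : V = D := Subgroup.eq_of_le_of_card_ge h2 (by rw [hcV]; exact h1)
    have h4 : a * b ∈ V := by
      rw [h3]
      exact mem_sup_right (mem_zpowers _)
    exact hbV ((V.mul_mem_cancel_left ha).mp h4)
  obtain ⟨φ, h1, h2⟩ := exists_tv hsq hDN haN haD hb (mem_sup_right (mem_zpowers _))
  exact ⟨φ, h2 z (mem_sup_left (mem_zpowers z)), a, ha, by rw [h1]; exact hbV⟩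

/-- a 2-group normalising a nontrivial 2-group fixes a nontrivial element -/
theorem exists_fix [Finite G] {T V : Subgroup G} (hT : IsPGroup 2 T) (hV : 2 ∣ Nat.card V)
    (hTV : T ≤ normalizer (V : Set G)) : ∃ v ∈ V, v ≠ 1 ∧ ∀ t ∈ T, t * v = v * t := by
  have hf : Fact (Nat.Prime 2) := ⟨Nat.prime_two⟩
  let _ : MulAction T V :=
    { smul := fun t v => ⟨(t : G) * v * (t : G)⁻¹, (mem_normalizer_iff.1 (hTV t.2) v).1 v.2⟩
      one_smul := fun v => Subtype.ext (by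
        change (1 : G) * v * (1 : G)⁻¹ = v
        group)
      mul_smul := fun s t v => Subtype.ext (by
        change ((s : G) * t) * v * ((s : G) * t)⁻¹ = s * (t * v * (t : G)⁻¹) * (s : G)⁻¹
        group) }
  have h1 : (1 : V) ∈ MulAction.fixedPoints T V := fun t => Subtype.ext (by
    change (t : G) * (1 : G) * (t : G)⁻¹ = 1
    group)
  obtain ⟨b, hb, hb1⟩ := hT.exists_fixed_point_of_prime_dvd_card_of_fixed_point V hV h1
  refine ⟨b, b.2, fun h0 => hb1 (Subtype.ext h0.symm), fun t ht => ?_⟩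
  have h2 : t * (b : G) * t⁻¹ = b := congrArg Subtype.val (hb ⟨t, ht⟩)
  exact Four.conj_eq_iff_comm.1 h2

/-- a block is transitive on the involutions of its plane -/
theorem blk_trans [Finite G] {B L : Subgroup G} {k : ℕ} (h : IsDBlk B L k) {z : G} (hz : IsPt B L z) {v : G}
    (hv : v ∈ vl B L) (hv1 : v ≠ 1) : ∃ l ∈ L, l * z * l⁻¹ = v := by
  obtain ⟨y, hy, h0, h1, h2, h3, h4⟩ := h.dih
  have h5 : y * z * y⁻¹ ∈ vl B L := Four.conj_mem (ZN.le_normalizer_vl B L hy) hz.1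
  have h6 : y * z * y⁻¹ ≠ 1 := fun h => hz.2.2 (conj_eq_one_iff.mp h)
  have h7 : y * z * y⁻¹ ≠ z := fun h => hz.2.2 (h3 z hz.1 h)
  obtain ⟨b, hb, hbQ⟩ := exists_b h
  rcases Four.four h.card_vl (vl_sq h) hz.1 h5 hz.2.2 h6 h7.symm v hv with rfl | rfl | rfl | rfl
  · exact absurd rfl hv1
  · exact ⟨1, one_mem _, by group⟩
  · exact ⟨y, hy, rfl⟩
  · refine ⟨b * y, L.mul_mem (h.le hb) hy, ?_⟩
    rw [← conj_eq h hz h5 h6 h7 hb hbQ]
    group

/-- `|U| ≤ 16` in type `(S5)` -/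
theorem card_fiv [Finite G] {X T Y U : Subgroup G} {φ : X →* Equiv.Perm (Fin 5)} {e : Fin 5 → Fin 5 → G}
    (h : FivY X T Y U φ e) : Nat.card U ≤ 16 := by
  have hcm : ∀ i j k l, e i j * e k l = e k l * e i j := fun i j k l =>
    comm_of_sq h.sq (h.mem i j) (h.mem k l)
  have h0 : ∀ i, e 0 i ∈ closure {q | q ∈ [e 0 1, e 0 2, e 0 3, e 0 4]} := by
    intro i
    fin_cases i
    · change e 0 0 ∈ _
      rw [h.self]; exact one_mem _
    all_goals
      refine subset_closure ?_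
      simp
  have h1 : U ≤ closure {q | q ∈ [e 0 1, e 0 2, e 0 3, e 0 4]} := by
    intro u hu
    obtain ⟨i, j, k, l, rfl⟩ := h.all u hu
    rw [← h.mul i 0 j, ← h.mul k 0 l, h.symm i 0, h.symm k 0]
    exact mul_mem (mul_mem (h0 _) (h0 _)) (mul_mem (h0 _) (h0 _))
  have h2 := (J4M.TwoGroup.card_closure_le [e 0 1, e 0 2, e 0 3, e 0 4] (by
    intro q hq
    simp only [List.mem_cons, List.not_mem_nil, or_false] at hq
    rcases hq with rfl | rfl | rfl | rfl <;> exact h.sq _ (h.mem _ _)) (by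
    intro q hq r hr
    simp only [List.mem_cons, List.not_mem_nil, or_false] at hq hr
    rcases hq with rfl | rfl | rfl | rfl <;> rcases hr with rfl | rfl | rfl | rfl <;> exact hcm _ _ _ _)).2
  exact (Subgroup.card_le_of_le h1).trans h2

/-- the input of (5.3) -/
structure Inp (B N V₁ V₂ L Y : Subgroup G) (z₁ z₂ s : G) (k : ℕ) : Prop where
  z1 : z₁ ≠ 1
  bau : bau B = B
  /-- `|Z_J| = 4` -/
  zc : ∀ x ∈ zc B, x = 1 ∨ x = z₁ ∨ x = z₂ ∨ x = z₁ * z₂
  sB : s ∈ normalizer (B : Set G)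
  s1 : s * z₁ * s⁻¹ = z₂
  s2 : s * z₂ * s⁻¹ = z₁
  sV : cj s V₂ = V₁
  yc : YC (centralizer ({z₁} : Set G)) B Y
  sev : SevY (centralizer ({z₁} : Set G)) B Y N V₂ z₂
  /-- a block for `V₂` normalising `V₁ V₂` -/
  Lle : L ≤ centralizer ({z₁} : Set G)
  blk : IsDBlk B L k
  vl : vl B L = V₂
  LU : L ≤ normalizer ((V₁ ⊔ V₂ : Subgroup G) : Set G)

namespace Inp

variable [Finite G] {B N V₁ V₂ L Y : Subgroup G} {z₁ z₂ s : G} {k : ℕ}

omit [Finite G] in
theorem N_le_o2 (h : Inp B N V₁ V₂ L Y z₁ z₂ s k) : N ≤ ZN.zc (o2 (centralizer ({z₁} : Set G))) :=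
  h.sev.le.trans h.yc.le

omit [Finite G] in
theorem sq (h : Inp B N V₁ V₂ L Y z₁ z₂ s k) : ∀ x ∈ N, x * x = 1 := fun x hx => by
  rw [← pow_two]
  exact zc_sq (h.N_le_o2 hx)

theorem N_le (h : Inp B N V₁ V₂ L Y z₁ z₂ s k) : N ≤ B :=
  (h.N_le_o2.trans (ZN.zc_le _)).trans h.yc.toLoc.o2_le

theorem cjB (h : Inp B N V₁ V₂ L Y z₁ z₂ s k) : cj s B = B := cj_eq_iff.mpr h.sB

theorem cjN_le (h : Inp B N V₁ V₂ L Y z₁ z₂ s k) : cj s N ≤ B := by
  have h1 := cj_mono (g := s) h.N_le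
  rwa [h.cjB] at h1

omit [Finite G] in
theorem B_le (h : Inp B N V₁ V₂ L Y z₁ z₂ s k) : B ≤ centralizer ({z₁} : Set G) := h.yc.toLoc.TX

omit [Finite G] in
theorem cj_cent (h : Inp B N V₁ V₂ L Y z₁ z₂ s k) :
    cj s (centralizer ({z₁} : Set G)) = centralizer ({z₂} : Set G) := by
  rw [cj_centralizer_singleton, h.s1]

theorem B_le2 (h : Inp B N V₁ V₂ L Y z₁ z₂ s k) : B ≤ centralizer ({z₂} : Set G) := by
  rw [← h.cj_cent, ← h.cjB]
  exact cj_mono h.B_le

omit [Finite G] in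
theorem z2_ne (h : Inp B N V₁ V₂ L Y z₁ z₂ s k) : z₂ ≠ 1 := h.sev.z_ne

omit [Finite G] in
theorem z1_notMem (h : Inp B N V₁ V₂ L Y z₁ z₂ s k) : z₁ ∉ N := by
  intro h1
  have h2 : z₁ ∈ N ⊓ centralizer (kk (centralizer ({z₁} : Set G)) B : Set G) := by
    refine mem_inf.mpr ⟨h1, mem_centralizer_iff.mpr fun x hx => ?_⟩
    have h3 : kk (centralizer ({z₁} : Set G)) B ≤ centralizer ({z₁} : Set G) :=
      nc_le ((ChoiceBase.jj_le B).trans h.B_le) le_normalizer
    exact mem_centralizer_singleton_iff.mp (h3 hx)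
  rw [h.sev.disj, mem_bot] at h2
  exact h.z1 h2

/-- `C_N(B) = ⟨z₂⟩` -/
theorem fix (h : Inp B N V₁ V₂ L Y z₁ z₂ s k) {x : G} (hx : x ∈ N) (hc : ∀ b ∈ B, b * x = x * b) :
    x = 1 ∨ x = z₂ := by
  have h1 : x ∈ ZN.zc B := ZN.mem_zc.mpr ⟨h.N_le hx, hc, by rw [pow_two]; exact h.sq x hx⟩
  have hz2 : z₂ ∈ N := h.sev.VN h.sev.zV
  rcases h.zc x h1 with rfl | rfl | rfl | rfl
  · exact Or.inl rfl
  · exact absurd hx h.z1_notMem
  · exact Or.inr rfl
  · exact absurd ((N.mul_mem_cancel_right hz2).mp hx) h.z1_notMem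

omit [Finite G] in
theorem B_norm (h : Inp B N V₁ V₂ L Y z₁ z₂ s k) : B ≤ normalizer (N : Set G) := h.B_le.trans h.sev.norm

theorem B_norm2 (h : Inp B N V₁ V₂ L Y z₁ z₂ s k) : B ≤ normalizer (cj s N : Set G) := by
  have h1 := cj_mono (g := s) h.B_norm
  rwa [h.cjB, cj_normalizer] at h1

theorem inf_eq (h : Inp B N V₁ V₂ L Y z₁ z₂ s k) : N ⊓ cj s N = ⊥ := by
  by_contra hne
  have h2 : 2 ∣ Nat.card (N ⊓ cj s N : Subgroup G) := by
    have h3 : IsPGroup 2 (N ⊓ cj s N : Subgroup G) := h.yc.two.to_le (inf_le_left.trans h.N_le)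
    obtain ⟨n, hn⟩ := (IsPGroup.iff_card).mp h3
    rw [hn]
    refine dvd_pow_self 2 ?_
    rintro rfl
    rw [pow_zero] at hn
    exact hne (Subgroup.card_eq_one.mp hn)
  have hBn : B ≤ normalizer ((N ⊓ cj s N : Subgroup G) : Set G) := by
    intro b hb
    refine mem_normalizer_of_forall fun x hx => ⟨?_, ?_⟩
    · exact forall_of_mem_normalizer (h.B_norm hb) _ hx.1
    · exact forall_of_mem_normalizer (h.B_norm2 hb) _ hx.2
  obtain ⟨v, hv, hv1, hvB⟩ := exists_fix h.yc.two h2 hBn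
  have h3 := (h.fix hv.1 hvB).resolve_left hv1
  have h4 : s⁻¹ * v * s ∈ N := mem_cj.mp hv.2
  have h5 : s⁻¹ * v * s ≠ 1 := by
    intro h6
    apply hv1
    have : v = s * (s⁻¹ * v * s) * s⁻¹ := by group
    rw [this, h6]; group
  have h6 : ∀ b ∈ B, b * (s⁻¹ * v * s) = (s⁻¹ * v * s) * b := by
    intro b hb
    have h7 : s * b * s⁻¹ ∈ B := forall_of_mem_normalizer h.sB _ hb
    have h8 := hvB _ h7
    calc b * (s⁻¹ * v * s) = s⁻¹ * ((s * b * s⁻¹) * v) * s := by group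
      _ = s⁻¹ * (v * (s * b * s⁻¹)) * s := by rw [h8]
      _ = _ := by group
  have h7 := (h.fix h4 h6).resolve_left h5
  have h8 : v = z₁ := by
    rw [← h.s2, ← h7]; group
  exact h.z1_notMem (h8 ▸ hv.1)

theorem dat (h : Inp B N V₁ V₂ L Y z₁ z₂ s k) : Dat z₁ z₂ s N V₁ V₂ L where
  s1 := h.s1
  s2 := h.s2
  norm := h.sev.norm
  card := h.sev.card
  sq := h.sq
  edge := by
    intro x hx y hy
    have h1 : x * y * x⁻¹ * y⁻¹ ∈ N ⊓ cj s N := by
      constructor
      · have h2 : y * x⁻¹ * y⁻¹ ∈ N := forall_of_mem_normalizer (h.B_norm (h.cjN_le hy)) _ (N.inv_mem hx)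
        have h3 : x * y * x⁻¹ * y⁻¹ = x * (y * x⁻¹ * y⁻¹) := by group
        rw [h3]; exact N.mul_mem hx h2
      · exact (cj s N).mul_mem (forall_of_mem_normalizer (h.B_norm2 (h.N_le hx)) _ hy) ((cj s N).inv_mem hy)
    rw [h.inf_eq, mem_bot] at h1
    calc x * y = (x * y * x⁻¹ * y⁻¹) * (y * x) := by group
      _ = y * x := by rw [h1, one_mul]
  trans := by
    intro v hv hv1
    obtain ⟨φ, hφ⟩ := exists_aut h.sq (h.sev.VN h.sev.zV) hv h.z2_ne hv1
    obtain ⟨x, hx, hx'⟩ := h.sev.full φ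
    exact ⟨x, hx, by rw [← hφ, hx']⟩
  V2N := h.sev.VN
  card2 := by rw [← h.vl]; exact h.blk.card_vl
  z2V := h.sev.zV
  V1N := by rw [← h.sV]; exact cj_mono h.sev.VN
  card1 := by rw [← h.sV, card_cj, ← h.vl]; exact h.blk.card_vl
  Lle := h.Lle
  LV := by rw [← h.vl]; exact ZN.le_normalizer_vl B L
  LU := h.LU
  Ltr := by
    intro v hv hv1
    rw [← h.vl] at hv
    have hz : IsPt B L z₂ := by
      refine ⟨by rw [h.vl]; exact h.sev.zV, ?_, h.z2_ne⟩
      have h2 : z₂ ∈ N := h.sev.VN h.sev.zV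
      exact ZN.mem_zc.mpr ⟨h.N_le h2, fun b hb => h.sev.T_cent b hb, by rw [pow_two]; exact h.sq _ h2⟩
    exact blk_trans h.blk hz hv hv1
  move := by
    obtain ⟨φ, hφ, a, ha, haV⟩ := exists_aut_move h.sq h.sev.VN (by rw [← h.vl]; exact h.blk.card_vl)
      h.sev.card h.sev.zV h.z2_ne
    obtain ⟨x, hx, hx'⟩ := h.sev.full φ
    have h1 : x * z₂ * x⁻¹ = z₂ := by
      have := hx' ⟨z₂, h.sev.VN h.sev.zV⟩
      rw [hφ] at this
      exact this.symm
    refine ⟨s * x * s⁻¹, mem_inf.mpr ⟨?_, ?_⟩, ?_⟩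
    · rw [mem_centralizer_singleton_iff]
      rw [← h.s2]
      calc s * x * s⁻¹ * (s * z₂ * s⁻¹) = s * (x * z₂ * x⁻¹) * x * s⁻¹ := by group
        _ = s * z₂ * s⁻¹ * (s * x * s⁻¹) := by rw [h1]; group
    · have h2 : s * x * s⁻¹ ∈ cj s (centralizer ({z₁} : Set G)) := conj_mem_cj hx
      rw [h.cj_cent] at h2
      exact h2
    · intro h2
      apply haV
      rw [hx']
      have h3 : s * a * s⁻¹ ∈ V₁ := by rw [← h.sV]; exact conj_mem_cj ha
      have h4 := forall_of_mem_normalizer h2 _ h3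
      rw [← h.sV, mem_cj] at h4
      have h5 : s⁻¹ * (s * x * s⁻¹ * (s * a * s⁻¹) * (s * x * s⁻¹)⁻¹) * s = x * a * x⁻¹ := by group
      rwa [h5] at h4

end Inp

/-- **(5.3)** -/
theorem false_of_sev [Finite G] {B N V₁ V₂ L Y : Subgroup G} {z₁ z₂ s : G} {k : ℕ}
    (h : Inp B N V₁ V₂ L Y z₁ z₂ s k)
    (hty : ∀ W : Subgroup G, W ≠ ⊥ → IsPGroup 2 W → B ≤ normalizer (W : Set G) →
      ∃ T Y' : Subgroup G, ZN.bau T = B ∧ YC (normalizer (W : Set G)) T Y' ∧ TyY (normalizer (W : Set G)) T Y') :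
    False := by
  obtain ⟨W, hNW, hsq, hCW, hsW⟩ := h.dat.exists_normal
  have hW2 : IsPGroup 2 W := by
    intro w
    exact ⟨1, Subtype.ext (by rw [pow_one, pow_two]; exact hsq w w.2)⟩
  have hz2 : z₂ ∈ N := h.sev.VN h.sev.zV
  have hWne : W ≠ ⊥ := by
    rintro rfl
    exact h.z2_ne (mem_bot.mp (hNW hz2))
  obtain ⟨T, Y', hTB, hyc, hTy⟩ := hty W hWne hW2 (h.B_le.trans hCW)
  have hLX : L ≤ normalizer (W : Set G) := h.Lle.trans hCW
  have hL'X : cj s L ≤ normalizer (W : Set G) := by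
    have h1 := cj_mono (g := s) hLX
    rwa [cj_normalizer, cj_eq_iff.mpr hsW] at h1
  have hb : IsDBlk (ZN.bau T) L k := by rw [hTB]; exact h.blk
  have hv : vl (ZN.bau T) L = V₂ := by rw [hTB]; exact h.vl
  have hb' : IsDBlk (ZN.bau T) (cj s L) k := by
    have h1 := h.blk.conj s
    rw [hTB]
    have h2 : B.map (MulAut.conj s).toMonoidHom = B := h.cjB
    rw [h2] at h1
    exact h1
  have hv' : vl (ZN.bau T) (cj s L) = V₁ := by
    rw [hTB]
    have h1 := vl_map (MulAut.conj s).toMonoidHom (MulAut.conj s).injective B L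
    have h2 : B.map (MulAut.conj s).toMonoidHom = B := h.cjB
    rw [h2, h.vl] at h1
    exact h1.trans h.sV
  have hV12 : V₁ ≠ V₂ := by
    intro h1
    have h2 : z₁ ∈ V₁ := by
      rw [← h.sV, ← h.s2]
      exact conj_mem_cj h.sev.zV
    rw [h1] at h2
    exact h.z1_notMem (h.sev.VN h2)
  cases hTy with
  | zero h0 =>
    have h1 : vl (ZN.bau T) L ≤ Y' := hyc.vl_le L hLX (Or.inl ⟨k, hb⟩)
    apply hb.not_jj_le
    rw [← hb.cent_vl, ZN.jj_bau]
    exact le_inf (ChoiceBase.jj_le_bau T) (h0.trans (centralizer_le h1))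
  | tri V h1 => exact hV12 (by rw [← hv, ← hv', h1.only _ _ hLX hb, h1.only _ _ hL'X hb'])
  | sev N' V z h1 => exact hV12 (by rw [← hv, ← hv', h1.only _ _ hLX hb, h1.only _ _ hL'X hb'])
  | fiv U φ e h1 =>
    have h2 : V₂ ≤ U := by
      rw [← hv]
      rcases h1.only L k hLX hb with h3 | h3
      all_goals
        rw [h3.1, closure_le]
        rintro x (rfl | rfl) <;> exact h1.mem _ _
    have hNU : N ≤ U := by
      refine h.sev.ncl.trans (nc_le h2 ?_)
      exact (inf_le_left.trans hCW).trans h1.norm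
    have hNU' : cj s N ≤ U := by
      have h3 := cj_mono (g := s) hNU
      rwa [cj_eq_iff.mpr (h1.norm hsW)] at h3
    have h4 := J4M.TwoGroup.card_mul_le_card N (cj s N) U hNU hNU' h.inf_eq
    rw [card_cj, h.sev.card] at h4
    have h5 := card_fiv h1
    omega
  | lin L' q h1 => exact h1.nodih L k hLX hb
  | bc L' h1 => exact h1.noblk L hLX (Or.inl ⟨k, hb⟩)

/-- `V₁ V₂ = U` -/
theorem fiv_sup {X T Y U : Subgroup G} {φ : X →* Equiv.Perm (Fin 5)} {e : Fin 5 → Fin 5 → G}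
    (h : FivY X T Y U φ e) : closure {e 0 1, e 0 4} ⊔ closure {e 2 3, e 2 4} = U := by
  apply le_antisymm
  · refine sup_le ?_ ?_
    all_goals
      rw [closure_le]
      rintro x (rfl | rfl) <;> exact h.mem _ _
  · set W : Subgroup G := closure {e 0 1, e 0 4} ⊔ closure {e 2 3, e 2 4} with hW
    have h01 : e 0 1 ∈ W := mem_sup_left (subset_closure (by simp))
    have h04 : e 0 4 ∈ W := mem_sup_left (subset_closure (by simp))
    have h23 : e 2 3 ∈ W := mem_sup_right (subset_closure (by simp))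
    have h24 : e 2 4 ∈ W := mem_sup_right (subset_closure (by simp))
    have h4 : ∀ i, e 4 i ∈ W := by
      intro i
      fin_cases i
      · change e 4 0 ∈ W
        rw [h.symm]; exact h04
      · change e 4 1 ∈ W
        rw [← h.mul 4 0 1, h.symm 4 0]; exact W.mul_mem h04 h01
      · change e 4 2 ∈ W
        rw [h.symm]; exact h24
      · change e 4 3 ∈ W
        rw [← h.mul 4 2 3, h.symm 4 2]; exact W.mul_mem h24 h23
      · change e 4 4 ∈ W
        rw [h.self]; exact one_mem _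
    intro u hu
    obtain ⟨i, j, k, l, rfl⟩ := h.all u hu
    rw [← h.mul i 4 j, ← h.mul k 4 l, h.symm i 4, h.symm k 4]
    exact mul_mem (mul_mem (h4 _) (h4 _)) (mul_mem (h4 _) (h4 _))

/-- **(5.3)**: `M` of type `(S5)` over `B`, `|Z_J| = 4`, some `s ∈ N_G(B)` exchanges `z₁`, `z₂`, `V₁` and `V₂` are the
only planes over `B`: `C(z₁)` is not of type `(L3a)`. -/
theorem false_of_fiv [Finite G] {B M S Y₀ U : Subgroup G} {φ : M →* Equiv.Perm (Fin 5)} {e : Fin 5 → Fin 5 → G}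
    (f : FivY M S Y₀ U φ e) (hSB : ZN.bau S = B) (hB : ZN.bau B = B)
    (hzc : ∀ x ∈ ZN.zc B, x = 1 ∨ x = e 0 1 ∨ x = e 2 3 ∨ x = e 0 1 * e 2 3)
    {s : G} (hs : s ∈ normalizer (B : Set G)) (s1 : s * e 0 1 * s⁻¹ = e 2 3) (s2 : s * e 2 3 * s⁻¹ = e 0 1)
    (honly : ∀ (L : Subgroup G) (k : ℕ), IsDBlk B L k →
      vl B L = closure {e 0 1, e 0 4} ∨ vl B L = closure {e 2 3, e 2 4})
    {N V Y : Subgroup G} {z : G} (yc : YC (centralizer ({e 0 1} : Set G)) B Y)
    (hsev : SevY (centralizer ({e 0 1} : Set G)) B Y N V z)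
    (hty : ∀ W : Subgroup G, W ≠ ⊥ → IsPGroup 2 W → B ≤ normalizer (W : Set G) →
      ∃ T Y' : Subgroup G, ZN.bau T = B ∧ YC (normalizer (W : Set G)) T Y' ∧ TyY (normalizer (W : Set G)) T Y') :
    False := by
  obtain ⟨L, k, hLM, hb, hvl⟩ := f.blk₂
  have h1 := f.only L k hLM hb
  rw [hSB] at hb hvl h1
  have hpt : IsPt B L (e 2 3) ∧ e 0 1 ∈ rl B L := by
    rcases h1 with h1 | h1
    · exfalso
      -- `e 2 3 ∈ rl B L ∩ vl B L`
      have h2 : e 2 3 ∈ rl B L ⊓ vl B L := by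
        refine mem_inf.mpr ⟨h1.2.2, ?_⟩
        rw [hvl]
        exact subset_closure (by simp)
      rw [hb.disj, mem_bot] at h2
      exact f.ne 2 3 (by decide) h2
    · exact h1.2
  have hL : L ≤ centralizer ({e 0 1} : Set G) := by
    intro l hl
    rw [mem_centralizer_singleton_iff]
    exact rl_comm hpt.2 hl
  have hV : vl B L = V := by
    have h2 := hsev.only L k hL (by rw [hB]; exact hb)
    rwa [hB] at h2
  have hBX : B ≤ centralizer ({e 0 1} : Set G) := yc.toLoc.TX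
  have hNsq : ∀ x ∈ N, x ^ 2 = 1 := fun x hx => zc_sq (yc.le (hsev.le hx))
  have hNB : N ≤ B := ((hsev.le.trans yc.le).trans (ZN.zc_le _)).trans yc.toLoc.o2_le
  have hzN : z ∈ N := hsev.VN hsev.zV
  have hz : z = e 2 3 := by
    refine hpt.1.unique hb ⟨by rw [hV]; exact hsev.zV, ?_, hsev.z_ne⟩
    exact ZN.mem_zc.mpr ⟨hNB hzN, fun b hb => hsev.T_cent b hb, hNsq z hzN⟩
  subst hz
  have hV2 : V = closure {e 2 3, e 2 4} := hV.symm.trans hvl
  subst hV2
  have hz1N : e 0 1 ∉ N := by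
    intro h1
    have h2 : e 0 1 ∈ N ⊓ centralizer (kk (centralizer ({e 0 1} : Set G)) B : Set G) := by
      refine mem_inf.mpr ⟨h1, mem_centralizer_iff.mpr fun x hx => ?_⟩
      have h3 : kk (centralizer ({e 0 1} : Set G)) B ≤ centralizer ({e 0 1} : Set G) :=
        nc_le ((ChoiceBase.jj_le B).trans hBX) le_normalizer
      exact mem_centralizer_singleton_iff.mp (h3 hx)
    rw [hsev.disj, mem_bot] at h2
    exact f.ne 0 1 (by decide) h2
  have hBs : B.map (MulAut.conj s).toMonoidHom = B := cj_eq_iff.mpr hs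
  have sV : cj s (closure {e 2 3, e 2 4}) = closure {e 0 1, e 0 4} := by
    have h1 := hb.conj s
    have h2 := vl_map (MulAut.conj s).toMonoidHom (MulAut.conj s).injective B L
    rw [hBs] at h1 h2
    rw [hvl] at h2
    rcases honly _ _ h1 with h3 | h3
    · exact h2.symm.trans h3
    · exfalso
      apply hz1N
      apply hsev.VN
      rw [← h3, h2, ← s2]
      exact conj_mem_cj (subset_closure (by simp))
  refine false_of_sev (s := s) (L := L) (k := k) (V₁ := closure {e 0 1, e 0 4})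
    ⟨f.ne 0 1 (by decide), hB, hzc, hs, s1, s2, sV, yc, hsev, hL, hb, hvl, ?_⟩ hty
  rw [fiv_sup f]
  exact hLM.trans f.norm

end Cfsg.Agent.OddCyclic.RedFiveThree
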