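import Cfsg.Agent.OddCyclic.RedCtx
import Cfsg.Agent.OddCyclic.RedE
import Cfsg.Agent.OddCyclic.RedFiveThreeX
import Cfsg.Agent.OddCyclic.Om5One

/-!
# S0342, (C2), section 5'' (D): two planes over `B = bau S`

`TwoP S M U φ e`: `M = N_G(U)` is of type (S5), the two planes `V₁ = ⟨e 0 1, e 0 4⟩`, `V₂ = ⟨e 2 3, e 2 4⟩` are the only
planes over `B = bau S`, no `SL₂(q)`-block over `B`, `S` is in at least two maximal 2-locals.

* (5.1): `Ω₁Z(B) = ⟨e 0 1, e 2 3⟩`, `B` is Sylow in `C_G(e 0 1)`;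
* (5.2): `C_G(e 0 1)` of type (1): the configuration (Omega5) (`Om5.Sit`);
* (5.3): `C_G(e 0 1)` of type (L3a) is impossible (`RedFiveThree.false_of_fiv`).
-/

set_option autoImplicit false
set_option linter.unusedSectionVars false

namespace Cfsg.Agent.OddCyclic.RedD

open Subgroup Cfsg Cfsg.Agent.ZN Cfsg.Agent.ZN.ChoiceBase Cfsg.Agent.MinSimple Cfsg.Agent.MinSimple.DBlkApi
open Cfsg.Agent.OddCyclic.RedTy Cfsg.Agent.OddCyclic.Red Cfsg.Agent.OddCyclic.RedCtx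
open Cfsg.Agent.OddCyclic.COneDefs (LBlk)
open Cfsg.Agent.OddCyclic.RedX (mod Loc IsB)
open Cfsg.Agent.OddCyclic.T1Defs (OddCyc)
open Cfsg.Agent.LieExceptional.CITDefs (IsSyl2)

universe u

variable {G : Type u} [Group G] [Finite G]

/-- the two planes -/
abbrev p1 (e : Fin 5 → Fin 5 → G) : Subgroup G := closure {e 0 1, e 0 4}
abbrev p2 (e : Fin 5 → Fin 5 → G) : Subgroup G := closure {e 2 3, e 2 4}

theorem fiv_p_ne {X T Y U : Subgroup G} {φ : X →* Equiv.Perm (Fin 5)} {e : Fin 5 → Fin 5 → G}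
    (h : FivY X T Y U φ e) : p1 e ≠ p2 e := by
  intro heq
  have hU : p1 e = U := by
    have := RedFiveThree.fiv_sup h
    rwa [show closure {e 2 3, e 2 4} = closure {e 0 1, e 0 4} from heq.symm, sup_idem] at this
  obtain ⟨L, k, -, hL, hv⟩ := h.blk₁
  have hcard : Nat.card (p1 e) = 4 := by rw [← hL.card_vl, hv]
  have hsq : ∀ v ∈ p1 e, v ^ 2 = 1 := fun v hv => by rw [pow_two]; exact h.sq v (hU ▸ hv)
  have hne : ∀ i j, i ≠ 0 → j ≠ 0 → i ≠ j → e 0 i ≠ e 0 j := by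
    intro i j _ _ hij h1
    apply h.ne i j hij
    rw [← h.mul i 0 j, h.symm i 0, h1]
    exact h.sq _ (h.mem _ _)
  have h4 := Four.four hcard hsq (hU ▸ h.mem 0 1) (hU ▸ h.mem 0 4) (h.ne 0 1 (by decide)) (h.ne 0 4 (by decide))
    (hne 1 4 (by decide) (by decide) (by decide))
  have h2 : e 0 2 = e 0 1 * e 0 4 := by
    rcases h4 _ (hU ▸ h.mem 0 2) with h1 | h1 | h1 | h1
    · exact absurd h1 (h.ne 0 2 (by decide))
    · exact absurd h1 (hne 2 1 (by decide) (by decide) (by decide))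
    · exact absurd h1 (hne 2 4 (by decide) (by decide) (by decide))
    · exact h1
  have h3 : e 0 3 = e 0 1 * e 0 4 := by
    rcases h4 _ (hU ▸ h.mem 0 3) with h1 | h1 | h1 | h1
    · exact absurd h1 (h.ne 0 3 (by decide))
    · exact absurd h1 (hne 3 1 (by decide) (by decide) (by decide))
    · exact absurd h1 (hne 3 4 (by decide) (by decide) (by decide))
    · exact h1
  exact hne 2 3 (by decide) (by decide) (by decide) (h2.trans h3.symm)

/-- blocks with different planes in `X` of type (S5) generate `U` -/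
theorem fiv_sup_vl {X T Y U L L' : Subgroup G} {φ : X →* Equiv.Perm (Fin 5)} {e : Fin 5 → Fin 5 → G} {k k' : ℕ}
    (h : FivY X T Y U φ e) (hLX : L ≤ X) (hLX' : L' ≤ X) (hL : IsDBlk (bau T) L k) (hL' : IsDBlk (bau T) L' k')
    (hne : vl (bau T) L ≠ vl (bau T) L') : vl (bau T) L ⊔ vl (bau T) L' = U := by
  have h0 := RedFiveThree.fiv_sup h
  rcases h.only L k hLX hL with ⟨a1, -⟩ | ⟨a1, -⟩ <;> rcases h.only L' k' hLX' hL' with ⟨b1, -⟩ | ⟨b1, -⟩
  · exact absurd (a1.trans b1.symm) hne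
  · rw [a1, b1]; exact h0
  · rw [a1, b1, sup_comm]; exact h0
  · exact absurd (a1.trans b1.symm) hne

variable {S : Sylow 2 G}

/-- the situation of (D) -/
structure TwoP (S : Sylow 2 G) (M U : Subgroup G) (φ : M →* Equiv.Perm (Fin 5)) (e : Fin 5 → Fin 5 → G) : Prop where
  ctx : Ctx S
  loc : Loc M (S : Subgroup G)
  fiv : Fiv M (S : Subgroup G) U φ e
  norm : M = normalizer (U : Set G)
  two : ∀ (L : Subgroup G) (k : ℕ), IsDBlk (bau (S : Subgroup G)) L k →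
    vl (bau (S : Subgroup G)) L = p1 e ∨ vl (bau (S : Subgroup G)) L = p2 e
  nolin : ∀ (L : Subgroup G) (q : ℕ), ¬ LBlk (bau (S : Subgroup G)) L q
  nu : ∀ M : Subgroup G, IsTwoLocal M → (S : Subgroup G) ≤ M →
    ∃ X : Subgroup G, IsTwoLocal X ∧ (S : Subgroup G) ≤ X ∧ ¬ X ≤ M

theorem perm_four : (Finset.univ.filter fun π : Equiv.Perm (Fin 5) =>
    ((π 0 = 0 ∧ π 1 = 1) ∨ (π 0 = 1 ∧ π 1 = 0)) ∧ ((π 2 = 2 ∧ π 3 = 3) ∨ (π 2 = 3 ∧ π 3 = 2))).card ≤ 4 := by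
  decide +kernel

namespace TwoP

variable {M U : Subgroup G} {φ : M →* Equiv.Perm (Fin 5)} {e : Fin 5 → Fin 5 → G}
  (h : TwoP S M U φ e)

include h

theorem frame : Om5.Frame M U φ e where
  norm := h.norm
  surj := h.fiv.surj
  ker := h.fiv.ker
  sq := h.fiv.sq
  mem := h.fiv.mem
  self := h.fiv.self
  ne := h.fiv.ne
  symm := h.fiv.symm
  mul := h.fiv.mul
  all := h.fiv.all
  conj := h.fiv.conj

theorem p_ne : p1 e ≠ p2 e := fiv_p_ne h.fiv

theorem exists_L1 : ∃ (L : Subgroup G) (k : ℕ), L ≤ M ∧ IsDBlk (bau (S : Subgroup G)) L k ∧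
    vl (bau (S : Subgroup G)) L = p1 e ∧ IsPt (bau (S : Subgroup G)) L (e 0 1) ∧ e 2 3 ∈ rl (bau (S : Subgroup G)) L := by
  obtain ⟨L, k, h1, h2, h3⟩ := h.fiv.blk₁
  rcases h.fiv.only L k h1 h2 with ⟨a1, a2, a3⟩ | ⟨a1, -, -⟩
  · exact ⟨L, k, h1, h2, h3, a2, a3⟩
  · exact absurd (h3.symm.trans a1) h.p_ne

theorem exists_L2 : ∃ (L : Subgroup G) (k : ℕ), L ≤ M ∧ IsDBlk (bau (S : Subgroup G)) L k ∧
    vl (bau (S : Subgroup G)) L = p2 e ∧ IsPt (bau (S : Subgroup G)) L (e 2 3) ∧ e 0 1 ∈ rl (bau (S : Subgroup G)) L := by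
  obtain ⟨L, k, h1, h2, h3⟩ := h.fiv.blk₂
  rcases h.fiv.only L k h1 h2 with ⟨a1, -, -⟩ | ⟨a1, a2, a3⟩
  · exact absurd (a1.symm.trans h3) h.p_ne
  · exact ⟨L, k, h1, h2, h3, a2, a3⟩

theorem e01 : e 0 1 ∈ zc (bau (S : Subgroup G)) := by
  obtain ⟨_, _, _, _, _, h1, _⟩ := h.exists_L1; exact h1.2.1

theorem e23 : e 2 3 ∈ zc (bau (S : Subgroup G)) := by
  obtain ⟨_, _, _, _, _, h1, _⟩ := h.exists_L2; exact h1.2.1

theorem e01_ne : e 0 1 ≠ 1 := h.fiv.ne 0 1 (by decide)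
theorem e23_ne : e 2 3 ≠ 1 := h.fiv.ne 2 3 (by decide)

theorem e_ne : e 0 1 ≠ e 2 3 := fun h1 => by
  rcases h.frame.e_inj (by decide) h1 with ⟨h2, -⟩ | ⟨h2, -⟩
  · exact absurd h2 (by decide)
  · exact absurd h2 (by decide)

theorem e01_sq : e 0 1 * e 0 1 = 1 := h.fiv.sq _ (h.fiv.mem _ _)
theorem e23_sq : e 2 3 * e 2 3 = 1 := h.fiv.sq _ (h.fiv.mem _ _)
theorem e_comm : e 0 1 * e 2 3 = e 2 3 * e 0 1 := fiv_comm h.fiv (h.fiv.mem _ _) (h.fiv.mem _ _)

theorem vl_conj {L : Subgroup G} {k : ℕ} (hL : IsDBlk (bau (S : Subgroup G)) L k) {g : G}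
    (hg : g ∈ normalizer (bau (S : Subgroup G) : Set G)) :
    IsDBlk (bau (S : Subgroup G)) (cj g L) k ∧
      vl (bau (S : Subgroup G)) (cj g L) = cj g (vl (bau (S : Subgroup G)) L) := by
  have hBg : (bau (S : Subgroup G)).map (MulAut.conj g).toMonoidHom = bau (S : Subgroup G) :=
    ChoiceBase.mem_normalizer_iff_cj.mp hg
  have h' := hL.conj g
  rw [hBg] at h'
  refine ⟨h', ?_⟩
  have h2 := vl_map (B := bau (S : Subgroup G)) (L := L) (MulAut.conj g).toMonoidHom (MulAut.conj g).injective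
  rw [hBg] at h2
  exact h2

theorem cj_p {g : G} (hg : g ∈ normalizer (bau (S : Subgroup G) : Set G)) :
    (cj g (p1 e) = p1 e ∧ cj g (p2 e) = p2 e) ∨ (cj g (p1 e) = p2 e ∧ cj g (p2 e) = p1 e) := by
  obtain ⟨L1, k1, -, a1, a2, -⟩ := h.exists_L1
  obtain ⟨L2, k2, -, b1, b2, -⟩ := h.exists_L2
  obtain ⟨c1, c2⟩ := h.vl_conj a1 hg
  obtain ⟨d1, d2⟩ := h.vl_conj b1 hg
  have e1 := h.two _ _ c1
  have e2 := h.two _ _ d1
  rw [c2, a2] at e1
  rw [d2, b2] at e2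
  have hinj : ∀ {A B : Subgroup G}, cj g A = cj g B → A = B := fun {A B} hAB =>
    Subgroup.map_injective (MulAut.conj g).injective hAB
  rcases e1 with e1 | e1
  · left
    refine ⟨e1, e2.resolve_left fun h1 => h.p_ne (hinj (e1.trans h1.symm))⟩
  · right
    refine ⟨e1, e2.resolve_right fun h1 => h.p_ne (hinj (e1.trans h1.symm))⟩

theorem U_eq : p1 e ⊔ p2 e = U := RedFiveThree.fiv_sup h.fiv

theorem nB_le : normalizer (bau (S : Subgroup G) : Set G) ≤ M := by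
  intro g hg
  rw [h.norm, ChoiceBase.mem_normalizer_iff_cj, ← h.U_eq]
  change (p1 e ⊔ p2 e).map _ = _
  rw [Subgroup.map_sup]
  change cj g (p1 e) ⊔ cj g (p2 e) = _
  rcases h.cj_p hg with ⟨h1, h2⟩ | ⟨h1, h2⟩
  · rw [h1, h2]
  · rw [h1, h2, sup_comm]

theorem S_nB : (S : Subgroup G) ≤ normalizer (bau (S : Subgroup G) : Set G) := RedE.S_nb S

theorem zc_conj {g : G} (hg : g ∈ normalizer (bau (S : Subgroup G) : Set G)) {x : G}
    (hx : x ∈ zc (bau (S : Subgroup G))) : g * x * g⁻¹ ∈ zc (bau (S : Subgroup G)) :=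
  Four.conj_mem (VModule.normalizer_le_normalizer_zc _ hg) hx

theorem pt1 {x : G} (hx : x ∈ p1 e) (hz : x ∈ zc (bau (S : Subgroup G))) (h1 : x ≠ 1) : x = e 0 1 := by
  obtain ⟨L, k, -, a1, a2, a3, -⟩ := h.exists_L1
  exact (eq_of_mem a1 a3 (a2 ▸ hx) hz).resolve_left h1

theorem pt2 {x : G} (hx : x ∈ p2 e) (hz : x ∈ zc (bau (S : Subgroup G))) (h1 : x ≠ 1) : x = e 2 3 := by
  obtain ⟨L, k, -, a1, a2, a3, -⟩ := h.exists_L2
  exact (eq_of_mem a1 a3 (a2 ▸ hx) hz).resolve_left h1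

theorem m01 : e 0 1 ∈ p1 e := subset_closure (by simp)
theorem m23 : e 2 3 ∈ p2 e := subset_closure (by simp)

theorem act {g : G} (hg : g ∈ normalizer (bau (S : Subgroup G) : Set G)) :
    (cj g (p1 e) = p1 e ∧ cj g (p2 e) = p2 e ∧ g * e 0 1 * g⁻¹ = e 0 1 ∧ g * e 2 3 * g⁻¹ = e 2 3) ∨
      (cj g (p1 e) = p2 e ∧ cj g (p2 e) = p1 e ∧ g * e 0 1 * g⁻¹ = e 2 3 ∧ g * e 2 3 * g⁻¹ = e 0 1) := by
  have c1 : g * e 0 1 * g⁻¹ ∈ cj g (p1 e) := ⟨_, h.m01, rfl⟩
  have c2 : g * e 2 3 * g⁻¹ ∈ cj g (p2 e) := ⟨_, h.m23, rfl⟩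
  have n1 : g * e 0 1 * g⁻¹ ≠ 1 := fun h0 => h.e01_ne (conj_eq_one_iff.1 h0)
  have n2 : g * e 2 3 * g⁻¹ ≠ 1 := fun h0 => h.e23_ne (conj_eq_one_iff.1 h0)
  rcases h.cj_p hg with ⟨h1, h2⟩ | ⟨h1, h2⟩
  · left
    rw [h1] at c1
    rw [h2] at c2
    exact ⟨h1, h2, h.pt1 c1 (h.zc_conj hg h.e01) n1, h.pt2 c2 (h.zc_conj hg h.e23) n2⟩
  · right
    rw [h1] at c1
    rw [h2] at c2
    exact ⟨h1, h2, h.pt2 c1 (h.zc_conj hg h.e01) n1, h.pt1 c2 (h.zc_conj hg h.e23) n2⟩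

theorem eight_dvd : 8 ∣ Nat.card (((S : Subgroup G).subgroupOf M).map φ) := by
  have : Fact (Nat.Prime 2) := ⟨Nat.prime_two⟩
  have h2 : ¬ 2 ∣ ((S : Subgroup G).subgroupOf M).index := h.loc.syl
  have h3 : (((S : Subgroup G).subgroupOf M).map φ).index ∣ ((S : Subgroup G).subgroupOf M).index :=
    ((S : Subgroup G).subgroupOf M).index_map_dvd h.fiv.surj
  have h4 := (((S : Subgroup G).subgroupOf M).map φ).card_mul_index
  rw [Nat.card_eq_fintype_card (α := Equiv.Perm (Fin 5)), Fintype.card_perm, Fintype.card_fin] at h4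
  have h5 : (2 ^ 3).Coprime (((S : Subgroup G).subgroupOf M).map φ).index := by
    refine Nat.Coprime.pow_left 3 ?_
    exact (Nat.Prime.coprime_iff_not_dvd Nat.prime_two).2 fun h6 => h2 (h6.trans h3)
  refine (h5.dvd_mul_right).1 ?_
  rw [h4]
  decide

/-- some `s ∈ S` swaps the two planes -/
theorem exists_s : ∃ s ∈ (S : Subgroup G), cj s (p1 e) = p2 e ∧ cj s (p2 e) = p1 e ∧ s * e 0 1 * s⁻¹ = e 2 3 ∧
    s * e 2 3 * s⁻¹ = e 0 1 := by
  by_contra hcon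
  push Not at hcon
  have key : ∀ s ∈ (S : Subgroup G), s * e 0 1 * s⁻¹ = e 0 1 ∧ s * e 2 3 * s⁻¹ = e 2 3 := by
    intro s hs
    rcases h.act (h.S_nB hs) with ⟨-, -, h1, h2⟩ | ⟨h1, h2, h3, h4⟩
    · exact ⟨h1, h2⟩
    · exact absurd h4 (hcon s hs h1 h2 h3)
  have h8 := h.eight_dvd
  have h1 : Nat.card (((S : Subgroup G).subgroupOf M).map φ) ≤ 4 := by
    classical
    refine le_trans ?_ perm_four
    rw [← Nat.card_eq_finsetCard]
    refine Nat.card_le_card_of_injective (fun x : ((S : Subgroup G).subgroupOf M).map φ => (⟨x.1, ?_⟩ :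
      (Finset.univ.filter fun π : Equiv.Perm (Fin 5) =>
        ((π 0 = 0 ∧ π 1 = 1) ∨ (π 0 = 1 ∧ π 1 = 0)) ∧ ((π 2 = 2 ∧ π 3 = 3) ∨ (π 2 = 3 ∧ π 3 = 2))))) ?_
    · obtain ⟨s, hs, hsx⟩ := x.2
      rw [Finset.mem_filter]
      refine ⟨Finset.mem_univ _, ?_⟩
      obtain ⟨k1, k2⟩ := key s hs
      rw [h.fiv.conj] at k1 k2
      rw [← hsx]
      constructor
      · exact h.frame.e_inj (fun h0 => absurd ((φ s).injective h0) (by decide)) k1
      · exact h.frame.e_inj (fun h0 => absurd ((φ s).injective h0) (by decide)) k2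
    · intro x y hxy
      exact Subtype.ext (congrArg (fun z => z.1) hxy)
  have h2 : 0 < Nat.card (((S : Subgroup G).subgroupOf M).map φ) := Nat.card_pos
  have := Nat.le_of_dvd h2 h8
  omega

theorem S_fix {s : G} (hs : s ∈ (S : Subgroup G)) : s * (e 0 1 * e 2 3) = e 0 1 * e 2 3 * s := by
  rw [← Four.conj_eq_iff_comm]
  have e1 : s * (e 0 1 * e 2 3) * s⁻¹ = (s * e 0 1 * s⁻¹) * (s * e 2 3 * s⁻¹) := by group
  rw [e1]
  rcases h.act (h.S_nB hs) with ⟨-, -, h1, h2⟩ | ⟨-, -, h1, h2⟩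
  · rw [h1, h2]
  · rw [h1, h2, h.e_comm]

theorem M_local : IsTwoLocal M := by
  refine ⟨U, ?_, ?_, h.norm⟩
  · intro u
    exact ⟨1, Subtype.ext (by rw [pow_one, pow_two]; exact h.fiv.sq u u.2)⟩
  · intro h0
    have := h.fiv.mem 0 1
    rw [h0, mem_bot] at this
    exact h.e01_ne this

/-- a 2-local containing blocks for both planes lies in `M` -/
theorem le_M {R L L' : Subgroup G} {k k' : ℕ} (hR : IsPGroup 2 R) (hR1 : R ≠ ⊥)
    (hL : IsDBlk (bau (S : Subgroup G)) L k) (hL' : IsDBlk (bau (S : Subgroup G)) L' k')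
    (hv : vl (bau (S : Subgroup G)) L = p1 e) (hv' : vl (bau (S : Subgroup G)) L' = p2 e)
    (h1 : L ≤ normalizer (R : Set G)) (h2 : L' ≤ normalizer (R : Set G)) : normalizer (R : Set G) ≤ M := by
  obtain ⟨T, hBT, hb, hloc, ht⟩ := h.ctx.exists_ty hR hR1 (hL.le.trans h1)
  rw [← hb] at hL hL' hv hv'
  have hne : vl (bau T) L ≠ vl (bau T) L' := by rw [hv, hv']; exact h.p_ne
  obtain ⟨U', φ', e', hf⟩ := fiv_of_two (yc_mod hloc) ht h1 h2 hL hL' hne
  have h3 := fiv_sup_vl hf h1 h2 hL hL' hne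
  rw [hv, hv', h.U_eq] at h3
  rw [h.norm, h3]
  exact hf.norm

/-- the 2-locals over `S` -/
theorem cases_S {X : Subgroup G} (hX : IsTwoLocal X) (hSX : (S : Subgroup G) ≤ X) :
    X ≤ M ∨ X ≤ centralizer (zc (S : Subgroup G) : Set G) ⊔ normalizer (jj (S : Subgroup G) : Set G) := by
  obtain ⟨s, hs, s1, s2, s3, s4⟩ := h.exists_s
  have hno : ∀ (L : Subgroup G) (k : ℕ), IsDBlk (bau (S : Subgroup G)) L k →
      ¬ (S : Subgroup G) ≤ normalizer (vl (bau (S : Subgroup G)) L : Set G) := by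
    intro L k hL hn
    have h1 := ChoiceBase.mem_normalizer_iff_cj.1 (hn hs)
    rcases h.two L k hL with h2 | h2
    · rw [h2, s1] at h1; exact h.p_ne h1.symm
    · rw [h2, s2] at h1; exact h.p_ne h1
  obtain ⟨R, hR, hR1, rfl⟩ := hX
  obtain ⟨hloc, ht⟩ := h.ctx.ty_syl hR hR1 hSX
  cases ht with
  | zero h0 => exact Or.inr (RedE.zero_gen hloc h0)
  | tri V h1 =>
    obtain ⟨L, k, -, h2, h3⟩ := h1.blk
    exact absurd (hSX.trans (h3 ▸ h1.norm)) (hno L k h2)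
  | sev N V z h1 =>
    obtain ⟨L, k, -, h2, h3⟩ := h1.blk
    exact absurd (h3 ▸ h1.T_norm) (hno L k h2)
  | fiv U' φ' e' h1 =>
    left
    obtain ⟨L1, k1, a1, a2, a3⟩ := h1.blk₁
    obtain ⟨L2, k2, b1, b2, b3⟩ := h1.blk₂
    have hne : vl (bau (S : Subgroup G)) L1 ≠ vl (bau (S : Subgroup G)) L2 := by rw [a3, b3]; exact fiv_p_ne h1
    rcases h.two L1 k1 a2 with c1 | c1 <;> rcases h.two L2 k2 b2 with c2 | c2
    · exact absurd (c1.trans c2.symm) hne
    · exact h.le_M hR hR1 a2 b2 c1 c2 a1 b1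
    · exact h.le_M hR hR1 b2 a2 c2 c1 b1 a1
    · exact absurd (c1.trans c2.symm) hne
  | lin L q h1 => exact absurd h1.blk (h.nolin L q)
  | bc L h1 => exact Or.inr (h1.gen.trans (sup_le_sup inf_le_right inf_le_right))

/-- `C_G(Ω₁Z(S))` is not in `M` -/
theorem not_le : ¬ centralizer (zc (S : Subgroup G) : Set G) ≤ M := by
  intro hZ
  have hj : normalizer (jj (S : Subgroup G) : Set G) ≤ M :=
    (RedE.nJ_le S).trans (sup_le ((centralizer_le (ChoiceBase.zc_le_zj _)).trans hZ) h.nB_le)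
  obtain ⟨X, h1, h2, h3⟩ := h.nu M h.M_local h.loc.TX
  rcases h.cases_S h1 h2 with h4 | h4
  · exact h3 h4
  · exact h3 (h4.trans (sup_le hZ hj))

/-- `rl B L` depends only on the plane -/
theorem rl_conj (L : Subgroup G) {g : G}
    (hg : g ∈ normalizer (bau (S : Subgroup G) : Set G)) :
    rl (bau (S : Subgroup G)) (cj g L) = cj g (rl (bau (S : Subgroup G)) L) := by
  have hBg : (bau (S : Subgroup G)).map (MulAut.conj g).toMonoidHom = bau (S : Subgroup G) :=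
    ChoiceBase.mem_normalizer_iff_cj.mp hg
  have h2 := rl_map (B := bau (S : Subgroup G)) (L := L) (MulAut.conj g).toMonoidHom (MulAut.conj g).injective
  rw [hBg] at h2
  exact h2

/-- (5.1) `R₁ ∩ R₂ = 1` -/
theorem rl_inf {L1 L2 : Subgroup G} {k1 k2 : ℕ} (a : IsDBlk (bau (S : Subgroup G)) L1 k1)
    (b : IsDBlk (bau (S : Subgroup G)) L2 k2) (av : vl (bau (S : Subgroup G)) L1 = p1 e)
    (bv : vl (bau (S : Subgroup G)) L2 = p2 e) :
    rl (bau (S : Subgroup G)) L1 ⊓ rl (bau (S : Subgroup G)) L2 = ⊥ := by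
  have hf : Fact (Nat.Prime 2) := ⟨Nat.prime_two⟩
  set B := bau (S : Subgroup G) with hB
  by_contra hne
  have hle : rl B L1 ⊓ rl B L2 ≤ B := inf_le_left.trans ((Block.rl_le B L1).trans (ZN.zc_le _))
  have h2 : 2 ∣ Nat.card (rl B L1 ⊓ rl B L2 : Subgroup G) := by
    have h3 : IsPGroup 2 (rl B L1 ⊓ rl B L2 : Subgroup G) :=
      (S.isPGroup'.to_le (ChoiceBase.bau_le _)).to_le hle
    obtain ⟨n, hn⟩ := (IsPGroup.iff_card).mp h3
    rw [hn]
    refine dvd_pow_self 2 ?_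
    rintro rfl
    rw [pow_zero] at hn
    exact hne (Subgroup.eq_bot_of_card_eq _ hn)
  have hSn : (S : Subgroup G) ≤ normalizer ((rl B L1 ⊓ rl B L2 : Subgroup G) : Set G) := by
    intro s hs
    have hsB := h.S_nB hs
    have e1 := h.rl_conj L1 hsB
    have e2 := h.rl_conj L2 hsB
    obtain ⟨a', av'⟩ := h.vl_conj a hsB
    obtain ⟨b', bv'⟩ := h.vl_conj b hsB
    rw [av] at av'
    rw [bv] at bv'
    rw [ChoiceBase.mem_normalizer_iff_cj]
    change (rl B L1 ⊓ rl B L2).map _ = _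
    rw [Subgroup.map_inf _ _ _ (MulAut.conj s).injective]
    change cj s (rl B L1) ⊓ cj s (rl B L2) = _
    rw [← e1, ← e2]
    rcases h.cj_p hsB with ⟨c1, c2⟩ | ⟨c1, c2⟩
    · rw [CaseDiv.rl_eq_rl S a' a (av'.trans (c1.trans av.symm)), CaseDiv.rl_eq_rl S b' b (bv'.trans (c2.trans bv.symm))]
    · rw [CaseDiv.rl_eq_rl S a' b (av'.trans (c1.trans bv.symm)), CaseDiv.rl_eq_rl S b' a (bv'.trans (c2.trans av.symm)),
        inf_comm]
  obtain ⟨ζ, hζ, hζ1, hc⟩ := RedFiveThree.exists_fix S.isPGroup' h2 hSn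
  have hsq : ζ ^ 2 = 1 := zc_sq (Block.rl_le B L1 hζ.1)
  have hzs : ζ ∈ zc (S : Subgroup G) := ZN.mem_zc.2 ⟨ChoiceBase.bau_le _ (hle hζ), hc, hsq⟩
  have hR : IsPGroup 2 (zpowers ζ) := Geo.isPGroup_zpowers (by rw [← pow_two]; exact hsq)
  have hn : normalizer (zpowers ζ : Set G) = centralizer ({ζ} : Set G) :=
    Geo.normalizer_zpowers (by rw [← pow_two]; exact hsq) hζ1
  refine h.not_le (le_trans (centralizer_le (Set.singleton_subset_iff.2 hzs)) ?_)
  rw [← hn]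
  refine h.le_M hR (by simpa using hζ1) a b av bv ?_ ?_
  · rw [hn]
    intro l hl
    rw [mem_centralizer_singleton_iff]
    exact rl_comm hζ.1 hl
  · rw [hn]
    intro l hl
    rw [mem_centralizer_singleton_iff]
    exact rl_comm hζ.2 hl

/-- (5.1) -/
theorem zc_cases {x : G} (hx : x ∈ zc (bau (S : Subgroup G))) :
    x = 1 ∨ x = e 0 1 ∨ x = e 2 3 ∨ x = e 0 1 * e 2 3 := by
  obtain ⟨L1, k1, -, a1, a2, a3, a4⟩ := h.exists_L1
  obtain ⟨L2, k2, -, b1, b2, b3, b4⟩ := h.exists_L2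
  have hinf := h.rl_inf a1 b1 a2 b2
  have key : ∀ y, y ∈ rl (bau (S : Subgroup G)) L1 → y ∈ rl (bau (S : Subgroup G)) L2 → y = 1 := fun y y1 y2 => by
    have : y ∈ rl (bau (S : Subgroup G)) L1 ⊓ rl (bau (S : Subgroup G)) L2 := ⟨y1, y2⟩
    rw [hinf, mem_bot] at this
    exact this
  have hinv : ∀ {u y : G}, u * u = 1 → u * y = 1 → y = u := by
    intro u y h1 h2
    calc y = (u * u) * y := by rw [h1, one_mul]
      _ = u * (u * y) := by group
      _ = u := by rw [h2, mul_one]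
  rcases mem_zc_cases a1 a3 hx with h1 | h1 <;> rcases mem_zc_cases b1 b3 hx with h2 | h2
  · exact Or.inl (key x h1 h2)
  · right; right; left
    exact hinv h.e23_sq (key _ (mul_mem a4 h1) h2)
  · right; left
    exact hinv h.e01_sq (key _ h1 (mul_mem b4 h2))
  · right; right; right
    have h3 := key (e 0 1 * (e 2 3 * x)) (by
      have e1 : e 0 1 * (e 2 3 * x) = e 2 3 * (e 0 1 * x) := by rw [← mul_assoc, ← mul_assoc, h.e_comm]
      rw [e1]; exact mul_mem a4 h1) (mul_mem b4 h2)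
    have h4 : (e 0 1 * e 2 3) * (e 0 1 * e 2 3) = 1 := by
      calc (e 0 1 * e 2 3) * (e 0 1 * e 2 3) = e 0 1 * (e 2 3 * e 0 1) * e 2 3 := by group
        _ = (e 0 1 * e 0 1) * (e 2 3 * e 2 3) := by rw [← h.e_comm]; group
        _ = 1 := by rw [h.e01_sq, h.e23_sq, one_mul]
    exact hinv h4 (by rw [mul_assoc]; exact h3)

/-- (5.1) `B` is Sylow in `C_G(e 0 1)` -/
theorem cent01 : bau (bau (S : Subgroup G)) = bau (S : Subgroup G) ∧
    Loc (centralizer ({e 0 1} : Set G)) (bau (S : Subgroup G)) ∧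
      Ty (centralizer ({e 0 1} : Set G)) (bau (S : Subgroup G)) := by
  have hR : IsPGroup 2 (zpowers (e 0 1)) := Geo.isPGroup_zpowers h.e01_sq
  have hn : normalizer (zpowers (e 0 1) : Set G) = centralizer ({e 0 1} : Set G) :=
    Geo.normalizer_zpowers h.e01_sq h.e01_ne
  have hBc : bau (S : Subgroup G) ≤ normalizer (zpowers (e 0 1) : Set G) := by
    rw [hn]
    intro b hb
    rw [mem_centralizer_singleton_iff]
    exact ZN.zc_comm h.e01 hb
  obtain ⟨T, hBT, hb, hloc, ht⟩ := h.ctx.exists_ty hR (by simpa using h.e01_ne) hBc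
  rw [hn] at hloc ht
  have hT : T = bau (S : Subgroup G) := by
    refine le_antisymm (fun t ht => ?_) hBT
    have h1 : t ∈ normalizer (bau (S : Subgroup G) : Set G) := SamePt.le_normalizer S hloc.two hBT ht
    have h2 : t * e 0 1 * t⁻¹ = e 0 1 :=
      Four.conj_eq_iff_comm.2 (mem_centralizer_singleton_iff.1 (hloc.TX ht))
    rcases h.act h1 with ⟨-, -, -, h3⟩ | ⟨-, -, h3, -⟩
    · rw [← hb, ChoiceBase.mem_bau]
      refine ⟨ht, ?_⟩
      rw [← ZN.zc_bau, hb]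
      intro x hx
      have c1 := Four.conj_eq_iff_comm.1 h2
      have c2 := Four.conj_eq_iff_comm.1 h3
      rcases h.zc_cases hx with rfl | rfl | rfl | rfl
      · simp
      · exact c1.symm
      · exact c2.symm
      · symm
        calc t * (e 0 1 * e 2 3) = (t * e 0 1) * e 2 3 := by group
          _ = e 0 1 * (t * e 2 3) := by rw [c1]; group
          _ = e 0 1 * e 2 3 * t := by rw [c2]; group
    · exact absurd (h2.symm.trans h3) h.e_ne
  rw [hT] at hb hloc ht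
  exact ⟨hb, hloc, ht⟩

theorem cj_cent (g z : G) : cj g (centralizer ({z} : Set G)) = centralizer ({g * z * g⁻¹} : Set G) :=
  Geo.cj_centralizer_singleton g z

/-- (5.2) `C_G(e 0 1) ≤ N_G(V₂)` implies `C_G(e 0 1) ≤ M` -/
theorem cent_le (h1 : centralizer ({e 0 1} : Set G) ≤ normalizer (p2 e : Set G)) :
    centralizer ({e 0 1} : Set G) ≤ M := by
  obtain ⟨s, hs, s1, s2, s3, s4⟩ := h.exists_s
  obtain ⟨L2, k2, b0, b1, b2, b3, b4⟩ := h.exists_L2
  have h2 : centralizer ({e 2 3} : Set G) ≤ normalizer (p1 e : Set G) := by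
    have h3 : cj s (centralizer ({e 0 1} : Set G)) ≤ cj s (normalizer (p2 e : Set G)) := Subgroup.map_mono h1
    have h4 : cj s (normalizer (p2 e : Set G)) = normalizer (cj s (p2 e) : Set G) := Geo.cj_normalizer s (p2 e)
    rw [h.cj_cent, s3, h4, s2] at h3
    exact h3
  have hM : ∀ g, g ∈ normalizer (p1 e : Set G) → g ∈ normalizer (p2 e : Set G) → g ∈ M := by
    intro g g1 g2
    rw [h.norm, ChoiceBase.mem_normalizer_iff_cj, ← h.U_eq]
    change (p1 e ⊔ p2 e).map _ = _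
    rw [Subgroup.map_sup]
    change cj g (p1 e) ⊔ cj g (p2 e) = _
    rw [ChoiceBase.mem_normalizer_iff_cj.1 g1, ChoiceBase.mem_normalizer_iff_cj.1 g2]
  have h3 : centralizer (p2 e : Set G) ≤ M := fun c hc =>
    hM c (h2 (centralizer_le (Set.singleton_subset_iff.2 h.m23) hc)) (centralizer_le_normalizer _ hc)
  intro g hg
  have hg2 := h1 hg
  rw [← b2] at hg2
  obtain ⟨l, hl, hlg⟩ := CaseDiv.exists_same_action b1 b3 hg2
  rw [b2] at hlg
  have e1 : g = l * (l⁻¹ * g) := by group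
  rw [e1]
  exact mul_mem (b0 hl) (h3 hlg)

/-- (5.2) the configuration (Omega5) -/
theorem sit (h1 : centralizer ({e 0 1} : Set G) ≤ M) : Om5.Sit (S : Subgroup G) M U φ e where
  toFrame := h.frame
  syl := by
    exact ⟨le_top, S.isPGroup', fun Y _ hY hSY => S.3 hY hSY⟩
  le := h.loc.TX
  fix := fun s hs => h.S_fix hs
  blk := fun s hs => by
    rcases h.act (h.S_nB hs) with ⟨-, -, h2, -⟩ | ⟨-, -, h2, -⟩
    · exact Or.inl h2
    · exact Or.inr h2
  inv := by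
    obtain ⟨A, hA, x, hx, hφ⟩ := h.fiv.tr₁
    refine ⟨x, hA.2.1 hx, ?_, hφ⟩
    rw [← pow_two]
    exact hA.1.2 _ hx
  cent := h1
  norm_syl := by
    have h2 : normalizer ((S : Subgroup G) : Set G) ≤ normalizer (bau (S : Subgroup G) : Set G) :=
      ChoiceBase.normalizer_le_bau _
    exact h2.trans h.nB_le
  nonlocal := fun R hR hM hz => by
    by_contra hR1
    obtain ⟨L1, k1, a0, a1, a2, -, -⟩ := h.exists_L1
    obtain ⟨L2, k2, b0, b1, b2, -, -⟩ := h.exists_L2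
    have h2 := h.le_M hR hR1 a1 b1 a2 b2 (a0.trans hM) (b0.trans hM)
    refine h.not_le (le_trans (centralizer_le (Set.singleton_subset_iff.2 ?_)) (hz.trans h2))
    refine ZN.mem_zc.2 ⟨ChoiceBase.bau_le _ (ZN.zc_le _ (mul_mem h.e01 h.e23)), fun s hs => h.S_fix hs, ?_⟩
    exact zc_sq (mul_mem h.e01 h.e23)
  char2 := h.ctx.char2
  cyc := h.ctx.cyc

/-- **(D)** in the situation `TwoP`, (Omega5) is impossible -/
theorem false_of (hO : ∀ (M U : Subgroup G) (φ : M →* Equiv.Perm (Fin 5)) (e : Fin 5 → Fin 5 → G),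
    Om5.Sit (S : Subgroup G) M U φ e → False) : False := by
  obtain ⟨hbb, hloc, ht⟩ := h.cent01
  obtain ⟨L2, k2, b0, b1, b2, b3, b4⟩ := h.exists_L2
  have hLc : L2 ≤ centralizer ({e 0 1} : Set G) := by
    intro l hl
    rw [mem_centralizer_singleton_iff]
    exact rl_comm b4 hl
  have b1' : IsDBlk (bau (bau (S : Subgroup G))) L2 k2 := by rw [hbb]; exact b1
  rcases cases_of_blk (yc_mod hloc) ht hLc b1' with ⟨V, h1⟩ | ⟨N, V, z, h1⟩ | ⟨U', φ', e', h1⟩
  · have hV : V = p2 e := by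
      rw [← h1.only L2 k2 hLc b1', hbb, b2]
    exact hO M U φ e (h.sit (h.cent_le (hV ▸ h1.norm)))
  · obtain ⟨s, hs, s1, s2, s3, s4⟩ := h.exists_s
    refine RedFiveThree.false_of_fiv h.fiv rfl hbb (fun x hx => h.zc_cases hx) (h.S_nB hs) s3 s4 h.two (yc_mod hloc) h1 ?_
    intro W hW hW2 hBW
    obtain ⟨T, -, hb, hl, hty⟩ := h.ctx.exists_ty hW2 hW hBW
    exact ⟨T, _, hb, yc_mod hl, hty⟩
  · exact h1.bau_ne hbb

end TwoP

/-- **(D)**: two planes over `B` do not exist in case (C2). `hlink` is 5(A), `hthree` is 5(B), `hlin` is 5'(C). -/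
theorem vl_unique (c : Ctx S)
    (hlink : ∀ (L L' : Subgroup G) (k k' : ℕ), IsDBlk (bau (S : Subgroup G)) L k → IsDBlk (bau (S : Subgroup G)) L' k' →
      vl (bau (S : Subgroup G)) L ≠ vl (bau (S : Subgroup G)) L' → ∃ (L₁ L₂ : Subgroup G) (k₁ k₂ : ℕ),
        IsDBlk (bau (S : Subgroup G)) L₁ k₁ ∧ IsDBlk (bau (S : Subgroup G)) L₂ k₂ ∧
        vl (bau (S : Subgroup G)) L₁ = vl (bau (S : Subgroup G)) L ∧
        vl (bau (S : Subgroup G)) L₂ = vl (bau (S : Subgroup G)) L' ∧ Loc2 L₁ L₂)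
    (hthree : ∀ (L₁ L₂ L₃ : Subgroup G) (k₁ k₂ k₃ : ℕ), IsDBlk (bau (S : Subgroup G)) L₁ k₁ →
      IsDBlk (bau (S : Subgroup G)) L₂ k₂ → IsDBlk (bau (S : Subgroup G)) L₃ k₃ →
      vl (bau (S : Subgroup G)) L₁ = vl (bau (S : Subgroup G)) L₂ ∨
      vl (bau (S : Subgroup G)) L₁ = vl (bau (S : Subgroup G)) L₃ ∨
      vl (bau (S : Subgroup G)) L₂ = vl (bau (S : Subgroup G)) L₃)
    (hlin : ∀ (L L' : Subgroup G) (k q : ℕ), IsDBlk (bau (S : Subgroup G)) L k → ¬ LBlk (bau (S : Subgroup G)) L' q)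
    (hnu : ∀ M : Subgroup G, IsTwoLocal M → (S : Subgroup G) ≤ M →
      ∃ X : Subgroup G, IsTwoLocal X ∧ (S : Subgroup G) ≤ X ∧ ¬ X ≤ M)
    (hO : ∀ (M U : Subgroup G) (φ : M →* Equiv.Perm (Fin 5)) (e : Fin 5 → Fin 5 → G),
      Om5.Sit (S : Subgroup G) M U φ e → False)
    {L L' : Subgroup G} {k k' : ℕ} (h : IsDBlk (bau (S : Subgroup G)) L k)
    (h' : IsDBlk (bau (S : Subgroup G)) L' k') :
    vl (bau (S : Subgroup G)) L = vl (bau (S : Subgroup G)) L' := by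
  by_contra hne
  obtain ⟨L₁, L₂, k₁, k₂, a1, a2, a3, a4, hl⟩ := hlink L L' k k' h h' hne
  rw [← a3, ← a4] at hne
  obtain ⟨X, T, U, φ, e, hX, hX1, hX2, hBT, hb, hloc, hf⟩ := c.common a1 a2 hl hne
  have hUs : vl (bau (S : Subgroup G)) L₁ ⊔ vl (bau (S : Subgroup G)) L₂ = U := by
    have := fiv_sup_vl (k := k₁) (k' := k₂) hf hX1 hX2 (by rw [hb]; exact a1) (by rw [hb]; exact a2)
      (by rw [hb]; exact hne)
    rwa [hb] at this
  have hU2 : IsPGroup 2 U := fun u => ⟨1, Subtype.ext (by rw [pow_one, pow_two]; exact hf.sq u u.2)⟩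
  have hU1 : U ≠ ⊥ := by
    intro h0
    have := hf.mem 0 1
    rw [h0, mem_bot] at this
    exact hf.ne 0 1 (by decide) this
  -- `N_G(B)` permutes the two planes
  have htwo : ∀ (L : Subgroup G) (k : ℕ), IsDBlk (bau (S : Subgroup G)) L k →
      vl (bau (S : Subgroup G)) L = vl (bau (S : Subgroup G)) L₁ ∨
      vl (bau (S : Subgroup G)) L = vl (bau (S : Subgroup G)) L₂ := by
    intro L k hL
    rcases hthree L L₁ L₂ k k₁ k₂ hL a1 a2 with h1 | h1 | h1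
    · exact Or.inl h1
    · exact Or.inr h1
    · exact absurd h1 hne
  have hnB : (S : Subgroup G) ≤ normalizer (U : Set G) := by
    intro g hg
    have hgB : g ∈ normalizer (bau (S : Subgroup G) : Set G) := RedE.S_nb S hg
    have hBg : (bau (S : Subgroup G)).map (MulAut.conj g).toMonoidHom = bau (S : Subgroup G) :=
      ChoiceBase.mem_normalizer_iff_cj.mp hgB
    have key : ∀ {L : Subgroup G} {k : ℕ}, IsDBlk (bau (S : Subgroup G)) L k →
        cj g (vl (bau (S : Subgroup G)) L) ≤ U := by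
      intro L k hL
      have h' := hL.conj g
      rw [hBg] at h'
      have h2 := vl_map (B := bau (S : Subgroup G)) (L := L) (MulAut.conj g).toMonoidHom (MulAut.conj g).injective
      rw [hBg] at h2
      change (vl (bau (S : Subgroup G)) L).map (MulAut.conj g).toMonoidHom ≤ U
      rw [← h2, ← hUs]
      rcases htwo _ _ h' with h3 | h3
      · rw [h3]; exact le_sup_left
      · rw [h3]; exact le_sup_right
    refine MinSimple.VModule.mem_normalizer_of_map_le ?_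
    conv_lhs => rw [← hUs]
    rw [Subgroup.map_sup]
    exact sup_le (key a1) (key a2)
  obtain ⟨hlocM, htM⟩ := c.ty_syl hU2 hU1 hnB
  have hLM1 : L₁ ≤ normalizer (U : Set G) := hX1.trans hf.norm
  have hLM2 : L₂ ≤ normalizer (U : Set G) := hX2.trans hf.norm
  obtain ⟨U', φ', e', hf'⟩ := fiv_of_two (yc_mod hlocM) htM hLM1 hLM2 a1 a2 hne
  have hUU : U = U' := hUs.symm.trans (fiv_sup_vl hf' hLM1 hLM2 a1 a2 hne)
  have hT : TwoP S (normalizer (U : Set G)) U' φ' e' := {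
    ctx := c
    loc := hlocM
    fiv := hf'
    norm := by rw [hUU]
    two := fun L k hL => by
      rcases hf'.only L₁ k₁ hLM1 a1 with ⟨c1, -⟩ | ⟨c1, -⟩ <;> rcases hf'.only L₂ k₂ hLM2 a2 with ⟨c2, -⟩ | ⟨c2, -⟩
      · exact absurd (c1.trans c2.symm) hne
      · rcases htwo L k hL with h1 | h1
        · exact Or.inl (h1.trans c1)
        · exact Or.inr (h1.trans c2)
      · rcases htwo L k hL with h1 | h1
        · exact Or.inr (h1.trans c1)
        · exact Or.inl (h1.trans c2)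
      · exact absurd (c1.trans c2.symm) hne
    nolin := fun L' q => hlin L₁ L' k₁ q a1
    nu := hnu }
  exact hT.false_of hO

end Cfsg.Agent.OddCyclic.RedD
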