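import Cfsg.Agent.OddCyclic.RedE

/-!
# S0342, (C2), (E) = (5.4)-(5.8): exactly one plane and `⟨N_G(V), C_G(z)⟩` nonlocal

`Z_J = ⟨z⟩`, `B = S`, and every 2-local `X ≥ S` is `≤ C_G(z)` (type `zero`), `≤ N_G(V)` (type `tri`) or `≤ N_G(N)`
(type `sev`).
-/

set_option autoImplicit false
set_option linter.unusedSectionVars false

namespace Cfsg.Agent.OddCyclic.RedE

open Subgroup Cfsg Cfsg.Agent.ZN Cfsg.Agent.MinSimple Cfsg.Agent.MinSimple.DBlkApi
open Cfsg.Agent.MinSimple.LemX (nc le_nc nc_le le_normalizer_nc)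
open Cfsg.Agent.OddCyclic.T1Defs (OddCyc)
open Cfsg.Agent.OddCyclic.COneDefs (LBlk)
open Cfsg.Agent.OddCyclic.RedX (mod Loc)
open Cfsg.Agent.OddCyclic.RedTy

universe u

variable {G : Type u} [Group G] [Finite G]

variable {S : Sylow 2 G} {L : Subgroup G} {k : ℕ} {z : G}

/-- exactly one plane, `⟨N_G(V), C_G(z)⟩` nonlocal -/
structure NL (S : Sylow 2 G) (L : Subgroup G) (k : ℕ) (z : G) : Prop extends Base S L k z where
  nl : ∀ M : Subgroup G, IsTwoLocal M → normalizer (vl (bau (S : Subgroup G)) L : Set G) ≤ M →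
    centralizer ({z} : Set G) ≤ M → False

/-- `⟨V^{C_G(Ω₁Z(S))}⟩` -/
def nn (S L : Subgroup G) : Subgroup G := nc (centralizer (zc S : Set G)) (vl (bau S) L)

namespace NL

theorem isPGroup_R (h : NL S L k z) : IsPGroup 2 (rl (bau (S : Subgroup G)) L) :=
  h.blk.two.to_le ((rl_le_zl _ _).trans (zl_le_B h.blk))

/-- an `S`-invariant subgroup of `R` contains an element of `Ω₁Z(S)` -/
theorem exists_u (h : NL S L k z) {D : Subgroup G} (hD : D ≤ rl (bau (S : Subgroup G)) L)
    (hS : (S : Subgroup G) ≤ normalizer (D : Set G)) (h1 : D ≠ ⊥) : ∃ u ∈ D, u ≠ 1 ∧ u ∈ zc (S : Subgroup G) := by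
  have hf : Fact (Nat.Prime 2) := ⟨Nat.prime_two⟩
  have h3 := PLocal.OffenderStep.inf_centralizer_ne_bot D (S : Subgroup G) (h.isPGroup_R.to_le hD) S.isPGroup' hS h1
  obtain ⟨⟨u, hu⟩, hu1⟩ := Subgroup.ne_bot_iff_exists_ne_one.mp h3
  refine ⟨u, hu.1, fun h0 => hu1 (Subtype.ext h0), ?_⟩
  have h4 : u ∈ zc (bau (S : Subgroup G)) := rl_le_zc _ _ (hD hu.1)
  exact ChoiceBase.mem_zc.2 ⟨ChoiceBase.bau_le _ (ChoiceBase.mem_zc.1 h4).1, (ChoiceBase.mem_zc.1 h4).2.1,
    fun y hy => mem_centralizer_iff.1 hu.2 y hy⟩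

theorem jj_not (h : NL S L k z) : ¬ jj (S : Subgroup G) ≤ centralizer (vl (bau (S : Subgroup G)) L : Set G) := by
  intro h1
  apply h.blk.not_jj_le
  rw [ChoiceBase.jj_bau]
  intro x hx
  exact mem_o2_of_cent h.blk (ChoiceBase.jj_le_bau _ hx) (h1 hx)

section u

variable {u : G}

theorem u_sq (hu : u ∈ zc (S : Subgroup G)) : u * u = 1 := by
  rw [← pow_two]; exact zc_sq hu

theorem xu_local (hu : u ∈ zc (S : Subgroup G)) (hu1 : u ≠ 1) : IsTwoLocal (centralizer ({u} : Set G)) :=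
  Geo.isTwoLocal_centralizer (u_sq hu) hu1

theorem S_xu (hu : u ∈ zc (S : Subgroup G)) : (S : Subgroup G) ≤ centralizer ({u} : Set G) := fun s hs => by
  rw [mem_centralizer_singleton_iff]
  exact zc_comm hu hs

theorem cZ_xu (hu : u ∈ zc (S : Subgroup G)) :
    centralizer (zc (S : Subgroup G) : Set G) ≤ centralizer ({u} : Set G) :=
  centralizer_le (Set.singleton_subset_iff.2 hu)

theorem L_xu (huR : u ∈ rl (bau (S : Subgroup G)) L) : L ≤ centralizer ({u} : Set G) := fun l hl => by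
  rw [mem_centralizer_singleton_iff]
  exact rl_comm huR hl

/-- (5.4) -/
theorem exists_sev (h : NL S L k z) (huR : u ∈ rl (bau (S : Subgroup G)) L) (hu : u ∈ zc (S : Subgroup G))
    (hu1 : u ≠ 1) : ∃ N, Sev (centralizer ({u} : Set G)) (S : Subgroup G) N (vl (bau (S : Subgroup G)) L) z := by
  rcases h.ty_cases (xu_local hu hu1) (S_xu hu) with h1 | h1 | h1 | ⟨K, h1⟩
  · exfalso
    apply h.jj_not
    exact h1.trans (centralizer_le (RedX.vl_le_mod (L_xu huR) (Or.inl ⟨k, h.blk⟩)))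
  · exfalso
    have h2 : centralizer (zc (S : Subgroup G) : Set G) ≤ normalizer (vl (bau (S : Subgroup G)) L : Set G) :=
      (cZ_xu hu).trans h1.norm
    refine h.nl _ ⟨_, h.blk.two.to_le (vl_le_B h.blk), ?_, rfl⟩ le_rfl (h.cz_le.trans (sup_le h2 h.nb_V))
    intro h0
    have := h.blk.card_vl
    rw [h0, card_bot] at this
    omega
  · exact h1
  · exact (h1.noblk _ (L_xu huR) (Or.inl ⟨k, h.blk⟩)).elim

/-- (5.4): `N = ⟨V^{C_G(Ω₁Z(S))}⟩` -/
theorem nn_eq {N : Subgroup G} (_h : NL S L k z) (hu : u ∈ zc (S : Subgroup G))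
    (hN : Sev (centralizer ({u} : Set G)) (S : Subgroup G) N (vl (bau (S : Subgroup G)) L) z) :
    N = nn (S : Subgroup G) L := by
  refine le_antisymm ?_ (nc_le hN.VN ((cZ_xu hu).trans hN.norm))
  have h1 := hN.ncl
  rwa [inf_eq_right.2 (cZ_xu hu)] at h1

end u

/-- `X_u ≤ N_G(N)` -/
theorem xu_le (h : NL S L k z) {u : G} (huR : u ∈ rl (bau (S : Subgroup G)) L) (hu : u ∈ zc (S : Subgroup G))
    (hu1 : u ≠ 1) : centralizer ({u} : Set G) ≤ normalizer (nn (S : Subgroup G) L : Set G) := by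
  obtain ⟨N, hN⟩ := h.exists_sev huR hu hu1
  rw [← h.nn_eq hu hN]
  exact hN.norm

theorem V_le_nn (_h : NL S L k z) : vl (bau (S : Subgroup G)) L ≤ nn (S : Subgroup G) L := le_nc _ _

/-- (5.5) -/
theorem not_nB (h : NL S L k z) (hR : rl (bau (S : Subgroup G)) L ≠ ⊥)
    (h1 : normalizer (bau (S : Subgroup G) : Set G) ≤ normalizer (nn (S : Subgroup G) L : Set G)) : False := by
  obtain ⟨u, huR, hu1, hu⟩ := h.exists_u le_rfl ((S_nb S).trans h.nb_R) hR
  obtain ⟨N, hN⟩ := h.exists_sev huR hu hu1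
  have hNe := h.nn_eq hu hN
  have hX := h.xu_le huR hu hu1
  have h2 : centralizer (zc (S : Subgroup G) : Set G) ≤ normalizer (nn (S : Subgroup G) L : Set G) :=
    (cZ_xu hu).trans hX
  have hcz : centralizer ({z} : Set G) ≤ normalizer (nn (S : Subgroup G) L : Set G) :=
    h.cz_le.trans (sup_le h2 h1)
  refine h.nl _ ⟨_, IsPGroup.of_card (n := 3) ?_, ?_, rfl⟩ ?_ hcz
  · rw [← hNe, hN.card]; norm_num
  · rw [← hNe]
    intro h0
    have := hN.card
    rw [h0, card_bot] at this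
    omega
  · intro g hg
    obtain ⟨l, hl, hc⟩ := CaseDiv.exists_same_action h.blk h.pt hg
    have h3 : l⁻¹ * g ∈ centralizer ({z} : Set G) :=
      centralizer_le (Set.singleton_subset_iff.2 h.pt.1) hc
    have h4 := mul_mem (hX (L_xu huR hl)) (hcz h3)
    rwa [mul_inv_cancel_left] at h4

/-- (5.6) -/
theorem not_D (h : NL S L k z) {D : Subgroup G} (hD : D ≤ rl (bau (S : Subgroup G)) L)
    (hS : (S : Subgroup G) ≤ normalizer (D : Set G)) (h1 : D ≠ ⊥)
    (hK : kk (centralizer ({z} : Set G)) (S : Subgroup G) ≤ centralizer (D : Set G)) : False := by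
  obtain ⟨u, huD, hu1, hu⟩ := h.exists_u hD hS h1
  have hR : rl (bau (S : Subgroup G)) L ≠ ⊥ := fun h0 => by
    have := hD huD
    rw [h0] at this
    exact hu1 (mem_bot.1 this)
  have hX := h.xu_le (hD huD) hu hu1
  have hL := loc_of h.char2 h.cz_local h.S_cz
  have hVc : ∀ {g v : G}, g ∈ normalizer (bau (S : Subgroup G) : Set G) → v ∈ vl (bau (S : Subgroup G)) L →
      g * v * g⁻¹ ∈ vl (bau (S : Subgroup G)) L := fun hg hv => Four.conj_mem (h.nb_V hg) hv
  -- `N = ⟨V^{C_z}⟩`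
  have hN : nc (centralizer ({z} : Set G)) (vl (bau (S : Subgroup G)) L) = nn (S : Subgroup G) L := by
    apply le_antisymm
    · refine iSup_le fun g => ?_
      rintro _ ⟨v, hv, rfl⟩
      obtain ⟨j, hj, c, hc, n, hn, hg⟩ := LemXPerm.exists_decomp hL.TX hL.two hL.syl
        (le_normalizer_nc (centralizer ({z} : Set G)) (jj (S : Subgroup G))) (le_nc _ _) g.2
      have hjX : j ∈ centralizer ({u} : Set G) := by
        rw [mem_centralizer_singleton_iff]
        exact (mem_centralizer_iff.1 (hK hj) u huD).symm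
      have hcX : c ∈ centralizer ({u} : Set G) := by
        rw [mem_centralizer_singleton_iff]
        exact (mem_centralizer_iff.1 hc.2 u (ChoiceBase.zc_le_zj _ hu)).symm
      have h2 := Four.conj_mem (hX (mul_mem hjX hcX)) (h.V_le_nn (hVc hn.2 hv))
      have e : (MulAut.conj (g : G)).toMonoidHom v = j * c * (n * v * n⁻¹) * (j * c)⁻¹ := by
        simp only [MulEquiv.toMonoidHom_eq_coe, MonoidHom.coe_coe, MulAut.conj_apply]
        rw [hg]; group
      rw [e]
      exact h2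
    · refine nc_le (le_nc _ _) ?_
      exact h.cZ_cz.trans (le_normalizer_nc _ _)
  refine h.not_nB hR ?_
  rw [← hN]
  exact h.nb_cz.trans (le_normalizer_nc _ _)

/-- `y ∈ Y`, centralised by `J`, lies in `Z_J` -/
theorem mem_zj (h : NL S L k z) {X : Subgroup G} (hX : IsTwoLocal X) (hS : (S : Subgroup G) ≤ X) {y : G}
    (hy : y ∈ mod X (S : Subgroup G)) (hc : ∀ j ∈ jj (S : Subgroup G), j * y = y * j) :
    y ∈ zj (S : Subgroup G) := by
  refine EmptyTI.mem_zj_of_comm S ?_ hc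
  exact zc_sq (RedX.mod_le (loc_of h.char2 hX hS) hy)

theorem jj_le_kk (X : Subgroup G) : jj (S : Subgroup G) ≤ kk X (S : Subgroup G) := le_nc _ _

/-- `y ∈ Y` centralised by `K` lies in `Z_J` -/
theorem mem_zc_of_kk (h : NL S L k z) {X : Subgroup G} (hX : IsTwoLocal X) (hS : (S : Subgroup G) ≤ X) {y : G}
    (hy : y ∈ mod X (S : Subgroup G)) (hc : y ∈ centralizer (kk X (S : Subgroup G) : Set G)) :
    y ∈ zc (bau (S : Subgroup G)) := by
  rw [ChoiceBase.zc_bau]
  exact h.mem_zj hX hS hy fun j hj => mem_centralizer_iff.1 hc j (jj_le_kk X hj)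

theorem eq_z (h : NL S L k z) {y : G} (hy : y ∈ zc (bau (S : Subgroup G))) {A : Subgroup G} (hyA : y ∈ A)
    (hzA : z ∈ A) (hA : A ⊓ rl (bau (S : Subgroup G)) L = ⊥) : y = 1 ∨ y = z := by
  rcases mem_zc_cases h.blk h.pt hy with h1 | h1
  · left
    have h2 : y ∈ A ⊓ rl (bau (S : Subgroup G)) L := ⟨hyA, h1⟩
    rw [hA] at h2
    exact mem_bot.1 h2
  · right
    have h2 : z * y ∈ A ⊓ rl (bau (S : Subgroup G)) L := ⟨mul_mem hzA hyA, h1⟩
    rw [hA] at h2
    have h3 := mem_bot.1 h2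
    have h4 := h.pt.mul_self
    calc y = z * (z * y) := by rw [← mul_assoc, h4, one_mul]
      _ = z := by rw [h3, mul_one]

/-- a 3-element of `C_G(z)` normalising `J` and acting nontrivially on `Z_J` -/
theorem false_of_el3 (h : NL S L k z) (h3 : ∀ x ∈ centralizer ({z} : Set G), El3 x → x ^ 3 = 1) {x y : G}
    (hx : x ∈ centralizer ({z} : Set G)) (hx3 : El3 x) (hxJ : x ∈ normalizer (jj (S : Subgroup G) : Set G))
    (hy : y ∈ zc (bau (S : Subgroup G))) (hxy : x * y ≠ y * x) : False := by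
  have hL := loc_of h.char2 h.cz_local h.S_cz
  obtain ⟨c, hc, n, hn, hxn⟩ := LemXPerm.exists_mul_of_mem_normalizer_jj hL.TX hL.two hL.syl hx hxJ
  have hxZ : ∀ w ∈ zc (bau (S : Subgroup G)), x * w * x⁻¹ ∈ zc (bau (S : Subgroup G)) := by
    intro w hw
    rw [ChoiceBase.zc_bau] at hw ⊢
    exact Four.conj_mem (normalizer_jj_le_normalizer_zj _ hxJ) hw
  have hnZ : ∀ w ∈ zc (bau (S : Subgroup G)), n * w * n⁻¹ ∈ zc (bau (S : Subgroup G)) := fun w hw =>
    Four.conj_mem (normalizer_le_normalizer_zc _ hn.2) hw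
  have hnx : ∀ w ∈ zc (bau (S : Subgroup G)), n * w * n⁻¹ = x * w * x⁻¹ := by
    intro w hw
    have h1 := hnZ w hw
    rw [ChoiceBase.zc_bau] at h1
    have h2 : c * (n * w * n⁻¹) * c⁻¹ = n * w * n⁻¹ :=
      Four.conj_eq_iff_comm.2 (mem_centralizer_iff.1 hc.2 _ h1).symm
    calc n * w * n⁻¹ = c * (n * w * n⁻¹) * c⁻¹ := h2.symm
      _ = x * w * x⁻¹ := by rw [hxn]; group
  have hpow : ∀ i : ℕ, ∀ w ∈ zc (bau (S : Subgroup G)), n ^ i * w * (n ^ i)⁻¹ = x ^ i * w * (x ^ i)⁻¹ := by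
    intro i
    induction i with
    | zero => intro w _; simp
    | succ i ih =>
      intro w hw
      calc n ^ (i + 1) * w * (n ^ (i + 1))⁻¹ = n ^ i * (n * w * n⁻¹) * (n ^ i)⁻¹ := by rw [pow_succ]; group
        _ = x ^ i * (x * w * x⁻¹) * (x ^ i)⁻¹ := by rw [hnx w hw, ih _ (hxZ w hw)]
        _ = _ := by rw [pow_succ]; group
  -- the 3-part of `n`
  obtain ⟨a, m, hm, hnm⟩ := Nat.exists_eq_pow_mul_and_not_dvd (orderOf_pos n).ne' 3 (by norm_num)
  have hx'3 : El3 (n ^ m) := ⟨a, by rw [← pow_mul, mul_comm, ← hnm, pow_orderOf_eq_one]⟩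
  have hx'z : n ^ m ∈ centralizer ({z} : Set G) := pow_mem hn.1 m
  have hx'B : n ^ m ∈ normalizer (bau (S : Subgroup G) : Set G) := pow_mem hn.2 m
  have hcube := h3 _ hx'z hx'3
  have hmove : ¬ n ^ m * y = y * n ^ m := by
    intro h1
    apply hxy
    have h2 : x ^ m * y = y * x ^ m := by
      rw [← Four.conj_eq_iff_comm, ← hpow m y hy, Four.conj_eq_iff_comm]
      exact h1
    obtain ⟨b, hb⟩ := hx3
    have hcop : Nat.Coprime m (3 ^ b) :=
      Nat.Coprime.pow_right b ((Nat.Prime.coprime_iff_not_dvd Nat.prime_three).2 hm).symm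
    have h5 := Nat.gcd_eq_gcd_ab m (3 ^ b)
    rw [hcop.gcd_eq_one] at h5
    have h6 : x = (x ^ m) ^ (Nat.gcdA m (3 ^ b)) * (x ^ 3 ^ b) ^ (Nat.gcdB m (3 ^ b)) := by
      rw [← zpow_natCast, ← zpow_natCast, ← zpow_mul, ← zpow_mul, ← zpow_add, ← h5]
      simp
    rw [hb, one_zpow, mul_one] at h6
    have h7 : x ^ m ∈ centralizer ({y} : Set G) := mem_centralizer_singleton_iff.2 h2
    have h8 := zpow_mem h7 (Nat.gcdA m (3 ^ b))
    rw [← h6] at h8
    exact mem_centralizer_singleton_iff.1 h8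
  set x' := n ^ m with hx'
  -- an element of `R` moved by `x'`
  obtain ⟨r, hr, hrm⟩ : ∃ r ∈ rl (bau (S : Subgroup G)) L, ¬ x' * r = r * x' := by
    rcases mem_zc_cases h.blk h.pt hy with h1 | h1
    · exact ⟨y, h1, hmove⟩
    · refine ⟨z * y, h1, fun h2 => hmove ?_⟩
      have h4 := mem_centralizer_singleton_iff.1 hx'z
      have h5 : z * (x' * y) = z * (y * x') := by
        calc z * (x' * y) = (z * x') * y := by group
          _ = (x' * z) * y := by rw [h4]
          _ = x' * (z * y) := by group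
          _ = z * y * x' := h2
          _ = z * (y * x') := by group
      exact mul_left_cancel h5
  have hx'1 : x' ≠ 1 := fun h0 => hrm (by rw [h0]; simp)
  have hord : orderOf x' = 3 := by
    have : Fact (Nat.Prime 3) := ⟨Nat.prime_three⟩
    exact orderOf_eq_prime hcube hx'1
  -- (P1) in `N_G(R)`
  set M := normalizer (rl (bau (S : Subgroup G)) L : Set G) with hM
  have hx'M : x' ∈ M := h.nb_R hx'B
  set C := (centralizer (rl (bau (S : Subgroup G)) L : Set G)).subgroupOf M with hC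
  have hCn : C.Normal := by
    rw [hC]
    exact normal_subgroupOf_of_le_normalizer (DBlkReduce.nc _)
  have hLC : ∀ l ∈ L, l ∈ centralizer (rl (bau (S : Subgroup G)) L : Set G) := fun l hl =>
    mem_centralizer_iff.2 fun r hr => (rl_comm hr hl).symm
  obtain ⟨y₀, hy₀, hy3, -, -, hyf, -⟩ := h.blk.dih
  have hy₀1 : y₀ ≠ 1 := fun h0 => h.pt.2.2 (hyf z h.pt.1 (by rw [h0]; simp))
  have h3C : 3 ∣ Nat.card C := by
    have h5 : orderOf y₀ ∣ 3 ^ k := orderOf_dvd_of_pow_eq_one hy3
    have h6 : 3 ∣ orderOf y₀ := by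
      obtain ⟨i, -, hi⟩ := (Nat.dvd_prime_pow Nat.prime_three).1 h5
      cases i with
      | zero => exact absurd (orderOf_eq_one_iff.1 (by simpa using hi)) hy₀1
      | succ i => rw [hi, pow_succ]; exact Dvd.intro_left _ rfl
    have h7 : y₀ ∈ M := centralizer_le_normalizer _ (hLC y₀ hy₀)
    have h8 : (⟨y₀, h7⟩ : M) ∈ C := hLC y₀ hy₀
    have h9 := Subgroup.orderOf_dvd_natCard C h8
    rw [Subgroup.orderOf_mk] at h9
    exact h6.trans h9
  have h10 : (⟨x', hx'M⟩ : M) ∈ C :=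
    CompBasic.mem_of_orderOf (CompBasic.oddCyc_subgroup h.cyc M) Nat.prime_three (by decide) hCn h3C
      (by rw [Subgroup.orderOf_mk]; exact hord)
  exact hrm (mem_centralizer_iff.1 h10 r hr).symm

/-- (5.7): `R = 1` -/
theorem R_eq_bot (h : NL S L k z) : rl (bau (S : Subgroup G)) L = ⊥ := by
  by_contra hR
  obtain ⟨u, huR, hu1, hu⟩ := h.exists_u le_rfl ((S_nb S).trans h.nb_R) hR
  have hL := loc_of h.char2 h.cz_local h.S_cz
  set X := centralizer ({z} : Set G) with hX
  have hzc : zc (S : Subgroup G) ≤ mod X (S : Subgroup G) := RedX.zc_le_mod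
  have hXm : X ≤ normalizer (mod X (S : Subgroup G) : Set G) := le_normalizer_nc X _
  have hXk : X ≤ normalizer (kk X (S : Subgroup G) : Set G) := le_normalizer_nc X _
  rcases h.cz_cases with h0 | ⟨K, h0⟩
  · refine h.not_D (D := zc (S : Subgroup G) ⊓ rl (bau (S : Subgroup G)) L) inf_le_right ?_ ?_ ?_
    · refine le_trans ?_ (centralizer_le_normalizer _)
      intro s hs
      rw [mem_centralizer_iff]
      intro d hd
      exact (zc_comm hd.1 hs).symm
    · intro h1
      have h2 : u ∈ zc (S : Subgroup G) ⊓ rl (bau (S : Subgroup G)) L := ⟨hu, huR⟩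
      rw [h1] at h2
      exact hu1 (mem_bot.1 h2)
    · have h1 : kk X (S : Subgroup G) ≤ centralizer (mod X (S : Subgroup G) : Set G) :=
        nc_le h0 (hXm.trans (DBlkReduce.nc _))
      exact h1.trans (centralizer_le (inf_le_left.trans hzc))
  · set Y := mod X (S : Subgroup G) with hY
    set A := Y ⊓ centralizer (kk X (S : Subgroup G) : Set G) with hA
    have hXA : X ≤ normalizer (A : Set G) :=
      (le_inf hXm (hXk.trans (DBlkReduce.nc _))).trans inf_normalizer_le_normalizer_inf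
    by_cases hD : A ⊓ rl (bau (S : Subgroup G)) L = ⊥
    · -- `A = ⟨z⟩`
      have hzA : z ∈ A := by
        refine ⟨hzc h.z_mem, mem_centralizer_iff.2 fun g hg => ?_⟩
        have h1 : kk X (S : Subgroup G) ≤ X := nc_le (ChoiceBase.jj_le _ |>.trans h.S_cz) le_normalizer
        exact mem_centralizer_singleton_iff.1 (h1 hg)
      have hAz : ∀ y ∈ A, y = 1 ∨ y = z := fun y hy =>
        h.eq_z (h.mem_zc_of_kk h.cz_local h.S_cz hy.1 hy.2) hy hzA hD
      rcases h0.alt with h1 | ⟨x, hx, hx3, hxJ, y, hy, hxy⟩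
      · -- `Y ∩ R = ⟨u⟩`
        have hAc : Nat.card A ≤ 2 := by
          have h2 : A ≤ zpowers z := fun y hy => (zpowers_eq h.pt.sq).2 (hAz y hy)
          exact (Subgroup.card_le_of_le h2).trans (card_zpowers h.pt.sq h.pt.2.2).le
        set E := Y ⊓ rl (bau (S : Subgroup G)) L with hEd
        have hE : Nat.card E ≤ 2 := by
          have h2 : E ≤ Y ⊓ zc (bau (S : Subgroup G)) := inf_le_inf_left _ (rl_le_zc _ _)
          have h3 : Nat.card E * E.relIndex (Y ⊓ zc (bau (S : Subgroup G))) =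
              Nat.card (Y ⊓ zc (bau (S : Subgroup G)) : Subgroup G) := by
            rw [← relIndex_bot_left, ← relIndex_bot_left, relIndex_mul_relIndex _ _ _ bot_le h2]
          have h4 : E.relIndex (Y ⊓ zc (bau (S : Subgroup G))) ≠ 1 := by
            intro h5
            rw [relIndex_eq_one] at h5
            have h6 : z ∈ E := h5 ⟨hzc h.z_mem, h.pt.2.1⟩
            exact pt_notMem_rl h.blk h.pt h6.2
          have h8 : 0 < Nat.card (Y ⊓ zc (bau (S : Subgroup G)) : Subgroup G) := Nat.card_pos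
          have h5 : E.relIndex (Y ⊓ zc (bau (S : Subgroup G))) ≠ 0 := fun h9 => by
            rw [h9, mul_zero] at h3
            omega
          have h6 : 2 ≤ E.relIndex (Y ⊓ zc (bau (S : Subgroup G))) := by omega
          have h7 : Nat.card (Y ⊓ zc (bau (S : Subgroup G)) : Subgroup G) ≤ 2 * Nat.card A := h1
          nlinarith
        have hfix : normalizer (bau (S : Subgroup G) : Set G) ≤ centralizer ({u} : Set G) := by
          intro g hg
          rw [mem_centralizer_singleton_iff]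
          have huE : u ∈ E := ⟨hzc hu, huR⟩
          have h2 : zpowers u = E := by
            refine Subgroup.eq_of_le_of_card_ge (zpowers_le.2 huE) ?_
            rw [card_zpowers (zc_sq hu) hu1]
            exact hE
          have h3 : g * u * g⁻¹ ∈ E := ⟨Four.conj_mem (hXm (h.nb_cz hg)) huE.1, Four.conj_mem (h.nb_R hg) huR⟩
          rw [← h2, zpowers_eq (zc_sq hu)] at h3
          rcases h3 with h3 | h3
          · exact absurd (conj_eq_one_iff.1 h3) hu1
          · exact Four.conj_eq_iff_comm.1 h3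
        exact h.not_nB hR (hfix.trans (h.xu_le huR hu hu1))
      · exact h.false_of_el3 h0.three' hx hx3 hxJ hy.2 hxy
    · refine h.not_D (D := A ⊓ rl (bau (S : Subgroup G)) L) inf_le_right ?_ hD ?_
      · exact (le_inf (h.S_cz.trans hXA) ((S_nb S).trans h.nb_R)).trans inf_normalizer_le_normalizer_inf
      · refine le_trans ?_ (centralizer_le (inf_le_left.trans (inf_le_right (a := Y)
          (b := centralizer (kk X (S : Subgroup G) : Set G)))))
        intro g hg
        exact mem_centralizer_iff.2 fun c hc => (mem_centralizer_iff.1 hc g hg).symm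

/-- (5.8): `Z_J = ⟨z⟩` -/
theorem mem_zj_iff (h : NL S L k z) {y : G} : y ∈ zj (S : Subgroup G) ↔ y = 1 ∨ y = z := by
  rw [← ChoiceBase.zc_bau]
  constructor
  · intro hy
    exact h.eq_z hy (A := ⊤) (mem_top _) (mem_top _) (by rw [h.R_eq_bot]; exact inf_bot_eq _)
  · rintro (rfl | rfl)
    · exact one_mem _
    · exact h.pt.2.1

theorem zj_eq (h : NL S L k z) : zj (S : Subgroup G) = zpowers z := by
  ext y
  rw [h.mem_zj_iff, zpowers_eq h.pt.sq]

theorem zc_eq (h : NL S L k z) : zc (S : Subgroup G) = zpowers z := by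
  refine le_antisymm ?_ (zpowers_le.2 h.z_mem)
  exact (ChoiceBase.zc_le_zj _).trans h.zj_eq.le

/-- `B = S` -/
theorem bau_eq (h : NL S L k z) : bau (S : Subgroup G) = (S : Subgroup G) := by
  refine le_antisymm (ChoiceBase.bau_le _) fun s hs => ChoiceBase.mem_bau.2 ⟨hs, fun y hy => ?_⟩
  rcases h.mem_zj_iff.1 hy with rfl | rfl
  · simp
  · exact (mem_centralizer_singleton_iff.1 (h.S_cz hs)).symm

/-- type `zero`: `X ≤ C_G(z)` -/
theorem zero_le_cz (h : NL S L k z) {X : Subgroup G} (hX : IsTwoLocal X) (hS : (S : Subgroup G) ≤ X)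
    (h0 : jj (S : Subgroup G) ≤ centralizer (mod X (S : Subgroup G) : Set G)) :
    X ≤ centralizer ({z} : Set G) := by
  intro x hx
  rw [mem_centralizer_singleton_iff]
  have h1 : x * z * x⁻¹ ∈ mod X (S : Subgroup G) :=
    Four.conj_mem (le_normalizer_nc X _ hx) (RedX.zc_le_mod h.z_mem)
  have h2 := h.mem_zj hX hS h1 fun j hj => (mem_centralizer_iff.1 (h0 hj) _ h1).symm
  rcases h.mem_zj_iff.1 h2 with h3 | h3
  · exact absurd (conj_eq_one_iff.1 h3) h.pt.2.2
  · exact Four.conj_eq_iff_comm.1 h3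

/-- the 2-local subgroups over `S` -/
theorem cases (h : NL S L k z) {X : Subgroup G} (hX : IsTwoLocal X) (hS : (S : Subgroup G) ≤ X) :
    (jj (S : Subgroup G) ≤ centralizer (mod X (S : Subgroup G) : Set G) ∧ X ≤ centralizer ({z} : Set G)) ∨
    Tri X (S : Subgroup G) (vl (S : Subgroup G) L) ∨
    ∃ N, Sev X (S : Subgroup G) N (vl (S : Subgroup G) L) z := by
  have hb := h.bau_eq
  rcases h.ty_cases hX hS with h0 | h0 | h0 | ⟨K, h0⟩
  · exact Or.inl ⟨h0, h.zero_le_cz hX hS h0⟩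
  · rw [hb] at h0; exact Or.inr (Or.inl h0)
  · rw [hb] at h0; exact Or.inr (Or.inr h0)
  · exact absurd hb h0.bau_ne

/-- `V ≤ O₂(C_G(z))` -/
theorem V_le_o2 (h : NL S L k z) : vl (S : Subgroup G) L ≤ o2 (centralizer ({z} : Set G)) := by
  have hb := h.bau_eq
  have hk := h.blk
  have hz := h.pt
  have hV := h.nb_V
  rw [hb] at hk hz hV
  have hTn : (S : Subgroup G) ≤ normalizer (vl (S : Subgroup G) L : Set G) := le_normalizer.trans hV
  have hQT : o2 (centralizer ({z} : Set G)) ≤ (S : Subgroup G) :=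
    VModule.o2_le_of_sylow S.isPGroup' (ChoiceSit.syl_not_dvd (EmptyTI.syl_of_le h.S_cz))
  refine le_trans ?_ (SamePt.cmod_le le_rfl hz.mul_self (Basic.char2_centralizer h.char2 hz.sq hz.2.2))
  intro v hv
  refine ⟨h.S_cz (vl_le_B hk hv), fun q hq => ?_⟩
  have hqz : q * z * q⁻¹ = z := by
    have := mem_centralizer_singleton_iff.mp (h.S_cz (hQT hq))
    rw [this]; group
  by_cases hv1 : v = 1
  · left; rw [hv1]; group
  by_cases hvz : v = z
  · left
    have := mem_centralizer_singleton_iff.mp (h.S_cz (hQT hq))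
    rw [hvz, ← this]; group
  have hvv : v * v = 1 := by rw [← pow_two]; exact vl_sq hk v hv
  have hvi : v⁻¹ = v := inv_eq_of_mul_eq_one_left hvv
  have hvzc : v * z = z * v := Four.comm_of_sq (vl_sq hk) hv hz.1
  rcases Four.fix_dichotomy hk.card_vl (vl_sq hk) hz.1 hv hz.2.2 hv1 (fun h0 => hvz h0.symm)
    (hTn (hQT hq)) hqz with h1 | h1
  · left
    have h2 : q * v = v * q := by
      calc q * v = (q * v * q⁻¹) * q := by group
        _ = v * q := by rw [h1]
    rw [← h2]; group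
  · right
    have h2 : q * v = z * v * q := by
      calc q * v = (q * v * q⁻¹) * q := by group
        _ = z * v * q := by rw [h1]
    have h3 : v * q = z * (q * v) := by
      calc v * q = (z * z) * v * q := by rw [hz.mul_self, one_mul]
        _ = z * (z * v * q) := by group
        _ = z * (q * v) := by rw [h2]
    calc v * q * v⁻¹ = z * (q * v) * v⁻¹ := by rw [h3]
      _ = z * q := by group

end NL

/-- **(E1*)**: `S` is its own Baumann subgroup, `Ω₁Z(S) = ⟨z⟩`, `V ≤ S` is the only plane over `S`, `⟨N_G(V), C_G(z)⟩` is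
nonlocal, and every 2-local subgroup over `S` is of type `zero` (in `C_G(z)`), `tri` (in `N_G(V)`) or `sev`. -/
structure EOne (S : Sylow 2 G) (L V : Subgroup G) (k : ℕ) (z : G) : Prop where
  char2 : IsCharacteristicTwoType G
  cyc : OddCyc G
  blk : IsDBlk (S : Subgroup G) L k
  pt : IsPt (S : Subgroup G) L z
  vl_eq : vl (S : Subgroup G) L = V
  bau_eq : bau (S : Subgroup G) = (S : Subgroup G)
  zc_eq : zc (S : Subgroup G) = zpowers z
  zj_eq : zj (S : Subgroup G) = zpowers z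
  S_cz : (S : Subgroup G) ≤ centralizer ({z} : Set G)
  V_o2 : V ≤ o2 (centralizer ({z} : Set G))
  norm : normalizer ((S : Subgroup G) : Set G) ≤ normalizer (V : Set G)
  norm_z : normalizer ((S : Subgroup G) : Set G) ≤ centralizer ({z} : Set G)
  uniq : ∀ (L' : Subgroup G) (k' : ℕ), IsDBlk (S : Subgroup G) L' k' → vl (S : Subgroup G) L' = V
  nolin : ∀ (L' : Subgroup G) (q : ℕ), ¬ LBlk (S : Subgroup G) L' q
  nl : ∀ M : Subgroup G, IsTwoLocal M → normalizer (V : Set G) ≤ M → centralizer ({z} : Set G) ≤ M → False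
  cases : ∀ X : Subgroup G, IsTwoLocal X → (S : Subgroup G) ≤ X →
    (jj (S : Subgroup G) ≤ centralizer (mod X (S : Subgroup G) : Set G) ∧ X ≤ centralizer ({z} : Set G)) ∨
    Tri X (S : Subgroup G) V ∨ ∃ N, Sev X (S : Subgroup G) N V z

theorem NL.eOne (h : NL S L k z) : EOne S L (vl (S : Subgroup G) L) k z := by
  have hb := h.bau_eq
  have hk := h.blk
  have hz := h.pt
  have hV := h.nb_V
  have hu := h.uniq
  have hn := h.nolin
  have hl := h.nl
  have hc := h.nb_cz
  rw [hb] at hk hz hV hu hn hl hc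
  exact
  { char2 := h.char2
    cyc := h.cyc
    blk := hk
    pt := hz
    vl_eq := rfl
    bau_eq := hb
    zc_eq := h.zc_eq
    zj_eq := h.zj_eq
    S_cz := h.S_cz
    V_o2 := h.V_le_o2
    norm := hV
    norm_z := hc
    uniq := hu
    nolin := hn
    nl := hl
    cases := fun X hX hS => h.cases hX hS }

/-- **(E)**: in (C2), exactly one plane over `B = bau S` and no `SL₂(q)`-block over `B` imply (E1*). -/
theorem Base.eOne (h : Base S L k z) (hnu : ∀ M : Subgroup G, IsTwoLocal M → (S : Subgroup G) ≤ M →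
    ∃ X : Subgroup G, IsTwoLocal X ∧ (S : Subgroup G) ≤ X ∧ ¬ X ≤ M) :
    EOne S L (vl (S : Subgroup G) L) k z :=
  NL.eOne { toBase := h, nl := fun _ hM h1 h2 => h.nonloc_of hnu hM h1 h2 }

end Cfsg.Agent.OddCyclic.RedE
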