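import Cfsg.Agent.OddCyclic.Om5Defs

/-!
# (Omega5): the orthogonal module
-/

set_option autoImplicit false

namespace Cfsg.Agent.OddCyclic.Om5

open Subgroup Cfsg Cfsg.Agent.ZN

universe u

/-- unit vectors -/
abbrev dl (i : Fin 5) : Fin 5 → ZMod 2 := Pi.single i 1

theorem pow_val {A : Type*} [Group A] {x : A} (hx : x * x = 1) (a b : ZMod 2) :
    x ^ (a + b).val = x ^ a.val * x ^ b.val := by
  fin_cases a <;> fin_cases b
  · change x ^ 0 = x ^ 0 * x ^ 0
    simp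
  · change x ^ 1 = x ^ 0 * x ^ 1
    simp
  · change x ^ 1 = x ^ 1 * x ^ 0
    simp
  · change x ^ 0 = x ^ 1 * x ^ 1
    rw [pow_one, pow_zero, hx]

theorem vec_cls : ∀ v : Fin 5 → ZMod 2, v 0 + v 1 + v 2 + v 3 + v 4 = 0 →
    v = 0 ∨ (∃ i j, i ≠ j ∧ v = dl i + dl j) ∨ ∃ i : Fin 5, v = 1 + dl i := by decide +kernel

theorem vec_four : ∀ v : Fin 5 → ZMod 2, v 0 + v 1 + v 2 + v 3 + v 4 = 0 →
    ∃ i j k l, v = dl i + dl j + (dl k + dl l) := by
  intro v hv
  rcases vec_cls v hv with h | ⟨i, j, _, h⟩ | ⟨i, h⟩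
  · exact ⟨0, 0, 0, 0, by rw [h]; decide +kernel⟩
  · have h1 : ∀ i j : Fin 5, dl i + dl j = dl i + dl j + (dl 0 + dl 0) := by decide +kernel
    exact ⟨i, j, 0, 0, by rw [h]; exact h1 i j⟩
  · have h1 : ∀ i : Fin 5, (1 + dl i : Fin 5 → ZMod 2) = dl (i + 1) + dl (i + 2) + (dl (i + 3) + dl (i + 4)) := by
      decide +kernel
    exact ⟨i + 1, i + 2, i + 3, i + 4, by rw [h]; exact h1 i⟩

theorem dl_two (i j : Fin 5) : (dl i + dl j) 0 + (dl i + dl j) 1 + (dl i + dl j) 2 + (dl i + dl j) 3 + (dl i + dl j) 4 = 0 := by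
  revert i j; decide +kernel

theorem one_dl (i : Fin 5) : (1 + dl i) 0 + (1 + dl i) 1 + (1 + dl i) 2 + (1 + dl i) 3 + (1 + dl i) 4 = 0 := by
  revert i; decide +kernel

theorem dl_sum (i : Fin 5) : (1 + dl i : Fin 5 → ZMod 2) = dl (i + 1) + dl (i + 2) + (dl (i + 3) + dl (i + 4)) := by
  revert i; decide +kernel

theorem dl_perm (π : Equiv.Perm (Fin 5)) (i : Fin 5) :
    (1 + dl (π i) : Fin 5 → ZMod 2) = dl (π (i + 1)) + dl (π (i + 2)) + (dl (π (i + 3)) + dl (π (i + 4))) := by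
  have h1 : ∑ k : Fin 5, dl ((Equiv.addLeft i).trans π k) = ∑ k : Fin 5, dl k :=
    Equiv.sum_comp ((Equiv.addLeft i).trans π) dl
  have h2 : ∑ k : Fin 5, dl k = (1 : Fin 5 → ZMod 2) := by decide +kernel
  rw [h2, Fin.sum_univ_five] at h1
  have h3 : ∀ a : Fin 5, (Equiv.addLeft i).trans π a = π (i + a) := fun a => rfl
  rw [h3, h3, h3, h3, h3, add_zero] at h1
  rw [← h1]
  have h4 : dl (π i) + dl (π i) = 0 := by
    funext k
    exact CharTwo.add_self_eq_zero _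
  calc dl (π i) + dl (π (i + 1)) + dl (π (i + 2)) + dl (π (i + 3)) + dl (π (i + 4)) + dl (π i)
      = (dl (π i) + dl (π i)) + (dl (π (i + 1)) + dl (π (i + 2)) + (dl (π (i + 3)) + dl (π (i + 4)))) := by abel
    _ = _ := by rw [h4, zero_add]

variable {G : Type u} [Group G] {M U : Subgroup G} {φ : M →* Equiv.Perm (Fin 5)} {e : Fin 5 → Fin 5 → G}

namespace Frame

theorem comm (h : Frame M U φ e) {x y : G} (hx : x ∈ U) (hy : y ∈ U) : x * y = y * x :=
  Cfsg.Agent.LieExceptional.CITDefs.Elem.comm (A := U) h.sq hx hy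

theorem inv_eq (h : Frame M U φ e) {x : G} (hx : x ∈ U) : x⁻¹ = x := inv_eq_of_mul_eq_one_left (h.sq x hx)

theorem U_le (h : Frame M U φ e) : U ≤ M := by rw [h.norm]; exact le_normalizer

theorem exists_w (h : Frame M U φ e) : ∃ w : (Fin 5 → ZMod 2) → G, (∀ v v', w (v + v') = w v * w v') ∧ w 0 = 1 ∧
    (∀ v, w v ∈ U) ∧ ∀ i j, w (dl i + dl j) = e i j := by
  letI : CommGroup U := { (inferInstance : Group U) with mul_comm := fun a b => Subtype.ext (h.comm a.2 b.2) }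
  let f : Fin 5 → U := fun i => ⟨e 0 i, h.mem 0 i⟩
  have hf : ∀ i, f i * f i = 1 := fun i => Subtype.ext (h.sq _ (h.mem 0 i))
  let w0 : (Fin 5 → ZMod 2) → U := fun v => ∏ i, f i ^ (v i).val
  have hadd : ∀ v v', w0 (v + v') = w0 v * w0 v' := by
    intro v v'
    change (∏ i, f i ^ ((v + v') i).val) = (∏ i, f i ^ (v i).val) * ∏ i, f i ^ (v' i).val
    rw [← Finset.prod_mul_distrib]
    refine Finset.prod_congr rfl fun i _ => ?_
    rw [Pi.add_apply]
    exact pow_val (hf i) _ _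
  have hdl : ∀ i, w0 (dl i) = f i := by
    intro i
    change (∏ k, f k ^ ((dl i) k).val) = f i
    rw [Finset.prod_eq_single i]
    · have h1 : dl i i = 1 := Pi.single_eq_same i 1
      rw [h1]
      change f i ^ 1 = f i
      exact pow_one _
    · intro k _ hk
      have h1 : dl i k = 0 := Pi.single_eq_of_ne hk 1
      rw [h1]
      change f k ^ 0 = 1
      exact pow_zero _
    · intro hi
      exact absurd (Finset.mem_univ i) hi
  refine ⟨fun v => (w0 v : G), fun v v' => ?_, ?_, fun v => (w0 v).2, fun i j => ?_⟩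
  · change ((w0 (v + v') : U) : G) = _
    rw [hadd]; rfl
  · change ((w0 0 : U) : G) = 1
    have h1 : w0 0 = 1 := by
      change (∏ i, f i ^ ((0 : Fin 5 → ZMod 2) i).val) = 1
      refine Finset.prod_eq_one fun i _ => ?_
      change f i ^ 0 = 1
      exact pow_zero _
    rw [h1]; rfl
  · change ((w0 (dl i + dl j) : U) : G) = _
    rw [hadd, hdl, hdl]
    change e 0 i * e 0 j = e i j
    rw [h.symm 0 i, h.mul]

end Frame

/-- the vectors -/
noncomputable def vw (h : Frame M U φ e) : (Fin 5 → ZMod 2) → G := h.exists_w.choose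

/-- the singular vectors -/
def sg (e : Fin 5 → Fin 5 → G) (i : Fin 5) : G := e (i + 1) (i + 2) * e (i + 3) (i + 4)

theorem sg_four (e : Fin 5 → Fin 5 → G) : sg e 4 = e 0 1 * e 2 3 := rfl

namespace Frame

theorem vw_add (h : Frame M U φ e) (v v' : Fin 5 → ZMod 2) : vw h (v + v') = vw h v * vw h v' :=
  h.exists_w.choose_spec.1 v v'

theorem vw_zero (h : Frame M U φ e) : vw h 0 = 1 := h.exists_w.choose_spec.2.1

theorem vw_mem (h : Frame M U φ e) (v : Fin 5 → ZMod 2) : vw h v ∈ U := h.exists_w.choose_spec.2.2.1 v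

theorem vw_two (h : Frame M U φ e) (i j : Fin 5) : vw h (dl i + dl j) = e i j := h.exists_w.choose_spec.2.2.2 i j

theorem vw_four (h : Frame M U φ e) (i j k l : Fin 5) : vw h (dl i + dl j + (dl k + dl l)) = e i j * e k l := by
  rw [h.vw_add, h.vw_two, h.vw_two]

theorem vw_sg (h : Frame M U φ e) (i : Fin 5) : vw h (1 + dl i) = sg e i := by
  rw [dl_sum, h.vw_four]; rfl

theorem sg_mem (h : Frame M U φ e) (i : Fin 5) : sg e i ∈ U := mul_mem (h.mem _ _) (h.mem _ _)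

theorem cls (h : Frame M U φ e) {x : G} (hx : x ∈ U) : x = 1 ∨ (∃ i j, i ≠ j ∧ x = e i j) ∨ ∃ i, x = sg e i := by
  obtain ⟨i, j, k, l, rfl⟩ := h.all x hx
  rw [← h.vw_four]
  have h0 : (dl i + dl j + (dl k + dl l)) 0 + (dl i + dl j + (dl k + dl l)) 1 + (dl i + dl j + (dl k + dl l)) 2 +
      (dl i + dl j + (dl k + dl l)) 3 + (dl i + dl j + (dl k + dl l)) 4 = 0 := by
    have h1 := dl_two i j
    have h2 := dl_two k l
    have h3 : ∀ a : Fin 5, (dl i + dl j + (dl k + dl l)) a = (dl i + dl j) a + (dl k + dl l) a := fun a => rfl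
    rw [h3, h3, h3, h3, h3]
    calc _ = ((dl i + dl j) 0 + (dl i + dl j) 1 + (dl i + dl j) 2 + (dl i + dl j) 3 + (dl i + dl j) 4) +
        ((dl k + dl l) 0 + (dl k + dl l) 1 + (dl k + dl l) 2 + (dl k + dl l) 3 + (dl k + dl l) 4) := by ring
      _ = 0 := by rw [h1, h2, add_zero]
  rcases vec_cls _ h0 with hv | ⟨a, b, hab, hv⟩ | ⟨a, hv⟩
  · left; rw [hv, h.vw_zero]
  · right; left; exact ⟨a, b, hab, by rw [hv, h.vw_two]⟩
  · right; right; exact ⟨a, by rw [hv, h.vw_sg]⟩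

theorem exists_vec (h : Frame M U φ e) {x : G} (hx : x ∈ U) :
    ∃ v : Fin 5 → ZMod 2, v 0 + v 1 + v 2 + v 3 + v 4 = 0 ∧ x = vw h v := by
  rcases h.cls hx with h1 | ⟨i, j, _, h1⟩ | ⟨i, h1⟩
  · exact ⟨0, by decide +kernel, by rw [h1, h.vw_zero]⟩
  · exact ⟨dl i + dl j, dl_two i j, by rw [h1, h.vw_two]⟩
  · exact ⟨1 + dl i, one_dl i, by rw [h1, h.vw_sg]⟩

theorem sg_mul (h : Frame M U φ e) (i j : Fin 5) : sg e i * sg e j = e i j := by
  rw [← h.vw_sg, ← h.vw_sg, ← h.vw_add, ← h.vw_two]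
  congr 1
  revert i j
  decide +kernel

theorem conj_sg (h : Frame M U φ e) (m : M) (i : Fin 5) : (m : G) * sg e i * (m : G)⁻¹ = sg e (φ m i) := by
  rw [← h.vw_sg (φ m i), dl_perm, h.vw_four, ← h.conj, ← h.conj]
  unfold sg
  group

theorem sg_ne_one (h : Frame M U φ e) (i : Fin 5) : sg e i ≠ 1 := by
  intro hi
  have h1 : ∀ j, sg e j = 1 := by
    intro j
    obtain ⟨m, hm⟩ := h.surj (Equiv.swap i j)
    have h2 := h.conj_sg m i
    rw [hm, Equiv.swap_apply_left, hi, mul_one, mul_inv_cancel] at h2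
    exact h2.symm
  refine h.ne 0 1 (by decide) ?_
  rw [← h.sg_mul, h1, h1, one_mul]

theorem vw_eq_one (h : Frame M U φ e) {v : Fin 5 → ZMod 2} (hv : v 0 + v 1 + v 2 + v 3 + v 4 = 0)
    (h1 : vw h v = 1) : v = 0 := by
  rcases vec_cls v hv with h2 | ⟨i, j, hij, h2⟩ | ⟨i, h2⟩
  · exact h2
  · rw [h2, h.vw_two] at h1
    exact absurd h1 (h.ne i j hij)
  · rw [h2, h.vw_sg] at h1
    exact absurd h1 (h.sg_ne_one i)

theorem vw_inj (h : Frame M U φ e) {v v' : Fin 5 → ZMod 2} (hv : v 0 + v 1 + v 2 + v 3 + v 4 = 0)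
    (hv' : v' 0 + v' 1 + v' 2 + v' 3 + v' 4 = 0) (h1 : vw h v = vw h v') : v = v' := by
  have h2 : vw h (v + v') = 1 := by
    rw [h.vw_add, h1, h.sq _ (h.vw_mem _)]
  have h3 := h.vw_eq_one (v := v + v') (by
    change (v 0 + v' 0) + (v 1 + v' 1) + (v 2 + v' 2) + (v 3 + v' 3) + (v 4 + v' 4) = 0
    calc _ = (v 0 + v 1 + v 2 + v 3 + v 4) + (v' 0 + v' 1 + v' 2 + v' 3 + v' 4) := by ring
      _ = 0 := by rw [hv, hv', add_zero]) h2
  funext k
  have h4 := congrFun h3 k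
  have h5 : v k + v' k = 0 := h4
  exact CharTwo.add_eq_zero.1 h5

theorem e_ne_sg (h : Frame M U φ e) (i j k : Fin 5) : e i j ≠ sg e k := by
  intro h1
  rw [← h.vw_two, ← h.vw_sg] at h1
  have h2 := h.vw_inj (dl_two i j) (one_dl k) h1
  have h3 : ∀ i j k : Fin 5, (dl i + dl j : Fin 5 → ZMod 2) ≠ 1 + dl k := by decide +kernel
  exact h3 i j k h2

theorem sg_inj (h : Frame M U φ e) {i j : Fin 5} (h1 : sg e i = sg e j) : i = j := by
  by_contra hij
  refine h.ne i j hij ?_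
  rw [← h.sg_mul, h1, h.sq _ (h.sg_mem j)]

/-- a transvection of `S₅` does not have a singular centre -/
theorem trivial_of (h : Frame M U φ e) {m : M} {i : Fin 5}
    (hm : ∀ x ∈ U, (m : G) * x * (m : G)⁻¹ = x ∨ (m : G) * x * (m : G)⁻¹ = x * sg e i) : φ m = 1 := by
  have key : ∀ a b c d f : Fin 5, dl a + dl b = dl c + dl d + (1 + dl f) → (f ≠ c ∧ f ≠ d) ∨ c = d := by decide +kernel
  have h1 : ∀ j k, j ≠ k → (j = i ∨ k = i) → e (φ m j) (φ m k) = e j k := by
    intro j k hjk hi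
    rw [← h.conj]
    rcases hm _ (h.mem j k) with h2 | h2
    · exact h2
    · exfalso
      rw [h.conj, ← h.vw_two, ← h.vw_two, ← h.vw_sg, ← h.vw_add] at h2
      have h3 := h.vw_inj (dl_two _ _) (by
        change (dl j + dl k) 0 + (1 + dl i) 0 + ((dl j + dl k) 1 + (1 + dl i) 1) + ((dl j + dl k) 2 + (1 + dl i) 2) +
          ((dl j + dl k) 3 + (1 + dl i) 3) + ((dl j + dl k) 4 + (1 + dl i) 4) = 0
        have a := dl_two j k
        have b := one_dl i
        calc _ = ((dl j + dl k) 0 + (dl j + dl k) 1 + (dl j + dl k) 2 + (dl j + dl k) 3 + (dl j + dl k) 4) +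
            ((1 + dl i) 0 + (1 + dl i) 1 + (1 + dl i) 2 + (1 + dl i) 3 + (1 + dl i) 4) := by ring
          _ = 0 := by rw [a, b, add_zero]) h2
      rcases key _ _ _ _ _ h3 with h4 | h4
      · rcases hi with rfl | rfl
        · exact h4.1 rfl
        · exact h4.2 rfl
      · exact hjk h4
  have key2 : ∀ a b c d : Fin 5, a ≠ b → dl a + dl b = dl c + dl d → (a = c ∧ b = d) ∨ (a = d ∧ b = c) := by
    decide +kernel
  have h2 : ∀ k, k ≠ i → (φ m i = i ∧ φ m k = k) ∨ (φ m i = k ∧ φ m k = i) := by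
    intro k hk
    have h3 := h1 i k (Ne.symm hk) (Or.inl rfl)
    rw [← h.vw_two, ← h.vw_two] at h3
    exact key2 _ _ _ _ (fun h4 => hk ((φ m).injective h4).symm) (h.vw_inj (dl_two _ _) (dl_two _ _) h3)
  have h3 : φ m i = i := by
    have a : ∀ i : Fin 5, i + 1 ≠ i := by decide
    have b : ∀ i : Fin 5, i + 2 ≠ i := by decide
    have c : ∀ i : Fin 5, i + 1 ≠ i + 2 := by decide
    rcases h2 (i + 1) (a i) with h4 | h4
    · exact h4.1
    · rcases h2 (i + 2) (b i) with h5 | h5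
      · exact h5.1
      · exact absurd (h4.1.symm.trans h5.1) (c i)
  refine Equiv.ext fun k => ?_
  change φ m k = k
  by_cases hk : k = i
  · rw [hk, h3]
  · rcases h2 k hk with h4 | h4
    · exact h4.2
    · exact absurd (h4.1.symm.trans h3) hk

end Frame

end Cfsg.Agent.OddCyclic.Om5
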