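import Cfsg.Agent.OddCyclic.FFSl2
import Cfsg.Agent.OddCyclic.JInner
import Cfsg.Agent.OddCyclic.JFacts

/-!
# Groups with the local structure of `J₁` have no best offenders

`exists_real`: `J` with `Local J` (the local structure of `J₁`) has an element of order 11 inverted by an involution;
`main`: a best offender `A ≠ 1` in the frame `FFRed.Fr ρ L A` has no normal subgroup `L` with `Local L`.
-/

set_option autoImplicit false
set_option linter.unusedSectionVars false

namespace Cfsg.Agent.OddCyclic.FFJ1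

open Subgroup Cfsg.Agent.SporRec.J1.Defs Cfsg.Agent.OddCyclic.T1Module Cfsg.Agent.OddCyclic.FFBasic
  Cfsg.Agent.OddCyclic.FFRed Cfsg.Agent.OddCyclic.FFSl2

section real

variable {J : Type*} [Group J] [Finite J]

theorem arith : ∀ e ∈ Nat.divisors 10, 15960 / e % 11 = 1 → e = 10 := by decide +kernel

/-- the centraliser of an element of order 11 -/
theorem card_cent_eleven [IsSimpleGroup J] (h : Local J) (hc : Nat.card J = 175560) {y : J} (hy : orderOf y = 11) :
    Nat.card (centralizer ({y} : Set J)) = 11 := by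
  have hB : JFacts.Big (orderOf y) := Or.inr (Or.inl hy)
  have h1 := JFacts.cent_big h hc hB
  have h2 : 11 ∣ Nat.card (centralizer ({y} : Set J)) := by
    rw [← hy]; exact JFacts.mem_cent_dvd rfl
  obtain ⟨c, hcc⟩ := h2
  have h3 : c ∣ 133 := by
    have h4 : 11 * c ∣ 11 * 133 := by rw [← hcc]; exact h1
    exact Nat.dvd_of_mul_dvd_mul_left (by norm_num) h4
  have h5 : c = 1 := by
    by_contra hc1
    obtain ⟨p, hp, hpc⟩ := Nat.exists_prime_and_dvd hc1
    have hp' : p ∣ 7 * 19 := hpc.trans h3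
    have hpp : p = 7 ∨ p = 19 := by
      rcases hp.dvd_mul.1 hp' with h6 | h6
      · exact Or.inl ((Nat.prime_dvd_prime_iff_eq hp (by norm_num)).1 h6)
      · exact Or.inr ((Nat.prime_dvd_prime_iff_eq hp (by norm_num)).1 h6)
    have : Fact p.Prime := ⟨hp⟩
    obtain ⟨x, hx⟩ := exists_prime_orderOf_dvd_card' (G := centralizer ({y} : Set J)) p
      (by rw [hcc]; exact hpc.mul_left _)
    have hx' : orderOf (x : J) = p := by rw [Subgroup.orderOf_coe, hx]
    refine JFacts.big_false h hc (x := (x : J)) (y := y) ?_ hB ?_ (mem_centralizer_singleton_iff.1 x.2)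
    · rw [hx']
      rcases hpp with h6 | h6
      · exact Or.inl h6
      · exact Or.inr (Or.inr h6)
    · rw [hx', hy]
      rcases hpp with h6 | h6 <;> omega
  rw [hcc, h5]

/-- an element of order 11 is inverted by an involution -/
theorem exists_real (h : Local J) {k : J} (hk : orderOf k = 2) :
    ∃ w y : J, orderOf y = 11 ∧ w * w = 1 ∧ w ≠ 1 ∧ w * y * w⁻¹ = y⁻¹ := by
  have hJ := JFacts.isJ1_of_local h hk
  have hs := hJ.1
  have hc := hJ.2
  have : Fact (Nat.Prime 11) := ⟨by norm_num⟩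
  obtain ⟨y, hy⟩ := exists_prime_orderOf_dvd_card' (G := J) 11 (by rw [hc]; norm_num)
  obtain ⟨e, m, he, hprod, hmod, hidx⟩ := JFacts.count (K := J) (s := 11) (by norm_num) hy (by rw [hc]; norm_num)
  rw [card_cent_eleven h hc hy, hc] at hprod
  have he0 : 0 < e := Nat.pos_of_ne_zero (by rintro rfl; norm_num at hprod)
  have h1 : e * m = 15960 := by
    have h2 : 11 * (e * m) = 11 * 15960 := by rw [← mul_assoc, hprod]
    exact Nat.eq_of_mul_eq_mul_left (by norm_num) h2
  have hm : m = 15960 / e := by rw [← h1, Nat.mul_div_cancel_left _ he0]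
  have he10 : e = 10 := arith e (Nat.mem_divisors.2 ⟨he, by norm_num⟩) (by rw [← hm]; exact hmod)
  have hm' : m = 1596 := by rw [hm, he10]
  have hN : Nat.card (normalizer (zpowers y : Set J)) = 110 := by
    have h2 := (normalizer (zpowers y : Set J)).card_mul_index
    rw [← hidx, hm', hc] at h2
    omega
  have : Fact (Nat.Prime 2) := ⟨Nat.prime_two⟩
  obtain ⟨w, hw⟩ := exists_prime_orderOf_dvd_card' (G := normalizer (zpowers y : Set J)) 2 (by rw [hN]; norm_num)
  have hwo : orderOf (w : J) = 2 := by rw [Subgroup.orderOf_coe, hw]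
  obtain ⟨hw1, hw2⟩ := JInner.sq_of_two hwo
  refine ⟨w, y, hy, hw1, hw2, ?_⟩
  have hwy : (w : J) * y * (w : J)⁻¹ ∈ zpowers y := by
    exact (mem_normalizer_iff.1 w.2 y).1 (mem_zpowers y)
  refine (eq_or_inv (r := 11) (by norm_num) hy hw1 hwy).resolve_left fun hcon => ?_
  have h3 := JFacts.mem_cent_dvd hcon
  rw [card_cent_eleven h hc hy, hwo] at h3
  norm_num at h3

end real

variable {H : Type*} [Group H] [Finite H] {V : Type*} [CommGroup V] [Finite V] {ρ : H →* MulAut V}
variable {L A : Subgroup H} [L.Normal]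

/-- the offender is contained in `L` -/
theorem le_L (h : Fr ρ L A) (hJ : Local L) {k : L} (hk : orderOf k = 2) : A ≤ L := by
  intro a ha
  obtain ⟨g, hg⟩ := JInner.inner hJ k hk (MulAut.conjNormal a : MulAut L)
  refine h.inn a ha g g.2 ?_
  intro l hl
  have h1 := congrArg Subtype.val (hg ⟨l, hl⟩)
  rw [MulAut.conjNormal_apply] at h1
  exact h1

/-- the order of the offender -/
theorem card_le (h : Fr ρ L A) (hJ : Local L) {k : L} (hk : orderOf k = 2) : Nat.card A ≤ 8 := by
  have h2 : IsPGroup 2 A := fun a => ⟨1, by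
    rw [pow_one, pow_two]; exact Subtype.ext (h.bo.sq a a.2)⟩
  obtain ⟨n, hn⟩ := IsPGroup.iff_card.1 h2
  have h3 : Nat.card A ∣ Nat.card L := Subgroup.card_dvd_of_le (le_L h hJ hk)
  have h4 : n ≤ 3 := by
    by_contra hlt
    apply hJ.two
    refine Dvd.dvd.trans ?_ h3
    rw [hn]
    exact pow_dvd_pow 2 (show 4 ≤ n by omega)
  rw [hn]
  exact Nat.pow_le_pow_right (by norm_num) h4

theorem ten_le : ∀ d, 0 < d → 11 ∣ 2 ^ d - 1 → 2 * 5 ≤ d := by
  intro d hd h1
  by_contra hlt
  have hd' : d < 10 := by omega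
  interval_cases d <;> norm_num at h1

/-- **groups with the local structure of `J₁` have no best offenders** -/
theorem main (h : Fr ρ L A) (hV : ∀ v : V, v * v = 1) (hJ : Local L) {k : L} (hk : orderOf k = 2) : False := by
  obtain ⟨⟨a, ha⟩, ha1'⟩ := Subgroup.ne_bot_iff_exists_ne_one.1 h.ne
  have ha1 : a ≠ 1 := fun h => ha1' (Subtype.ext h)
  have haL := le_L h hJ hk ha
  obtain ⟨w, y, hy, hw, hw1, hwy⟩ := exists_real hJ hk
  have hao : orderOf (⟨a, haL⟩ : L) = 2 :=
    JInner.two_of_sq (Subtype.ext (h.bo.sq a ha)) fun h1 => ha1 (congrArg Subtype.val h1)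
  obtain ⟨g, hg⟩ := hJ.conj _ _ hao (JInner.two_of_sq hw hw1)
  have hgw : (g : H) * a * (g : H)⁻¹ = (w : H) := congrArg Subtype.val hg
  have hyH : orderOf (y : H) = 11 := by rw [Subgroup.orderOf_coe, hy]
  have hy1 : (y : H) ≠ 1 := by
    intro h1
    rw [h1, orderOf_one] at hyH
    omega
  have h1 : 2 ^ 5 ≤ (fx ρ (w : H)).index := by
    refine le_index (a := (w : H)) (y := (y : H)) hV (l := 11) (by norm_num) (by norm_num) hyH
      (h.faithL _ y.2 hy1) ?_ ten_le
    exact congrArg Subtype.val hwy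
  rw [← hgw, index_fx_conj] at h1
  have h2 : (fx ρ a).index ≤ (CS ρ A).index := index_le_of_le (CS_le_fx ha)
  have h3 := h.bo.index_le
  have h4 := card_le h hJ hk
  omega

end Cfsg.Agent.OddCyclic.FFJ1
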