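import Cfsg.Agent.OddCyclic.FFThree
import Cfsg.Agent.OddCyclic.FFJ1
import Cfsg.Agent.OddCyclic.RedFFDefs
import Cfsg.Agent.OddCyclic.PumpMain
import Cfsg.Agent.OddCyclic.T1Socle

/-!
# The local theorems of FFC, transferred to subgroups
-/

set_option autoImplicit false
set_option linter.unusedSectionVars false

namespace Cfsg.Agent.OddCyclic.FFLoc

open Cfsg.Agent.OddCyclic.T1Module Cfsg.Agent.OddCyclic.FFBasic Cfsg.Agent.OddCyclic.FFRed
  Cfsg.Agent.OddCyclic.FFSl2 Cfsg.Agent.OddCyclic.T1Defs Cfsg.Agent.OddCyclic.RedFFDefs Cfsg.Agent.OddCyclic.PumpMain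

section transfer

variable {X : Type*} [Group X] {V : Type*} [CommGroup V] {ρ : X →* MulAut V} {Y : Type*} [Group Y] (j : Y →* X)

theorem fx_comp (y : Y) : fx (ρ.comp j) y = fx ρ (j y) := rfl

theorem CS_comp (B : Subgroup Y) : CS (ρ.comp j) B = CS ρ (B.map j) := by
  ext v
  constructor
  · rintro hv _ ⟨b, hb, rfl⟩
    exact hv b hb
  · intro hv b hb
    exact hv (j b) ⟨b, hb, rfl⟩

theorem map_comap {j : Y →* X} {A : Subgroup X} (h : A ≤ j.range) : (A.comap j).map j = A := by
  rw [Subgroup.map_comap_eq, inf_eq_right]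
  exact h

theorem bo_comap {A : Subgroup X} (hA : BO ρ A) {j : Y →* X} (hj : Function.Injective j) (h : A ≤ j.range) :
    BO (ρ.comp j) (A.comap j) := by
  refine ⟨fun a ha => hj (by rw [map_mul, map_one]; exact hA.sq _ ha), fun B hB => ?_⟩
  have h1 : B.map j ≤ A := by rw [Subgroup.map_le_iff_le_comap]; exact hB
  have h2 := hA.best _ h1
  rw [CS_comp, CS_comp, map_comap h]
  rw [Subgroup.card_map_of_injective hj] at h2
  have h3 : Nat.card (A.comap j) = Nat.card A := by
    rw [← Subgroup.card_map_of_injective hj, map_comap h]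
  rw [h3]
  exact h2

theorem card_comap {A : Subgroup X} {j : Y →* X} (hj : Function.Injective j) (h : A ≤ j.range) :
    Nat.card (A.comap j) = Nat.card A := by
  rw [← Subgroup.card_map_of_injective hj, map_comap h]

theorem comap_ne_bot {A : Subgroup X} (hA : A ≠ ⊥) {j : Y →* X} (h : A ≤ j.range) : A.comap j ≠ ⊥ := by
  intro h1
  apply hA
  rw [← map_comap h, h1, Subgroup.map_bot]

end transfer

variable {H : Type*} [Group H] [Finite H] {V : Type*} [CommGroup V] [Finite V] {ρ : H →* MulAut V}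
variable {L A : Subgroup H} [L.Normal]

/-- the linear case with `A ≤ L` -/
theorem outLin {F : Type} [Field F] [Fintype F] [CharP F 2] (h4 : 4 ≤ Fintype.card F)
    (e : Matrix.SpecialLinearGroup (Fin 2) F ≃* L) (h : Fr ρ L A) (hV : ∀ v : V, v * v = 1) (hAL : A ≤ L) :
    OutLin ρ A := by
  set j : Matrix.SpecialLinearGroup (Fin 2) F →* H := L.subtype.comp e.toMonoidHom with hj
  have hinj : Function.Injective j := L.subtype_injective.comp e.injective
  have hrange : j.range = L := by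
    ext x
    constructor
    · rintro ⟨y, rfl⟩; exact (e y).2
    · intro hx
      exact ⟨e.symm ⟨x, hx⟩, by show ((e (e.symm ⟨x, hx⟩) : L) : H) = x; rw [e.apply_symm_apply]⟩
  have hAr : A ≤ j.range := by rw [hrange]; exact hAL
  have hne : ∃ g v, (ρ.comp j) g v ≠ v := by
    obtain ⟨⟨a, ha⟩, ha1'⟩ := Subgroup.ne_bot_iff_exists_ne_one.1 h.ne
    have ha1 : a ≠ 1 := fun h => ha1' (Subtype.ext h)
    obtain ⟨v, hv⟩ := h.faithL a (hAL ha) ha1
    obtain ⟨g, hg⟩ := hAr ha
    refine ⟨g, v, ?_⟩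
    show ρ (j g) v ≠ v
    rw [hg]; exact hv
  obtain ⟨hN, U, hU⟩ := FFSl2.main h4 hV hne (bo_comap h.bo hinj hAr) (comap_ne_bot h.ne hAr)
  have hcA : Nat.card A = Fintype.card F := by
    rw [← card_comap hinj hAr, hU]
    exact T1Sl2.card_sylow U
  have hCA : CS (ρ.comp j) (A.comap j) = CS ρ A := by rw [CS_comp, map_comap hAr]
  refine ⟨L, inferInstance, hAL, F, inferInstance, inferInstance, inferInstance, h4, ⟨e.symm⟩, hcA, ?_, ?_, ?_⟩
  · have h1 := hN.top
    rw [CS_comp, ← MonoidHom.range_eq_map, hrange] at h1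
    exact h1
  · rw [← hCA, hU]
    exact hN.index U
  · intro a ha ha1
    obtain ⟨g, rfl⟩ := hAr ha
    rw [← hCA, hU, ← fx_comp]
    apply hN.fix U
    · have h1 : g ∈ (U : Subgroup (Matrix.SpecialLinearGroup (Fin 2) F)) := by
        rw [← hU]; exact ha
      exact h1
    · rintro rfl
      exact ha1 (map_one j)

/-- the case `L₂(7)` -/
theorem outSeven {F : Type*} [Field F] [Finite F] (R : Cfsg.Agent.GH.L2Aut.Rep F L) (hs : IsSimpleGroup L)
    (h : Fr ρ L A) (hV : ∀ v : V, v * v = 1) (hc : OddCyc H) (hF : (Nat.card F).Prime) (h7 : 7 ≤ Nat.card F) :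
    OutSeven A := by
  have h1 := FFPsl.le_L R h hV hc hF h7
  have h2 := FFPsl.seven R h hV hc hF h7
  exact ⟨L, inferInstance, h1, hs, (FFThree.l32_of R h2).card⟩

end Cfsg.Agent.OddCyclic.FFLoc
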