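import Cfsg.Agent.OddCyclic.COneX
import Cfsg.Agent.OddCyclic.FFLoc
import Cfsg.Agent.S0495

/-!
# S0342 (D): no offender in a normal `L₃(2)`

`false_of_seven`: in the situation `XM ρ T Mb` no best offender `A ≤ T` lies in a normal simple subgroup of order 168.
-/

set_option autoImplicit false

namespace Cfsg.Agent.OddCyclic.COneSeven

open Subgroup
open Cfsg.Agent.OddCyclic.T1Module Cfsg.Agent.OddCyclic.FFBasic Cfsg.Agent.OddCyclic.FFRed
open Cfsg.Agent.OddCyclic.RedFFDefs Cfsg.Agent.OddCyclic.COneX Cfsg.Agent.OddCyclic.FFThree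
open Cfsg.Agent.OddCyclic.FFSl2

theorem two_ne : (2 : ZMod 7) ≠ 0 := by decide

theorem l32 {L : Type*} [Group L] [Finite L] (hs : IsSimpleGroup L) (hc : Nat.card L = 168) : L32 L := by
  have : Fact (Nat.Prime 7) := ⟨by norm_num⟩
  obtain ⟨e⟩ := Cfsg.Agent.S0495.result (G := L) hc (F := ZMod 7) (ZMod.card 7)
  exact l32_of (Cfsg.Agent.GH.L2Aut.Rep.ofEquiv (F := ZMod 7) two_ne e) (by simp)

variable {L : Type*} [Group L] [Finite L] {V : Type*} [CommGroup V] [Finite V] {ρ : L →* MulAut V}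

/-- a four-group all of whose involutions have the same fixed points -/
structure Ax (ρ : L →* MulAut V) (C : Subgroup L) : Prop where
  four : IsFour C
  fix : ∀ a ∈ C, a ≠ 1 → fx ρ a = CS ρ C

theorem index_le (h : Mod ρ) {A : Subgroup L} (hA : BO ρ A) (hA1 : A ≠ ⊥) {a : L} (ha1 : a ≠ 1) (ha : a * a = 1) :
    (fx ρ a).index ≤ 4 := by
  rcases FFThree.main h hA hA1 with h1 | h1
  · rw [h1.inv a ha1 ha]; norm_num
  · rw [h1.1 a ha1 ha]

/-- the two four-groups of a Sylow 2-subgroup are distinguished by the fixed points -/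
theorem exists_ax (h : Mod ρ) {A : Subgroup L} (hA : BO ρ A) (hA1 : A ≠ ⊥) (S : Sylow 2 L) (hAS : A ≤ S) :
    ∃ C B : Subgroup L, Ax ρ C ∧ C ≤ S ∧ IsFour B ∧ B ≤ S ∧ ¬ Ax ρ B ∧
      (∀ D : Subgroup L, IsFour D → D ≤ S → D = C ∨ D = B) ∧
      normalizer (C : Set L) ⊔ normalizer (B : Set L) = ⊤ := by
  obtain ⟨C, hC, hCS⟩ : ∃ C : Subgroup L, Ax ρ C ∧ C ≤ S := by
    rcases FFThree.main h hA hA1 with h1 | h1
    · obtain ⟨C, h2, h3, h4⟩ := Alpha.exists_axis h h1 S
      exact ⟨C, ⟨h2, h4⟩, h3⟩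
    · exact ⟨A, ⟨h1.2.1, h1.2.2⟩, hAS⟩
  obtain ⟨B, hB⟩ := FFThree.par h.l32 S hC.four hCS hC.fix
  refine ⟨C, B, hC, hCS, hB.four, hB.le, ?_, hB.only, hB.gen⟩
  intro hB'
  obtain ⟨C', hC'⟩ := FFThree.par h.l32 S hB'.four hB.le hB'.fix
  have hCC : C' = C := by
    rcases hB.only C' hC'.four hC'.le with h1 | h1
    · exact h1
    · exact absurd h1.symm hC'.ne
  subst hCC
  have h1 : CS ρ (S : Subgroup L) ≤ CS ρ ⊤ := by
    intro v hv
    rw [mem_CS_iff, ← hB.gen]
    refine sup_le ?_ ?_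
    · exact fun x hx => hC'.cent x hx v hv
    · exact fun x hx => hB.cent x hx v hv
  have h2 : (CS ρ (⊤ : Subgroup L)).index ≤ (CS ρ (S : Subgroup L)).index := index_le_of_le h1
  obtain ⟨a, ha, ha1, -⟩ := hB'.four.exists_third 1
  have h3 := hB'.fix a ha ha1
  have h4 := index_le h hA hA1 ha1 (hB'.four.sq a ha)
  rw [h3, ← hB.fix] at h4
  have h5 := h.top_le
  omega

variable {X : Type*} [Group X] [Finite X] {ρ : X →* MulAut V} {T : Sylow 2 X} {Mb : Subgroup X}

theorem false_of_seven (h : XM ρ T Mb) {A : Subgroup X} (hA : BO ρ A) (hA1 : A ≠ ⊥) (hAT : A ≤ T)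
    (h7 : OutSeven A) : False := by
  have : Fact (Nat.Prime 2) := ⟨Nat.prime_two⟩
  obtain ⟨L, hLn, hAL, hs, hcard⟩ := h7
  set j : L →* X := L.subtype with hj
  have hinj : Function.Injective j := L.subtype_injective
  have hr : A ≤ j.range := by rw [hj, Subgroup.range_subtype]; exact hAL
  have hmod : Mod (ρ.comp j) := by
    refine ⟨l32 hs hcard, h.sq, fun y hy => ?_⟩
    by_contra hcon
    push Not at hcon
    apply hy
    apply hinj
    apply h.inj
    rw [map_one, map_one]
    ext v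
    exact hcon v
  have hbo := FFLoc.bo_comap hA hinj hr
  have hne := FFLoc.comap_ne_bot hA1 hr
  let S : Sylow 2 L := (Cfsg.Agent.Lib.SylowNormalInf.isPGroup_subgroupOf T L).toSylow
    (Cfsg.Agent.Lib.SylowNormalInf.not_dvd_relIndex T L)
  have hS : (S : Subgroup L) = (T : Subgroup X).subgroupOf L := rfl
  have hAS : A.comap j ≤ (S : Subgroup L) := fun x hx => hAT hx
  obtain ⟨C, B, hC, hCS, hB, hBS, hBx, honly, hgen⟩ := exists_ax hmod hbo hne S hAS
  -- the action of `T` on `L`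
  have key : ∀ t ∈ (T : Subgroup X), ∀ D : Subgroup L, IsFour D → D ≤ S →
      IsFour (D.map (MulAut.conjNormal t).toMonoidHom) ∧ D.map (MulAut.conjNormal t).toMonoidHom ≤ S := by
    intro t ht D hD hDS
    refine ⟨⟨?_, ?_⟩, ?_⟩
    · have := Subgroup.card_map_of_injective (K := D) (f := (MulAut.conjNormal t : MulAut L).toMonoidHom)
        (MulAut.conjNormal t).injective
      rw [this]
      exact hD.card
    · rintro _ ⟨x, hx, rfl⟩
      rw [← map_mul, hD.sq x hx, map_one]
    · rintro _ ⟨x, hx, rfl⟩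
      rw [hS, mem_subgroupOf]
      change ((MulAut.conjNormal t x : L) : X) ∈ _
      rw [MulAut.conjNormal_apply]
      exact mul_mem (mul_mem ht (hDS hx)) (inv_mem ht)
  have keyC : ∀ t ∈ (T : Subgroup X), Ax (ρ.comp j) (C.map (MulAut.conjNormal t).toMonoidHom) := by
    intro t ht
    refine ⟨(key t ht C hC.four hCS).1, ?_⟩
    rintro _ ⟨a, ha, rfl⟩ ha1
    have ha1' : a ≠ 1 := by
      rintro rfl
      exact ha1 (map_one _)
    refine le_antisymm ?_ (CS_le_fx (Subgroup.mem_map_of_mem _ ha))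
    intro v hv
    have e1 : ∀ x : L, (ρ.comp j) ((MulAut.conjNormal t).toMonoidHom x) = ρ t * (ρ.comp j) x * ρ t⁻¹ := by
      intro x
      change ρ ((MulAut.conjNormal t x : L) : X) = _
      rw [MulAut.conjNormal_apply, map_mul, map_mul]
      rfl
    have h1 : ρ t⁻¹ v ∈ fx (ρ.comp j) a := by
      have h2 : (ρ t * (ρ.comp j) a * ρ t⁻¹) v = v := by rw [← e1]; exact hv
      change (ρ.comp j) a (ρ t⁻¹ v) = ρ t⁻¹ v
      have h3 : ρ t⁻¹ ((ρ t * (ρ.comp j) a * ρ t⁻¹) v) = ρ t⁻¹ v := congrArg (ρ t⁻¹) h2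
      have h4 : ρ t⁻¹ ((ρ t * (ρ.comp j) a * ρ t⁻¹) v) = (ρ.comp j) a (ρ t⁻¹ v) := by
        change (ρ t⁻¹ * (ρ t * (ρ.comp j) a * ρ t⁻¹)) v = _
        rw [← mul_assoc, ← mul_assoc, ← map_mul, inv_mul_cancel, map_one, one_mul]
        rfl
      rw [← h4, h3]
    rw [hC.fix a ha ha1'] at h1
    rintro _ ⟨c, hc, rfl⟩
    rw [SetLike.mem_coe] at hc
    have h3 : (ρ.comp j) ((MulAut.conjNormal t).toMonoidHom c) v = v := by
      rw [e1, MulAut.mul_apply, MulAut.mul_apply, h1 c hc, ← MulAut.mul_apply, ← map_mul, mul_inv_cancel, map_one,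
        MulAut.one_apply]
    exact h3
  have fixC : ∀ t ∈ (T : Subgroup X), C.map (MulAut.conjNormal t).toMonoidHom = C := by
    intro t ht
    have h1 := key t ht C hC.four hCS
    rcases honly _ h1.1 h1.2 with h2 | h2
    · exact h2
    · exfalso
      apply hBx
      rw [← h2]
      exact keyC t ht
  have fixB : ∀ t ∈ (T : Subgroup X), B.map (MulAut.conjNormal t).toMonoidHom = B := by
    intro t ht
    have h1 := key t ht B hB hBS
    rcases honly _ h1.1 h1.2 with h2 | h2
    · exfalso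
      apply hBx
      have h3 : B = C := by
        apply Subgroup.map_injective (f := (MulAut.conjNormal t : MulAut L).toMonoidHom) (MulAut.conjNormal t).injective
        rw [h2, fixC t ht]
      rw [h3]
      exact hC
    · exact h2
  have hNX : ∀ D : Subgroup L, IsFour D → (∀ t ∈ (T : Subgroup X), D.map (MulAut.conjNormal t).toMonoidHom = D) →
      normalizer ((D.map j : Subgroup X) : Set X) ≤ Mb ∧ (T : Subgroup X) ≤ normalizer ((D.map j : Subgroup X) : Set X) := by
    intro D hD hfix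
    have hT : (T : Subgroup X) ≤ normalizer ((D.map j : Subgroup X) : Set X) := by
      rw [le_normalizer_iff]
      rintro t ht _ ⟨x, hx, rfl⟩
      have h1 : (MulAut.conjNormal t).toMonoidHom x ∈ D := by
        have := Subgroup.mem_map_of_mem (MulAut.conjNormal t).toMonoidHom hx
        rwa [hfix t ht] at this
      refine ⟨_, h1, ?_⟩
      change ((MulAut.conjNormal t x : L) : X) = _
      rw [MulAut.conjNormal_apply]
      rfl
    refine ⟨h.min _ hT ?_, hT⟩
    intro htop
    have hn : (D.map j).Normal := normalizer_eq_top_iff.1 htop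
    have hp : IsPGroup 2 (D.map j) := by
      have : IsPGroup 2 D := IsPGroup.of_card (n := 2) (by rw [hD.card]; norm_num)
      exact this.map j
    have h1 := h.core _ hn hp
    have h2 := hD.card
    rw [(Subgroup.map_eq_bot_iff_of_injective _ hinj).1 h1, card_bot] at h2
    omega
  have hCM := hNX C hC.four fixC
  have hBM := hNX B hB fixB
  have hLM : L ≤ Mb := by
    have h1 : (normalizer (C : Set L)).map j ≤ Mb := (le_normalizer_map j).trans hCM.1
    have h2 : (normalizer (B : Set L)).map j ≤ Mb := (le_normalizer_map j).trans hBM.1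
    have h3 := sup_le h1 h2
    rw [← Subgroup.map_sup, hgen, ← MonoidHom.range_eq_map, hj, Subgroup.range_subtype] at h3
    exact h3
  apply h.ne
  rw [eq_top_iff, ← h.sup_eq hLn ?_]
  · exact sup_le hLM (hCM.2.trans hCM.1)
  · intro h0
    apply hA1
    rw [eq_bot_iff, ← h0]
    exact le_inf hAL hAT

end Cfsg.Agent.OddCyclic.COneSeven
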