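import Cfsg.Agent.OddCyclic.FFPslMat
import Cfsg.Agent.OddCyclic.FFSl2
import Cfsg.Agent.OddCyclic.T1SzComp
import Cfsg.Agent.OddCyclic.JInner
import Cfsg.Agent.GH.L2AutSyl

/-!
# Best offenders in `PGL₂(p)`, `p ≥ 7` prime: `p = 7`
-/

set_option autoImplicit false
set_option linter.unusedSectionVars false

namespace Cfsg.Agent.OddCyclic.FFPsl

open Matrix Cfsg.Agent.Lib.SL2Mat Cfsg.Agent.OddCyclic.T1Module Cfsg.Agent.OddCyclic.FFBasic
  Cfsg.Agent.OddCyclic.FFRed Cfsg.Agent.OddCyclic.FFSl2 Cfsg.Agent.OddCyclic.FFPslMat Cfsg.Agent.OddCyclic.PGLTorus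
  Cfsg.Agent.OddCyclic.T1Defs

section general

variable {H : Type*} [Group H] {V : Type*} [CommGroup V] (ρ : H →* MulAut V)

theorem fx_zpow {y : H} {v : V} (hy : v ∈ fx ρ y) (n : ℤ) : v ∈ fx ρ (y ^ n) := by
  obtain ⟨m, rfl | rfl⟩ := n.eq_nat_or_neg
  · rw [zpow_natCast]; exact fx_pow ρ hy m
  · rw [_root_.zpow_neg, zpow_natCast]; exact fx_inv ρ (fx_pow ρ hy m)

theorem fx_le_of_mem {y z : H} (h : z ∈ Subgroup.zpowers y) : fx ρ y ≤ fx ρ z := by
  obtain ⟨k, rfl⟩ := h
  exact fun v hv => fx_zpow ρ hv k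

open scoped Pointwise in
/-- elements of the same odd prime order have fixed point subgroups of the same index -/
theorem index_eq_of_orderOf [Finite H] (hc : OddCyc H) {r : ℕ} (hr : r.Prime) (hr2 : r ≠ 2) {y z : H}
    (hy : orderOf y = r) (hz : orderOf z = r) : (fx ρ y).index = (fx ρ z).index := by
  have : Fact r.Prime := ⟨hr⟩
  have hp : ∀ y : H, orderOf y = r → ∃ P : Sylow r H, y ∈ P := by
    intro y hy
    have h1 : IsPGroup r (Subgroup.zpowers y) := IsPGroup.of_card (n := 1) (by rw [Nat.card_zpowers, hy, pow_one])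
    obtain ⟨P, hP⟩ := h1.exists_le_sylow
    exact ⟨P, hP (Subgroup.mem_zpowers y)⟩
  obtain ⟨P, hP⟩ := hp y hy
  obtain ⟨Q, hQ⟩ := hp z hz
  obtain ⟨g, hg⟩ := MulAction.exists_smul_eq H P Q
  have h1 : g * y * g⁻¹ ∈ Q := by
    rw [← hg]
    show g * y * g⁻¹ ∈ (MulAut.conj g • (P : Subgroup H) : Subgroup H)
    rw [Subgroup.mem_pointwise_smul_iff_inv_smul_mem]
    have h2 : (MulAut.conj g)⁻¹ • (g * y * g⁻¹) = y := by
      rw [← map_inv, MulAut.smul_def, MulAut.conj_apply]; group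
    rw [h2]
    exact hP
  have h2 : orderOf (g * y * g⁻¹) = orderOf z := by
    rw [hz, ← hy]
    exact orderOf_injective (MulAut.conj g).toMonoidHom (MulAut.conj g).injective y
  have hcQ := hc r Q hr hr2
  have h3 := T1SzComp.mem_zpowers_of_cyclic hcQ (show g * y * g⁻¹ ∈ (Q : Subgroup H) from h1) hQ h2
  have h4 := T1SzComp.mem_zpowers_of_cyclic hcQ hQ (show g * y * g⁻¹ ∈ (Q : Subgroup H) from h1) h2.symm
  rw [← index_fx_conj ρ g y]
  congr 1
  exact le_antisymm (fx_le_of_mem ρ h4) (fx_le_of_mem ρ h3)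

/-- the index of the fixed points of a product -/
theorem index_mul_le [Finite V] (y z : H) : (fx ρ (y * z)).index ≤ (fx ρ y).index * (fx ρ z).index := by
  refine (index_le_of_le ?_).trans Subgroup.index_inf_le
  exact fun v hv => fx_mul ρ hv.1 hv.2

end general

variable {H : Type*} [Group H] [Finite H] {V : Type*} [CommGroup V] [Finite V] {ρ : H →* MulAut V}
variable {L A : Subgroup H} [L.Normal] {F : Type*} [Field F] [Finite F] (R : Cfsg.Agent.GH.L2Aut.Rep F L)

local notation "ψ" => (MulAut.conjNormal (H := L))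

theorem psi_ne (h : Fr ρ L A) {a : H} (ha : a ∈ A) (ha1 : a ≠ 1) : ψ a ≠ 1 := by
  intro h1
  apply ha1
  apply h.faithA a ha
  intro l hl
  have h2 := congrArg (fun α : MulAut L => ((α ⟨l, hl⟩ : L) : H)) h1
  simp only [MulAut.conjNormal_apply, MulAut.one_apply] at h2
  exact mul_inv_eq_iff_eq_mul.1 h2

theorem psi_sq (h : Fr ρ L A) {a : H} (ha : a ∈ A) : ψ a * ψ a = 1 := by
  rw [← map_mul, h.bo.sq a ha, map_one]

/-- the matrix of `a ∈ A` -/
theorem exists_mat (h : Fr ρ L A) (hF : (Nat.card F).Prime) {a : H} (ha : a ∈ A) (ha1 : a ≠ 1) :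
    ∃ γ : GL (Fin 2) F, γ.1.trace = 0 ∧ R.gl γ = ψ a := by
  obtain ⟨γ, hγ⟩ := R.mem_PGL.1 (mem_PGL_of_prime R hF (ψ a))
  refine ⟨γ, ?_, hγ.symm⟩
  apply trace_of_sq R
  · rw [← hγ]; exact psi_ne h ha ha1
  · rw [← hγ]; exact psi_sq h ha

/-- the matrices of two different elements are orthogonal -/
theorem orth (h : Fr ρ L A) {a b : H} (ha : a ∈ A) (hb : b ∈ A) (hab : a * b ≠ 1) {γ δ : GL (Fin 2) F}
    (hγ : R.gl γ = ψ a) (hδ : R.gl δ = ψ b) : (γ.1 * δ.1).trace = 0 := by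
  have h1 : R.gl (γ * δ) = ψ (a * b) := by rw [map_mul, map_mul, hγ, hδ]
  have h2 := trace_of_sq R (g := γ * δ) (by rw [h1]; exact psi_ne h (mul_mem ha hb) hab)
    (by rw [h1]; exact psi_sq h (mul_mem ha hb))
  exact h2

include R in
theorem card_le_four (h : Fr ρ L A) (hF : (Nat.card F).Prime) : Nat.card A ≤ 4 := by
  by_contra hcon
  push Not at hcon
  obtain ⟨a, ha, ha1, -, -, -⟩ := JInner.exists_notin A hcon 1 1 1 1
  obtain ⟨b, hb, hb1, hba, -, -⟩ := JInner.exists_notin A hcon 1 a 1 1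
  obtain ⟨c, hc, hc1, hca, hcb, hcab⟩ := JInner.exists_notin A hcon 1 a b (a * b)
  have hinv : ∀ x ∈ A, x⁻¹ = x := fun x hx => inv_eq_of_mul_eq_one_left (h.bo.sq x hx)
  have hne : ∀ x ∈ A, ∀ y ∈ A, x ≠ y → x * y ≠ 1 := by
    intro x hx y hy hxy h1
    apply hxy
    rw [← hinv x hx]
    exact (eq_inv_of_mul_eq_one_right h1).symm ▸ rfl
  obtain ⟨γ, hγ0, hγ⟩ := exists_mat R h hF ha ha1
  obtain ⟨δ, hδ0, hδ⟩ := exists_mat R h hF hb hb1
  obtain ⟨ε, hε0, hε⟩ := exists_mat R h hF hc hc1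
  have h1 := orth R h ha hb (hne a ha b hb hba.symm) hγ hδ
  have h2 := orth R h ha hc (hne a ha c hc hca.symm) hγ hε
  have h3 := orth R h hb hc (hne b hb c hc hcb.symm) hδ hε
  have h4 := orth R h (mul_mem ha hb) hc (hne (a * b) (mul_mem ha hb) c hc hcab.symm)
    (γ := γ * δ) (δ := ε) (by rw [map_mul, map_mul, hγ, hδ]) hε
  exact no_three hγ0 hδ0 hε0 h1 h2 h3 h4 R.two

omit [Finite H] in
/-- prime order elements inverted by an involution with small index -/
theorem small (hV : ∀ v : V, v * v = 1) {a y : H} (ha : a * a = 1) {p : ℕ} (hp : p.Prime) (hp2 : p ≠ 2)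
    (hy : orderOf y = p) (hne : ∃ v, ρ y v ≠ v) (hay : a * y * a⁻¹ = y⁻¹) (hi : (fx ρ a).index ≤ 4) :
    (p = 3 ∨ p = 5) ∧ (fx ρ y).index ≤ 16 := by
  have hodd : Odd (orderOf y) := by rw [hy]; exact hp.odd_of_ne_two hp2
  obtain ⟨d, hd, h1, h2⟩ := prim (ρ := ρ) hV hp hp2 hy hne
  obtain ⟨e, he⟩ := prim_even (ρ := ρ) hV ha hodd hay
  have h3 := half' ρ hodd hay
  have h4 : (fx ρ y).index ≤ 16 := h3.trans (Nat.pow_le_pow_left hi 2)
  refine ⟨?_, h4⟩
  have h7 : d = 2 * e := by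
    rw [h1, ← pow_mul] at he
    rw [Nat.pow_right_injective (le_refl 2) he, mul_comm]
  rw [h1] at h4
  have h5 : d ≤ 4 := by
    have : (2 : ℕ) ^ d ≤ 2 ^ 4 := h4
    exact (Nat.pow_le_pow_iff_right (by norm_num)).1 this
  have h6 : d = 2 ∨ d = 4 := by omega
  rcases h6 with rfl | rfl
  · left
    exact (Nat.prime_dvd_prime_iff_eq hp Nat.prime_three).1 h2
  · have h8 : p ∣ 3 * 5 := h2
    rcases (Nat.Prime.dvd_mul hp).1 h8 with h9 | h9
    · left; exact (Nat.prime_dvd_prime_iff_eq hp Nat.prime_three).1 h9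
    · right; exact (Nat.prime_dvd_prime_iff_eq hp Nat.prime_five).1 h9

theorem charP (hF : (Nat.card F).Prime) : CharP F (Nat.card F) := by
  have := Fintype.ofFinite F
  have hch := ringChar.charP F
  have h1 : ringChar F ∣ Nat.card F := by
    rw [← CharP.cast_eq_zero_iff F (ringChar F), Nat.card_eq_fintype_card, Nat.cast_card_eq_zero]
  rcases (Nat.dvd_prime hF).1 h1 with h3 | h3
  · exact absurd h3 CharP.ringChar_ne_one
  · rwa [h3] at hch

theorem conj_of_psi {a : H} {x : L} {y : L} (h : ψ a x = y) : a * x * a⁻¹ = y := by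
  have := congrArg (fun z : L => (z : H)) h
  simpa [MulAut.conjNormal_apply] using this

theorem det_ne (γ : GL (Fin 2) F) : γ.1.det ≠ 0 := (Matrix.GeneralLinearGroup.det γ).ne_zero

/-- `a` inverts an element of order 3 of `L` -/
theorem exists_three (h3 : (3 : F) ≠ 0) {a : H} {γ : GL (Fin 2) F} (hγ0 : γ.1.trace = 0) (hγ : R.gl γ = ψ a) :
    ∃ y ∈ L, orderOf y = 3 ∧ a * y * a⁻¹ = y⁻¹ := by
  obtain ⟨x, hx, hx'⟩ := inv_exists R.two hγ0 (det_ne γ) 1
  obtain ⟨h1, h2⟩ := order_three_one R h3 hx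
  refine ⟨R.π x, (R.π x).2, ?_, ?_⟩
  · have : Fact (Nat.Prime 3) := ⟨Nat.prime_three⟩
    rw [Subgroup.orderOf_coe]
    exact orderOf_eq_prime h1 h2
  · have h4 := gl_inv R hγ0 hx'
    rw [hγ] at h4
    exact conj_of_psi h4

theorem mem_of_isSquare (h : Fr ρ L A) {a : H} (ha : a ∈ A) {γ : GL (Fin 2) F} (hγ : R.gl γ = ψ a)
    (hs : IsSquare γ.1.det) : a ∈ L := by
  obtain ⟨y, hy⟩ := R.gl_mem_inn.2 hs
  apply h.inn a ha y y.2
  intro l hl
  rw [hγ] at hy
  have h1 := congrArg (fun α : MulAut L => ((α ⟨l, hl⟩ : L) : H)) hy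
  simp only [MulAut.conjNormal_apply, MulAut.conj_apply] at h1
  exact h1.symm

/-- no split involution -/
theorem not_split (h : Fr ρ L A) (hV : ∀ v : V, v * v = 1) (hF : (Nat.card F).Prime) (h7 : 7 ≤ Nat.card F) {a : H}
    (ha : a ∈ A) {γ : GL (Fin 2) F} (hγ0 : γ.1.trace = 0) (hγ : R.gl γ = ψ a) (hi : (fx ρ a).index ≤ 4) :
    ¬ IsSquare (-γ.1.det) := by
  rintro ⟨s, hs⟩
  obtain ⟨u, hu1, hup, hui⟩ := split_inv R hγ0 hs.symm
  have hch := charP hF
  have hfact : Fact (Nat.card F).Prime := ⟨hF⟩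
  have h1 := hup (Nat.card F) (CharP.cast_eq_zero F (Nat.card F))
  have h2 : orderOf ((R.π u : L) : H) = Nat.card F := by
    rw [Subgroup.orderOf_coe]
    exact orderOf_eq_prime (by rw [← map_pow, h1, map_one]) hu1
  rw [hγ] at hui
  have h3 := conj_of_psi hui
  have h4 : ((R.π u : L) : H) ≠ 1 := fun h => hu1 (Subtype.ext h)
  rcases (small hV (h.bo.sq a ha) hF (by omega) h2 (h.faithL _ (R.π u).2 h4) h3 hi).1 with h5 | h5 <;> omega

/-- a dihedral group of order 30 generated by elements with small commutator -/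
theorem kill15 (hV : ∀ v : V, v * v = 1) {a y : H} (hy : orderOf y = 15) (hay : a * y * a⁻¹ = y⁻¹)
    (h5 : ∃ v, ρ (y ^ 3) v ≠ v) (h3 : ∃ v, ρ (y ^ 5) v ≠ v) (hi : (fx ρ a).index ≤ 4) : False := by
  classical
  have o5 : orderOf (y ^ 3) = 5 := by rw [orderOf_pow, hy]; norm_num
  have o3 : orderOf (y ^ 5) = 3 := by rw [orderOf_pow, hy]; norm_num
  have hodd : Odd (orderOf y) := by rw [hy]; decide
  have hy16 : (fx ρ y).index ≤ 16 := (half' ρ hodd hay).trans (Nat.pow_le_pow_left hi 2)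
  have hle3 : fx ρ y ≤ fx ρ (y ^ 3) := fun v hv => fx_pow ρ hv 3
  have hle5 : fx ρ y ≤ fx ρ (y ^ 5) := fun v hv => fx_pow ρ hv 5
  obtain ⟨d, hd, hd1, hd2⟩ := prim (ρ := ρ) hV Nat.prime_five (by norm_num) o5 h5
  have hd4 : 4 ≤ d := by
    by_contra hcon
    have : d = 1 ∨ d = 2 ∨ d = 3 := by omega
    rcases this with rfl | rfl | rfl <;> norm_num at hd2
  have hi3 : 16 ≤ (fx ρ (y ^ 3)).index := by
    rw [hd1]
    calc 16 = 2 ^ 4 := by norm_num
      _ ≤ 2 ^ d := Nat.pow_le_pow_right (by norm_num) hd4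
  have hi3' := index_le_of_le hle3
  have heq3 : fx ρ y = fx ρ (y ^ 3) := eq_of_index_le hle3 (by omega)
  have hiy : (fx ρ y).index = 16 := by omega
  -- the elements of order 3
  obtain ⟨e, he, he1, he2⟩ := prim (ρ := ρ) hV Nat.prime_three (by norm_num) o3 h3
  have he4 : 4 ≤ (fx ρ (y ^ 5)).index := by
    rw [he1]
    have : 2 ≤ e := by
      by_contra hcon
      have : e = 1 := by omega
      subst this
      norm_num at he2
    calc 4 = 2 ^ 2 := rfl
      _ ≤ 2 ^ e := Nat.pow_le_pow_right (by norm_num) this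
  have heq5 : fx ρ y = fx ρ (y ^ 5) := by
    have hst : ∀ n ∈ Subgroup.zpowers y, ∀ w ∈ fx ρ (y ^ 5), ρ n w ∈ fx ρ (y ^ 5) := by
      rintro _ ⟨k, rfl⟩ w hw
      rw [mem_fx] at hw ⊢
      have h1 : ρ (y ^ 5) (ρ (y ^ k) w) = ρ (y ^ k) (ρ (y ^ 5) w) := by
        rw [← MulAut.mul_apply, ← MulAut.mul_apply, ← map_mul, ← map_mul]
        congr 2
        exact ((Commute.refl y).pow_left 5).zpow_right k
      exact h1.trans (by rw [hw])
    let ρ' := res ρ (Subgroup.zpowers y) (fx ρ (y ^ 5)) hst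
    let y' : Subgroup.zpowers y := ⟨y ^ 3, ⟨3, by show y ^ (3 : ℤ) = y ^ 3; norm_cast⟩⟩
    have ho' : orderOf y' = 5 := by rw [← Subgroup.orderOf_coe]; exact o5
    have h1 := dvd_card_sub_one (ρ := ρ') (fun v => Subtype.ext (hV v)) Nat.prime_five (by norm_num) ho'
    have h2 : (fx ρ' y').index = (fx ρ y).relIndex (fx ρ (y ^ 5)) := by
      rw [show fx ρ' y' = (fx ρ (y ^ 3)).subgroupOf (fx ρ (y ^ 5)) from fx_res hst y', ← heq3]; rfl
    have h3 := Subgroup.relIndex_mul_index hle5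
    rw [hiy] at h3
    rw [h2] at h1
    have h4 : (fx ρ y).relIndex (fx ρ (y ^ 5)) ≤ 4 := by
      by_contra hcon
      push Not at hcon
      nlinarith
    have h6 : (fx ρ y).relIndex (fx ρ (y ^ 5)) = 1 := by
      have hpos : 0 < (fx ρ y).relIndex (fx ρ (y ^ 5)) := by
        rcases Nat.eq_zero_or_pos ((fx ρ y).relIndex (fx ρ (y ^ 5))) with h | h
        · rw [h] at h3; omega
        · exact h
      obtain ⟨c, hc⟩ := h1
      omega
    rw [h6, one_mul] at h3
    exact eq_of_index_le hle5 (by rw [hiy, h3])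
  -- fixed point freeness
  have hfree : ∀ i : ℕ, y ^ i ≠ 1 → ∀ w ∈ (cm ρ y).range, ρ (y ^ i) w = w → w = 1 := by
    intro i hi1 w hw hwi
    have h1 : ∀ j < 15, j ≠ 0 → ∃ k < 15, (j * k) % 15 = 3 ∨ (j * k) % 15 = 5 := by decide
    have h2 : i % 15 ≠ 0 := by
      intro h
      apply hi1
      rw [← pow_mod_orderOf, hy, h, pow_zero]
    obtain ⟨k, -, hk⟩ := h1 (i % 15) (Nat.mod_lt _ (by norm_num)) h2
    have h4 : ∀ m, (i % 15 * k) % 15 = m → (y ^ i) ^ k = y ^ m := by
      intro m hm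
      rw [← pow_mul, ← pow_mod_orderOf, hy, ← hm, Nat.mod_mul_mod]
    apply eq_one_of_fix hV hodd hw
    have h6 : w ∈ fx ρ ((y ^ i) ^ k) := fx_pow ρ hwi k
    rcases hk with h7 | h7
    · rw [h4 3 h7, ← heq3] at h6
      exact h6
    · rw [h4 5 h7, ← heq5] at h6
      exact h6
  have hW : Nat.card (cm ρ y).range = 16 := by rw [card_range_cm, hiy]
  have hst : ∀ i : ℕ, ∀ w ∈ (cm ρ y).range, ρ (y ^ i) w ∈ (cm ρ y).range := fun i w hw =>
    apply_mem_range ρ ((Commute.refl y).pow_left i) hw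
  -- the fixed points of `a`
  have hC : 4 ≤ Nat.card (fx ρ a ⊓ (cm ρ y).range : Subgroup V) := by
    have h1 : Nat.card (fx ρ a ⊓ (cm ρ y).range : Subgroup V) * (fx ρ a ⊓ (cm ρ y).range).relIndex (cm ρ y).range =
        Nat.card (cm ρ y).range := card_mul_relIndex inf_le_right
    rw [Subgroup.inf_relIndex_right, hW] at h1
    have h2 : (fx ρ a).relIndex (cm ρ y).range ≤ 4 :=
      (Nat.le_of_dvd (Nat.pos_of_ne_zero Subgroup.index_ne_zero_of_finite)
        (Subgroup.relIndex_dvd_index_of_normal _ _)).trans hi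
    by_contra hcon
    push Not at hcon
    have h3 : Nat.card (fx ρ a ⊓ (cm ρ y).range : Subgroup V) * (fx ρ a).relIndex (cm ρ y).range ≤ 3 * 4 :=
      Nat.mul_le_mul (by omega) h2
    omega
  obtain ⟨w, hwC, hw1⟩ : ∃ w ∈ (fx ρ a ⊓ (cm ρ y).range : Subgroup V), w ≠ 1 := by
    by_contra hcon
    push Not at hcon
    have : (fx ρ a ⊓ (cm ρ y).range : Subgroup V) = ⊥ := by
      rw [eq_bot_iff]; exact fun w hw => Subgroup.mem_bot.2 (hcon w hw)
    rw [this, Subgroup.card_bot] at hC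
    omega
  obtain ⟨w', hwC', hw1', hww'⟩ : ∃ w' ∈ (fx ρ a ⊓ (cm ρ y).range : Subgroup V), w' ≠ 1 ∧ w' ≠ w := by
    by_contra hcon
    push Not at hcon
    let f : (fx ρ a ⊓ (cm ρ y).range : Subgroup V) → Bool := fun x => decide ((x : V) = 1)
    have hf : Function.Injective f := by
      intro x x' hx
      apply Subtype.ext
      by_cases h1 : (x : V) = 1
      · have h2 : (x' : V) = 1 := by
          have h3 : f x = true := decide_eq_true h1
          rw [hx] at h3
          exact of_decide_eq_true h3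
        rw [h1, h2]
      · have h2 : (x' : V) ≠ 1 := by
          intro h4
          have h3 : f x' = true := decide_eq_true h4
          rw [← hx] at h3
          exact h1 (of_decide_eq_true h3)
        rw [hcon x x.2 h1, hcon x' x'.2 h2]
    have h1 := Nat.card_le_card_of_injective f hf
    rw [Nat.card_eq_fintype_card (α := Bool), Fintype.card_bool] at h1
    omega
  -- transitivity
  let g : Fin 15 → {x : (cm ρ y).range // x ≠ 1} := fun i =>
    ⟨⟨ρ (y ^ (i : ℕ)) w, hst i w hwC.2⟩, by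
      intro h
      have h1 : ρ (y ^ (i : ℕ)) w = 1 := congrArg Subtype.val h
      exact hw1 ((map_eq_one_iff _ (ρ (y ^ (i : ℕ))).injective).1 h1)⟩
  have hg : Function.Injective g := by
    intro i j hij
    have h1 : ρ (y ^ (i : ℕ)) w = ρ (y ^ (j : ℕ)) w := congrArg (fun t => ((t.1 : (cm ρ y).range) : V)) hij
    by_contra hne
    wlog hlt : (i : ℕ) < j generalizing i j
    · exact this hij.symm h1.symm (fun h => hne h.symm) (by
        have : (i : ℕ) ≠ j := fun h => hne (Fin.ext h)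
        omega)
    have h2 : ρ (y ^ ((j : ℕ) - i)) w = w := by
      have h3 : ρ (y ^ (i : ℕ)) (ρ (y ^ ((j : ℕ) - i)) w) = ρ (y ^ (i : ℕ)) w := by
        rw [← MulAut.mul_apply, ← map_mul, ← pow_add, Nat.add_sub_cancel' hlt.le]
        exact h1.symm
      exact (ρ (y ^ (i : ℕ))).injective h3
    apply hw1
    refine hfree _ ?_ w hwC.2 h2
    intro h4
    have h6 := orderOf_dvd_of_pow_eq_one h4
    rw [hy] at h6
    have := Nat.le_of_dvd (by omega) h6
    omega
  have hbij := hg.bijective_of_nat_card_le (by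
    rw [Nat.card_eq_fintype_card (α := Fin 15), Fintype.card_fin]
    have : Fintype (cm ρ y).range := Fintype.ofFinite _
    rw [Nat.card_eq_fintype_card, Fintype.card_subtype_compl, Fintype.card_subtype_eq, ← Nat.card_eq_fintype_card, hW])
  obtain ⟨i, hi'⟩ := hbij.2 ⟨⟨w', hwC'.2⟩, fun h => hw1' (congrArg Subtype.val h)⟩
  have h1 : ρ (y ^ (i : ℕ)) w = w' := congrArg (fun t => ((t.1 : (cm ρ y).range) : V)) hi'
  have haw : ρ a w = w := hwC.1
  have haw' : ρ a w' = w' := hwC'.1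
  have h2 : a * y ^ (i : ℕ) = (y ^ (i : ℕ))⁻¹ * a := by
    have : a * y ^ (i : ℕ) * a⁻¹ = (y ^ (i : ℕ))⁻¹ := by rw [← conj_pow, hay, inv_pow]
    rw [← this]; group
  have h4 : ρ (y ^ (2 * (i : ℕ))) w = w := by
    have h6 : ρ ((y ^ (i : ℕ))⁻¹) w = w' := by
      calc ρ ((y ^ (i : ℕ))⁻¹) w = ρ ((y ^ (i : ℕ))⁻¹) (ρ a w) := by rw [haw]
        _ = ρ (a * y ^ (i : ℕ)) w := by rw [h2, map_mul]; rfl
        _ = ρ a (ρ (y ^ (i : ℕ)) w) := by rw [map_mul]; rfl
        _ = w' := by rw [h1, haw']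
    rw [two_mul, pow_add, map_mul, MulAut.mul_apply, h1, ← h6, ← MulAut.mul_apply, ← map_mul, mul_inv_cancel, map_one]
    rfl
  by_cases h6 : y ^ (2 * (i : ℕ)) = 1
  · have h7 := orderOf_dvd_of_pow_eq_one h6
    rw [hy] at h7
    have h8 : 15 ∣ (i : ℕ) := (show Nat.Coprime 15 2 by norm_num).dvd_of_dvd_mul_left h7
    have h9 : (i : ℕ) = 0 := by
      have := i.2
      rcases Nat.eq_zero_or_pos (i : ℕ) with h | h
      · exact h
      · have := Nat.le_of_dvd h h8; omega
    apply hww'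
    rw [← h1, h9, pow_zero, map_one]; rfl
  · exact hw1 (hfree _ h6 w hwC.2 h4)

theorem card_le_two_of {B : Subgroup H} {a : H} (h : ∀ b ∈ B, b = 1 ∨ b = a) : Nat.card B ≤ 2 := by
  classical
  let f : B → Bool := fun x => decide ((x : H) = 1)
  have hf : Function.Injective f := by
    intro x x' hx
    apply Subtype.ext
    by_cases h1 : (x : H) = 1
    · have h2 : (x' : H) = 1 := by
        have h3 : f x = true := decide_eq_true h1
        rw [hx] at h3
        exact of_decide_eq_true h3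
      rw [h1, h2]
    · have h2 : (x' : H) ≠ 1 := by
        intro h4
        have h3 : f x' = true := decide_eq_true h4
        rw [← hx] at h3
        exact h1 (of_decide_eq_true h3)
      rw [(h x x.2).resolve_left h1, (h x' x'.2).resolve_left h2]
  have h1 := Nat.card_le_card_of_injective f hf
  rwa [Nat.card_eq_fintype_card (α := Bool), Fintype.card_bool] at h1

omit [Finite F] in
theorem up_pow (n : ℕ) : (up (1 : F)) ^ n = up (n : F) := by
  induction n with
  | zero => rw [pow_zero, Nat.cast_zero, up_zero]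
  | succ n ih => rw [pow_succ, ih, up_mul, Nat.cast_succ]

/-- the order of the transvection -/
theorem orderOf_u (hF : (Nat.card F).Prime) : orderOf ((R.π (up 1) : L) : H) = Nat.card F := by
  have hch := charP hF
  have hfact : Fact (Nat.card F).Prime := ⟨hF⟩
  rw [Subgroup.orderOf_coe]
  apply orderOf_eq_prime
  · rw [← map_pow, up_pow, CharP.cast_eq_zero, up_zero, map_one]
  · intro h
    rw [R.ker] at h
    rcases h with h | h
    · have := congrArg (fun w => ent w 0 1) h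
      simp only [up_01, ent_one_01] at this
      exact one_ne_zero this
    · have h1 : (1 : F) = -0 := congrArg (fun w => ent w 0 1) h
      rw [neg_zero] at h1
      exact one_ne_zero h1

theorem orderOf_three (h3 : (3 : F) ≠ 0) {x : Matrix.SpecialLinearGroup (Fin 2) F} (h : ent x 0 0 + ent x 1 1 = 1) :
    orderOf ((R.π x : L) : H) = 3 := by
  have : Fact (Nat.Prime 3) := ⟨Nat.prime_three⟩
  rw [Subgroup.orderOf_coe]
  obtain ⟨h1, h2⟩ := order_three_one R h3 h
  exact orderOf_eq_prime h1 h2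

theorem three_ne (hF : (Nat.card F).Prime) (h7 : 7 ≤ Nat.card F) : (3 : F) ≠ 0 := by
  have hch := charP hF
  intro h
  have h1 : ((3 : ℕ) : F) = 0 := by exact_mod_cast h
  rw [CharP.cast_eq_zero_iff F (Nat.card F)] at h1
  have := Nat.le_of_dvd (by norm_num) h1
  omega

theorem index_le_four (h : Fr ρ L A) (R : Cfsg.Agent.GH.L2Aut.Rep F L) (hF : (Nat.card F).Prime) {a : H} (ha : a ∈ A) :
    (fx ρ a).index ≤ 4 :=
  (index_le_of_le (CS_le_fx ha)).trans (h.bo.index_le.trans (card_le_four R h hF))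

include R in
/-- `A ≤ L` -/
theorem le_L (h : Fr ρ L A) (hV : ∀ v : V, v * v = 1) (hc : OddCyc H) (hF : (Nat.card F).Prime)
    (h7 : 7 ≤ Nat.card F) : A ≤ L := by
  intro a ha
  by_contra haL
  have ha1 : a ≠ 1 := fun h1 => haL (h1 ▸ one_mem L)
  have h3F : (3 : F) ≠ 0 := three_ne hF h7
  have h2F := R.two
  have hsplit : ∀ b ∈ A, ∀ γ : GL (Fin 2) F, γ.1.trace = 0 → R.gl γ = ψ b → ¬ IsSquare (-γ.1.det) :=
    fun b hb γ h0 h1 => not_split R h hV hF h7 hb h0 h1 (index_le_four h R hF hb)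
  obtain ⟨γ, hγ0, hγ⟩ := exists_mat R h hF ha ha1
  have hns := hsplit a ha γ hγ0 hγ
  have hnd : ¬ IsSquare γ.1.det := fun hs => haL (mem_of_isSquare R h ha hγ hs)
  have hm1 : IsSquare (-1 : F) := by
    obtain ⟨s, hs⟩ := Cfsg.Agent.GH.L2Aut.isSquare_mul_of_not hns hnd
    refine ⟨s / γ.1.det, ?_⟩
    have hd := det_ne γ
    field_simp
    linear_combination hs
  have hneg : ∀ x : F, IsSquare (-x) ↔ IsSquare x := by
    obtain ⟨i, hi⟩ := hm1
    intro x
    constructor
    · rintro ⟨s, hs⟩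
      exact ⟨i * s, by linear_combination -hs + s * s * hi⟩
    · rintro ⟨s, hs⟩
      exact ⟨i * s, by linear_combination -hs + s * s * hi⟩
  have hA2 : ∀ b ∈ A, b = 1 ∨ b = a := by
    intro b hb
    by_contra hcon
    push Not at hcon
    obtain ⟨δ, hδ0, hδ⟩ := exists_mat R h hF hb hcon.1
    have h1 := hsplit b hb δ hδ0 hδ
    have hab : a * b ≠ 1 := by
      intro h2
      apply hcon.2
      have h3 := eq_inv_of_mul_eq_one_right h2
      rw [h3]
      exact inv_eq_of_mul_eq_one_left (h.bo.sq a ha)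
    have h2 := hsplit (a * b) (mul_mem ha hb) (γ * δ) (orth R h ha hb hab hγ hδ)
      (by rw [map_mul, map_mul, hγ, hδ])
    rw [hneg] at h1 h2
    apply h2
    have h3 : (γ * δ).1.det = γ.1.det * δ.1.det := by rw [Units.val_mul, Matrix.det_mul]
    rw [h3]
    exact Cfsg.Agent.GH.L2Aut.isSquare_mul_of_not hnd h1
  have hi2 : (fx ρ a).index ≤ 2 :=
    (index_le_of_le (CS_le_fx ha)).trans (h.bo.index_le.trans (card_le_two_of hA2))
  obtain ⟨y, hyL, hy3, hay⟩ := exists_three R h3F hγ0 hγ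
  have hiy : (fx ρ y).index ≤ 4 := (half' ρ (by rw [hy3]; decide) hay).trans (Nat.pow_le_pow_left hi2 2)
  have hall : ∀ z : H, orderOf z = 3 → (fx ρ z).index ≤ 4 := fun z hz => by
    rw [← index_eq_of_orderOf ρ hc Nat.prime_three (by norm_num) hy3 hz]; exact hiy
  -- the transvection is a product of two elements of order three
  have hdz : (0 : F) * 1 - (-(1 / 2)) * 2 = 1 := by field_simp; ring
  have hdz' : (-1 : F) * 2 - (-(3 / 2)) * 2 = 1 := by field_simp; ring
  let z : Matrix.SpecialLinearGroup (Fin 2) F := mk 0 (-(1 / 2)) 2 1 hdz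
  let z' : Matrix.SpecialLinearGroup (Fin 2) F := mk (-1) (-(3 / 2)) 2 2 hdz'
  have hz : orderOf ((R.π z : L) : H) = 3 := orderOf_three R h3F (by simp only [z, mk_00, mk_11]; ring)
  have hz' : orderOf ((R.π z' : L) : H) = 3 := orderOf_three R h3F (by simp only [z', mk_00, mk_11]; ring)
  have hzz : z * z' = -up 1 := by
    refine ext_ent ?_ ?_ ?_ ?_
    · rw [ent_mul]; show 0 * (-1) + (-(1 / 2)) * 2 = -(1 : F); field_simp; ring
    · rw [ent_mul]; show 0 * (-(3 / 2)) + (-(1 / 2)) * 2 = -(1 : F); field_simp; ring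
    · rw [ent_mul]; show 2 * (-1) + 1 * 2 = -(0 : F); ring
    · rw [ent_mul]; show 2 * (-(3 / 2)) + 1 * 2 = -(1 : F); field_simp; ring
  have hu : ((R.π (up 1) : L) : H) = (R.π z : L) * (R.π z' : L) := by
    rw [← Subgroup.coe_mul, ← map_mul, hzz, R.π_neg]
  have hiu : (fx ρ ((R.π (up 1) : L) : H)).index ≤ 16 := by
    rw [hu]
    exact (index_mul_le ρ _ _).trans (Nat.mul_le_mul (hall _ hz) (hall _ hz'))
  have hou := orderOf_u R hF
  have hune : ((R.π (up 1) : L) : H) ≠ 1 := by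
    intro h1
    rw [h1, orderOf_one] at hou
    omega
  obtain ⟨d, hd, hd1, hd2⟩ := prim (ρ := ρ) hV hF (by omega) hou (h.faithL _ (R.π (up 1)).2 hune)
  have hd4 : d ≤ 4 := by
    rw [hd1] at hiu
    have : (2 : ℕ) ^ d ≤ 2 ^ 4 := hiu
    exact (Nat.pow_le_pow_iff_right (by norm_num)).1 this
  have h7' : Nat.card F = 7 := by
    have h15 : Nat.card F ≤ 15 := by
      have h1 := Nat.le_of_dvd (by
        have : 2 ^ 1 ≤ 2 ^ d := Nat.pow_le_pow_right (by norm_num) hd
        omega) hd2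
      have : (2 : ℕ) ^ d ≤ 2 ^ 4 := Nat.pow_le_pow_right (by norm_num) hd4
      omega
    have hpr := hF
    generalize Nat.card F = n at *
    interval_cases d <;> interval_cases n <;> first | rfl | (exfalso; revert hd2 hpr; decide)
  -- `-1` is not a square modulo 7
  have := Fintype.ofFinite F
  have h4 := FiniteField.isSquare_neg_one_iff.1 hm1
  rw [← Nat.card_eq_fintype_card, h7'] at h4
  exact h4 rfl

/-- an element of order 15 inverted by `a` if `|F| = 31` -/
theorem exists_fifteen (hF : Nat.card F = 31) {a : H} {γ : GL (Fin 2) F} (hγ0 : γ.1.trace = 0) (hγ : R.gl γ = ψ a) :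
    ∃ y ∈ L, orderOf y = 15 ∧ a * y * a⁻¹ = y⁻¹ := by
  classical
  have := Fintype.ofFinite F
  have hu : Nat.card Fˣ = 30 := by
    rw [Nat.card_eq_fintype_card, Fintype.card_units, ← Nat.card_eq_fintype_card, hF]
  obtain ⟨s₀, hs₀⟩ := IsCyclic.exists_ofOrder_eq_natCard (α := Fˣ)
  rw [hu] at hs₀
  have hs : orderOf (s₀ ^ 2) = 15 := by rw [orderOf_pow, hs₀]; norm_num
  set s := s₀ ^ 2 with hsdef
  let x₀ : Matrix.SpecialLinearGroup (Fin 2) F := dg (s : F) s.ne_zero
  have hx₀ : orderOf x₀ = 15 := by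
    let f : Fˣ →* Matrix.SpecialLinearGroup (Fin 2) F :=
      { toFun := fun k => dg (k : F) k.ne_zero
        map_one' := by refine ext_ent ?_ ?_ ?_ ?_ <;> simp
        map_mul' := fun k l => by
          refine ext_ent ?_ ?_ ?_ ?_ <;> rw [ent_mul] <;> simp [mul_comm] }
    have hf : Function.Injective f := by
      intro k l hkl
      apply Units.ext
      have := congrArg (fun w => ent w 0 0) hkl
      exact this
    rw [← hs]
    exact orderOf_injective f hf s
  obtain ⟨x, hx, hx'⟩ := inv_exists R.two hγ0 (det_ne γ) ((s : F) + (s : F)⁻¹)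
  have hss : (s : F) ≠ (s : F)⁻¹ := by
    intro h1
    have h2 : s * s = 1 := by
      apply Units.ext
      rw [Units.val_mul, Units.val_one]
      nth_rewrite 2 [h1]
      exact mul_inv_cancel₀ s.ne_zero
    have h3 : orderOf s ∣ 2 := orderOf_dvd_of_pow_eq_one (by rw [pow_two, h2])
    rw [hs] at h3
    norm_num at h3
  have hxo : orderOf x = 15 := by
    rw [← hx₀]
    apply orderOf_eq_of_trace
    · show ent x 0 0 + ent x 1 1 = ent x₀ 0 0 + ent x₀ 1 1
      rw [hx]; rfl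
    · by_contra hcon
      push Not at hcon
      obtain ⟨e1, e2, e3⟩ := hcon
      have e1' : ent x 0 1 = 0 := e1
      have e2' : ent x 1 0 = 0 := e2
      have e3' : ent x 0 0 = ent x 1 1 := e3
      have hd := det_eq x
      rw [e1', e3'] at hd
      rw [e3'] at hx
      have h5 : ((s : F) - (s : F)⁻¹) * ((s : F) - (s : F)⁻¹) = 0 := by
        have h6 : (s : F) * (s : F)⁻¹ = 1 := mul_inv_cancel₀ s.ne_zero
        have h7 : ((s : F) - (s : F)⁻¹) * ((s : F) - (s : F)⁻¹) =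
          ((s : F) + (s : F)⁻¹) * ((s : F) + (s : F)⁻¹) - 4 * ((s : F) * (s : F)⁻¹) := by ring
        rw [h7, ← hx, h6]
        linear_combination 4 * hd
      apply hss
      rcases mul_eq_zero.1 h5 with h6 | h6 <;> exact sub_eq_zero.1 h6
    · right; right
      exact hss
  refine ⟨R.π x, (R.π x).2, ?_, ?_⟩
  · rw [Subgroup.orderOf_coe]
    apply Nat.dvd_antisymm
    · rw [← hxo]
      exact orderOf_map_dvd R.π x
    · have h1 : R.π (x ^ orderOf (R.π x)) = 1 := by rw [map_pow, pow_orderOf_eq_one]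
      rw [R.ker] at h1
      rcases h1 with h1 | h1
      · rw [← hxo]
        exact orderOf_dvd_of_pow_eq_one h1
      · exfalso
        have h2 : (x ^ orderOf (R.π x)) ^ 15 = 1 := by
          rw [← pow_mul, mul_comm, pow_mul, ← hxo, pow_orderOf_eq_one, one_pow]
        rw [h1] at h2
        have h3 : (-1 : Matrix.SpecialLinearGroup (Fin 2) F) ^ 15 = -1 := by
          rw [show (15 : ℕ) = 2 * 7 + 1 by norm_num, pow_succ, pow_mul, _root_.neg_one_sq, one_pow, one_mul]
        rw [h3] at h2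
        exact R.neg_one_ne_one h2
  · have h4 := gl_inv R hγ0 hx'
    rw [hγ] at h4
    exact conj_of_psi h4

include R in
/-- `p = 7` -/
theorem seven (h : Fr ρ L A) (hV : ∀ v : V, v * v = 1) (hc : OddCyc H) (hF : (Nat.card F).Prime)
    (h7 : 7 ≤ Nat.card F) : Nat.card F = 7 := by
  have hAL := le_L R h hV hc hF h7
  have h3F : (3 : F) ≠ 0 := three_ne hF h7
  obtain ⟨⟨a, ha⟩, ha1'⟩ := Subgroup.ne_bot_iff_exists_ne_one.1 h.ne
  have ha1 : a ≠ 1 := fun h => ha1' (Subtype.ext h)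
  have haL := hAL ha
  obtain ⟨γ, hγ0, hγ⟩ := exists_mat R h hF ha ha1
  have hi := index_le_four h R hF ha
  obtain ⟨y, hyL, hy3, hay⟩ := exists_three R h3F hγ0 hγ
  have hiy : (fx ρ y).index ≤ 16 := (half' ρ (by rw [hy3]; decide) hay).trans (Nat.pow_le_pow_left hi 2)
  have hall : ∀ z : H, orderOf z = 3 → (fx ρ z).index ≤ 16 := fun z hz => by
    rw [← index_eq_of_orderOf ρ hc Nat.prime_three (by norm_num) hy3 hz]; exact hiy
  -- the involution `w`
  let w : L := R.π (Cfsg.Agent.Lib.PSL2Torus.jm F)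
  have hj : Cfsg.Agent.Lib.PSL2Torus.jm F * Cfsg.Agent.Lib.PSL2Torus.jm F = -1 := by
    refine ext_ent ?_ ?_ ?_ ?_
    · rw [ent_mul]; show 0 * 0 + (-1) * 1 = -(1 : F); ring
    · rw [ent_mul]; show 0 * (-1) + (-1) * 0 = -(0 : F); ring
    · rw [ent_mul]; show 1 * 0 + 0 * 1 = -(0 : F); ring
    · rw [ent_mul]; show 1 * (-1) + 0 * 0 = -(1 : F); ring
  have hw2 : w * w = 1 := by
    show R.π _ * R.π _ = 1
    rw [← map_mul, hj, R.ker]
    exact Or.inr rfl
  have hw1 : w ≠ 1 := by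
    intro h1
    have h2 : R.π (Cfsg.Agent.Lib.PSL2Torus.jm F) = 1 := h1
    rw [R.ker] at h2
    rcases h2 with h2 | h2
    · have := congrArg (fun w => ent w 1 0) h2
      simp only [Cfsg.Agent.Lib.PSL2Torus.jm_10, ent_one_10] at this
      exact one_ne_zero this
    · have h3 : (1 : F) = -0 := congrArg (fun w => ent w 1 0) h2
      rw [neg_zero] at h3
      exact one_ne_zero h3
  obtain ⟨g, hg⟩ := Cfsg.Agent.Lib.PSL2Torus.conj_inv_hom R.π R.two R.surj R.ker
    (t := (⟨a, haL⟩ : L)) (u := w) (fun h1 => ha1 (congrArg Subtype.val h1)) (Subtype.ext (h.bo.sq a ha)) hw1 hw2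
  have hgw : (g : H) * a * (g : H)⁻¹ = (w : H) := congrArg Subtype.val hg
  have hiw : (fx ρ (w : H)).index ≤ 4 := by
    rw [← hgw, index_fx_conj]; exact hi
  have hz : orderOf ((R.π (up 1 * Cfsg.Agent.Lib.PSL2Torus.jm F) : L) : H) = 3 := by
    apply orderOf_three R h3F
    rw [ent_mul, ent_mul]
    show (1 : F) * 0 + 1 * 1 + (0 * (-1) + 1 * 0) = 1
    ring
  have hu : ((R.π (up 1) : L) : H) = (R.π (up 1 * Cfsg.Agent.Lib.PSL2Torus.jm F) : L) * (w : H) := by
    have h1 : R.π (up 1) = R.π (up 1 * Cfsg.Agent.Lib.PSL2Torus.jm F) * w := by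
      rw [map_mul, mul_assoc]
      show R.π (up 1) = R.π (up 1) * (w * w)
      rw [hw2, mul_one]
    rw [h1]; rfl
  have hiu : (fx ρ ((R.π (up 1) : L) : H)).index ≤ 64 := by
    rw [hu]
    exact (index_mul_le ρ _ _).trans (Nat.mul_le_mul (hall _ hz) hiw)
  have hou := orderOf_u R hF
  have hune : ((R.π (up 1) : L) : H) ≠ 1 := by
    intro h1
    rw [h1, orderOf_one] at hou
    omega
  obtain ⟨d, hd, hd1, hd2⟩ := prim (ρ := ρ) hV hF (by omega) hou (h.faithL _ (R.π (up 1)).2 hune)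
  have hd6 : d ≤ 6 := by
    rw [hd1] at hiu
    have : (2 : ℕ) ^ d ≤ 2 ^ 6 := hiu
    exact (Nat.pow_le_pow_iff_right (by norm_num)).1 this
  have h731 : Nat.card F = 7 ∨ Nat.card F = 31 := by
    have h63 : Nat.card F ≤ 63 := by
      have h1 := Nat.le_of_dvd (by
        have : 2 ^ 1 ≤ 2 ^ d := Nat.pow_le_pow_right (by norm_num) hd
        omega) hd2
      have : (2 : ℕ) ^ d ≤ 2 ^ 6 := Nat.pow_le_pow_right (by norm_num) hd6
      omega
    have hpr := hF
    clear hiu hd1 hou h3F hF hune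
    generalize Nat.card F = n at *
    interval_cases d <;> interval_cases n <;> first | omega | (exfalso; revert hpr; norm_num)
  rcases h731 with h1 | h1
  · exact h1
  · exfalso
    obtain ⟨y, hyL, hy15, hay⟩ := exists_fifteen R h1 hγ0 hγ
    refine kill15 hV hy15 hay ?_ ?_ hi
    · apply h.faithL _ (pow_mem hyL 3)
      intro h2
      have := orderOf_dvd_of_pow_eq_one h2
      rw [hy15] at this
      norm_num at this
    · apply h.faithL _ (pow_mem hyL 5)
      intro h2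
      have := orderOf_dvd_of_pow_eq_one h2
      rw [hy15] at this
      norm_num at this

end Cfsg.Agent.OddCyclic.FFPsl
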