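import Cfsg.Agent.OddCyclic.FFBasic

/-!
# Best offenders: reduction lemmas

`ρ : X →* MulAut V`, `V` an elementary abelian 2-group. `BO ρ A`: the elementary abelian 2-subgroup `A` of `X` is a best
offender on `V`: `|B| |C_V(B)| ≤ |A| |C_V(A)|` for all `B ≤ A`.
-/

set_option autoImplicit false
set_option linter.unusedSectionVars false

namespace Cfsg.Agent.OddCyclic.FFRed

open Cfsg.Agent.OddCyclic.T1Module Cfsg.Agent.OddCyclic.FFBasic

variable {X : Type*} [Group X] {V : Type*} [CommGroup V] (ρ : X →* MulAut V)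

/-- `A` is a best offender on `V` -/
structure BO (A : Subgroup X) : Prop where
  sq : ∀ a ∈ A, a * a = 1
  best : ∀ B ≤ A, Nat.card B * Nat.card (CS ρ B) ≤ Nat.card A * Nat.card (CS ρ A)

variable {ρ}

theorem CS_anti {A B : Subgroup X} (h : A ≤ B) : CS ρ B ≤ CS ρ A := fun _ hv b hb => hv b (h hb)

theorem CS_bot : CS ρ (⊥ : Subgroup X) = ⊤ := by
  rw [eq_top_iff]
  intro v _ b hb
  rw [Subgroup.mem_bot] at hb
  rw [hb, map_one]; rfl

theorem comm_of_sq {A : Subgroup X} (h : ∀ a ∈ A, a * a = 1) {a b : X} (ha : a ∈ A) (hb : b ∈ A) : a * b = b * a := by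
  have h1 := h _ (mul_mem ha hb)
  have h2 := h a ha
  have h3 := h b hb
  have e1 : a⁻¹ = a := inv_eq_of_mul_eq_one_left h2
  have e2 : b⁻¹ = b := inv_eq_of_mul_eq_one_left h3
  have e3 : (a * b)⁻¹ = a * b := inv_eq_of_mul_eq_one_left h1
  rw [mul_inv_rev, e1, e2] at e3
  exact e3.symm

theorem BO.comm {A : Subgroup X} (h : BO ρ A) {a b : X} (ha : a ∈ A) (hb : b ∈ A) : a * b = b * a :=
  comm_of_sq h.sq ha hb

theorem BO.index_le [Finite V] {A : Subgroup X} (h : BO ρ A) : (CS ρ A).index ≤ Nat.card A := by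
  have h1 := h.best ⊥ bot_le
  rw [CS_bot, Subgroup.card_bot, one_mul, Subgroup.card_top] at h1
  have h2 := (CS ρ A).card_mul_index
  have h3 : 0 < Nat.card (CS ρ A) := Nat.card_pos
  rw [← h2, mul_comm (Nat.card A)] at h1
  exact Nat.le_of_mul_le_mul_left h1 h3

theorem card_mul_relIndex {G : Type*} [Group G] {A B : Subgroup G} (h : A ≤ B) :
    Nat.card A * A.relIndex B = Nat.card B := by
  have h1 := Subgroup.relIndex_mul_relIndex (⊥ : Subgroup G) A B bot_le h
  rwa [Subgroup.relIndex_bot_left, Subgroup.relIndex_bot_left] at h1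

theorem BO.relIndex_le [Finite X] [Finite V] {A B : Subgroup X} (h : BO ρ A) (hB : B ≤ A) :
    (CS ρ A).relIndex (CS ρ B) ≤ B.relIndex A := by
  have h1 := h.best B hB
  have h2 : Nat.card (CS ρ A) * (CS ρ A).relIndex (CS ρ B) = Nat.card (CS ρ B) :=
    card_mul_relIndex (CS_anti hB)
  have h3 : Nat.card B * B.relIndex A = Nat.card A := card_mul_relIndex hB
  have h4 : 0 < Nat.card (CS ρ A) := Nat.card_pos
  have h5 : 0 < Nat.card B := Nat.card_pos
  rw [← h2, ← h3] at h1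
  have h6 : (Nat.card B * Nat.card (CS ρ A)) * (CS ρ A).relIndex (CS ρ B) ≤
      (Nat.card B * Nat.card (CS ρ A)) * B.relIndex A := by
    calc _ = Nat.card B * (Nat.card (CS ρ A) * (CS ρ A).relIndex (CS ρ B)) := by ring
      _ ≤ _ := h1
      _ = _ := by ring
  exact Nat.le_of_mul_le_mul_left h6 (Nat.mul_pos h5 h4)

/-! ### restriction -/

/-- the action of `N` on the `N`-invariant subgroup `W` -/
def res (ρ : X →* MulAut V) (N : Subgroup X) (W : Subgroup V) (h : ∀ n ∈ N, ∀ w ∈ W, ρ n w ∈ W) : N →* MulAut W where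
  toFun n :=
    { toFun := fun w => ⟨ρ n w, h n n.2 w w.2⟩
      invFun := fun w => ⟨ρ (n : X)⁻¹ w, h _ (inv_mem n.2) w w.2⟩
      left_inv := fun w => by
        apply Subtype.ext
        show ρ (n : X)⁻¹ (ρ n w) = w
        rw [← MulAut.mul_apply, ← map_mul, inv_mul_cancel, map_one]; rfl
      right_inv := fun w => by
        apply Subtype.ext
        show ρ n (ρ (n : X)⁻¹ w) = w
        rw [← MulAut.mul_apply, ← map_mul, mul_inv_cancel, map_one]; rfl
      map_mul' := fun v w => by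
        apply Subtype.ext
        show ρ n (v * w) = ρ n v * ρ n w
        rw [map_mul] }
  map_one' := by
    ext w
    show ρ (1 : X) w = w
    rw [map_one]; rfl
  map_mul' a b := by
    ext w
    show ρ ((a : X) * b) w = ρ a (ρ b w)
    rw [map_mul]; rfl

theorem res_apply {N : Subgroup X} {W : Subgroup V} (h : ∀ n ∈ N, ∀ w ∈ W, ρ n w ∈ W) (n : N) (w : W) :
    ((res ρ N W h n w : W) : V) = ρ n w := rfl

theorem fx_res {N : Subgroup X} {W : Subgroup V} (h : ∀ n ∈ N, ∀ w ∈ W, ρ n w ∈ W) (n : N) :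
    fx (res ρ N W h) n = (fx ρ (n : X)).subgroupOf W := by
  ext w
  rw [mem_fx, Subgroup.mem_subgroupOf, mem_fx, Subtype.ext_iff, res_apply]

theorem CS_res {N : Subgroup X} {W : Subgroup V} (h : ∀ n ∈ N, ∀ w ∈ W, ρ n w ∈ W) {A : Subgroup X} (hA : A ≤ N) :
    CS (res ρ N W h) (A.subgroupOf N) = (CS ρ A).subgroupOf W := by
  ext w
  rw [mem_CS, Subgroup.mem_subgroupOf, mem_CS]
  constructor
  · intro h1 a ha
    have h2 := h1 ⟨a, hA ha⟩ (Subgroup.mem_subgroupOf.2 ha)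
    rw [Subtype.ext_iff, res_apply] at h2
    exact h2
  · intro h1 a ha
    rw [Subtype.ext_iff, res_apply]
    exact h1 a (Subgroup.mem_subgroupOf.1 ha)

/-- the normaliser of `A₀` acts on `C_V(A₀)` -/
theorem CS_stable {A₀ : Subgroup X} {n : X} (hn : n ∈ Subgroup.normalizer (A₀ : Set X)) {w : V} (hw : w ∈ CS ρ A₀) :
    ρ n w ∈ CS ρ A₀ := by
  intro b hb
  have h1 : n⁻¹ * b * n ∈ A₀ := by
    have := (Subgroup.mem_normalizer_iff.1 (inv_mem hn) b).1 hb
    rwa [inv_inv] at this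
  have h2 := hw _ h1
  have h3 : ρ n (ρ (n⁻¹ * b * n) w) = ρ n w := by rw [h2]
  rw [← MulAut.mul_apply, ← map_mul] at h3
  have h4 : n * (n⁻¹ * b * n) = b * n := by group
  rw [h4, map_mul, MulAut.mul_apply] at h3
  exact h3

/-- Thompson's `A × B`-lemma on an elementary abelian 2-group -/
theorem axb [Finite V] (hV : ∀ v : V, v * v = 1) {A₀ : Subgroup X} (hA₀ : IsPGroup 2 A₀) {y : X}
    (hy : Odd (orderOf y)) (hc : ∀ a ∈ A₀, a * y = y * a) (hne : ∃ v, ρ y v ≠ v) : ∃ v ∈ CS ρ A₀, ρ y v ≠ v := by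
  set R := (cm ρ y).range with hR
  have hst : ∀ a ∈ A₀, ∀ v ∈ R, ρ a v ∈ R := fun a ha v hv => apply_mem_range ρ (hc a ha) hv
  have hRne : ∃ v ∈ R, v ≠ 1 := by
    obtain ⟨v, hv⟩ := hne
    exact ⟨cm ρ y v, ⟨v, rfl⟩, fun h => hv (by rwa [cm_apply, mul_inv_eq_one] at h)⟩
  have : Fact (Nat.Prime 2) := ⟨Nat.prime_two⟩
  let _ : MulAction A₀ R := MulAction.compHom R (res ρ A₀ R hst)
  have h2 : 2 ∣ Nat.card R := by
    have hp : IsPGroup 2 R := (isPGroup_two hV).to_subgroup R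
    obtain ⟨n, hn⟩ := hp.exists_card_eq
    obtain ⟨v, hv, hv1⟩ := hRne
    rcases Nat.eq_zero_or_pos n with h | h
    · exfalso
      rw [h, pow_zero] at hn
      have h3 := Subgroup.card_eq_one.1 hn
      rw [h3, Subgroup.mem_bot] at hv
      exact hv1 hv
    · rw [hn]; exact dvd_pow_self 2 h.ne'
  have hfix := hA₀.exists_fixed_point_of_prime_dvd_card_of_fixed_point (α := R) h2 (a := 1) (by
    intro a
    exact map_one (res ρ A₀ R hst a))
  obtain ⟨v, hv, hv1⟩ := hfix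
  refine ⟨v, ?_, ?_⟩
  · intro a ha
    have h3 := hv ⟨a, ha⟩
    exact congrArg Subtype.val h3
  · intro h3
    apply hv1
    apply Subtype.ext
    exact (eq_one_of_fix hV hy v.2 h3).symm

/-- `a`, with `a² = 1`, normalising `⟨y⟩` of prime order centralises or inverts `y` -/
theorem eq_or_inv {a y : X} {r : ℕ} (hr : r.Prime) (hy : orderOf y = r) (ha : a * a = 1)
    (hn : a * y * a⁻¹ ∈ Subgroup.zpowers y) : a * y = y * a ∨ a * y * a⁻¹ = y⁻¹ := by
  obtain ⟨k, hk⟩ := hn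
  have hk' : y ^ k = a * y * a⁻¹ := hk
  have h1 : (y ^ k) ^ k = y := by
    rw [hk', conj_zpow, hk']
    have : a * (a * y * a⁻¹) * a⁻¹ = (a * a) * y * (a * a)⁻¹ := by group
    rw [this, ha]; group
  rw [← zpow_mul] at h1
  have h2 : y ^ (k * k - 1) = 1 := by rw [zpow_sub, h1, zpow_one, mul_inv_cancel]
  have h3 : (r : ℤ) ∣ k * k - 1 := by rw [← hy]; exact orderOf_dvd_iff_zpow_eq_one.2 h2
  have h4 : (r : ℤ) ∣ (k - 1) * (k + 1) := by
    have : (k - 1) * (k + 1) = k * k - 1 := by ring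
    rwa [this]
  rcases (Nat.prime_iff_prime_int.1 hr).dvd_or_dvd h4 with h5 | h5
  · left
    rw [← hy] at h5
    have h6 := orderOf_dvd_iff_zpow_eq_one.1 h5
    rw [zpow_sub, zpow_one, mul_inv_eq_one, hk'] at h6
    rw [mul_inv_eq_iff_eq_mul] at h6
    exact h6
  · right
    rw [← hy] at h5
    have h6 := orderOf_dvd_iff_zpow_eq_one.1 h5
    rw [zpow_add, zpow_one] at h6
    rw [← hk']
    exact eq_inv_of_mul_eq_one_left h6

theorem BO.three [Finite X] [Finite V] (hV : ∀ v : V, v * v = 1) {A : Subgroup X} (hA : BO ρ A) {y : X} {r : ℕ}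
    (hr : r.Prime) (hr2 : r ≠ 2) (hy : orderOf y = r) (hn : ∀ a ∈ A, a * y * a⁻¹ ∈ Subgroup.zpowers y)
    (hne : ∃ v, ρ y v ≠ v) {a : X} (ha : a ∈ A) (hay : a * y ≠ y * a) :
    r = 3 ∧ (A ⊓ Subgroup.centralizer {y}).relIndex A = 2 ∧
      (CS ρ A).relIndex (CS ρ (A ⊓ Subgroup.centralizer {y})) = 2 ∧
      (fx ρ y).relIndex (CS ρ (A ⊓ Subgroup.centralizer {y})) = 4 := by
  set A₀ := A ⊓ Subgroup.centralizer {y} with hA₀
  have hodd : Odd (orderOf y) := by rw [hy]; exact hr.odd_of_ne_two hr2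
  have hmem : ∀ b, b ∈ A₀ ↔ b ∈ A ∧ b * y = y * b := by
    intro b
    rw [hA₀, Subgroup.mem_inf, Subgroup.mem_centralizer_singleton_iff]
  have hinv : a * y * a⁻¹ = y⁻¹ := (eq_or_inv hr hy (hA.sq a ha) (hn a ha)).resolve_left hay
  have haA₀ : a ∉ A₀ := fun h => hay ((hmem a).1 h).2
  have hprod : ∀ b ∈ A, b ∉ A₀ → a * b ∈ A₀ := by
    intro b hb hb0
    have h1 : b * y * b⁻¹ = y⁻¹ := (eq_or_inv hr hy (hA.sq b hb) (hn b hb)).resolve_left fun h =>
      hb0 ((hmem b).2 ⟨hb, h⟩)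
    rw [hmem]
    refine ⟨mul_mem ha hb, ?_⟩
    have h2 : (a * b) * y * (a * b)⁻¹ = y := by
      have : (a * b) * y * (a * b)⁻¹ = a * (b * y * b⁻¹) * a⁻¹ := by group
      rw [this, h1]
      have : a * y⁻¹ * a⁻¹ = (a * y * a⁻¹)⁻¹ := by group
      rw [this, hinv, inv_inv]
    exact mul_inv_eq_iff_eq_mul.1 h2
  have hidx : A₀.relIndex A = 2 := by
    rw [Subgroup.relIndex, Subgroup.index_eq_two_iff]
    refine ⟨⟨a, ha⟩, fun b => ?_⟩
    rw [Subgroup.mem_subgroupOf, Subgroup.mem_subgroupOf]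
    show Xor ((b : X) * a ∈ A₀) ((b : X) ∈ A₀)
    by_cases hb : (b : X) ∈ A₀
    · refine Or.inr ⟨hb, fun h => haA₀ ?_⟩
      have := mul_mem (inv_mem hb) h
      rwa [inv_mul_cancel_left] at this
    · refine Or.inl ⟨?_, hb⟩
      rw [hA.comm b.2 ha]
      exact hprod b b.2 hb
  have hle : A₀ ≤ A := inf_le_left
  have hrel := hA.relIndex_le hle
  rw [hidx] at hrel
  -- the normaliser of `A₀`
  set N := Subgroup.normalizer (A₀ : Set X) with hN
  have hst : ∀ n ∈ N, ∀ w ∈ CS ρ A₀, ρ n w ∈ CS ρ A₀ := fun n hn w hw => CS_stable hn hw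
  have haN : a ∈ N := by
    rw [hN, Subgroup.mem_normalizer_iff]
    intro b
    constructor
    · intro hb
      have : a * b * a⁻¹ = b := by rw [hA.comm ha (hle hb)]; group
      rwa [this]
    · intro hb
      have h1 : a * b * a⁻¹ ∈ A := hle hb
      have h2 : b ∈ A := by
        have := mul_mem (mul_mem (inv_mem ha) h1) ha
        have e : a⁻¹ * (a * b * a⁻¹) * a = b := by group
        rwa [e] at this
      have : a * b * a⁻¹ = b := by rw [hA.comm ha h2]; group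
      rwa [this] at hb
  have hyN : y ∈ N := by
    refine Subgroup.centralizer_le_normalizer _ ?_
    rw [Subgroup.mem_centralizer_iff]
    intro b hb
    exact ((hmem b).1 hb).2
  let ρ' := res ρ N (CS ρ A₀) hst
  let a' : N := ⟨a, haN⟩
  let y' : N := ⟨y, hyN⟩
  have hy'o : orderOf y' = r := by rw [← hy, ← Subgroup.orderOf_coe]
  have hV' : ∀ v : CS ρ A₀, v * v = 1 := fun v => Subtype.ext (hV v)
  have hinv' : a' * y' * a'⁻¹ = y'⁻¹ := Subtype.ext hinv
  have h2g : IsPGroup 2 A₀ := fun b => ⟨1, by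
    rw [pow_one, pow_two]; exact Subtype.ext (hA.sq b (hle b.2))⟩
  obtain ⟨v, hv, hyv⟩ := axb (ρ := ρ) hV h2g hodd (fun b hb => ((hmem b).1 hb).2) hne
  have hne' : ∃ v, ρ' y' v ≠ v := ⟨⟨v, hv⟩, fun h => hyv (congrArg Subtype.val h)⟩
  have hfa : fx ρ' a' = (CS ρ A).subgroupOf (CS ρ A₀) := by
    rw [show fx ρ' a' = (fx ρ a).subgroupOf (CS ρ A₀) from fx_res hst a']
    ext w
    rw [Subgroup.mem_subgroupOf, Subgroup.mem_subgroupOf, mem_fx, mem_CS]
    constructor
    · intro h b hb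
      by_cases hb0 : b ∈ A₀
      · exact w.2 b hb0
      · have h1 := w.2 _ (hprod b hb hb0)
        have h2 : a * b * a = b := by
          rw [hA.comm ha hb, mul_assoc, hA.sq a ha, mul_one]
        have h3 : (w : V) ∈ fx ρ (a * b * a) := by
          refine fx_mul ρ ?_ ?_
          · exact h1
          · exact h
        rwa [h2] at h3
    · intro h
      exact h a ha
  have hia : (fx ρ' a').index ≤ 2 := by
    rw [hfa]; exact hrel
  obtain ⟨d, hd, h5, h6⟩ := prim (ρ := ρ') hV' hr hr2 hy'o hne'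
  obtain ⟨e, he⟩ := prim_even (ρ := ρ') hV' (a := a') (y := y') (Subtype.ext (hA.sq a ha))
    (by rw [hy'o, ← hy]; exact hodd) hinv'
  have h7 : d = 2 * e := by
    rw [h5, ← pow_mul] at he
    rw [Nat.pow_right_injective (le_refl 2) he, mul_comm]
  have h8 := half' ρ' (a := a') (y := y') (by rw [hy'o, ← hy]; exact hodd) hinv'
  have h9 : 2 ^ d ≤ 2 ^ 2 := by
    rw [← h5]
    exact h8.trans (Nat.pow_le_pow_left hia 2)
  have h10 : d ≤ 2 := (Nat.pow_le_pow_iff_right (by norm_num)).1 h9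
  have h11 : d = 2 := by omega
  subst h11
  have hr3 : r = 3 := by
    have : r ∣ 3 := h6
    exact (Nat.prime_dvd_prime_iff_eq hr Nat.prime_three).1 this
  refine ⟨hr3, hidx, ?_, ?_⟩
  · have h12 : (CS ρ A).relIndex (CS ρ A₀) = (fx ρ' a').index := by rw [hfa]; rfl
    rw [h12]
    have h13 : 2 ≤ (fx ρ' a').index := by
      by_contra hcon
      have : (fx ρ' a').index ≤ 1 := by omega
      have h14 := h8.trans (Nat.pow_le_pow_left this 2)
      rw [h5] at h14
      norm_num at h14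
    omega
  · have h12 : (fx ρ y).relIndex (CS ρ A₀) = (fx ρ' y').index := by
      rw [show fx ρ' y' = (fx ρ y).subgroupOf (CS ρ A₀) from fx_res hst y']; rfl
    rw [h12, h5]; norm_num

/-- the frame for the local theorems: `A` acts faithfully on the normal subgroup `L`, inner automorphisms being induced
by elements of `L` only -/
structure Fr {H : Type*} [Group H] {V : Type*} [CommGroup V] (ρ : H →* MulAut V) (L A : Subgroup H) : Prop where
  bo : BO ρ A
  ne : A ≠ ⊥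
  faithA : ∀ a ∈ A, (∀ l ∈ L, a * l = l * a) → a = 1
  inn : ∀ a ∈ A, ∀ g ∈ L, (∀ l ∈ L, a * l * a⁻¹ = g * l * g⁻¹) → a ∈ L
  faithL : ∀ y ∈ L, y ≠ 1 → ∃ v, ρ y v ≠ v

end Cfsg.Agent.OddCyclic.FFRed
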