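import Cfsg.Agent.OddCyclic.FFThreeDefs
import Cfsg.Agent.GH.L2Tri

/-!
# Best offenders in `L₃(2)`
-/

set_option autoImplicit false
set_option linter.unusedSectionVars false

namespace Cfsg.Agent.OddCyclic.FFThree

open Cfsg.Agent.GH.L2Aut Cfsg.Agent.OddCyclic.T1Module Cfsg.Agent.OddCyclic.FFBasic
  Cfsg.Agent.OddCyclic.FFRed Cfsg.Agent.OddCyclic.FFSl2

variable {L : Type*} [Group L] [Finite L] {V : Type*} [CommGroup V] [Finite V] {ρ : L →* MulAut V}

omit [Finite V] in
theorem card_sup_mul (N C : Subgroup V) :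
    Nat.card (N ⊔ C : Subgroup V) * Nat.card (N ⊓ C : Subgroup V) = Nat.card N * Nat.card C := by
  have h1 : Nat.card C * C.relIndex (N ⊔ C) = Nat.card (N ⊔ C : Subgroup V) := card_mul_relIndex le_sup_right
  have h2 : Nat.card (N ⊓ C : Subgroup V) * (N ⊓ C).relIndex N = Nat.card N := card_mul_relIndex inf_le_left
  rw [Subgroup.inf_relIndex_left] at h2
  rw [Subgroup.relIndex_sup_right] at h1
  rw [← h1, ← h2]
  ring

theorem card_sup_le (N C : Subgroup V) : Nat.card (N ⊔ C : Subgroup V) ≤ Nat.card N * Nat.card C := by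
  rw [← card_sup_mul]
  exact Nat.le_mul_of_pos_right _ Nat.card_pos

/-- the module data -/
structure Mod (ρ : L →* MulAut V) : Prop where
  l32 : L32 L
  sq : ∀ v : V, v * v = 1
  faith : ∀ y : L, y ≠ 1 → ∃ v, ρ y v ≠ v

namespace Mod

variable (h : Mod ρ)
include h

theorem idx {a b : L} (ha1 : a ≠ 1) (ha : a * a = 1) (hb1 : b ≠ 1) (hb : b * b = 1) :
    (fx ρ a).index = (fx ρ b).index := by
  obtain ⟨g, rfl⟩ := h.l32.conj a b ha1 ha hb1 hb
  rw [index_fx_conj]

theorem seven_le {y : L} (hy : orderOf y = 7) : 8 ≤ (fx ρ y).index := by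
  have hy1 : y ≠ 1 := by rintro rfl; rw [orderOf_one] at hy; norm_num at hy
  obtain ⟨d, hd, h1, h2⟩ := prim (ρ := ρ) h.sq (by norm_num : Nat.Prime 7) (by norm_num) hy (h.faith y hy1)
  have hd3 : 3 ≤ d := by
    by_contra hcon
    have : d = 1 ∨ d = 2 := by omega
    rcases this with rfl | rfl <;> norm_num at h2
  rw [h1]
  calc 8 = 2 ^ 3 := by norm_num
    _ ≤ 2 ^ d := Nat.pow_le_pow_right (by norm_num) hd3

/-- `L` has an element of order seven -/
theorem top_le : 8 ≤ (CS ρ ⊤).index := by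
  obtain ⟨w, b, c, -, -, -, -, -, -, hu, -⟩ := h.l32.gen
  exact (h.seven_le hu).trans (index_le_of_le (CS_le_fx (Subgroup.mem_top _)))

theorem two_le {a : L} (ha1 : a ≠ 1) : 2 ≤ (fx ρ a).index := by
  have h1 : (fx ρ a).index ≠ 0 := Subgroup.index_ne_zero_of_finite
  have h2 : (fx ρ a).index ≠ 1 := by
    intro h2
    rw [Subgroup.index_eq_one] at h2
    obtain ⟨v, hv⟩ := h.faith a ha1
    apply hv
    have : v ∈ fx ρ a := by rw [h2]; trivial
    exact this
  omega

/-- elements fixing the fixed points of `w` and `u` -/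
theorem CS_top_eq {w u : L} (hg : Subgroup.closure {w, u} = ⊤) : CS ρ ⊤ = fx ρ w ⊓ fx ρ u := by
  apply le_antisymm
  · exact le_inf (CS_le_fx (Subgroup.mem_top _)) (CS_le_fx (Subgroup.mem_top _))
  · rintro v ⟨h1, h2⟩
    rw [mem_CS_iff, ← hg, Subgroup.closure_le]
    rintro x (rfl | rfl)
    · exact h1
    · exact h2

end Mod

/-- the transvection case -/
structure Alpha (ρ : L →* MulAut V) : Prop where
  inv : ∀ a : L, a ≠ 1 → a * a = 1 → (fx ρ a).index = 2
  top : (CS ρ ⊤).index = 8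
  seven : ∀ y : L, orderOf y = 7 → fx ρ y = CS ρ ⊤
  exN : ∃ N : Subgroup V, Nat.card N = 8 ∧ (∀ x v, ρ x v * v⁻¹ ∈ N) ∧ N ⊓ CS ρ ⊤ = ⊥ ∧ N ⊔ CS ρ ⊤ = ⊤

theorem alpha_of (h : Mod ρ) {a₀ : L} (ha1 : a₀ ≠ 1) (ha : a₀ * a₀ = 1) (hi : (fx ρ a₀).index = 2) : Alpha ρ := by
  have hinv : ∀ a : L, a ≠ 1 → a * a = 1 → (fx ρ a).index = 2 := fun a h1 h2 => by rw [h.idx h1 h2 ha1 ha, hi]
  obtain ⟨w, b, c, hw, hw1, hb, hb1, hc, hc1, hu, hg⟩ := h.l32.gen
  set u := b * c * w with hudef
  have hodd : Odd (orderOf u) := by rw [hu]; decide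
  have hiw := hinv w hw1 hw
  have hib := hinv b hb1 hb
  have hic := hinv c hc1 hc
  have hle : fx ρ b ⊓ fx ρ c ⊓ fx ρ w ≤ fx ρ u := fun v hv => fx_mul ρ (fx_mul ρ hv.1.1 hv.1.2) hv.2
  have h8 : (fx ρ b ⊓ fx ρ c ⊓ fx ρ w).index ≤ 8 := by
    refine Subgroup.index_inf_le.trans ?_
    have := Subgroup.index_inf_le (H := fx ρ b) (K := fx ρ c)
    rw [hib, hic] at this
    rw [hiw]; omega
  have heq : fx ρ b ⊓ fx ρ c ⊓ fx ρ w = fx ρ u := eq_of_index_le hle (h8.trans (h.seven_le hu))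
  have htop : CS ρ ⊤ = fx ρ u := by
    rw [h.CS_top_eq hg]
    exact inf_eq_right.2 (by rw [← heq]; exact inf_le_right)
  have hiu : (fx ρ u).index = 8 := by
    apply le_antisymm
    · rw [← heq]; exact h8
    · exact h.seven_le hu
  have hseven : ∀ y : L, orderOf y = 7 → fx ρ y = CS ρ ⊤ := by
    intro y hy
    refine (eq_of_index_le (CS_le_fx (Subgroup.mem_top y)) ?_).symm
    rw [htop, hiu]
    exact h.seven_le hy
  refine ⟨hinv, by rw [htop, hiu], hseven, ?_⟩
  -- the commutator subgroup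
  set N := (cm ρ u).range with hN
  have hNc : Nat.card N = 8 := by rw [hN, card_range_cm, hiu]
  set M := (cm ρ b).range ⊔ (cm ρ c).range ⊔ (cm ρ w).range with hM
  have hMc : Nat.card M ≤ 8 := by
    have h3 := card_sup_le ((cm ρ b).range ⊔ (cm ρ c).range) (cm ρ w).range
    have h4 := card_sup_le (cm ρ b).range (cm ρ c).range
    rw [card_range_cm, card_range_cm, hib, hic] at h4
    rw [card_range_cm, hiw] at h3
    exact h3.trans (by omega)
  have hbM : ∀ v, cm ρ b v ∈ M := fun v =>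
    Subgroup.mem_sup_left (Subgroup.mem_sup_left ⟨v, rfl⟩)
  have hcM : ∀ v, cm ρ c v ∈ M := fun v =>
    Subgroup.mem_sup_left (Subgroup.mem_sup_right ⟨v, rfl⟩)
  have hwM : ∀ v, cm ρ w v ∈ M := fun v => Subgroup.mem_sup_right ⟨v, rfl⟩
  have hmul : ∀ (K : Subgroup V) (x y : L), (∀ v, cm ρ x v ∈ K) → (∀ v, cm ρ y v ∈ K) → ∀ v, cm ρ (x * y) v ∈ K := by
    intro K x y hx hy v
    have : cm ρ (x * y) v = cm ρ x (ρ y v) * cm ρ y v := by
      rw [cm_apply, cm_apply, cm_apply, map_mul, MulAut.mul_apply]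
      group
    rw [this]
    exact mul_mem (hx _) (hy _)
  have hinvc : ∀ (K : Subgroup V) (x : L), (∀ v, cm ρ x v ∈ K) → ∀ v, cm ρ x⁻¹ v ∈ K := by
    intro K x hx v
    have h1 := inv_mem (hx (ρ x⁻¹ v))
    have h2 : ρ x (ρ x⁻¹ v) = v := by
      rw [← MulAut.mul_apply, ← map_mul, mul_inv_cancel, map_one]; rfl
    rw [cm_apply, h2, mul_inv_rev, inv_inv] at h1
    exact h1
  have huM : ∀ v, cm ρ u v ∈ M := hmul M _ _ (hmul M _ _ hbM hcM) hwM
  have hNM : N = M := by
    apply Subgroup.eq_of_le_of_card_ge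
    · rintro _ ⟨v, rfl⟩
      exact huM v
    · rw [hNc]; exact hMc
  have hwN : ∀ v, cm ρ w v ∈ N := by rw [hNM]; exact hwM
  have huN : ∀ v, cm ρ u v ∈ N := fun v => ⟨v, rfl⟩
  have hall : ∀ x v, cm ρ x v ∈ N := by
    intro x
    let K : Subgroup L :=
      { carrier := {x | ∀ v, cm ρ x v ∈ N}
        mul_mem' := fun {x y} hx hy => hmul N x y hx hy
        one_mem' := fun v => by
          rw [cm_apply, map_one, MulAut.one_apply, mul_inv_cancel]
          exact one_mem N
        inv_mem' := fun {x} hx => hinvc N x hx }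
    have h1 : (⊤ : Subgroup L) ≤ K := by
      rw [← hg, Subgroup.closure_le]
      rintro y (rfl | rfl)
      · exact hwN
      · exact huN
    exact h1 (Subgroup.mem_top x)
  refine ⟨N, hNc, fun x v => by rw [← cm_apply]; exact hall x v, ?_, ?_⟩
  · rw [eq_bot_iff]
    rintro v ⟨h1, h2⟩
    rw [htop] at h2
    exact Subgroup.mem_bot.2 (eq_one_of_fix h.sq hodd h1 h2)
  · apply Subgroup.eq_top_of_card_eq
    have h1 : N ⊓ CS ρ ⊤ = ⊥ := by
      rw [eq_bot_iff]
      rintro v ⟨h1, h2⟩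
      rw [htop] at h2
      exact Subgroup.mem_bot.2 (eq_one_of_fix h.sq hodd h1 h2)
    have h2 := card_sup_mul N (CS ρ ⊤)
    rw [h1, Subgroup.card_bot, mul_one, hNc] at h2
    have h3 := (CS ρ ⊤).card_mul_index
    rw [htop, hiu] at h3
    rw [h2, htop, mul_comm]
    exact h3

/-! ### four-groups -/

/-- a four-group -/
structure IsFour (A : Subgroup L) : Prop where
  card : Nat.card A = 4
  sq : ∀ a ∈ A, a * a = 1

theorem IsFour.exists_pair {A : Subgroup L} (hA : IsFour A) {z a : L} (hz : z ∈ A) (hz1 : z ≠ 1) (ha : a ∈ A)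
    (ha1 : a ≠ 1) (hza : z ≠ a) : Four z a ∧ ∀ x, x ∈ A ↔ x = 1 ∨ x = z ∨ x = a ∨ x = z * a := by
  have hc : ∀ x ∈ A, ∀ y ∈ A, x * y = y * x := fun x hx y hy => comm_of_sq hA.sq hx hy
  have h4 : Cfsg.Agent.GH.L2Tri.Four A := ⟨hc, hA.sq, hA.card⟩
  refine ⟨⟨hA.sq z hz, hA.sq a ha, hz1, ha1, hza, hc z hz a ha⟩, fun x => ⟨fun hx => h4.cases hz ha hz1 ha1 hza hx, ?_⟩⟩
  rintro (rfl | rfl | rfl | rfl)
  · exact one_mem A
  · exact hz
  · exact ha
  · exact mul_mem hz ha

theorem card_sub {a b : L} (h : Four a b) : Nat.card h.sub = 4 := by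
  classical
  have h1 : (h.sub : Set L) = (({1, a, b, a * b} : Finset L) : Set L) := by
    ext x
    simp only [Finset.coe_insert, Finset.coe_singleton, Set.mem_insert_iff, Set.mem_singleton_iff]
    rfl
  rw [← SetLike.coe_sort_coe, h1, Nat.card_coe_set_eq, Set.ncard_coe_finset]
  have e1 : (1 : L) ∉ ({a, b, a * b} : Finset L) := by
    simp only [Finset.mem_insert, Finset.mem_singleton, not_or]
    exact ⟨h.a1.symm, h.b1.symm, h.right.b1.symm⟩
  have e2 : a ∉ ({b, a * b} : Finset L) := by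
    simp only [Finset.mem_insert, Finset.mem_singleton, not_or]
    exact ⟨h.ne, h.right.ne⟩
  have e3 : b ∉ ({a * b} : Finset L) := by
    simp only [Finset.mem_singleton]
    intro h3
    exact h.a1 (mul_eq_right.mp h3.symm)
  rw [Finset.card_insert_of_notMem e1, Finset.card_insert_of_notMem e2, Finset.card_insert_of_notMem e3,
    Finset.card_singleton]

theorem mem_sub {a b : L} (h : Four a b) {x : L} : x ∈ h.sub ↔ x = 1 ∨ x = a ∨ x = b ∨ x = a * b := Iff.rfl

theorem isFour_sub {a b : L} (h : Four a b) : IsFour h.sub := by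
  refine ⟨card_sub h, ?_⟩
  rintro x (rfl | rfl | rfl | rfl)
  · exact one_mul 1
  · exact h.aa
  · exact h.bb
  · exact h.right.bb

theorem IsFour.exists_third {A : Subgroup L} (hA : IsFour A) (z : L) : ∃ a ∈ A, a ≠ 1 ∧ z ≠ a := by
  by_contra hcon
  push Not at hcon
  have h1 := FFPsl.card_le_two_of (B := A) (a := z) (fun b hb => by
    by_cases h1 : b = 1
    · exact Or.inl h1
    · exact Or.inr (hcon b hb h1).symm)
  rw [hA.card] at h1
  omega

theorem IsFour.exists_four {A : Subgroup L} (hA : IsFour A) :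
    ∃ z ∈ A, ∃ a ∈ A, Four z a ∧ ∀ x, x ∈ A ↔ x = 1 ∨ x = z ∨ x = a ∨ x = z * a := by
  obtain ⟨z, hz, hz1, -⟩ := hA.exists_third 1
  obtain ⟨a, ha, ha1, hza⟩ := hA.exists_third z
  exact ⟨z, hz, a, ha, hA.exists_pair hz hz1 ha ha1 hza⟩

theorem card_sylow (h : L32 L) (T : Sylow 2 L) : Nat.card T = 8 := by
  have h1 := T.card_eq_multiplicity
  rw [h.card] at h1
  rw [h1]
  have : (168 : ℕ).factorization 2 = 3 := by
    rw [show (168 : ℕ) = 2 ^ 3 * 21 by norm_num, Nat.factorization_mul (by norm_num) (by norm_num),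
      Nat.Prime.factorization_pow Nat.prime_two]
    have : (21 : ℕ).factorization 2 = 0 := Nat.factorization_eq_zero_of_not_dvd (by norm_num)
    simp [this]
  rw [this]; norm_num

/-- the partner of `z` outside `A` -/
theorem exists_partner (h : L32 L) (T : Sylow 2 L) {A : Subgroup L} (hA : IsFour A) (hAT : A ≤ T) :
    ∃ z a b : L, z ∈ A ∧ a ∈ A ∧ Four z a ∧ Four z b ∧ b ∈ T ∧ a * b * a⁻¹ = z * b ∧
      (∀ x, x ∈ A ↔ x = 1 ∨ x = z ∨ x = a ∨ x = z * a) ∧ ∀ x ∈ T, x ∈ A ∨ b * x ∈ A := by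
  have hT := card_sylow h T
  have hidx : (A.subgroupOf T).index = 2 := by
    have h1 : Nat.card A * A.relIndex T = Nat.card T := card_mul_relIndex hAT
    rw [hA.card, hT] at h1
    show A.relIndex T = 2
    omega
  have hc : ∀ x ∈ A, ∀ y ∈ A, x * y = y * x := fun x hx y hy => comm_of_sq hA.sq hx hy
  have hN : (A.subgroupOf T).Normal := Subgroup.normal_of_index_eq_two hidx
  have hn : ∀ s ∈ T, ∀ x ∈ A, s * x * s⁻¹ ∈ A := by
    intro s hs x hx
    exact hN.conj_mem (⟨x, hAT hx⟩ : T) hx ⟨s, hs⟩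
  have hmul : ∀ s ∈ T, ∀ t ∈ T, s ∉ A → t ∉ A → s * t ∈ A := by
    intro s hs t ht hsA htA
    have h1 := (Subgroup.mul_mem_iff_of_index_two hidx (a := ⟨s, hs⟩) (b := ⟨t, ht⟩)).2
      ⟨fun h => absurd h hsA, fun h => absurd h htA⟩
    exact h1
  obtain ⟨s, hs, hsA⟩ : ∃ s ∈ T, s ∉ A := by
    by_contra hcon
    push Not at hcon
    have h1 := Nat.card_le_card_of_injective _ (Subgroup.inclusion_injective (show (T : Subgroup L) ≤ A from hcon))
    change Nat.card T ≤ Nat.card A at h1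
    rw [hT, hA.card] at h1
    omega
  have hss : s * s ∈ A := hmul s hs s hs hsA hsA
  -- an element of `A` not centralised by `s`
  obtain ⟨a, haA, hsa⟩ : ∃ a ∈ A, s * a * s⁻¹ ≠ a := by
    by_contra hcon
    push Not at hcon
    obtain ⟨z, hz, a, ha, hza, hmem⟩ := hA.exists_four
    apply hsA
    rw [hmem]
    exact h.cent z a s hza (mul_inv_eq_iff_eq_mul.1 (hcon z hz)) (mul_inv_eq_iff_eq_mul.1 (hcon a ha))
  have ha1 : a ≠ 1 := by rintro rfl; apply hsa; group
  set a' := s * a * s⁻¹ with ha'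
  have ha'A : a' ∈ A := hn s hs a haA
  have ha'1 : a' ≠ 1 := by
    intro h1
    rw [ha', mul_inv_eq_one] at h1
    exact ha1 (mul_eq_left.1 h1)
  have hsa' : s * a' * s⁻¹ = a := by
    have h1 : s * a' * s⁻¹ = (s * s) * a * (s * s)⁻¹ := by rw [ha']; group
    rw [h1, hc _ hss a haA, mul_inv_cancel_right]
  set z := a * a' with hz
  have hzA : z ∈ A := mul_mem haA ha'A
  have hainv : a⁻¹ = a := inv_eq_of_mul_eq_one_left (hA.sq a haA)
  have hz1 : z ≠ 1 := by
    intro h1
    apply hsa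
    have := eq_inv_of_mul_eq_one_right h1
    rw [hainv] at this
    exact this
  have hza : z ≠ a := fun h1 => ha'1 (mul_eq_left.1 h1)
  obtain ⟨hfour, hmem⟩ := hA.exists_pair hzA hz1 haA ha1 hza
  have hsz : s * z * s⁻¹ = z := by
    have h1 : s * z * s⁻¹ = (s * a * s⁻¹) * (s * a' * s⁻¹) := by rw [hz]; group
    rw [h1, ← ha', hsa', hz, hc a haA a' ha'A]
  have hsz' : s * z = z * s := mul_inv_eq_iff_eq_mul.1 hsz
  have hza' : z * a = a' := by rw [hz, hc a haA a' ha'A, mul_assoc, hA.sq a haA, mul_one]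
  have hsa2 : s * a = z * a * s := by rw [hza']; exact mul_inv_eq_iff_eq_mul.1 ha'.symm
  have hzz : z * z = 1 := hA.sq z hzA
  have haa : a * a = 1 := hA.sq a haA
  have has : a * s = z * s * a := by
    have h1 : z * s * a = z * (z * a * s) := by rw [mul_assoc, hsa2]
    rw [h1, ← mul_assoc, ← mul_assoc, hzz, one_mul]
  have hsne : s ≠ 1 := fun h1 => hsA (h1 ▸ one_mem A)
  -- the square of `s`
  have hsq : s * s = 1 ∨ s * s = z := by
    have h1 : s * (s * s) * s⁻¹ = s * s := by group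
    rcases (hmem _).1 hss with h2 | h2 | h2 | h2
    · exact Or.inl h2
    · exact Or.inr h2
    · exfalso
      rw [h2] at h1
      exact hsa h1
    · exfalso
      rw [h2, hza', hsa'] at h1
      exact hsa h1.symm
  obtain ⟨b, hbT, hbA, hbb, hab, hzb⟩ : ∃ b ∈ T, b ∉ A ∧ b * b = 1 ∧ a * b * a⁻¹ = z * b ∧ z * b = b * z := by
    rcases hsq with h2 | h2
    · refine ⟨s, hs, hsA, h2, ?_, hsz'.symm⟩
      rw [has, mul_inv_cancel_right]
    · refine ⟨a * s, mul_mem (hAT haA) hs, fun h3 => hsA ?_, ?_, ?_, ?_⟩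
      · have := mul_mem (inv_mem haA) h3
        rwa [inv_mul_cancel_left] at this
      · calc a * s * (a * s) = a * (s * a) * s := by group
          _ = a * (z * a * s) * s := by rw [hsa2]
          _ = (a * z) * a * (s * s) := by group
          _ = (z * a) * a * z := by rw [hc a haA z hzA, h2]
          _ = 1 := by rw [mul_assoc z a a, haa, mul_one, hzz]
      · calc a * (a * s) * a⁻¹ = (a * a) * s * a⁻¹ := by group
          _ = s * a := by rw [haa, one_mul, hainv]
          _ = z * (a * s) := by rw [hsa2, mul_assoc]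
      · rw [← mul_assoc, hc z hzA a haA, mul_assoc, ← hsz', mul_assoc]
  have hbne : b ≠ 1 := fun h1 => hbA (h1 ▸ one_mem A)
  have hzb1 : z ≠ b := fun h1 => hbA (h1 ▸ hzA)
  refine ⟨z, a, b, hzA, haA, hfour, ⟨hzz, hbb, hz1, hbne, hzb1, hzb⟩, hbT, hab, hmem, ?_⟩
  intro x hx
  by_cases hxA : x ∈ A
  · exact Or.inl hxA
  · exact Or.inr (hmul b hbT x hx hbA hxA)

theorem fx_conj_mono {y a z : L} (h : fx ρ z ≤ fx ρ a) : fx ρ (y * z * y⁻¹) ≤ fx ρ (y * a * y⁻¹) := by
  rw [fx_conj, fx_conj]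
  exact Subgroup.map_mono h

/-- **the parabolic fixing `C_V(T)`** -/
theorem par_core (h : L32 L) {z a b : L} (hza : Four z a) (hzb : Four z b) (hab : a * b * a⁻¹ = z * b)
    (hfix : fx ρ z ≤ fx ρ a) {v : V} (hvz : v ∈ fx ρ z) (hvb : v ∈ fx ρ b) {x : L}
    (hxz : x * z * x⁻¹ ∈ hzb.sub) (hxb : x * b * x⁻¹ ∈ hzb.sub) : v ∈ fx ρ x := by
  obtain ⟨y, -, hy1, hy2⟩ := h.fuse z b hzb
  set a' := y * a * y⁻¹ with ha'
  have hva : v ∈ fx ρ a := hfix hvz
  have hva' : v ∈ fx ρ a' := by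
    have h1 := fx_conj_mono (y := y) hfix
    rw [hy1] at h1
    exact h1 hvb
  have hzz := hzb.aa
  have hbb := hzb.bb
  have hbz := hzb.comm
  -- conjugation
  have f1 : MulAut.conj a z = z := by rw [MulAut.conj_apply, ← hza.comm, mul_inv_cancel_right]
  have f2 : MulAut.conj a b = z * b := hab
  have f3 : MulAut.conj y z = b := hy1
  have f4 : MulAut.conj y b = z * b := hy2
  have f5 : MulAut.conj a' = MulAut.conj y * MulAut.conj a * (MulAut.conj y)⁻¹ := by
    rw [ha', map_mul, map_mul, map_inv]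
  have f6 : MulAut.conj a' b = b := by
    rw [f5, MulAut.mul_apply, MulAut.mul_apply]
    nth_rewrite 1 [← f3]
    rw [MulAut.inv_apply_self, f1, f3]
  have f7 : MulAut.conj a' (z * b) = z := by
    rw [f5, MulAut.mul_apply, MulAut.mul_apply]
    nth_rewrite 1 [← f4]
    rw [MulAut.inv_apply_self, f2, map_mul, f3, f4, ← mul_assoc, ← hbz, mul_assoc, hbb, mul_one]
  have f8 : MulAut.conj a' z = z * b := by
    have h1 : z = (z * b) * b := by rw [mul_assoc, hbb, mul_one]
    nth_rewrite 1 [h1]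
    rw [map_mul, f7, f6]
  have f9 : MulAut.conj a (z * b) = b := by rw [map_mul, f1, f2, ← mul_assoc, hzz, one_mul]
  -- the stabiliser of `v`
  have hS : ∀ w : L, v ∈ fx ρ w → MulAut.conj w z = x * z * x⁻¹ → MulAut.conj w b = x * b * x⁻¹ → v ∈ fx ρ x := by
    intro w hw h1 h2
    have g : ∀ t, MulAut.conj w t = x * t * x⁻¹ → (w⁻¹ * x) * t = t * (w⁻¹ * x) := by
      intro t ht
      rw [MulAut.conj_apply] at ht
      have : x * t = w * t * w⁻¹ * x := by rw [ht]; group
      rw [mul_assoc, this]; group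
    have h3 := h.cent z b (w⁻¹ * x) hzb (g z h1) (g b h2)
    have h4 : v ∈ fx ρ (w⁻¹ * x) := by
      rcases h3 with h3 | h3 | h3 | h3
      · rw [h3, fx_one]; trivial
      · rw [h3]; exact hvz
      · rw [h3]; exact hvb
      · rw [h3]; exact fx_mul ρ hvz hvb
    have h5 : x = w * (w⁻¹ * x) := by group
    rw [h5]
    exact fx_mul ρ hw h4
  have hz1 : x * z * x⁻¹ ≠ 1 := fun h1 => hzb.a1 (by
    have : z = x⁻¹ * (x * z * x⁻¹) * x := by group
    rw [this, h1]; group)
  have hb1 : x * b * x⁻¹ ≠ 1 := fun h1 => hzb.b1 (by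
    have : b = x⁻¹ * (x * b * x⁻¹) * x := by group
    rw [this, h1]; group)
  have hne : x * z * x⁻¹ ≠ x * b * x⁻¹ := fun h1 => hzb.ne (by
    have e1 : z = x⁻¹ * (x * z * x⁻¹) * x := by group
    have e2 : b = x⁻¹ * (x * b * x⁻¹) * x := by group
    rw [e1, h1, ← e2])
  rcases (mem_sub hzb).1 hxz with h1 | h1 | h1 | h1
  · exact absurd h1 hz1
  · rcases (mem_sub hzb).1 hxb with h2 | h2 | h2 | h2
    · exact absurd h2 hb1
    · exact absurd (h1.trans h2.symm) hne
    · exact hS 1 (by rw [fx_one]; trivial) (by rw [h1, map_one]; rfl) (by rw [h2, map_one]; rfl)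
    · exact hS a hva (by rw [f1, h1]) (by rw [f2, h2])
  · rcases (mem_sub hzb).1 hxb with h2 | h2 | h2 | h2
    · exact absurd h2 hb1
    · exact hS (a * (a' * a)) (fx_mul ρ hva (fx_mul ρ hva' hva))
        (by rw [map_mul, map_mul, MulAut.mul_apply, MulAut.mul_apply, f1, f8, f9, h1])
        (by rw [map_mul, map_mul, MulAut.mul_apply, MulAut.mul_apply, f2, f7, f1, h2])
    · exact absurd (h1.trans h2.symm) hne
    · exact hS (a * a') (fx_mul ρ hva hva')
        (by rw [map_mul, MulAut.mul_apply, f8, f9, h1]) (by rw [map_mul, MulAut.mul_apply, f6, f2, h2])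
  · rcases (mem_sub hzb).1 hxb with h2 | h2 | h2 | h2
    · exact absurd h2 hb1
    · exact hS (a' * a) (fx_mul ρ hva' hva)
        (by rw [map_mul, MulAut.mul_apply, f1, f8, h1]) (by rw [map_mul, MulAut.mul_apply, f2, f7, h2])
    · exact hS a' hva' (by rw [f8, h1]) (by rw [f6, h2])
    · exact absurd (h1.trans h2.symm) hne

theorem IsFour.eq_of_le {A B : Subgroup L} (hA : IsFour A) (hB : IsFour B) (h : A ≤ B) : A = B :=
  Subgroup.eq_of_le_of_card_ge h (by rw [hA.card, hB.card])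

theorem fuse_mem (h : L32 L) {A : Subgroup L} {z a : L} (hfour : Four z a)
    (hmem : ∀ x, x ∈ A ↔ x = 1 ∨ x = z ∨ x = a ∨ x = z * a) :
    ∃ y ∈ Subgroup.normalizer (A : Set L), y * y * y = 1 ∧ y * z * y⁻¹ = a ∧ y * a * y⁻¹ = z * a := by
  obtain ⟨y, hy3, hy1, hy2⟩ := h.fuse z a hfour
  refine ⟨y, ?_, hy3, hy1, hy2⟩
  have hz : z ∈ A := (hmem z).2 (Or.inr (Or.inl rfl))
  have ha : a ∈ A := (hmem a).2 (Or.inr (Or.inr (Or.inl rfl)))
  have h1 : ∀ x ∈ A, y * x * y⁻¹ ∈ A := by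
    intro x hx
    rcases (hmem x).1 hx with rfl | rfl | rfl | rfl
    · rw [mul_one, mul_inv_cancel]; exact one_mem A
    · rw [hy1]; exact ha
    · rw [hy2]; exact mul_mem hz ha
    · have : y * (z * a) * y⁻¹ = (y * z * y⁻¹) * (y * a * y⁻¹) := by group
      rw [this, hy1, hy2]; exact mul_mem ha (mul_mem hz ha)
  rw [Subgroup.mem_normalizer_iff]
  intro x
  refine ⟨h1 x, fun hx => ?_⟩
  have h3 := h1 _ (h1 _ hx)
  have h4 : y * (y * (y * x * y⁻¹) * y⁻¹) * y⁻¹ = (y * y * y) * x * (y * y * y)⁻¹ := by group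
  rw [h4, hy3, one_mul, inv_one, mul_one] at h3
  exact h3

theorem sylow_le_normalizer (h : L32 L) (T : Sylow 2 L) {C : Subgroup L} (hC : IsFour C) (hCT : C ≤ T) :
    (T : Subgroup L) ≤ Subgroup.normalizer (C : Set L) := by
  have h2 : (C.subgroupOf T).index = 2 := by
    have h1 : Nat.card C * C.relIndex T = Nat.card T := card_mul_relIndex hCT
    rw [hC.card, card_sylow h T] at h1
    show C.relIndex T = 2
    omega
  have h3 := Subgroup.normal_of_index_eq_two h2
  exact (Subgroup.normal_subgroupOf_iff_le_normalizer hCT).1 h3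

/-- the normalisers of two four-groups in a Sylow 2-subgroup generate `L` -/
theorem sup_normalizer (h : L32 L) (T : Sylow 2 L) {A B : Subgroup L} (hA : IsFour A) (hB : IsFour B) (hAT : A ≤ T)
    (hBT : B ≤ T) (hAB : A ≠ B) {z : L} (hzA : z ∈ A) (hzB : z ∈ B) (hz1 : z ≠ 1) :
    Subgroup.normalizer (A : Set L) ⊔ Subgroup.normalizer (B : Set L) = ⊤ := by
  have key : ∀ C : Subgroup L, IsFour C → C ≤ T → 24 ∣ Nat.card (Subgroup.normalizer (C : Set L)) := by
    intro C hC hCT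
    have h8 : 8 ∣ Nat.card (Subgroup.normalizer (C : Set L)) := by
      have h2 := Subgroup.card_dvd_of_le (sylow_le_normalizer h T hC hCT)
      change Nat.card T ∣ _ at h2
      rwa [card_sylow h T] at h2
    have h3 : 3 ∣ Nat.card (Subgroup.normalizer (C : Set L)) := by
      obtain ⟨s, hs, t, ht, hst, hmem⟩ := hC.exists_four
      obtain ⟨y, hyN, hy3, hy1, -⟩ := fuse_mem h hst hmem
      have hy1' : y ≠ 1 := by
        rintro rfl
        rw [one_mul, inv_one, mul_one] at hy1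
        exact hst.ne hy1
      have : Fact (Nat.Prime 3) := ⟨Nat.prime_three⟩
      have h5 : orderOf y = 3 := orderOf_eq_prime (by rw [pow_succ, pow_two]; exact hy3) hy1'
      rw [← h5, ← Subgroup.orderOf_mk y hyN]
      exact orderOf_dvd_natCard _
    exact Nat.Coprime.mul_dvd_of_dvd_of_dvd (by norm_num : Nat.Coprime 8 3) h8 h3
  set M := Subgroup.normalizer (A : Set L) ⊔ Subgroup.normalizer (B : Set L) with hM
  have hA24 := key A hA hAT
  have hB24 := key B hB hBT
  have hAM : Nat.card (Subgroup.normalizer (A : Set L)) ∣ Nat.card M := Subgroup.card_dvd_of_le le_sup_left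
  have hML : Nat.card M ∣ 168 := by rw [← h.card]; exact M.card_subgroup_dvd_card
  obtain ⟨k, hk⟩ := hA24.trans hAM
  obtain ⟨j, hj⟩ := hML
  have hkj : k * j = 7 := by
    rw [hk] at hj
    have h1 : 24 * (k * j) = 24 * 7 := by rw [← mul_assoc, ← hj]
    exact Nat.eq_of_mul_eq_mul_left (by norm_num) h1
  have hk' : k = 1 ∨ k = 7 := (Nat.dvd_prime (by norm_num)).1 ⟨j, hkj.symm⟩
  rcases hk' with rfl | rfl
  · exfalso
    have e : ∀ N : Subgroup L, N ≤ M → 24 ∣ Nat.card N → N = M := by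
      intro N hN h24
      apply Subgroup.eq_of_le_of_card_ge hN
      rw [hk]
      exact Nat.le_of_dvd Nat.card_pos h24
    have e1 := e _ le_sup_left hA24
    have e2 := e _ le_sup_right hB24
    obtain ⟨a, ha, ha1, hza⟩ := hA.exists_third z
    obtain ⟨hfour, hmem⟩ := hA.exists_pair hzA hz1 ha ha1 hza
    obtain ⟨y, hyN, hy3, hy1, hy2⟩ := fuse_mem h hfour hmem
    have hyN' : y ∈ Subgroup.normalizer (B : Set L) := by rw [e2, ← e1]; exact hyN
    have hyz : y * z * y⁻¹ ∈ B := (Subgroup.mem_normalizer_iff.1 hyN' z).1 hzB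
    rw [hy1] at hyz
    apply hAB
    apply hA.eq_of_le hB
    intro x hx
    rcases (hmem x).1 hx with rfl | rfl | rfl | rfl
    · exact one_mem B
    · exact hzB
    · exact hyz
    · exact mul_mem hzB hyz
  · apply Subgroup.eq_top_of_card_eq
    rw [hk, h.card]; norm_num

/-- conclusion for a four-group `A` with `C_V(a) = C_V(A)` for all `a ∈ A#`: the other four-group `B` of a Sylow
2-subgroup `T ≥ A` -/
structure Par (ρ : L →* MulAut V) (T : Sylow 2 L) (A B : Subgroup L) : Prop where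
  four : IsFour B
  le : B ≤ T
  ne : A ≠ B
  only : ∀ C : Subgroup L, IsFour C → C ≤ T → C = A ∨ C = B
  fix : CS ρ (T : Subgroup L) = CS ρ B
  cent : ∀ x ∈ Subgroup.normalizer (B : Set L), ∀ v ∈ CS ρ (T : Subgroup L), ρ x v = v
  gen : Subgroup.normalizer (A : Set L) ⊔ Subgroup.normalizer (B : Set L) = ⊤

theorem mem_normalizer_conj {B : Subgroup L} {x b : L} (hx : x ∈ Subgroup.normalizer (B : Set L)) (hb : b ∈ B) :
    x * b * x⁻¹ ∈ B := (Subgroup.mem_normalizer_iff.1 hx b).1 hb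

/-- the other four-group -/
theorem exists_other (h : L32 L) (T : Sylow 2 L) {A : Subgroup L} (hA : IsFour A) (hAT : A ≤ T) :
    ∃ z a b : L, ∃ hza : Four z a, ∃ hzb : Four z b, A = hza.sub ∧ hzb.sub ≤ T ∧ a * b * a⁻¹ = z * b ∧
      A ≠ hzb.sub ∧ A ⊔ hzb.sub = T ∧
      (∀ C : Subgroup L, IsFour C → C ≤ T → C = A ∨ C = hzb.sub) ∧
      Subgroup.normalizer (A : Set L) ⊔ Subgroup.normalizer (hzb.sub : Set L) = ⊤ := by
  obtain ⟨z, a, b, hzA, haA, hza, hzb, hbT, hab, hmem, hcov⟩ := exists_partner h T hA hAT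
  have hAeq : A = hza.sub := by ext x; exact hmem x
  have hbA : b ∉ A := by
    intro hbA
    have h1 : a * b = b * a := comm_of_sq hA.sq haA hbA
    rw [h1, mul_inv_cancel_right] at hab
    exact hzb.a1 (mul_eq_right.1 hab.symm)
  have hBT : hzb.sub ≤ T := by
    rintro x (rfl | rfl | rfl | rfl)
    · exact one_mem _
    · exact hAT hzA
    · exact hbT
    · exact mul_mem (hAT hzA) hbT
  have hAB : A ≠ hzb.sub := fun h1 => hbA (by rw [h1]; exact Or.inr (Or.inr (Or.inl rfl)))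
  have hsup : A ⊔ hzb.sub = T := by
    apply le_antisymm (sup_le hAT hBT)
    intro x hx
    have hb : b ∈ A ⊔ hzb.sub := Subgroup.mem_sup_right (Or.inr (Or.inr (Or.inl rfl)))
    rcases hcov x hx with h1 | h1
    · exact Subgroup.mem_sup_left h1
    · have h2 := mul_mem (inv_mem hb) (Subgroup.mem_sup_left h1 : b * x ∈ A ⊔ hzb.sub)
      rwa [inv_mul_cancel_left] at h2
  refine ⟨z, a, b, hza, hzb, hAeq, hBT, hab, hAB, hsup, ?_, ?_⟩
  · intro C hC hCT
    by_cases hCA : C ≤ A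
    · exact Or.inl (hC.eq_of_le hA hCA)
    · right
      apply hC.eq_of_le (isFour_sub hzb)
      obtain ⟨c, hc, hcA⟩ : ∃ c ∈ C, c ∉ A := by
        by_contra hcon
        push Not at hcon
        exact hCA hcon
      have hcomm : ∀ x ∈ C, ∀ y ∈ C, x * y = y * x := fun x hx y hy => comm_of_sq hC.sq hx hy
      -- an element of `C` outside `A` is `b` or `z * b`
      have haa := hza.bb
      have hzz := hza.aa
      have hbb := hzb.bb
      have hainv : a⁻¹ = a := inv_eq_of_mul_eq_one_left haa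
      have hab' : a * b = z * b * a := by rw [← hab]; group
      have hout : ∀ x ∈ T, x * x = 1 → x ∉ A → x = b ∨ x = z * b := by
        intro x hx hxx hxA
        have h1 : b * x ∈ A := (hcov x hx).resolve_left hxA
        have h2 : x = b * (b * x) := by rw [← mul_assoc, hbb, one_mul]
        rcases (hmem _).1 h1 with h3 | h3 | h3 | h3
        · left; rw [h2, h3, mul_one]
        · right; rw [h2, h3, hzb.comm]
        · exfalso
          rw [h2, h3] at hxx
          have h4 : b * a * (b * a) = z := by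
            calc b * a * (b * a) = b * (a * b) * a := by group
              _ = b * (z * b * a) * a := by rw [hab']
              _ = (b * z) * b * (a * a) := by group
              _ = z := by rw [← hzb.comm, haa, mul_one, mul_assoc, hbb, mul_one]
          rw [h4] at hxx
          exact hzb.a1 hxx
        · exfalso
          rw [h2, h3] at hxx
          have h4 : b * (z * a) * (b * (z * a)) = z := by
            calc b * (z * a) * (b * (z * a)) = (b * z) * (a * b) * (z * a) := by group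
              _ = (b * z) * (z * b * a) * (z * a) := by rw [hab']
              _ = b * (z * z) * b * (a * z) * a := by group
              _ = b * b * (z * a) * a := by rw [hzz, mul_one, hza.comm]
              _ = z := by rw [hbb, one_mul, mul_assoc, haa, mul_one]
          rw [h4] at hxx
          exact hzb.a1 hxx
      have hcb := hout c (hCT hc) (hC.sq c hc) hcA
      have hazb : a * c * a⁻¹ = z * c := by
        rcases hcb with rfl | rfl
        · exact hab
        · calc a * (z * b) * a⁻¹ = (a * z) * b * a⁻¹ := by group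
            _ = z * (a * b * a⁻¹) := by rw [← hza.comm]; group
            _ = z * (z * b) := by rw [hab]
      intro x hx
      by_cases hxA : x ∈ A
      · rcases (hmem x).1 hxA with rfl | rfl | rfl | rfl
        · exact one_mem _
        · exact Or.inr (Or.inl rfl)
        · exfalso
          rw [hcomm _ hx c hc, mul_inv_cancel_right] at hazb
          exact hzb.a1 (mul_eq_right.1 hazb.symm)
        · exfalso
          have h1 : z * a * c = c * (z * a) := hcomm _ hx c hc
          have hzc : z * c = c * z := by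
            rcases hcb with rfl | rfl
            · exact hzb.comm
            · nth_rewrite 1 [hzb.comm]
              exact (mul_assoc z b z).symm
          have h2 : a * c = c * a := by
            have h3 : z * (a * c) = z * (c * a) := by
              rw [← mul_assoc, h1, ← mul_assoc, ← hzc, mul_assoc]
            exact mul_left_cancel h3
          rw [h2, mul_inv_cancel_right] at hazb
          exact hzb.a1 (mul_eq_right.1 hazb.symm)
      · rcases hout x (hCT hx) (hC.sq x hx) hxA with rfl | rfl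
        · exact Or.inr (Or.inr (Or.inl rfl))
        · exact Or.inr (Or.inr (Or.inr rfl))
  · exact sup_normalizer h T hA (isFour_sub hzb) hAT hBT hAB hzA (Or.inr (Or.inl rfl)) hzb.a1

theorem CS_sub {a b : L} (h : Four a b) : CS ρ h.sub = fx ρ a ⊓ fx ρ b := by
  apply le_antisymm
  · exact le_inf (CS_le_fx (Or.inr (Or.inl rfl))) (CS_le_fx (Or.inr (Or.inr (Or.inl rfl))))
  · rintro v ⟨h1, h2⟩
    rintro x (rfl | rfl | rfl | rfl)
    · rw [map_one]; rfl
    · exact h1
    · exact h2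
    · exact fx_mul ρ h1 h2

theorem par (h : L32 L) (T : Sylow 2 L) {A : Subgroup L} (hA : IsFour A) (hAT : A ≤ T)
    (hfix : ∀ a ∈ A, a ≠ 1 → fx ρ a = CS ρ A) : ∃ B, Par ρ T A B := by
  obtain ⟨z, a, b, hza, hzb, rfl, hBT, hab, hAB, hsup, honly, hgen⟩ := exists_other h T hA hAT
  have hz := hfix z (Or.inr (Or.inl rfl)) hza.a1
  have ha := hfix a (Or.inr (Or.inr (Or.inl rfl))) hza.b1
  have hle : fx ρ z ≤ fx ρ a := by rw [hz, ha]
  have hfixB : CS ρ (T : Subgroup L) = CS ρ hzb.sub := by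
    rw [← hsup, CS_sup]
    apply inf_eq_right.2
    rw [← hz, CS_sub]
    exact inf_le_left
  refine ⟨hzb.sub, isFour_sub hzb, hBT, hAB, honly, hfixB, ?_, hgen⟩
  intro x hx v hv
  rw [hfixB, CS_sub] at hv
  exact par_core h hza hzb hab hle hv.1 hv.2 (mem_normalizer_conj hx (Or.inr (Or.inl rfl)))
    (mem_normalizer_conj hx (Or.inr (Or.inr (Or.inl rfl))))

/-! ### the axis -/

/-- two commuting transvections whose product is a transvection have the same axis or the same centre -/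
theorem axis_or_centre {z a : L} (hza : z * a = a * z) (hz : (fx ρ z).index = 2) (ha : (fx ρ a).index = 2)
    (hp : (fx ρ (z * a)).index = 2) : fx ρ z = fx ρ a ∨ (cm ρ z).range = (cm ρ a).range := by
  by_cases heq : fx ρ z = fx ρ a
  · exact Or.inl heq
  right
  have hnle : ¬ fx ρ z ≤ fx ρ a := fun h => heq (eq_of_index_le h (by rw [hz, ha]))
  have hnle' : ¬ fx ρ a ≤ fx ρ z := fun h => heq (eq_of_index_le h (by rw [hz, ha])).symm
  obtain ⟨v2, hv2, hv2'⟩ := SetLike.not_le_iff_exists.1 hnle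
  obtain ⟨v1, hv1, hv1'⟩ := SetLike.not_le_iff_exists.1 hnle'
  have hcz := card_range_cm ρ z
  have hca := card_range_cm ρ a
  have hcp := card_range_cm ρ (z * a)
  rw [hz] at hcz
  rw [ha] at hca
  rw [hp] at hcp
  have hfix : ∀ x : L, Nat.card (cm ρ x).range = 2 → ∀ u ∈ (cm ρ x).range, u ≠ 1 → ∀ w ∈ (cm ρ x).range, w = 1 ∨ w = u := by
    intro x hx u hu hu1 w hw
    obtain ⟨p, q, hpq, hall⟩ := Nat.card_eq_two_iff.1 hx
    have h1 : ∀ t : (cm ρ x).range, t = p ∨ t = q := by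
      intro t
      have : t ∈ ({p, q} : Set _) := by rw [hall]; trivial
      simpa using this
    by_contra hcon
    push Not at hcon
    have e1 : (⟨u, hu⟩ : (cm ρ x).range) ≠ 1 := fun h => hu1 (congrArg Subtype.val h)
    have e2 : (⟨w, hw⟩ : (cm ρ x).range) ≠ 1 := fun h => hcon.1 (congrArg Subtype.val h)
    have e3 : (⟨w, hw⟩ : (cm ρ x).range) ≠ ⟨u, hu⟩ := fun h => hcon.2 (congrArg Subtype.val h)
    rcases h1 1 with h2 | h2 <;> rcases h1 ⟨u, hu⟩ with h3 | h3 <;> rcases h1 ⟨w, hw⟩ with h4 | h4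
    · exact e1 (h3.trans h2.symm)
    · exact e1 (h3.trans h2.symm)
    · exact e2 (h4.trans h2.symm)
    · exact e3 (h4.trans h3.symm)
    · exact e3 (h4.trans h3.symm)
    · exact e2 (h4.trans h2.symm)
    · exact e1 (h3.trans h2.symm)
    · exact e1 (h3.trans h2.symm)
  have hu : cm ρ (z * a) v1 = cm ρ z v1 := by
    rw [cm_apply, cm_apply, map_mul, MulAut.mul_apply, show ρ a v1 = v1 from hv1]
  have hw : cm ρ (z * a) v2 = cm ρ a v2 := by
    rw [cm_apply, cm_apply, hza, map_mul, MulAut.mul_apply, show ρ z v2 = v2 from hv2]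
  have hu1 : cm ρ z v1 ≠ 1 := fun h1 => hv1' (by rw [cm_apply, mul_inv_eq_one] at h1; exact h1)
  have hw1 : cm ρ a v2 ≠ 1 := fun h1 => hv2' (by rw [cm_apply, mul_inv_eq_one] at h1; exact h1)
  have huw : cm ρ a v2 = cm ρ z v1 := by
    rcases hfix (z * a) hcp (cm ρ z v1) ⟨v1, hu⟩ hu1 (cm ρ a v2) ⟨v2, hw⟩ with h1 | h1
    · exact absurd h1 hw1
    · exact h1
  ext w
  constructor
  · intro hwz
    rcases hfix z hcz _ ⟨v1, rfl⟩ hu1 w hwz with h1 | h1
    · rw [h1]; exact one_mem _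
    · rw [h1, ← huw]; exact ⟨v2, rfl⟩
  · intro hwa
    rcases hfix a hca _ ⟨v2, rfl⟩ hw1 w hwa with h1 | h1
    · rw [h1]; exact one_mem _
    · rw [h1, huw]; exact ⟨v1, rfl⟩

theorem range_cm_conj (x a : L) (v : V) (hv : v ∈ (cm ρ a).range) : ρ x v ∈ (cm ρ (x * a * x⁻¹)).range := by
  obtain ⟨w, rfl⟩ := hv
  refine ⟨ρ x w, ?_⟩
  rw [cm_apply, cm_apply, map_mul (ρ x), map_inv (ρ x)]
  congr 1
  rw [← MulAut.mul_apply, ← MulAut.mul_apply, ← map_mul, ← map_mul]
  congr 2; group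

/-- in the transvection case a Sylow 2-subgroup contains a four-group with common axis -/
theorem Alpha.exists_axis (h : Mod ρ) (hα : Alpha ρ) (T : Sylow 2 L) :
    ∃ A : Subgroup L, IsFour A ∧ A ≤ T ∧ ∀ a ∈ A, a ≠ 1 → fx ρ a = CS ρ A := by
  -- a four-group in `T`
  obtain ⟨A, hA, hAT⟩ : ∃ A : Subgroup L, IsFour A ∧ A ≤ T := by
    obtain ⟨p, q, hpq⟩ := h.l32.four
    obtain ⟨Q, hQ⟩ := hpq.sub_two.exists_le_sylow
    obtain ⟨g, hg⟩ := MulAction.exists_smul_eq L Q T
    have hpT := conj_mem_syl hg (hQ (Or.inr (Or.inl rfl)))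
    have hqT := conj_mem_syl hg (hQ (Or.inr (Or.inr (Or.inl rfl))))
    have hf := hpq.map (MulAut.conj g)
    refine ⟨hf.sub, isFour_sub hf, ?_⟩
    rintro x (rfl | rfl | rfl | rfl)
    · exact one_mem _
    · exact hpT
    · exact hqT
    · exact mul_mem hpT hqT
  obtain ⟨z, a, b, hza, hzb, rfl, hBT, hab, hAB, hsup, honly, hgen⟩ := exists_other h.l32 T hA hAT
  -- equal fixed points on two generators suffice
  have key : ∀ {s t : L} (hst : Four s t), fx ρ s = fx ρ t → ∀ x ∈ hst.sub, x ≠ 1 → fx ρ x = CS ρ hst.sub := by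
    intro s t hst heq x hx hx1
    have h1 : CS ρ hst.sub = fx ρ s := by rw [CS_sub, ← heq, inf_idem]
    have hxx : x * x = 1 := (isFour_sub hst).sq x hx
    symm
    apply eq_of_index_le (CS_le_fx hx)
    rw [h1, hα.inv s hst.a1 hst.aa, hα.inv x hx1 hxx]
  have key2 : ∀ {s t : L} (hst : Four s t), fx ρ s ≠ fx ρ t → ∀ x ∈ hst.sub, x ≠ 1 → (cm ρ x).range = (cm ρ s).range := by
    intro s t hst hne x hx hx1
    have hs2 := hα.inv s hst.a1 hst.aa
    rcases hx with rfl | rfl | rfl | rfl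
    · exact absurd rfl hx1
    · rfl
    · rcases axis_or_centre hst.comm hs2 (hα.inv _ hst.b1 hst.bb) (hα.inv _ hst.right.b1 hst.right.bb) with h1 | h1
      · exact absurd h1 hne
      · exact h1.symm
    · have h2 : s * (s * t) = t := by rw [← mul_assoc, hst.aa, one_mul]
      rcases axis_or_centre hst.right.comm hs2 (hα.inv _ hst.right.b1 hst.right.bb)
        (by rw [h2]; exact hα.inv _ hst.b1 hst.bb) with h1 | h1
      · exfalso
        apply hne
        apply eq_of_index_le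
        · intro v hv
          have h3 : v ∈ fx ρ (s * t) := by rw [← h1]; exact hv
          have h4 := fx_mul ρ hv h3
          rwa [h2] at h4
        · rw [hs2, hα.inv _ hst.b1 hst.bb]
      · exact h1.symm
  by_cases h1 : fx ρ z = fx ρ a
  · exact ⟨hza.sub, hA, hAT, key hza h1⟩
  by_cases h2 : fx ρ z = fx ρ b
  · exact ⟨hzb.sub, isFour_sub hzb, hBT, key hzb h2⟩
  -- common centre: fixed by `L`
  exfalso
  obtain ⟨N, -, hN, hinf, -⟩ := hα.exN
  have hcz : Nat.card (cm ρ z).range = 2 := by rw [card_range_cm, hα.inv z hza.a1 hza.aa]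
  obtain ⟨u, hu, hu1, hall⟩ : ∃ u ∈ (cm ρ z).range, u ≠ 1 ∧ ∀ w ∈ (cm ρ z).range, w ≠ 1 → w = u := by
    obtain ⟨p, q, hpq, hall⟩ := Nat.card_eq_two_iff.1 hcz
    have h1 : ∀ t : (cm ρ z).range, t = p ∨ t = q := by
      intro t
      have : t ∈ ({p, q} : Set _) := by rw [hall]; trivial
      simpa using this
    rcases h1 1 with h3 | h3
    · refine ⟨q, q.2, fun h => hpq (h3.symm.trans (Subtype.ext h.symm)), fun w hw hw1 => ?_⟩
      rcases h1 ⟨w, hw⟩ with h4 | h4
      · exact absurd (congrArg Subtype.val (h4.trans h3.symm)) hw1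
      · exact congrArg Subtype.val h4
    · refine ⟨p, p.2, fun h => hpq ((Subtype.ext h).trans h3), fun w hw hw1 => ?_⟩
      rcases h1 ⟨w, hw⟩ with h4 | h4
      · exact congrArg Subtype.val h4
      · exact absurd (congrArg Subtype.val (h4.trans h3.symm)) hw1
  have hfixu : ∀ {s : L} (hzs : Four z s), fx ρ z ≠ fx ρ s →
      Subgroup.normalizer (hzs.sub : Set L) ≤ stb ρ u := by
    intro s hzs hne x hx
    rw [mem_stb]
    have h3 : x * z * x⁻¹ ∈ hzs.sub := mem_normalizer_conj hx (Or.inr (Or.inl rfl))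
    have h4 : x * z * x⁻¹ ≠ 1 := fun h1 => hza.a1 (by
      have : z = x⁻¹ * (x * z * x⁻¹) * x := by group
      rw [this, h1]; group)
    have h5 := range_cm_conj x z u hu
    rw [key2 hzs hne _ h3 h4] at h5
    exact hall _ h5 (fun h6 => hu1 ((map_eq_one_iff _ (ρ x).injective).1 h6))
  have htop : (⊤ : Subgroup L) ≤ stb ρ u := by
    rw [← hgen]
    exact sup_le (hfixu hza h1) (hfixu hzb h2)
  have huC : u ∈ CS ρ ⊤ := mem_CS_iff.2 htop
  have huN : u ∈ N := by
    obtain ⟨w, rfl⟩ := hu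
    rw [cm_apply]; exact hN z w
  have h3 : u ∈ N ⊓ CS ρ ⊤ := ⟨huN, huC⟩
  rw [hinf] at h3
  exact hu1 (Subgroup.mem_bot.1 h3)

/-! ### offenders -/

theorem card_le_four (h : L32 L) {A : Subgroup L} (hA : ∀ a ∈ A, a * a = 1) : Nat.card A ≤ 4 := by
  by_contra hcon
  push Not at hcon
  obtain ⟨a, ha, ha1, -, -, -⟩ := JInner.exists_notin A hcon 1 1 1 1
  obtain ⟨b, hb, hb1, hba, -, -⟩ := JInner.exists_notin A hcon 1 a 1 1
  obtain ⟨c, hc, hc1, hca, hcb, hcab⟩ := JInner.exists_notin A hcon 1 a b (a * b)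
  have hf : Four a b := ⟨hA a ha, hA b hb, ha1, hb1, hba.symm, comm_of_sq hA ha hb⟩
  rcases h.cent a b c hf (comm_of_sq hA hc ha) (comm_of_sq hA hc hb) with h1 | h1 | h1 | h1
  · exact hc1 h1
  · exact hca h1
  · exact hcb h1
  · exact hcab h1

/-- **best offenders in `L₃(2)`** -/
theorem main (h : Mod ρ) {A : Subgroup L} (hA : BO ρ A) (hA1 : A ≠ ⊥) :
    Alpha ρ ∨ ((∀ a : L, a ≠ 1 → a * a = 1 → (fx ρ a).index = 4) ∧ IsFour A ∧ ∀ a ∈ A, a ≠ 1 → fx ρ a = CS ρ A) := by
  obtain ⟨⟨a, ha⟩, ha1'⟩ := Subgroup.ne_bot_iff_exists_ne_one.1 hA1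
  have ha1 : a ≠ 1 := fun h => ha1' (Subtype.ext h)
  have haa := hA.sq a ha
  have h4 := card_le_four h.l32 hA.sq
  have h2 := h.two_le ha1
  have hle : ∀ x ∈ A, (fx ρ x).index ≤ (CS ρ A).index := fun x hx => index_le_of_le (CS_le_fx hx)
  have hcs := hA.index_le
  have h3 := hle a ha
  obtain ⟨d, hd⟩ := index_pow h.sq (fx ρ a)
  have hd2 : d = 1 ∨ d = 2 := by
    have h5 : 2 ^ d ≤ 2 ^ 2 := by rw [← hd]; omega
    have h6 : d ≤ 2 := (Nat.pow_le_pow_iff_right (by norm_num)).1 h5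
    have h7 : d ≠ 0 := by
      rintro rfl
      rw [pow_zero] at hd
      omega
    omega
  rcases hd2 with rfl | rfl
  · left
    exact alpha_of h ha1 haa hd
  · right
    have hd4 : (fx ρ a).index = 4 := hd
    have hall : ∀ x : L, x ≠ 1 → x * x = 1 → (fx ρ x).index = 4 := fun x hx hxx => by
      rw [h.idx hx hxx ha1 haa, hd4]
    refine ⟨hall, ⟨by omega, hA.sq⟩, ?_⟩
    intro x hx hx1
    symm
    apply eq_of_index_le (CS_le_fx hx)
    rw [hall x hx1 (hA.sq x hx)]
    omega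

/-- in the second case there is only one offender in a Sylow 2-subgroup -/
theorem unique (h : Mod ρ) (h4 : ∀ a : L, a ≠ 1 → a * a = 1 → (fx ρ a).index = 4) (T : Sylow 2 L) {A B : Subgroup L}
    (hA : BO ρ A) (hA1 : A ≠ ⊥) (hAT : A ≤ T) (hB : BO ρ B) (hB1 : B ≠ ⊥) (hBT : B ≤ T) : A = B := by
  have key : ∀ C : Subgroup L, BO ρ C → C ≠ ⊥ → IsFour C ∧ ∀ a ∈ C, a ≠ 1 → fx ρ a = CS ρ C := by
    intro C hC hC1
    rcases main h hC hC1 with h1 | h1
    · exfalso
      obtain ⟨p, q, hpq⟩ := h.l32.four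
      have h2 := h1.inv p hpq.a1 hpq.aa
      rw [h4 p hpq.a1 hpq.aa] at h2
      omega
    · exact h1.2
  obtain ⟨hA4, hAf⟩ := key A hA hA1
  obtain ⟨hB4, hBf⟩ := key B hB hB1
  by_contra hne
  obtain ⟨z, a, b, hza, hzb, hAeq, hB'T, -, -, -, honly, hgen⟩ := exists_other h.l32 T hA4 hAT
  have hBeq : B = hzb.sub := (honly B hB4 hBT).resolve_left (fun h => hne h.symm)
  have hzA : z ∈ A := by rw [hAeq]; exact Or.inr (Or.inl rfl)
  have hzB : z ∈ B := by rw [hBeq]; exact Or.inr (Or.inl rfl)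
  have e1 := hAf z hzA hza.a1
  have e2 := hBf z hzB hza.a1
  have hst : ∀ C : Subgroup L, CS ρ C = fx ρ z → ∀ x ∈ Subgroup.normalizer (C : Set L), ∀ v ∈ fx ρ z, ρ x v ∈ fx ρ z := by
    intro C hC x hx v hv
    rw [← hC] at hv ⊢
    exact CS_stable hx hv
  let K : Subgroup L :=
    { carrier := {x | (fx ρ z).map (ρ x : V ≃* V).toMonoidHom = fx ρ z}
      mul_mem' := fun {x y} hx hy => by
        show (fx ρ z).map (ρ (x * y) : V ≃* V).toMonoidHom = fx ρ z
        have h1 : (ρ (x * y) : V ≃* V).toMonoidHom = ((ρ x : V ≃* V).toMonoidHom).comp (ρ y : V ≃* V).toMonoidHom := by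
          rw [map_mul]; rfl
        rw [h1, ← Subgroup.map_map]
        rw [show (fx ρ z).map (ρ y : V ≃* V).toMonoidHom = fx ρ z from hy]
        exact hx
      one_mem' := by
        show (fx ρ z).map (ρ 1 : V ≃* V).toMonoidHom = fx ρ z
        rw [map_one]; exact Subgroup.map_id _
      inv_mem' := fun {x} hx => by
        show (fx ρ z).map (ρ x⁻¹ : V ≃* V).toMonoidHom = fx ρ z
        nth_rewrite 1 [← show (fx ρ z).map (ρ x : V ≃* V).toMonoidHom = fx ρ z from hx]
        rw [Subgroup.map_map]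
        have h1 : ((ρ x⁻¹ : V ≃* V).toMonoidHom).comp (ρ x : V ≃* V).toMonoidHom = MonoidHom.id V := by
          ext v
          show ρ x⁻¹ (ρ x v) = v
          rw [← MulAut.mul_apply, ← map_mul, inv_mul_cancel, map_one]; rfl
        rw [h1, Subgroup.map_id] }
  have hK : ∀ C : Subgroup L, CS ρ C = fx ρ z → Subgroup.normalizer (C : Set L) ≤ K := by
    intro C hC x hx
    show (fx ρ z).map (ρ x : V ≃* V).toMonoidHom = fx ρ z
    apply Subgroup.eq_of_le_of_card_ge
    · rintro _ ⟨v, hv, rfl⟩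
      exact hst C hC x hx v hv
    · rw [Subgroup.card_map_of_injective (ρ x).injective]
  have htop : (⊤ : Subgroup L) ≤ K := by
    rw [← hgen, ← hBeq]
    exact sup_le (hK A e1.symm) (hK B e2.symm)
  have hall : ∀ x : L, x ≠ 1 → x * x = 1 → fx ρ x = fx ρ z := by
    intro x hx1 hxx
    obtain ⟨g, rfl⟩ := h.l32.conj z x hza.a1 hza.aa hx1 hxx
    rw [fx_conj]
    exact htop (Subgroup.mem_top g)
  obtain ⟨w, b', c, hw, hw1, hb, hb1, hc, hc1, hu, -⟩ := h.l32.gen
  have h5 : fx ρ z ≤ fx ρ (b' * c * w) := by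
    intro v hv
    exact fx_mul ρ (fx_mul ρ (by rw [hall b' hb1 hb]; exact hv) (by rw [hall c hc1 hc]; exact hv))
      (by rw [hall w hw1 hw]; exact hv)
  have h6 := index_le_of_le h5
  have h7 := h.seven_le hu
  rw [h4 z hza.a1 hza.aa] at h6
  omega

end Cfsg.Agent.OddCyclic.FFThree
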