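import Cfsg.Agent.OddCyclic.Om5BComp

/-!
# (Omega5): the involution `a` and a component of type `PSL₂(p)`
-/

set_option autoImplicit false
set_option linter.unusedSectionVars false

namespace Cfsg.Agent.OddCyclic.Om5

open Subgroup Matrix
open Cfsg.Agent.OddCyclic.T1Defs (OddCyc)
open Cfsg.Agent.OddCyclic.FFBasic Cfsg.Agent.OddCyclic.T1Module Cfsg.Agent.OddCyclic.FFRed
open Cfsg.Agent.Lib.SL2Mat Cfsg.Agent.GH.L2Aut Cfsg.Agent.OddCyclic.PGLTorus

theorem primes_eight {p d : ℕ} (hp : p.Prime) (h7 : 7 ≤ p) (hd : 0 < d) (hd8 : d ≤ 8) (h : p ∣ 2 ^ d - 1) :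
    p = 7 ∨ p = 17 ∨ p = 31 ∨ p = 127 := by
  have key : ∀ q : ℕ, q.Prime → p ∣ q → p = q := fun q hq hpq => (Nat.prime_dvd_prime_iff_eq hp hq).1 hpq
  interval_cases d
  · exact absurd (Nat.le_of_dvd (by norm_num) h) (by omega)
  · exact absurd (Nat.le_of_dvd (by norm_num) h) (by omega)
  · exact Or.inl (key 7 (by norm_num) h)
  · have h1 : p ∣ 3 * 5 := h
    rcases (Nat.Prime.dvd_mul hp).1 h1 with h2 | h2
    · have := key 3 (by norm_num) h2; omega
    · have := key 5 (by norm_num) h2; omega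
  · exact Or.inr (Or.inr (Or.inl (key 31 (by norm_num) h)))
  · have h1 : p ∣ 3 * 3 * 7 := h
    rcases (Nat.Prime.dvd_mul hp).1 h1 with h2 | h2
    · rcases (Nat.Prime.dvd_mul hp).1 h2 with h3 | h3
      · have := key 3 (by norm_num) h3; omega
      · have := key 3 (by norm_num) h3; omega
    · exact Or.inl (key 7 (by norm_num) h2)
  · exact Or.inr (Or.inr (Or.inr (key 127 (by norm_num) h)))
  · have h1 : p ∣ 3 * 5 * 17 := h
    rcases (Nat.Prime.dvd_mul hp).1 h1 with h2 | h2
    · rcases (Nat.Prime.dvd_mul hp).1 h2 with h3 | h3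
      · have := key 3 (by norm_num) h3; omega
      · have := key 5 (by norm_num) h3; omega
    · exact Or.inr (Or.inl (key 17 (by norm_num) h2))

theorem not_square_three {F : Type*} [Field F] [Finite F]
    (h : Nat.card F = 7 ∨ Nat.card F = 17 ∨ Nat.card F = 31 ∨ Nat.card F = 127) (t : F) : t * t ≠ 3 := by
  intro ht
  have := Fintype.ofFinite F
  rw [Nat.card_eq_fintype_card] at h
  have key : ∀ p : ℕ, ∀ hp : p.Prime, ∀ hF : Fintype.card F = p, ∃ u : ZMod p, u * u = 3 := by
    intro p hp hF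
    let e := ZMod.ringEquivOfPrime F hp hF
    refine ⟨e.symm t, e.injective ?_⟩
    rw [map_mul, e.apply_symm_apply, ht, map_ofNat]
  rcases h with h | h | h | h
  · obtain ⟨u, hu⟩ := key 7 (by norm_num) h
    revert u; decide +kernel
  · obtain ⟨u, hu⟩ := key 17 (by norm_num) h
    revert u; decide +kernel
  · obtain ⟨u, hu⟩ := key 31 (by norm_num) h
    revert u; decide +kernel
  · obtain ⟨u, hu⟩ := key 127 (by norm_num) h
    revert u; decide +kernel

theorem sq_three {F : Type*} [Field F] {a b c p q r τ : F} (h2 : (2 : F) ≠ 0) (w00 : a * a + b * c = -1)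
    (hd' : p * (τ - p) - q * r = 1) (hτ2 : τ * τ = 1) (c00 : p * a + q * c = a * p + b * r)
    (c01 : p * b + q * -a = a * q + b * (τ - p)) (c10 : r * a + (τ - p) * c = c * p + -a * r) : ∃ t : F, t * t = 3 := by
  by_cases hb : b = 0
  · by_cases hc : c = 0
    · subst hb hc
      have ha : a ≠ 0 := by
        rintro rfl
        have : (1 : F) = 0 := by linear_combination w00
        exact one_ne_zero this
      have q0 : q = 0 := by
        have : (2 * a) * q = 0 := by linear_combination -c01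
        exact (mul_eq_zero.1 this).resolve_left (mul_ne_zero h2 ha)
      refine ⟨a * (2 * p - τ), ?_⟩
      rw [q0] at hd'
      linear_combination (2 * p - τ) ^ 2 * w00 - hτ2 + 4 * hd'
    · refine ⟨2 * r / c, ?_⟩
      have key : (2 * r) * (2 * r) = 3 * (c * c) := by
        linear_combination 4 * c ^ 2 * hd' - c ^ 2 * hτ2 - (c * (2 * p - τ) + 2 * a * r) * c10 + 4 * c * r * c00 +
          4 * r ^ 2 * w00
      rw [div_mul_div_comm, key, mul_div_assoc, div_self (mul_ne_zero hc hc), mul_one]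
  · refine ⟨2 * q / b, ?_⟩
    have key : (2 * q) * (2 * q) = 3 * (b * b) := by
      linear_combination 4 * b ^ 2 * hd' - b ^ 2 * hτ2 + (b * (2 * p - τ) + 2 * a * q) * c01 - 4 * b * q * c00 +
        4 * q ^ 2 * w00
    rw [div_mul_div_comm, key, mul_div_assoc, div_self (mul_ne_zero hb hb), mul_one]

/-- the centraliser of an involution of `PSL(2,q)` contains an element of order three: `3` is a square -/
theorem three_square {F : Type*} [Field F] [Finite F] {L : Type*} [Group L] (R : GH.L2Aut.Rep F L)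
    {w x : L} (hw : w * w = 1) (hw1 : w ≠ 1) (hx : orderOf x = 3) (hc : x * w = w * x) : ∃ t : F, t * t = 3 := by
  obtain ⟨W, rfl⟩ := R.surj w
  obtain ⟨Y, rfl⟩ := R.surj x
  have h2 := R.two
  -- `W * W = -1`
  have hWW : W * W = -1 := by
    rw [← map_mul, R.ker] at hw
    rcases hw with h | h
    · exfalso
      apply hw1
      rw [R.ker]
      exact Cfsg.Agent.Lib.PSL2Inv.sq_eq_one h2 h
    · exact h
  have hdW := det_eq W
  have hdY := det_eq Y
  have w00 : ent W 0 0 * ent W 0 0 + ent W 0 1 * ent W 1 0 = -1 := by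
    have := congrArg (fun g => ent g 0 0) hWW
    simp only [ent_mul] at this
    exact this
  have w01 : ent W 0 0 * ent W 0 1 + ent W 0 1 * ent W 1 1 = 0 := by
    have := congrArg (fun g => ent g 0 1) hWW
    simp only [ent_mul] at this
    exact this.trans neg_zero
  have w10 : ent W 1 0 * ent W 0 0 + ent W 1 1 * ent W 1 0 = 0 := by
    have := congrArg (fun g => ent g 1 0) hWW
    simp only [ent_mul] at this
    exact this.trans neg_zero
  have w11 : ent W 1 0 * ent W 0 1 + ent W 1 1 * ent W 1 1 = -1 := by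
    have := congrArg (fun g => ent g 1 1) hWW
    simp only [ent_mul] at this
    exact this
  -- trace zero
  have htW : ent W 0 0 + ent W 1 1 = 0 := by
    by_contra htr
    have h01 : ent W 0 1 = 0 := by
      have : ent W 0 1 * (ent W 0 0 + ent W 1 1) = 0 := by linear_combination w01
      exact (mul_eq_zero.1 this).resolve_right htr
    have h10 : ent W 1 0 = 0 := by
      have : ent W 1 0 * (ent W 0 0 + ent W 1 1) = 0 := by linear_combination w10
      exact (mul_eq_zero.1 this).resolve_right htr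
    rw [h01] at w00 w11 hdW
    have h5 : (ent W 0 0 - ent W 1 1) * (ent W 0 0 + ent W 1 1) = 0 := by linear_combination w00 - w11
    have h6 : ent W 0 0 = ent W 1 1 := sub_eq_zero.1 ((mul_eq_zero.1 h5).resolve_right htr)
    rw [← h6] at hdW
    have h7 : (2 : F) = 0 := by linear_combination -hdW + w00
    exact h2 h7
  -- the trace of `Y`
  set τ := ent Y 0 0 + ent Y 1 1 with hτ
  have hY3 : Y * Y * Y = 1 ∨ Y * Y * Y = -1 := by
    rw [← R.ker, map_mul, map_mul, ← pow_three', ← hx, pow_orderOf_eq_one]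
  have hY1 : ¬ (Y = 1 ∨ Y = -1) := by
    rw [← R.ker]
    intro h
    rw [h, orderOf_one] at hx
    norm_num at hx
  have y11 : ent Y 1 1 = τ - ent Y 0 0 := by rw [hτ]; ring
  have hd' : ent Y 0 0 * (τ - ent Y 0 0) - ent Y 0 1 * ent Y 1 0 = 1 := by rw [← y11]; exact hdY
  have hτ2 : τ * τ = 1 := by
    by_contra hτ1
    apply hY1
    have hτ1' : τ * τ - 1 ≠ 0 := fun h => hτ1 (by linear_combination h)
    obtain ⟨ε, h00, h01, h10, h11⟩ : ∃ ε : F, ent (Y * Y * Y) 0 0 = ε ∧ ent (Y * Y * Y) 0 1 = 0 ∧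
        ent (Y * Y * Y) 1 0 = 0 ∧ ent (Y * Y * Y) 1 1 = ε := by
      rcases hY3 with h | h
      · exact ⟨1, by rw [h]; exact ⟨ent_one_00, ent_one_01, ent_one_10, ent_one_11⟩⟩
      · refine ⟨-1, ?_⟩
        rw [h]
        exact ⟨rfl, neg_zero, neg_zero, rfl⟩
    rw [ent_mul, ent_mul, ent_mul, y11] at h00 h01 h10 h11
    have k01 : ent Y 0 1 = 0 := by
      have : (τ * τ - 1) * ent Y 0 1 = 0 := by linear_combination h01 + ent Y 0 1 * hd'
      exact (mul_eq_zero.1 this).resolve_left hτ1'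
    have k10 : ent Y 1 0 = 0 := by
      have : (τ * τ - 1) * ent Y 1 0 = 0 := by linear_combination h10 + ent Y 1 0 * hd'
      exact (mul_eq_zero.1 this).resolve_left hτ1'
    rw [k01, k10] at h00 h11
    rw [k01] at hd'
    have k1 : (ent Y 0 0 - (τ - ent Y 0 0)) * (τ * τ - 1) = 0 := by
      linear_combination h00 - h11 + (ent Y 0 0 - (τ - ent Y 0 0)) * hd'
    have k2 : ent Y 0 0 = τ - ent Y 0 0 := sub_eq_zero.1 ((mul_eq_zero.1 k1).resolve_right hτ1')
    rw [← k2] at hd' y11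
    have k3 : (ent Y 0 0 - 1) * (ent Y 0 0 + 1) = 0 := by linear_combination hd'
    rcases mul_eq_zero.1 k3 with k4 | k4
    · left
      have k5 : ent Y 0 0 = 1 := by linear_combination k4
      exact ext_ent (by rw [k5, ent_one_00]) (by rw [k01, ent_one_01]) (by rw [k10, ent_one_10])
        (by rw [y11, k5, ent_one_11])
    · right
      have k5 : ent Y 0 0 = -1 := by linear_combination k4
      refine ext_ent ?_ ?_ ?_ ?_
      · rw [k5]; rfl
      · rw [k01]; exact neg_zero.symm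
      · rw [k10]; exact neg_zero.symm
      · rw [y11, k5]; rfl
  have hτ0 : τ ≠ 0 := by
    intro h
    rw [h, mul_zero] at hτ2
    exact zero_ne_one hτ2
  -- commutation
  have w11' : ent W 1 1 = - ent W 0 0 := by linear_combination htW
  have hcc : Y * W = W * Y ∨ Y * W = -(W * Y) := by
    rw [← R.π_eq_iff, map_mul, map_mul]
    exact hc
  rcases hcc with hcc | hcc
  · have c00 := congrArg (fun g => ent g 0 0) hcc
    have c01 := congrArg (fun g => ent g 0 1) hcc
    have c10 := congrArg (fun g => ent g 1 0) hcc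
    simp only [ent_mul, w11', y11] at c00 c01 c10
    exact sq_three h2 w00 hd' hτ2 c00 c01 c10
  · exfalso
    have c00 : ent (Y * W) 0 0 = - ent (W * Y) 0 0 := by rw [hcc]; rfl
    have c01 : ent (Y * W) 0 1 = - ent (W * Y) 0 1 := by rw [hcc]; rfl
    have c10 : ent (Y * W) 1 0 = - ent (W * Y) 1 0 := by rw [hcc]; rfl
    have c11 : ent (Y * W) 1 1 = - ent (W * Y) 1 1 := by rw [hcc]; rfl
    rw [ent_mul, ent_mul] at c00 c01 c10 c11
    rw [w11'] at c01 c11
    rw [w11'] at c10
    have hb : ent W 0 1 = 0 := by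
      have : τ * ent W 0 1 = 0 := by linear_combination c01 + ent W 0 1 * hτ
      exact (mul_eq_zero.1 this).resolve_left hτ0
    have hcz : ent W 1 0 = 0 := by
      have : τ * ent W 1 0 = 0 := by linear_combination c10 + ent W 1 0 * hτ
      exact (mul_eq_zero.1 this).resolve_left hτ0
    rw [hb, zero_mul, add_zero] at w00
    have ha : ent W 0 0 ≠ 0 := by
      intro h
      rw [h, zero_mul] at w00
      have : (1 : F) = 0 := by linear_combination w00
      exact one_ne_zero this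
    rw [hb, hcz] at c00 c11
    have hp : ent Y 0 0 = 0 := by
      have : (2 * ent W 0 0) * ent Y 0 0 = 0 := by linear_combination c00
      exact (mul_eq_zero.1 this).resolve_left (mul_ne_zero h2 ha)
    have hs : ent Y 1 1 = 0 := by
      have : (2 * ent W 0 0) * ent Y 1 1 = 0 := by linear_combination -c11
      exact (mul_eq_zero.1 this).resolve_left (mul_ne_zero h2 ha)
    apply hτ0
    rw [hτ, hp, hs, add_zero]

variable {X V : Type*} [Group X] [CommGroup V] {ρ : X →* MulAut V} {T : Sylow 2 X} {Λ : Subgroup V} {x s : X} {μ : V}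
  {a : X}

theorem exists_sylow_of_normal [Finite X] (T : Sylow 2 X) {L : Subgroup X} (hL : L.Normal) :
    ∃ S : Sylow 2 L, ∀ g ∈ S, (g : X) ∈ T := by
  have hS := isSyl2_inf T hL
  have h1 : IsPGroup 2 (((T : Subgroup X) ⊓ L).subgroupOf L) :=
    hS.two.comap_of_injective L.subtype L.subtype_injective
  obtain ⟨S, hS'⟩ := h1.exists_le_sylow
  refine ⟨S, fun g hg => ?_⟩
  have h2 : (S : Subgroup L).map L.subtype = (T : Subgroup X) ⊓ L := by
    apply hS.max
    · exact Subgroup.map_subtype_le _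
    · exact S.isPGroup'.map _
    · intro t ht
      exact ⟨⟨t, ht.2⟩, hS' ht, rfl⟩
  have h3 : (g : X) ∈ (S : Subgroup L).map L.subtype := ⟨g, hg, rfl⟩
  rw [h2] at h3
  exact h3.1

theorem Inv.false_of_psl [Finite X] [Finite V] (hc : OddCyc X) (hV : ∀ v : V, v * v = 1)
    (hρ : Function.Injective ρ) (h : Lam ρ T Λ x s μ) (I : Inv ρ T Λ x a) {L : Subgroup X} [hL : L.Normal]
    {F : Type*} [Field F] [Finite F] (R : GH.L2Aut.Rep F L) (hF : (Nat.card F).Prime) (h7 : 7 ≤ Nat.card F)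
    (hna : a ∉ centralizer (L : Set X)) : False := by
  set ψ : X →* MulAut L := MulAut.conjNormal (H := L) with hψ
  have hψ1 : ψ a ≠ 1 := conjNormal_ne hna
  have hψ2 : ψ a * ψ a = 1 := by rw [← map_mul, I.sq, map_one]
  have h3F : (3 : F) ≠ 0 := FFPsl.three_ne hF h7
  obtain ⟨γ, hγ⟩ := R.mem_PGL.1 (mem_PGL_of_prime R hF (ψ a))
  have hγ0 : γ.1.trace = 0 := trace_of_sq R (by rw [← hγ]; exact hψ1) (by rw [← hγ]; exact hψ2)
  obtain ⟨y, hyL, hy3, hay⟩ := FFPsl.exists_three R h3F hγ0 hγ.symm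
  have hiy : (fx ρ y).index ≤ 16 :=
    (half' ρ (by rw [hy3]; decide) hay).trans (Nat.pow_le_pow_left (I.index_le h) 2)
  have hall : ∀ z : X, orderOf z = 3 → (fx ρ z).index ≤ 16 := fun z hz => by
    rw [← FFPsl.index_eq_of_orderOf ρ hc Nat.prime_three (by norm_num) hy3 hz]; exact hiy
  have h3L : 3 ∣ Nat.card L := by
    rw [← hy3]
    have h1 : orderOf (⟨y, hyL⟩ : L) = orderOf y := Subgroup.orderOf_mk y hyL
    rw [← h1]
    exact orderOf_dvd_natCard _
  have hxL : x ∈ L := CompBasic.mem_of_orderOf hc Nat.prime_three (by norm_num) hL h3L h.ox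
  -- `ψ a` is inner
  obtain ⟨S, hS⟩ := exists_sylow_of_normal T hL
  obtain ⟨w₁, w₂, hw₁, hw₂, hf⟩ := R.exists_four_mem S
  have hfixS : ∀ g ∈ S, ψ a g = g := by
    intro g hg
    apply Subtype.ext
    change (((MulAut.conjNormal a : MulAut L) g : L) : X) = g
    rw [MulAut.conjNormal_apply, mul_inv_eq_iff_eq_mul]
    exact (I.comm g (hS g hg)).symm
  have hcomm : ∀ g ∈ S, ψ a * MulAut.conj g = MulAut.conj g * ψ a := by
    intro g hg
    ext1 l
    rw [MulAut.mul_apply, MulAut.mul_apply, MulAut.conj_apply, MulAut.conj_apply, map_mul, map_mul, map_inv,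
      hfixS g hg]
  obtain ⟨w, hwS, hww, hw1, hwψ⟩ : ∃ w ∈ S, w * w = 1 ∧ w ≠ 1 ∧ ψ a = MulAut.conj w := by
    by_contra hcon
    push Not at hcon
    have hw12 : w₁ * w₂ ∈ S := mul_mem hw₁ hw₂
    have h12 : w₁ * w₂ * (w₁ * w₂) = 1 := hf.right.bb
    have h12' : w₁ * w₂ ≠ 1 := hf.right.b1
    have n1 := hcon w₁ hw₁ hf.aa hf.a1
    have n2 := hcon w₂ hw₂ hf.bb hf.b1
    have n3 := hcon (w₁ * w₂) hw12 h12 h12'
    obtain ⟨δ₁, hδ₁⟩ := R.mem_PGL.1 (mem_PGL_of_prime R hF (MulAut.conj w₁))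
    obtain ⟨δ₂, hδ₂⟩ := R.mem_PGL.1 (mem_PGL_of_prime R hF (MulAut.conj w₂))
    have key : ∀ g ∈ S, g * g = 1 → ψ a ≠ MulAut.conj g → ψ a * MulAut.conj g ≠ 1 ∧
        ψ a * MulAut.conj g * (ψ a * MulAut.conj g) = 1 := by
      intro g hg hgg hne
      have hcg : MulAut.conj g * MulAut.conj g = (1 : MulAut L) := by rw [← map_mul, hgg, map_one]
      refine ⟨fun h1 => hne ?_, ?_⟩
      · calc ψ a = ψ a * MulAut.conj g * MulAut.conj g := by rw [mul_assoc, hcg, mul_one]
          _ = MulAut.conj g := by rw [h1, one_mul]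
      · calc ψ a * MulAut.conj g * (ψ a * MulAut.conj g) = ψ a * (MulAut.conj g * ψ a) * MulAut.conj g := by group
          _ = ψ a * (ψ a * MulAut.conj g) * MulAut.conj g := by rw [hcomm g hg]
          _ = (ψ a * ψ a) * (MulAut.conj g * MulAut.conj g) := by group
          _ = 1 := by rw [hψ2, hcg, mul_one]
    have t1 : δ₁.1.trace = 0 := trace_of_sq R
      (by rw [← hδ₁]; exact fun h1 => hf.a1 (R.conj_injective (h1.trans (map_one _).symm)))
      (by rw [← hδ₁, ← map_mul, hf.aa, map_one])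
    have t2 : δ₂.1.trace = 0 := trace_of_sq R
      (by rw [← hδ₂]; exact fun h1 => hf.b1 (R.conj_injective (h1.trans (map_one _).symm)))
      (by rw [← hδ₂, ← map_mul, hf.bb, map_one])
    obtain ⟨k1, k1'⟩ := key w₁ hw₁ hf.aa n1
    obtain ⟨k2, k2'⟩ := key w₂ hw₂ hf.bb n2
    obtain ⟨k3, k3'⟩ := key (w₁ * w₂) hw12 h12 n3
    have t3 : (γ.1 * δ₁.1).trace = 0 := trace_of_sq R (g := γ * δ₁)
      (by rw [map_mul, ← hγ, ← hδ₁]; exact k1) (by rw [map_mul, ← hγ, ← hδ₁]; exact k1')
    have t4 : (γ.1 * δ₂.1).trace = 0 := trace_of_sq R (g := γ * δ₂)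
      (by rw [map_mul, ← hγ, ← hδ₂]; exact k2) (by rw [map_mul, ← hγ, ← hδ₂]; exact k2')
    have t5 : (δ₁.1 * δ₂.1).trace = 0 := trace_of_sq R (g := δ₁ * δ₂)
      (by rw [map_mul, ← hδ₁, ← hδ₂, ← map_mul]
          exact fun h1 => h12' (R.conj_injective (h1.trans (map_one _).symm)))
      (by rw [map_mul, ← hδ₁, ← hδ₂, ← map_mul, ← map_mul, h12, map_one])
    have t6 : (γ.1 * δ₁.1 * δ₂.1).trace = 0 := trace_of_sq R (g := γ * δ₁ * δ₂)
      (by rw [map_mul, map_mul, ← hγ, ← hδ₁, ← hδ₂, mul_assoc, ← map_mul MulAut.conj]; exact k3)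
      (by rw [map_mul, map_mul, ← hγ, ← hδ₁, ← hδ₂, mul_assoc (ψ a), ← map_mul MulAut.conj]; exact k3')
    exact FFPslMat.no_three hγ0 t1 t2 t3 t4 t5 t6 R.two
  -- `x` commutes with `w`
  have hxw : (⟨x, hxL⟩ : L) * w = w * ⟨x, hxL⟩ := by
    have h1 : ψ a ⟨x, hxL⟩ = ⟨x, hxL⟩ := by
      apply Subtype.ext
      change (((MulAut.conjNormal a : MulAut L) ⟨x, hxL⟩ : L) : X) = x
      rw [MulAut.conjNormal_apply, mul_inv_eq_iff_eq_mul]
      exact I.commx.symm
    rw [hwψ, MulAut.conj_apply] at h1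
    exact (mul_inv_eq_iff_eq_mul.1 h1).symm
  obtain ⟨t, ht⟩ := three_square R hww hw1 (by rw [Subgroup.orderOf_mk]; exact h.ox) hxw
  -- a transvection is a product of two elements of order three
  have h2 := R.two
  let Z : Matrix.SpecialLinearGroup (Fin 2) F := Cfsg.Agent.Lib.SL2Mat.mk 0 (-(1 / 2)) 2 1 (by field_simp; ring)
  let Z' : Matrix.SpecialLinearGroup (Fin 2) F := Cfsg.Agent.Lib.SL2Mat.mk (-1) (-(3 / 2)) 2 2 (by field_simp; ring)
  have hZ : orderOf ((R.π Z : L) : X) = 3 := FFPsl.orderOf_three R h3F (by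
    change (0 : F) + 1 = 1
    ring)
  have hZ' : orderOf ((R.π Z' : L) : X) = 3 := FFPsl.orderOf_three R h3F (by
    change (-1 : F) + 2 = 1
    ring)
  have hu : ((R.π (up 1) : L) : X) = (R.π Z : L) * (R.π Z' : L) := by
    have h1 : R.π (up 1) = R.π Z * R.π Z' := by
      rw [← map_mul, R.π_eq_iff]
      right
      refine ext_ent ?_ ?_ ?_ ?_
      · change (1 : F) = - ent (Z * Z') 0 0
        rw [ent_mul]
        change (1 : F) = - (0 * (-1) + (-(1 / 2)) * 2)
        field_simp; ring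
      · change (1 : F) = - ent (Z * Z') 0 1
        rw [ent_mul]
        change (1 : F) = - (0 * (-(3 / 2)) + (-(1 / 2)) * 2)
        field_simp; ring
      · change (0 : F) = - ent (Z * Z') 1 0
        rw [ent_mul]
        change (0 : F) = - (2 * (-1) + 1 * 2)
        ring
      · change (1 : F) = - ent (Z * Z') 1 1
        rw [ent_mul]
        change (1 : F) = - (2 * (-(3 / 2)) + 1 * 2)
        field_simp; ring
    rw [h1]; rfl
  have hiu : (fx ρ ((R.π (up 1) : L) : X)).index ≤ 2 ^ 8 := by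
    rw [hu]
    calc _ ≤ _ := FFPsl.index_mul_le ρ _ _
      _ ≤ 16 * 16 := Nat.mul_le_mul (hall _ hZ) (hall _ hZ')
      _ = 2 ^ 8 := by norm_num
  have hou : orderOf ((R.π (up 1) : L) : X) = Nat.card F := FFPsl.orderOf_u R hF
  have hune : ((R.π (up 1) : L) : X) ≠ 1 := by
    intro h1
    rw [h1, orderOf_one] at hou
    omega
  obtain ⟨d, hd, hd1, hd2⟩ := prim (ρ := ρ) hV hF (by omega) hou (exists_ne (L := L) hρ hune)
  have hd8 : d ≤ 8 := by
    rw [hd1] at hiu
    exact (Nat.pow_le_pow_iff_right (by norm_num)).1 hiu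
  exact not_square_three (primes_eight hF h7 hd hd8 hd2) t ht

end Cfsg.Agent.OddCyclic.Om5
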