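import Cfsg.Agent.OddCyclic.EmpO4Line
import Cfsg.Agent.OddCyclic.EmpFlat
import Cfsg.Agent.OddCyclic.KZeroCongr

/-!
# (Empty): `V` is not the orthogonal module `O₄⁻(2)` for `L / C_L(V) = S₅`

`EmpO4.false_of_frame` : in the setting `ENS S` there is no `Om5.Frame (LL S) (vv S) φ e`.
-/

set_option autoImplicit false
set_option linter.unusedSectionVars false

namespace Cfsg.Agent.OddCyclic.EmpO4

open Subgroup Cfsg Cfsg.Agent.ZN Cfsg.Agent.ZN.ChoiceBase Cfsg.Agent.ZN.ChoiceSit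
open Cfsg.Agent.MinSimple Cfsg.Agent.MinSimple.EmptyTI Cfsg.Agent.MinSimple.EmptySix
open Cfsg.Agent.OddCyclic.Om5 Cfsg.Agent.OddCyclic.EmpFrame
open Cfsg.Agent.MinSimple.EmptyE.Closed (LL CC)

universe u

/-! ### Relabelling -/

section relabel

variable {G : Type u} [Group G] {M U : Subgroup G} {φ : M →* Equiv.Perm (Fin 5)} {e : Fin 5 → Fin 5 → G}

theorem relabel (h : Frame M U φ e) (π : Equiv.Perm (Fin 5)) :
    Frame M U ((MulAut.conj π⁻¹).toMonoidHom.comp φ) (fun i j => e (π i) (π j)) where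
  norm := h.norm
  surj := (MulAut.conj π⁻¹).surjective.comp h.surj
  ker := fun m hm => h.ker m ((MulAut.conj π⁻¹).injective (hm.trans (map_one _).symm))
  sq := h.sq
  mem := fun i j => h.mem _ _
  self := fun i => h.self _
  ne := fun i j hij => h.ne _ _ (fun h1 => hij (π.injective h1))
  symm := fun i j => h.symm _ _
  mul := fun i j k => h.mul _ _ _
  all := fun u hu => by
    obtain ⟨i, j, k, l, h1⟩ := h.all u hu
    exact ⟨π.symm i, π.symm j, π.symm k, π.symm l, by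
      rw [h1, π.apply_symm_apply, π.apply_symm_apply, π.apply_symm_apply, π.apply_symm_apply]⟩
  conj := fun m i j => by
    have h1 : ∀ i, π (((MulAut.conj π⁻¹).toMonoidHom.comp φ) m i) = φ m (π i) := by
      intro i
      change π ((π⁻¹ * φ m * π⁻¹⁻¹) i) = φ m (π i)
      rw [inv_inv, Equiv.Perm.mul_apply, Equiv.Perm.mul_apply]
      exact π.apply_symm_apply _
    rw [h1, h1]
    exact h.conj m _ _

/-- the involution `(0 1)(2 3)` -/
def dt : Equiv.Perm (Fin 5) := Equiv.swap 0 1 * Equiv.swap 2 3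

theorem dt_card : (Finset.univ.filter fun π : Equiv.Perm (Fin 5) => dt * π = π * dt).card = 8 := by
  decide +kernel

theorem dt_pow : ∀ π : Equiv.Perm (Fin 5), dt * π = π * dt → π ^ 4 = 1 := by decide +kernel

theorem dt_cases : ∀ π : Equiv.Perm (Fin 5), dt * π = π * dt → π 4 = 4 ∧
    ((π 0 = 0 ∧ π 1 = 1) ∨ (π 0 = 1 ∧ π 1 = 0) ∨ (π 0 = 2 ∧ π 1 = 3) ∨ (π 0 = 3 ∧ π 1 = 2)) := by
  decide +kernel

/-- a 2-subgroup of `S₅` is conjugate into the centraliser of `(0 1)(2 3)` -/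
theorem exists_conj_dt {Q : Subgroup (Equiv.Perm (Fin 5))} (hQ : IsPGroup 2 Q) :
    ∃ π : Equiv.Perm (Fin 5), ∀ σ ∈ Q, dt * (π⁻¹ * σ * π) = π⁻¹ * σ * π * dt := by
  have : Fact (Nat.Prime 2) := ⟨Nat.prime_two⟩
  set D : Subgroup (Equiv.Perm (Fin 5)) := centralizer ({dt} : Set (Equiv.Perm (Fin 5))) with hD
  have hm : ∀ π, π ∈ D ↔ dt * π = π * dt := fun π => by
    rw [hD, mem_centralizer_singleton_iff]
    exact ⟨fun h => h.symm, fun h => h.symm⟩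
  have hD2 : IsPGroup 2 D := by
    intro σ
    refine ⟨2, Subtype.ext ?_⟩
    change (σ : Equiv.Perm (Fin 5)) ^ 2 ^ 2 = 1
    exact dt_pow _ ((hm _).1 σ.2)
  have hcard : Nat.card D = 8 := by
    rw [← dt_card, ← Set.ncard_coe_finset, ← SetLike.coe_sort_coe, Nat.card_coe_set_eq]
    congr 1
    ext π
    rw [SetLike.mem_coe, hm, Finset.mem_coe, Finset.mem_filter]
    exact ⟨fun h => ⟨Finset.mem_univ _, h⟩, fun h => h.2⟩
  have hidx : ¬ 2 ∣ D.index := by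
    have h1 := D.card_mul_index
    rw [hcard, Nat.card_eq_fintype_card, Fintype.card_perm, Fintype.card_fin] at h1
    have h2 : Nat.factorial 5 = 120 := rfl
    rw [h2] at h1
    omega
  obtain ⟨P, hP⟩ := hQ.exists_le_sylow
  obtain ⟨g, hg⟩ := MulAction.exists_smul_eq (Equiv.Perm (Fin 5)) P (hD2.toSylow hidx)
  refine ⟨g⁻¹, fun σ hσ => ?_⟩
  rw [inv_inv, ← hm]
  have h1 : g * σ * g⁻¹ ∈ (hD2.toSylow hidx : Subgroup _) := by
    rw [← hg]
    exact ⟨σ, hP hσ, rfl⟩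
  exact h1

end relabel

variable {G : Type u} [Group G] [Finite G] {S : Sylow 2 G} {φ : LL (S : Subgroup G) →* Equiv.Perm (Fin 5)}
  {e : Fin 5 → Fin 5 → G}

/-! ### Nonsingular vectors are good -/

theorem fix_rest : ∀ σ : Equiv.Perm (Fin 5), ((σ 0 = 0 ∧ σ 1 = 1) ∨ (σ 0 = 1 ∧ σ 1 = 0)) →
    (σ 2 = 2 → (σ 3 = 3 ∧ σ 4 = 4) ∨ (σ 3 = 4 ∧ σ 4 = 3)) ∧ (σ 3 = 3 → (σ 2 = 2 ∧ σ 4 = 4) ∨ (σ 2 = 4 ∧ σ 4 = 2)) ∧
    (σ 4 = 4 → (σ 2 = 2 ∧ σ 3 = 3) ∨ (σ 2 = 3 ∧ σ 3 = 2)) := by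
  decide +kernel

theorem rest_cases : ∀ i : Fin 5, i ≠ 0 → i ≠ 1 → i = 2 ∨ i = 3 ∨ i = 4 := by decide

theorem exists_fix {Q : Subgroup (Equiv.Perm (Fin 5))} (hQ : IsPGroup 2 Q)
    (h01 : ∀ σ ∈ Q, (σ 0 = 0 ∧ σ 1 = 1) ∨ (σ 0 = 1 ∧ σ 1 = 0)) : ∃ i : Fin 5, i ≠ 0 ∧ i ≠ 1 ∧ ∀ σ ∈ Q, σ i = i := by
  have : Fact (Nat.Prime 2) := ⟨Nat.prime_two⟩
  have hst : ∀ σ ∈ Q, ∀ i : Fin 5, i ≠ 0 ∧ i ≠ 1 → σ i ≠ 0 ∧ σ i ≠ 1 := by
    intro σ hσ i hi
    rcases h01 σ hσ with ⟨h1, h2⟩ | ⟨h1, h2⟩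
    · exact ⟨fun h => hi.1 (σ.injective (h.trans h1.symm)), fun h => hi.2 (σ.injective (h.trans h2.symm))⟩
    · exact ⟨fun h => hi.2 (σ.injective (h.trans h2.symm)), fun h => hi.1 (σ.injective (h.trans h1.symm))⟩
  let _ : MulAction Q {i : Fin 5 // i ≠ 0 ∧ i ≠ 1} :=
    { smul := fun σ i => ⟨(σ : Equiv.Perm (Fin 5)) i.1, hst σ σ.2 i.1 i.2⟩
      one_smul := fun i => Subtype.ext rfl
      mul_smul := fun σ τ i => Subtype.ext rfl }
  have hcard : Nat.card {i : Fin 5 // i ≠ 0 ∧ i ≠ 1} = 3 := by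
    rw [Nat.card_eq_fintype_card]; decide
  obtain ⟨⟨i, hi⟩, hfix⟩ := hQ.nonempty_fixed_point_of_prime_not_dvd_card {i : Fin 5 // i ≠ 0 ∧ i ≠ 1}
    (by rw [hcard]; decide)
  refine ⟨i, hi.1, hi.2, fun σ hσ => ?_⟩
  exact congrArg Subtype.val (hfix ⟨σ, hσ⟩)

theorem comm_of_conj (F : Frame (LL (S : Subgroup G)) (vv (S : Subgroup G)) φ e) {t : G} (ht : t ∈ LL (S : Subgroup G))
    {i j : Fin 5} (h : (φ ⟨t, ht⟩ i = i ∧ φ ⟨t, ht⟩ j = j) ∨ (φ ⟨t, ht⟩ i = j ∧ φ ⟨t, ht⟩ j = i)) :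
    t * e i j = e i j * t := by
  have h1 := F.conj ⟨t, ht⟩ i j
  apply mul_inv_eq_iff_eq_mul.1
  rcases h with ⟨h2, h3⟩ | ⟨h2, h3⟩
  · rw [h2, h3] at h1; exact h1
  · rw [h2, h3] at h1; rw [F.symm i j]; rw [F.symm i j] at h1; exact h1

theorem conj_of_comm (F : Frame (LL (S : Subgroup G)) (vv (S : Subgroup G)) φ e) {t : G} (ht : t ∈ LL (S : Subgroup G))
    {i j : Fin 5} (hij : i ≠ j) (h : t * e i j = e i j * t) :
    (φ ⟨t, ht⟩ i = i ∧ φ ⟨t, ht⟩ j = j) ∨ (φ ⟨t, ht⟩ i = j ∧ φ ⟨t, ht⟩ j = i) := by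
  have h1 := F.conj ⟨t, ht⟩ i j
  have h2 : (t : G) * e i j * (t : G)⁻¹ = e i j := by rw [h, mul_inv_cancel_right]
  rw [h2] at h1
  rcases F.e_inj hij h1 with ⟨h3, h4⟩ | ⟨h3, h4⟩
  · exact Or.inl ⟨h3.symm, h4.symm⟩
  · exact Or.inr ⟨h4.symm, h3.symm⟩

theorem cl_rest (h : ENS S) (F : Frame (LL (S : Subgroup G)) (vv (S : Subgroup G)) φ e) :
    e 2 3 ∈ cld (S : Subgroup G) (zpowers (e 0 1)) ∧ e 2 4 ∈ cld (S : Subgroup G) (zpowers (e 0 1)) ∧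
      e 3 4 ∈ cld (S : Subgroup G) (zpowers (e 0 1)) := by
  set D := zpowers (e 0 1) with hD
  have hDV : D ≤ vv (S : Subgroup G) := by rw [hD, zpowers_le]; exact F.mem 0 1
  have hD1 : D ≠ ⊥ := by
    rw [hD, Ne, zpowers_eq_bot]
    exact F.ne 0 1 (by decide)
  obtain ⟨T, hT, -⟩ := exists_syl (T := ⊥) (X := LL (S : Subgroup G) ⊓ centralizer (D : Set G)) IsPGroup.of_bot bot_le
  have hcl := h.inf_centralizer_le_cld hDV hD1 hT
  have hTL : T ≤ LL (S : Subgroup G) := hT.1.trans inf_le_left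
  -- the image of `T`
  set Q : Subgroup (Equiv.Perm (Fin 5)) := (T.subgroupOf (LL (S : Subgroup G))).map φ with hQ
  have hQ2 : IsPGroup 2 Q := by
    have h1 : IsPGroup 2 (T.subgroupOf (LL (S : Subgroup G))) :=
      hT.2.1.of_injective (subgroupOfEquivOfLe hTL).toMonoidHom (subgroupOfEquivOfLe hTL).injective
    exact h1.map φ
  have h01 : ∀ σ ∈ Q, (σ 0 = 0 ∧ σ 1 = 1) ∨ (σ 0 = 1 ∧ σ 1 = 0) := by
    rintro _ ⟨⟨t, htL⟩, ht, rfl⟩
    have ht' : t ∈ T := ht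
    exact conj_of_comm F htL (by decide)
      (mem_centralizer_iff.1 (hT.1 ht').2 _ (mem_zpowers (e 0 1))).symm
  obtain ⟨i, hi0, hi1, hi⟩ := exists_fix hQ2 h01
  have hmem : ∀ t (ht : t ∈ T), φ ⟨t, hTL ht⟩ ∈ Q := fun t ht => ⟨⟨t, hTL ht⟩, ht, rfl⟩
  have key : ∀ {k l : Fin 5}, (∀ σ ∈ Q, (σ k = k ∧ σ l = l) ∨ (σ k = l ∧ σ l = k)) →
      e k l ∈ cld (S : Subgroup G) D := by
    intro k l hkl
    apply hcl
    refine mem_inf.2 ⟨F.mem k l, ?_⟩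
    rw [mem_centralizer_iff]
    intro t ht
    exact comm_of_conj F (hTL ht) (hkl _ (hmem t ht))
  -- conjugation by an element of order 3
  obtain ⟨m, hm⟩ := F.surj (Equiv.swap 2 3 * Equiv.swap 3 4)
  have hmc : (m : G) ∈ normalizer (D : Set G) := by
    refine centralizer_le_normalizer _ ?_
    rw [mem_centralizer_iff]
    rintro _ ⟨n, rfl⟩
    have h1 : (m : G) * e 0 1 = e 0 1 * m := comm_of_conj F m.2 (Or.inl (by
      change φ m 0 = 0 ∧ φ m 1 = 1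
      rw [hm]; decide))
    have h2 : Commute (m : G) (e 0 1) := h1
    exact (h2.zpow_right n).eq.symm
  have hmn := normalizer_le_cld (S := S) (hDV.trans (vv_le_zj _)) hmc
  have hconj : ∀ {k l : Fin 5}, e k l ∈ cld (S : Subgroup G) D → e (φ m k) (φ m l) ∈ cld (S : Subgroup G) D := by
    intro k l hkl
    rw [← F.conj m k l]
    exact (mem_normalizer_iff.1 hmn _).1 hkl
  have e23 : φ m 2 = 3 ∧ φ m 3 = 4 ∧ φ m 4 = 2 := by rw [hm]; decide
  obtain ⟨m2, m3, m4⟩ := e23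
  have c23 : e 2 3 ∈ cld (S : Subgroup G) D → e 3 4 ∈ cld (S : Subgroup G) D := fun h1 => by
    have := hconj h1
    rwa [m2, m3] at this
  have c34 : e 3 4 ∈ cld (S : Subgroup G) D → e 2 4 ∈ cld (S : Subgroup G) D := fun h1 => by
    have := hconj h1
    rwa [m3, m4, F.symm] at this
  have c24 : e 2 4 ∈ cld (S : Subgroup G) D → e 2 3 ∈ cld (S : Subgroup G) D := fun h1 => by
    have := hconj h1
    rwa [m2, m4, F.symm] at this
  rcases rest_cases i hi0 hi1 with rfl | rfl | rfl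
  · have h1 : e 3 4 ∈ cld (S : Subgroup G) D := key fun σ hσ => (fix_rest σ (h01 σ hσ)).1 (hi σ hσ)
    exact ⟨c24 (c34 h1), c34 h1, h1⟩
  · have h1 : e 2 4 ∈ cld (S : Subgroup G) D := key fun σ hσ => (fix_rest σ (h01 σ hσ)).2.1 (hi σ hσ)
    exact ⟨c24 h1, h1, c23 (c24 h1)⟩
  · have h1 : e 2 3 ∈ cld (S : Subgroup G) D := key fun σ hσ => (fix_rest σ (h01 σ hσ)).2.2 (hi σ hσ)
    exact ⟨h1, c34 (c23 h1), c23 h1⟩

/-- nonsingular vectors are good -/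
theorem good_e (h : ENS S) (F : Frame (LL (S : Subgroup G)) (vv (S : Subgroup G)) φ e) :
    Good (S : Subgroup G) (zpowers (e 0 1)) := by
  set C := cld (S : Subgroup G) (zpowers (e 0 1)) with hC
  have hDV : zpowers (e 0 1) ≤ vv (S : Subgroup G) := by rw [zpowers_le]; exact F.mem 0 1
  obtain ⟨h23, h24, h34⟩ := cl_rest h F
  have h2 : cld (S : Subgroup G) (zpowers (e 2 3)) ≤ C := by
    rw [hC, ← cld_cld hDV]
    exact cld_mono (by rw [zpowers_le]; exact h23)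
  -- relabel
  set π : Equiv.Perm (Fin 5) := Equiv.swap 0 2 * Equiv.swap 1 3 with hπ
  obtain ⟨k1, k2, k3⟩ := cl_rest h (relabel F π)
  have p : π 0 = 2 ∧ π 1 = 3 ∧ π 2 = 0 ∧ π 3 = 1 ∧ π 4 = 4 := by rw [hπ]; decide
  obtain ⟨p0, p1, p2, p3, p4⟩ := p
  simp only [p0, p1, p2, p3, p4] at k1 k2 k3
  have h01 : e 0 1 ∈ C := h2 k1
  have h04 : e 0 4 ∈ C := h2 k2
  have h02 : e 0 2 ∈ C := by
    rw [← F.mul 0 4 2, F.symm 4 2]; exact mul_mem h04 h24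
  have h03 : e 0 3 ∈ C := by
    rw [← F.mul 0 4 3, F.symm 4 3]; exact mul_mem h04 h34
  have h0 : ∀ i, e 0 i ∈ C := by
    intro i
    have hi : i = 0 ∨ i = 1 ∨ i = 2 ∨ i = 3 ∨ i = 4 := by revert i; decide
    rcases hi with rfl | rfl | rfl | rfl | rfl
    · rw [F.self]; exact one_mem _
    · exact h01
    · exact h02
    · exact h03
    · exact h04
  have hall : ∀ i j, e i j ∈ C := by
    intro i j
    rw [← F.mul i 0 j, F.symm i 0]
    exact mul_mem (h0 i) (h0 j)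
  refine le_antisymm (cld_le _ _) ?_
  intro u hu
  obtain ⟨i, j, k, l, rfl⟩ := F.all u hu
  exact mul_mem (hall i j) (hall k l)

/-! ### The configuration -/

theorem le_LL_of_two (h : ENS S) {R : Subgroup G} (hR : IsPGroup 2 R) (hR1 : R ≠ ⊥)
    (hM : LL (S : Subgroup G) ≤ normalizer (R : Set G)) : normalizer (R : Set G) ≤ LL (S : Subgroup G) :=
  h.le_LL_of ⟨R, hR, hR1, rfl⟩ (h.normalizer_le_LL.trans hM)

/-- the configuration for a labelling adapted to `S` -/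
theorem exists_sit (h : ENS S) (F : Frame (LL (S : Subgroup G)) (vv (S : Subgroup G)) φ e) :
    ∃ (φ' : LL (S : Subgroup G) →* Equiv.Perm (Fin 5)) (e' : Fin 5 → Fin 5 → G),
      Sit0 (S : Subgroup G) (LL (S : Subgroup G)) (vv (S : Subgroup G)) φ' e' := by
  set Q : Subgroup (Equiv.Perm (Fin 5)) := ((S : Subgroup G).subgroupOf (LL (S : Subgroup G))).map φ with hQ
  have hQ2 : IsPGroup 2 Q := by
    have h1 : IsPGroup 2 ((S : Subgroup G).subgroupOf (LL (S : Subgroup G))) :=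
      S.isPGroup'.of_injective (subgroupOfEquivOfLe h.le_LL).toMonoidHom (subgroupOfEquivOfLe h.le_LL).injective
    exact h1.map φ
  obtain ⟨π, hπ⟩ := exists_conj_dt hQ2
  have F' := relabel F π
  set φ' := (MulAut.conj π⁻¹).toMonoidHom.comp φ with hφ'
  set e' : Fin 5 → Fin 5 → G := fun i j => e (π i) (π j) with he'
  have hS : ∀ s (hs : s ∈ (S : Subgroup G)), dt * φ' ⟨s, h.le_LL hs⟩ = φ' ⟨s, h.le_LL hs⟩ * dt := by
    intro s hs
    have h1 : φ' ⟨s, h.le_LL hs⟩ = π⁻¹ * φ ⟨s, h.le_LL hs⟩ * π := by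
      change π⁻¹ * φ ⟨s, h.le_LL hs⟩ * π⁻¹⁻¹ = _
      rw [inv_inv]
    rw [h1]
    exact hπ _ ⟨⟨s, h.le_LL hs⟩, hs, rfl⟩
  have hfix : ∀ s ∈ (S : Subgroup G), s * (e' 0 1 * e' 2 3) = e' 0 1 * e' 2 3 * s := by
    intro s hs
    have h1 := F'.conj_sg ⟨s, h.le_LL hs⟩ 4
    rw [(dt_cases _ (hS s hs)).1] at h1
    exact mul_inv_eq_iff_eq_mul.1 h1
  have hz : e' 0 1 * e' 2 3 ∈ zc (S : Subgroup G) :=
    h.mem_zc_of_comm (mul_mem (F'.mem 0 1) (F'.mem 2 3)) hfix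
  refine ⟨φ', e', { F' with
    syl := ⟨le_top, S.isPGroup', fun Y _ hY hSY => S.3 hY hSY⟩
    le := h.le_LL
    fix := hfix
    blk := ?_
    cent := ?_
    norm_syl := h.normalizer_self_le
    nonlocal := ?_
    char2 := h.hyp.char2
    cyc := h.hyp.cyc }⟩
  · intro s hs
    have h1 := F'.conj ⟨s, h.le_LL hs⟩ 0 1
    change s * e' 0 1 * s⁻¹ = _ at h1
    rcases (dt_cases _ (hS s hs)).2 with ⟨h2, h3⟩ | ⟨h2, h3⟩ | ⟨h2, h3⟩ | ⟨h2, h3⟩
    · left; rw [h1, h2, h3]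
    · left; rw [h1, h2, h3, F'.symm]
    · right; rw [h1, h2, h3]
    · right; rw [h1, h2, h3, F'.symm]
  · have h1 := (good_e h F').normalizer_le (by rw [zpowers_le]; exact F'.mem 0 1)
    refine le_trans ?_ h1
    refine le_trans ?_ (centralizer_le_normalizer _)
    intro x hx
    rw [mem_centralizer_iff]
    rintro _ ⟨n, rfl⟩
    have h2 : Commute x (e' 0 1) := mem_centralizer_singleton_iff.1 hx
    exact (h2.zpow_right n).eq.symm
  · intro R hR hM hC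
    by_contra hR1
    have h1 := le_LL_of_two h hR hR1 hM
    apply h.not_CC_le
    refine le_trans ?_ (hC.trans h1)
    exact centralizer_le (Set.singleton_subset_iff.2 hz)

/-- **(Empty): `V` is not the orthogonal module for `S₅`** -/
theorem false_of_frame (h : ENS S) (ks : KZeroCongr.KS G)
    (F : Frame (LL (S : Subgroup G)) (vv (S : Subgroup G)) φ e) : False := by
  obtain ⟨φ', e', s⟩ := exists_sit h F
  obtain ⟨s₀, hs₀S, hs₀⟩ := s.exists_s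
  refine s.false_of hs₀S hs₀ ?_ ?_
  · intro V _ ρ J hJ hab
    exact FFSec.kzero_of_image ks s.CC_ne_top ρ.rangeRestrict ρ.rangeRestrict_surjective J hJ hab
  · intro hU V _ _ π ρ T Λ x s' μ D _ hc L hL K _ _ _ h8 e₀ hN
    obtain ⟨B₀, Y₀, l⟩ := D.lam.exists_line hc D.md.sq (Subgroup.subtype_injective _) h8 e₀ hN
    obtain ⟨B, Y, l'⟩ := exists_gl hU D l
    obtain ⟨R, hR1, hR2, hMR, hBR⟩ := l'.exists_normal
    exact l'.notM (hBR.trans (le_LL_of_two h hR2 hR1 hMR))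

end Cfsg.Agent.OddCyclic.EmpO4
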