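import Cfsg.Agent.OddCyclic.BcGraph
import Cfsg.Agent.OddCyclic.EmpO4
import Cfsg.Agent.OddCyclic.CycConj

/-!
# (Empty), [Bc], case C: `V` is not the orthogonal module

`Cf` : the situation of case C (`T₁ < S`); `false_of`: there is no `Bc.FrA (normalizer V) V φ e`, i.e.
`V` is not `O₄⁻(2)` for `N_G(V)/C_G(V) = A₅` or `S₅`.
-/

set_option autoImplicit false
set_option linter.unusedSectionVars false

namespace Cfsg.Agent.OddCyclic.BcFive

open Subgroup Cfsg Cfsg.Agent.ZN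
open Cfsg.Agent.OddCyclic.Om5 (sg)
open Cfsg.Agent.OddCyclic.T1Defs (OddCyc)
open Cfsg.Agent.OddCyclic.BcGraph (conj_mul' conj_comm_iff)

universe u

variable {G : Type u} [Group G] [Finite G]

structure Cf (S : Sylow 2 G) (V M L₁ N R J : Subgroup G) (p r x s : G) : Prop where
  cyc : OddCyc G
  /-- (1.1) -/
  uniq : ∀ X : Subgroup G, o2 X ≠ ⊥ → L₁ ≤ X → J ≤ X → X ≤ M
  le : L₁ ≤ M
  N_norm : M ≤ normalizer (N : Set G)
  /-- `R = C_Y(L₁)` -/
  R_norm : M ≤ normalizer (R : Set G)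
  card : Nat.card N = 8
  sq : ∀ a ∈ N, a * a = 1
  /-- `L₁` induces `GL(N)` -/
  two : ∀ a ∈ N, ∀ b ∈ N, ∀ a' ∈ N, ∀ b' ∈ N, a ≠ 1 → b ≠ 1 → a ≠ b → a' ≠ 1 → b' ≠ 1 → a' ≠ b' →
    ∃ g ∈ L₁, g * a * g⁻¹ = a' ∧ g * b * g⁻¹ = b'
  comm : ∀ a ∈ N, ∀ y ∈ R, a * y = y * a
  centR : ∀ g ∈ L₁, ∀ y ∈ R, g * y = y * g
  hp : p ∈ N
  hp1 : p ≠ 1
  hr : r ∈ R
  hr1 : r ≠ 1
  Jr : ∀ j ∈ J, j * r = r * j
  pV : p ∈ V
  rV : r ∈ V
  SV : (S : Subgroup G) ≤ normalizer (V : Set G)
  xL : x ∈ L₁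
  xV : x ∈ normalizer (V : Set G)
  x3 : x ^ 3 = 1
  xp : x * p ≠ p * x
  xpp : p * (x * p * x⁻¹) * (x * x * p * (x * x)⁻¹) = 1
  sV : s ∈ normalizer (V : Set G)
  sr : s * r * s⁻¹ = p ∨ s * r * s⁻¹ = p * r
  zS : ∀ t ∈ (S : Subgroup G), t * (r * (s * r * s⁻¹)) = r * (s * r * s⁻¹) * t

/-! ### Permutations -/

theorem exists_perm : ∀ i j k l : Fin 5, i ≠ j → i ≠ k → i ≠ l → j ≠ k → j ≠ l → k ≠ l →
    ∃ π : Equiv.Perm (Fin 5), π 0 = i ∧ π 1 = j ∧ π 3 = k ∧ π 4 = l := by decide +kernel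

theorem card_stab : ∀ i j : Fin 5, i ≠ j → (Finset.univ.filter fun σ : Equiv.Perm (Fin 5) =>
    (σ i = i ∧ σ j = j) ∨ (σ i = j ∧ σ j = i)).card = 12 := by decide +kernel

/-- the stabiliser of `{i, j}` -/
def stab (i j : Fin 5) : Subgroup (Equiv.Perm (Fin 5)) where
  carrier := {σ | (σ i = i ∧ σ j = j) ∨ (σ i = j ∧ σ j = i)}
  one_mem' := Or.inl ⟨rfl, rfl⟩
  mul_mem' := by
    rintro σ τ (⟨h1, h2⟩ | ⟨h1, h2⟩) (⟨h3, h4⟩ | ⟨h3, h4⟩)
    · exact Or.inl ⟨by rw [Equiv.Perm.mul_apply, h3, h1], by rw [Equiv.Perm.mul_apply, h4, h2]⟩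
    · exact Or.inr ⟨by rw [Equiv.Perm.mul_apply, h3, h2], by rw [Equiv.Perm.mul_apply, h4, h1]⟩
    · exact Or.inr ⟨by rw [Equiv.Perm.mul_apply, h3, h1], by rw [Equiv.Perm.mul_apply, h4, h2]⟩
    · exact Or.inl ⟨by rw [Equiv.Perm.mul_apply, h3, h2], by rw [Equiv.Perm.mul_apply, h4, h1]⟩
  inv_mem' := by
    rintro σ (⟨h1, h2⟩ | ⟨h1, h2⟩)
    · exact Or.inl ⟨by rw [Equiv.Perm.inv_eq_iff_eq, h1], by rw [Equiv.Perm.inv_eq_iff_eq, h2]⟩
    · exact Or.inr ⟨by rw [Equiv.Perm.inv_eq_iff_eq, h2], by rw [Equiv.Perm.inv_eq_iff_eq, h1]⟩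

theorem mem_stab {i j : Fin 5} {σ : Equiv.Perm (Fin 5)} :
    σ ∈ stab i j ↔ (σ i = i ∧ σ j = j) ∨ (σ i = j ∧ σ j = i) := Iff.rfl

theorem natCard_stab {i j : Fin 5} (hij : i ≠ j) : Nat.card (stab i j) = 12 := by
  rw [← card_stab i j hij, ← Set.ncard_coe_finset, ← SetLike.coe_sort_coe, Nat.card_coe_set_eq]
  congr 1
  ext π
  rw [SetLike.mem_coe, mem_stab, Finset.mem_coe, Finset.mem_filter]
  exact ⟨fun h => ⟨Finset.mem_univ _, h⟩, fun h => h.2⟩

/-- no Sylow 2-subgroup of `S₅` stabilises a pair -/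
theorem not_stab {Q : Subgroup (Equiv.Perm (Fin 5))} (hQ : ¬ 2 ∣ Q.index) {i j : Fin 5} (hij : i ≠ j)
    (h : Q ≤ stab i j) : False := by
  have h1 := Subgroup.card_dvd_of_le h
  rw [natCard_stab hij] at h1
  have h2 := Q.card_mul_index
  rw [Nat.card_eq_fintype_card (α := Equiv.Perm (Fin 5)), Fintype.card_perm, Fintype.card_fin] at h2
  have h3 : Nat.factorial 5 = 120 := rfl
  rw [h3] at h2
  have h4 : Nat.Coprime 8 Q.index := by
    have h5 : Nat.Coprime (2 ^ 3) Q.index := Nat.Coprime.pow_left 3 ((Nat.prime_two.coprime_iff_not_dvd).2 hQ)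
    exact h5
  have h5 : 8 ∣ Nat.card Q := h4.dvd_of_dvd_mul_right (by rw [h2]; norm_num)
  have h6 : 8 ∣ 12 := h5.trans h1
  norm_num at h6

theorem card_stab_alt : ∀ i j : Fin 5, i ≠ j → (Finset.univ.filter fun σ : Equiv.Perm (Fin 5) =>
    ((σ i = i ∧ σ j = j) ∨ (σ i = j ∧ σ j = i)) ∧ Equiv.Perm.sign σ = 1).card = 6 := by decide +kernel

/-- no Sylow 2-subgroup of `A₅` or `S₅` stabilises a pair -/
theorem not_stab' {R : Subgroup (Equiv.Perm (Fin 5))} (hR : alternatingGroup (Fin 5) ≤ R)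
    {Q : Subgroup (Equiv.Perm (Fin 5))} (hQR : Q ≤ R) (hQ : ¬ 2 ∣ Q.relIndex R) {i j : Fin 5} (hij : i ≠ j)
    (h : Q ≤ stab i j) : False := by
  have hcA : Nat.card (alternatingGroup (Fin 5)) = 60 := by
    have h1 := two_mul_nat_card_alternatingGroup (α := Fin 5)
    rw [Nat.card_eq_fintype_card (α := Equiv.Perm (Fin 5)), Fintype.card_perm, Fintype.card_fin] at h1
    have h3 : Nat.factorial 5 = 120 := rfl
    rw [h3] at h1
    omega
  have h1 := Subgroup.card_dvd_of_le hR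
  rw [hcA] at h1
  have h2 := R.card_mul_index
  rw [Nat.card_eq_fintype_card (α := Equiv.Perm (Fin 5)), Fintype.card_perm, Fintype.card_fin] at h2
  have h3 : Nat.factorial 5 = 120 := rfl
  rw [h3] at h2
  obtain ⟨m, hm⟩ := h1
  have hm2 : m = 1 ∨ m = 2 := by
    have h4 : m * R.index = 2 := by
      rw [hm] at h2
      have : 60 * (m * R.index) = 60 * 2 := by rw [← mul_assoc, h2]
      omega
    have h5 : m ∣ 2 := ⟨_, h4.symm⟩
    exact (Nat.dvd_prime Nat.prime_two).1 h5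
  rcases hm2 with rfl | rfl
  · -- `R = A₅`
    have hRA : alternatingGroup (Fin 5) = R := Subgroup.eq_of_le_of_card_ge hR (by rw [hm, hcA])
    have h4 : Nat.card Q * Q.relIndex R = 60 := by
      rw [Subgroup.relIndex, ← Nat.card_congr (subgroupOfEquivOfLe hQR).toEquiv, Subgroup.card_mul_index, hm]
    have h5 : Nat.Coprime 4 (Q.relIndex R) := by
      have h6 : Nat.Coprime (2 ^ 2) (Q.relIndex R) :=
        Nat.Coprime.pow_left 2 ((Nat.prime_two.coprime_iff_not_dvd).2 hQ)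
      exact h6
    have h6 : 4 ∣ Nat.card Q := h5.dvd_of_dvd_mul_right (by rw [h4]; norm_num)
    have h7 : Nat.card (stab i j ⊓ alternatingGroup (Fin 5) : Subgroup _) = 6 := by
      rw [← card_stab_alt i j hij, ← Set.ncard_coe_finset, ← SetLike.coe_sort_coe, Nat.card_coe_set_eq]
      congr 1
      ext π
      rw [SetLike.mem_coe, mem_inf, mem_stab, Finset.mem_coe, Finset.mem_filter, Equiv.Perm.mem_alternatingGroup]
      exact ⟨fun h => ⟨Finset.mem_univ _, h⟩, fun h => h.2⟩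
    have h8 := Subgroup.card_dvd_of_le (show Q ≤ stab i j ⊓ alternatingGroup (Fin 5) from
      le_inf h (by rw [hRA]; exact hQR))
    rw [h7] at h8
    have h9 : 4 ∣ 6 := h6.trans h8
    norm_num at h9
  · have hRt : R = ⊤ := by
      rw [hm] at h2
      rw [← Subgroup.index_eq_one]
      omega
    rw [hRt, Subgroup.relIndex_top_right] at hQ
    exact not_stab hQ hij h

/-- a permutation of order 3 which permutes `{k, l}` fixes `k` and `l` -/
theorem fix_of_three {σ : Equiv.Perm (Fin 5)} (h3 : σ ^ 3 = 1) {k l : Fin 5}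
    (h : (σ k = k ∧ σ l = l) ∨ (σ k = l ∧ σ l = k)) : σ k = k ∧ σ l = l := by
  rcases h with h | ⟨h1, h2⟩
  · exact h
  · have h4 : (σ ^ 3) k = l := by
      rw [pow_succ, pow_two, Equiv.Perm.mul_apply, Equiv.Perm.mul_apply, h1, h2, h1]
    rw [h3] at h4
    have h5 : k = l := h4
    subst h5
    exact ⟨h1, h2⟩

section frame

variable {L V : Subgroup G} {φ : L →* Equiv.Perm (Fin 5)} {e : Fin 5 → Fin 5 → G}

theorem e_comm_iff (F : Bc.FrA L V φ e) (t : L) {i j : Fin 5} (hij : i ≠ j) :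
    (t : G) * e i j = e i j * t ↔ φ t ∈ stab i j := by
  rw [← mul_inv_eq_iff_eq_mul, F.conj t i j, mem_stab]
  constructor
  · intro h
    rcases F.e_inj hij h.symm with ⟨h1, h2⟩ | ⟨h1, h2⟩
    · exact Or.inl ⟨h1.symm, h2.symm⟩
    · exact Or.inr ⟨h2.symm, h1.symm⟩
  · rintro (⟨h1, h2⟩ | ⟨h1, h2⟩)
    · rw [h1, h2]
    · rw [h1, h2, F.symm]

/-- the vectors `p` with `p p^x p^{x²} = 1` -/
theorem pos_p (F : Bc.FrA L V φ e) {x : L} {p : G} (hp : p ∈ V) (hp1 : p ≠ 1)
    (hpp : p * ((x : G) * p * (x : G)⁻¹) * ((x : G) * x * p * ((x : G) * x)⁻¹) = 1) :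
    ∃ i j, i ≠ j ∧ p = e i j ∧ φ x i ≠ i ∧ φ x j ≠ j := by
  have hxx : ((x : G) * x) = ((x * x : L) : G) := rfl
  rcases F.cls hp with h1 | ⟨i, j, hij, rfl⟩ | ⟨i, rfl⟩
  · exact absurd h1 hp1
  · refine ⟨i, j, hij, rfl, ?_⟩
    rw [hxx, F.conj, F.conj, map_mul, Equiv.Perm.mul_apply, Equiv.Perm.mul_apply] at hpp
    -- it is enough to exclude a fixed letter
    have key : ∀ i j : Fin 5, i ≠ j → e i j * e (φ x i) (φ x j) * e (φ x (φ x i)) (φ x (φ x j)) = 1 → φ x i ≠ i := by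
      intro i j hij hpp hi
      rw [hi, hi] at hpp
      have h2 : e i j * e i (φ x j) = e j (φ x j) := by rw [F.symm i j, F.mul]
      rw [h2] at hpp
      have h4 : e j (φ x j) = e i (φ x (φ x j)) := by
        rw [← mul_inv_eq_one, F.inv_eq (F.mem _ _)]
        exact hpp
      by_cases hj : φ x j = j
      · rw [hj, hj, F.self] at h4
        exact F.ne i j hij h4.symm
      · rcases F.e_inj (Ne.symm hj) h4 with ⟨h5, -⟩ | ⟨-, h5⟩
        · exact hij h5.symm
        · apply hij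
          apply (φ x).injective
          rw [hi, h5]
    refine ⟨key i j hij hpp, key j i (Ne.symm hij) ?_⟩
    rw [F.symm j i, F.symm (φ x j), F.symm (φ x (φ x j))]
    exact hpp
  · exfalso
    rw [hxx, F.conj_sg, F.conj_sg, map_mul, Equiv.Perm.mul_apply, F.sg_mul] at hpp
    refine F.e_ne_sg i (φ x i) (φ x (φ x i)) ?_
    rw [← mul_inv_eq_one, F.inv_eq (F.sg_mem _)]
    exact hpp

end frame

/-- 3-elements -/
theorem three_of {N : Subgroup G} {p x : G} (hc : OddCyc G) (hp : p ∈ N) (x3 : x ^ 3 = 1) (xp : x * p ≠ p * x)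
    (xN : x ∈ normalizer (N : Set G)) : ¬ 3 ∣ Nat.card (centralizer (N : Set G)) := by
  intro h3
  have : Fact (Nat.Prime 3) := ⟨Nat.prime_three⟩
  obtain ⟨y, hy⟩ := exists_prime_orderOf_dvd_card' (G := centralizer (N : Set G)) 3 h3
  have hy' : orderOf (y : G) = 3 := by rw [Subgroup.orderOf_coe]; exact hy
  have hx1 : x ≠ 1 := by rintro rfl; exact xp (by rw [one_mul, mul_one])
  have hx : orderOf x = 3 := orderOf_eq_prime x3 hx1
  obtain ⟨g, hg, h1⟩ := CycConj.zpowers_conj hc 3 (normalizer (N : Set G)) x y xN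
    (centralizer_le_normalizer _ y.2) hx hy' (by decide)
  have h2 : x ∈ zpowers (g * y * g⁻¹) := by rw [h1]; exact mem_zpowers x
  have h4 : g * y * g⁻¹ ∈ centralizer (N : Set G) := by
    rw [mem_centralizer_iff]
    intro n hn
    have h5 : g⁻¹ * n * g ∈ N := by
      have h6 := (mem_normalizer_iff.1 (inv_mem hg) n).1 hn
      rwa [inv_inv] at h6
    have h6 := mem_centralizer_iff.1 y.2 _ h5
    have h7 := (conj_comm_iff g).2 h6
    have h8 : g * (g⁻¹ * n * g) * g⁻¹ = n := by group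
    rwa [h8] at h7
  have h5 : zpowers (g * y * g⁻¹) ≤ centralizer (N : Set G) := by rw [zpowers_le]; exact h4
  exact xp ((mem_centralizer_iff.1 (h5 h2) p hp).symm)


theorem two_of_sq {A : Subgroup G} (hA : ∀ a ∈ A, a * a = 1) : IsPGroup 2 A := by
  rintro ⟨a, ha⟩
  exact ⟨1, Subtype.ext (by
    change a ^ 2 ^ 1 = 1
    rw [pow_one, pow_two]
    exact hA a ha)⟩

theorem sq_zpowers {r : G} (hr : r * r = 1) : ∀ a ∈ zpowers r, a * a = 1 := by
  rintro _ ⟨n, rfl⟩
  change r ^ n * r ^ n = 1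
  rw [← zpow_add, ← two_mul, zpow_mul]
  norm_cast
  rw [pow_two, hr, one_zpow]

namespace Cf

variable {S : Sylow 2 G} {V M L₁ N R J : Subgroup G} {p r x s : G}

theorem max_aux (h : Cf S V M L₁ N R J p r x s) {A : Subgroup G} (hA1 : A ≠ ⊥) (hA : IsPGroup 2 A)
    (hC : centralizer {r} ≤ normalizer (A : Set G)) : normalizer (A : Set G) ≤ M := by
  refine h.uniq _ ?_ ?_ ?_
  · intro h1
    apply hA1
    have h2 : A ≤ o2 (normalizer (A : Set G)) := Cfsg.Agent.ZN.Block.le_o2 hA le_normalizer le_rfl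
    rw [h1] at h2
    exact le_bot_iff.1 h2
  · intro g hg
    apply hC
    rw [mem_centralizer_singleton_iff]
    exact h.centR g hg r h.hr
  · intro j hj
    apply hC
    rw [mem_centralizer_singleton_iff]
    exact h.Jr j hj

theorem cent_le (h : Cf S V M L₁ N R J p r x s) (hrr : r * r = 1) : centralizer {r} ≤ M := by
  have h0 : centralizer {r} ≤ normalizer (zpowers r : Set G) := by
    intro g hg
    refine centralizer_le_normalizer _ ?_
    rw [mem_centralizer_iff]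
    rintro _ ⟨n, rfl⟩
    have h3 : Commute g r := mem_centralizer_singleton_iff.1 hg
    exact (h3.zpow_right n).eq.symm
  refine h0.trans (h.max_aux ?_ (two_of_sq (sq_zpowers hrr)) h0)
  rw [Ne, zpowers_eq_bot]
  exact h.hr1

/-- `M = C_G(r)`, if `r` and `p` are swapped -/
theorem le_cent (h : Cf S V M L₁ N R J p r x s) (hrr : r * r = 1) {t : G} (tr : t * r * t⁻¹ = p)
    (tp : t * p * t⁻¹ = r) : M ≤ centralizer {r} := by
  have hCM := h.cent_le hrr
  have hxN : x ∈ normalizer (N : Set G) := h.N_norm (h.le h.xL)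
  have h3 := three_of h.cyc h.hp h.x3 h.xp hxN
  have hcj : ∀ y : G, t * (t⁻¹ * y * t) * t⁻¹ = y := fun y => by group
  have hcj' : ∀ y : G, t⁻¹ * (t * y * t⁻¹) * t = y := fun y => by group
  -- `C_G(p) ≤ M^t`
  have hCp : ∀ g, g * p = p * g → t⁻¹ * g * t ∈ M := by
    intro g hg
    apply hCM
    rw [mem_centralizer_singleton_iff]
    apply (conj_comm_iff t).1
    rw [hcj, tr]
    exact hg
  -- the intersection of `R` and `N^t`
  have hD : ∀ d ∈ R, t⁻¹ * d * t ∈ N → d = 1 ∨ d = r := by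
    intro d hd hdN
    by_contra hcon
    rw [not_or] at hcon
    -- `N^t ≤ R`
    have hle : ∀ y ∈ N, t * y * t⁻¹ ∈ R := by
      intro y hy
      by_cases hy1 : y = 1
      · rw [hy1, mul_one, mul_inv_cancel]; exact one_mem _
      by_cases hyp : y = p
      · rw [hyp, tp]; exact h.hr
      obtain ⟨g, hg, g1, g2⟩ := h.two p h.hp _ hdN p h.hp y hy h.hp1
        (fun h1 => hcon.1 (by
          have h2 := hcj d
          rw [h1, mul_one, mul_inv_cancel] at h2
          exact h2.symm))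
        (fun h1 => hcon.2 (by
          have h2 := hcj d
          rw [← h1, tp] at h2
          exact h2.symm)) h.hp1 hy1 (Ne.symm hyp)
      have h4 : t * g * t⁻¹ * r = r * (t * g * t⁻¹) := by
        have h5 := (conj_comm_iff t).2 (mul_inv_eq_iff_eq_mul.1 g1)
        rwa [tp] at h5
      have h5 : t * g * t⁻¹ ∈ M := hCM (mem_centralizer_singleton_iff.2 h4)
      have h6 := (mem_normalizer_iff.1 (h.R_norm h5) d).1 hd
      have h7 : t * g * t⁻¹ * d * (t * g * t⁻¹)⁻¹ = t * (g * (t⁻¹ * d * t) * g⁻¹) * t⁻¹ := by group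
      rwa [h7, g2] at h6
    -- `x^t` centralises `N`
    have h4 : ∀ n ∈ N, t⁻¹ * x * t * n = n * (t⁻¹ * x * t) := by
      intro n hn
      apply (conj_comm_iff t).1
      rw [hcj]
      exact h.centR x h.xL _ (hle n hn)
    apply h3
    have h5 : t⁻¹ * x * t ∈ centralizer (N : Set G) := by
      rw [mem_centralizer_iff]
      intro n hn
      exact (h4 n hn).symm
    have h6 : orderOf (⟨_, h5⟩ : centralizer (N : Set G)) = 3 := by
      apply orderOf_eq_prime
      · apply Subtype.ext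
        change (t⁻¹ * x * t) ^ 3 = 1
        have h7 : (t⁻¹ * x * t) ^ 3 = t⁻¹ * x ^ 3 * t := by
          rw [pow_succ, pow_two, pow_succ, pow_two]; group
        rw [h7, h.x3, mul_one, inv_mul_cancel]
      · intro h7
        have h8 : t⁻¹ * x * t = 1 := congrArg Subtype.val h7
        have h9 := hcj x
        rw [h8, mul_one, mul_inv_cancel] at h9
        exact h.xp (by rw [← h9, one_mul, mul_one])
    rw [← h6]
    exact orderOf_dvd_natCard _
  -- `C_M(p) ≤ C_G(r)`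
  have hMp : ∀ m ∈ M, m * p = p * m → m * r = r * m := by
    intro m hm hmp
    have h4 : m * r * m⁻¹ ∈ R := (mem_normalizer_iff.1 (h.R_norm hm) r).1 h.hr
    have h5 : t⁻¹ * (m * r * m⁻¹) * t ∈ N := by
      have h6 := (mem_normalizer_iff.1 (h.N_norm (hCp m hmp)) p).1 h.hp
      have h7 : t⁻¹ * m * t * p * (t⁻¹ * m * t)⁻¹ = t⁻¹ * (m * (t * p * t⁻¹) * m⁻¹) * t := by group
      rwa [h7, tp] at h6
    rcases hD _ h4 h5 with h6 | h6
    · exact absurd (conj_eq_one_iff.1 h6) h.hr1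
    · exact mul_inv_eq_iff_eq_mul.1 h6
  intro m hm
  rw [mem_centralizer_singleton_iff]
  -- `m = l m'` with `l ∈ L₁`, `m' ∈ C_M(p)`
  obtain ⟨b, hb, hb1, hbp⟩ := BcGraph.exists_third h.card p
  have hq : m⁻¹ * p * m ∈ N := by
    have h4 := (mem_normalizer_iff.1 (h.N_norm (inv_mem hm)) p).1 h.hp
    rwa [inv_inv] at h4
  have hq1 : m⁻¹ * p * m ≠ 1 := by
    intro h4
    apply h.hp1
    have h5 : p = m * (m⁻¹ * p * m) * m⁻¹ := by group
    rw [h5, h4, mul_one, mul_inv_cancel]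
  obtain ⟨b', hb', hb1', hbq⟩ := BcGraph.exists_third h.card (m⁻¹ * p * m)
  obtain ⟨g, hg, g1, -⟩ := h.two p h.hp b hb _ hq b' hb' h.hp1 hb1 (Ne.symm hbp) hq1 hb1' (Ne.symm hbq)
  have h4 : (m * g) * p = p * (m * g) := by
    have h5 : g * p = m⁻¹ * p * m * g := mul_inv_eq_iff_eq_mul.1 g1
    calc m * g * p = m * (g * p) := by group
      _ = m * (m⁻¹ * p * m * g) := by rw [h5]
      _ = p * (m * g) := by group
  have h5 := hMp _ (mul_mem hm (h.le hg)) h4
  have h6 : g * r = r * g := h.centR g hg r h.hr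
  have h7 : m * r * g = r * m * g := by
    calc m * r * g = m * (r * g) := by group
      _ = m * g * r := by rw [← h6]; group
      _ = r * m * g := by rw [h5]; group
  exact mul_right_cancel h7

/-- **case C: `V` is not the orthogonal module** -/
theorem false_of (h : Cf S V M L₁ N R J p r x s) {φ : (normalizer (V : Set G) : Subgroup G) →* Equiv.Perm (Fin 5)}
    {e : Fin 5 → Fin 5 → G} (F : Bc.FrA (normalizer (V : Set G)) V φ e) : False := by
  have hrr : r * r = 1 := F.sq r h.rV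
  let x' : (normalizer (V : Set G) : Subgroup G) := ⟨x, h.xV⟩
  have hx3 : φ x' ^ 3 = 1 := by
    rw [← map_pow]
    have h1 : x' ^ 3 = 1 := Subtype.ext h.x3
    rw [h1, map_one]
  obtain ⟨i, j, hij, hpe, hi, hj⟩ := pos_p F (x := x') h.pV h.hp1 h.xpp
  rcases h.sr with hsr | hsr
  swap
  · -- `z = p` is centralised by `S`
    have hz : r * (s * r * s⁻¹) = p := by
      rw [hsr, ← F.comm h.rV h.pV, ← mul_assoc, hrr, one_mul]
    have hS : ∀ t (ht : t ∈ (S : Subgroup G)), φ ⟨t, h.SV ht⟩ ∈ stab i j := by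
      intro t ht
      rw [← e_comm_iff F ⟨t, h.SV ht⟩ hij, ← hpe]
      have h1 := h.zS t ht
      rwa [hz] at h1
    refine not_stab' F.alt (Q := ((S : Subgroup G).subgroupOf (normalizer (V : Set G))).map φ)
      (φ.range_eq_map ▸ Subgroup.map_mono le_top) ?_ hij ?_
    · intro hdvd
      have h1 : ((S : Subgroup G).subgroupOf (normalizer (V : Set G))).index ∣ (S : Subgroup G).index := by
        change (S : Subgroup G).relIndex _ ∣ _
        exact Subgroup.relIndex_dvd_index_of_le h.SV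
      have h2 : (((S : Subgroup G).subgroupOf (normalizer (V : Set G))).map φ).relIndex φ.range ∣
          ((S : Subgroup G).subgroupOf (normalizer (V : Set G))).index := by
        have h3 := Subgroup.index_map_dvd ((S : Subgroup G).subgroupOf (normalizer (V : Set G)))
          φ.rangeRestrict_surjective
        have h4 : (((S : Subgroup G).subgroupOf (normalizer (V : Set G))).map φ).subgroupOf φ.range =
            ((S : Subgroup G).subgroupOf (normalizer (V : Set G))).map φ.rangeRestrict := by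
          ext ⟨y, hy⟩
          rw [Subgroup.mem_subgroupOf]
          constructor
          · rintro ⟨t, ht, h5⟩
            exact ⟨t, ht, Subtype.ext h5⟩
          · rintro ⟨t, ht, h5⟩
            exact ⟨t, ht, congrArg Subtype.val h5⟩
        rw [Subgroup.relIndex, h4]
        exact h3
      exact S.not_dvd_index (hdvd.trans (h2.trans h1))
    · rintro _ ⟨⟨t, htV⟩, ht, rfl⟩
      exact hS t ht
  · -- `r = e k l`
    obtain ⟨k, l, hkl, hre⟩ : ∃ k l, k ≠ l ∧ r = e k l := by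
      obtain ⟨s', hs'⟩ : ∃ s' : (normalizer (V : Set G) : Subgroup G), (s' : G) = s := ⟨⟨s, h.sV⟩, rfl⟩
      have h1 := F.conj s'⁻¹ i j
      have h2 : ((s'⁻¹ : (normalizer (V : Set G) : Subgroup G)) : G) * e i j *
          ((s'⁻¹ : (normalizer (V : Set G) : Subgroup G)) : G)⁻¹ = r := by
        change (s' : G)⁻¹ * e i j * (s' : G)⁻¹⁻¹ = r
        rw [hs', ← hpe, ← hsr]
        group
      rw [h2] at h1
      exact ⟨_, _, fun h3 => hij ((φ _).injective h3), h1⟩
    have hxr : x * r = r * x := h.centR x h.xL r h.hr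
    have hfix := fix_of_three hx3 (k := k) (l := l) (mem_stab.1 ((e_comm_iff F x' hkl).1 (by
      rw [← hre]; exact hxr)))
    have hik : i ≠ k := fun h1 => hi (by rw [h1]; exact hfix.1)
    have hil : i ≠ l := fun h1 => hi (by rw [h1]; exact hfix.2)
    have hjk : j ≠ k := fun h1 => hj (by rw [h1]; exact hfix.1)
    have hjl : j ≠ l := fun h1 => hj (by rw [h1]; exact hfix.2)
    obtain ⟨π, p0, p1, p3, p4⟩ := exists_perm i j k l hij hik hil hjk hjl hkl
    have F' := F.relabel π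
    set e' : Fin 5 → Fin 5 → G := fun i j => e (π i) (π j) with he'
    have e01 : e' 0 1 = p := by rw [he', hpe]; change e (π 0) (π 1) = _; rw [p0, p1]
    have e34 : e' 3 4 = r := by rw [he', hre]; change e (π 3) (π 4) = _; rw [p3, p4]
    -- the swap
    obtain ⟨t, ht⟩ := F'.exists_of_sign (Equiv.swap 0 3 * Equiv.swap 1 4) (by decide)
    have hπ : (Equiv.swap (0 : Fin 5) 3 * Equiv.swap (1 : Fin 5) 4) 3 = 0 ∧
      (Equiv.swap (0 : Fin 5) 3 * Equiv.swap (1 : Fin 5) 4) 4 = 1 ∧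
      (Equiv.swap (0 : Fin 5) 3 * Equiv.swap (1 : Fin 5) 4) 0 = 3 ∧
      (Equiv.swap (0 : Fin 5) 3 * Equiv.swap (1 : Fin 5) 4) 1 = 4 := by decide
    have tr : (t : G) * r * (t : G)⁻¹ = p := by
      have h1 := F'.conj t 3 4
      rw [ht, hπ.1, hπ.2.1, e34, e01] at h1
      exact h1
    have tp : (t : G) * p * (t : G)⁻¹ = r := by
      have h1 := F'.conj t 0 1
      rw [ht, hπ.2.2.1, hπ.2.2.2, e34, e01] at h1
      exact h1
    have hM := h.le_cent hrr tr tp
    have hxN : x ∈ normalizer (N : Set G) := h.N_norm (h.le h.xL)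
    refine BcGraph.false_of (N := N) F' h.card h.sq ?_ ?_ ?_ ?_ (three_of h.cyc h.hp h.x3 h.xp hxN) ?_
    · rw [e01]; exact h.hp
    · rw [e34]
      intro n hn
      exact h.comm n hn r h.hr
    · rw [e34]
      exact (h.cent_le hrr).trans h.N_norm
    · rw [e34]
      intro a ha b hb a' ha' b' hb' ha1 hb1 hab ha1' hb1' hab'
      obtain ⟨g, hg, g1, g2⟩ := h.two a ha b hb a' ha' b' hb' ha1 hb1 hab ha1' hb1' hab'
      exact ⟨g, h.centR g hg r h.hr, g1, g2⟩
    · rw [e34]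
      intro A hA1 hA hC
      exact (h.max_aux hA1 (two_of_sq hA) hC).trans hM

end Cf

end Cfsg.Agent.OddCyclic.BcFive
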