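import Cfsg.Agent.OddCyclic.RedFive

/-!
# S0342, (C2), 2.2: the type `S₅`, the permutation of the five vectors
-/

set_option autoImplicit false

namespace Cfsg.Agent.OddCyclic.RedFive

open Subgroup Equiv Equiv.Perm
open Cfsg.Agent.OddCyclic.T1Module Cfsg.Agent.OddCyclic.FFBasic Cfsg.Agent.OddCyclic.FFRed
open Cfsg.Agent.OddCyclic.RedFFDefs Cfsg.Agent.OddCyclic.RedFam
open Cfsg.Agent.OddCyclic.T1Defs (OddCyc)

universe u

variable {H : Type u} [Group H] {V : Type u} [CommGroup V] {ρ : H →* MulAut V} {K : Subgroup H}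
  {e : K ≃* Perm (Fin 5)} {s : Fin 5 → V}

/-- `[V, K]` -/
def uu (s : Fin 5 → V) : Subgroup V := closure (Set.range s)

theorem s_mem (s : Fin 5 → V) (i : Fin 5) : s i ∈ uu s := subset_closure ⟨i, rfl⟩

theorem Vec.inv (h : Vec ρ e s) (v : V) : v⁻¹ = v := inv_eq_of_mul_eq_one_left (h.sq v)

theorem Vec.univ (h : Vec ρ e s) : ∏ i, s i = 1 := by
  rw [Fin.prod_univ_five]
  exact h.prod

/-- the product of three is the product of the other two -/
theorem Vec.three (h : Vec ρ e s) {i j k : Fin 5} (hij : i ≠ j) (hik : i ≠ k) (hjk : j ≠ k) :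
    ∃ l m, l ≠ m ∧ l ∉ ({i, j, k} : Finset (Fin 5)) ∧ m ∉ ({i, j, k} : Finset (Fin 5)) ∧
      s i * s j * s k = s l * s m := by
  classical
  have h1 : ({i, j, k} : Finset (Fin 5)).card = 3 := by
    rw [Finset.card_eq_three]
    exact ⟨i, j, k, hij, hik, hjk, rfl⟩
  have h2 : ({i, j, k} : Finset (Fin 5))ᶜ.card = 2 := by
    rw [Finset.card_compl, h1, Fintype.card_fin]
  obtain ⟨l, m, hlm, hF⟩ := Finset.card_eq_two.1 h2
  have h3 := Finset.prod_mul_prod_compl ({i, j, k} : Finset (Fin 5)) s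
  rw [h.univ, hF, Finset.prod_pair hlm] at h3
  have h4 : ∏ x ∈ ({i, j, k} : Finset (Fin 5)), s x = s i * s j * s k := by
    rw [Finset.prod_insert (by simp [hij, hik]), Finset.prod_pair hjk, mul_assoc]
  rw [h4, mul_eq_one_iff_eq_inv, h.inv] at h3
  have hl : l ∈ ({i, j, k} : Finset (Fin 5))ᶜ := by rw [hF]; simp
  have hm : m ∈ ({i, j, k} : Finset (Fin 5))ᶜ := by rw [hF]; simp
  exact ⟨l, m, hlm, Finset.mem_compl.1 hl, Finset.mem_compl.1 hm, h3⟩

theorem Vec.mul_s (h : Vec ρ e s) {u : V} (hu : u = 1 ∨ (∃ i, u = s i) ∨ ∃ i j, i ≠ j ∧ u = s i * s j) (k : Fin 5) :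
    u * s k = 1 ∨ (∃ i, u * s k = s i) ∨ ∃ i j, i ≠ j ∧ u * s k = s i * s j := by
  rcases hu with rfl | ⟨i, rfl⟩ | ⟨i, j, hij, rfl⟩
  · right; left; exact ⟨k, one_mul _⟩
  · by_cases hik : i = k
    · left; rw [hik, h.sq]
    · right; right; exact ⟨i, k, hik, rfl⟩
  · by_cases hik : i = k
    · right; left
      refine ⟨j, ?_⟩
      rw [hik, mul_comm (s k) (s j), mul_assoc, h.sq, mul_one]
    by_cases hjk : j = k
    · right; left
      refine ⟨i, ?_⟩
      rw [hjk, mul_assoc, h.sq, mul_one]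
    right; right
    obtain ⟨l, m, hlm, -, -, h1⟩ := h.three hij hik hjk
    exact ⟨l, m, hlm, h1⟩

theorem Vec.mem_uu (h : Vec ρ e s) {u : V} (hu : u ∈ uu s) :
    u = 1 ∨ (∃ i, u = s i) ∨ ∃ i j, i ≠ j ∧ u = s i * s j := by
  have key : ∀ x y : V, (x = 1 ∨ (∃ i, x = s i) ∨ ∃ i j, i ≠ j ∧ x = s i * s j) →
      (y = 1 ∨ (∃ i, y = s i) ∨ ∃ i j, i ≠ j ∧ y = s i * s j) →
      (x * y = 1 ∨ (∃ i, x * y = s i) ∨ ∃ i j, i ≠ j ∧ x * y = s i * s j) := by
    rintro x y hx (rfl | ⟨i, rfl⟩ | ⟨i, j, hij, rfl⟩)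
    · rw [mul_one]; exact hx
    · exact h.mul_s hx i
    · rw [← mul_assoc]
      exact h.mul_s (h.mul_s hx i) j
  refine closure_induction (p := fun x _ => x = 1 ∨ (∃ i, x = s i) ∨ ∃ i j, i ≠ j ∧ x = s i * s j)
    ?_ (Or.inl rfl) (fun x y _ _ hx hy => key x y hx hy) (fun x _ hx => by rw [h.inv]; exact hx) hu
  rintro _ ⟨i, rfl⟩
  right; left; exact ⟨i, rfl⟩

/-- `s i` is the product of the four others -/
theorem Vec.four (h : Vec ρ e s) (i : Fin 5) : ∃ j k l m, j ≠ k ∧ l ≠ m ∧ s i = s j * s k * (s l * s m) := by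
  obtain ⟨j, hj⟩ : ∃ j : Fin 5, i ≠ j := (exists_ne i).imp fun j hj => hj.symm
  obtain ⟨k, hk⟩ : ∃ k : Fin 5, k ∉ ({i, j} : Finset (Fin 5)) := by
    by_contra hcon
    push Not at hcon
    have h8 := Finset.card_le_card (fun x (_ : x ∈ Finset.univ) => hcon x)
    have h9 : ({i, j} : Finset (Fin 5)).card ≤ 2 := Finset.card_le_two
    simp at h8
    omega
  simp only [Finset.mem_insert, Finset.mem_singleton, not_or] at hk
  obtain ⟨l, m, hlm, -, -, h1⟩ := h.three hj (Ne.symm hk.1) (Ne.symm hk.2)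
  refine ⟨j, k, l, m, Ne.symm hk.2, hlm, ?_⟩
  rw [← h1]
  calc s i = s i * ((s j * s j) * (s k * s k)) := by rw [h.sq, h.sq, mul_one, mul_one]
    _ = s j * s k * (s i * s j * s k) := by simp only [mul_comm, mul_left_comm, mul_assoc]

theorem Vec.ne_pair (h : Vec ρ e s) {i j k : Fin 5} : j ≠ k → s i ≠ s j * s k := h.ne i j k

theorem Vec.pair_ne_one (h : Vec ρ e s) {i j : Fin 5} (hij : i ≠ j) : s i * s j ≠ 1 := by
  rw [ne_eq, mul_eq_one_iff_eq_inv, h.inv]
  exact h.inj.ne hij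

/-- `K' ≅ A₅` -/
def L0 (e : K ≃* Perm (Fin 5)) : Subgroup H := ((alternatingGroup (Fin 5)).comap e.toMonoidHom).map K.subtype

theorem mem_L0 {σ : Perm (Fin 5)} (hσ : σ ∈ alternatingGroup (Fin 5)) : (e.symm σ : H) ∈ L0 e :=
  ⟨e.symm σ, by
    change e (e.symm σ) ∈ alternatingGroup (Fin 5)
    rw [e.apply_symm_apply]; exact hσ, rfl⟩

theorem of_mem_L0 {x : H} (hx : x ∈ L0 e) : ∃ σ ∈ alternatingGroup (Fin 5), x = (e.symm σ : H) := by
  obtain ⟨k, hk, rfl⟩ := hx
  exact ⟨e k, hk, by rw [e.symm_apply_apply]; rfl⟩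

theorem L0_le : L0 e ≤ K := by
  rintro _ ⟨k, _, rfl⟩
  exact k.2

theorem tr_mul_mem {a b c d : Fin 5} (hab : a ≠ b) (hcd : c ≠ d) : tr e a b * tr e c d ∈ L0 e := by
  have h1 : tr e a b * tr e c d = (e.symm (swap a b * swap c d) : H) := by
    rw [map_mul]; rfl
  rw [h1]
  exact mem_L0 (by rw [mem_alternatingGroup, map_mul, sign_swap hab, sign_swap hcd]; rfl)

theorem Vec.act_symm (h : Vec ρ e s) (σ : Perm (Fin 5)) (i : Fin 5) : ρ (e.symm σ : H) (s i) = s (σ i) := by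
  rw [h.act, e.apply_symm_apply]

theorem Vec.act_tr (h : Vec ρ e s) (a b i : Fin 5) : ρ (tr e a b) (s i) = s (swap a b i) := h.act_symm _ i

/-- `[V, (a b c)]` -/
theorem Vec.cm_three (h : Vec ρ e s) {a b c : Fin 5} (hab : a ≠ b) (hbc : b ≠ c) (v : V) :
    cm ρ (tr e a b * tr e b c) v = 1 ∨ cm ρ (tr e a b * tr e b c) v = s a * s b ∨
      cm ρ (tr e a b * tr e b c) v = s b * s c ∨ cm ρ (tr e a b * tr e b c) v = s a * s c := by
  rw [cm_apply, rho_mul]
  by_cases hac : a = c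
  · subst hac
    have h1 : tr e b a = tr e a b := by rw [tr, tr, swap_comm]
    have h2 : tr e a b * tr e a b = 1 := by
      have : e.symm (swap a b) * e.symm (swap a b) = 1 := by
        rw [← map_mul, swap_mul_self, map_one]
      exact congrArg Subtype.val this
    left
    rw [h1, ← rho_mul, h2, map_one]
    simp
  rcases h.tv b c hbc v with h1 | h1 <;> rcases h.tv a b hab v with h2 | h2 <;> rw [h1]
  · left; rw [h2, mul_inv_cancel]
  · right; left; rw [h2, mul_inv_cancel_right]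
  · rw [map_mul, map_mul, h.act_tr, h.act_tr, swap_apply_right, swap_apply_of_ne_of_ne (Ne.symm hac) (Ne.symm hbc), h2]
    right; right; right; rw [mul_inv_cancel_right]
  · rw [map_mul, map_mul, h.act_tr, h.act_tr, swap_apply_right, swap_apply_of_ne_of_ne (Ne.symm hac) (Ne.symm hbc), h2]
    right; right; left
    calc s a * s c * (s a * s b * v) * v⁻¹ = (s a * s a) * (s b * s c) * (v * v⁻¹) := by
          simp only [mul_comm, mul_left_comm, mul_assoc]
      _ = s b * s c := by rw [h.sq, one_mul, mul_inv_cancel, mul_one]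

theorem order_tr {a b c : Fin 5} (hab : a ≠ b) (hbc : b ≠ c) (hac : a ≠ c) :
    orderOf (tr e a b * tr e b c) = 3 := by
  have h1 : tr e a b * tr e b c = (e.symm (swap a b * swap b c) : H) := by
    rw [map_mul]; rfl
  have h2 : (swap a b * swap b c).IsThreeCycle := by
    rw [swap_comm a b]
    exact isThreeCycle_swap_mul_swap_same (Ne.symm hab) hbc hac
  rw [h1, Subgroup.orderOf_coe, MulEquiv.orderOf_eq, h2.orderOf]

/-- the pairs are permuted by `H` -/
theorem Vec.pair (h : Vec ρ e s) (hn : (L0 e).Normal) (g : H) {a b : Fin 5} (hab : a ≠ b) :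
    ∃ i j, i ≠ j ∧ ρ g (s a * s b) = s i * s j := by
  obtain ⟨c, hc⟩ : ∃ c : Fin 5, c ∉ ({a, b} : Finset (Fin 5)) := by
    by_contra hcon
    push Not at hcon
    have h8 := Finset.card_le_card (fun x (_ : x ∈ Finset.univ) => hcon x)
    have h9 : ({a, b} : Finset (Fin 5)).card ≤ 2 := Finset.card_le_two
    simp at h8
    omega
  simp only [Finset.mem_insert, Finset.mem_singleton, not_or] at hc
  set y := tr e a b * tr e b c with hy
  have hy3 : orderOf y = 3 := order_tr hab (Ne.symm hc.2) (Ne.symm hc.1)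
  have hyL : y ∈ L0 e := tr_mul_mem hab (Ne.symm hc.2)
  have h1 : g * y * g⁻¹ ∈ L0 e := hn.conj_mem y hyL g
  obtain ⟨σ, hσ, hσ'⟩ := of_mem_L0 h1
  have h2 : orderOf σ = 3 := by
    have h3 : orderOf (g * y * g⁻¹) = 3 := by
      have := orderOf_injective (MulAut.conj g).toMonoidHom (MulAut.conj g).injective y
      rw [hy3] at this
      exact this
    rw [hσ', Subgroup.orderOf_coe, MulEquiv.orderOf_eq] at h3
    exact h3
  obtain ⟨a', b', c', h3, h4, h5, h6⟩ := RedPerm.exists_three h2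
  have h7 : g * y * g⁻¹ = tr e a' b' * tr e b' c' := by
    rw [hσ', h6, map_mul]; rfl
  have h8 : ρ g (s a * s b) = cm ρ (g * y * g⁻¹) (ρ g (s a)) := by
    rw [cm_apply, rho_mul, rho_mul, rho_inv_cancel, hy, rho_mul, h.act_tr, h.act_tr,
      swap_apply_of_ne_of_ne hab (Ne.symm hc.1), swap_apply_left, h.inv, map_mul, mul_comm]
  have h9 : ρ g (s a * s b) ≠ 1 := by
    intro h0
    exact h.pair_ne_one hab ((map_eq_one_iff (ρ g) (MulEquiv.injective _)).1 h0)
  rw [h8] at h9 ⊢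
  rw [h7] at h9 ⊢
  rcases h.cm_three h3 h4 (ρ g (s a)) with h10 | h10 | h10 | h10
  · exact absurd h10 h9
  · exact ⟨a', b', h3, h10⟩
  · exact ⟨b', c', h4, h10⟩
  · exact ⟨a', c', h5, h10⟩

/-- the vectors `s i` are permuted by `H` -/
theorem Vec.single (h : Vec ρ e s) (hn : (L0 e).Normal) (g : H) (i : Fin 5) : ∃ j, ρ g (s i) = s j := by
  obtain ⟨a, b, c, d, hab, hcd, hi⟩ := h.four i
  obtain ⟨a', b', -, h1⟩ := h.pair hn g hab
  obtain ⟨c', d', -, h2⟩ := h.pair hn g hcd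
  have h3 : ρ g (s i) ∈ uu s := by
    rw [hi, map_mul, h1, h2]
    exact mul_mem (mul_mem (s_mem s _) (s_mem s _)) (mul_mem (s_mem s _) (s_mem s _))
  rcases h.mem_uu h3 with h4 | h4 | ⟨j, k, hjk, h4⟩
  · exact absurd ((map_eq_one_iff (ρ g) (MulEquiv.injective _)).1 h4) (h.ne_one i)
  · exact h4
  · exfalso
    obtain ⟨j', k', h5, h6⟩ := h.pair hn g⁻¹ hjk
    rw [← h4, rho_inv_cancel] at h6
    exact h.ne i j' k' h5 h6

theorem Vec.exists_phi (h : Vec ρ e s) (hn : (L0 e).Normal) :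
    ∃ φ : H →* Perm (Fin 5), (∀ g i, ρ g (s i) = s (φ g i)) ∧ ∀ k : K, φ k = e k := by
  choose f hf using fun g i => h.single hn g i
  let F : H →* Function.End (Fin 5) :=
    { toFun := f
      map_one' := by
        funext i
        apply h.inj
        rw [← hf, map_one]; rfl
      map_mul' := fun a b => by
        funext i
        apply h.inj
        rw [← hf, rho_mul, hf b, hf a]; rfl }
  refine ⟨F.toHomPerm, fun g i => hf g i, fun k => ?_⟩
  ext i
  congr 1
  apply h.inj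
  rw [← h.act]
  exact (hf k i).symm

/-! ### the complement -/

theorem Vec.fix_all (_h : Vec ρ e s) {v : V} (h0 : ρ (tr e 0 1) v = v) (h1 : ρ (tr e 1 2) v = v)
    (h2 : ρ (tr e 2 3) v = v) (h3 : ρ (tr e 3 4) v = v) : v ∈ CS ρ K := by
  have key : ∀ σ : Perm (Fin 5), ρ (e.symm σ : H) v = v := by
    intro σ
    have hσ : σ ∈ closure ({swap 0 1, swap 1 2, swap 2 3, swap 3 4} : Set (Perm (Fin 5))) := by
      rw [RedPerm.closure_eq_top]; trivial
    refine closure_induction (p := fun σ _ => ρ (e.symm σ : H) v = v) ?_ ?_ ?_ ?_ hσ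
    · rintro _ (rfl | rfl | rfl | rfl)
      · exact h0
      · exact h1
      · exact h2
      · exact h3
    · rw [map_one, OneMemClass.coe_one, map_one]; rfl
    · intro x y _ _ hx hy
      have : ((e.symm (x * y) : K) : H) = (e.symm x : H) * (e.symm y : H) := by rw [map_mul]; rfl
      rw [this, rho_mul, hy, hx]
    · intro x _ hx
      have : ((e.symm x⁻¹ : K) : H) = (e.symm x : H)⁻¹ := by rw [map_inv]; rfl
      rw [this]
      exact fx_inv ρ hx
  rw [mem_CS]
  intro k hk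
  have := key (e ⟨k, hk⟩)
  rwa [e.symm_apply_apply] at this

theorem Vec.split (h : Vec ρ e s) (v : V) : ∃ u ∈ uu s, v * u ∈ CS ρ K := by
  have key : ∀ (a b : Fin 5), a ≠ b → ∀ (u : V), ρ (tr e a b) u = s a * s b * u → ∀ v,
      ρ (tr e a b) v = v ∨ ρ (tr e a b) (v * u) = v * u := by
    intro a b hab u hu v
    rcases h.tv a b hab v with h1 | h1
    · exact Or.inl h1
    · right
      rw [map_mul, h1, hu]
      calc s a * s b * v * (s a * s b * u) = (s a * s a) * (s b * s b) * (v * u) := by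
            simp only [mul_comm, mul_left_comm, mul_assoc]
        _ = v * u := by rw [h.sq, h.sq, one_mul, one_mul]
  have hs : ∀ a b c : Fin 5, ρ (tr e a b) (s c) = s (swap a b c) := h.act_tr
  -- step 1
  obtain ⟨u1, hu1, h1⟩ : ∃ u ∈ uu s, ρ (tr e 0 1) (v * u) = v * u := by
    rcases key 0 1 (by decide) (s 0) (by
      rw [hs, show swap (0 : Fin 5) 1 0 = 1 by decide, mul_comm (s 0) (s 1), mul_assoc, h.sq, mul_one]) v with h1 | h1
    · exact ⟨1, one_mem _, by rw [mul_one]; exact h1⟩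
    · exact ⟨s 0, s_mem s 0, h1⟩
  -- step 2
  obtain ⟨u2, hu2, h2, h2'⟩ : ∃ u ∈ uu s, ρ (tr e 0 1) (v * u) = v * u ∧ ρ (tr e 1 2) (v * u) = v * u := by
    rcases key 1 2 (by decide) (s 0 * s 1) (by
      rw [map_mul, hs, hs, show swap (1 : Fin 5) 2 0 = 0 by decide, show swap (1 : Fin 5) 2 1 = 2 by decide]
      calc s 0 * s 2 = (s 1 * s 1) * (s 0 * s 2) := by rw [h.sq, one_mul]
        _ = s 1 * s 2 * (s 0 * s 1) := by simp only [mul_comm, mul_left_comm, mul_assoc]) (v * u1) with h2 | h2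
    · exact ⟨u1, hu1, h1, h2⟩
    · refine ⟨u1 * (s 0 * s 1), mul_mem hu1 (mul_mem (s_mem s 0) (s_mem s 1)), ?_, by rw [← mul_assoc]; exact h2⟩
      rw [← mul_assoc, map_mul, h1, map_mul, hs, hs, show swap (0 : Fin 5) 1 0 = 1 by decide,
        show swap (0 : Fin 5) 1 1 = 0 by decide, mul_comm (s 1) (s 0)]
  -- step 3
  obtain ⟨u3, hu3, h3, h3', h3''⟩ : ∃ u ∈ uu s, ρ (tr e 0 1) (v * u) = v * u ∧ ρ (tr e 1 2) (v * u) = v * u ∧
      ρ (tr e 2 3) (v * u) = v * u := by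
    rcases key 2 3 (by decide) (s 3 * s 4) (by
      rw [map_mul, hs, hs, show swap (2 : Fin 5) 3 3 = 2 by decide, show swap (2 : Fin 5) 3 4 = 4 by decide]
      calc s 2 * s 4 = (s 3 * s 3) * (s 2 * s 4) := by rw [h.sq, one_mul]
        _ = s 2 * s 3 * (s 3 * s 4) := by simp only [mul_comm, mul_left_comm, mul_assoc]) (v * u2) with h3 | h3
    · exact ⟨u2, hu2, h2, h2', h3⟩
    · refine ⟨u2 * (s 3 * s 4), mul_mem hu2 (mul_mem (s_mem s 3) (s_mem s 4)), ?_, ?_, by rw [← mul_assoc]; exact h3⟩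
      · rw [← mul_assoc, map_mul, h2, map_mul, hs, hs, show swap (0 : Fin 5) 1 3 = 3 by decide,
          show swap (0 : Fin 5) 1 4 = 4 by decide]
      · rw [← mul_assoc, map_mul, h2', map_mul, hs, hs, show swap (1 : Fin 5) 2 3 = 3 by decide,
          show swap (1 : Fin 5) 2 4 = 4 by decide]
  -- step 4
  rcases key 3 4 (by decide) (s 4) (by
    rw [hs, show swap (3 : Fin 5) 4 4 = 3 by decide, mul_assoc, h.sq, mul_one]) (v * u3) with h4 | h4
  · exact ⟨u3, hu3, h.fix_all h3 h3' h3'' h4⟩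
  · refine ⟨u3 * s 4, mul_mem hu3 (s_mem s 4), h.fix_all ?_ ?_ ?_ (by rw [← mul_assoc]; exact h4)⟩
    · rw [← mul_assoc, map_mul, h3, hs, show swap (0 : Fin 5) 1 4 = 4 by decide]
    · rw [← mul_assoc, map_mul, h3', hs, show swap (1 : Fin 5) 2 4 = 4 by decide]
    · rw [← mul_assoc, map_mul, h3'', hs, show swap (2 : Fin 5) 3 4 = 4 by decide]

theorem Vec.disj (h : Vec ρ e s) {u : V} (hu : u ∈ uu s) (hc : u ∈ CS ρ K) : u = 1 := by
  have h1 : ∀ σ : Perm (Fin 5), ρ (e.symm σ : H) u = u := fun σ => (mem_CS _ _ _).1 hc _ (e.symm σ).2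
  rcases h.mem_uu hu with h2 | ⟨i, rfl⟩ | ⟨i, j, hij, rfl⟩
  · exact h2
  · exfalso
    obtain ⟨j, hj⟩ : ∃ j : Fin 5, i ≠ j := (exists_ne i).imp fun j hj => hj.symm
    have h3 := h1 (swap i j)
    rw [h.act_symm, swap_apply_left] at h3
    exact hj (h.inj h3).symm
  · exfalso
    obtain ⟨k, hk⟩ : ∃ k : Fin 5, k ∉ ({i, j} : Finset (Fin 5)) := by
      by_contra hcon
      push Not at hcon
      have h8 := Finset.card_le_card (fun x (_ : x ∈ Finset.univ) => hcon x)
      have h9 : ({i, j} : Finset (Fin 5)).card ≤ 2 := Finset.card_le_two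
      simp at h8
      omega
    simp only [Finset.mem_insert, Finset.mem_singleton, not_or] at hk
    have h3 := h1 (swap j k)
    rw [map_mul, h.act_symm, h.act_symm, swap_apply_left, swap_apply_of_ne_of_ne hij (Ne.symm hk.1)] at h3
    exact hk.2 (h.inj (mul_left_cancel h3))

/-- `C_V(K) = C_V(K')` -/
theorem Vec.CS_L0 (h : Vec ρ e s) {v : V} (hv : v ∈ CS ρ (L0 e)) : v ∈ CS ρ K := by
  have key : ∀ a b c d : Fin 5, a ≠ b → c ≠ d → a ≠ c → a ≠ d → b ≠ c → b ≠ d → ρ (tr e a b) v = v := by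
    intro a b c d hab hcd hac had hbc hbd
    have h1 := (mem_CS _ _ _).1 hv _ (tr_mul_mem (e := e) hab hcd)
    rw [rho_mul] at h1
    rcases h.tv a b hab v with h2 | h2
    · exact h2
    · exfalso
      rcases h.tv c d hcd v with h3 | h3
      · rw [h3, h2] at h1
        exact h.pair_ne_one hab (mul_eq_right.1 h1)
      · rw [h3, map_mul, map_mul, h.act_tr, h.act_tr, swap_apply_of_ne_of_ne (Ne.symm hac) (Ne.symm hbc),
          swap_apply_of_ne_of_ne (Ne.symm had) (Ne.symm hbd), h2, ← mul_assoc] at h1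
        have h4 : s c * s d * (s a * s b) = 1 := mul_eq_right.1 h1
        rw [mul_eq_one_iff_eq_inv, h.inv] at h4
        obtain ⟨m, hm⟩ : ∃ m : Fin 5, m ∉ ({a, b, c, d} : Finset (Fin 5)) := by
          by_contra hcon
          push Not at hcon
          have h8 := Finset.card_le_card (fun x (_ : x ∈ Finset.univ) => hcon x)
          have h9 : ({a, b, c, d} : Finset (Fin 5)).card ≤ 4 := Finset.card_le_four
          simp at h8
          omega
        simp only [Finset.mem_insert, Finset.mem_singleton, not_or] at hm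
        obtain ⟨m1, m2, m3, m4⟩ := hm
        have h5 := congrArg (fun v => ρ (tr e a m) v) h4
        simp only [map_mul, h.act_tr] at h5
        rw [swap_apply_of_ne_of_ne (Ne.symm hac) (Ne.symm m3), swap_apply_of_ne_of_ne (Ne.symm had) (Ne.symm m4),
          swap_apply_left, swap_apply_of_ne_of_ne (Ne.symm hab) (Ne.symm m2), h4] at h5
        exact m1 (h.inj (mul_right_cancel h5)).symm
  refine h.fix_all (key 0 1 2 3 ?_ ?_ ?_ ?_ ?_ ?_) (key 1 2 3 4 ?_ ?_ ?_ ?_ ?_ ?_)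
    (key 2 3 0 1 ?_ ?_ ?_ ?_ ?_ ?_) (key 3 4 0 1 ?_ ?_ ?_ ?_ ?_ ?_) <;> decide

theorem CS_le_L0 {v : V} (hv : v ∈ CS ρ K) : v ∈ CS ρ (L0 e) :=
  (mem_CS _ _ _).2 fun x hx => (mem_CS _ _ _).1 hv x (L0_le hx)

/-- `C_V(K)` is `H`-invariant -/
theorem Vec.CS_inv (h : Vec ρ e s) (hn : (L0 e).Normal) (g : H) {v : V} (hv : v ∈ CS ρ K) : ρ g v ∈ CS ρ K := by
  apply h.CS_L0
  rw [mem_CS]
  intro x hx
  have h1 : g⁻¹ * x * g ∈ L0 e := by
    have := hn.conj_mem x hx g⁻¹
    rwa [inv_inv] at this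
  have h2 := (mem_CS _ _ _).1 (CS_le_L0 (e := e) hv) _ h1
  have e1 : x * g = g * (g⁻¹ * x * g) := by group
  rw [← rho_mul, e1, rho_mul, h2]

/-- an element is determined by its permutation and its action on `C_V(K)` -/
theorem Vec.ext (h : Vec ρ e s) (hi : Function.Injective ρ) {φ : H →* Perm (Fin 5)}
    (hφ : ∀ g i, ρ g (s i) = s (φ g i)) {a b : H} (h1 : φ a = φ b) (h2 : ∀ v ∈ CS ρ K, ρ a v = ρ b v) : a = b := by
  apply ext_of_inj hi
  have h3 : ∀ u ∈ uu s, ρ a u = ρ b u := by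
    intro u hu
    refine closure_induction (p := fun u _ => ρ a u = ρ b u) ?_ ?_ ?_ ?_ hu
    · rintro _ ⟨i, rfl⟩
      rw [hφ, hφ, h1]
    · rw [map_one, map_one]
    · intro x y _ _ hx hy
      rw [map_mul, map_mul, hx, hy]
    · intro x _ hx
      rw [map_inv, map_inv, hx]
  intro v
  obtain ⟨u, hu, hvu⟩ := h.split v
  have h4 := h2 _ hvu
  rw [map_mul, map_mul, h3 u hu] at h4
  exact mul_right_cancel h4

end Cfsg.Agent.OddCyclic.RedFive
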