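import Cfsg.Agent.OddCyclic.EmpO4
import Cfsg.Agent.OddCyclic.EmpFF
import Cfsg.Agent.OddCyclic.RedFiveB

/-!
# (Empty): the case `L / C_L(V) = S₅`, `V = O₄⁻(2)` of the FF list

* `exists_frame`: `Rep X Y r ρ ι`, `Five ρ e` and `X = N_G(Y)` give an `Om5.Frame X Y`;
* `EmpO4.false_of_five`: `ENS S`, `KS G`, `Rep (LL S) (vv S) r ρ ι` and `Five ρ e` give `False`.
-/

set_option autoImplicit false
set_option linter.unusedSectionVars false

namespace Cfsg.Agent.OddCyclic.EmpO4

open Subgroup Cfsg Cfsg.Agent.ZN Cfsg.Agent.ZN.ChoiceBase Cfsg.Agent.ZN.ChoiceSit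
open Cfsg.Agent.MinSimple Cfsg.Agent.MinSimple.EmptyTI Cfsg.Agent.MinSimple.EmptySix
open Cfsg.Agent.OddCyclic.Om5 Cfsg.Agent.OddCyclic.EmpFrame
open Cfsg.Agent.OddCyclic.T1Module Cfsg.Agent.OddCyclic.FFBasic Cfsg.Agent.OddCyclic.FFRed
open Cfsg.Agent.OddCyclic.RedFive Cfsg.Agent.OddCyclic.RedRep
open Cfsg.Agent.OddCyclic.EmpFFList (Five)
open Cfsg.Agent.MinSimple.EmptyE.Closed (LL CC)

universe u

variable {G : Type u} [Group G] {H V : Type u} [Group H] [CommGroup V]

/-- the isomorphism for `K = ⊤` -/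
def topE (e : H ≃* Equiv.Perm (Fin 5)) : (⊤ : Subgroup H) ≃* Equiv.Perm (Fin 5) := Subgroup.topEquiv.trans e

theorem L0_topE (e : H ≃* Equiv.Perm (Fin 5)) :
    L0 (topE e) = (alternatingGroup (Fin 5)).comap e.toMonoidHom := by
  ext x
  constructor
  · rintro ⟨y, hy, rfl⟩
    exact hy
  · intro hx
    exact ⟨⟨x, mem_top x⟩, hx, rfl⟩

theorem fd_of [Finite V] {ρ : H →* MulAut V} {e : H ≃* Equiv.Perm (Fin 5)} (h : Five ρ e)
    (hsq : ∀ v : V, v * v = 1) (hi : Function.Injective ρ) : FD ρ (topE e) where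
  sq := hsq
  inj := hi
  alt := by
    change (L0 (topE e)).Normal
    rw [L0_topE]
    exact Normal.comap inferInstance _
  tv := fun i j hij => h.swap i j hij

/-- every vector is a product of two centres -/
theorem all_of [Finite V] {ρ : H →* MulAut V} {e : H ≃* Equiv.Perm (Fin 5)} (h : Five ρ e)
    {s : Fin 5 → V} (hs : Vec ρ (topE e) s) (v : V) : ∃ i j k l, v = s i * s j * (s k * s l) := by
  obtain ⟨u, hu, hvu⟩ := hs.split v
  have h1 : v * u = 1 := by
    have h2 : v * u ∈ CS ρ ((alternatingGroup (Fin 5)).comap e.toMonoidHom) := by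
      rw [← L0_topE e]
      exact CS_le_L0 hvu
    rwa [h.bot, mem_bot] at h2
  have h3 : v = u := by
    rw [← mul_inv_eq_one, hs.inv]
    exact h1
  subst h3
  rcases hs.mem_uu hu with rfl | ⟨i, rfl⟩ | ⟨i, j, hij, rfl⟩
  · exact ⟨0, 0, 0, 0, (hs.sq _).symm⟩
  · obtain ⟨j, k, l, m, -, -, h4⟩ := hs.four i
    exact ⟨j, k, l, m, h4⟩
  · exact ⟨i, j, 0, 0, by rw [hs.sq, mul_one]⟩

/-- **the frame** -/
theorem exists_frame [Finite V] {X Y : Subgroup G} {r : X →* H} {ρ : H →* MulAut V} {ι : V →* G}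
    (hr : Rep X Y r ρ ι) (hX : X = normalizer (Y : Set G)) (hsq : ∀ v : V, v * v = 1)
    {e : H ≃* Equiv.Perm (Fin 5)} (h : Five ρ e) :
    ∃ (φ : X →* Equiv.Perm (Fin 5)) (ε : Fin 5 → Fin 5 → G), Frame X Y φ ε := by
  obtain ⟨s, hs⟩ := (fd_of h hsq hr.inj).exists_s
  refine ⟨e.toMonoidHom.comp r, fun i j => ι (s i * s j), ?_⟩
  exact
  { norm := hX
    surj := e.surjective.comp hr.surj
    ker := fun x hx => hr.r_eq_one.1 (e.injective (hx.trans (map_one e).symm))
    sq := fun u hu => by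
      obtain ⟨v, rfl⟩ := hr.exists_v hu
      rw [← map_mul, hsq, map_one]
    mem := fun i j => hr.mem _
    self := fun i => by rw [hsq, map_one]
    ne := fun i j hij h1 => hs.pair_ne_one hij (hr.iinj (h1.trans (map_one ι).symm))
    symm := fun i j => congrArg ι (mul_comm _ _)
    mul := fun i j k => by
      rw [← map_mul]
      congr 1
      calc s i * s j * (s j * s k) = s i * (s j * s j) * s k := by simp only [mul_assoc]
        _ = s i * s k := by rw [hsq, mul_one]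
    all := fun u hu => by
      obtain ⟨v, rfl⟩ := hr.exists_v hu
      obtain ⟨i, j, k, l, h1⟩ := all_of h hs v
      exact ⟨i, j, k, l, by rw [h1, map_mul]⟩
    conj := fun x i j => by
      change (x : G) * ι (s i * s j) * (x : G)⁻¹ = ι (s (e (r x) i) * s (e (r x) j))
      rw [← hr.act, map_mul]
      have h1 : ∀ i, ρ (r x) (s i) = s (e (r x) i) := fun i => hs.act ⟨r x, mem_top _⟩ i
      rw [h1, h1] }

variable [Finite G] {S : Sylow 2 G}

/-- **(Empty): the case `S₅` of the FF list does not occur** -/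
theorem false_of_rep (h : ENS S) (ks : KZeroCongr.KS G) {r : LL (S : Subgroup G) →* H}
    {ρ : H →* MulAut V} {ι : V →* G} (hr : Rep (LL (S : Subgroup G)) (vv (S : Subgroup G)) r ρ ι)
    {e : H ≃* Equiv.Perm (Fin 5)} (h5 : Five ρ e) : False := by
  have : Finite V := Finite.of_injective ι hr.iinj
  have hsq : ∀ v : V, v * v = 1 := fun v => by
    apply hr.iinj
    rw [map_mul, map_one]
    exact Cfsg.Agent.MinSimple.EmptyE.Closed.vv_mul_self (hr.mem v)
  obtain ⟨φ, ε, F⟩ := exists_frame hr rfl hsq h5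
  exact false_of_frame h ks F

theorem false_of_five (h : ENS S) (hz : CompStart.SecZero G) {r : LL (S : Subgroup G) →* H}
    {ρ : H →* MulAut V} {ι : V →* G} (hr : EmpFF.FFRep S r ρ ι)
    {e : H ≃* Equiv.Perm (Fin 5)} (h5 : Five ρ e) : False :=
  false_of_rep h hz hr.rep h5

end Cfsg.Agent.OddCyclic.EmpO4
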