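import Cfsg.Agent.OddCyclic.RedEBb
import Cfsg.Agent.OddCyclic.EO.Line
import Cfsg.Agent.OddCyclic.BTwoLin.Final

/-!
# S0342, (C2), (E1*): the end, split

* `ba_false` : `⟨V^{C(z)}⟩` nonabelian is impossible (`BTwoLin.Final.main`).
* `eone_false`: (E1*) = `RedE.EOne` is impossible, from the two inputs `In G`:
  `solv` (`EO.Line.Odd T V z`: `⟨V^{C(z)}⟩` abelian, `C(z)` solvable modulo `kq V z`) and
  `nonsolv` (`EN.BbDefs.Bb T V z`, `C(z)` nonsolvable modulo `kq V z`).
-/

set_option autoImplicit false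

namespace Cfsg.Agent.OddCyclic.RedEFin

open Subgroup Cfsg
open Cfsg.Agent.MinSimple.Geo (ws kq)
open Cfsg.Agent.OddCyclic.GeoC (GeoC)
open Cfsg.Agent.OddCyclic.BTwoA (BTwo)
open Cfsg.Agent.OddCyclic.EN.BbDefs (Bb)

universe u

variable {G : Type u} [Group G]

/-- a nonabelian simple group has no normal subgroup of index two -/
theorem index_ne_two [IsSimpleGroup G] (hn : ∃ a b : G, a * b ≠ b * a) {M : Subgroup G} (hM : M.Normal)
    (hi : M.index = 2) : False := by
  rcases hM.eq_bot_or_eq_top with rfl | rfl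
  · rw [index_bot] at hi
    obtain ⟨a, b, hab⟩ := hn
    have hc : IsCyclic G := by
      have : Fact (Nat.Prime 2) := ⟨Nat.prime_two⟩
      exact isCyclic_of_prime_card hi
    exact hab (hc.commGroup.mul_comm a b)
  · rw [index_top] at hi
    omega

variable [Finite G]

/-- **(B-a) is impossible.** -/
theorem ba_false [IsSimpleGroup G] (hn : ∃ a b : G, a * b ≠ b * a) (hr : ¬ PRankLE 2 2 G)
    (hK : KZeroCongr.KS G) {T V : Subgroup G} {z : G} (h : BTwo T V z) : False := by
  rcases BTwoLin.Final.main h hK with h1 | ⟨M, hM, hi⟩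
  · exact hr h1
  · exact index_ne_two hn hM hi

/-- the inputs: the solvable and the nonsolvable case with `⟨V^{C(z)}⟩` abelian -/
structure In (G : Type u) [Group G] : Prop where
  solv : ∀ (T V : Subgroup G) (z : G), EO.Line.Odd T V z → False
  nonsolv : ∀ (T V : Subgroup G) (z : G), Bb T V z →
    ¬ EO.Line.SolvMod (centralizer ({z} : Set G)) (kq V z) → False

/-- **(E1\*) is impossible.** -/
theorem eone_false (I : In G) {S : Sylow 2 G} (c : RedU.Cx S) {L V : Subgroup G} {k : ℕ} {z : G}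
    (h : RedE.EOne S L V k z) : False := by
  have hs := c.simple
  have hn : ∃ a b : G, a * b ≠ b * a := by
    obtain ⟨l, -, hl⟩ := MinSimple.DBlkApi.moves h.blk h.pt
    exact ⟨l, z, fun h1 => hl (ZN.Four.conj_eq_iff_comm.2 h1)⟩
  by_cases hab : ∀ a ∈ ws V z, ∀ b ∈ ws V z, a * b = b * a
  · by_cases hm : EO.Line.SolvMod (centralizer ({z} : Set G)) (kq V z)
    · exact I.solv S V z { toGeoC := h.geoC, ab := hab, sm := hm }
    · exact I.nonsolv S V z (RedEBb.bb c h hab) hm
  · refine ba_false hn c.rank c.sec (T := S) (V := V) (z := z) { toGeoC := h.geoC, nonab := ?_ }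
    push Not at hab
    exact hab

end Cfsg.Agent.OddCyclic.RedEFin
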