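import Cfsg.Agent.OddCyclic.CaseATools

/-!
# S0342, component case A, step A4(xi)(3): the final transfer

`T = F : Ŝ`, `R ≤ Ŝ` elementary abelian, `Ŝ/R` cyclic of order `2^k`, `k ≥ 1`, generated by `φ`, all involutions of `Ŝ`
in `R`, no element of `R#` conjugate into `F`.
-/

set_option autoImplicit false
set_option linter.unusedSectionVars false

namespace Cfsg.Agent.OddCyclic.CaseAEnd

open Subgroup
open Cfsg.Agent.LieExceptional.CITDefs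
open Cfsg.Agent.OddCyclic.CompStandard
open Cfsg.Agent.OddCyclic.CaseATools

variable {G : Type*} [Group G]

theorem exists_pow_mul {N : Subgroup G} {x n : G} (hx : ∀ n ∈ N, x * n * x⁻¹ ∈ N) (hn : n ∈ N)
    (m : ℕ) : ∃ n' ∈ N, (n * x) ^ m = n' * x ^ m := by
  induction m with
  | zero => exact ⟨1, N.one_mem, by simp⟩
  | succ m ih =>
    obtain ⟨n', hn', h1⟩ := ih
    have h2 : ∀ k : ℕ, ∀ n ∈ N, x ^ k * n * (x ^ k)⁻¹ ∈ N := by
      intro k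
      induction k with
      | zero => intro n hn; simpa using hn
      | succ k ihk =>
        intro n hn
        have h3 := hx _ (ihk n hn)
        have e : x ^ (k + 1) * n * (x ^ (k + 1))⁻¹ = x * (x ^ k * n * (x ^ k)⁻¹) * x⁻¹ := by
          rw [pow_succ']; group
        rw [e]; exact h3
    refine ⟨n' * (x ^ m * n * (x ^ m)⁻¹), N.mul_mem hn' (h2 m n hn), ?_⟩
    rw [pow_succ, h1, pow_succ]
    group

structure Fin (T : Sylow 2 G) (F R S : Subgroup G) (φ : G) (k : ℕ) : Prop where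
  pos : 1 ≤ k
  FT : F ≤ (T : Subgroup G)
  ST : S ≤ (T : Subgroup G)
  RS : R ≤ S
  Fn : ∀ x ∈ (T : Subgroup G), ∀ f ∈ F, x * f * x⁻¹ ∈ F
  Rn : ∀ s ∈ S, ∀ r ∈ R, s * r * s⁻¹ ∈ R
  elemR : Elem R
  gen : ∀ x ∈ (T : Subgroup G), ∃ f ∈ F, ∃ s ∈ S, x = f * s
  inf : ∀ x ∈ F, x ∈ S → x = 1
  φS : φ ∈ S
  genφ : ∀ s ∈ S, ∃ r ∈ R, ∃ j : ℤ, s = r * φ ^ j
  dvd : ∀ j : ℤ, φ ^ j ∈ R ↔ (2 ^ k : ℤ) ∣ j
  inv : ∀ s ∈ S, s * s = 1 → s ∈ R
  notype : ∀ r ∈ R, r ≠ 1 → ∀ g : G, g * r * g⁻¹ ∉ F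

variable [Finite G] {T : Sylow 2 G} {F R S : Subgroup G} {φ : G} {k : ℕ}

namespace Fin

theorem two_pow (h : Fin T F R S φ k) : (2 : ℕ) ^ (k - 1) * 2 = 2 ^ k := by
  rw [← pow_succ]
  congr 1
  have := h.pos
  omega

theorem mem_FR (h : Fin T F R S φ k) {x : G} : x ∈ F ⊔ R ↔ ∃ f ∈ F, ∃ r ∈ R, x = f * r :=
  mem_sup_iff fun r hr f hf => h.Fn r (h.ST (h.RS hr)) f hf

theorem φn (h : Fin T F R S φ k) : ∀ n ∈ F ⊔ R, φ ^ 2 * n * (φ ^ 2)⁻¹ ∈ F ⊔ R := by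
  intro n hn
  obtain ⟨f, hf, r, hr, rfl⟩ := h.mem_FR.mp hn
  have h1 : φ ^ 2 ∈ S := pow_mem h.φS 2
  refine h.mem_FR.mpr ⟨_, h.Fn _ (h.ST h1) f hf, _, h.Rn _ h1 r hr, ?_⟩
  group

theorem mem_T0 (h : Fin T F R S φ k) {x : G} : x ∈ F ⊔ R ⊔ zpowers (φ ^ 2) ↔
    ∃ f ∈ F, ∃ r ∈ R, ∃ j : ℤ, x = f * (r * φ ^ (2 * j)) := by
  rw [mem_sup_zpowers_iff h.φn]
  constructor
  · rintro ⟨n, hn, j, rfl⟩
    obtain ⟨f, hf, r, hr, rfl⟩ := h.mem_FR.mp hn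
    exact ⟨f, hf, r, hr, j, by rw [zpow_mul, zpow_ofNat, mul_assoc]⟩
  · rintro ⟨f, hf, r, hr, j, rfl⟩
    exact ⟨f * r, h.mem_FR.mpr ⟨f, hf, r, hr, rfl⟩, j, by rw [zpow_mul, zpow_ofNat, mul_assoc]⟩

/-- powers of elements of `S` modulo `R` -/
theorem pow_S (h : Fin T F R S φ k) {r : G} (hr : r ∈ R) (j : ℤ) (m : ℕ) :
    ∃ r' ∈ R, (r * φ ^ j) ^ m = r' * φ ^ (j * m) := by
  obtain ⟨r', hr', h1⟩ := exists_pow_mul (N := R) (x := φ ^ j)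
    (fun n hn => h.Rn _ (zpow_mem h.φS j) n hn) hr m
  exact ⟨r', hr', by rw [h1, zpow_mul, zpow_natCast]⟩

theorem pow_mem_R (h : Fin T F R S φ k) {r : G} (hr : r ∈ R) (j : ℤ) (m : ℕ) :
    (r * φ ^ j) ^ m ∈ R ↔ (2 ^ k : ℤ) ∣ j * m := by
  obtain ⟨r', hr', h1⟩ := h.pow_S hr j m
  rw [h1, ← h.dvd]
  exact R.mul_mem_cancel_left hr'

/-- elements of `S` outside `R⟨φ²⟩` have order at least `2^(k+1)` -/
theorem order_S (h : Fin T F R S φ k) {r : G} (hr : r ∈ R) {j : ℤ} (hj : Odd j) :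
    (r * φ ^ j) ^ 2 ^ k ≠ 1 := by
  intro h1
  have hS : r * φ ^ j ∈ S := S.mul_mem (h.RS hr) (zpow_mem h.φS j)
  have h2 : (r * φ ^ j) ^ 2 ^ (k - 1) ∈ R := by
    apply h.inv _ (pow_mem hS _)
    rw [← pow_two, ← pow_mul, h.two_pow]
    exact h1
  rw [h.pow_mem_R hr] at h2
  have h3 : (2 ^ k : ℤ) = 2 ^ (k - 1) * 2 := by
    have := h.two_pow
    exact_mod_cast this.symm
  push_cast at h2
  rw [h3, mul_comm j] at h2
  have h4 : (2 : ℤ) ∣ j := by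
    have h5 : (0 : ℤ) < 2 ^ (k - 1) := by positivity
    exact Int.dvd_of_mul_dvd_mul_left h5.ne' h2
  obtain ⟨n, hn⟩ := hj
  omega

theorem false (h : Fin T F R S φ k) (hG : _root_.commutator G = ⊤) : False := by
  have hle : F ⊔ R ⊔ zpowers (φ ^ 2) ≤ (T : Subgroup G) :=
    sup_le (sup_le h.FT (h.RS.trans h.ST)) (zpowers_le.mpr (pow_mem (h.ST h.φS) 2))
  have hφT := h.ST h.φS
  have hφ : φ ∉ F ⊔ R ⊔ zpowers (φ ^ 2) := by
    intro h1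
    obtain ⟨f, hf, r, hr, j, h2⟩ := h.mem_T0.mp h1
    have h3 : f = φ * (r * φ ^ (2 * j))⁻¹ := by
      nth_rewrite 1 [h2]; group
    have h4 : f = 1 := h.inf f hf (by
      rw [h3]
      exact S.mul_mem h.φS (S.inv_mem (S.mul_mem (h.RS hr) (zpow_mem h.φS _))))
    rw [h4, one_mul] at h2
    have h5 : φ ^ (1 - 2 * j) ∈ R := by
      have h6 : φ ^ (1 - 2 * j) = r := by
        rw [zpow_sub, zpow_one]
        nth_rewrite 1 [h2]
        group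
      rw [h6]; exact hr
    rw [h.dvd] at h5
    have h6 : (2 : ℤ) ∣ 2 ^ k := dvd_pow_self 2 (by have := h.pos; omega)
    have := h6.trans h5
    omega
  have hdec : ∀ b ∈ (T : Subgroup G), ∃ f ∈ F, ∃ r ∈ R, ∃ j : ℤ, b = f * (r * φ ^ j) := by
    intro b hb
    obtain ⟨f, hf, s, hs, rfl⟩ := h.gen b hb
    obtain ⟨r, hr, j, rfl⟩ := h.genφ s hs
    exact ⟨f, hf, r, hr, j, rfl⟩
  have hodd : ∀ f ∈ F, ∀ r ∈ R, ∀ j : ℤ, f * (r * φ ^ j) ∉ F ⊔ R ⊔ zpowers (φ ^ 2) → Odd j := by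
    intro f hf r hr j h1
    by_contra h2
    rw [Int.not_odd_iff_even] at h2
    obtain ⟨n, hn⟩ := h2
    exact h1 (h.mem_T0.mpr ⟨f, hf, r, hr, n, by rw [hn, two_mul]⟩)
  have hidx : (F ⊔ R ⊔ zpowers (φ ^ 2)).relIndex (T : Subgroup G) = 2 := by
    refine relIndex_eq_two hφT hφ fun b hb hb1 => ?_
    obtain ⟨f, hf, r, hr, j, rfl⟩ := hdec b hb
    obtain ⟨n, hn⟩ := hodd f hf r hr j hb1
    refine h.mem_T0.mpr ⟨f, hf, r, hr, n + 1, ?_⟩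
    have h1 : 2 * (n + 1) = j + 1 := by omega
    rw [h1, zpow_add, zpow_one]
    group
  -- the order of `φ`
  have hφR : φ ^ 2 ^ k ∈ R := by
    have := (h.dvd (2 ^ k : ℤ)).mpr dvd_rfl
    have e : φ ^ (2 ^ k : ℤ) = φ ^ 2 ^ k := by rw [← zpow_natCast]; push_cast; rfl
    rwa [e] at this
  have hφ1 : φ ^ 2 ^ k ≠ 1 := by
    have := h.order_S R.one_mem (j := 1) odd_one
    simpa using this
  have hφord : orderOf φ ≤ 2 ^ (k + 1) := by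
    refine Nat.le_of_dvd (by positivity) (orderOf_dvd_of_pow_eq_one ?_)
    rw [pow_succ, pow_mul, pow_two]
    exact h.elemR _ hφR
  obtain ⟨a, ha⟩ := CaseATransfer.exists_conj_of_min hG T _ hle hidx hφT hφ (by
    intro b hb hb1
    refine hφord.trans ?_
    obtain ⟨f, hf, r, hr, j, rfl⟩ := hdec b hb
    have hj := hodd f hf r hr j hb1
    have hS : r * φ ^ j ∈ S := S.mul_mem (h.RS hr) (zpow_mem h.φS j)
    obtain ⟨n, hn⟩ := (IsPGroup.iff_orderOf.mp T.isPGroup') ⟨_, hb⟩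
    rw [Subgroup.orderOf_mk] at hn
    rw [hn]
    refine Nat.pow_le_pow_right (by norm_num) ?_
    by_contra hlt
    have hnk : n ≤ k := by omega
    obtain ⟨f', hf', h1⟩ := exists_pow_mul (N := F) (x := r * φ ^ j)
      (fun n hn => h.Fn _ (h.ST hS) n hn) hf (2 ^ k)
    have h2 : (f * (r * φ ^ j)) ^ 2 ^ k = 1 := by
      rw [← orderOf_dvd_iff_pow_eq_one, hn]
      exact pow_dvd_pow 2 hnk
    rw [h2] at h1
    have h3 : (r * φ ^ j) ^ 2 ^ k = f'⁻¹ := (eq_inv_of_mul_eq_one_right h1.symm)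
    have h4 : f'⁻¹ = 1 := h.inf _ (F.inv_mem hf') (by rw [← h3]; exact pow_mem hS _)
    rw [h4] at h3
    exact h.order_S hr hj h3)
  obtain ⟨f, hf, r, hr, j, hj⟩ := h.mem_T0.mp ha
  have hS : r * φ ^ (2 * j) ∈ S := S.mul_mem (h.RS hr) (zpow_mem h.φS _)
  obtain ⟨f', hf', h1⟩ := exists_pow_mul (N := F) (x := r * φ ^ (2 * j))
    (fun n hn => h.Fn _ (h.ST hS) n hn) hf (2 ^ k)
  have h2 : (r * φ ^ (2 * j)) ^ 2 ^ k = 1 := by
    have h3 : (r * φ ^ (2 * j)) ^ 2 ^ (k - 1) ∈ R := by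
      rw [h.pow_mem_R hr]
      refine ⟨j, ?_⟩
      have h4 : (2 ^ k : ℤ) = 2 ^ (k - 1) * 2 := by
        have := h.two_pow
        exact_mod_cast this.symm
      push_cast
      rw [h4]
      ring
    rw [← h.two_pow, pow_mul, pow_two]
    exact h.elemR _ h3
  rw [h2, mul_one, ← hj, conj_pow] at h1
  exact h.notype _ hφR hφ1 a (by rw [h1]; exact hf')

end Fin

end Cfsg.Agent.OddCyclic.CaseAEnd
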