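import Cfsg.Agent.OddCyclic.CompStandard

/-!
# S0342, component type, case A: the layer lemma, statements

`Lay P R E H q`: `P` is a 2-group normalized by `H`, `C_P(h) = R` for `h ∈ H#`, `E` central in `P`, `C_P(t) = R × E` for
`t ∈ R#`. `LayF P R E H q F`: the structure of `P = F : R`, `F = [P, H]`.
-/

set_option autoImplicit false

namespace Cfsg.Agent.OddCyclic.CaseALayDefs

open Subgroup
open Cfsg.Agent.LieExceptional Cfsg.Agent.LieExceptional.CITDefs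

variable {G : Type*} [Group G]

/-- the hypotheses of the layer lemma -/
structure Lay (P R E H : Subgroup G) (q : ℕ) : Prop where
  two : IsPGroup 2 P
  leR : R ≤ P
  leE : E ≤ P
  elemR : Elem R
  elemE : Elem E
  cardE : Nat.card E = q
  four : 4 ≤ q
  /-- `E` is central in `P` -/
  cen : ∀ e ∈ E, ∀ x ∈ P, e * x = x * e
  disj : R ⊓ E = ⊥
  neR : R ≠ ⊥
  commH : ∀ h ∈ H, ∀ k ∈ H, h * k = k * h
  cardH : Nat.card H = q - 1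
  normP : ∀ h ∈ H, ∀ x ∈ P, h * x * h⁻¹ ∈ P
  normE : ∀ h ∈ H, ∀ e ∈ E, h * e * h⁻¹ ∈ E
  fixR : ∀ h ∈ H, ∀ r ∈ R, h * r = r * h
  fpf : ∀ h ∈ H, h ≠ 1 → ∀ x ∈ P, h * x = x * h → x ∈ R
  cent : ∀ t ∈ R, t ≠ 1 → ∀ x ∈ P, x * t = t * x → x ∈ R ⊔ E

/-- the conclusion of the layer lemma -/
structure LayF (P R E H : Subgroup G) (q : ℕ) (F : Subgroup G) : Prop where
  leF : F ≤ P
  leE : E ≤ F
  normF : ∀ x ∈ P, ∀ y ∈ F, x * y * x⁻¹ ∈ F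
  HF : ∀ h ∈ H, ∀ y ∈ F, h * y * h⁻¹ ∈ F
  gen : F = closure {z : G | ∃ x ∈ P, ∃ h ∈ H, z = x⁻¹ * (h * x * h⁻¹)}
  inf : F ⊓ R = ⊥
  sup : ∀ x ∈ P, ∃ y ∈ F, ∃ r ∈ R, x = y * r
  card : ∃ m : ℕ, 1 ≤ m ∧ Nat.card F = q ^ m ∧ (P ≠ R ⊔ E → 2 ≤ m)
  /-- `C_F(t) = E` -/
  centF : ∀ t ∈ R, t ≠ 1 → ∀ y ∈ F, y * t = t * y → y ∈ E
  /-- `Z(P) = E` -/
  center : P ≠ R ⊔ E → ∀ z ∈ P, (∀ x ∈ P, x * z = z * x) → z ∈ E
  /-- `C_V(x) = E` for `x ∈ P - V` -/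
  centV : ∀ x ∈ P, x ∉ R ⊔ E → ∀ v ∈ R ⊔ E, x * v = v * x → v ∈ E

/-- the additional conclusions for `|R| ≥ 4` -/
structure LayBig (P R E H : Subgroup G) (q : ℕ) (F : Subgroup G) : Prop where
  card : Nat.card F = q ^ 2
  comm : ∀ x ∈ F, ∀ y ∈ F, x * y = y * x
  /-- `P/E` is elementary abelian -/
  sq : ∀ x ∈ P, x * x ∈ E
  commP : ∀ x ∈ P, ∀ y ∈ P, x * y * x⁻¹ * y⁻¹ ∈ E
  /-- `H` is transitive on `(F/E)#` -/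
  trans : ∀ x ∈ F, x ∉ E → ∀ y ∈ F, y ∉ E → ∃ h ∈ H, ∃ e ∈ E, y = (h * x * h⁻¹) * e

end Cfsg.Agent.OddCyclic.CaseALayDefs
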