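import Cfsg.Agent.OddCyclic.CaseASix
import Cfsg.Agent.OddCyclic.CaseALayDefs

/-!
# S0342, component type, case A: A4 (ix)

No element of `F` is conjugate to an element of `R#`.
-/

set_option autoImplicit false

namespace Cfsg.Agent.OddCyclic.CaseANine

open Subgroup
open Cfsg.Agent.LieExceptional Cfsg.Agent.LieExceptional.CITDefs
open Cfsg.Agent.LieExceptional.CITBasic
open Cfsg.Agent.OddCyclic.T1Tools Cfsg.Agent.OddCyclic.T1Defs
open Cfsg.Agent.OddCyclic.CompBasic Cfsg.Agent.OddCyclic.CompStandard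
open Cfsg.Agent.OddCyclic.CaseADefs Cfsg.Agent.OddCyclic.CaseABase
open Cfsg.Agent.OddCyclic.CaseACount Cfsg.Agent.OddCyclic.CaseAFour
open Cfsg.Agent.OddCyclic.CaseADelta Cfsg.Agent.OddCyclic.CaseAKer
open Cfsg.Agent.OddCyclic.CaseAFive Cfsg.Agent.OddCyclic.CaseALayDefs

variable {G : Type*} [Group G] [Finite G] {p : ℕ} {K R E H S P F : Subgroup G} {q : ℕ}

/-- (v) gives the hypotheses of the layer lemma. -/
theorem lay (h : Std p K) (b : Beta K R E H q) (f : Five K R E H q S P) : Lay P R E H q where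
  two := f.syl.two
  leR := le_sup_left.trans f.V_le
  leE := le_sup_right.trans f.V_le
  elemR := b.elemR
  elemE := b.bor.elem
  cardE := b.bor.cardE
  four := b.l2.four
  cen := fun e he x hx => mem_centralizer_iff.mp (f.syl.le hx) e he
  disj := eq_bot_iff.mpr fun _ hx => b.inf hx.1 hx.2
  neR := sylR_ne_bot h b.sylR
  commH := by
    intro x hx y hy
    have hfH := finite_H b
    have hcyc := b.bor.cyc
    have := IsCyclic.commGroup (α := H)
    exact congrArg Subtype.val (IsMulCommutative.is_comm.comm (⟨x, hx⟩ : H) ⟨y, hy⟩)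
  cardH := b.bor.cardH
  normP := f.H_norm
  normE := b.bor.norm
  fixR := fun x hx r hr => comm_KY x (b.bor.leH hx) r (b.sylR.le hr)
  fpf := fun x hx hx1 y hy hc => f.cent_H x hx hx1 y hy hc.symm
  cent := f.cent_t

/-! ### conjugates of the data -/

theorem borel_cj (b : Beta K R E H q) {m : G} (hm : m ∈ normalizer (K : Set G)) :
    Borel K (cj m E) (cj m H) q := by
  have hK : cj m K = K := cj_eq_iff.mpr hm
  have hb := b.bor
  refine ⟨?_, ?_, elem_cj hb.elem, by rw [card_cj, hb.cardE], by rw [card_cj, hb.cardH], ?_, ?_,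
    ?_, ?_⟩
  · rw [← hK]; exact cj_mono hb.leE
  · rw [← hK]; exact cj_mono hb.leH
  · have := hb.cyc
    exact isCyclic_of_surjective ((MulAut.conj m).toMonoidHom.subgroupMap H)
      ((MulAut.conj m).toMonoidHom.subgroupMap_surjective H)
  · intro x hx e he
    rw [mem_cj] at hx he ⊢
    have h1 := hb.norm _ hx _ he
    have e1 : m⁻¹ * (x * e * x⁻¹) * m = m⁻¹ * x * m * (m⁻¹ * e * m) * (m⁻¹ * x * m)⁻¹ := by group
    rw [e1]; exact h1
  · intro e he he1 k hk hc
    rw [mem_cj] at he ⊢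
    refine hb.cent _ he (fun hh => he1 ?_) _ ?_ ?_
    · have : e = m * (m⁻¹ * e * m) * m⁻¹ := by group
      rw [this, hh]; group
    · rw [← hK, mem_cj] at hk; exact hk
    · calc m⁻¹ * k * m * (m⁻¹ * e * m) = m⁻¹ * (k * e) * m := by group
        _ = m⁻¹ * (e * k) * m := by rw [hc]
        _ = m⁻¹ * e * m * (m⁻¹ * k * m) := by group
  · intro k hk hn
    rw [← hK, mem_cj] at hk
    obtain ⟨e, he, x, hx, hex⟩ := hb.nK _ hk (by
      intro e he
      have h1 := hn _ (conj_mem_cj (g := m) he)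
      rw [mem_cj] at h1
      have e1 : m⁻¹ * (k * (m * e * m⁻¹) * k⁻¹) * m =
        m⁻¹ * k * m * e * (m⁻¹ * k * m)⁻¹ := by group
      rwa [e1] at h1)
    refine ⟨m * e * m⁻¹, conj_mem_cj he, m * x * m⁻¹, conj_mem_cj hx, ?_⟩
    calc k = m * (m⁻¹ * k * m) * m⁻¹ := by group
      _ = m * (e * x) * m⁻¹ := by rw [hex]
      _ = m * e * m⁻¹ * (m * x * m⁻¹) := by group

theorem beta_cj (b : Beta K R E H q) {m : G} (hm : m ∈ normalizer (K : Set G)) :
    Beta K (cj m R) (cj m E) (cj m H) q := by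
  have hK : cj m K = K := cj_eq_iff.mpr hm
  have hY : cj m (centralizer (K : Set G)) = centralizer (K : Set G) := by
    rw [cj_centralizer, hK]
  refine ⟨b.l2, b.big, ?_, ?_, borel_cj b hm, elem_cj b.elemR, by rw [card_cj]; exact b.cardR, ?_⟩
  · have := isSyl2_cj m b.sylR
    rwa [hY] at this
  · have := isSyl2_cj m b.sylE
    rwa [hK] at this
  · obtain ⟨g, hg, hgR⟩ := b.ex
    refine ⟨m * g * m⁻¹, fun hh => hg ?_, ?_⟩
    · have h1 := Subgroup.mul_mem _ (Subgroup.mul_mem _ (Subgroup.inv_mem _ hm) hh) hm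
      have e1 : m⁻¹ * (m * g * m⁻¹) * m = g := by group
      rwa [e1] at h1
    · have h1 := cj_mono (g := m) hgR
      rw [cj_sup] at h1
      rw [← cj_mul]
      have e1 : m * g * m⁻¹ * m = m * g := by group
      rw [e1, cj_mul]
      exact h1

/-- For a 2-subgroup `A` of `M` there are a Sylow 2-subgroup `S'` of `M` containing `A` and `m ∈ M` with
`(S' ∩ Y)(S' ∩ K) = V^m`. -/
theorem exists_S (b : Beta K R E H q) {A : Subgroup G} (hA : IsPGroup 2 A)
    (hAM : A ≤ normalizer (K : Set G)) : ∃ (S' : Subgroup G) (m : G), A ≤ S' ∧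
      IsSyl2 (normalizer (K : Set G)) S' ∧ m ∈ normalizer (K : Set G) ∧
      cj m R ⊔ cj m E ≤ S' := by
  obtain ⟨S₀, hS₀, hVS₀⟩ := exists_isSyl2 (normalizer (K : Set G)) (R ⊔ E) b.V_le
    (isPGroup_of_elem b.elemV)
  obtain ⟨S', hS', hAS'⟩ := exists_isSyl2 (normalizer (K : Set G)) A hAM hA
  obtain ⟨m, hm, hmS⟩ := isSyl2_conj hS₀ hS'
  refine ⟨S', m, hAS', hS', hm, ?_⟩
  rw [hmS, ← cj_sup]
  exact cj_mono hVS₀

/-- `C_{S'}(A) ≤ V'` for a subgroup `A` of `V'` of order `≥ q`, when `|R| = 2`. -/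
theorem cent_le (b : Beta K R E H q) (hR2 : Nat.card R = 2) {S' A : Subgroup G}
    (hS : IsSyl2 (normalizer (K : Set G)) S') (hV : R ⊔ E ≤ S') (hA : A ≤ R ⊔ E)
    (hcA : q ≤ Nat.card A) {x : G} (hx : x ∈ S') (hc : ∀ a ∈ A, x * a = a * x) :
    x ∈ R ⊔ E := by
  by_contra hxV
  have hxM := hS.le hx
  have hxKY : x ∉ K ⊔ centralizer (K : Set G) := fun hh => hxV (S_inf_KY b hS hV hx hh)
  have h2x : ∃ n : ℕ, x ^ 2 ^ n = 1 := mem_of_pow_two hS.two hx
  have hq : 16 ≤ q := by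
    rcases b.big with h1 | h1
    · exact h1
    · exact absurd (h1 x hxM h2x) hxKY
  have hfield : Nat.card (E ⊓ centralizer ({x} : Set G) : Subgroup G) ^ 2 ≤ q := by
    rcases b.l2.field E b.sylE x hxM (S_norm_E b hS (le_sup_right.trans hV) x hx) h2x with
      h1 | h1
    · exfalso
      obtain ⟨y, hy, e, he, hxe⟩ := h1
      apply hxKY
      rw [hxe]
      exact Subgroup.mul_mem _ (mem_sup_right hy) (mem_sup_left (b.sylE.le he))
    · exact h1
  set CV : Subgroup G := (R ⊔ E) ⊓ centralizer ({x} : Set G) with hCV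
  have h3 : Nat.card A ≤ Nat.card CV := by
    refine Subgroup.card_le_of_le fun a ha => ⟨hA ha, ?_⟩
    exact mem_centralizer_singleton_iff.mpr (hc a ha).symm
  have h4 : Nat.card CV ≤ Nat.card R * Nat.card (E ⊓ CV : Subgroup G) := by
    refine card_le_inf (A := E) (B := CV) (X := R ⊔ E) le_sup_right inf_le_left ?_
    rw [b.card_V, b.bor.cardE]
  have h5 : Nat.card (E ⊓ CV : Subgroup G) ≤
      Nat.card (E ⊓ centralizer ({x} : Set G) : Subgroup G) :=
    Subgroup.card_le_of_le (fun y hy => ⟨hy.1, hy.2.2⟩)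
  set c := Nat.card (E ⊓ centralizer ({x} : Set G) : Subgroup G) with hcdef
  rw [hR2] at h4
  have h7 : q ≤ 2 * c := hcA.trans (h3.trans (h4.trans (Nat.mul_le_mul_left _ h5)))
  nlinarith

omit [Finite G] in
theorem mem_cj_inv {A : Subgroup G} {g x : G} : x ∈ cj g⁻¹ A ↔ g * x * g⁻¹ ∈ A := by
  rw [mem_cj, inv_inv]

/-- **(ix)**, `|R| = 2`: `|C_P(w)| ≤ 2q` for `w ∈ P` conjugate to `t`. -/
theorem card_cent_le (h : Std p K) (b : Beta K R E H q) (f : Five K R E H q S P)
    (hR2 : Nat.card R = 2) {w t g : G} (hw : w ∈ P) (ht : t ∈ R) (ht1 : t ≠ 1)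
    (hwt : g⁻¹ * w * g = t) :
    Nat.card (P ⊓ centralizer ({w} : Set G) : Subgroup G) ≤ 2 * q := by
  have hPC : ∀ e ∈ E, ∀ x ∈ P, e * x = x * e := fun e he x hx =>
    mem_centralizer_iff.mp (f.syl.le hx) e he
  have ht2 : orderOf t = 2 := orderOf_eq_two ht1 (b.elemR t ht)
  set A₀ : Subgroup G := P ⊓ centralizer ({w} : Set G) with hA₀
  set A : Subgroup G := cj g⁻¹ A₀ with hA
  have hwg : w = g * t * g⁻¹ := by rw [← hwt]; group
  have hw1 : w ≠ 1 := by
    intro hh
    apply ht1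
    rw [← hwt, hh]; group
  have hww : w * w = 1 := by
    rw [hwg]
    calc g * t * g⁻¹ * (g * t * g⁻¹) = g * (t * t) * g⁻¹ := by group
      _ = 1 := by rw [b.elemR t ht]; group
  have hAM : A ≤ normalizer (K : Set G) := by
    intro x hx
    refine h.le_normalizer ht2 (b.sylR.le ht) ?_
    rw [mem_centralizer_singleton_iff]
    have h1 : g * x * g⁻¹ ∈ A₀ := mem_cj_inv.mp hx
    have h2 : g * x * g⁻¹ * w = w * (g * x * g⁻¹) := mem_centralizer_singleton_iff.mp h1.2
    calc x * t = g⁻¹ * ((g * x * g⁻¹) * w) * g := by rw [hwg]; group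
      _ = g⁻¹ * (w * (g * x * g⁻¹)) * g := by rw [h2]
      _ = t * x := by rw [hwg]; group
  have hA2 : IsPGroup 2 A := isPGroup_cj (f.syl.two.to_le inf_le_left)
  obtain ⟨S', m, hAS', hS', hm, hVS'⟩ := exists_S b hA2 hAM
  have b' := beta_cj b hm
  have hR2' : Nat.card (cj m R) = 2 := by rw [card_cj, hR2]
  have hEA₀ : E ≤ A₀ := fun e he =>
    ⟨f.V_le (mem_sup_right he), mem_centralizer_singleton_iff.mpr (hPC e he w hw)⟩
  -- `cj g⁻¹ E ≤ V'`
  have hEV : cj g⁻¹ E ≤ cj m R ⊔ cj m E := by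
    by_cases hwE : w ∈ E
    · have hVA : R ⊔ E ≤ A₀ := fun v hv =>
        ⟨f.V_le hv, mem_centralizer_singleton_iff.mpr (hPC w hwE v (f.V_le hv)).symm⟩
      have h1 := unique_V b' hS' hVS' (D := cj g⁻¹ (R ⊔ E)) ((cj_mono hVA).trans hAS')
        (elem_cj b.elemV) (by rw [card_cj, card_cj, b.card_V])
      rw [← h1]
      exact cj_mono le_sup_right
    · have hcomm : ∀ z ∈ zpowers w, ∀ e ∈ E, z * e = e * z := by
        rintro _ ⟨k, rfl⟩ e he
        exact ((show Commute e w from hPC e he w hw).zpow_right k).symm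
      have hzE : zpowers w ⊓ E = ⊥ := by
        rw [eq_bot_iff]
        rintro _ ⟨⟨k, rfl⟩, he⟩
        rw [Subgroup.mem_bot]
        rcases Int.even_or_odd' k with ⟨j, hj | hj⟩
        · show w ^ k = 1
          rw [hj, zpow_mul]
          have : w ^ (2 : ℤ) = 1 := by rw [zpow_two]; exact hww
          rw [this, one_zpow]
        · exfalso
          apply hwE
          have h1 : w ^ k = w := by
            rw [hj, zpow_add, zpow_mul]
            have : w ^ (2 : ℤ) = 1 := by rw [zpow_two]; exact hww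
            rw [this, one_zpow, one_mul, zpow_one]
          rw [← h1]; exact he
      have hcz : Nat.card (zpowers w) = 2 := by
        rw [Nat.card_zpowers]; exact orderOf_eq_two hw1 hww
      have hzs := card_sup_comm hcomm hzE
      have hel : Elem (zpowers w ⊔ E : Subgroup G) := by
        intro v hv
        obtain ⟨z, hz, e, he, rfl⟩ := (mem_sup_comm hcomm).mp hv
        have hz2 : z * z = 1 := by
          obtain ⟨k, rfl⟩ := hz
          show w ^ k * w ^ k = 1
          rw [← zpow_add, ← two_mul, zpow_mul]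
          have : w ^ (2 : ℤ) = 1 := by rw [zpow_two]; exact hww
          rw [this, one_zpow]
        calc z * e * (z * e) = z * (e * z) * e := by group
          _ = z * (z * e) * e := by rw [hcomm z hz e he]
          _ = (z * z) * (e * e) := by group
          _ = 1 := by rw [hz2, b.bor.elem e he, one_mul]
      have hle : zpowers w ⊔ E ≤ A₀ := sup_le (zpowers_le.mpr
        ⟨hw, mem_centralizer_singleton_iff.mpr rfl⟩) hEA₀
      have h1 := unique_V b' hS' hVS' (D := cj g⁻¹ (zpowers w ⊔ E)) ((cj_mono hle).trans hAS')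
        (elem_cj hel) (by rw [card_cj, card_cj, hzs, hcz, hR2, b.bor.cardE])
      rw [← h1]
      exact cj_mono le_sup_right
  -- `A ≤ V'`
  have hAV : A ≤ cj m R ⊔ cj m E := by
    intro x hx
    refine cent_le b' hR2' hS' hVS' hEV (by rw [card_cj, b.bor.cardE]) (hAS' hx) ?_
    intro a ha
    rw [mem_cj_inv] at ha
    have h1 : g * x * g⁻¹ ∈ A₀ := mem_cj_inv.mp hx
    have h2 := hPC _ ha _ h1.1
    calc x * a = g⁻¹ * ((g * x * g⁻¹) * (g * a * g⁻¹)) * g := by group
      _ = g⁻¹ * ((g * a * g⁻¹) * (g * x * g⁻¹)) * g := by rw [h2]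
      _ = a * x := by group
  have h1 := Subgroup.card_le_of_le hAV
  rw [b'.card_V, hR2', hA, card_cj] at h1
  exact h1

/-- **(ix)**, `|R| = 2`, `F` elementary abelian -/
theorem false_of_elem (h : Std p K) (b : Beta K R E H q) (f : Five K R E H q S P)
    (lf : LayF P R E H q F) (hne : P ≠ R ⊔ E) (hR2 : Nat.card R = 2) (hF : Elem F) {w t g : G}
    (hw : w ∈ F) (ht : t ∈ R) (ht1 : t ≠ 1) (hwt : g⁻¹ * w * g = t) : False := by
  have h1 := card_cent_le h b f hR2 (lf.leF hw) ht ht1 hwt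
  have h2 : Nat.card F ≤ Nat.card (P ⊓ centralizer ({w} : Set G) : Subgroup G) :=
    Subgroup.card_le_of_le fun y hy =>
      ⟨lf.leF hy, mem_centralizer_singleton_iff.mpr (hF.comm hy hw)⟩
  obtain ⟨m, -, hc, hm⟩ := lf.card
  have hm2 := hm hne
  have h4 := b.l2.four
  have h3 : q ^ 2 ≤ q ^ m := Nat.pow_le_pow_right (by omega) hm2
  rw [hc] at h2
  nlinarith

/-! ### `|R| ≥ 4` -/

/-- conjugates of a subgroup of `C_G(w)` are in `M` -/
theorem cj_le_M (h : Std p K) (b : Beta K R E H q) {w t g : G} (ht : t ∈ R)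
    (ht1 : t ≠ 1) (hwt : g⁻¹ * w * g = t) {A : Subgroup G} (hA : ∀ a ∈ A, a * w = w * a) :
    cj g⁻¹ A ≤ normalizer (K : Set G) := by
  have hwg : w = g * t * g⁻¹ := by rw [← hwt]; group
  intro x hx
  refine h.le_normalizer (orderOf_eq_two ht1 (b.elemR t ht)) (b.sylR.le ht) ?_
  rw [mem_centralizer_singleton_iff]
  have h2 := hA _ (mem_cj_inv.mp hx)
  calc x * t = g⁻¹ * ((g * x * g⁻¹) * w) * g := by rw [hwg]; group
    _ = g⁻¹ * (w * (g * x * g⁻¹)) * g := by rw [h2]
    _ = t * x := by rw [hwg]; group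

omit [Finite G] in
/-- `F ∩ V = E` -/
theorem F_inf_V (b : Beta K R E H q) (lf : LayF P R E H q F) {y : G} (hy : y ∈ F)
    (hV : y ∈ R ⊔ E) : y ∈ E := by
  obtain ⟨r, hr, e, he, rfl⟩ := b.mem_V.mp hV
  have h1 : r ∈ F ⊓ R := by
    refine ⟨?_, hr⟩
    have : r = (r * e) * e⁻¹ := by group
    rw [this]
    exact F.mul_mem hy (F.inv_mem (lf.leE he))
  rw [lf.inf, Subgroup.mem_bot] at h1
  rw [h1, one_mul]; exact he

/-- `w ∈ E` is not conjugate into `R#` (`|R| ≥ 4`) -/
theorem not_E (h : Std p K) (b : Beta K R E H q) (f : Five K R E H q S P)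
    (lf : LayF P R E H q F) (lb : LayBig P R E H q F) {w t g : G}
    (hw : w ∈ E) (ht : t ∈ R) (ht1 : t ≠ 1) (hwt : g⁻¹ * w * g = t) : False := by
  have hPC : ∀ e ∈ E, ∀ x ∈ P, e * x = x * e := fun e he x hx =>
    mem_centralizer_iff.mp (f.syl.le hx) e he
  have h4 := b.l2.four
  have hAM := cj_le_M h b ht ht1 hwt (A := P) (fun a ha => (hPC w hw a ha).symm)
  obtain ⟨S', m, hAS', hS', hm, hVS'⟩ := exists_S b (isPGroup_cj f.syl.two) hAM
  have b' := beta_cj b hm
  -- `cj g⁻¹ V = V'`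
  have h1 := unique_V b' hS' hVS' (D := cj g⁻¹ (R ⊔ E)) ((cj_mono f.V_le).trans hAS')
    (elem_cj b.elemV) (by rw [card_cj, card_cj, b.card_V])
  -- two elements of `F` independent modulo `E`
  obtain ⟨x, hxF, hxE, y, hyF, hyE, hxyE⟩ : ∃ x ∈ F, x ∉ E ∧ ∃ y ∈ F, y ∉ E ∧ x * y ∉ E := by
    by_contra hno
    push Not at hno
    have hcF := lb.card
    have hEF : E ≠ F := by
      intro hh
      rw [← hh, b.bor.cardE, pow_two] at hcF
      nlinarith
    obtain ⟨x, hxF, hxE⟩ : ∃ x ∈ F, x ∉ E := by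
      by_contra hno'
      push Not at hno'
      exact hEF (le_antisymm lf.leE hno')
    -- `F = E ∪ x⁻¹ E`
    have hcard : Nat.card F ≤ Nat.card (Bool × E) := by
      have hex : ∀ y : F, ∃ z : Bool × E, (y : G) = (if z.1 then x⁻¹ else 1) * (z.2 : G) := by
        rintro ⟨y, hy⟩
        by_cases hyE : y ∈ E
        · exact ⟨(false, ⟨y, hyE⟩), by simp⟩
        · exact ⟨(true, ⟨x * y, hno x hxF hxE y hy hyE⟩), by simp⟩
      choose u hu using hex
      refine Nat.card_le_card_of_injective u ?_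
      intro y y' hyy
      apply Subtype.ext
      rw [hu y, hu y', hyy]
    rw [Nat.card_prod, Nat.card_eq_fintype_card (α := Bool), Fintype.card_bool, b.bor.cardE,
      hcF, pow_two] at hcard
    nlinarith
  have hxP := lf.leF hxF
  have hyP := lf.leF hyF
  have hin : ∀ z ∈ P, g⁻¹ * z * g ∈ S' := by
    intro z hz
    apply hAS'
    have := conj_mem_cj (g := g⁻¹) hz
    rwa [inv_inv] at this
  have hsq : ∀ z ∈ P, (g⁻¹ * z * g) * (g⁻¹ * z * g) ∈ K ⊔ centralizer (K : Set G) := by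
    intro z hz
    have h2 : (g⁻¹ * z * g) * (g⁻¹ * z * g) = g⁻¹ * (z * z) * g := by group
    rw [h2]
    have h3 : g⁻¹ * (z * z) * g ∈ cj g⁻¹ (R ⊔ E) := by
      have := conj_mem_cj (g := g⁻¹) (mem_sup_right (lb.sq z hz) : z * z ∈ R ⊔ E)
      rwa [inv_inv] at this
    rw [h1] at h3
    obtain ⟨r, hr, e, he, hre⟩ := b'.mem_V.mp h3
    rw [hre]
    exact Subgroup.mul_mem _ (mem_sup_right (b'.sylR.le hr)) (mem_sup_left (b'.sylE.le he))
  have hback : ∀ z ∈ F, g⁻¹ * z * g ∈ K ⊔ centralizer (K : Set G) → z ∈ E := by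
    intro z hz hzK
    have h2 := S_inf_KY b' hS' hVS' (hin z (lf.leF hz)) hzK
    rw [← h1, mem_cj_inv] at h2
    have e1 : g * (g⁻¹ * z * g) * g⁻¹ = z := by group
    rw [e1] at h2
    exact F_inf_V b lf hz h2
  rcases b.l2.out _ (hS'.le (hin x hxP)) _ (hS'.le (hin y hyP)) (hsq x hxP) (hsq y hyP) with
    h2 | h2 | h2
  · exact hxE (hback x hxF h2)
  · exact hyE (hback y hyF h2)
  · have e1 : g⁻¹ * x * g * (g⁻¹ * y * g) = g⁻¹ * (x * y) * g := by group
    rw [e1] at h2
    exact hxyE (hback _ (F.mul_mem hxF hyF) h2)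

/-- **(ix)**, `|R| ≥ 4`: if an element of `F` is conjugate into `R#` then `F` is elementary abelian, `|R| = q`
and `F` is conjugate to `V`. -/
theorem conj_of_big (h : Std p K) (b : Beta K R E H q) (f : Five K R E H q S P)
    (lf : LayF P R E H q F) (lb : LayBig P R E H q F) {w t g : G}
    (hw : w ∈ F) (ht : t ∈ R) (ht1 : t ≠ 1) (hwt : g⁻¹ * w * g = t) :
    Elem F ∧ Nat.card R = q ∧ ∃ u : G, F = cj u (R ⊔ E) := by
  have hwg : w = g * t * g⁻¹ := by rw [← hwt]; group
  have hww : w * w = 1 := by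
    rw [hwg]
    calc g * t * g⁻¹ * (g * t * g⁻¹) = g * (t * t) * g⁻¹ := by group
      _ = 1 := by rw [b.elemR t ht]; group
  have hwE : w ∉ E := fun hh => not_E h b f lf lb hh ht ht1 hwt
  have hF : Elem F := by
    intro y hy
    by_cases hyE : y ∈ E
    · exact b.bor.elem y hyE
    · obtain ⟨x, hx, e, he, hye⟩ := lb.trans w hw hwE y hy hyE
      have h1 : e * (x * w * x⁻¹) = (x * w * x⁻¹) * e :=
        lb.comm e (lf.leE he) _ (lf.HF x hx w hw)
      rw [hye]
      calc x * w * x⁻¹ * e * (x * w * x⁻¹ * e) = x * w * x⁻¹ * (e * (x * w * x⁻¹)) * e := by group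
        _ = x * w * x⁻¹ * ((x * w * x⁻¹) * e) * e := by rw [h1]
        _ = x * (w * w) * x⁻¹ * (e * e) := by group
        _ = 1 := by rw [hww, b.bor.elem e he]; group
  have hF2 : IsPGroup 2 F := isPGroup_of_elem hF
  have hAM := cj_le_M h b ht ht1 hwt (A := F) (fun a ha => lb.comm a ha w hw)
  obtain ⟨S', m, hAS', hS', hm, hVS'⟩ := exists_S b (isPGroup_cj (g := g⁻¹) hF2) hAM
  have b' := beta_cj b hm
  have hR := b.cardR
  have h1 := unique_V b' hS' hVS' (D := cj g⁻¹ F) hAS' (elem_cj hF)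
    (by rw [card_cj, card_cj, lb.card, pow_two]; exact Nat.mul_le_mul_right _ hR)
  have h4 := b.l2.four
  refine ⟨hF, ?_, g * m, ?_⟩
  · have h2 : Nat.card (cj g⁻¹ F) = Nat.card (cj m R ⊔ cj m E : Subgroup G) := by rw [h1]
    rw [card_cj, lb.card, b'.card_V, card_cj, pow_two] at h2
    exact (Nat.eq_of_mul_eq_mul_right (by omega) h2).symm
  · rw [cj_mul, cj_sup, ← h1, cj_cj_inv]

/-- `F` is not conjugate to `V` -/
theorem no_swap {T V F : Subgroup G} (hT : IsSyl2 (⊤ : Subgroup G) T)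
    (hV : ∀ x ∈ T, cj x V = V) (hF : ∀ x ∈ T, cj x F = F) (hne : V ≠ F)
    (hor' : ∀ u : G, cj u F ≤ T → cj u F = V ∨ cj u F = F) (hFT : F ≤ T) {u : G}
    (hu : F = cj u V) : False := by
  have hpf : Fact (Nat.Prime 2) := ⟨Nat.prime_two⟩
  -- `T` and `T^u` are Sylow 2-subgroups of `N(F)`
  have h1 : IsSyl2 (normalizer (F : Set G)) T :=
    ⟨fun x hx => cj_eq_iff.mp (hF x hx), hT.two, fun U _ hU2 hle => hT.max U le_top hU2 hle⟩
  have h2 : IsSyl2 (normalizer (F : Set G)) (cj u T) := by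
    have h3 : IsSyl2 (normalizer (V : Set G)) T :=
      ⟨fun x hx => cj_eq_iff.mp (hV x hx), hT.two, fun U _ hU2 hle => hT.max U le_top hU2 hle⟩
    have h4 := isSyl2_cj u h3
    rwa [cj_normalizer, ← hu] at h4
  obtain ⟨n, hn, hnT⟩ := isSyl2_conj h2 h1
  rw [← cj_mul] at hnT
  set v := n * u with hv
  have hvT : cj v T = T := hnT.symm
  have hvV : cj v V = F := by rw [hv, cj_mul, ← hu]; exact cj_eq_iff.mpr hn
  -- `N(T)` permutes `{V, F}`; `v` swaps
  have hvF : cj v F = V := by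
    have h3 : cj v F ≤ T := by rw [← hvT]; exact cj_mono hFT
    rcases hor' v h3 with h4 | h4
    · exact h4
    · exfalso
      apply hne
      have : cj v F = cj v V := by rw [h4, hvV]
      have h5 := congrArg (cj v⁻¹) this
      rw [cj_inv_cj, cj_inv_cj] at h5
      exact h5.symm
  -- a 2-element of `⟨v⟩` swaps too
  set o := orderOf v with ho
  obtain ⟨k, m, hm, hkm⟩ : ∃ k m, Odd m ∧ o = 2 ^ k * m := by
    obtain ⟨k, m, hm, h3⟩ := Nat.exists_eq_two_pow_mul_odd (n := o) (orderOf_pos v).ne'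
    exact ⟨k, m, hm, h3⟩
  have hodd : cj (v ^ m) V = F := by
    obtain ⟨j, hj⟩ := hm
    have h3 : ∀ i : ℕ, cj (v ^ (2 * i)) V = V := by
      intro i
      induction i with
      | zero => rw [mul_zero, pow_zero, cj_one]
      | succ i ih =>
        have : v ^ (2 * (i + 1)) = v * v * v ^ (2 * i) := by
          rw [← pow_two, ← pow_add]; congr 1; ring
        rw [this, cj_mul, ih, cj_mul, hvV, hvF]
    rw [hj, pow_succ', cj_mul, h3, hvV]
  have hmT : ∀ x ∈ T, v ^ m * x * (v ^ m)⁻¹ ∈ T := by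
    have h3 : ∀ i : ℕ, cj (v ^ i) T = T := by
      intro i
      induction i with
      | zero => rw [pow_zero, cj_one]
      | succ i ih => rw [pow_succ, cj_mul, hvT, ih]
    intro x hx
    rw [← h3 m]
    exact conj_mem_cj hx
  have h5 : v ^ m ∈ T := by
    refine mem_isSyl2 hT (Subgroup.mem_top _) ⟨k, ?_⟩ hmT
    rw [← pow_mul, mul_comm, ← hkm, ho, pow_orderOf_eq_one]
  have h6 := hV _ h5
  rw [hodd] at h6
  exact hne h6.symm

omit [Finite G] in
/-- involutions of `P` lie in `V ∪ F`, if `F` is elementary abelian -/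
theorem inv_P (b : Beta K R E H q) (f : Five K R E H q S P) (lf : LayF P R E H q F)
    (hF : Elem F) {x : G} (hx : x ∈ P) (hxx : x * x = 1) : x ∈ R ⊔ E ∨ x ∈ F := by
  obtain ⟨y, hy, t, ht, rfl⟩ := lf.sup x hx
  by_cases ht1 : t = 1
  · right; rw [ht1, mul_one]; exact hy
  · left
    have hyP := lf.leF hy
    have htP := f.V_le (mem_sup_left ht : t ∈ R ⊔ E)
    have htt := b.elemR t ht
    have hyy := hF y hy
    have h1 : y * t = t * y := by
      have h2 : y * t = (y * t)⁻¹ := eq_inv_of_mul_eq_one_left hxx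
      rw [mul_inv_rev] at h2
      have h3 : t⁻¹ = t := inv_eq_of_mul_eq_one_left htt
      have h4 : y⁻¹ = y := inv_eq_of_mul_eq_one_left hyy
      rw [h3, h4] at h2
      exact h2
    have h2 := lf.centF t ht ht1 y hy h1
    exact Subgroup.mul_mem _ (mem_sup_right h2) (mem_sup_left ht)

/-- an elementary abelian subgroup of order `≥ q²` of `P` is `V` or `F` -/
theorem eq_V_or_F (b : Beta K R E H q) (f : Five K R E H q S P) (lf : LayF P R E H q F)
    (lb : LayBig P R E H q F) (hF : Elem F) (hR : Nat.card R = q) {D : Subgroup G} (hD : D ≤ P)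
    (hDe : Elem D) (hc : q ^ 2 ≤ Nat.card D) : D = R ⊔ E ∨ D = F := by
  have h1 : D ≤ R ⊔ E ∨ D ≤ F := by
    by_contra hno
    push Not at hno
    obtain ⟨x, hxD, hxV⟩ := SetLike.not_le_iff_exists.mp hno.1
    obtain ⟨y, hyD, hyF⟩ := SetLike.not_le_iff_exists.mp hno.2
    have hxF := (inv_P b f lf hF (hD hxD) (hDe x hxD)).resolve_left hxV
    have hyV := (inv_P b f lf hF (hD hyD) (hDe y hyD)).resolve_right hyF
    rcases inv_P b f lf hF (hD (D.mul_mem hxD hyD)) (hDe _ (D.mul_mem hxD hyD)) with h2 | h2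
    · apply hxV
      have : x = (x * y) * y⁻¹ := by group
      rw [this]
      exact Subgroup.mul_mem _ h2 (Subgroup.inv_mem _ hyV)
    · apply hyF
      have : y = x⁻¹ * (x * y) := by group
      rw [this]
      exact F.mul_mem (F.inv_mem hxF) h2
  rcases h1 with h1 | h1
  · left
    exact Subgroup.eq_of_le_of_card_ge h1 (by rw [b.card_V, hR, ← pow_two]; exact hc)
  · right
    exact Subgroup.eq_of_le_of_card_ge h1 (by rw [lb.card]; exact hc)

/-- **(ix)**, `|R| ≥ 4`: `F` contains no element conjugate into `R#`. -/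
theorem false_of_big (h : Std p K) (b : Beta K R E H q) (f : Five K R E H q S P)
    (lf : LayF P R E H q F) (lb : LayBig P R E H q F) {T : Subgroup G}
    (hT : IsSyl2 (⊤ : Subgroup G) T) (hPT : P ≤ T) (hTV : ∀ x ∈ T, cj x (R ⊔ E) = R ⊔ E)
    (hTF : ∀ x ∈ T, cj x F = F) (hinv : ∀ x ∈ T, x * x = 1 → x ∈ P) {w t g : G}
    (hw : w ∈ F) (ht : t ∈ R) (ht1 : t ≠ 1) (hwt : g⁻¹ * w * g = t) : False := by
  obtain ⟨hF, hR, u, hu⟩ := conj_of_big h b f lf lb hw ht ht1 hwt
  have hor : ∀ D : Subgroup G, D ≤ T → Elem D → q ^ 2 ≤ Nat.card D → D = R ⊔ E ∨ D = F :=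
    fun D hDT hDe hc => eq_V_or_F b f lf lb hF hR (fun x hx => hinv x (hDT hx) (hDe x hx)) hDe hc
  refine no_swap hT hTV hTF ?_
    (fun v hv => hor _ hv (elem_cj hF) (by rw [card_cj, lb.card])) (lf.leF.trans hPT) hu
  intro hVF
  have h1 : t ∈ F ⊓ R := ⟨by rw [← hVF]; exact mem_sup_left ht, ht⟩
  rw [lf.inf, Subgroup.mem_bot] at h1
  exact ht1 h1

end Cfsg.Agent.OddCyclic.CaseANine
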