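import Cfsg.Agent.OddCyclic.CaseASix
import Cfsg.Agent.OddCyclic.CaseANine
import Cfsg.Agent.OddCyclic.CaseATools
import Cfsg.Agent.OddCyclic.CaseAEnd

/-!
# S0342, component case A, step A4(xi)(2): the Sylow 2-subgroup `T = P Ŝ`, `Ŝ = S ∩ N(H)`

Assumption: all involutions of `S` lie in `V = R × E`.
-/

set_option autoImplicit false
set_option linter.unusedSectionVars false

namespace Cfsg.Agent.OddCyclic.CaseATE

open Subgroup
open Cfsg.Agent.LieExceptional Cfsg.Agent.LieExceptional.CITDefs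
open Cfsg.Agent.LieExceptional.CITBasic
open Cfsg.Agent.OddCyclic.T1Tools Cfsg.Agent.OddCyclic.T1Defs
open Cfsg.Agent.OddCyclic.CompBasic Cfsg.Agent.OddCyclic.CompStandard
open Cfsg.Agent.OddCyclic.CaseADefs Cfsg.Agent.OddCyclic.CaseABase
open Cfsg.Agent.OddCyclic.CaseACount Cfsg.Agent.OddCyclic.CaseAFour
open Cfsg.Agent.OddCyclic.CaseAInv
open Cfsg.Agent.OddCyclic.CaseAFive Cfsg.Agent.OddCyclic.CaseASix
open Cfsg.Agent.OddCyclic.CaseALayDefs
open Cfsg.Agent.OddCyclic.CaseATools (mem_sup_iff)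

variable {G : Type*} [Group G] [Finite G] {p : ℕ} {K R E H : Subgroup G} {q : ℕ}
  {S P F : Subgroup G}

/-- `Ŝ = S ∩ N(H)` -/
def Sh (S H : Subgroup G) : Subgroup G := S ⊓ normalizer (H : Set G)

/-- The situation of (xi)(2). -/
structure Sit (p : ℕ) (K R E H : Subgroup G) (q : ℕ) (S P F : Subgroup G) : Prop where
  std : Std p K
  beta : Beta K R E H q
  four : Four K R E H q
  sylS : IsSyl2 (normalizer (K : Set G)) S
  VS : R ⊔ E ≤ S
  five : Five K R E H q S P
  lf : LayF P R E H q F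
  ne : P ≠ R ⊔ E
  /-- `S = E Ŝ` -/
  split : ∀ s ∈ S, ∃ e ∈ E, ∃ s' ∈ Sh S H, s = e * s'
  /-- orders of Sylow 2-subgroups of `N(E)` -/
  card : ∀ W : Subgroup G, IsSyl2 (normalizer (E : Set G)) W →
    Nat.card W * Nat.card (R ⊔ E : Subgroup G) = Nat.card P * Nat.card S
  /-- the involutions of `S` lie in `V` -/
  inv : ∀ s ∈ S, s * s = 1 → s ∈ R ⊔ E

namespace Sit

theorem R_le (s : Sit p K R E H q S P F) : R ≤ Sh S H := by
  intro r hr
  refine ⟨s.VS (mem_sup_left hr), mem_normalizer_of_forall fun x hx => ?_⟩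
  have h1 := comm_KY x (s.beta.bor.leH hx) r (s.beta.sylR.le hr)
  have e : r * x * r⁻¹ = x := by rw [← h1]; group
  rw [e]; exact hx

/-- `V ∩ N(H) = R` -/
theorem V_norm (s : Sit p K R E H q S P F) {v : G} (hv : v ∈ R ⊔ E)
    (hH : v ∈ normalizer (H : Set G)) : v ∈ R := by
  obtain ⟨r, hr, e, he, rfl⟩ := s.beta.mem_V.mp hv
  have h1 : e ∈ normalizer (H : Set G) := by
    have h2 : r⁻¹ * (r * e) ∈ normalizer (H : Set G) :=
      Subgroup.mul_mem _ (Subgroup.inv_mem _ (s.R_le hr).2) hH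
    rwa [inv_mul_cancel_left] at h2
  have he1 : e = 1 := by
    by_contra he1
    -- `H ≠ 1`
    obtain ⟨x, hx, hx1⟩ : ∃ x ∈ H, x ≠ 1 := by
      by_contra hno
      push Not at hno
      have h2 : H = ⊥ := (Subgroup.eq_bot_iff_forall H).mpr hno
      have h3 := s.beta.bor.cardH
      rw [h2, Subgroup.card_bot] at h3
      have h4 := s.beta.l2.four
      omega
    have h2 := forall_of_mem_normalizer h1 x hx
    have h3 : e * x * e⁻¹ * x⁻¹ ∈ H := H.mul_mem h2 (H.inv_mem hx)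
    have h4 : e * x * e⁻¹ * x⁻¹ ∈ E := by
      have h5 := s.beta.bor.norm x hx _ (E.inv_mem he)
      have e1 : e * x * e⁻¹ * x⁻¹ = e * (x * e⁻¹ * x⁻¹) := by group
      rw [e1]; exact E.mul_mem he h5
    have h5 := H_inf s.beta.l2 s.beta.bor h3 h4
    have h6 : e * x = x * e := by
      have h7 : e * x * e⁻¹ = x := mul_inv_eq_one.mp h5
      exact mul_inv_eq_iff_eq_mul.mp h7
    exact hx1 (H_inf s.beta.l2 s.beta.bor hx
      (s.beta.bor.cent e he he1 x (s.beta.bor.leH hx) h6.symm))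
  rw [he1, mul_one]; exact hr

/-- `P ∩ Ŝ = R` -/
theorem P_inf (s : Sit p K R E H q S P F) : P ⊓ Sh S H = R := by
  apply le_antisymm
  · intro x hx
    exact s.V_norm (s.five.inf_M x hx.1 (s.sylS.le hx.2.1)) hx.2.2
  · exact le_inf (le_sup_left.trans s.five.V_le) s.R_le

theorem Sh_norm (s : Sit p K R E H q S P F) : ∀ x ∈ Sh S H, ∀ y ∈ P, x * y * x⁻¹ ∈ P :=
  fun x hx => s.five.S_norm x hx.1 hx.2

theorem Sh_norm_F (s : Sit p K R E H q S P F) : ∀ x ∈ Sh S H, ∀ y ∈ F, x * y * x⁻¹ ∈ F := by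
  intro x hx
  have h1 : F.map (MulAut.conj x).toMonoidHom ≤ F := by
    nth_rewrite 1 [s.lf.gen]
    rw [MonoidHom.map_closure, closure_le]
    rintro _ ⟨z, ⟨y, hy, k, hk, rfl⟩, rfl⟩
    rw [s.lf.gen]
    refine subset_closure ⟨x * y * x⁻¹, s.Sh_norm x hx y hy, x * k * x⁻¹,
      forall_of_mem_normalizer hx.2 k hk, ?_⟩
    simp only [MulEquiv.coe_toMonoidHom, MulAut.conj_apply]
    group
  intro y hy
  exact h1 ⟨y, hy, rfl⟩

theorem Sh_two (s : Sit p K R E H q S P F) : IsPGroup 2 (Sh S H) :=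
  s.sylS.two.to_le inf_le_left

/-- the group `T = P Ŝ` -/
theorem mem_T (s : Sit p K R E H q S P F) {x : G} :
    x ∈ P ⊔ Sh S H ↔ ∃ y ∈ P, ∃ z ∈ Sh S H, x = y * z := mem_sup_iff s.Sh_norm

theorem gen (s : Sit p K R E H q S P F) {x : G} (hx : x ∈ P ⊔ Sh S H) :
    ∃ y ∈ F, ∃ z ∈ Sh S H, x = y * z := by
  obtain ⟨y, hy, z, hz, rfl⟩ := s.mem_T.mp hx
  obtain ⟨f, hf, r, hr, rfl⟩ := s.lf.sup y hy
  exact ⟨f, hf, r * z, Subgroup.mul_mem _ (s.R_le hr) hz, by group⟩

theorem F_inf (s : Sit p K R E H q S P F) {x : G} (hF : x ∈ F) (hS : x ∈ Sh S H) : x = 1 := by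
  have h1 : x ∈ P ⊓ Sh S H := ⟨s.lf.leF hF, hS⟩
  rw [s.P_inf] at h1
  have h2 : x ∈ F ⊓ R := ⟨hF, h1⟩
  rwa [s.lf.inf, Subgroup.mem_bot] at h2

/-- the involutions of `T` lie in `P` -/
theorem inv_T (s : Sit p K R E H q S P F) {x : G} (hx : x ∈ P ⊔ Sh S H) (hxx : x * x = 1) :
    x ∈ P := by
  obtain ⟨y, hy, z, hz, rfl⟩ := s.gen hx
  have h1 := s.Sh_norm_F z hz y hy
  have h2 : z * z ∈ F := by
    have h3 : z * z = (y * (z * y * z⁻¹))⁻¹ := by
      apply eq_inv_of_mul_eq_one_right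
      calc y * (z * y * z⁻¹) * (z * z) = y * z * (y * z) := by group
        _ = 1 := hxx
    rw [h3]
    exact F.inv_mem (F.mul_mem hy h1)
  have h3 := s.F_inf h2 (Subgroup.mul_mem _ hz hz)
  have h4 := s.V_norm (s.inv z hz.1 h3) hz.2
  exact P.mul_mem (s.lf.leF hy) (s.five.V_le (mem_sup_left h4))

theorem T_two (s : Sit p K R E H q S P F) : IsPGroup 2 (P ⊔ Sh S H : Subgroup G) :=
  IsPGroup.to_sup_of_normal_left' s.five.syl.two s.Sh_two
    (fun x hx => mem_normalizer_of_forall (s.Sh_norm x hx))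

theorem T_le (s : Sit p K R E H q S P F) : P ⊔ Sh S H ≤ normalizer (E : Set G) := by
  refine sup_le (s.five.syl.le.trans (centralizer_le_normalizer _)) fun x hx => ?_
  exact mem_normalizer_of_forall (S_norm_E s.beta s.sylS (le_sup_right.trans s.VS) x hx.1)

theorem cardS (s : Sit p K R E H q S P F) : Nat.card S = q * Nat.card (Sh S H) := by
  have hn : Sh S H ≤ normalizer (E : Set G) := fun x hx =>
    mem_normalizer_of_forall (S_norm_E s.beta s.sylS (le_sup_right.trans s.VS) x hx.1)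
  have h1 := card_sup_mul hn
  have h2 : E ⊔ Sh S H = S := by
    apply le_antisymm (sup_le (le_sup_right.trans s.VS) inf_le_left)
    intro x hx
    obtain ⟨e, he, y, hy, rfl⟩ := s.split x hx
    exact Subgroup.mul_mem _ (mem_sup_left he) (mem_sup_right hy)
  have h3 : E ⊓ Sh S H = ⊥ := by
    rw [eq_bot_iff]
    intro x hx
    have h4 := s.V_norm (mem_sup_right hx.1) hx.2.2
    exact s.beta.inf h4 hx.1
  rw [h2, h3, Subgroup.card_bot, mul_one, s.beta.bor.cardE] at h1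
  exact h1

theorem cardT (s : Sit p K R E H q S P F) :
    Nat.card (P ⊔ Sh S H : Subgroup G) * Nat.card R = Nat.card P * Nat.card (Sh S H) := by
  have h1 := card_sup_mul (K := P) (H := Sh S H)
    (fun x hx => mem_normalizer_of_forall (s.Sh_norm x hx))
  rwa [s.P_inf] at h1

/-- `T` is a Sylow 2-subgroup of `N(E)` -/
theorem syl_E (s : Sit p K R E H q S P F) : IsSyl2 (normalizer (E : Set G)) (P ⊔ Sh S H) := by
  obtain ⟨W, hW, hTW⟩ := exists_isSyl2 _ _ s.T_le s.T_two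
  have h1 := s.card W hW
  rw [s.beta.card_V, s.cardS] at h1
  have h2 := s.cardT
  have hq : 0 < q := by have := s.beta.l2.four; omega
  have hR : 0 < Nat.card R := Nat.card_pos
  have h3 : Nat.card W = Nat.card (P ⊔ Sh S H : Subgroup G) := by
    have h4 : Nat.card W * Nat.card R * q = Nat.card (P ⊔ Sh S H : Subgroup G) * Nat.card R * q := by
      rw [h2]
      calc Nat.card W * Nat.card R * q = Nat.card W * (Nat.card R * q) := by ring
        _ = _ := by rw [h1]; ring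
    exact Nat.eq_of_mul_eq_mul_right hR (Nat.eq_of_mul_eq_mul_right hq h4)
  have h4 : P ⊔ Sh S H = W := Subgroup.eq_of_le_of_card_ge hTW h3.le
  rw [h4]; exact hW

/-- `T` is a Sylow 2-subgroup of `G` -/
theorem exists_T (s : Sit p K R E H q S P F) : ∃ T : Sylow 2 G, (T : Subgroup G) = P ⊔ Sh S H := by
  have hpf : Fact (Nat.Prime 2) := ⟨Nat.prime_two⟩
  obtain ⟨T, hT⟩ := s.T_two.exists_le_sylow
  refine ⟨T, ?_⟩
  have key : normalizer ((P ⊔ Sh S H : Subgroup G) : Set G) ≤ normalizer (E : Set G) := by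
    intro x hx
    set Om : Subgroup G := closure {z | z ∈ P ⊔ Sh S H ∧ z * z = 1} with hOm
    have hxO : ∀ z ∈ Om, x * z * x⁻¹ ∈ Om := by
      have h1 : Om.map (MulAut.conj x).toMonoidHom ≤ Om := by
        rw [hOm, MonoidHom.map_closure, closure_le]
        rintro _ ⟨z, ⟨hz, hzz⟩, rfl⟩
        refine subset_closure ⟨forall_of_mem_normalizer hx z hz, ?_⟩
        rw [← map_mul, hzz, map_one]
      intro z hz
      exact h1 ⟨z, hz, rfl⟩
    have hOP : Om ≤ P := by
      rw [hOm, closure_le]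
      rintro z ⟨hz, hzz⟩
      exact s.inv_T hz hzz
    have hVO : R ⊔ E ≤ Om := fun v hv =>
      subset_closure ⟨mem_sup_left (s.five.V_le hv), s.beta.elemV v hv⟩
    by_cases hle : Om ≤ R ⊔ E
    · have h1 : Om = R ⊔ E := le_antisymm hle hVO
      apply s.four.N_le
      rw [← h1]
      exact mem_normalizer_of_forall hxO
    · obtain ⟨w, hwO, hwV⟩ := SetLike.not_le_iff_exists.mp hle
      have hEiff : ∀ z, z ∈ E ↔ z ∈ Om ∧ ∀ y ∈ Om, y * z = z * y := by
        intro z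
        constructor
        · intro hz
          exact ⟨hVO (mem_sup_right hz), fun y hy =>
            (mem_centralizer_iff.mp (s.five.syl.le (hOP hy)) z hz).symm⟩
        · rintro ⟨hzO, hzc⟩
          obtain ⟨⟨t, ht⟩, ht1⟩ := Subgroup.ne_bot_iff_exists_ne_one.mp
            (sylR_ne_bot s.std s.beta.sylR)
          have ht1' : t ≠ 1 := fun h => ht1 (Subtype.ext h)
          have h1 : z ∈ R ⊔ E := s.five.cent_t t ht ht1' z (hOP hzO)
            (hzc t (hVO (mem_sup_left ht))).symm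
          exact s.lf.centV w (hOP hwO) hwV z h1 (hzc w hwO)
      refine mem_normalizer_of_forall fun z hz => ?_
      obtain ⟨hzO, hzc⟩ := (hEiff z).mp hz
      refine (hEiff _).mpr ⟨hxO z hzO, fun y hy => ?_⟩
      have hxO' : ∀ z ∈ Om, x⁻¹ * z * x ∈ Om := by
        have h1 : x ∈ normalizer (Om : Set G) := mem_normalizer_of_forall hxO
        intro z hz
        have := forall_of_mem_normalizer (inv_mem h1) z hz
        rwa [inv_inv] at this
      have h1 := hzc _ (hxO' y hy)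
      calc y * (x * z * x⁻¹) = x * ((x⁻¹ * y * x) * z) * x⁻¹ := by group
        _ = x * (z * (x⁻¹ * y * x)) * x⁻¹ := by rw [h1]
        _ = _ := by group
  refine Cfsg.Agent.Blocks.SylowIn.eq_of_normalizer_inf_le (p := 2) T.isPGroup' hT ?_
  have h2 : IsPGroup 2 (normalizer ((P ⊔ Sh S H : Subgroup G) : Set G) ⊓ (T : Subgroup G) :
      Subgroup G) := T.isPGroup'.to_le inf_le_right
  have h3 := s.syl_E.max _ (inf_le_left.trans key) h2 (le_inf Subgroup.le_normalizer hT)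
  exact h3.le

/-! ### Step (3) -/

theorem T_norm_F (s : Sit p K R E H q S P F) : ∀ x ∈ P ⊔ Sh S H, ∀ y ∈ F, x * y * x⁻¹ ∈ F := by
  intro x hx y hy
  obtain ⟨a, ha, z, hz, rfl⟩ := s.mem_T.mp hx
  have h1 := s.lf.normF a ha _ (s.Sh_norm_F z hz y hy)
  have e : a * z * y * (a * z)⁻¹ = a * (z * y * z⁻¹) * a⁻¹ := by group
  rw [e]; exact h1

/-- (ix) in the form needed: no element of `R#` is conjugate into `F` -/
theorem notype (s : Sit p K R E H q S P F)
    (hel : Nat.card R = 2 → ∀ w ∈ F, orderOf w = 2 →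
      Nat.card (P ⊓ centralizer ({w} : Set G) : Subgroup G) ≤ 2 * q → Elem F)
    (lb : 4 ≤ Nat.card R → LayBig P R E H q F) {r : G} (hr : r ∈ R) (hr1 : r ≠ 1) (g : G) :
    g * r * g⁻¹ ∉ F := by
  have hpf : Fact (Nat.Prime 2) := ⟨Nat.prime_two⟩
  intro hw
  have hwt : g⁻¹ * (g * r * g⁻¹) * g = r := by group
  have hc2 := card_R_two s.std s.beta
  obtain ⟨n, hn⟩ := IsPGroup.iff_card.mp (CaseABase.isPGroup_of_elem s.beta.elemR)
  by_cases h2 : Nat.card R = 2
  · have h3 := CaseANine.card_cent_le s.std s.beta s.five h2 (s.lf.leF hw) hr hr1 hwt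
    have h4 : orderOf (g * r * g⁻¹) = 2 := by
      rw [orderOf_conj]
      exact CaseABase.orderOf_eq_two hr1 (s.beta.elemR r hr)
    exact CaseANine.false_of_elem s.std s.beta s.five s.lf s.ne h2 (hel h2 _ hw h4 h3) hw hr hr1 hwt
  · have h4 : 4 ≤ Nat.card R := by
      rcases n with _ | _ | n
      · rw [hn] at hc2; norm_num at hc2
      · rw [hn] at h2; norm_num at h2
      · rw [hn, pow_add]
        have : 1 ≤ 2 ^ n := Nat.one_le_two_pow
        omega
    have hb := lb h4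
    have hTV : ∀ x ∈ P ⊔ Sh S H, cj x (R ⊔ E) = R ⊔ E := by
      intro x hx
      rw [cj_eq_iff]
      obtain ⟨a, ha, z, hz, rfl⟩ := s.mem_T.mp hx
      refine Subgroup.mul_mem _ ?_ (S_le_N s.beta s.sylS s.VS hz.1)
      refine mem_normalizer_of_forall fun v hv => ?_
      have h5 := hb.commP a ha v (s.five.V_le hv)
      have e : a * v * a⁻¹ = (a * v * a⁻¹ * v⁻¹) * v := by group
      rw [e]
      exact Subgroup.mul_mem _ (mem_sup_right h5) hv
    have hTF : ∀ x ∈ P ⊔ Sh S H, cj x F = F := fun x hx =>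
      cj_eq_iff.mpr (mem_normalizer_of_forall (s.T_norm_F x hx))
    obtain ⟨T, hT⟩ := s.exists_T
    have hS : IsSyl2 (⊤ : Subgroup G) (P ⊔ Sh S H) := by
      refine ⟨le_top, s.T_two, fun Y _ hY hle => ?_⟩
      rw [← hT] at hle ⊢
      exact T.is_maximal' hY hle
    exact CaseANine.false_of_big s.std s.beta s.five s.lf hb hS le_sup_left hTV hTF
      (fun x hx hxx => s.inv_T hx hxx) hw hr hr1 hwt

/-- A4(xi), given that all involutions of `S` are in `V` -/
theorem false (s : Sit p K R E H q S P F) (hG : _root_.commutator G = ⊤)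
    {C : Type*} [Group C] [IsCyclic C] [Finite C] (ψ : normalizer (K : Set G) →* C)
    (hψ : ∀ x, ψ x = 1 ↔ x.1 ∈ K ⊔ centralizer (K : Set G)) (hSV : S ≠ R ⊔ E)
    (hel : Nat.card R = 2 → ∀ w ∈ F, orderOf w = 2 →
      Nat.card (P ⊓ centralizer ({w} : Set G) : Subgroup G) ≤ 2 * q → Elem F)
    (lb : 4 ≤ Nat.card R → LayBig P R E H q F) : False := by
  have hpf : Fact (Nat.Prime 2) := ⟨Nat.prime_two⟩
  have hShM : Sh S H ≤ normalizer (K : Set G) := inf_le_left.trans s.sylS.le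
  let χ : Sh S H →* C := ψ.comp (Subgroup.inclusion hShM)
  have hχ : ∀ x : Sh S H, χ x = 1 ↔ x.1 ∈ R := by
    intro x
    have h1 : χ x = 1 ↔ x.1 ∈ K ⊔ centralizer (K : Set G) := hψ (Subgroup.inclusion hShM x)
    rw [h1]
    constructor
    · intro h2
      exact s.V_norm (S_inf_KY s.beta s.sylS s.VS x.2.1 h2) x.2.2
    · intro h2
      exact mem_sup_right (s.beta.sylR.le h2)
  obtain ⟨⟨_, ⟨φ, rfl⟩⟩, hgen⟩ := IsCyclic.exists_generator (α := χ.range)
  have hgen' : ∀ x : Sh S H, ∃ j : ℤ, χ x = χ φ ^ j := by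
    intro x
    obtain ⟨j, hj⟩ := hgen ⟨χ x, x, rfl⟩
    exact ⟨j, (congrArg Subtype.val hj).symm⟩
  obtain ⟨k, hk⟩ : ∃ k : ℕ, orderOf (χ φ) = 2 ^ k := by
    obtain ⟨n, hn⟩ := (IsPGroup.iff_orderOf.mp s.Sh_two) φ
    have h1 : orderOf (χ φ) ∣ 2 ^ n := by rw [← hn]; exact orderOf_map_dvd χ φ
    obtain ⟨k, -, hk⟩ := (Nat.dvd_prime_pow Nat.prime_two).mp h1
    exact ⟨k, hk⟩
  have hdvd : ∀ j : ℤ, φ.1 ^ j ∈ R ↔ (2 ^ k : ℤ) ∣ j := by
    intro j
    have h1 : φ.1 ^ j = (φ ^ j : Sh S H).1 := by simp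
    rw [h1, ← hχ, map_zpow, ← orderOf_dvd_iff_zpow_eq_one, hk]
    push_cast
    rfl
  have hpos : 1 ≤ k := by
    by_contra hk0
    have hk0' : k = 0 := by omega
    apply hSV
    apply le_antisymm _ s.VS
    intro x hx
    obtain ⟨e, he, y, hy, rfl⟩ := s.split x hx
    obtain ⟨j, hj⟩ := hgen' ⟨y, hy⟩
    have h1 : χ φ = 1 := by
      rw [← orderOf_eq_one_iff, hk, hk0', pow_zero]
    rw [h1, one_zpow, hχ] at hj
    exact Subgroup.mul_mem _ (mem_sup_right he) (mem_sup_left hj)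
  obtain ⟨T, hT⟩ := s.exists_T
  have hmem : ∀ x, x ∈ (T : Subgroup G) ↔ x ∈ P ⊔ Sh S H := fun x => by rw [hT]
  have hfin : CaseAEnd.Fin T F R (Sh S H) φ.1 k :=
    { pos := hpos
      FT := by rw [hT]; exact s.lf.leF.trans le_sup_left
      ST := by rw [hT]; exact le_sup_right
      RS := s.R_le
      Fn := fun x hx => s.T_norm_F x ((hmem x).mp hx)
      Rn := fun x hx => S_norm_R s.beta s.sylS (le_sup_left.trans s.VS) x hx.1
      elemR := s.beta.elemR
      gen := fun x hx => s.gen ((hmem x).mp hx)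
      inf := fun x => s.F_inf
      φS := φ.2
      genφ := by
        intro x hx
        obtain ⟨j, hj⟩ := hgen' ⟨x, hx⟩
        refine ⟨x * (φ.1 ^ j)⁻¹, ?_, j, by group⟩
        have h1 : χ (⟨x, hx⟩ * (φ ^ j)⁻¹) = 1 := by
          rw [map_mul, map_inv, map_zpow, hj, mul_inv_cancel]
        rw [hχ] at h1
        simpa using h1
      dvd := hdvd
      inv := fun x hx hxx => s.V_norm (s.inv x hx.1 hxx) hx.2
      notype := fun r hr hr1 g => s.notype hel lb hr hr1 g }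
  exact hfin.false hG

end Sit

end Cfsg.Agent.OddCyclic.CaseATE
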