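import Cfsg.Agent.OddCyclic.CaseASix

/-!
# S0342, component case A: involutions commuting with certain elements of odd prime order
-/

set_option autoImplicit false

namespace Cfsg.Agent.OddCyclic.CaseAType

open Subgroup
open Cfsg.Agent.LieExceptional Cfsg.Agent.LieExceptional.CITDefs
open Cfsg.Agent.LieExceptional.CITBasic
open Cfsg.Agent.OddCyclic.T1Defs
open Cfsg.Agent.OddCyclic.CompBasic Cfsg.Agent.OddCyclic.CompStandard
open Cfsg.Agent.OddCyclic.CaseADefs Cfsg.Agent.OddCyclic.CaseABase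

variable {G : Type*} [Group G] [Finite G] {p : ℕ} {K R : Subgroup G}

theorem normR (h : Std p K) (hR : IsSyl2 (centralizer (K : Set G)) R) {u : G}
    (hu : ∀ r ∈ R, u * r * u⁻¹ ∈ R) : u ∈ normalizer (K : Set G) := by
  obtain ⟨t, htR, ht2⟩ := exists_involution_of_ne_bot hR.two (sylR_ne_bot h hR)
  have h1 : u * t * u⁻¹ ∈ cj 1 (centralizer (K : Set G)) := by
    rw [cj_one]; exact hR.le (hu t htR)
  have h2 := mem_of_cj h (by rw [orderOf_conj, ht2]) h1 (conj_mem_cj (hR.le htR))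
  rwa [inv_one, one_mul] at h2

/-- `R` is a Sylow 2-subgroup of `C(x)` for `x ∈ K` if all 2-elements of `C_M(x)` lie in `Y`. -/
theorem syl (h : Std p K) (hR : IsSyl2 (centralizer (K : Set G)) R) {x : G} (hxK : x ∈ K)
    (hM : ∀ s ∈ normalizer (K : Set G), (∃ n : ℕ, s ^ 2 ^ n = 1) → s * x = x * s →
      s ∈ centralizer (K : Set G)) : IsSyl2 (centralizer ({x} : Set G)) R := by
  have hpf : Fact (Nat.Prime 2) := ⟨Nat.prime_two⟩
  refine ⟨fun r hr => mem_centralizer_singleton_iff.mpr (comm_KY x hxK r (hR.le hr)).symm, hR.two,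
    fun U hU hU2 hRU => ?_⟩
  refine Cfsg.Agent.Blocks.SylowIn.eq_of_normalizer_inf_le (p := 2) hU2 hRU ?_
  rintro u ⟨huN, huU⟩
  have h2 := mem_of_pow_two hU2 huU
  have huM := normR h hR (forall_of_mem_normalizer huN)
  have huY := hM u huM h2 (mem_centralizer_singleton_iff.mp (hU huU))
  exact mem_isSyl2 hR huY h2 (forall_of_mem_normalizer huN)

/-- Every involution commuting with an element of order `r` is conjugate into `R`. -/
theorem ttype (h : Std p K) (hR : IsSyl2 (centralizer (K : Set G)) R) {r : ℕ} (hr : r.Prime)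
    (hr2 : r ≠ 2) {x : G} (hxK : x ∈ K) (hxr : orderOf x = r)
    (hM : ∀ s ∈ normalizer (K : Set G), (∃ n : ℕ, s ^ 2 ^ n = 1) → s * x = x * s →
      s ∈ centralizer (K : Set G)) {y z : G} (hy : orderOf y = r) (hz : orderOf z = 2)
    (hyz : y * z = z * y) : ∃ g, g * z * g⁻¹ ∈ R := by
  have hS := syl h hR hxK hM
  obtain ⟨l, -, hl⟩ := CaseASix.conj_zpowers h.cyc (L := ⊤) hr hr2 (mem_top x) (mem_top y) hxr hy
  have h1 : (l * y * l⁻¹) * (l * z * l⁻¹) = (l * z * l⁻¹) * (l * y * l⁻¹) := by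
    calc (l * y * l⁻¹) * (l * z * l⁻¹) = l * (y * z) * l⁻¹ := by group
      _ = l * (z * y) * l⁻¹ := by rw [hyz]
      _ = _ := by group
  -- `x ∈ ⟨l y l⁻¹⟩`
  have hrf : Fact r.Prime := ⟨hr⟩
  have h2 : zpowers (l * y * l⁻¹) = zpowers x := by
    apply Subgroup.eq_of_le_of_card_ge (zpowers_le.mpr hl)
    rw [Nat.card_zpowers, Nat.card_zpowers, orderOf_conj, hxr, hy]
  have h3 : x ∈ zpowers (l * y * l⁻¹) := by rw [h2]; exact mem_zpowers x
  obtain ⟨m, hm⟩ := h3
  have h4 : Commute x (l * z * l⁻¹) := by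
    have h5 : Commute ((l * y * l⁻¹) ^ m) (l * z * l⁻¹) := (show Commute _ _ from h1).zpow_left m
    have h6 : (l * y * l⁻¹) ^ m = x := hm
    rwa [h6] at h5
  have hzo : orderOf (l * z * l⁻¹) = 2 := by rw [orderOf_conj, hz]
  obtain ⟨Q, hQ, hzQ⟩ := exists_isSyl2 (centralizer ({x} : Set G)) (zpowers (l * z * l⁻¹))
    (zpowers_le.mpr (mem_centralizer_singleton_iff.mpr h4.symm)) (isPGroup_zpowers hzo)
  obtain ⟨c, -, hc⟩ := isSyl2_conj hQ hS
  refine ⟨c * l, ?_⟩
  rw [hc]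
  have h5 := conj_mem_cj (g := c) (hzQ (mem_zpowers (l * z * l⁻¹)))
  have e : c * l * z * (c * l)⁻¹ = c * (l * z * l⁻¹) * c⁻¹ := by group
  rw [e]; exact h5

omit [Finite G] in
/-- descent: squares -/
theorem mem_of_sq {Y : Subgroup G} {M : Subgroup G} {x : G}
    (hk : ∀ a ∈ M, a * a ∈ Y → a * x = x * a → a ∈ Y) :
    ∀ s ∈ M, (∃ n : ℕ, s ^ 2 ^ n = 1) → s * x = x * s → s ∈ Y := by
  have key : ∀ n : ℕ, ∀ s ∈ M, s ^ 2 ^ n = 1 → s * x = x * s → s ∈ Y := by
    intro n
    induction n with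
    | zero => intro s _ h1 _; rw [pow_zero, pow_one] at h1; rw [h1]; exact Y.one_mem
    | succ n ih =>
      intro s hs h1 h2
      refine hk s hs ?_ h2
      refine ih (s * s) (M.mul_mem hs hs) ?_ ?_
      · rw [← pow_two, ← pow_mul, ← pow_succ']; exact h1
      · calc s * s * x = s * (s * x) := by group
          _ = s * (x * s) := by rw [h2]
          _ = (s * x) * s := by group
          _ = x * s * s := by rw [h2]
          _ = x * (s * s) := by group
  rintro s hs ⟨n, hn⟩ h2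
  exact key n s hs hn h2

end Cfsg.Agent.OddCyclic.CaseAType
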