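import Cfsg.Agent.OddCyclic.CaseAPumpL2
import Cfsg.Agent.OddCyclic.CaseAField
import Cfsg.Agent.OddCyclic.CaseAAlpha
import Cfsg.Agent.OddCyclic.CaseATE
import Cfsg.Agent.OddCyclic.CaseAType

/-!
# S0342, component case A, step A4(xi)(1): the involutions of `S` lie in `V`
-/

set_option autoImplicit false
set_option linter.unusedSectionVars false

namespace Cfsg.Agent.OddCyclic.CaseAInvol

open Subgroup Cfsg
open Cfsg.Agent.LieExceptional Cfsg.Agent.LieExceptional.CITDefs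
open Cfsg.Agent.LieExceptional.CITBasic
open Cfsg.Agent.OddCyclic.T1Tools Cfsg.Agent.OddCyclic.T1Defs
open Cfsg.Agent.OddCyclic.CompBasic Cfsg.Agent.OddCyclic.CompStandard
open Cfsg.Agent.OddCyclic.CaseADefs Cfsg.Agent.OddCyclic.CaseABase
open Cfsg.Agent.OddCyclic.CaseACount Cfsg.Agent.OddCyclic.CaseAFour
open Cfsg.Agent.OddCyclic.CaseAKer
open Cfsg.Agent.OddCyclic.CaseAFive Cfsg.Agent.OddCyclic.CaseANine
open Cfsg.Agent.OddCyclic.CaseALayDefs Cfsg.Agent.OddCyclic.CaseAField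
open Cfsg.Agent.OddCyclic.CaseAAlpha Cfsg.Agent.OddCyclic.CaseATypes
open Cfsg.Agent.OddCyclic.CaseATE (Sh)

variable {G : Type*} [Group G] [Finite G] {K R E H : Subgroup G} {q : ℕ} {S P F : Subgroup G}

/-- The situation of (xi)(1). -/
structure Data (K R E H : Subgroup G) (q : ℕ) (S P F : Subgroup G) : Prop where
  std : Std 3 K
  kz : ∀ J : Subgroup G, J ≠ ⊤ → IsQuasisimple J → PumpMain.KZero (J ⧸ center J)
  beta : Beta K R E H q
  l3 : L2K3 K q
  ta : TA K
  big : 16 ≤ q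
  sylS : IsSyl2 (normalizer (K : Set G)) S
  VS : R ⊔ E ≤ S
  five : Five K R E H q S P
  lf : LayF P R E H q F
  ne : P ≠ R ⊔ E

namespace Data

theorem norm_P (s : Data K R E H q S P F) : ∀ x ∈ Sh S H, ∀ y ∈ P, x * y * x⁻¹ ∈ P :=
  fun x hx => s.five.S_norm x hx.1 hx.2

theorem norm_F (s : Data K R E H q S P F) : ∀ x ∈ Sh S H, ∀ y ∈ F, x * y * x⁻¹ ∈ F := by
  intro x hx
  have h1 : F.map (MulAut.conj x).toMonoidHom ≤ F := by
    nth_rewrite 1 [s.lf.gen]
    rw [MonoidHom.map_closure, closure_le]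
    rintro _ ⟨z, ⟨y, hy, k, hk, rfl⟩, rfl⟩
    rw [s.lf.gen]
    refine subset_closure ⟨x * y * x⁻¹, s.norm_P x hx y hy, x * k * x⁻¹,
      forall_of_mem_normalizer hx.2 k hk, ?_⟩
    simp only [MulEquiv.coe_toMonoidHom, MulAut.conj_apply]
    group
  intro y hy
  exact h1 ⟨y, hy, rfl⟩

/-- there is `y ∈ F` with `1 ≠ [y, t] ∈ E` for all `t` in `R#` -/
theorem exists_y (s : Data K R E H q S P F) : ∃ y ∈ F, y ∉ E ∧ ∀ t ∈ R, y * t * y⁻¹ * t⁻¹ ∈ E := by
  have hpf : Fact (Nat.Prime 2) := ⟨Nat.prime_two⟩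
  obtain ⟨x, hxP, hxV, hxn⟩ : ∃ x ∈ P, x ∉ R ⊔ E ∧
      x ∈ normalizer ((R ⊔ E : Subgroup G) : Set G) := by
    by_contra hno
    push Not at hno
    apply s.ne
    refine Cfsg.Agent.Blocks.SylowIn.eq_of_normalizer_inf_le (p := 2) s.five.syl.two s.five.V_le ?_
    rintro x ⟨hxn, hxP⟩
    by_contra hxV
    exact hno x hxP hxV hxn
  obtain ⟨y, hy, r, hr, rfl⟩ := s.lf.sup x hxP
  have hyn : y ∈ normalizer ((R ⊔ E : Subgroup G) : Set G) := by
    have h1 : r ∈ normalizer ((R ⊔ E : Subgroup G) : Set G) :=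
      Subgroup.le_normalizer (mem_sup_left hr)
    have h2 : (y * r) * r⁻¹ ∈ normalizer ((R ⊔ E : Subgroup G) : Set G) :=
      Subgroup.mul_mem _ hxn (Subgroup.inv_mem _ h1)
    rwa [mul_inv_cancel_right] at h2
  refine ⟨y, hy, fun hyE => hxV (Subgroup.mul_mem _ (mem_sup_right hyE) (mem_sup_left hr)), ?_⟩
  intro t ht
  refine F_inf_V s.beta s.lf ?_ ?_
  · have h1 := s.lf.normF t (s.five.V_le (mem_sup_left ht)) _ (F.inv_mem hy)
    have e : y * t * y⁻¹ * t⁻¹ = y * (t * y⁻¹ * t⁻¹) := by group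
    rw [e]; exact F.mul_mem hy h1
  · exact Subgroup.mul_mem _ (forall_of_mem_normalizer hyn t (mem_sup_left ht))
      (Subgroup.inv_mem _ (mem_sup_left ht))

/-- Step A: for a field involution `a ∈ Ŝ` there is `x ∈ F` commuting with `a` with `[x, t] = e`, where
`1 ≠ e ∈ C_E(a)`. -/
theorem exists_x (s : Data K R E H q S P F) {a t : G} (ha : a ∈ Sh S H) (haa : a * a = 1)
    (haV : a ∉ R ⊔ E) (ht : t ∈ R) (ht1 : t ≠ 1) (hat : a * t = t * a) :
    ∃ x ∈ P, a * x = x * a ∧ ∃ e ∈ E, e ≠ 1 ∧ a * e = e * a ∧ x * t * x⁻¹ = e * t := by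
  have haM := s.sylS.le ha.1
  have haK : a ∉ K ⊔ centralizer (K : Set G) := fun hh =>
    haV (S_inf_KY s.beta s.sylS s.VS ha.1 hh)
  have hES : E ≤ S := le_sup_right.trans s.VS
  -- an element `e ∈ C_E(a)`
  obtain ⟨e, he, he2, hec⟩ := CaseATools.exists_central_involution s.sylS.two hES
    (S_norm_E s.beta s.sylS hES) (by
      intro hb
      have h1 := s.beta.bor.cardE
      rw [hb, Subgroup.card_bot] at h1
      have := s.big
      omega)
  have he1 : e ≠ 1 := ne_one_of_orderOf he2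
  have hae : a * e = e * a := hec a ha.1
  have htP : t ∈ P := s.five.V_le (mem_sup_left ht)
  obtain ⟨y, hy, hyE, hyc⟩ := s.exists_y
  have hy1 : y * t * y⁻¹ * t⁻¹ ≠ 1 := by
    intro h1
    apply hyE
    refine s.lf.centF t ht ht1 y hy ?_
    have h2 : y * t * y⁻¹ = t := mul_inv_eq_one.mp h1
    exact mul_inv_eq_iff_eq_mul.mp h2
  obtain ⟨k, hk, hke⟩ := H_trans_E s.beta (hyc t ht) hy1 he he1
  -- `x = k y k⁻¹`
  have hkt : k * t = t * k := comm_KY k (s.beta.bor.leH hk) t (s.beta.sylR.le ht)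
  set x := k * y * k⁻¹ with hx
  have hxF : x ∈ F := s.lf.HF k hk y hy
  have hxt : x * t * x⁻¹ = e * t := by
    have h1 : k⁻¹ * t * k = t := by
      calc k⁻¹ * t * k = k⁻¹ * (t * k) := by group
        _ = k⁻¹ * (k * t) := by rw [hkt]
        _ = t := by group
    have h2 : k * t⁻¹ * k⁻¹ = t⁻¹ := by
      calc k * t⁻¹ * k⁻¹ = k * (k⁻¹ * t * k)⁻¹ * k⁻¹ := by rw [h1]
        _ = t⁻¹ := by group
    calc x * t * x⁻¹ = k * y * (k⁻¹ * t * k) * y⁻¹ * k⁻¹ := by rw [hx]; group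
      _ = k * (y * t * y⁻¹ * t⁻¹) * k⁻¹ * (k * t * k⁻¹) := by rw [h1]; group
      _ = e * (k * t * k⁻¹) := by rw [hke]
      _ = e * t := by rw [hkt]; group
  -- conjugation by `a`
  have haxF : a * x * a⁻¹ ∈ F := s.norm_F a ha x hxF
  have hta : a * t * a⁻¹ = t := by rw [hat]; group
  have haxt : (a * x * a⁻¹) * t * (a * x * a⁻¹)⁻¹ = e * t := by
    have h1 : a⁻¹ * t * a = t := by
      calc a⁻¹ * t * a = a⁻¹ * (t * a) := by group
        _ = a⁻¹ * (a * t) := by rw [hat]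
        _ = t := by group
    have h2 : a * e * a⁻¹ = e := by rw [hae]; group
    calc (a * x * a⁻¹) * t * (a * x * a⁻¹)⁻¹ = a * (x * (a⁻¹ * t * a) * x⁻¹) * a⁻¹ := by group
      _ = (a * e * a⁻¹) * (a * t * a⁻¹) := by rw [h1, hxt]; group
      _ = e * t := by rw [h2, hta]
  set e' := x⁻¹ * (a * x * a⁻¹) with he'
  have he'E : e' ∈ E := by
    refine s.lf.centF t ht ht1 e' (F.mul_mem (F.inv_mem hxF) haxF) ?_
    have h1 : e' * t * e'⁻¹ = t := by
      calc e' * t * e'⁻¹ = x⁻¹ * ((a * x * a⁻¹) * t * (a * x * a⁻¹)⁻¹) * x := by rw [he']; group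
        _ = x⁻¹ * (x * t * x⁻¹) * x := by rw [haxt, hxt]
        _ = t := by group
    exact mul_inv_eq_iff_eq_mul.mp h1
  have hax : a * x * a⁻¹ = x * e' := by rw [he']; group
  have hainv : a⁻¹ = a := inv_eq_of_mul_eq_one_right haa
  have haa2 : ∀ z : G, a * (a * z * a⁻¹) * a⁻¹ = z := by
    intro z
    calc a * (a * z * a⁻¹) * a⁻¹ = (a * a) * z * (a * a)⁻¹ := by group
      _ = z := by rw [haa]; group
  have hae' : a * e' = e' * a := by
    have h1 : e' * (a * e' * a⁻¹) = 1 := by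
      have h2 : x = x * (e' * (a * e' * a⁻¹)) := by
        calc x = a * (a * x * a⁻¹) * a⁻¹ := (haa2 x).symm
          _ = a * (x * e') * a⁻¹ := by rw [hax]
          _ = (a * x * a⁻¹) * (a * e' * a⁻¹) := by group
          _ = x * (e' * (a * e' * a⁻¹)) := by rw [hax]; group
      have h3 : x * 1 = x * (e' * (a * e' * a⁻¹)) := by rw [mul_one]; exact h2
      exact (mul_left_cancel h3).symm
    have h2 : a * e' * a⁻¹ = e' := by
      have h3 : e'⁻¹ = e' := inv_eq_of_mul_eq_one_right (s.beta.bor.elem e' he'E)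
      rw [← inv_eq_of_mul_eq_one_right h1, h3]
    exact mul_inv_eq_iff_eq_mul.mp h2
  have hsq : a * a ∈ centralizer (K : Set G) := by rw [haa]; exact one_mem _
  obtain ⟨e₁, he₁, he₁'⟩ := ((s.l3.onE E s.beta.sylE a haM
    (S_norm_E s.beta s.sylS hES a ha.1) hsq haK).2 e' he'E).mp hae'
  have hn1 := S_norm_E s.beta s.sylS hES a ha.1 e₁ he₁
  refine ⟨x * e₁, P.mul_mem (s.lf.leF hxF) (s.five.V_le (mem_sup_right he₁)), ?_, e, he, he1, hae, ?_⟩
  · have h1 : a * (x * e₁) * a⁻¹ = x * e₁ := by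
      calc a * (x * e₁) * a⁻¹ = (a * x * a⁻¹) * (a * e₁ * a⁻¹) := by group
        _ = x * e₁ * ((a * e₁ * a⁻¹) * (a * e₁ * a⁻¹)) := by rw [hax, he₁']; group
        _ = x * e₁ := by rw [s.beta.bor.elem _ hn1, mul_one]
    exact mul_inv_eq_iff_eq_mul.mp h1
  · have h1 : t * e₁ = e₁ * t := s.beta.comm t ht e₁ he₁
    have h2 : e₁ * t * e₁⁻¹ = t := by rw [← h1]; group
    calc x * e₁ * t * (x * e₁)⁻¹ = x * (e₁ * t * e₁⁻¹) * x⁻¹ := by group
      _ = e * t := by rw [h2, hxt]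

/-- Steps B, C: a field involution `a ∈ Ŝ` is conjugate into `R`. -/
theorem type_of_field (s : Data K R E H q S P F) {a t : G} (ha : a ∈ Sh S H) (haa : a * a = 1)
    (haV : a ∉ R ⊔ E) (ht : t ∈ R) (ht1 : t ≠ 1) (hat : a * t = t * a) : ∃ g, g * a * g⁻¹ ∈ R := by
  have h := s.std
  have hG := h.cyc
  have haM := s.sylS.le ha.1
  have haK : a ∉ K ⊔ centralizer (K : Set G) := fun hh =>
    haV (S_inf_KY s.beta s.sylS s.VS ha.1 hh)
  have hsq : a * a ∈ centralizer (K : Set G) := by rw [haa]; exact one_mem _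
  have ha1 : a ≠ 1 := by
    rintro rfl
    exact haV (one_mem _)
  have ha2 : orderOf a = 2 := CaseABase.orderOf_eq_two ha1 haa
  have htY := s.beta.sylR.le ht
  have ht2 : orderOf t = 2 := CaseABase.orderOf_eq_two ht1 (s.beta.elemR t ht)
  obtain ⟨x, hxP, hax, e, he, he1, hae, hxt⟩ := s.exists_x ha haa haV ht ht1 hat
  set L := K ⊓ centralizer ({a} : Set G) with hL
  -- `x` does not normalise `L`
  have hxL : x ∉ normalizer (L : Set G) := by
    intro hxn
    obtain ⟨y, hyK, hya, hy3⟩ := exists_three s.ta.toTF s.beta.l2 haM hsq haK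
    have hyL : y ∈ L := ⟨hyK, mem_centralizer_singleton_iff.mpr hya⟩
    have h1 : x⁻¹ * y * x ∈ L := by
      have := forall_of_mem_normalizer (inv_mem hxn) y hyL
      rwa [inv_inv] at this
    have h2 : (x⁻¹ * y * x) * t = t * (x⁻¹ * y * x) := comm_KY _ h1.1 t htY
    have h3 : y * (e * t) = (e * t) * y := by
      rw [← hxt]
      calc y * (x * t * x⁻¹) = x * ((x⁻¹ * y * x) * t) * x⁻¹ := by group
        _ = x * (t * (x⁻¹ * y * x)) * x⁻¹ := by rw [h2]
        _ = _ := by group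
    have h4 : y * t = t * y := comm_KY y hyK t htY
    have h5 : y * e = e * y := by
      have h6 : y * e * t = e * y * t := by
        calc y * e * t = y * (e * t) := by group
          _ = e * (t * y) := by rw [h3]; group
          _ = e * y * t := by rw [← h4]; group
      exact mul_right_cancel h6
    have h6 : y ∈ E := s.beta.bor.cent e he he1 y hyK h5
    have h7 : y * y = 1 := s.beta.bor.elem y h6
    have h8 : orderOf y ∣ 2 := orderOf_dvd_of_pow_eq_one (by rw [pow_two]; exact h7)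
    rw [hy3] at h8
    omega
  -- `L` is simple
  obtain ⟨F₀, iF, iFt, hq, ⟨eL⟩⟩ := s.l3.iso a haM hsq haK
  obtain ⟨n, hn⟩ := s.beta.l2.pow
  have hF₀ : ∃ m, Fintype.card F₀ = 2 ^ m := by
    have h1 : Fintype.card F₀ ∣ 2 ^ n := by
      rw [← hn, hq, pow_two]; exact dvd_mul_right _ _
    obtain ⟨m, -, hm⟩ := (Nat.dvd_prime_pow Nat.prime_two).mp h1
    exact ⟨m, hm⟩
  obtain ⟨m, hm⟩ := hF₀
  have h16 := s.big
  have h4 : 3 < Fintype.card F₀ := by
    by_contra h5
    have h6 : Fintype.card F₀ ≤ 3 := by omega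
    have : Fintype.card F₀ ^ 2 ≤ 3 ^ 2 := Nat.pow_le_pow_left h6 2
    omega
  have hLs : IsSimpleGroup L := by
    have := TwoFusion.SLTwoFacts.isSimpleGroup_psl (F := F₀) h4
    exact eL.isSimpleGroup
  have h3L : 3 ∣ Nat.card L := by
    obtain ⟨y, hyK, hya, hy3⟩ := exists_three s.ta.toTF s.beta.l2 haM hsq haK
    rw [← hy3]
    exact L.orderOf_dvd_natCard (x := y) ⟨hyK, mem_centralizer_singleton_iff.mpr hya⟩
  have hLq : IsQuasisimple L := by
    have hna : ¬ IsMulCommutative L := by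
      intro hc
      -- `L` abelian simple: then of prime order 3
      have h1 : ∀ u v : L, u * v = v * u := fun u v => hc.is_comm.comm u v
      obtain ⟨y, hyK, w, hwK, hy3, hwy⟩ := s.ta.inv a haM hsq haK
      have h2 := h1 ⟨w, hwK⟩ ⟨y, hyK⟩
      have h3 : w * y = y * w := congrArg Subtype.val h2
      have h5 : y = y⁻¹ := by rw [← hwy, h3]; group
      have h6 : y * y = 1 := by
        nth_rewrite 1 [h5]; group
      have h8 : orderOf y ∣ 2 := orderOf_dvd_of_pow_eq_one (by rw [pow_two]; exact h6)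
      rw [hy3] at h8
      omega
    have hcen : center L = ⊥ := by
      rcases (inferInstance : (center L).Normal).eq_bot_or_eq_top with h1 | h1
      · exact h1
      · exfalso
        apply hna
        exact ⟨⟨fun u v => (mem_center_iff.mp (h1 ▸ mem_top v) u)⟩⟩
    refine ⟨?_, ?_⟩
    · refine ⟨?_⟩
      rcases (inferInstance : (_root_.commutator L).Normal).eq_bot_or_eq_top with h1 | h1
      · exfalso
        apply hna
        refine ⟨⟨fun u v => ?_⟩⟩
        have h2 : (_root_.commutator L) ≤ center L := by rw [h1]; exact bot_le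
        open scoped commutatorElement in
        have h3 : ⁅u, v⁆ ∈ _root_.commutator L :=
          Subgroup.commutator_mem_commutator (mem_top _) (mem_top _)
        rw [h1, Subgroup.mem_bot, commutatorElement_eq_one_iff_mul_comm] at h3
        exact h3
      · exact h1
    · have h9 : IsSimpleGroup (L ⧸ (⊥ : Subgroup L)) :=
        (QuotientGroup.quotientBot (G := L)).isSimpleGroup
      exact (QuotientGroup.quotientMulEquivOfEq hcen).isSimpleGroup
  -- `C(t) ≤ M` and `L` is normal in `C(a) ∩ C(t)`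
  have hCt : centralizer ({t} : Set G) ≤ normalizer (K : Set G) := h.le_normalizer ht2 htY
  have hnL : ∀ y ∈ centralizer ({a} : Set G), y ∈ centralizer ({t} : Set G) →
      ∀ z ∈ L, y * z * y⁻¹ ∈ L := by
    intro y hya hyt z hz
    refine Subgroup.mem_inf.mpr ⟨forall_of_mem_normalizer (hCt hyt) z hz.1, ?_⟩
    exact Subgroup.mul_mem _ (Subgroup.mul_mem _ hya hz.2) (Subgroup.inv_mem _ hya)
  have hLt : L ≤ centralizer ({t} : Set G) := fun z hz =>
    mem_centralizer_singleton_iff.mpr (comm_KY z hz.1 t htY)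
  have hzt : centralizer (zpowers t : Set G) = centralizer ({t} : Set G) := by
    rw [Subgroup.zpowers_eq_closure, Subgroup.centralizer_closure]
  have hcmp : Cmp (centralizer ({a} : Set G) ⊓ centralizer (zpowers t : Set G)) L := by
    rw [hzt]
    refine ⟨le_inf inf_le_right hLt, ?_, ?_⟩
    · refine Subgroup.Normal.isSubnormal ?_
      refine Subgroup.normal_subgroupOf_of_le_normalizer fun y hy => ?_
      exact mem_normalizer_of_forall (hnL y hy.1 hy.2)
    · exact Cfsg.Agent.SignalizersComponents.Components.isQuasisimple_of_mulEquiv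
        (Subgroup.subgroupOfEquivOfLe (le_inf inf_le_right hLt)).symm hLq
  have htCa : t ∈ centralizer ({a} : Set G) := mem_centralizer_singleton_iff.mpr hat.symm
  have h1 := hcmp.lbal hG (isPGroup_zpowers ht2) (zpowers_le.mpr htCa)
  obtain ⟨J, hJ, h3J, hLJ⟩ := exists_cmp hG hLq h1 Nat.prime_three (by norm_num) h3L
  have hJn := hJ.le_normalizer hG Nat.prime_three (by norm_num) h3J
  have hJL : L ≠ J := by
    intro h2
    apply hxL
    rw [h2]
    exact hJn (mem_centralizer_singleton_iff.mpr hax.symm)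
  have hJt : J ≠ ⊤ := by
    intro h2
    apply haK
    apply mem_sup_right
    rw [mem_centralizer_iff]
    intro k _
    have h3 : k ∈ centralizer ({a} : Set G) := hJ.le (h2 ▸ mem_top k)
    exact mem_centralizer_singleton_iff.mp h3
  have hcard := CaseAPumpL2.card_eq hG s.kz ht2 hJt hJ.quasi (hJn htCa) hLJ hJL
    (fun z hz => comm_KY z hz.1 t htY)
    (fun y hy hyt z hz => hnL y (hJ.le hy) (mem_centralizer_singleton_iff.mpr hyt) z hz)
    hm hq h16 eL
  have hJcard : Nat.card J = q * (q ^ 2 - 1) := by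
    rcases hcard with h2 | ⟨h2, h5⟩
    · exact h2
    · exfalso
      have h6 := h.max a ha2 J hJ h3J
      rw [s.l3.card, h5, h2] at h6
      norm_num at h6
  -- a prime divisor of `q + 1`
  obtain ⟨l, hl, hlq⟩ := Nat.exists_prime_and_dvd (n := q + 1) (by omega)
  have hlf : Fact l.Prime := ⟨hl⟩
  have hl2 : l ≠ 2 := by
    rintro rfl
    have h2 := even_q s.beta.l2
    have h5 : Even (q + 1) := even_iff_two_dvd.mpr hlq
    rw [Nat.even_add_one] at h5
    exact h5 h2
  have hqq : q ^ 2 - 1 = (q + 1) * (q - 1) := by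
    have := Nat.sq_sub_sq q 1
    simpa using this
  have hlK : l ∣ Nat.card K := by
    rw [s.l3.card, hqq]
    exact Dvd.dvd.mul_left (Dvd.dvd.mul_right hlq _) _
  have hlJ : l ∣ Nat.card J := by
    rw [hJcard, hqq]
    exact Dvd.dvd.mul_left (Dvd.dvd.mul_right hlq _) _
  obtain ⟨⟨w, hwK⟩, hw⟩ := exists_prime_orderOf_dvd_card' (G := K) l hlK
  obtain ⟨⟨y, hyJ⟩, hy⟩ := exists_prime_orderOf_dvd_card' (G := J) l hlJ
  rw [Subgroup.orderOf_mk] at hw hy
  have hya : y * a = a * y := mem_centralizer_singleton_iff.mp (hJ.le hyJ)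
  refine CaseAType.ttype h s.beta.sylR hl hl2 hwK hw ?_ hy ha2 hya
  exact CaseAType.mem_of_sq fun b hb hbb hbw => s.l3.k4 l hl hlq w hwK hw b hb hbb hbw

/-- **(xi)(1)**: the involutions of `S` lie in `V` -/
theorem inv (s : Data K R E H q S P F)
    (split : ∀ x ∈ S, ∃ e ∈ E, ∃ x' ∈ Sh S H, x = e * x') {a : G} (haS : a ∈ S)
    (haa : a * a = 1) : a ∈ R ⊔ E := by
  have h := s.std
  by_contra haV
  have hES : E ≤ S := le_sup_right.trans s.VS
  have hRS : R ≤ S := le_sup_left.trans s.VS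
  -- a central involution `t` of `S` in `R`
  obtain ⟨t, ht, ht2, htc⟩ := CaseATools.exists_central_involution s.sylS.two hRS
    (S_norm_R s.beta s.sylS hRS) (sylR_ne_bot h s.beta.sylR)
  have ht1 : t ≠ 1 := ne_one_of_orderOf ht2
  have htY := s.beta.sylR.le ht
  -- reduction to `a ∈ Ŝ`
  obtain ⟨e, he, b, hb, rfl⟩ := split a haS
  have hbV : b ∉ R ⊔ E := fun h1 => haV (Subgroup.mul_mem _ (mem_sup_right he) h1)
  have hbn := S_norm_E s.beta s.sylS hES b hb.1 e he
  have hbbE : b * b ∈ E := by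
    have h1 : b * b = (e * (b * e * b⁻¹))⁻¹ := by
      apply eq_inv_of_mul_eq_one_right
      calc e * (b * e * b⁻¹) * (b * b) = e * b * (e * b) := by group
        _ = 1 := haa
    rw [h1]
    exact E.inv_mem (E.mul_mem he hbn)
  -- `E ∩ N(H) = 1`
  have hEH : ∀ x ∈ E, x ∈ normalizer (H : Set G) → x = 1 := by
    intro x hx hxn
    by_contra hx1
    obtain ⟨k, hk, hk1⟩ : ∃ k ∈ H, k ≠ 1 := by
      by_contra hno
      push Not at hno
      have h2 : H = ⊥ := (Subgroup.eq_bot_iff_forall H).mpr hno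
      have h3 := s.beta.bor.cardH
      rw [h2, Subgroup.card_bot] at h3
      have h4 := s.beta.l2.four
      omega
    have h2 := forall_of_mem_normalizer hxn k hk
    have h3 : x * k * x⁻¹ * k⁻¹ ∈ H := H.mul_mem h2 (H.inv_mem hk)
    have h4 : x * k * x⁻¹ * k⁻¹ ∈ E := by
      have h5 := s.beta.bor.norm k hk _ (E.inv_mem hx)
      have e1 : x * k * x⁻¹ * k⁻¹ = x * (k * x⁻¹ * k⁻¹) := by group
      rw [e1]; exact E.mul_mem hx h5
    have h5 := H_inf s.beta.l2 s.beta.bor h3 h4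
    have h6 : x * k = k * x := mul_inv_eq_iff_eq_mul.mp (mul_inv_eq_one.mp h5)
    exact hk1 (H_inf s.beta.l2 s.beta.bor hk
      (s.beta.bor.cent x hx hx1 k (s.beta.bor.leH hk) h6.symm))
  have hbb : b * b = 1 := hEH _ hbbE (Subgroup.mul_mem _ hb.2 hb.2)
  have hbM := s.sylS.le hb.1
  have hbK : b ∉ K ⊔ centralizer (K : Set G) := fun hh =>
    hbV (S_inf_KY s.beta s.sylS s.VS hb.1 hh)
  have hb1 : b ≠ 1 := by
    rintro rfl
    exact hbV (one_mem _)
  have hb2 : orderOf b = 2 := CaseABase.orderOf_eq_two hb1 hbb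
  have hbt : b * t = t * b := htc b hb.1
  -- `b` is conjugate into `R`
  obtain ⟨g, hg⟩ := s.type_of_field hb hbb hbV ht ht1 hbt
  have hbY : b ∈ cj g⁻¹ (centralizer (K : Set G)) := by
    rw [mem_cj, inv_inv]; exact s.beta.sylR.le hg
  have hgM : g⁻¹ ∉ normalizer (K : Set G) := by
    intro h1
    apply hbK
    apply mem_sup_right
    have h2 := normal_cent K _ h1 _ (s.beta.sylR.le hg)
    have e1 : g⁻¹ * (g * b * g⁻¹) * g⁻¹⁻¹ = b := by group
    rwa [e1] at h2
  obtain ⟨hα1, -, hα3, -⟩ := alpha h s.beta.l2 s.ta hgM hbY hbM hb2 hbK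
  have hR2 := hα1 R s.beta.sylR
  -- the same for `t b`
  have htbS : t * b ∈ Sh S H := by
    refine Subgroup.mul_mem _ ⟨hRS ht, mem_normalizer_of_forall fun x hx => ?_⟩ hb
    have h1 := comm_KY x (s.beta.bor.leH hx) t htY
    have e1 : t * x * t⁻¹ = x := by rw [← h1]; group
    rw [e1]; exact hx
  have htbV : t * b ∉ R ⊔ E := by
    intro h1
    apply hbV
    have h2 := Subgroup.mul_mem _ (Subgroup.inv_mem _ (mem_sup_left ht : t ∈ R ⊔ E)) h1
    rwa [inv_mul_cancel_left] at h2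
  have htt := s.beta.elemR t ht
  have htb2 : t * b * (t * b) = 1 := by
    calc t * b * (t * b) = t * (b * t) * b := by group
      _ = (t * t) * (b * b) := by rw [hbt]; group
      _ = 1 := by rw [htt, hbb, one_mul]
  have htbt : t * b * t = t * (t * b) := by
    rw [mul_assoc, hbt]
  obtain ⟨g₂, hg₂⟩ := s.type_of_field htbS htb2 htbV ht ht1 htbt
  -- `R = {1, t}`
  have hRt : ∀ r ∈ R, r = 1 ∨ r = t := by
    intro r hr
    by_cases hr1 : r = 1
    · exact Or.inl hr1
    · right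
      obtain ⟨u, -, hu⟩ := (Nat.card_eq_two_iff' (1 : R)).mp hR2
      have h1 := hu ⟨r, hr⟩ (fun h2 => hr1 (congrArg Subtype.val h2))
      have h2 := hu ⟨t, ht⟩ (fun h2 => ht1 (congrArg Subtype.val h2))
      exact congrArg Subtype.val (h1.trans h2.symm)
  rcases hRt _ hg₂ with h1 | h1
  · have h2 : t * b = 1 := by
      calc t * b = g₂⁻¹ * (g₂ * (t * b) * g₂⁻¹) * g₂ := by group
        _ = 1 := by rw [h1]; group
    exact htbV (h2 ▸ one_mem _)
  · refine hα3 t htY ht2 hbt g₂⁻¹ ?_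
    calc g₂⁻¹ * t * g₂⁻¹⁻¹ = g₂⁻¹ * (g₂ * (t * b) * g₂⁻¹) * g₂⁻¹⁻¹ := by rw [h1]
      _ = t * b := by group

end Data

end Cfsg.Agent.OddCyclic.CaseAInvol
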