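import Cfsg.Agent.OddCyclic.CaseAGrow
import Cfsg.Agent.OddCyclic.CaseAEight
import Cfsg.Agent.OddCyclic.CompStart
import Cfsg.Agent.OddCyclic.CaseAInvol

/-!
# S0342, component type, case A: assembly
-/

set_option autoImplicit false

namespace Cfsg.Agent.OddCyclic.CaseAMain

open Subgroup
open Cfsg.Agent.LieExceptional Cfsg.Agent.LieExceptional.CITDefs
open Cfsg.Agent.LieExceptional.CITBasic
open Cfsg.Agent.OddCyclic.CompBasic Cfsg.Agent.OddCyclic.CompStandard
open Cfsg.Agent.OddCyclic.CaseADefs Cfsg.Agent.OddCyclic.CaseABase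
open Cfsg.Agent.OddCyclic.CaseASix Cfsg.Agent.OddCyclic.CaseAAlpha
open Cfsg.Agent.OddCyclic.CaseATypes Cfsg.Agent.OddCyclic.CaseAField
open Cfsg.Agent.OddCyclic.CaseATS Cfsg.Agent.OddCyclic.CaseAGrow

variable {G : Type*} [Group G] {K : Subgroup G} {q : ℕ}

theorem two_eq_zero {F : Type*} [Field F] [Fintype F] {f : ℕ} (h : 2 ^ f = Fintype.card F ^ 2) :
    (2 : F) = 0 := by
  have h1 : ((Fintype.card F ^ 2 : ℕ) : F) = 0 := by
    rw [Nat.cast_pow, FiniteField.cast_card_eq_zero]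
    simp
  rw [← h] at h1
  push_cast at h1
  by_contra h2
  exact pow_ne_zero f h2 h1

theorem ta (l2 : L2K K q) (l3 : L2K3 K q) (h16 : 16 ≤ q) : TA K where
  toTF := l3.tf h16
  conj := l3.conj
  inv := fun x hx hx2 hx1 => by
    obtain ⟨F₀, i1, i2, hq, ⟨e⟩⟩ := l3.iso x hx hx2 hx1
    obtain ⟨f, hf⟩ := l2.pow
    have h2 : (2 : F₀) = 0 := two_eq_zero (f := f) (by rw [← hf, hq])
    obtain ⟨y, hy, w, hw, h3, h4⟩ := exists_inverted h2 e
    exact ⟨y, hy, w, hw, h3, h4⟩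

variable [Finite G]

/-- the data `R, E, H, S` -/
theorem exists_pre (l2 : L2K K q) (l3 : L2K3 K q) (hb : Big K q) :
    ∃ R E H S : Subgroup G, Pre K R E H S q := by
  obtain ⟨S, hS, -⟩ := exists_isSyl2 (normalizer (K : Set G)) ⊥ bot_le IsPGroup.of_bot
  have hR : IsSyl2 (centralizer (K : Set G)) (S ⊓ centralizer (K : Set G)) :=
    isSyl2_inf hS (centralizer_le_normalizer _) (normal_cent K)
  have hE : IsSyl2 K (S ⊓ K) := isSyl2_inf hS Subgroup.le_normalizer
    fun d hd w hw => forall_of_mem_normalizer hd w hw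
  obtain ⟨H, hB⟩ := l2.borel _ hE
  exact ⟨_, _, H, S, l2, l3, hb, hR, hE, hB, hS, inf_le_left, inf_le_left⟩

/-- `S` Sylow in `G` -/
theorem false_TS [IsSimpleGroup G] {p : ℕ} {R E H S : Subgroup G} (h : Std p K)
    (pr : Pre K R E H S q) {C : Type*} [Group C] {ψ : normalizer (K : Set G) →* C}
    (hψ : Typ K C ψ) (hcrit : CompStart.Crit G)
    (hSE : ¬ ∃ H : Subgroup G, IsStronglyEmbedded H) (hST : IsSyl2 (⊤ : Subgroup G) S)
    (hnab : ¬ ∀ x ∈ S, ∀ y ∈ S, x * y = y * x) : False := by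
  by_cases hal : ∃ g a : G, g ∉ normalizer (K : Set G) ∧ a ∈ cj g (centralizer (K : Set G)) ∧
      a ∈ normalizer (K : Set G) ∧ orderOf a = 2 ∧ a ∉ K ⊔ centralizer (K : Set G)
  · obtain ⟨g, a, hg, haY, haM, ha2, haK⟩ := hal
    have h16 : 16 ≤ q := by
      by_contra h16
      exact haK (inner_of_small pr h16 haM ha2)
    exact false_alpha_end h pr (ta pr.l2 pr.l3 h16) hψ hST hg haY haM ha2 haK
  · have hin : ∀ g a : G, g ∉ normalizer (K : Set G) → a ∈ cj g (centralizer (K : Set G)) →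
        a ∈ normalizer (K : Set G) → orderOf a = 2 → a ∈ K ⊔ centralizer (K : Set G) := by
      intro g a hg haY haM ha2
      by_contra haK
      exact hal ⟨g, a, hg, haY, haM, ha2, haK⟩
    obtain ⟨g, hg, hev⟩ := h.exists_even hcrit hSE
    refine false_beta_end h (CaseACount.beta h pr.l2 pr.big hg hev
      (fun a ha ha2 => hin g a hg ha.1 ha.2 ha2) ?_ pr.sylR pr.sylE pr.bor) pr hψ hST hnab
    intro a ha ha2
    rw [mem_cj]
    refine hin g⁻¹ _ (fun h1 => hg (by simpa using inv_mem h1)) ?_ (mem_cj.mp ha.2) ?_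
    · refine mem_cj.mpr ?_
      have e1 : g⁻¹⁻¹ * (g⁻¹ * a * g) * g⁻¹ = a := by group
      rw [e1]; exact ha.1
    · have := orderOf_conj g⁻¹ a
      rw [inv_inv] at this
      rw [this, ha2]

/-- case A: all but (xi) step (1) -/
theorem false_of_data [IsSimpleGroup G] {R E H S : Subgroup G} (h : Std 3 K)
    (pr : Pre K R E H S q) {C : Type*} [Group C] [Finite C] {ψ : normalizer (K : Set G) →* C}
    (hψ : Typ K C ψ) (h8 : q = 8 → normalizer (K : Set G) ≤ K ⊔ centralizer (K : Set G))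
    (hsec : SecKZ G) (hcrit : CompStart.Crit G)
    (hSE : ¬ ∃ H : Subgroup G, IsStronglyEmbedded H) (hnab : CompStart.NonAb G)
    (hGold : ∀ T : Sylow 2 G, CaseAZero.ZeroBig.Gold T)
    (hinv : ∀ P F : Subgroup G, Grow 3 K R E H S P F q → S ≠ R ⊔ E →
      ∀ s ∈ S, s * s = 1 → s ∈ R ⊔ E) : False := by
  obtain ⟨T, hT, hST⟩ := exists_isSyl2 ⊤ S le_top pr.sylS.two
  by_cases hSe : S = T
  · have hS : IsSyl2 (⊤ : Subgroup G) S := by rw [hSe]; exact hT
    refine false_TS h pr hψ hcrit hSE hS fun hab => ?_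
    obtain ⟨a, ha, b, hb, hab'⟩ := hnab S hS
    exact hab' (hab a ha b hb)
  · obtain ⟨P, F, g⟩ := exists_grow h pr (fun h16 => pr.l3.tf h16) hsec h8 hT.two
      (lt_of_le_of_ne hST hSe)
    by_cases hSV : S = R ⊔ E
    · exact g.false_zero hSV hGold hSE
    · exact g.false_pos hSV (hinv P F g hSV) hψ

/-- case A, for the data `q ≥ 16` or no outer 2-elements -/
theorem false_of_big [IsSimpleGroup G] (h : Std 3 K) {F : Type} [Field F] [Fintype F] {f : ℕ}
    (hF : Fintype.card F = 2 ^ f) (hf : 2 ≤ f)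
    (e : K ≃* Matrix.ProjectiveSpecialLinearGroup (Fin 2) F) (hb : Big K (2 ^ f))
    (hsec : CompStart.SecZero G) (hcrit : CompStart.Crit G)
    (hSE : ¬ ∃ H : Subgroup G, IsStronglyEmbedded H) (hnab : CompStart.NonAb G)
    (hGold : ∀ T : Sylow 2 G, CaseAZero.ZeroBig.Gold T) : False := by
  have l2 : L2K K (2 ^ f) := CaseAFacts.l2k hF hf e
  have l3 : L2K3 K (2 ^ f) := l2k3 hF hf e
  obtain ⟨R, E, H, S, pr⟩ := exists_pre l2 l3 hb
  obtain ⟨ψ, hcyc, hcard, hψ⟩ := exists_typ_hom hF (by omega : 1 ≤ f) e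
  have hfin : Finite (F ≃+* F) := Nat.finite_of_card_ne_zero (by rw [hcard]; omega)
  refine false_of_data h pr (ψ := ψ) ⟨hcyc, hψ⟩ ?_ hsec.secKZ hcrit hSE hnab hGold ?_
  · intro h8
    exact CaseAEight.le_sup h.cyc (by rw [hF, h8]) e
  · intro P F' g hSV s hs hss
    have h16 : 16 ≤ 2 ^ f := by
      obtain ⟨x, hx, hxV⟩ := SetLike.not_le_iff_exists.mp fun hle : S ≤ R ⊔ E =>
        hSV (le_antisymm hle g.VS)
      rcases hb with h1 | h1
      · exact h1
      · exact absurd (pr.S_inf_KY hx (h1 x (pr.sylS.le hx) (mem_of_pow_two pr.sylS.two hx))) hxV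
    have d : CaseAInvol.Data K R E H (2 ^ f) S P F' :=
      { std := h
        kz := fun J hJ hq => CompStart.kzero_of_quasi hsec hq hJ
        beta := g.beta
        l3 := l3
        ta := ta l2 l3 h16
        big := h16
        sylS := pr.sylS
        VS := g.VS
        five := g.five
        lf := g.layF
        ne := g.ne }
    exact d.inv (fun x hx => by
      obtain ⟨e, he, s₁, hs₁, h1, h2⟩ := pr.split hx
      exact ⟨e, he, s₁, ⟨hs₁, mem_normalizer_of_forall h2⟩, h1⟩) hs hss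

/-- **case A**, given the case `K ≅ A₅` with outer 2-elements -/
theorem caseA [IsSimpleGroup G] (hsec : CompStart.SecZero G) (hcrit : CompStart.Crit G)
    (hSE : ¬ ∃ H : Subgroup G, IsStronglyEmbedded H) (hnab : CompStart.NonAb G)
    (hGold : ∀ T : Sylow 2 G, CaseAZero.ZeroBig.Gold T)
    (h4 : ∀ K : Subgroup G, Std 3 K → ∀ (F : Type) [Field F] [Fintype F], Fintype.card F = 4 →
      Nonempty (K ≃* Matrix.ProjectiveSpecialLinearGroup (Fin 2) F) →
      (∃ x ∈ normalizer (K : Set G), (∃ n : ℕ, x ^ 2 ^ n = 1) ∧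
        x ∉ K ⊔ centralizer (K : Set G)) → False) :
    ∀ K : Subgroup G, Std 3 K → PumpMain.IsL2Two K → False := by
  rintro K h ⟨F, i1, i2, f, hf, hF, ⟨e⟩⟩
  by_cases hb : Big K (2 ^ f)
  · exact false_of_big h hF hf e hb hsec hcrit hSE hnab hGold
  · unfold Big at hb
    push Not at hb
    obtain ⟨h16, x, hx, hx2, hxK⟩ := hb
    have hf4 : f < 4 := by
      by_contra hf4
      have : 2 ^ 4 ≤ 2 ^ f := Nat.pow_le_pow_right (by norm_num) (by omega)
      omega
    have hf3 : f ≠ 3 := by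
      rintro rfl
      exact hxK (CaseAEight.le_sup h.cyc (by rw [hF]; norm_num) e hx)
    have hf2 : f = 2 := by omega
    exact h4 K h F (by rw [hF, hf2]; norm_num) ⟨e⟩ ⟨x, hx, hx2, hxK⟩

end Cfsg.Agent.OddCyclic.CaseAMain
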