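import Cfsg.Agent.OddCyclic.CaseABase

/-!
# S0342, component type, case A: A1(c), (d)

`K ≅ PSL₂(q)`; `g ∉ M = N(K)`, `Y = C(K)`, `Y^g ∩ M` of even order, all involutions of `Y^g ∩ M` induce
inner automorphisms of `K` and symmetrically. Then a Sylow 2-subgroup `R` of `Y` is elementary abelian
of order at most `q` and a conjugate of `R` lies in `R × E`.
-/

set_option autoImplicit false

namespace Cfsg.Agent.OddCyclic.CaseACount

open Subgroup
open Cfsg.Agent.LieExceptional Cfsg.Agent.LieExceptional.CITDefs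
open Cfsg.Agent.LieExceptional.CITBasic
open Cfsg.Agent.OddCyclic.T1Tools
open Cfsg.Agent.OddCyclic.CompBasic Cfsg.Agent.OddCyclic.CompStandard
open Cfsg.Agent.OddCyclic.CaseADefs Cfsg.Agent.OddCyclic.CaseABase

variable {G : Type*} [Group G] [Finite G] {p : ℕ} {K : Subgroup G} {q : ℕ} {g : G}

/-- The centralizer in `K` of an involution is a Sylow 2-subgroup. -/
theorem exists_sylow (hL : L2K K q) {k : G} (hk : k ∈ K) (hk2 : orderOf k = 2) :
    ∃ E H : Subgroup G, IsSyl2 K E ∧ Borel K E H q ∧ k ∈ E ∧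
      ∀ x ∈ K, x * k = k * x ↔ x ∈ E := by
  obtain ⟨E, hE, hkE⟩ := exists_isSyl2 K (zpowers k) (zpowers_le.mpr hk) (isPGroup_zpowers hk2)
  obtain ⟨H, hB⟩ := hL.borel E hE
  have hkE' : k ∈ E := hkE (mem_zpowers k)
  refine ⟨E, H, hE, hB, hkE', fun x hx => ⟨fun h => ?_, fun h => ?_⟩⟩
  · exact hB.cent k hkE' (ne_one_of_orderOf hk2) x hx h
  · exact hB.elem.comm h hkE'

omit [Finite G] in
theorem even_q (hL : L2K K q) : Even q := by
  obtain ⟨f, rfl⟩ := hL.pow
  have := hL.four
  rcases Nat.eq_zero_or_pos f with h | h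
  · subst h; norm_num at this
  · exact (Nat.even_pow.mpr ⟨even_two, h.ne'⟩)

omit [Finite G] in
theorem odd_card_H (hL : L2K K q) : Odd (q - 1) := by
  have h4 := hL.four
  obtain ⟨m, hm⟩ := even_q hL
  exact ⟨m - 1, by omega⟩

omit [Finite G] in
theorem H_inf (hL : L2K K q) {E H : Subgroup G} (hB : Borel K E H q)
    {h : G} (hh : h ∈ H) (he : h ∈ E) : h = 1 := by
  have h1 : h * h = 1 := hB.elem h he
  have h4 := hL.four
  have hf : Finite H := Nat.finite_of_card_ne_zero (by rw [hB.cardH]; omega)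
  have h2 : orderOf h ∣ q - 1 := by
    rw [← hB.cardH]; exact H.orderOf_dvd_natCard hh
  have h3 : orderOf h ∣ 2 := orderOf_dvd_of_pow_eq_one (by rw [pow_two]; exact h1)
  have h5 : orderOf h ∣ 1 := by
    have h6 : Nat.Coprime (q - 1) 2 := Nat.coprime_two_right.mpr (odd_card_H hL)
    rw [← Nat.Coprime.gcd_eq_one h6]
    exact Nat.dvd_gcd h2 h3
  exact orderOf_eq_one_iff.mp (Nat.dvd_one.mp h5)

/-- (c) For an inner involution `a` of `Y^g ∩ M`: `E = C_K(a)` is a Sylow 2-subgroup of `K` and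
`K ∩ M^g = E`. -/
theorem exists_E (h : Std p K) (hL : L2K K q) (hg : g ∉ normalizer (K : Set G)) {a : G}
    (haY : a ∈ cj g (centralizer (K : Set G))) (ha2 : orderOf a = 2)
    (haK : a ∈ K ⊔ centralizer (K : Set G)) :
    ∃ E H : Subgroup G, IsSyl2 K E ∧ Borel K E H q ∧ (∀ e ∈ E, a * e = e * a) ∧
      K ⊓ cj g (normalizer (K : Set G)) = E := by
  obtain ⟨k, hk, y, hy, rfl⟩ := mem_KY.mp haK
  have h1 : (k * y) ^ 2 = 1 := by rw [← ha2, pow_orderOf_eq_one]
  obtain ⟨hk2, hy2⟩ := pow_eq_one_KY hL.inf hk hy h1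
  have hk1 : k ≠ 1 := by
    rintro rfl
    rw [one_mul] at haY ha2
    exact hg (h.mem_of_involution ha2 hy haY)
  have hko : orderOf k = 2 := orderOf_eq_prime hk2 hk1
  obtain ⟨E, H, hE, hB, hkE, hcent⟩ := exists_sylow hL hk hko
  have hca : ∀ x ∈ K, x * (k * y) = (k * y) * x ↔ x ∈ E := by
    intro x hx
    rw [← hcent x hx]
    have hxy : x * y = y * x := comm_KY x hx y hy
    constructor
    · intro h2
      have : x * k * y = k * x * y := by
        calc x * k * y = x * (k * y) := by group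
          _ = k * y * x := h2
          _ = k * (y * x) := by group
          _ = k * (x * y) := by rw [hxy]
          _ = k * x * y := by group
      exact mul_right_cancel this
    · intro h2
      calc x * (k * y) = (x * k) * y := by group
        _ = k * x * y := by rw [h2]
        _ = k * (x * y) := by group
        _ = k * (y * x) := by rw [hxy]
        _ = k * y * x := by group
  have hEle : E ≤ cj g (normalizer (K : Set G)) := by
    intro e he
    refine h.centralizer_le_cj ha2 haY ?_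
    rw [mem_centralizer_singleton_iff]
    exact (hca e (hE.le he)).mpr he
  have h2g : IsPGroup 2 (K ⊓ cj g (normalizer (K : Set G)) : Subgroup G) := by
    refine isPGroup_two_of_forall fun r hr hr2 x hx hxr => ?_
    have hrK : r ∣ Nat.card K := by rw [← hxr]; exact K.orderOf_dvd_natCard hx.1
    have h3 := h.commute_of_dvd g hr hr2 hrK hx.2 hxr haY
    have h4 : x ∈ E := (hca x hx.1).mp h3
    have h5 : x * x = 1 := hB.elem x h4
    have h6 : r ∣ 2 := by
      rw [← hxr]; exact orderOf_dvd_of_pow_eq_one (by rw [pow_two]; exact h5)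
    exact hr2 ((Nat.prime_dvd_prime_iff_eq hr Nat.prime_two).mp h6)
  refine ⟨E, H, hE, hB, fun e he => ((hca e (hE.le he)).mpr he).symm, ?_⟩
  exact hE.max _ inf_le_left h2g (le_inf hE.le hEle)

/-- The situation of A1(c). -/
structure Sit (p : ℕ) (K : Subgroup G) (q : ℕ) (g : G) (S P E H : Subgroup G) : Prop where
  std : Std p K
  l2 : L2K K q
  big : Big K q
  hg : g ∉ normalizer (K : Set G)
  pair : PairAt K g S P
  sylE : IsSyl2 K E
  bor : Borel K E H q
  inf : K ⊓ cj g (normalizer (K : Set G)) = E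
  neA : P ⊓ cj g (centralizer (K : Set G)) ≠ ⊥

variable {S P E H : Subgroup G}

omit [Finite G] in
theorem Sit.normE (s : Sit p K q g S P E H) {d : G} (hd : d ∈ normalizer (K : Set G))
    (hd' : d ∈ cj g (normalizer (K : Set G))) {e : G} (he : e ∈ E) : d * e * d⁻¹ ∈ E := by
  have h1 : e ∈ K ⊓ cj g (normalizer (K : Set G)) := by rw [s.inf]; exact he
  have h2 : d * e * d⁻¹ ∈ K ⊓ cj g (normalizer (K : Set G)) := by
    refine Subgroup.mem_inf.mpr ⟨forall_of_mem_normalizer hd e h1.1, ?_⟩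
    exact Subgroup.mul_mem _ (Subgroup.mul_mem _ hd' h1.2) (Subgroup.inv_mem _ hd')
  rwa [s.inf] at h2

omit [Finite G] in
theorem Sit.E_le_cj (s : Sit p K q g S P E H) : E ≤ cj g (normalizer (K : Set G)) := by
  rw [← s.inf]; exact inf_le_right

theorem Sit.E_le_P (s : Sit p K q g S P E H) : E ≤ P :=
  le_isSyl2 s.pair.sylD (le_inf (s.sylE.le.trans Subgroup.le_normalizer) s.E_le_cj)
    (isPGroup_of_elem s.bor.elem)
    (fun _ hs _ he => s.normE (s.pair.sylD.le hs).1 (s.pair.sylD.le hs).2 he)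

theorem Sit.H_fix (s : Sit p K q g S P E H) {h e : G} (hh : h ∈ H) (he : e ∈ E) (he1 : e ≠ 1)
    (h1 : e ∈ cj g (centralizer (K : Set G)))
    (h2 : h * e * h⁻¹ ∈ cj g (centralizer (K : Set G))) : h = 1 := by
  have ho : orderOf e = 2 := orderOf_eq_two he1 (s.bor.elem e he)
  have h3 : e ∈ cj (h⁻¹ * g) (centralizer (K : Set G)) := by
    rw [mem_cj]
    have := mem_cj.mp h2
    have e1 : (h⁻¹ * g)⁻¹ * e * (h⁻¹ * g) = g⁻¹ * (h * e * h⁻¹) * g := by group
    rw [e1]; exact this
  have h4 := mem_of_cj s.std ho h3 h1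
  have h5 : h ∈ cj g (normalizer (K : Set G)) := by
    rw [mem_cj]
    have e1 : (h⁻¹ * g)⁻¹ * g = g⁻¹ * h * g := by group
    rwa [e1] at h4
  have h6 : h ∈ K ⊓ cj g (normalizer (K : Set G)) := ⟨s.bor.leH hh, h5⟩
  rw [s.inf] at h6
  exact H_inf s.l2 s.bor hh h6

theorem Sit.card_E0 (s : Sit p K q g S P E H) :
    Nat.card (E ⊓ cj g (centralizer (K : Set G)) : Subgroup G) ≤ 2 := by
  classical
  have hfH : Fintype H := Fintype.ofFinite H
  set E0 := E ⊓ cj g (centralizer (K : Set G)) with hE0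
  have h1 := sum_card_le (ι := H) (fun h => cj (h : G) E0) E
    (by
      intro h
      rintro _ ⟨x, hx, rfl⟩
      exact s.bor.norm h h.2 x hx.1)
    (by
      intro h h' hne x hx hx'
      by_contra hx1
      apply hne
      rw [mem_cj] at hx hx'
      have h3 : (h : G)⁻¹ * x * h ≠ 1 := by
        intro h4
        apply hx1
        have : x = h * ((h : G)⁻¹ * x * h) * (h : G)⁻¹ := by group
        rw [this, h4]; group
      have h4 := s.H_fix (h := (h' : G)⁻¹ * h) (e := (h : G)⁻¹ * x * h)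
        (H.mul_mem (H.inv_mem h'.2) h.2) hx.1 h3 hx.2 (by
          have e1 : (h' : G)⁻¹ * h * ((h : G)⁻¹ * x * h) * ((h' : G)⁻¹ * h)⁻¹ =
              (h' : G)⁻¹ * x * h' := by group
          rw [e1]; exact hx'.2)
      have h5 : (h' : G) = h := inv_mul_eq_one.mp h4
      exact Subtype.ext h5.symm)
  have h2 : ∀ h : H, Nat.card (cj (h : G) E0) - 1 = Nat.card E0 - 1 := fun h => by rw [card_cj]
  rw [Finset.sum_congr rfl (fun h _ => h2 h), Finset.sum_const, smul_eq_mul, Finset.card_univ,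
    ← Nat.card_eq_fintype_card, s.bor.cardH, s.bor.cardE] at h1
  have h4 := s.l2.four
  have h5 : Nat.card E0 - 1 ≤ 1 := by
    by_contra hc
    have h6 : (q - 1) * 2 ≤ (q - 1) * (Nat.card E0 - 1) := Nat.mul_le_mul_left _ (by omega)
    omega
  omega

/-- The commutator map `e ↦ e x e⁻¹ x⁻¹`. -/
theorem card_comm_le {E E0 : Subgroup G} (hE : Elem E) {x : G}
    (h0 : ∀ e ∈ E, e * x * e⁻¹ * x⁻¹ ∈ E0) (hn : ∀ e ∈ E, x * e * x⁻¹ ∈ E) :
    Nat.card E ≤ Nat.card (E ⊓ centralizer ({x} : Set G) : Subgroup G) * Nat.card E0 := by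
  let φ : E →* G :=
    { toFun := fun e => (e : G) * x * (e : G)⁻¹ * x⁻¹
      map_one' := by simp
      map_mul' := by
        intro e f
        have h1 : x * (e : G)⁻¹ * x⁻¹ ∈ E := hn _ (E.inv_mem e.2)
        have h2 : x * (f : G)⁻¹ * x⁻¹ ∈ E := hn _ (E.inv_mem f.2)
        have h3 := hE.comm h1 (E.mul_mem f.2 h2)
        calc (e : G) * f * x * ((e : G) * f)⁻¹ * x⁻¹
            = e * ((f * (x * (f : G)⁻¹ * x⁻¹)) * (x * (e : G)⁻¹ * x⁻¹)) := by group
          _ = e * ((x * (e : G)⁻¹ * x⁻¹) * (f * (x * (f : G)⁻¹ * x⁻¹))) := by rw [h3]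
          _ = (e : G) * x * (e : G)⁻¹ * x⁻¹ * (f * x * (f : G)⁻¹ * x⁻¹) := by group }
  have h1 : Nat.card E = Nat.card φ.range * Nat.card φ.ker := by
    have h2 := Subgroup.card_eq_card_quotient_mul_card_subgroup φ.ker
    rw [h2, Nat.card_congr (QuotientGroup.quotientKerEquivRange φ).toEquiv]
  have h2 : Nat.card φ.range ≤ Nat.card E0 := by
    refine Subgroup.card_le_of_le ?_
    rintro _ ⟨e, rfl⟩
    exact h0 e e.2
  have h3 : Nat.card φ.ker ≤ Nat.card (E ⊓ centralizer ({x} : Set G) : Subgroup G) := by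
    refine Nat.card_le_card_of_injective (fun y : φ.ker =>
      (⟨((y : E) : G), ⟨(y : E).2, ?_⟩⟩ : (E ⊓ centralizer ({x} : Set G) : Subgroup G))) ?_
    · have h4 : ((y : E) : G) * x * ((y : E) : G)⁻¹ * x⁻¹ = 1 := y.2
      have h5 := mul_inv_eq_one.mp h4
      exact mem_centralizer_singleton_iff.mpr (mul_inv_eq_iff_eq_mul.mp h5)
    · intro y z hyz
      have h4 : ((y : E) : G) = ((z : E) : G) :=
        (congrArg (fun w : (E ⊓ centralizer ({x} : Set G) : Subgroup G) => (w : G)) hyz :)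
      exact Subtype.ext (Subtype.ext h4)
  rw [h1, mul_comm]
  exact Nat.mul_le_mul h3 h2

/-- A 2-element of `M` which normalizes `E` and centralizes it modulo a group of order `≤ 2` is in
`YE`. -/
theorem exists_of_small (hL : L2K K q) (hb : Big K q) {E E0 : Subgroup G} (hE : IsSyl2 K E)
    (h0 : Nat.card E0 ≤ 2) {x : G} (hx : x ∈ normalizer (K : Set G))
    (hn : ∀ e ∈ E, x * e * x⁻¹ ∈ E) (h2 : ∃ n : ℕ, x ^ 2 ^ n = 1)
    (hc : ∀ e ∈ E, e * x * e⁻¹ * x⁻¹ ∈ E0) :
    ∃ y ∈ centralizer (K : Set G), ∃ e ∈ E, x = y * e := by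
  rcases hb with hb | hb
  · rcases hL.field E hE x hx hn h2 with h3 | h3
    · exact h3
    · exfalso
      obtain ⟨H, hB⟩ := hL.borel E hE
      have h4 := card_comm_le hB.elem hc hn
      rw [hB.cardE] at h4
      set c := Nat.card (E ⊓ centralizer ({x} : Set G) : Subgroup G) with hcdef
      have h5 : q ≤ c * 2 := h4.trans (Nat.mul_le_mul_left _ h0)
      nlinarith
  · obtain ⟨k, hk, y, hy, rfl⟩ := mem_KY.mp (hb x hx h2)
    obtain ⟨n, hn2⟩ := h2
    obtain ⟨hk2, -⟩ := pow_eq_one_KY hL.inf hk hy hn2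
    refine ⟨y, hy, k, ?_, comm_KY k hk y hy⟩
    refine mem_isSyl2 hE hk ⟨n, hk2⟩ fun e he => ?_
    have h3 := hn e he
    have h4 : y * e = e * y := (comm_KY e (hE.le he) y hy).symm
    have e1 : k * y * e * (k * y)⁻¹ = k * e * k⁻¹ := by
      calc k * y * e * (k * y)⁻¹ = k * (y * e) * y⁻¹ * k⁻¹ := by group
        _ = k * (e * y) * y⁻¹ * k⁻¹ := by rw [h4]
        _ = k * e * k⁻¹ := by group
    rwa [e1] at h3

theorem Sit.A_le (s : Sit p K q g S P E H) {x : G}
    (hx : x ∈ P ⊓ cj g (centralizer (K : Set G))) :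
    ∃ y ∈ P ⊓ centralizer (K : Set G), ∃ e ∈ E, x = y * e := by
  have hxD := s.pair.sylD.le hx.1
  obtain ⟨y, hy, e, he, hxy⟩ := exists_of_small s.l2 s.big s.sylE s.card_E0 hxD.1
    (fun e he => s.normE hxD.1 hxD.2 he) (mem_of_pow_two s.pair.sylD.two hx.1)
    (fun e he => by
      refine Subgroup.mem_inf.mpr ⟨?_, ?_⟩
      · have h1 := s.normE hxD.1 hxD.2 (E.inv_mem he)
        have e1 : e * x * e⁻¹ * x⁻¹ = e * (x * e⁻¹ * x⁻¹) := by group
        rw [e1]; exact E.mul_mem he h1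
      · have h1 := normal_cj_cent g K e (s.E_le_cj he) x hx.2
        exact Subgroup.mul_mem _ h1 (Subgroup.inv_mem _ hx.2))
  refine ⟨y, ⟨?_, hy⟩, e, he, hxy⟩
  have h1 : y = x * e⁻¹ := by rw [hxy]; group
  rw [h1]
  exact P.mul_mem hx.1 (P.inv_mem (s.E_le_P he))

theorem Sit.A_inf (s : Sit p K q g S P E H) {x : G}
    (hx : x ∈ P ⊓ cj g (centralizer (K : Set G))) (hxY : x ∈ centralizer (K : Set G)) :
    x = 1 := by
  have h1 := s.std.inf_eq_bot s.hg
    (A := P ⊓ cj g (centralizer (K : Set G))) (s.pair.sylD.two.to_le inf_le_left) inf_le_right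
  have h2 : x ∈ P ⊓ cj g (centralizer (K : Set G)) ⊓ centralizer (K : Set G) := ⟨hx, hxY⟩
  rwa [h1, mem_bot] at h2

theorem Sit.A_elem (s : Sit p K q g S P E H) :
    Elem (P ⊓ cj g (centralizer (K : Set G)) : Subgroup G) := by
  intro x hx
  obtain ⟨y, hy, e, he, hxy⟩ := s.A_le hx
  refine s.A_inf (Subgroup.mul_mem _ hx hx) ?_
  have h1 : e * y = y * e := comm_KY e (s.sylE.le he) y hy.2
  have h2 : x * x = y * y := by
    rw [hxy]
    calc y * e * (y * e) = y * (e * y) * e := by group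
      _ = y * (y * e) * e := by rw [h1]
      _ = y * y * (e * e) := by group
      _ = y * y := by rw [s.bor.elem e he, mul_one]
  rw [h2]
  exact Subgroup.mul_mem _ hy.2 hy.2

theorem Sit.card_A (s : Sit p K q g S P E H) :
    Nat.card (P ⊓ cj g (centralizer (K : Set G)) : Subgroup G) ≤ q := by
  rw [← s.bor.cardE]
  have hex : ∀ x : (P ⊓ cj g (centralizer (K : Set G)) : Subgroup G),
      ∃ e : E, ∃ y ∈ P ⊓ centralizer (K : Set G), (x : G) = y * e := by
    intro x
    obtain ⟨y, hy, e, he, hxy⟩ := s.A_le x.2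
    exact ⟨⟨e, he⟩, y, hy, hxy⟩
  choose f y hy hf using hex
  refine Nat.card_le_card_of_injective f ?_
  intro x x' hxx
  have h1 : (x : G) * (x' : G)⁻¹ = y x * (y x')⁻¹ := by
    rw [hf x, hf x', hxx]; group
  have h2 := s.A_inf (x := (x : G) * (x' : G)⁻¹)
    (Subgroup.mul_mem _ x.2 (Subgroup.inv_mem _ x'.2)) (by
      rw [h1]; exact Subgroup.mul_mem _ (hy x).2 (Subgroup.inv_mem _ (hy x').2))
  exact Subtype.ext (mul_inv_eq_one.mp h2)

/-! ### (d) -/

omit [Finite G] in
theorem Sit.comm_A'E (s : Sit p K q g S P E H) :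
    ∀ a ∈ P ⊓ centralizer (K : Set G), ∀ e ∈ E, a * e = e * a :=
  fun a ha e he => (comm_KY e (s.sylE.le he) a ha.2).symm

theorem Sit.A_le_V0 (s : Sit p K q g S P E H) :
    P ⊓ cj g (centralizer (K : Set G)) ≤ (P ⊓ centralizer (K : Set G)) ⊔ E := by
  intro x hx
  obtain ⟨y, hy, e, he, rfl⟩ := s.A_le hx
  exact Subgroup.mul_mem _ (mem_sup_left hy) (mem_sup_right he)

theorem Sit.card_V0 (s : Sit p K q g S P E H) :
    Nat.card ((P ⊓ centralizer (K : Set G)) ⊔ E : Subgroup G) =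
      Nat.card (P ⊓ centralizer (K : Set G) : Subgroup G) * q := by
  rw [card_sup_comm s.comm_A'E, s.bor.cardE]
  rw [eq_bot_iff]
  intro x hx
  have h1 : x ∈ K ⊓ centralizer (K : Set G) := ⟨s.sylE.le hx.2, hx.1.2⟩
  rwa [s.l2.inf] at h1

theorem Sit.eqR (s : Sit p K q g S P E H)
    (hle : Nat.card (P ⊓ centralizer (K : Set G) : Subgroup G) ≤
      Nat.card (P ⊓ cj g (centralizer (K : Set G)) : Subgroup G)) :
    P ⊓ centralizer (K : Set G) = S ⊓ centralizer (K : Set G) := by
  classical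
  have hpf : Fact (Nat.Prime 2) := ⟨Nat.prime_two⟩
  by_contra hne
  set A := P ⊓ cj g (centralizer (K : Set G)) with hA
  set A' := P ⊓ centralizer (K : Set G) with hA'
  set R := S ⊓ centralizer (K : Set G) with hR
  have hA'R : A' ≤ R := inf_le_inf_right _ s.pair.le
  have hR2 : IsPGroup 2 R := s.pair.sylM.two.to_le inf_le_left
  obtain ⟨x, hxn, hxR, hxA⟩ : ∃ x, x ∈ normalizer (A' : Set G) ∧ x ∈ R ∧ x ∉ A' := by
    by_contra hno
    push Not at hno
    exact hne (Cfsg.Agent.Blocks.SylowIn.eq_of_normalizer_inf_le (p := 2) hR2 hA'R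
      (fun x hx => hno x hx.1 hx.2)).symm
  have hxn' : ∀ a ∈ A', x * a * x⁻¹ ∈ A' := forall_of_mem_normalizer hxn
  -- `x` commutes with `K`
  have hxK : ∀ k ∈ K, k * x = x * k := fun k hk => comm_KY k hk x hxR.2
  -- `x ∉ M^g`
  have hxg : x ∉ cj g (normalizer (K : Set G)) := by
    intro hxg
    apply hxA
    exact mem_isSyl2 s.pair.sylA' ⟨hxR.2, hxg⟩ (mem_of_pow_two hR2 hxR) hxn'
  have hA'K : ∀ a ∈ A', ∀ k ∈ K, k * a = a * k := fun a ha k hk => comm_KY k hk a ha.2
  -- the conjugating elements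
  set c : H × Bool → G := fun i => (i.1 : G) * (if i.2 then x else 1) with hc
  have hcM : ∀ i, c i ∈ normalizer (K : Set G) := by
    intro i
    refine Subgroup.mul_mem _ (Subgroup.le_normalizer (s.bor.leH i.1.2)) ?_
    split_ifs
    · exact KY_le (mem_sup_right hxR.2)
    · exact Subgroup.one_mem _
  have hHV : ∀ h ∈ H, ∀ v ∈ A' ⊔ E, h * v * h⁻¹ ∈ A' ⊔ E := by
    intro h hh v hv
    obtain ⟨a, ha, e, he, rfl⟩ := (mem_sup_comm s.comm_A'E).mp hv
    have e1 : h * (a * e) * h⁻¹ = a * (h * e * h⁻¹) := by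
      calc h * (a * e) * h⁻¹ = (h * a) * e * h⁻¹ := by group
        _ = (a * h) * e * h⁻¹ := by rw [hA'K a ha h (s.bor.leH hh)]
        _ = a * (h * e * h⁻¹) := by group
    rw [e1]
    exact Subgroup.mul_mem _ (mem_sup_left ha) (mem_sup_right (s.bor.norm h hh e he))
  have hxV : ∀ v ∈ A' ⊔ E, x * v * x⁻¹ ∈ A' ⊔ E := by
    intro v hv
    obtain ⟨a, ha, e, he, rfl⟩ := (mem_sup_comm s.comm_A'E).mp hv
    have e1 : x * (a * e) * x⁻¹ = (x * a * x⁻¹) * e := by
      calc x * (a * e) * x⁻¹ = x * a * (e * x⁻¹) := by group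
        _ = x * a * (x⁻¹ * e) := by
            have h1 := hxK e (s.sylE.le he)
            have h2 : e * x⁻¹ = x⁻¹ * e := by
              calc e * x⁻¹ = x⁻¹ * (x * e) * x⁻¹ := by group
                _ = x⁻¹ * (e * x) * x⁻¹ := by rw [h1]
                _ = x⁻¹ * e := by group
            rw [h2]
        _ = (x * a * x⁻¹) * e := by group
    rw [e1]
    exact Subgroup.mul_mem _ (mem_sup_left (hxn' a ha)) (mem_sup_right he)
  have hcV : ∀ i, ∀ v ∈ A' ⊔ E, c i * v * (c i)⁻¹ ∈ A' ⊔ E := by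
    rintro ⟨h, b⟩ v hv
    cases b
    · have e1 : c (h, false) = h := by simp [hc]
      rw [e1]; exact hHV h h.2 v hv
    · have e1 : c (h, true) = h * x := by simp [hc]
      rw [e1]
      have e2 : (h : G) * x * v * ((h : G) * x)⁻¹ = h * (x * v * x⁻¹) * (h : G)⁻¹ := by group
      rw [e2]
      exact hHV h h.2 _ (hxV v hv)
  have hAE := s.A_elem
  have hAsq : ∀ a ∈ A, a ≠ 1 → orderOf a = 2 := fun a ha h1 => orderOf_eq_two h1 (hAE a ha)
  -- a common element forces `c⁻¹ c' ∈ M^g`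
  have hkey : ∀ u v t : G, t ≠ 1 → t ∈ cj u A → t ∈ cj v A →
      u⁻¹ * v ∈ cj g (normalizer (K : Set G)) := by
    intro u v t ht hu hv
    have ho : orderOf t = 2 := by
      rw [mem_cj] at hu
      have h1 : orderOf (u⁻¹ * t * u) = 2 := by
        refine hAsq _ hu fun h2 => ht ?_
        have : t = u * (u⁻¹ * t * u) * u⁻¹ := by group
        rw [this, h2]; group
      have h2 := orderOf_conj u (u⁻¹ * t * u)
      have e1 : u * (u⁻¹ * t * u) * u⁻¹ = t := by group
      rw [e1] at h2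
      rw [h2, h1]
    have h1 : t ∈ cj (u * g) (centralizer (K : Set G)) := by
      rw [cj_mul]; exact cj_mono inf_le_right hu
    have h2 : t ∈ cj (v * g) (centralizer (K : Set G)) := by
      rw [cj_mul]; exact cj_mono inf_le_right hv
    have h3 := mem_of_cj s.std ho h1 h2
    rw [mem_cj]
    have e1 : (u * g)⁻¹ * (v * g) = g⁻¹ * (u⁻¹ * v) * g := by group
    rwa [e1] at h3
  -- elements of `H` in `M^g` are trivial
  have hHg : ∀ h ∈ H, h ∈ cj g (normalizer (K : Set G)) → h = 1 := by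
    intro h hh h1
    have h2 : h ∈ K ⊓ cj g (normalizer (K : Set G)) := ⟨s.bor.leH hh, h1⟩
    rw [s.inf] at h2
    exact H_inf s.l2 s.bor hh h2
  -- `h x^{±1} ∉ M^g`
  have hHx : ∀ h ∈ H, ∀ z : G, z = x ∨ z = x⁻¹ → h * z ∉ cj g (normalizer (K : Set G)) := by
    intro h hh z hz h1
    apply hxg
    have hzx : z ∈ cj g (normalizer (K : Set G)) → x ∈ cj g (normalizer (K : Set G)) := by
      rcases hz with rfl | rfl
      · exact id
      · intro h2
        have := Subgroup.inv_mem _ h2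
        rwa [inv_inv] at this
    apply hzx
    have hzR : z ∈ R := by
      rcases hz with rfl | rfl
      · exact hxR
      · exact Subgroup.inv_mem _ hxR
    have hcz : Commute h z := comm_KY h (s.bor.leH hh) z hzR.2
    have h2 : (h * z) ^ (q - 1) ∈ cj g (normalizer (K : Set G)) := Subgroup.pow_mem _ h1 _
    have h3 : h ^ (q - 1) = 1 := by
      rw [← s.bor.cardH]
      have := pow_card_eq_one' (x := (⟨h, hh⟩ : H))
      exact congrArg Subtype.val this
    rw [hcz.mul_pow, h3, one_mul] at h2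
    obtain ⟨n, hn⟩ := mem_of_pow_two hR2 hzR
    have h4 : (q - 1).Coprime (orderOf z) := by
      have h5 : orderOf z ∣ 2 ^ n := orderOf_dvd_of_pow_eq_one hn
      refine Nat.Coprime.coprime_dvd_right h5 ?_
      exact Nat.Coprime.pow_right n (Nat.coprime_two_right.mpr (odd_card_H s.l2))
    obtain ⟨m, hm⟩ := exists_pow_eq_self_of_coprime h4
    rw [← hm]
    exact Subgroup.pow_mem _ h2 _
  have hfH : Fintype H := Fintype.ofFinite H
  have hV0 : ∀ i, cj (c i) A ≤ A' ⊔ E := by
    intro i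
    rintro _ ⟨a, ha, rfl⟩
    exact hcV i a (s.A_le_V0 ha)
  let F : Option (H × Bool) → Subgroup G := fun o => o.elim A' (fun i => cj (c i) A)
  have hsum := sum_card_le F (A' ⊔ E)
    (by
      intro o
      cases o with
      | none => exact le_sup_left
      | some i => exact hV0 i)
    (by
      have hns : ∀ i t, t ∈ A' → t ∈ cj (c i) A → t = 1 := by
        intro i t ht hti
        by_contra ht1
        have ho : orderOf t = 2 := by
          rw [mem_cj] at hti
          have h1 : orderOf ((c i)⁻¹ * t * c i) = 2 := by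
            refine hAsq _ hti fun h2 => ht1 ?_
            have : t = c i * ((c i)⁻¹ * t * c i) * (c i)⁻¹ := by group
            rw [this, h2]; group
          have h2 := orderOf_conj (c i) ((c i)⁻¹ * t * c i)
          have e1 : c i * ((c i)⁻¹ * t * c i) * (c i)⁻¹ = t := by group
          rw [e1] at h2
          rw [h2, h1]
        have h1 : t ∈ cj 1 (centralizer (K : Set G)) := by rw [cj_one]; exact ht.2
        have h2 : t ∈ cj (c i * g) (centralizer (K : Set G)) := by
          rw [cj_mul]; exact cj_mono inf_le_right hti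
        have h3 := mem_of_cj s.std ho h1 h2
        apply s.hg
        have h4 := Subgroup.mul_mem _ (Subgroup.inv_mem _ (hcM i)) h3
        have e1 : (c i)⁻¹ * (1⁻¹ * (c i * g)) = g := by group
        rwa [e1] at h4
      rintro (_ | ⟨h, b⟩) (_ | ⟨h', b'⟩) hne t ht ht'
      · exact absurd rfl hne
      · exact hns _ t ht ht'
      · exact hns _ t ht' ht
      · by_contra ht1
        have h1 := hkey _ _ t ht1 ht ht'
        cases b <;> cases b'
        · apply hne
          have e1 : (c (h, false))⁻¹ * c (h', false) = (h : G)⁻¹ * h' := by simp [hc]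
          rw [e1] at h1
          have h2 := hHg _ (H.mul_mem (H.inv_mem h.2) h'.2) h1
          have h3 : (h : G) = h' := inv_mul_eq_one.mp h2
          rw [Subtype.ext h3]
        · have e1 : (c (h, false))⁻¹ * c (h', true) = ((h : G)⁻¹ * h') * x := by
            simp [hc, mul_assoc]
          rw [e1] at h1
          exact hHx _ (H.mul_mem (H.inv_mem h.2) h'.2) x (Or.inl rfl) h1
        · have e1 : (c (h, true))⁻¹ * c (h', false) = ((h : G)⁻¹ * h') * x⁻¹ := by
            have h3 := hxK _ (s.bor.leH (H.mul_mem (H.inv_mem h.2) h'.2))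
            have h4 : x⁻¹ * ((h : G)⁻¹ * h') = ((h : G)⁻¹ * h') * x⁻¹ := by
              calc x⁻¹ * ((h : G)⁻¹ * h') = x⁻¹ * (((h : G)⁻¹ * h') * x) * x⁻¹ := by group
                _ = x⁻¹ * (x * ((h : G)⁻¹ * h')) * x⁻¹ := by rw [h3]
                _ = ((h : G)⁻¹ * h') * x⁻¹ := by group
            rw [← h4]
            simp [hc, mul_assoc]
          rw [e1] at h1
          exact hHx _ (H.mul_mem (H.inv_mem h.2) h'.2) x⁻¹ (Or.inr rfl) h1
        · apply hne
          have e1 : (c (h, true))⁻¹ * c (h', true) = x⁻¹ * (((h : G)⁻¹ * h') * x) := by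
            simp [hc, mul_assoc]
          have h3 := hxK _ (s.bor.leH (H.mul_mem (H.inv_mem h.2) h'.2))
          rw [e1, h3, inv_mul_cancel_left] at h1
          have h2 := hHg _ (H.mul_mem (H.inv_mem h.2) h'.2) h1
          have h3 : (h : G) = h' := inv_mul_eq_one.mp h2
          rw [Subtype.ext h3])
  rw [Fintype.sum_option] at hsum
  have hF0 : F none = A' := rfl
  have hF1 : ∀ i : H × Bool, Nat.card (F (some i)) - 1 = Nat.card A - 1 := by
    intro i
    have : F (some i) = cj (c i) A := rfl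
    rw [this, card_cj]
  rw [hF0, Finset.sum_congr rfl (fun i _ => hF1 i), Finset.sum_const, smul_eq_mul,
    Finset.card_univ, Fintype.card_prod, Fintype.card_bool, ← Nat.card_eq_fintype_card,
    s.bor.cardH, s.card_V0] at hsum
  have h4 := s.l2.four
  -- numerical conclusion
  have hA'1 : A' ≠ ⊥ := s.pair.ne_bot s.std s.hg s.neA
  have hcA' : 2 ≤ Nat.card A' := by
    have h1 : Nat.card A' ≠ 1 := fun h => hA'1 (Subgroup.card_eq_one.mp h)
    have h2 : 0 < Nat.card A' := Nat.card_pos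
    omega
  have hcA : Nat.card A' = 2 := by
    set a := Nat.card A with ha
    set b := Nat.card A' with hb
    have h6 : a ≤ 2 := by
      by_contra h7
      obtain ⟨r, rfl⟩ : ∃ r, q = r + 1 := ⟨q - 1, by omega⟩
      obtain ⟨a', ha'⟩ : ∃ a', a = a' + 1 := ⟨a - 1, by omega⟩
      obtain ⟨b', hb'⟩ : ∃ b', b = b' + 1 := ⟨b - 1, by omega⟩
      rw [ha', hb'] at hsum
      simp only [Nat.add_sub_cancel] at hsum
      have h8 : b' + r * 2 * a' ≤ (b' + 1) * (r + 1) - 1 := hsum
      have h9 : (b' + 1) * (r + 1) - 1 = b' * r + b' + r := by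
        have : (b' + 1) * (r + 1) = b' * r + b' + r + 1 := by ring
        omega
      rw [h9] at h8
      have h10 : r * 2 * a' ≤ b' * r + r := by omega
      have h11 : r * (2 * a') ≤ r * (b' + 1) := by nlinarith
      have h12 : 2 * a' ≤ b' + 1 := Nat.le_of_mul_le_mul_left h11 (by omega)
      omega
    omega
  -- an involution of `A`
  obtain ⟨a, haA, ha2⟩ := exists_involution_of_ne_bot
    (s.pair.sylD.two.to_le (inf_le_left : A ≤ P)) s.neA
  obtain ⟨y, hy, e, he, hay⟩ := s.A_le haA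
  -- `x` commutes with `y`
  have hxy : x * y * x⁻¹ = y := by
    by_cases hy1 : y = 1
    · rw [hy1]; group
    · have h1 : x * y * x⁻¹ ∈ A' := hxn' y hy
      have h2 : x * y * x⁻¹ ≠ 1 := by
        intro h2
        apply hy1
        have : y = x⁻¹ * (x * y * x⁻¹) * x := by group
        rw [this, h2]; group
      obtain ⟨u, hu, huu⟩ := (Nat.card_eq_two_iff' (1 : A')).mp hcA
      have h3 : (⟨y, hy⟩ : A') = u := huu _ (fun h => hy1 (congrArg Subtype.val h))
      have h4 : (⟨x * y * x⁻¹, h1⟩ : A') = u := huu _ (fun h => h2 (congrArg Subtype.val h))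
      exact congrArg Subtype.val (h4.trans h3.symm)
  have hxa : a * x = x * a := by
    have h1 : y * x = x * y := (mul_inv_eq_iff_eq_mul.mp hxy).symm
    have h2 := hxK e (s.sylE.le he)
    rw [hay]
    calc y * e * x = y * (e * x) := by group
      _ = y * (x * e) := by rw [h2]
      _ = (y * x) * e := by group
      _ = x * y * e := by rw [h1]
      _ = x * (y * e) := by group
  have h5 := (s.pair.mem_iff s.std s.hg haA ha2 hxR.1 hxR.2).mp hxa
  exact hxA ⟨h5, hxR.2⟩

/-! ### the result -/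

theorem Sit.exists_conj (s : Sit p K q g S P E H)
    (hle : Nat.card (P ⊓ centralizer (K : Set G) : Subgroup G) ≤
      Nat.card (P ⊓ cj g (centralizer (K : Set G)) : Subgroup G)) :
    Elem (S ⊓ centralizer (K : Set G) : Subgroup G) ∧
      Nat.card (S ⊓ centralizer (K : Set G) : Subgroup G) ≤ q ∧
      ∃ g' : G, g' ∉ normalizer (K : Set G) ∧
        cj g' (S ⊓ centralizer (K : Set G)) ≤ (S ⊓ centralizer (K : Set G)) ⊔ E := by
  have hAV := s.A_le_V0
  have heq := s.eqR hle
  rw [heq] at hAV hle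
  have hR := s.pair.sylR
  set R := S ⊓ centralizer (K : Set G) with hRdef
  set A := P ⊓ cj g (centralizer (K : Set G)) with hA
  have hAs : IsSyl2 (cj g (centralizer (K : Set G))) A :=
    isSyl2_of_card (isSyl2_cj g hR) inf_le_right (s.pair.sylD.two.to_le inf_le_left)
      (by rw [card_cj]; exact hle)
  obtain ⟨m, hm, hmA⟩ := isSyl2_conj (isSyl2_cj g hR) hAs
  rw [← cj_mul] at hmA
  have hcard : Nat.card A = Nat.card R := by rw [hmA, card_cj]
  refine ⟨?_, by rw [← hcard]; exact s.card_A, m * g, ?_, by rw [← hmA]; exact hAV⟩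
  · have h1 : R = cj (m * g)⁻¹ A := by rw [hmA, cj_inv_cj]
    rw [h1]
    exact elem_cj s.A_elem
  · intro hmg
    apply s.hg
    rw [mem_cj] at hm
    have h1 := Subgroup.mul_mem _ hmg (Subgroup.inv_mem _ (centralizer_le_normalizer _ hm))
    have e1 : m * g * (g⁻¹ * m * g)⁻¹ = g := by group
    rwa [e1] at h1

omit [Finite G] in
theorem cj_sup (m : G) (A B : Subgroup G) : cj m (A ⊔ B) = cj m A ⊔ cj m B := Subgroup.map_sup _ _ _

theorem cj_eq_of_comm {A : Subgroup G} {k : G} (h : ∀ a ∈ A, k * a = a * k) : cj k A = A := by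
  rw [cj_eq_iff]
  refine mem_normalizer_of_forall fun a ha => ?_
  rw [h a ha, mul_inv_cancel_right]
  exact ha

theorem exists_sit (h : Std p K) (hL : L2K K q) (hb : Big K q) (hg : g ∉ normalizer (K : Set G))
    (he : Even (Nat.card (cj g (centralizer (K : Set G)) ⊓ normalizer (K : Set G) : Subgroup G)))
    (h1 : ∀ a ∈ cj g (centralizer (K : Set G)) ⊓ normalizer (K : Set G), orderOf a = 2 →
      a ∈ K ⊔ centralizer (K : Set G))
    (h2 : ∀ a ∈ centralizer (K : Set G) ⊓ cj g (normalizer (K : Set G)), orderOf a = 2 →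
      a ∈ cj g (K ⊔ centralizer (K : Set G))) :
    ∃ (g' : G) (S P E H : Subgroup G), Sit p K q g' S P E H ∧
      Nat.card (P ⊓ centralizer (K : Set G) : Subgroup G) ≤
      Nat.card (P ⊓ cj g' (centralizer (K : Set G)) : Subgroup G) := by
  obtain ⟨a, ha, ha2⟩ := exists_involution he
  obtain ⟨S, P, hP, haP⟩ := exists_pairAt K g (isPGroup_zpowers ha2)
    (zpowers_le.mpr ⟨ha.2, cj_centralizer_le_normalizer g K ha.1⟩)
  have hA : P ⊓ cj g (centralizer (K : Set G)) ≠ ⊥ := by
    intro hb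
    have h2 : a ∈ P ⊓ cj g (centralizer (K : Set G)) := ⟨haP (mem_zpowers a), ha.1⟩
    rw [hb, mem_bot] at h2
    exact ne_one_of_orderOf ha2 h2
  rcases le_total (Nat.card (P ⊓ centralizer (K : Set G) : Subgroup G))
    (Nat.card (P ⊓ cj g (centralizer (K : Set G)) : Subgroup G)) with hle | hle
  · obtain ⟨E, H, hE, hB, -, hinf⟩ := exists_E h hL hg ha.1 ha2 (h1 a ha ha2)
    exact ⟨g, S, P, E, H, ⟨h, hL, hb, hg, hP, hE, hB, hinf, hA⟩, hle⟩
  · -- the symmetric situation
    have hA' := hP.ne_bot h hg hA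
    have hg' : g⁻¹ ∉ normalizer (K : Set G) := fun hh => hg (by
      have := Subgroup.inv_mem _ hh
      rwa [inv_inv] at this)
    have hD : cj g⁻¹ (normalizer (K : Set G) ⊓ cj g (normalizer (K : Set G))) =
        normalizer (K : Set G) ⊓ cj g⁻¹ (normalizer (K : Set G)) := by
      rw [cj_inf, cj_inv_cj, inf_comm]
    have hP' := isSyl2_cj g⁻¹ hP.sylD
    rw [hD] at hP'
    obtain ⟨S', hS', hPS'⟩ := exists_isSyl2 (normalizer (K : Set G)) (cj g⁻¹ P)
      (hP'.le.trans inf_le_left) hP'.two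
    have hPair : PairAt K g⁻¹ S' (cj g⁻¹ P) := ⟨hS', hP', hPS'⟩
    have e1 : cj g⁻¹ P ⊓ cj g⁻¹ (centralizer (K : Set G)) =
        cj g⁻¹ (P ⊓ centralizer (K : Set G)) := (cj_inf _ _ _).symm
    have e2 : cj g⁻¹ P ⊓ centralizer (K : Set G) =
        cj g⁻¹ (P ⊓ cj g (centralizer (K : Set G))) := by
      rw [cj_inf, cj_inv_cj]
    obtain ⟨b, hb', hb2⟩ := exists_involution_of_ne_bot hP.sylA'.two hA'
    have hbM : b ∈ cj g (normalizer (K : Set G)) := (hP.sylD.le hb'.1).2
    have hb3 := h2 b ⟨hb'.2, hbM⟩ hb2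
    have hb4 : g⁻¹ * b * g ∈ cj g⁻¹ (centralizer (K : Set G)) := by
      have := conj_mem_cj (g := g⁻¹) hb'.2
      rwa [inv_inv] at this
    have hb5 : orderOf (g⁻¹ * b * g) = 2 := by
      have := orderOf_conj g⁻¹ b
      rw [inv_inv] at this
      rw [this, hb2]
    obtain ⟨E, H, hE, hB, -, hinf⟩ := exists_E h hL hg' hb4 hb5 (mem_cj.mp hb3)
    refine ⟨g⁻¹, S', cj g⁻¹ P, E, H, ⟨h, hL, hb, hg', hPair, hE, hB, hinf, ?_⟩, ?_⟩
    · rw [e1]
      intro hbot
      have h3 := card_cj g⁻¹ (P ⊓ centralizer (K : Set G))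
      rw [hbot, Subgroup.card_bot] at h3
      exact hA' (Subgroup.card_eq_one.mp h3.symm)
    · rw [e1, e2, card_cj, card_cj]
      exact hle

/-- **A1 (c), (d).** -/
theorem beta (h : Std p K) (hL : L2K K q) (hb : Big K q) (hg : g ∉ normalizer (K : Set G))
    (he : Even (Nat.card (cj g (centralizer (K : Set G)) ⊓ normalizer (K : Set G) : Subgroup G)))
    (h1 : ∀ a ∈ cj g (centralizer (K : Set G)) ⊓ normalizer (K : Set G), orderOf a = 2 →
      a ∈ K ⊔ centralizer (K : Set G))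
    (h2 : ∀ a ∈ centralizer (K : Set G) ⊓ cj g (normalizer (K : Set G)), orderOf a = 2 →
      a ∈ cj g (K ⊔ centralizer (K : Set G)))
    {R E H : Subgroup G} (hR : IsSyl2 (centralizer (K : Set G)) R) (hE : IsSyl2 K E)
    (hB : Borel K E H q) : Beta K R E H q := by
  obtain ⟨g', S, P, E₁, H₁, s, hle⟩ := exists_sit h hL hb hg he h1 h2
  obtain ⟨hel, hcq, g₁, hg₁, hg₁R⟩ := s.exists_conj hle
  have hR₁ := s.pair.sylR
  set R₁ := S ⊓ centralizer (K : Set G) with hR₁def
  obtain ⟨y, hy, hyR⟩ := isSyl2_conj hR₁ hR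
  obtain ⟨k, hk, hkE⟩ := isSyl2_conj s.sylE hE
  have hc : Nat.card R = Nat.card R₁ := by rw [hyR, card_cj]
  refine ⟨hL, hb, hR, hE, hB, by rw [hyR]; exact elem_cj hel, by rw [hc]; exact hcq, ?_⟩
  have e1 : cj (k * y) R₁ = R := by
    rw [cj_mul, ← hyR]
    exact cj_eq_of_comm fun r hr => comm_KY k hk r (hR.le hr)
  have e2 : cj (k * y) E₁ = E := by
    rw [cj_mul, cj_eq_of_comm (A := E₁) (k := y) fun e he =>
      (comm_KY e (s.sylE.le he) y hy).symm]
    exact hkE.symm
  refine ⟨(k * y) * g₁ * (k * y)⁻¹, ?_, ?_⟩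
  · intro hmem
    apply hg₁
    have hkyM : k * y ∈ normalizer (K : Set G) :=
      KY_le (Subgroup.mul_mem _ (mem_sup_left hk) (mem_sup_right hy))
    have h3 := Subgroup.mul_mem _ (Subgroup.mul_mem _ (Subgroup.inv_mem _ hkyM) hmem) hkyM
    have e3 : (k * y)⁻¹ * (k * y * g₁ * (k * y)⁻¹) * (k * y) = g₁ := by group
    rwa [e3] at h3
  · have e3 : cj (k * y)⁻¹ R = R₁ := by rw [← e1, cj_inv_cj]
    rw [cj_mul, cj_mul, e3]
    have h4 := cj_mono (g := k * y) hg₁R
    rw [cj_sup, e1, e2] at h4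
    exact h4

end Cfsg.Agent.OddCyclic.CaseACount
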