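import Mathlib
import Cfsg.Agent.OddCyclic.CaseAField
import Cfsg.Agent.OddCyclic.CaseATransfer
import Cfsg.Agent.OddCyclic.CaseACount

/-!
# S0342, component type: a subgroup `PSL(2,16)` with a field automorphism `t` with `|C(t)|₂ ≤ 16`

`Sit`: `J ≅ PSL(2,16)`, the involution `t` induces a field automorphism on `J`, `C(t) ≤ N(J)`, 2-subgroups of
`C(t)` have order at most 16, `|C(J)|` is odd and `N(J)/JC(J)` is cyclic of order four. Then `G ≠ [G,G]`.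
-/

set_option autoImplicit false

namespace Cfsg.Agent.OddCyclic.CompFive

open Subgroup
open Cfsg.Agent.LieExceptional Cfsg.Agent.LieExceptional.CITDefs
open Cfsg.Agent.LieExceptional.CITBasic
open Cfsg.Agent.OddCyclic.CompBasic Cfsg.Agent.OddCyclic.CompStandard
open Cfsg.Agent.OddCyclic.CaseADefs Cfsg.Agent.OddCyclic.CaseABase
open Cfsg.Agent.OddCyclic.CaseACount Cfsg.Agent.OddCyclic.CaseAField

/-- `J ≅ PSL(2,16)` with the field automorphism `t` -/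
structure Sit {G : Type*} [Group G] (J : Subgroup G) (t : G) : Prop where
  t_ord : orderOf t = 2
  t_mem : t ∈ normalizer (J : Set G)
  t_out : t ∉ J ⊔ centralizer (J : Set G)
  l2 : L2K J 16
  l3 : L2K3 J 16
  odd : Odd (Nat.card (centralizer (J : Set G)))
  le : centralizer ({t} : Set G) ≤ normalizer (J : Set G)
  small : ∀ W : Subgroup G, W ≤ centralizer ({t} : Set G) → IsPGroup 2 W → Nat.card W ≤ 16

variable {G : Type*} [Group G] [Finite G] {J : Subgroup G} {t : G} {C : Type*} [Group C] [Finite C] [IsCyclic C]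

/-- a Sylow 2-subgroup of `N(J)` containing `t` -/
structure Syl (J : Subgroup G) (t : G) (P : Subgroup G) : Prop where
  syl : IsSyl2 (normalizer (J : Set G)) P
  mem : t ∈ P

omit [Finite G] in
theorem Sit.tt (s : Sit J t) : t * t = 1 := sq_of_orderOf s.t_ord

omit [Finite G] in
theorem Sit.inv (s : Sit J t) : t⁻¹ = t := inv_eq_of_mul_eq_one_left s.tt

omit [Finite G] in
theorem Sit.conj_J {P : Subgroup G} (hP : P ≤ normalizer (J : Set G)) {u : G} (hu : u ∈ P) :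
    ∀ e ∈ P ⊓ J, u * e * u⁻¹ ∈ P ⊓ J := fun e he =>
  ⟨P.mul_mem (P.mul_mem hu he.1) (P.inv_mem hu), forall_of_mem_normalizer (hP hu) e he.2⟩

theorem Syl.sylQ {P : Subgroup G} (h : Syl J t P) : IsSyl2 J (P ⊓ J) :=
  isSyl2_inf h.syl Subgroup.le_normalizer fun _ hd => forall_of_mem_normalizer hd

omit [Finite G] in
/-- 2-elements of `J × C(J)` lie in `J` -/
theorem Sit.mem_J (s : Sit J t) {u : G} (hu : u ∈ J ⊔ centralizer (J : Set G)) (h2 : ∃ n : ℕ, u ^ 2 ^ n = 1) :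
    u ∈ J := by
  obtain ⟨k, hk, y, hy, rfl⟩ := mem_KY.mp hu
  obtain ⟨n, hn⟩ := h2
  have h1 := (pow_eq_one_KY s.l2.inf hk hy hn).2
  have h3 : y = 1 := by
    rw [← orderOf_eq_one_iff]
    have h4 : orderOf y ∣ 2 ^ n := orderOf_dvd_of_pow_eq_one h1
    have h5 : orderOf y ∣ Nat.card (centralizer (J : Set G)) := Subgroup.orderOf_dvd_natCard _ hy
    exact Nat.Coprime.eq_one_of_dvd
      ((Nat.Coprime.pow_right n (Nat.coprime_two_right.mpr (Odd.of_dvd_nat s.odd h5)))) h4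
  rw [h3, mul_one]
  exact hk

omit [Finite G] in
theorem Sit.t_notMem (s : Sit J t) : t ∉ J := fun h => s.t_out (mem_sup_left h)

/-- involutions of `P ∖ J` are conjugate to `t` under `P ∩ J` -/
theorem Sit.conj_t (s : Sit J t) {P : Subgroup G} (h : Syl J t P) (ψ : normalizer (J : Set G) →* C)
    (hψ : ∀ x, ψ x = 1 ↔ x.1 ∈ J ⊔ centralizer (J : Set G)) {u : G} (hu : u ∈ P) (huu : u * u = 1)
    (hu1 : u ∉ J) : ∃ e ∈ P ⊓ J, u = e * t * e⁻¹ := by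
  have h1 : ψ ⟨u, h.syl.le hu⟩ ≠ 1 := by
    intro h2
    exact hu1 (s.mem_J ((hψ _).mp h2) ⟨1, by rw [pow_one, pow_two, huu]⟩)
  have h2 : ψ ⟨t, s.t_mem⟩ ≠ 1 := fun h3 => s.t_out ((hψ _).mp h3)
  have h3 : ψ ⟨u, h.syl.le hu⟩ = ψ ⟨t, s.t_mem⟩ := by
    apply L2Borel.invol_unique _ _ h1 h2
    · rw [← map_mul]
      have : (⟨u, h.syl.le hu⟩ : normalizer (J : Set G)) * ⟨u, h.syl.le hu⟩ = 1 := Subtype.ext huu
      rw [this, map_one]
    · rw [← map_mul]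
      have : (⟨t, s.t_mem⟩ : normalizer (J : Set G)) * ⟨t, s.t_mem⟩ = 1 := Subtype.ext s.tt
      rw [this, map_one]
  have hv : u * t⁻¹ ∈ P ⊓ J := by
    have h4 : u * t⁻¹ ∈ P := P.mul_mem hu (P.inv_mem h.mem)
    refine ⟨h4, s.mem_J ((hψ ⟨u * t⁻¹, h.syl.le h4⟩).mp ?_) (mem_of_pow_two h.syl.two h4)⟩
    have h5 : (⟨u * t⁻¹, h.syl.le h4⟩ : normalizer (J : Set G)) =
        ⟨u, h.syl.le hu⟩ * (⟨t, s.t_mem⟩)⁻¹ := rfl
    rw [h5, map_mul, map_inv, h3, mul_inv_cancel]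
  obtain ⟨H, hB⟩ := s.l2.borel _ h.sylQ
  have hvv : (u * t⁻¹) * (u * t⁻¹) = 1 := hB.elem _ hv
  rw [s.inv] at hv hvv
  have hcomm : t * (u * t) = (u * t) * t := by
    have h5 : t * u = u * t := by
      have h6 : u * (t * u * t) = 1 := by rw [← hvv]; group
      have h7 : t * u * t = u :=
        (eq_inv_of_mul_eq_one_right h6).trans (inv_eq_of_mul_eq_one_left huu)
      calc t * u = t * u * (t * t) := by rw [s.tt, mul_one]
        _ = (t * u * t) * t := by group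
        _ = u * t := by rw [h7]
    rw [← mul_assoc, h5]
  obtain ⟨e, he, h6⟩ := ((s.l3.onE _ h.sylQ t s.t_mem (Sit.conj_J h.syl.le h.mem)
    (by rw [s.tt]; exact Subgroup.one_mem _) s.t_out).2 _ hv).mp hcomm
  refine ⟨e, he, ?_⟩
  have h7 : e⁻¹ = e := inv_eq_of_mul_eq_one_left (hB.elem e he)
  rw [h7]
  calc u = (u * t) * t⁻¹ := by group
    _ = e * (t * e * t⁻¹) * t⁻¹ := by rw [h6]
    _ = e * t * e * (t * t)⁻¹ := by group
    _ = e * t * e := by rw [s.tt, inv_one, mul_one]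

/-- no conjugate of `t` lies in `P ∩ J` -/
theorem Sit.not_conj (s : Sit J t) {P : Subgroup G} (h : Syl J t P) (g : G) : g * t * g⁻¹ ∉ P ⊓ J := by
  intro hg
  obtain ⟨H, hB⟩ := s.l2.borel _ h.sylQ
  have hne : g * t * g⁻¹ ≠ 1 := by
    intro h1
    have h2 := orderOf_conj g t
    rw [h1, orderOf_one, s.t_ord] at h2
    omega
  have h4 := (s.l3.onE _ h.sylQ t s.t_mem (Sit.conj_J h.syl.le h.mem)
    (by rw [s.tt]; exact Subgroup.one_mem _) s.t_out).1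
  obtain ⟨v, hv, hv1⟩ : ∃ v ∈ (P ⊓ J) ⊓ centralizer ({t} : Set G), v ≠ 1 := by
    by_contra hno
    push Not at hno
    have h5 : (P ⊓ J) ⊓ centralizer ({t} : Set G) = ⊥ := by
      rw [eq_bot_iff]
      intro v hv
      exact mem_bot.mpr (hno v hv)
    rw [h5, Subgroup.card_bot] at h4
    norm_num at h4
  obtain ⟨x, hx, hxe⟩ : ∃ x ∈ H, x * (g * t * g⁻¹) * x⁻¹ = v := by
    have hinj : Function.Injective (fun x : H => (⟨⟨(x : G) * (g * t * g⁻¹) * (x : G)⁻¹,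
        hB.norm x x.2 _ hg⟩, fun hh => hne (by
          have h1 : (x : G) * (g * t * g⁻¹) * (x : G)⁻¹ = 1 := congrArg Subtype.val hh
          have : g * t * g⁻¹ = (x : G)⁻¹ * ((x : G) * (g * t * g⁻¹) * (x : G)⁻¹) * x := by group
          rw [this, h1]; group)⟩ : {y : (P ⊓ J : Subgroup G) // y ≠ 1})) := by
      intro x y hxy
      have h1 : (x : G) * (g * t * g⁻¹) * (x : G)⁻¹ = (y : G) * (g * t * g⁻¹) * (y : G)⁻¹ :=
        congrArg (fun z : {y : (P ⊓ J : Subgroup G) // y ≠ 1} => ((z : (P ⊓ J : Subgroup G)) : G)) hxy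
      have h2 : ((y : G)⁻¹ * x) * (g * t * g⁻¹) = (g * t * g⁻¹) * ((y : G)⁻¹ * x) := by
        calc ((y : G)⁻¹ * x) * (g * t * g⁻¹) = (y : G)⁻¹ * ((x : G) * (g * t * g⁻¹) * (x : G)⁻¹) * x := by group
          _ = (y : G)⁻¹ * ((y : G) * (g * t * g⁻¹) * (y : G)⁻¹) * x := by rw [h1]
          _ = (g * t * g⁻¹) * ((y : G)⁻¹ * x) := by group
      have h3 := H_inf s.l2 hB (H.mul_mem (H.inv_mem y.2) x.2)
        (hB.cent _ hg hne _ (hB.leH (H.mul_mem (H.inv_mem y.2) x.2)) h2)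
      exact Subtype.ext (inv_mul_eq_one.mp h3).symm
    have hbij := hinj.bijective_of_nat_card_le (by
      rw [card_ne_one, hB.cardE, hB.cardH])
    obtain ⟨x, hx⟩ := hbij.2 ⟨⟨v, hv.1⟩, fun hh => hv1 (congrArg Subtype.val hh)⟩
    exact ⟨x, x.2, congrArg (fun z : {y : (P ⊓ J : Subgroup G) // y ≠ 1} => ((z : (P ⊓ J : Subgroup G)) : G)) hx⟩
  -- `(P ∩ J)⟨t⟩` centralises `v`
  set W : Subgroup G := (P ⊓ J) ⊔ zpowers t with hW
  have hWP : W ≤ P := sup_le inf_le_left (zpowers_le.mpr h.mem)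
  have hWv : W ≤ centralizer ({v} : Set G) := by
    refine sup_le ?_ ?_
    · intro w hw
      rw [mem_centralizer_singleton_iff]
      have h6 := hB.elem w hw
      have h7 := hB.elem v hv.1
      have h8 := hB.elem _ ((P ⊓ J).mul_mem hw hv.1)
      have h9 : w⁻¹ = w := inv_eq_of_mul_eq_one_left h6
      have h10 : v⁻¹ = v := inv_eq_of_mul_eq_one_left h7
      calc w * v = (w * v)⁻¹ := (inv_eq_of_mul_eq_one_left h8).symm
        _ = v * w := by rw [mul_inv_rev, h9, h10]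
    · rw [zpowers_le, mem_centralizer_singleton_iff]
      exact (mem_centralizer_singleton_iff.mp hv.2).symm
  have hcW : 16 < Nat.card W := by
    by_contra hle
    have h6 : P ⊓ J = W := Subgroup.eq_of_le_of_card_ge le_sup_left (by rw [hB.cardE]; omega)
    have h7 : t ∈ W := mem_sup_right (mem_zpowers t)
    rw [← h6] at h7
    exact s.t_notMem h7.2
  have h8 := s.small (cj (x * g)⁻¹ W) ?_ (isPGroup_cj (h.syl.two.to_le hWP))
  · rw [card_cj] at h8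
    omega
  · have h9 := cj_mono (g := (x * g)⁻¹) hWv
    rw [cj_centralizer_singleton] at h9
    have h10 : (x * g)⁻¹ * v * ((x * g)⁻¹)⁻¹ = t := by
      rw [← hxe]; group
    rwa [h10] at h9

/-- `P` is a Sylow 2-subgroup of `G` -/
theorem Sit.syl_top (s : Sit J t) {P : Subgroup G} (h : Syl J t P) (ψ : normalizer (J : Set G) →* C)
    (hψ : ∀ x, ψ x = 1 ↔ x.1 ∈ J ⊔ centralizer (J : Set G)) : IsSyl2 ⊤ P := by
  have hpf : Fact (Nat.Prime 2) := ⟨Nat.prime_two⟩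
  obtain ⟨T, hT, hPT⟩ := exists_isSyl2 (⊤ : Subgroup G) P le_top h.syl.two
  by_cases heq : P = T
  · rw [heq]; exact hT
  exfalso
  have hlt : P.subgroupOf T ≠ ⊤ := by
    intro h1
    rw [Subgroup.subgroupOf_eq_top] at h1
    exact heq (le_antisymm hPT h1)
  have hnil : Group.IsNilpotent T := hT.two.isNilpotent
  have h2 := Group.normalizerCondition_of_isNilpotent (G := T) (P.subgroupOf T) (lt_top_iff_ne_top.mpr hlt)
  obtain ⟨n, hn, hnP⟩ := SetLike.exists_of_lt h2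
  have hnP' : (n : G) ∉ P := fun h3 => hnP (mem_subgroupOf.mpr h3)
  have hnn : ∀ x ∈ P, (n : G) * x * (n : G)⁻¹ ∈ P := by
    intro x hx
    have h4 := (mem_normalizer_iff.mp hn (⟨x, hPT hx⟩ : T)).mp hx
    exact h4
  have htt : ((n : G) * t * (n : G)⁻¹) * ((n : G) * t * (n : G)⁻¹) = 1 := by
    calc ((n : G) * t * (n : G)⁻¹) * ((n : G) * t * (n : G)⁻¹) = (n : G) * (t * t) * (n : G)⁻¹ := by group
      _ = 1 := by rw [s.tt]; group
  have hnJ : (n : G) * t * (n : G)⁻¹ ∉ J := fun h5 => s.not_conj h n ⟨hnn t h.mem, h5⟩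
  obtain ⟨e, he, h6⟩ := s.conj_t h ψ hψ (hnn t h.mem) htt hnJ
  have h7 : e⁻¹ * (n : G) ∈ normalizer (J : Set G) := by
    apply s.le
    rw [mem_centralizer_singleton_iff]
    have h8 : (n : G) * t = e * t * e⁻¹ * n := by rw [← h6]; group
    calc e⁻¹ * (n : G) * t = e⁻¹ * ((n : G) * t) := by group
      _ = t * (e⁻¹ * n) := by rw [h8]; group
  have h9 : (n : G) ∈ normalizer (J : Set G) := by
    have h10 := (normalizer (J : Set G)).mul_mem (h.syl.le he.1) h7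
    rwa [mul_inv_cancel_left] at h10
  exact hnP' (mem_isSyl2 h.syl h9 (mem_of_pow_two hT.two n.2) hnn)

theorem sq_four {a b : C} (hC : Nat.card C ∣ 4) (ha : a * a ≠ 1) : b * b = 1 ∨ b * b = a * a := by
  have key : ∀ x : C, (x * x) * (x * x) = 1 := by
    intro x
    have h1 : orderOf x ∣ 4 := (orderOf_dvd_natCard x).trans hC
    rw [← pow_two, ← pow_two, ← pow_mul]
    exact orderOf_dvd_iff_pow_eq_one.mp h1
  by_cases hb : b * b = 1
  · exact Or.inl hb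
  · exact Or.inr (L2Borel.invol_unique (key b) (key a) hb ha)

/-- the situation is impossible in a perfect group -/
theorem Sit.false (s : Sit J t) (hG : commutator G = ⊤) (hC : Nat.card C ∣ 4)
    (ψ : normalizer (J : Set G) →* C) (hψ : ∀ x, ψ x = 1 ↔ x.1 ∈ J ⊔ centralizer (J : Set G))
    (hw : ∃ w, ψ w * ψ w ≠ 1) : False := by
  have hpf : Fact (Nat.Prime 2) := ⟨Nat.prime_two⟩
  have hCc : ∀ a b : C, a * b = b * a := by
    intro a b
    obtain ⟨g, hg⟩ := IsCyclic.exists_generator (α := C)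
    obtain ⟨m, rfl⟩ := mem_zpowers_iff.mp (hg a)
    obtain ⟨n, rfl⟩ := mem_zpowers_iff.mp (hg b)
    rw [← zpow_add, ← zpow_add, add_comm]
  have hfour : ∀ x : C, (x * x) * (x * x) = 1 := by
    intro x
    have h1 : orderOf x ∣ 4 := (orderOf_dvd_natCard x).trans hC
    rw [← pow_two, ← pow_two, ← pow_mul]
    exact orderOf_dvd_iff_pow_eq_one.mp h1
  obtain ⟨P, hP, htP⟩ := exists_isSyl2 (normalizer (J : Set G)) (zpowers t) (zpowers_le.mpr s.t_mem)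
    (isPGroup_zpowers s.t_ord)
  have h : Syl J t P := ⟨hP, htP (mem_zpowers t)⟩
  have hPG := s.syl_top h ψ hψ
  obtain ⟨H, hB⟩ := s.l2.borel _ h.sylQ
  -- an element of `P` of order four modulo `J C(J)`
  obtain ⟨u₀, hu₀, hu₁⟩ : ∃ u : normalizer (J : Set G), (u : G) ∈ P ∧ ψ u * ψ u ≠ 1 := by
    obtain ⟨w, hw⟩ := hw
    obtain ⟨a, m, hm, hgm⟩ := Nat.exists_eq_two_pow_mul_odd (n := orderOf w) (orderOf_pos w).ne'
    obtain ⟨j, rfl⟩ := hm
    have h1 : ψ (w ^ (2 * j + 1)) * ψ (w ^ (2 * j + 1)) = ψ w * ψ w := by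
      rw [map_pow]
      have h2 : ψ w ^ (2 * j + 1) * ψ w ^ (2 * j + 1) = ((ψ w * ψ w) * (ψ w * ψ w)) ^ j * (ψ w * ψ w) := by
        rw [← pow_two, ← pow_two, ← pow_two, ← pow_mul, ← pow_mul, ← pow_mul, ← pow_add]
        congr 1
        ring
      rw [h2, hfour, one_pow, one_mul]
    have h2 : (w ^ (2 * j + 1)) ^ 2 ^ a = 1 := by
      rw [← pow_mul, mul_comm, ← hgm, pow_orderOf_eq_one]
    have h3 : ∃ n : ℕ, ((w ^ (2 * j + 1) : normalizer (J : Set G)) : G) ^ 2 ^ n = 1 :=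
      ⟨a, congrArg Subtype.val h2⟩
    obtain ⟨P', hP', hwP'⟩ := exists_isSyl2 (normalizer (J : Set G))
      (zpowers ((w ^ (2 * j + 1) : normalizer (J : Set G)) : G)) (zpowers_le.mpr (w ^ (2 * j + 1)).2)
      (isPGroup_zpowers_of_pow h3)
    obtain ⟨n, hn, hPn⟩ := isSyl2_conj hP' hP
    refine ⟨⟨n, hn⟩ * (w ^ (2 * j + 1)) * (⟨n, hn⟩)⁻¹, ?_, ?_⟩
    · rw [hPn]
      exact conj_mem_cj (hwP' (mem_zpowers _))
    · rw [map_mul, map_mul, map_inv, hCc (ψ ⟨n, hn⟩), mul_inv_cancel_right, h1]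
      exact hw
  -- the subgroup of index two
  let T₁ : Subgroup G :=
    { carrier := {u | u ∈ P ∧ ∃ hu : u ∈ normalizer (J : Set G), ψ ⟨u, hu⟩ * ψ ⟨u, hu⟩ = 1}
      one_mem' := ⟨P.one_mem, Subgroup.one_mem _, by
        have : (⟨1, Subgroup.one_mem _⟩ : normalizer (J : Set G)) = 1 := rfl
        rw [this, map_one, mul_one]⟩
      mul_mem' := by
        rintro a b ⟨ha, ha', ha2⟩ ⟨hb, hb', hb2⟩
        refine ⟨P.mul_mem ha hb, Subgroup.mul_mem _ ha' hb', ?_⟩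
        have h1 : (⟨a * b, Subgroup.mul_mem _ ha' hb'⟩ : normalizer (J : Set G)) = ⟨a, ha'⟩ * ⟨b, hb'⟩ := rfl
        rw [h1, map_mul]
        calc ψ ⟨a, ha'⟩ * ψ ⟨b, hb'⟩ * (ψ ⟨a, ha'⟩ * ψ ⟨b, hb'⟩)
            = ψ ⟨a, ha'⟩ * (ψ ⟨b, hb'⟩ * ψ ⟨a, ha'⟩) * ψ ⟨b, hb'⟩ := by group
          _ = (ψ ⟨a, ha'⟩ * ψ ⟨a, ha'⟩) * (ψ ⟨b, hb'⟩ * ψ ⟨b, hb'⟩) := by
            rw [hCc (ψ ⟨b, hb'⟩) (ψ ⟨a, ha'⟩)]; group
          _ = 1 := by rw [ha2, hb2, mul_one]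
      inv_mem' := by
        rintro a ⟨ha, ha', ha2⟩
        refine ⟨P.inv_mem ha, Subgroup.inv_mem _ ha', ?_⟩
        have h1 : (⟨a⁻¹, Subgroup.inv_mem _ ha'⟩ : normalizer (J : Set G)) = (⟨a, ha'⟩)⁻¹ := rfl
        rw [h1, map_inv, ← mul_inv_rev, ha2, inv_one] }
  have hmemT : ∀ u : normalizer (J : Set G), (u : G) ∈ T₁ ↔ (u : G) ∈ P ∧ ψ u * ψ u = 1 := by
    intro u
    constructor
    · rintro ⟨h1, h2, h3⟩; exact ⟨h1, h3⟩
    · rintro ⟨h1, h3⟩; exact ⟨h1, u.2, h3⟩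
  have hT₁P : T₁ ≤ P := fun u hu => hu.1
  have hidx : T₁.relIndex P = 2 := by
    rw [relIndex, Subgroup.index_eq_two_iff]
    refine ⟨⟨u₀, hu₀⟩, ?_⟩
    rintro ⟨b, hb⟩
    have hbN := h.syl.le hb
    have e1 : (⟨b, hb⟩ * ⟨(u₀ : G), hu₀⟩ : P) ∈ T₁.subgroupOf P ↔ ψ (⟨b, hbN⟩ * u₀) * ψ (⟨b, hbN⟩ * u₀) = 1 := by
      rw [mem_subgroupOf]
      have h1 := hmemT (⟨b, hbN⟩ * u₀)
      constructor
      · intro h2; exact (h1.mp h2).2
      · intro h2; exact h1.mpr ⟨P.mul_mem hb hu₀, h2⟩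
    have e2 : (⟨b, hb⟩ : P) ∈ T₁.subgroupOf P ↔ ψ ⟨b, hbN⟩ * ψ ⟨b, hbN⟩ = 1 := by
      rw [mem_subgroupOf]
      have h1 := hmemT ⟨b, hbN⟩
      constructor
      · intro h2; exact (h1.mp h2).2
      · intro h2; exact h1.mpr ⟨hb, h2⟩
    have e3 : ψ (⟨b, hbN⟩ * u₀) * ψ (⟨b, hbN⟩ * u₀) = (ψ ⟨b, hbN⟩ * ψ ⟨b, hbN⟩) * (ψ u₀ * ψ u₀) := by
      rw [map_mul]
      calc ψ ⟨b, hbN⟩ * ψ u₀ * (ψ ⟨b, hbN⟩ * ψ u₀) = ψ ⟨b, hbN⟩ * (ψ u₀ * ψ ⟨b, hbN⟩) * ψ u₀ := by group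
        _ = _ := by rw [hCc (ψ u₀)]; group
    rw [e1, e2, e3]
    rcases sq_four (b := ψ ⟨b, hbN⟩) hC hu₁ with h2 | h2
    · rw [h2, one_mul]
      exact Or.inr ⟨rfl, hu₁⟩
    · rw [h2]
      exact Or.inl ⟨hfour _, hu₁⟩
  -- the Sylow subgroup
  let T : Sylow 2 G := ⟨P, hPG.two, fun hQ hle => hPG.max _ le_top hQ hle⟩
  -- an element of minimal order
  obtain ⟨g, ⟨hgP, hgT⟩, hmin⟩ := Set.exists_min_image {u : G | u ∈ P ∧ u ∉ T₁} orderOf (Set.toFinite _)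
    ⟨u₀, hu₀, fun h1 => hu₁ ((hmemT u₀).mp h1).2⟩
  obtain ⟨a, ha⟩ := CaseATransfer.exists_conj_of_min hG T T₁ hT₁P hidx hgP hgT
    (fun x hx hx1 => hmin x ⟨hx, hx1⟩)
  have hsq : ∀ u : normalizer (J : Set G), (u : G) ∈ P → ψ u = 1 → (u : G) ∈ P ⊓ J := by
    intro u hu hu1
    exact ⟨hu, s.mem_J ((hψ u).mp hu1) (mem_of_pow_two h.syl.two hu)⟩
  set g' : normalizer (J : Set G) := ⟨a * g * a⁻¹, h.syl.le (hT₁P ha)⟩ with hg'
  have h1 : (g' : G) * g' ∈ P ⊓ J := hsq (g' * g') (P.mul_mem (hT₁P ha) (hT₁P ha)) (by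
    rw [map_mul]
    exact ((hmemT g').mp ha).2)
  have h2 : (g * g) * (g * g) = 1 := by
    have h3 := hB.elem _ h1
    have h4 : a * ((g * g) * (g * g)) * a⁻¹ = 1 := by
      rw [← h3]
      show a * ((g * g) * (g * g)) * a⁻¹ = (a * g * a⁻¹) * (a * g * a⁻¹) * ((a * g * a⁻¹) * (a * g * a⁻¹))
      group
    have h5 : (g * g) * (g * g) = a⁻¹ * (a * ((g * g) * (g * g)) * a⁻¹) * a := by group
    rw [h5, h4]; group
  have h3 : g * g ∉ J := by
    intro h4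
    apply hgT
    refine ⟨hgP, h.syl.le hgP, ?_⟩
    rw [← map_mul, hψ]
    exact mem_sup_left h4
  obtain ⟨e, he, h4⟩ := s.conj_t h ψ hψ (P.mul_mem hgP hgP) h2 h3
  apply s.not_conj h (a * e)
  have h5 : a * e * t * (a * e)⁻¹ = (g' : G) * g' := by
    have h6 : a * e * t * (a * e)⁻¹ = a * (e * t * e⁻¹) * a⁻¹ := by group
    rw [h6, ← h4]
    show a * (g * g) * a⁻¹ = (a * g * a⁻¹) * (a * g * a⁻¹)
    group
  rw [h5]
  exact h1

end Cfsg.Agent.OddCyclic.CompFive
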