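import Mathlib
import Cfsg.Agent.OddCyclic.PumpMain
import Cfsg.Agent.SporRec.J1.Main
import Cfsg.Agent.SporadicB.J1.Main

/-!
# S0342, case A, [A-h1]: pump-ups of `PSL(2,q₀)`

`card_eq`: let `G` have cyclic odd Sylow subgroups and let all proper quasisimple subgroups be covers of groups of the
list `KZero`. If an involution `t` normalises the quasisimple `J ≠ G` and `L ≅ PSL(2,q₀)`, `q = q₀² ≥ 16` even, `L ≠ J`
is a subgroup of `C_J(t)` normalised by `C_J(t)`, then `|J| = q(q² - 1)`, or `q = 16` and `|J| = |J₁|`.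
-/

set_option autoImplicit false

namespace Cfsg.Agent.OddCyclic.CaseAPumpL2

open Subgroup Cfsg.Agent.OddCyclic.T1Defs Cfsg.Agent.OddCyclic.PumpMain
open Cfsg.Agent.OddCyclic.CompBasic Cfsg.Agent.OddCyclic.CompStandard
open scoped commutatorElement

/-- a group with the local structure of `J₁` has its order -/
theorem card_local {S : Type*} [Group S] [Finite S] (h : SporRec.J1.Defs.Local S) {k : S} (hk : orderOf k = 2) :
    Nat.card S = 175560 := by
  obtain ⟨φ⟩ := SporRec.J1.Main.iso_of_local h k hk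
  exact (Nat.card_congr φ.toEquiv).trans SporadicB.J1.Main.isJ1.2

/-- involutory automorphisms of `PSL(2,2^f)` with a nontrivial perfect subgroup of fixed points -/
theorem exists_fix_two {S : Type*} [Group S] {F : Type} [Field F] [Fintype F] {f : ℕ} (hF : Fintype.card F = 2 ^ f)
    (e : S ≃* Matrix.ProjectiveSpecialLinearGroup (Fin 2) F) {α : MulAut S} (hα : α ≠ 1) (hα2 : ∀ z, α (α z) = z)
    {H : Subgroup S} (hH : PF α H) (hne : H ≠ ⊥) :
    ∃ (K : Type) (_ : Field K) (_ : Fintype K) (m : ℕ) (A : Subgroup S),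
      Fintype.card F = Fintype.card K ^ 2 ∧ Fintype.card K = 2 ^ m ∧ 4 ≤ Fintype.card K ∧
      Nonempty (A ≃* Matrix.SpecialLinearGroup (Fin 2) K) ∧ ∀ x, α x = x ↔ x ∈ A := by
  have hchar := charP_two hF
  obtain ⟨e'⟩ := WeakTI.PslTwo.nonempty_equiv (F := F)
  let π : Matrix.SpecialLinearGroup (Fin 2) F →* S := (e'.trans e.symm).toMonoidHom
  have hπ : Function.Bijective π := (e'.trans e.symm).bijective
  have hk : π.ker ≤ Subgroup.center (Matrix.SpecialLinearGroup (Fin 2) F) := by
    rw [(MonoidHom.ker_eq_bot_iff π).mpr hπ.1]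
    exact bot_le
  by_cases hg : ∃ g : Matrix.GeneralLinearGroup (Fin 2) F,
      ∀ x, α (π x) = π (Cfsg.Agent.Lib.SL2Mat.conjGL g x)
  · obtain ⟨g, hg⟩ := hg
    exact absurd (PumpPsl.eq_bot_of_gl hπ.2 hk hα hg hH.fix hH.perf) hne
  · obtain ⟨K, φ, hK, hφ, hfix⟩ := PumpPsl.exists_fix hπ hα2 hg
    have hKf : Finite K := inferInstance
    let _ := Fintype.ofFinite K
    rw [Nat.card_eq_fintype_card, Nat.card_eq_fintype_card] at hK
    obtain ⟨m, hm, hKm⟩ := (Nat.dvd_prime_pow Nat.prime_two).mp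
      (show Fintype.card K ∣ 2 ^ f by rw [← hF, hK]; exact dvd_pow_self _ (by norm_num))
    have hK1 : 1 < Fintype.card K := Fintype.one_lt_card
    rcases Nat.lt_or_ge 1 m with h | h
    · have h4 : 4 ≤ Fintype.card K := by
        rw [hKm]
        calc 4 = 2 ^ 2 := by norm_num
          _ ≤ 2 ^ m := Nat.pow_le_pow_right (by norm_num) h
      exact ⟨K, inferInstance, inferInstance, m, φ.range, hK, hKm, h4, ⟨(MonoidHom.ofInjective hφ).symm⟩,
        hfix⟩
    · exfalso
      apply hne
      have hK2 : Fintype.card K = 2 := by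
        have : m = 0 ∨ m = 1 := by omega
        rcases this with rfl | rfl
        · rw [hKm] at hK1
          norm_num at hK1
        · simpa using hKm
      have hle : H ≤ φ.range := fun x hx => (hfix x).mp (hH.fix x hx)
      have h6 : Nat.card φ.range = 6 := by
        rw [← Nat.card_congr (MonoidHom.ofInjective hφ).toEquiv, ClassicalGeometry.PSL2Basic.card_SL2, hK2]
        norm_num
      have h7 : Nat.card H ∣ 6 := by
        rw [← h6]
        exact Subgroup.card_dvd_of_le hle
      have hsq : Squarefree (Nat.card H) := by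
        have : Squarefree 6 := by decide +kernel
        exact this.squarefree_of_dvd h7
      have hfin : Finite H := Nat.finite_of_card_ne_zero (fun h0 => by rw [h0] at h7; norm_num at h7)
      have := IsZGroup.of_squarefree hsq
      exact Cfsg.Agent.Schreier.Basic.eq_bot_of_perfect_of_solvable hH.perf inferInstance

theorem cube_inj {a b : ℕ} (ha : 1 ≤ a) (hb : 1 ≤ b) (h : a * (a ^ 2 - 1) = b * (b ^ 2 - 1)) (ha4 : 4 ≤ a) :
    a = b := by
  have h1 : 1 ≤ a ^ 2 := Nat.one_le_pow _ _ ha
  have h2 : 1 ≤ b ^ 2 := Nat.one_le_pow _ _ hb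
  zify [h1, h2] at h ⊢
  have ha' : (4 : ℤ) ≤ a := by exact_mod_cast ha4
  have hb' : (1 : ℤ) ≤ b := by exact_mod_cast hb
  have h3 : ((a : ℤ) - b) * (a ^ 2 + a * b + b ^ 2 - 1) = 0 := by linear_combination h
  rcases mul_eq_zero.mp h3 with h4 | h4
  · linarith
  · exfalso
    nlinarith

universe u

variable {G : Type u} [Group G] [Finite G]

/-- **[A-h1]** -/
theorem card_eq (hG : OddCyc G)
    (hk : ∀ J : Subgroup G, J ≠ ⊤ → IsQuasisimple J → KZero (J ⧸ center J)) {J L : Subgroup G} {t : G}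
    (ht : orderOf t = 2) (hJt : J ≠ ⊤) (hJ : IsQuasisimple J) (htJ : t ∈ normalizer (J : Set G)) (hLJ : L ≤ J)
    (hne : L ≠ J) (hLt : ∀ x ∈ L, x * t = t * x) (hn : ∀ y ∈ J, y * t = t * y → ∀ x ∈ L, y * x * y⁻¹ ∈ L)
    {F₀ : Type*} [Field F₀] [Fintype F₀] {q f : ℕ} (hF : Fintype.card F₀ = 2 ^ f) (hq : q = Fintype.card F₀ ^ 2)
    (h16 : 16 ≤ q) (e : L ≃* Matrix.ProjectiveSpecialLinearGroup (Fin 2) F₀) :
    Nat.card J = q * (q ^ 2 - 1) ∨ (q = 16 ∧ Nat.card J = 175560) := by
  have h4 : 4 ≤ Fintype.card F₀ := by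
    by_contra h
    have : Fintype.card F₀ ≤ 3 := by omega
    have : Fintype.card F₀ ^ 2 ≤ 3 ^ 2 := Nat.pow_le_pow_left this 2
    omega
  have hLs : IsSimpleGroup L := by
    have := TwoFusion.SLTwoFacts.isSimpleGroup_psl (F := F₀) (by omega)
    exact e.isSimpleGroup
  have heven : Even (Fintype.card F₀) := by
    rw [hF]
    have : f ≠ 0 := by
      rintro rfl
      rw [hF] at h4
      norm_num at h4
    exact (even_two.pow_of_ne_zero this)
  have hLc : Nat.card L = Fintype.card F₀ * (Fintype.card F₀ ^ 2 - 1) := by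
    rw [Nat.card_congr e.toEquiv]
    exact ClassicalGeometry.PSL2Basic.card_PSL2_even F₀ heven
  have hJc : OddCyc J := oddCyc_subgroup hG J
  -- `L` is perfect and not trivial
  have hLnc : ¬ ∀ a b : L, a * b = b * a := by
    intro hc
    let _ : CommGroup L := { (inferInstance : Group L) with mul_comm := hc }
    have h2 : (Nat.card L).Prime := IsSimpleGroup.prime_card
    rw [hLc] at h2
    have h3 : ¬ (Fintype.card F₀ * (Fintype.card F₀ ^ 2 - 1)).Prime := by
      apply Nat.not_prime_mul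
      · omega
      · have : 4 ^ 2 ≤ Fintype.card F₀ ^ 2 := Nat.pow_le_pow_left h4 2
        omega
    exact h3 h2
  have hLp : ⁅L, L⁆ = L := by
    have h1 : (commutator L).Normal := inferInstance
    rcases h1.eq_bot_or_eq_top with h2 | h2
    · exfalso
      apply hLnc
      rw [_root_.commutator_def, Subgroup.commutator_eq_bot_iff_le_centralizer] at h2
      exact fun a b => (mem_centralizer_iff.mp (h2 (mem_top b)) a (Set.mem_univ _))
    · have h3 := congrArg (Subgroup.map L.subtype) h2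
      rwa [_root_.commutator_def, Subgroup.map_commutator, ← MonoidHom.range_eq_map, Subgroup.range_subtype] at h3
  have hLnb : L ≠ ⊥ := by
    rintro rfl
    obtain ⟨a, ha⟩ := exists_ne (1 : (⊥ : Subgroup G))
    exact ha (Subsingleton.elim _ _)
  -- the automorphism
  let β : MulAut J := J.normalizerMonoidHom ⟨t, htJ⟩
  have hβ : ∀ x : J, ((β x : J) : G) = t * x * t⁻¹ := fun x => rfl
  have htt : t * t = 1 := by
    rw [← pow_two, ← ht, pow_orderOf_eq_one]
  have hβ2 : ∀ x, β (β x) = x := by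
    intro x
    apply Subtype.ext
    rw [hβ, hβ]
    calc t * (t * x * t⁻¹) * t⁻¹ = (t * t) * x * (t * t)⁻¹ := by group
      _ = x := by rw [htt]; simp
  have hLnc' : ¬ L.subgroupOf J ≤ center J := by
    intro h2
    apply hLnc
    intro a b
    apply Subtype.ext
    have h3 := mem_center_iff.mp (h2 (show (⟨(b : G), hLJ b.2⟩ : J) ∈ L.subgroupOf J from b.2)) ⟨a, hLJ a.2⟩
    exact congrArg (fun x : J => (x : G)) h3
  have hβ1 : β ≠ 1 := by
    intro h1
    have hcomm : ∀ y ∈ J, y * t = t * y := by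
      intro y hy
      have h2 : ((β ⟨y, hy⟩ : J) : G) = y := by rw [h1]; rfl
      rw [hβ] at h2
      exact (mul_inv_eq_iff_eq_mul.mp h2).symm
    have hnorm : (L.subgroupOf J).Normal := by
      refine ⟨fun x hx y => ?_⟩
      exact hn y y.2 (hcomm y y.2) x hx
    rcases SignalizersComponents.Components.quasisimple_normal hJ _ hnorm with h2 | h2
    · rw [Subgroup.subgroupOf_eq_top] at h2
      exact hne (le_antisymm hLJ h2)
    · exact hLnc' h2
  set α : MulAut (J ⧸ center J) := ThreePrime.AutQuot.autQuot J β with hα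
  have hα1 : α ≠ 1 := fun h1 => hβ1 (ThreePrime.AutQuot.eq_one_of_autQuot_eq_one hJ.1 h1)
  have hα2 : ∀ z, α (α z) = z := by
    intro z
    obtain ⟨x, rfl⟩ := QuotientGroup.mk_surjective z
    rw [hα, ThreePrime.AutQuot.autQuot_mk, ThreePrime.AutQuot.autQuot_mk, hβ2]
  have hαπ : ∀ x : J, α (QuotientGroup.mk' (center J) x) = QuotientGroup.mk' (center J) (β x) := fun x => by
    rw [hα]
    exact ThreePrime.AutQuot.autQuot_mk _ _
  -- the image of `L`
  let H : Subgroup (J ⧸ center J) := (L.subgroupOf J).map (QuotientGroup.mk' (center J))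
  have hLJp : ⁅L.subgroupOf J, L.subgroupOf J⁆ = L.subgroupOf J := by
    apply Subgroup.map_injective J.subtype_injective
    rw [Subgroup.map_commutator, Subgroup.map_subgroupOf_eq_of_le hLJ, hLp]
  have hH : PF α H := by
    refine ⟨?_, Schreier.Basic.map_perfect _ hLJp⟩
    rintro _ ⟨x, hx, rfl⟩
    rw [hαπ]
    congr 1
    apply Subtype.ext
    rw [hβ, ← hLt x hx, mul_inv_cancel_right]
  have hHne : H ≠ ⊥ := by
    intro h1
    apply hLnc'
    intro x hx
    have h3 : (QuotientGroup.mk' (center J)) x ∈ H := ⟨x, hx, rfl⟩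
    rw [h1, mem_bot, ← MonoidHom.mem_ker, QuotientGroup.ker_mk'] at h3
    exact h3
  have hs : IsSimpleGroup (J ⧸ center J) := hJ.2
  -- the order of `H`
  have hcardH : center J = ⊥ → Nat.card H = Nat.card L := by
    intro hc
    have hinj : Function.Injective (QuotientGroup.mk' (center J)) := by
      rw [← MonoidHom.ker_eq_bot_iff, QuotientGroup.ker_mk', hc]
    rw [Subgroup.card_map_of_injective hinj]
    exact Nat.card_congr (Subgroup.subgroupOfEquivOfLe hLJ).toEquiv
  have hcardJ : center J = ⊥ → Nat.card (J ⧸ center J) = Nat.card J := by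
    intro hc
    rw [hc]
    exact (Nat.card_congr (QuotientGroup.quotientBot (G := J)).toEquiv)
  rcases hk J hJt hJ with ⟨F, _, _, hFp, -, ⟨e2⟩⟩ | ⟨F, _, _, f2, hf2, hF2, ⟨e2⟩⟩ | h | ⟨h, k, hko⟩
  · exact absurd (triv_of_prime hFp e2 α hα1 hα2 H hH) hHne
  · left
    obtain ⟨K, _, _, m, A, hKF, hKm, hK4, ⟨eA⟩, hA⟩ := exists_fix_two hF2 e2 hα1 hα2 hH hHne
    have hF4 : 4 < Fintype.card F := by
      rw [hKF]
      nlinarith
    have hc := center_eq_bot_of_two hJc hJ.1 hF2 hF4 e2
    have hinj : Function.Injective (QuotientGroup.mk' (center J)) := by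
      rw [← MonoidHom.ker_eq_bot_iff, QuotientGroup.ker_mk', hc]
    have hHA : H ≤ A := fun x hx => (hA x).mp (hH.fix x hx)
    have hnorm : (H.subgroupOf A).Normal := by
      refine ⟨?_⟩
      rintro ⟨x, hxA⟩ ⟨x', hx', hxx⟩ ⟨a, ha⟩
      obtain ⟨y, rfl⟩ := QuotientGroup.mk'_surjective (center J) a
      have h1 := (hA _).mpr ha
      rw [hαπ] at h1
      have h2 := hinj h1
      have h3 : (y : G) * t = t * y := by
        have h4 := congrArg Subtype.val h2
        rw [hβ] at h4
        exact (mul_inv_eq_iff_eq_mul.mp h4).symm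
      refine ⟨y * x' * y⁻¹, hn y y.2 h3 x' hx', ?_⟩
      rw [map_mul, map_mul, map_inv, hxx]
      rfl
    have hcharK := charP_two hKm
    have hAs : IsSimpleGroup A := by
      obtain ⟨e3⟩ := WeakTI.PslTwo.nonempty_equiv (F := K)
      have := TwoFusion.SLTwoFacts.isSimpleGroup_psl (F := K) (by omega)
      exact (eA.trans e3).isSimpleGroup
    have hHA' : H = A := by
      rcases hnorm.eq_bot_or_eq_top with h5 | h5
      · rw [Subgroup.subgroupOf_eq_bot] at h5
        exact absurd (disjoint_self.mp (h5.mono_right hHA)) hHne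
      · rw [Subgroup.subgroupOf_eq_top] at h5
        exact le_antisymm hHA h5
    have hcA : Nat.card A = Fintype.card K * (Fintype.card K ^ 2 - 1) := by
      rw [Nat.card_congr eA.toEquiv, ClassicalGeometry.PSL2Basic.card_SL2]
    have h6 : Fintype.card K * (Fintype.card K ^ 2 - 1) = Fintype.card F₀ * (Fintype.card F₀ ^ 2 - 1) := by
      rw [← hcA, ← hHA', hcardH hc, hLc]
    have h7 := cube_inj (by omega) (by omega) h6 hK4
    have h8 : Even (Fintype.card F) := by
      rw [hF2]
      exact even_two.pow_of_ne_zero (by omega)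
    rw [← hcardJ hc, Nat.card_congr e2.toEquiv, ClassicalGeometry.PSL2Basic.card_PSL2_even F h8, hKF, h7, ← hq]
  · exact absurd (triv_of_suzuki h α hα1 hα2 H hH) hHne
  · right
    have hc := center_eq_bot_of_local hJc hJ.1 h hko
    obtain ⟨A, ⟨eA⟩, h1, h2⟩ := PumpJOne.exists_fix_local h hko hα1 hα2
    have hHA : H ≤ A := h2 H hH.fix hH.perf
    have hcA : Nat.card A = 60 := by
      rw [Nat.card_congr eA.toEquiv, nat_card_alternatingGroup]
      simp [Nat.factorial]
    have h60 : Nat.card L ∣ 60 := by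
      rw [← hcardH hc, ← hcA]
      exact Subgroup.card_dvd_of_le hHA
    have h60' := Nat.le_of_dvd (by norm_num) h60
    have hF4 : Fintype.card F₀ = 4 := by
      by_contra h5
      have h6 : 5 ≤ Fintype.card F₀ := by omega
      have h7 : 5 ^ 2 ≤ Fintype.card F₀ ^ 2 := Nat.pow_le_pow_left h6 2
      have h8 : 5 * (5 ^ 2 - 1) ≤ Fintype.card F₀ * (Fintype.card F₀ ^ 2 - 1) :=
        Nat.mul_le_mul h6 (Nat.sub_le_sub_right h7 1)
      rw [hLc] at h60'
      norm_num at h8
      omega
    refine ⟨by rw [hq, hF4]; norm_num, ?_⟩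
    rw [← hcardJ hc]
    exact card_local h hko

end Cfsg.Agent.OddCyclic.CaseAPumpL2
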