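import Mathlib
import Cfsg.Agent.OddCyclic.CaseAPumpL2
import Cfsg.Agent.OddCyclic.CompCovers

/-!
# S0342, component type: `K ≅ A₅`, `|C(K)|₂ = 2`, `N(K)/KC(K)` of even order: tools

* `iso_of_pump`: the isomorphism type of a pump-up of `PSL(2,q₀)`, `q₀` even.
* `mem_oddCore_of_card_le`: if 2-subgroups have order at most two, then the elements of odd order lie in the odd core.
-/

set_option autoImplicit false

namespace Cfsg.Agent.OddCyclic.CompFive

open Subgroup Cfsg.Agent.OddCyclic.T1Defs Cfsg.Agent.OddCyclic.PumpMain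
open Cfsg.Agent.OddCyclic.CompBasic Cfsg.Agent.OddCyclic.CompStandard
open Cfsg.Agent.OddCyclic.CaseAPumpL2
open scoped commutatorElement

theorem mem_oddCore_of_card_le {Y : Type*} [Group Y] [Finite Y]
    (h2 : ∀ Q : Subgroup Y, IsPGroup 2 Q → Nat.card Q ≤ 2) {y : Y} (ho : Odd (orderOf y)) :
    y ∈ oddCore Y := by
  have hf : Fact (Nat.Prime 2) := ⟨Nat.prime_two⟩
  by_cases hodd : Odd (Nat.card Y)
  · have h5 : (⊤ : Subgroup Y) ≤ oddCore Y := by
      refine Cfsg.Agent.Lib.Cores.le_pPrimeCore (Subgroup.Normal.mk fun _ _ _ => mem_top _) ?_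
      rw [Subgroup.card_top]
      exact Nat.coprime_two_right.mpr hodd
    exact h5 (mem_top y)
  · obtain ⟨P⟩ : Nonempty (Sylow 2 Y) := inferInstance
    have hcP : Nat.card P ≤ 2 := h2 P P.isPGroup'
    have hcyc : IsCyclic P := by
      rcases Nat.lt_or_ge (Nat.card P) 2 with h1 | h1
      · have h2 : Nat.card P = 1 := by
          have : 0 < Nat.card P := Nat.card_pos
          omega
        have := (Nat.card_eq_one_iff_unique.mp h2).1
        infer_instance
      · exact isCyclic_of_prime_card (p := 2) (le_antisymm hcP h1)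
    have hmin : (Nat.card Y).minFac = 2 := by
      rw [Nat.minFac_eq_two_iff, ← even_iff_two_dvd, ← Nat.not_odd_iff_even]
      exact hodd
    have hcomp := IsCyclic.isComplement' hmin hcyc
    set N : Subgroup Y := (MonoidHom.transferSylow P (hcyc.normalizer_le_centralizer hmin)).ker with hN
    have hNn : N.Normal := MonoidHom.normal_ker _
    have hNo : Odd (Nat.card N) := by
      have h2 : (P : Subgroup Y).index = Nat.card N := hcomp.index_eq_card
      rw [← h2, ← Nat.not_even_iff_odd, even_iff_two_dvd]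
      exact P.not_dvd_index
    have hyN : y ∈ N := by
      have h1 : N.index = Nat.card P := hcomp.symm.index_eq_card
      have h2 : orderOf (QuotientGroup.mk' N y) ∣ Nat.card P := by
        rw [← h1]; exact orderOf_dvd_natCard _
      have h3 : orderOf (QuotientGroup.mk' N y) ∣ orderOf y := orderOf_map_dvd _ _
      have h4 : orderOf (QuotientGroup.mk' N y) = 1 := by
        obtain ⟨k, hk⟩ := P.2.exists_card_eq
        rw [hk] at h2
        exact Nat.Coprime.eq_one_of_dvd (Nat.Coprime.pow_right k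
          (Nat.Coprime.coprime_dvd_left h3 ho.coprime_two_right)) h2
      rw [orderOf_eq_one_iff, QuotientGroup.mk'_apply, QuotientGroup.eq_one_iff] at h4
      exact h4
    exact Cfsg.Agent.Lib.Cores.le_pPrimeCore hNn (Nat.coprime_two_right.mpr hNo) hyN

universe u

variable {G : Type u} [Group G] [Finite G]

/-- the isomorphism types of the pump-ups of `PSL(2,q₀)` -/
theorem iso_of_pump (hG : OddCyc G)
    (hk : ∀ J : Subgroup G, J ≠ ⊤ → IsQuasisimple J → KZero (J ⧸ center J)) {J L : Subgroup G} {t : G}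
    (ht : orderOf t = 2) (hJt : J ≠ ⊤) (hJ : IsQuasisimple J) (htJ : t ∈ normalizer (J : Set G)) (hLJ : L ≤ J)
    (hne : L ≠ J) (hLt : ∀ x ∈ L, x * t = t * x) (hn : ∀ y ∈ J, y * t = t * y → ∀ x ∈ L, y * x * y⁻¹ ∈ L)
    {F₀ : Type*} [Field F₀] [Fintype F₀] {f : ℕ} (hF : Fintype.card F₀ = 2 ^ f)
    (h4 : 4 ≤ Fintype.card F₀) (e : L ≃* Matrix.ProjectiveSpecialLinearGroup (Fin 2) F₀) :
    (∃ (F : Type) (_ : Field F) (_ : Fintype F) (f₂ : ℕ), Fintype.card F = 2 ^ f₂ ∧
      Fintype.card F = Fintype.card F₀ ^ 2 ∧ Nonempty (J ≃* Matrix.ProjectiveSpecialLinearGroup (Fin 2) F)) ∨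
    (SporRec.J1.Defs.Local J ∧ ∃ k : J, orderOf k = 2) := by
  have hLs : IsSimpleGroup L := by
    have := TwoFusion.SLTwoFacts.isSimpleGroup_psl (F := F₀) (by omega)
    exact e.isSimpleGroup
  have heven : Even (Fintype.card F₀) := by
    rw [hF]
    have : f ≠ 0 := by
      rintro rfl
      rw [hF] at h4
      norm_num at h4
    exact (even_two.pow_of_ne_zero this)
  have hLc : Nat.card L = Fintype.card F₀ * (Fintype.card F₀ ^ 2 - 1) := by
    rw [Nat.card_congr e.toEquiv]
    exact ClassicalGeometry.PSL2Basic.card_PSL2_even F₀ heven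
  have hJc : OddCyc J := oddCyc_subgroup hG J
  -- `L` is perfect and not trivial
  have hLnc : ¬ ∀ a b : L, a * b = b * a := by
    intro hc
    let _ : CommGroup L := { (inferInstance : Group L) with mul_comm := hc }
    have h2 : (Nat.card L).Prime := IsSimpleGroup.prime_card
    rw [hLc] at h2
    have h3 : ¬ (Fintype.card F₀ * (Fintype.card F₀ ^ 2 - 1)).Prime := by
      apply Nat.not_prime_mul
      · omega
      · have : 4 ^ 2 ≤ Fintype.card F₀ ^ 2 := Nat.pow_le_pow_left h4 2
        omega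
    exact h3 h2
  have hLp : ⁅L, L⁆ = L := by
    have h1 : (commutator L).Normal := inferInstance
    rcases h1.eq_bot_or_eq_top with h2 | h2
    · exfalso
      apply hLnc
      rw [_root_.commutator_def, Subgroup.commutator_eq_bot_iff_le_centralizer] at h2
      exact fun a b => (mem_centralizer_iff.mp (h2 (mem_top b)) a (Set.mem_univ _))
    · have h3 := congrArg (Subgroup.map L.subtype) h2
      rwa [_root_.commutator_def, Subgroup.map_commutator, ← MonoidHom.range_eq_map, Subgroup.range_subtype] at h3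
  -- the automorphism
  let β : MulAut J := J.normalizerMonoidHom ⟨t, htJ⟩
  have hβ : ∀ x : J, ((β x : J) : G) = t * x * t⁻¹ := fun x => rfl
  have htt : t * t = 1 := by
    rw [← pow_two, ← ht, pow_orderOf_eq_one]
  have hβ2 : ∀ x, β (β x) = x := by
    intro x
    apply Subtype.ext
    rw [hβ, hβ]
    calc t * (t * x * t⁻¹) * t⁻¹ = (t * t) * x * (t * t)⁻¹ := by group
      _ = x := by rw [htt]; simp
  have hLnc' : ¬ L.subgroupOf J ≤ center J := by
    intro h2
    apply hLnc
    intro a b
    apply Subtype.ext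
    have h3 := mem_center_iff.mp (h2 (show (⟨(b : G), hLJ b.2⟩ : J) ∈ L.subgroupOf J from b.2)) ⟨a, hLJ a.2⟩
    exact congrArg (fun x : J => (x : G)) h3
  have hβ1 : β ≠ 1 := by
    intro h1
    have hcomm : ∀ y ∈ J, y * t = t * y := by
      intro y hy
      have h2 : ((β ⟨y, hy⟩ : J) : G) = y := by rw [h1]; rfl
      rw [hβ] at h2
      exact (mul_inv_eq_iff_eq_mul.mp h2).symm
    have hnorm : (L.subgroupOf J).Normal := by
      refine ⟨fun x hx y => ?_⟩
      exact hn y y.2 (hcomm y y.2) x hx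
    rcases SignalizersComponents.Components.quasisimple_normal hJ _ hnorm with h2 | h2
    · rw [Subgroup.subgroupOf_eq_top] at h2
      exact hne (le_antisymm hLJ h2)
    · exact hLnc' h2
  set α : MulAut (J ⧸ center J) := ThreePrime.AutQuot.autQuot J β with hα
  have hα1 : α ≠ 1 := fun h1 => hβ1 (ThreePrime.AutQuot.eq_one_of_autQuot_eq_one hJ.1 h1)
  have hα2 : ∀ z, α (α z) = z := by
    intro z
    obtain ⟨x, rfl⟩ := QuotientGroup.mk_surjective z
    rw [hα, ThreePrime.AutQuot.autQuot_mk, ThreePrime.AutQuot.autQuot_mk, hβ2]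
  have hαπ : ∀ x : J, α (QuotientGroup.mk' (center J) x) = QuotientGroup.mk' (center J) (β x) := fun x => by
    rw [hα]
    exact ThreePrime.AutQuot.autQuot_mk _ _
  -- the image of `L`
  let H : Subgroup (J ⧸ center J) := (L.subgroupOf J).map (QuotientGroup.mk' (center J))
  have hLJp : ⁅L.subgroupOf J, L.subgroupOf J⁆ = L.subgroupOf J := by
    apply Subgroup.map_injective J.subtype_injective
    rw [Subgroup.map_commutator, Subgroup.map_subgroupOf_eq_of_le hLJ, hLp]
  have hH : PF α H := by
    refine ⟨?_, Schreier.Basic.map_perfect _ hLJp⟩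
    rintro _ ⟨x, hx, rfl⟩
    rw [hαπ]
    congr 1
    apply Subtype.ext
    rw [hβ, ← hLt x hx, mul_inv_cancel_right]
  have hHne : H ≠ ⊥ := by
    intro h1
    apply hLnc'
    intro x hx
    have h3 : (QuotientGroup.mk' (center J)) x ∈ H := ⟨x, hx, rfl⟩
    rw [h1, mem_bot, ← MonoidHom.mem_ker, QuotientGroup.ker_mk'] at h3
    exact h3
  have hs : IsSimpleGroup (J ⧸ center J) := hJ.2
  -- the order of `H`
  have hcardH : center J = ⊥ → Nat.card H = Nat.card L := by
    intro hc
    have hinj : Function.Injective (QuotientGroup.mk' (center J)) := by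
      rw [← MonoidHom.ker_eq_bot_iff, QuotientGroup.ker_mk', hc]
    rw [Subgroup.card_map_of_injective hinj]
    exact Nat.card_congr (Subgroup.subgroupOfEquivOfLe hLJ).toEquiv
  have hequiv : center J = ⊥ → Nonempty (J ≃* J ⧸ center J) := by
    intro hc
    exact ⟨((QuotientGroup.quotientMulEquivOfEq hc).trans QuotientGroup.quotientBot).symm⟩
  rcases hk J hJt hJ with ⟨F, _, _, hFp, -, ⟨e2⟩⟩ | ⟨F, _, _, f2, hf2, hF2, ⟨e2⟩⟩ | h | ⟨h, k, hko⟩
  · exact absurd (triv_of_prime hFp e2 α hα1 hα2 H hH) hHne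
  · left
    obtain ⟨K, _, _, m, A, hKF, hKm, hK4, ⟨eA⟩, hA⟩ := exists_fix_two hF2 e2 hα1 hα2 hH hHne
    have hF4 : 4 < Fintype.card F := by
      rw [hKF]
      nlinarith
    have hc := center_eq_bot_of_two hJc hJ.1 hF2 hF4 e2
    have hinj : Function.Injective (QuotientGroup.mk' (center J)) := by
      rw [← MonoidHom.ker_eq_bot_iff, QuotientGroup.ker_mk', hc]
    have hHA : H ≤ A := fun x hx => (hA x).mp (hH.fix x hx)
    have hnorm : (H.subgroupOf A).Normal := by
      refine ⟨?_⟩
      rintro ⟨x, hxA⟩ ⟨x', hx', hxx⟩ ⟨a, ha⟩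
      obtain ⟨y, rfl⟩ := QuotientGroup.mk'_surjective (center J) a
      have h1 := (hA _).mpr ha
      rw [hαπ] at h1
      have h2 := hinj h1
      have h3 : (y : G) * t = t * y := by
        have h4 := congrArg Subtype.val h2
        rw [hβ] at h4
        exact (mul_inv_eq_iff_eq_mul.mp h4).symm
      refine ⟨y * x' * y⁻¹, hn y y.2 h3 x' hx', ?_⟩
      rw [map_mul, map_mul, map_inv, hxx]
      rfl
    have hcharK := charP_two hKm
    have hAs : IsSimpleGroup A := by
      obtain ⟨e3⟩ := WeakTI.PslTwo.nonempty_equiv (F := K)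
      have := TwoFusion.SLTwoFacts.isSimpleGroup_psl (F := K) (by omega)
      exact (eA.trans e3).isSimpleGroup
    have hHA' : H = A := by
      rcases hnorm.eq_bot_or_eq_top with h5 | h5
      · rw [Subgroup.subgroupOf_eq_bot] at h5
        exact absurd (disjoint_self.mp (h5.mono_right hHA)) hHne
      · rw [Subgroup.subgroupOf_eq_top] at h5
        exact le_antisymm hHA h5
    have hcA : Nat.card A = Fintype.card K * (Fintype.card K ^ 2 - 1) := by
      rw [Nat.card_congr eA.toEquiv, ClassicalGeometry.PSL2Basic.card_SL2]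
    have h6 : Fintype.card K * (Fintype.card K ^ 2 - 1) = Fintype.card F₀ * (Fintype.card F₀ ^ 2 - 1) := by
      rw [← hcA, ← hHA', hcardH hc, hLc]
    have h7 := cube_inj (by omega) (by omega) h6 hK4
    obtain ⟨e0⟩ := hequiv hc
    exact ⟨F, inferInstance, inferInstance, f2, hF2, by rw [hKF, h7], ⟨e0.trans e2⟩⟩
  · exact absurd (triv_of_suzuki h α hα1 hα2 H hH) hHne
  · right
    have hc := center_eq_bot_of_local hJc hJ.1 h hko
    obtain ⟨e0⟩ := hequiv hc
    refine ⟨CompCovers.local_of_equiv e0 h, e0.symm k, ?_⟩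
    rw [← hko]
    exact orderOf_injective e0.symm.toMonoidHom e0.symm.injective k

end Cfsg.Agent.OddCyclic.CompFive
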