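import Mathlib
import Cfsg.Agent.OddCyclic.CompFiveTools
import Cfsg.Agent.OddCyclic.CompFiveSixteen
import Cfsg.Agent.OddCyclic.JInner
import Cfsg.Agent.OddCyclic.JFacts

/-!
# S0342, component type: `K ≅ A₅`, `|C(K)|₂ = 2`, an outer 2-element: `O(C(t)) = 1`

`eq_one`: if `t ∈ C(K)` is an involution conjugate to `tz`, `1 ≠ z ∈ K`, and `N(K)/KC(K)` has even order, then
elements of odd order of `C(K) ∩ C(t)` are trivial.
-/

set_option autoImplicit false

namespace Cfsg.Agent.OddCyclic.CompFive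

open Subgroup Cfsg Cfsg.Agent.OddCyclic.T1Defs Cfsg.Agent.OddCyclic.PumpMain
open Cfsg.Agent.LieExceptional Cfsg.Agent.LieExceptional.CITDefs
open Cfsg.Agent.LieExceptional.CITBasic
open Cfsg.Agent.OddCyclic.CompBasic Cfsg.Agent.OddCyclic.CompStandard
open Cfsg.Agent.OddCyclic.CaseADefs Cfsg.Agent.OddCyclic.CaseABase
open Cfsg.Agent.OddCyclic.CaseACount Cfsg.Agent.OddCyclic.CaseAField

universe u

/-- `K ≅ A₅` and `t` is an involution of `C(K)`, `|C(K)|₂ = 2` -/
structure Base {G : Type u} [Group G] (p : ℕ) (K : Subgroup G) (t : G) (F : Type*) [Field F] [Fintype F] :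
    Prop where
  std : Std p K
  card : Fintype.card F = 4
  iso : Nonempty (K ≃* Matrix.ProjectiveSpecialLinearGroup (Fin 2) F)
  mem : t ∈ centralizer (K : Set G)
  ord : orderOf t = 2
  two : ∀ Q : Subgroup G, Q ≤ centralizer (K : Set G) → IsPGroup 2 Q → Nat.card Q ≤ 2

variable {G : Type u} [Group G] [Finite G] {p : ℕ} {K : Subgroup G} {t : G} {F : Type*} [Field F] [Fintype F]

namespace Base

omit [Finite G] in
theorem tt (b : Base p K t F) : t * t = 1 := sq_of_orderOf b.ord

omit [Finite G] in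
theorem cardK (b : Base p K t F) : Nat.card K = 60 := by
  obtain ⟨e⟩ := b.iso
  rw [Nat.card_congr e.toEquiv, ClassicalGeometry.PSL2Basic.card_PSL2_even F (by rw [b.card]; decide), b.card]
  norm_num

omit [Finite G] in
theorem simple (b : Base p K t F) : IsSimpleGroup K := by
  obtain ⟨e⟩ := b.iso
  have := TwoFusion.SLTwoFacts.isSimpleGroup_psl (F := F) (by rw [b.card]; norm_num)
  exact e.isSimpleGroup

omit [Finite G] in
theorem l2 (b : Base p K t F) : L2K K 4 := by
  obtain ⟨e⟩ := b.iso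
  exact CaseAFacts.l2k (f := 2) (by rw [b.card]; norm_num) le_rfl e

omit [Finite G] in
theorem inf (b : Base p K t F) : K ⊓ centralizer (K : Set G) = ⊥ := b.l2.inf

theorem le_N (b : Base p K t F) : centralizer ({t} : Set G) ≤ normalizer (K : Set G) :=
  b.std.le_normalizer b.ord b.mem

/-- `3` and `5` do not divide `|C(K)|` -/
theorem coprime (b : Base p K t F) : ¬ 3 ∣ Nat.card (centralizer (K : Set G)) ∧
    ¬ 5 ∣ Nat.card (centralizer (K : Set G)) :=
  ⟨b.std.not_dvd (by norm_num) (by norm_num) (by rw [b.cardK]; norm_num),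
    b.std.not_dvd (by norm_num) (by norm_num) (by rw [b.cardK]; norm_num)⟩

omit [Finite G] in
/-- elements of `N(K)` of order prime to 30 centralise `K` -/
theorem mem_cent (b : Base p K t F) {d : G} (hd : d ∈ normalizer (K : Set G)) (ho : Odd (orderOf d))
    (h3 : ¬ 3 ∣ orderOf d) (h5 : ¬ 5 ∣ orderOf d) : d ∈ centralizer (K : Set G) := by
  obtain ⟨e⟩ := b.iso
  obtain ⟨ψ, hcyc, hcard, hψ⟩ := exists_typ_hom (K := K) (f := 2) (by rw [b.card]; norm_num) (by norm_num) e
  have h1 : ψ ⟨d, hd⟩ = 1 := by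
    rw [← orderOf_eq_one_iff]
    have h2 : orderOf (ψ ⟨d, hd⟩) ∣ 2 := by rw [← hcard]; exact orderOf_dvd_natCard _
    have h4 : orderOf (ψ ⟨d, hd⟩) ∣ orderOf d := by
      rw [← Subgroup.orderOf_mk d hd]; exact orderOf_map_dvd _ _
    exact Nat.Coprime.eq_one_of_dvd (Nat.Coprime.coprime_dvd_left h4 (Nat.coprime_two_right.mpr ho)) h2
  obtain ⟨k, hk, y, hy, hky⟩ := mem_KY.mp ((hψ _).mp h1)
  have hky' : d = k * y := hky
  have h2 : (k * y) ^ orderOf d = 1 := by rw [← hky', pow_orderOf_eq_one]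
  have h4 := (pow_eq_one_KY b.inf hk hy h2).1
  have h6 : k = 1 := by
    rw [← orderOf_eq_one_iff]
    have h7 : orderOf k ∣ 60 := by rw [← b.cardK]; exact Subgroup.orderOf_dvd_natCard _ hk
    have h8 : orderOf k ∣ orderOf d := orderOf_dvd_of_pow_eq_one h4
    have h9 : Nat.Coprime (orderOf d) 60 := by
      have e60 : (60 : ℕ) = 2 ^ 2 * (3 * 5) := by norm_num
      rw [e60]
      exact Nat.Coprime.mul_right (Nat.Coprime.pow_right 2 (Nat.coprime_two_right.mpr ho))
        (Nat.Coprime.mul_right ((Nat.Prime.coprime_iff_not_dvd Nat.prime_three).mpr h3).symm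
          ((Nat.Prime.coprime_iff_not_dvd Nat.prime_five).mpr h5).symm)
    exact Nat.Coprime.eq_one_of_dvd (Nat.Coprime.coprime_dvd_left h8 h9) h7
  rw [hky', h6, one_mul]
  exact hy

/-- `O(C(t))` -/
def D (K : Subgroup G) (t : G) : Subgroup G := OY K ⊓ centralizer ({t} : Set G)

theorem mem_D (b : Base p K t F) {y : G} :
    y ∈ D K t ↔ y ∈ centralizer (K : Set G) ∧ y * t = t * y ∧ Odd (orderOf y) := by
  constructor
  · rintro ⟨h1, h2⟩
    exact ⟨OY_le K h1, mem_centralizer_singleton_iff.mp h2,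
      Odd.of_dvd_nat (OY_odd K) (Subgroup.orderOf_dvd_natCard _ h1)⟩
  · rintro ⟨h1, h2, h3⟩
    refine ⟨⟨⟨y, h1⟩, ?_, rfl⟩, mem_centralizer_singleton_iff.mpr h2⟩
    refine mem_oddCore_of_card_le ?_ (by rwa [Subgroup.orderOf_mk])
    intro Q hQ
    have h4 := b.two (Q.map (centralizer (K : Set G)).subtype) (Subgroup.map_subtype_le _) (hQ.map _)
    rwa [Subgroup.card_map_of_injective (Subgroup.subtype_injective _)] at h4

/-- an involution of `C(K) ∩ C(t)` equals `t` -/
theorem eq_t (b : Base p K t F) {s : G} (hs : s ∈ centralizer (K : Set G)) (hs1 : s ≠ 1) (hss : s * s = 1)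
    (hst : s * t = t * s) : s = t := by
  have hpf : Fact (Nat.Prime 2) := ⟨Nat.prime_two⟩
  have hso : orderOf s = 2 := orderOf_eq_two hs1 hss
  have h1 : IsPGroup 2 (zpowers s ⊔ zpowers t : Subgroup G) := by
    refine (isPGroup_zpowers hso).to_sup_of_normal_right' (isPGroup_zpowers b.ord) ?_
    rw [zpowers_le]
    refine centralizer_le_normalizer _ ?_
    rw [mem_centralizer_iff]
    rintro _ ⟨k, rfl⟩
    exact ((show Commute s t from hst).zpow_right k).symm.eq
  have h2 := b.two _ (sup_le (zpowers_le.mpr hs) (zpowers_le.mpr b.mem)) h1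
  have h3 : Nat.card (zpowers t) = 2 := by rw [Nat.card_zpowers, b.ord]
  have h4 : zpowers t = zpowers s ⊔ zpowers t :=
    Subgroup.eq_of_le_of_card_ge le_sup_right (by rw [h3]; exact h2)
  have h5 : s ∈ zpowers t := h4 ▸ mem_sup_left (mem_zpowers s)
  obtain ⟨k, hk⟩ := mem_zpowers_iff.mp h5
  have ht2 : t ^ (2 : ℤ) = 1 := by rw [zpow_ofNat, pow_two, b.tt]
  rcases Int.even_or_odd' k with ⟨j, rfl | rfl⟩
  · rw [zpow_mul, ht2, one_zpow] at hk
    exact absurd hk.symm hs1
  · rw [zpow_add, zpow_mul, ht2, one_zpow, one_mul, zpow_one] at hk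
    exact hk.symm

/-- `|C(t)|₂ ≤ 16` -/
theorem small (b : Base p K t F) {W : Subgroup G} (hW : W ≤ centralizer ({t} : Set G)) (hW2 : IsPGroup 2 W) :
    Nat.card W ≤ 16 := by
  have hpf : Fact (Nat.Prime 2) := ⟨Nat.prime_two⟩
  obtain ⟨e⟩ := b.iso
  obtain ⟨ψ, hcyc, hcard, hψ⟩ := exists_typ_hom (K := K) (f := 2) (by rw [b.card]; norm_num) (by norm_num) e
  have hWN : W ≤ normalizer (K : Set G) := hW.trans b.le_N
  let φ : W →* (F ≃+* F) := ψ.comp (Subgroup.inclusion hWN)
  have h1 : Nat.card φ.ker * φ.ker.index = Nat.card W := Subgroup.card_mul_index _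
  have h2 : φ.ker.index ≤ 2 := by
    rw [Subgroup.index_ker]
    have : Finite (F ≃+* F) := L2Borel.finite_ringAut
    have h3 : Nat.card φ.range ∣ Nat.card (F ≃+* F) := Subgroup.card_subgroup_dvd_card _
    rw [hcard] at h3
    exact Nat.le_of_dvd (by norm_num) h3
  have h3 : Nat.card φ.ker ≤ 8 := by
    have h4 : Nat.card (φ.ker.map W.subtype) ∣ Nat.card (K ⊔ centralizer (K : Set G) : Subgroup G) := by
      apply Subgroup.card_dvd_of_le
      rintro _ ⟨w, hw, rfl⟩
      exact (hψ _).mp hw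
    have h5 : Nat.card (K ⊔ centralizer (K : Set G) : Subgroup G) = 60 * Nat.card (centralizer (K : Set G)) := by
      rw [card_sup_comm comm_KY b.inf, b.cardK]
    rw [Subgroup.card_map_of_injective W.subtype_injective, h5] at h4
    obtain ⟨n, hn⟩ := IsPGroup.iff_card.mp (hW2.to_subgroup φ.ker)
    rw [hn] at h4 ⊢
    by_contra h6
    have h7 : 4 ≤ n := by
      by_contra h8
      apply h6
      calc 2 ^ n ≤ 2 ^ 3 := Nat.pow_le_pow_right (by norm_num) (by omega)
        _ = 8 := by norm_num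
    have h8 : 2 ^ 4 ∣ 60 * Nat.card (centralizer (K : Set G)) := (pow_dvd_pow 2 h7).trans h4
    have h9 : 2 ^ 2 ∣ Nat.card (centralizer (K : Set G)) := by
      have h10 : 4 * 4 ∣ 4 * (15 * Nat.card (centralizer (K : Set G))) := by
        have : 4 * (15 * Nat.card (centralizer (K : Set G))) = 60 * Nat.card (centralizer (K : Set G)) := by ring
        rw [this]
        exact h8
      have h11 := Nat.dvd_of_mul_dvd_mul_left (by norm_num) h10
      exact Nat.Coprime.dvd_of_dvd_mul_left (by norm_num) h11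
    obtain ⟨Q, hQ⟩ := Sylow.exists_subgroup_card_pow_prime 2 h9
    have h10 := b.two (Q.map (centralizer (K : Set G)).subtype) (Subgroup.map_subtype_le _)
      ((IsPGroup.of_card hQ).map _)
    rw [Subgroup.card_map_of_injective (Subgroup.subtype_injective _), hQ] at h10
    norm_num at h10
  calc Nat.card W = Nat.card φ.ker * φ.ker.index := h1.symm
    _ ≤ 8 * 2 := Nat.mul_le_mul h3 h2
    _ = 16 := by norm_num

/-- an outer element of `C(t)` -/
theorem exists_outer (b : Base p K t F)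
    (hout : ∃ x ∈ normalizer (K : Set G), x ∉ K ⊔ centralizer (K : Set G)) :
    ∃ w ∈ centralizer ({t} : Set G), w ∉ K ⊔ centralizer (K : Set G) := by
  obtain ⟨x, hx, hxo⟩ := hout
  have hY := normalizer_le_centralizer K
  have hxt : x * t * x⁻¹ ∈ centralizer (K : Set G) := forall_of_mem_normalizer (hY hx) t b.mem
  -- `⟨t⟩` and `⟨xtx⁻¹⟩` are Sylow 2-subgroups of `C(K)`
  have hsyl : ∀ u ∈ centralizer (K : Set G), orderOf u = 2 → IsSyl2 (centralizer (K : Set G)) (zpowers u) := by
    intro u hu huo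
    refine ⟨zpowers_le.mpr hu, isPGroup_zpowers huo, fun Y hY hY2 hle => ?_⟩
    exact (Subgroup.eq_of_le_of_card_ge hle (by rw [Nat.card_zpowers, huo]; exact b.two Y hY hY2)).symm
  obtain ⟨y, hy, h1⟩ := isSyl2_conj (hsyl _ hxt (by rw [orderOf_conj, b.ord])) (hsyl t b.mem b.ord)
  have h2 : y * (x * t * x⁻¹) * y⁻¹ = t := by
    have h3 : y * (x * t * x⁻¹) * y⁻¹ ∈ zpowers t := by
      rw [h1]
      exact conj_mem_cj (mem_zpowers _)
    obtain ⟨k, hk⟩ := mem_zpowers_iff.mp h3
    have ht2 : t ^ (2 : ℤ) = 1 := by rw [zpow_ofNat, pow_two, b.tt]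
    rcases Int.even_or_odd' k with ⟨j, rfl | rfl⟩
    · rw [zpow_mul, ht2, one_zpow] at hk
      have h4 : orderOf (y * (x * t * x⁻¹) * y⁻¹) = 2 := by rw [orderOf_conj, orderOf_conj, b.ord]
      rw [← hk, orderOf_one] at h4
      omega
    · rw [zpow_add, zpow_mul, ht2, one_zpow, one_mul, zpow_one] at hk
      exact hk.symm
  refine ⟨y * x, ?_, fun h3 => hxo ?_⟩
  · rw [mem_centralizer_singleton_iff]
    calc y * x * t = (y * (x * t * x⁻¹) * y⁻¹) * (y * x) := by group
      _ = t * (y * x) := by rw [h2]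
  · have h4 : x = y⁻¹ * (y * x) := by group
    rw [h4]
    exact Subgroup.mul_mem _ (mem_sup_right (Subgroup.inv_mem _ hy)) h3

omit [Finite G] in
theorem nonabelian (b : Base p K t F) : ∃ k ∈ K, ∃ l ∈ K, k * l ≠ l * k := by
  by_contra hno
  push Not at hno
  have hs := b.simple
  have h1 : K ≤ K ⊓ centralizer (K : Set G) := fun k hk =>
    ⟨hk, mem_centralizer_iff.mpr fun l hl => hno l hl k hk⟩
  rw [b.inf, le_bot_iff] at h1
  have h2 := b.cardK
  rw [h1, Subgroup.card_bot] at h2
  norm_num at h2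

omit [Finite G] in
/-- the normal subgroup `K` of the simple group `J` -/
theorem eq_of_simple (b : Base p K t F) {J : Subgroup G} (hJ : IsSimpleGroup J) (hKJ : K ≤ J)
    (hn : J ≤ normalizer (K : Set G)) : K = J := by
  have h1 : (K.subgroupOf J).Normal := Subgroup.normal_subgroupOf_of_le_normalizer hn
  rcases h1.eq_bot_or_eq_top with h2 | h2
  · exfalso
    have h3 := congrArg (Subgroup.map J.subtype) h2
    rw [Subgroup.map_subgroupOf_eq_of_le hKJ, Subgroup.map_bot] at h3
    have h4 := b.cardK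
    rw [h3, Subgroup.card_bot] at h4
    norm_num at h4
  · rw [Subgroup.subgroupOf_eq_top] at h2
    exact le_antisymm hKJ h2

omit [Finite G] in
/-- if `w ∈ C(t)` acts on `J ≥ K` as the element `j` of `J` commuting with `t`, and `C_J(t) ≤ K C(K)`, then
`w ∈ K C(K)` -/
theorem mem_of_inner (_b : Base p K t F) {J : Subgroup G} (hKJ : K ≤ J)
    (hJt : J ⊓ centralizer ({t} : Set G) ≤ K ⊔ centralizer (K : Set G)) {w j : G} (hj : j ∈ J)
    (hjt : j * t = t * j) (hw : j⁻¹ * w ∈ centralizer (J : Set G)) : w ∈ K ⊔ centralizer (K : Set G) := by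
  have h1 : w = j * (j⁻¹ * w) := by group
  rw [h1]
  refine Subgroup.mul_mem _ (hJt ⟨hj, mem_centralizer_singleton_iff.mpr hjt⟩) (mem_sup_right ?_)
  exact Subgroup.centralizer_le hKJ hw

/-- the pump-up `J ≅ PSL(2,16)` -/
theorem false_of_sixteen (b : Base p K t F) (hG : commutator G = ⊤) {J : Subgroup G} (hKJ : K ≤ J) (hne : K ≠ J)
    (hC : centralizer ({t} : Set G) ≤ normalizer (J : Set G))
    (hout : ∃ w ∈ centralizer ({t} : Set G), w ∉ K ⊔ centralizer (K : Set G))
    {F₂ : Type} [Field F₂] [Fintype F₂] (hF₂ : Fintype.card F₂ = 2 ^ 4)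
    (e : J ≃* Matrix.ProjectiveSpecialLinearGroup (Fin 2) F₂) : False := by
  have l2 : L2K J 16 := CaseAFacts.l2k (f := 4) (by rw [hF₂]) (by norm_num) e
  have l3 : L2K3 J 16 := l2k3 (f := 4) (by rw [hF₂]) (by norm_num) e
  have hJs : IsSimpleGroup J := by
    have := TwoFusion.SLTwoFacts.isSimpleGroup_psl (F := F₂) (by rw [hF₂]; norm_num)
    exact e.isSimpleGroup
  obtain ⟨ψ, hcyc, hcard, hψ⟩ := exists_typ_hom (K := J) (f := 4) (by rw [hF₂]) (by norm_num) e
  have hfin : Finite (F₂ ≃+* F₂) := L2Borel.finite_ringAut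
  have htC : t ∈ centralizer ({t} : Set G) := mem_centralizer_singleton_iff.mpr rfl
  -- `|C(J)|` is odd
  have hodd : Odd (Nat.card (centralizer (J : Set G))) := by
    rw [← Nat.not_even_iff_odd]
    intro hev
    obtain ⟨s, hs, hso⟩ := exists_involution hev
    have h1 : J ≤ normalizer (K : Set G) := by
      refine le_trans ?_ (b.std.le_normalizer hso (Subgroup.centralizer_le hKJ hs))
      intro x hx
      rw [mem_centralizer_singleton_iff]
      exact mem_centralizer_iff.mp hs x hx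
    exact hne (b.eq_of_simple hJs hKJ h1)
  -- `t ∉ J C(J)`
  have hout_t : t ∉ J ⊔ centralizer (J : Set G) := by
    intro ht
    obtain ⟨k, hk, y, hy, hky⟩ := mem_KY.mp ht
    have h1 : (k * y) ^ 2 = 1 := by rw [← hky, pow_two, b.tt]
    have h2 := (pow_eq_one_KY l2.inf hk hy h1).2
    have h3 : y = 1 := by
      rw [← orderOf_eq_one_iff]
      have h4 : orderOf y ∣ 2 := orderOf_dvd_of_pow_eq_one h2
      have h5 : orderOf y ∣ Nat.card (centralizer (J : Set G)) := Subgroup.orderOf_dvd_natCard _ hy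
      exact Nat.Coprime.eq_one_of_dvd (Nat.coprime_two_right.mpr (Odd.of_dvd_nat hodd h5)) h4
    have htJ : t ∈ J := by rw [hky, h3, mul_one]; exact hk
    obtain ⟨E, hE, htE⟩ := exists_isSyl2 J (zpowers t) (zpowers_le.mpr htJ) (isPGroup_zpowers b.ord)
    obtain ⟨H, hB⟩ := l2.borel E hE
    obtain ⟨k, hk, l, hl, hkl⟩ := b.nonabelian
    have hmem : ∀ x ∈ K, x ∈ E := fun x hx =>
      hB.cent t (htE (mem_zpowers t)) (ne_one_of_orderOf b.ord) x (hKJ hx) (centralizer_comm b.mem hx)
    apply hkl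
    have h6 := hB.elem k (hmem k hk)
    have h7 := hB.elem l (hmem l hl)
    have h8 := hB.elem _ (E.mul_mem (hmem k hk) (hmem l hl))
    have h9 : k⁻¹ = k := inv_eq_of_mul_eq_one_left h6
    have h10 : l⁻¹ = l := inv_eq_of_mul_eq_one_left h7
    calc k * l = (k * l)⁻¹ := (inv_eq_of_mul_eq_one_left h8).symm
      _ = l * k := by rw [mul_inv_rev, h9, h10]
  have s : Sit J t :=
    { t_ord := b.ord
      t_mem := hC htC
      t_out := hout_t
      l2 := l2
      l3 := l3
      odd := hodd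
      le := hC
      small := fun W hW hW2 => b.small hW hW2 }
  -- `C_J(t) = K`
  have htt : t * t ∈ centralizer (J : Set G) := by rw [b.tt]; exact Subgroup.one_mem _
  have hJt : J ⊓ centralizer ({t} : Set G) ≤ K ⊔ centralizer (K : Set G) := by
    obtain ⟨F₀, i1, i2, hq, ⟨e₀⟩⟩ := l3.iso t s.t_mem htt hout_t
    have h4 : Fintype.card F₀ = 4 := by
      have : Fintype.card F₀ ^ 2 = 4 ^ 2 := by rw [← hq]; norm_num
      exact Nat.pow_left_injective (n := 2) (by norm_num) this
    have hc : Nat.card (J ⊓ centralizer ({t} : Set G) : Subgroup G) = 60 := by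
      rw [Nat.card_congr e₀.toEquiv, ClassicalGeometry.PSL2Basic.card_PSL2_even F₀ (by rw [h4]; decide), h4]
      norm_num
    have h5 : K = J ⊓ centralizer ({t} : Set G) := by
      refine Subgroup.eq_of_le_of_card_ge (le_inf hKJ fun k hk => ?_) (by rw [hc, b.cardK])
      rw [mem_centralizer_singleton_iff]
      exact centralizer_comm b.mem hk
    rw [← h5]
    exact le_sup_left
  -- elements of `J C(J) ∩ C(t)` lie in `K C(K)`
  have key : ∀ w ∈ centralizer ({t} : Set G), w ∈ J ⊔ centralizer (J : Set G) →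
      w ∈ K ⊔ centralizer (K : Set G) := by
    intro w hw hwJ
    obtain ⟨j, hj, c, hc, hjc⟩ := mem_KY.mp hwJ
    have hwt : w * t = t * w := mem_centralizer_singleton_iff.mp hw
    have h1 : (t * j * t⁻¹) * (t * c * t⁻¹) = j * c := by
      calc (t * j * t⁻¹) * (t * c * t⁻¹) = t * (j * c) * t⁻¹ := by group
        _ = j * c := by rw [← hjc, ← hwt]; group
    have h2 : j⁻¹ * (t * j * t⁻¹) = c * (t * c * t⁻¹)⁻¹ := by
      rw [inv_mul_eq_iff_eq_mul, ← mul_assoc, eq_mul_inv_iff_mul_eq]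
      exact h1
    have h3 : j⁻¹ * (t * j * t⁻¹) ∈ J ⊓ centralizer (J : Set G) := by
      refine ⟨J.mul_mem (J.inv_mem hj) (forall_of_mem_normalizer s.t_mem j hj), ?_⟩
      rw [h2]
      exact Subgroup.mul_mem _ hc (Subgroup.inv_mem _
        (forall_of_mem_normalizer (normalizer_le_centralizer J s.t_mem) c hc))
    rw [l2.inf, mem_bot] at h3
    have h4 : t * j * t⁻¹ = j := (inv_mul_eq_one.mp h3).symm
    have h5 : j * t = t * j := (mul_inv_eq_iff_eq_mul.mp h4).symm
    refine b.mem_of_inner hKJ hJt hj h5 ?_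
    rw [hjc, inv_mul_cancel_left]
    exact hc
  obtain ⟨w, hw, hwo⟩ := hout
  refine s.false hG (by rw [hcard]) ψ hψ ⟨⟨w, hC hw⟩, fun h1 => hwo ?_⟩
  by_cases h2 : ψ ⟨w, hC hw⟩ = 1
  · exact key w hw ((hψ _).mp h2)
  · have h3 : ψ ⟨t, s.t_mem⟩ ≠ 1 := fun h4 => s.t_out ((hψ _).mp h4)
    have h4 : ψ ⟨w, hC hw⟩ = ψ ⟨t, s.t_mem⟩ := by
      refine L2Borel.invol_unique h1 ?_ h2 h3
      rw [← map_mul]
      have : (⟨t, s.t_mem⟩ : normalizer (J : Set G)) * ⟨t, s.t_mem⟩ = 1 := Subtype.ext b.tt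
      rw [this, map_one]
    have h5 : w * t⁻¹ ∈ K ⊔ centralizer (K : Set G) := by
      refine key _ (Subgroup.mul_mem _ hw (Subgroup.inv_mem _ htC)) ?_
      have h6 : ψ (⟨w, hC hw⟩ * (⟨t, s.t_mem⟩)⁻¹) = 1 := by
        rw [map_mul, map_inv, h4, mul_inv_cancel]
      exact (hψ _).mp h6
    have h6 : w = (w * t⁻¹) * t := by group
    rw [h6]
    exact Subgroup.mul_mem _ h5 (mem_sup_right b.mem)

/-- the pump-up `J₁` -/
theorem false_of_local (b : Base p K t F) {J : Subgroup G} (hKJ : K ≤ J) (hne : K ≠ J)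
    (hC : centralizer ({t} : Set G) ≤ normalizer (J : Set G))
    (hout : ∃ w ∈ centralizer ({t} : Set G), w ∉ K ⊔ centralizer (K : Set G))
    (hJ : SporRec.J1.Defs.Local J) {k : J} (hk : orderOf k = 2) : False := by
  have hJ1 := JFacts.isJ1_of_local hJ hk
  have hJs : IsSimpleGroup J := hJ1.1
  have htC : t ∈ centralizer ({t} : Set G) := mem_centralizer_singleton_iff.mpr rfl
  -- elements of `N(J)` act as inner automorphisms
  have hinner : ∀ w ∈ normalizer (J : Set G), ∃ j ∈ J, ∀ y ∈ J, w * y * w⁻¹ = j * y * j⁻¹ := by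
    intro w hw
    let α : J ≃* J := J.normalizerMonoidHom ⟨w, hw⟩
    obtain ⟨g, hg⟩ := JInner.inner hJ k hk α
    refine ⟨g, g.2, fun y hy => ?_⟩
    exact congrArg Subtype.val (hg ⟨y, hy⟩)
  have hcent : ∀ w j : G, (∀ y ∈ J, w * y * w⁻¹ = j * y * j⁻¹) → j⁻¹ * w ∈ centralizer (J : Set G) := by
    intro w j h
    rw [mem_centralizer_iff]
    intro y hy
    have h1 := h y hy
    calc y * (j⁻¹ * w) = j⁻¹ * (j * y * j⁻¹) * w := by group
      _ = j⁻¹ * (w * y * w⁻¹) * w := by rw [h1]
      _ = j⁻¹ * w * y := by group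
  -- `t ∈ J`
  have htJ : t ∈ J := by
    obtain ⟨s, hs, hst⟩ := hinner t (hC htC)
    have hsK : s ∈ centralizer (K : Set G) := by
      rw [mem_centralizer_iff]
      intro x hx
      have h1 := hst x (hKJ hx)
      have h2 : t * x * t⁻¹ = x := by rw [← centralizer_comm b.mem hx]; group
      rw [h2] at h1
      calc x * s = (s * x * s⁻¹) * s := by rw [← h1]
        _ = s * x := by group
    have h1 : s * t = t * s := by
      have h2 := hst s hs
      have h3 : s * s * s⁻¹ = s := by group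
      rw [h3] at h2
      calc s * t = (t * s * t⁻¹) * t := by rw [h2]
        _ = t * s := by group
    have hss : s * s = 1 := by
      have h2 : (⟨s, hs⟩ : J) * ⟨s, hs⟩ = 1 := by
        apply PumpJOne.eq_one_of_central hJ hk
        rintro ⟨y, hy⟩
        apply Subtype.ext
        show (s * s) * y = y * (s * s)
        have h3 := hst y hy
        have h4 := hst (s * y * s⁻¹) (J.mul_mem (J.mul_mem hs hy) (J.inv_mem hs))
        have h5 : t * (s * y * s⁻¹) * t⁻¹ = y := by
          rw [← h3]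
          calc t * (t * y * t⁻¹) * t⁻¹ = (t * t) * y * (t * t)⁻¹ := by group
            _ = y := by rw [b.tt]; group
        rw [h5] at h4
        calc (s * s) * y = (s * (s * y * s⁻¹) * s⁻¹) * (s * s) := by group
          _ = y * (s * s) := by rw [← h4]
      exact congrArg Subtype.val h2
    have hs1 : s ≠ 1 := by
      rintro rfl
      have h2 : t ∈ centralizer (J : Set G) := by
        have := hcent t 1 hst
        rwa [inv_one, one_mul] at this
      apply hne
      apply b.eq_of_simple hJs hKJ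
      refine le_trans ?_ b.le_N
      intro x hx
      rw [mem_centralizer_singleton_iff]
      exact mem_centralizer_iff.mp h2 x hx
    rw [← b.eq_t hsK hs1 hss h1]
    exact hs
  -- `C_J(t) = K⟨t⟩`
  have hJt : J ⊓ centralizer ({t} : Set G) ≤ K ⊔ centralizer (K : Set G) := by
    have h1 : Nat.card (J ⊓ centralizer ({t} : Set G) : Subgroup G) = 120 := by
      have h2 := PumpJOne.card_cent hJ (k := ⟨t, htJ⟩) (by rw [Subgroup.orderOf_mk]; exact b.ord)
      rw [← h2, ← Subgroup.card_map_of_injective J.subtype_injective]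
      congr 2
      ext x
      constructor
      · rintro ⟨hx, hxt⟩
        refine ⟨⟨x, hx⟩, ?_, rfl⟩
        rw [SetLike.mem_coe, mem_centralizer_singleton_iff]
        exact Subtype.ext (mem_centralizer_singleton_iff.mp hxt)
      · rintro ⟨y, hy, rfl⟩
        have hy' := mem_centralizer_singleton_iff.mp hy
        exact Subgroup.mem_inf.mpr ⟨y.2, mem_centralizer_singleton_iff.mpr (congrArg Subtype.val hy')⟩
    have h3 : K ⊓ zpowers t = ⊥ := by
      rw [eq_bot_iff, ← b.inf]
      exact inf_le_inf le_rfl (zpowers_le.mpr b.mem)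
    have h4 : Nat.card (K ⊔ zpowers t : Subgroup G) = 120 := by
      rw [card_sup_comm (fun x hx y hy => comm_KY x hx y (zpowers_le.mpr b.mem hy)) h3, b.cardK,
        Nat.card_zpowers, b.ord]
    have h5 : K ⊔ zpowers t = J ⊓ centralizer ({t} : Set G) := by
      refine Subgroup.eq_of_le_of_card_ge ?_ (by rw [h1, h4])
      refine sup_le (le_inf hKJ fun x hx => ?_) (zpowers_le.mpr ⟨htJ, htC⟩)
      rw [mem_centralizer_singleton_iff]
      exact centralizer_comm b.mem hx
    rw [← h5]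
    exact sup_le_sup_left (zpowers_le.mpr b.mem) K
  obtain ⟨w, hw, hwo⟩ := hout
  obtain ⟨j, hj, hjw⟩ := hinner w (hC hw)
  apply hwo
  refine b.mem_of_inner hKJ hJt hj ?_ (hcent w j hjw)
  have h1 := hjw t htJ
  have h2 : w * t * w⁻¹ = t := by rw [mem_centralizer_singleton_iff.mp hw]; group
  rw [h2] at h1
  calc j * t = (j * t * j⁻¹) * j := by group
    _ = t * j := by rw [← h1]

/-- **main theorem**: `O(C(t)) = 1` -/
theorem eq_one [IsSimpleGroup G] (b : Base p K t F)
    (hk : ∀ J : Subgroup G, J ≠ ⊤ → IsQuasisimple J → KZero (J ⧸ center J))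
    (hout : ∃ x ∈ normalizer (K : Set G), x ∉ K ⊔ centralizer (K : Set G)) {x z : G} (hz : z ∈ K) (hz1 : z ≠ 1)
    (hx : x * t * x⁻¹ = t * z) {y : G} (hy : y ∈ centralizer (K : Set G)) (hyt : y * t = t * y)
    (hyo : Odd (orderOf y)) : y = 1 := by
  have hyD : y ∈ D K t := b.mem_D.mpr ⟨hy, hyt, hyo⟩
  by_contra hy1
  -- `C(t)` normalises `D`
  have hCD : centralizer ({t} : Set G) ≤ normalizer (D K t : Set G) := by
    intro g hg
    refine mem_normalizer_of_forall fun d hd => ?_
    obtain ⟨h1, h2, h3⟩ := b.mem_D.mp hd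
    refine b.mem_D.mpr ⟨forall_of_mem_normalizer (normalizer_le_centralizer K (b.le_N hg)) d h1, ?_, ?_⟩
    · have hgt := mem_centralizer_singleton_iff.mp hg
      calc g * d * g⁻¹ * t = g * (d * (g⁻¹ * t * g)) * g⁻¹ := by group
        _ = g * (d * t) * g⁻¹ := by
          congr 3
          calc g⁻¹ * t * g = g⁻¹ * (t * g) := by group
            _ = t := by rw [← hgt]; group
        _ = g * (t * d) * g⁻¹ := by rw [h2]
        _ = (g * t) * d * g⁻¹ := by group
        _ = t * (g * d * g⁻¹) := by rw [hgt]; group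
    · rw [orderOf_conj]; exact h3
  -- `x` normalises `D`
  have hxD : x ∈ normalizer (D K t : Set G) := by
    rw [← inv_mem_iff]
    refine mem_normalizer_of_forall fun d hd => ?_
    rw [inv_inv]
    obtain ⟨h1, h2, h3⟩ := b.mem_D.mp hd
    have hzd : z * d = d * z := centralizer_comm h1 hz
    have hconj : orderOf (x⁻¹ * d * x) = orderOf d := by
      have := orderOf_conj x⁻¹ d
      rwa [inv_inv] at this
    have h4 : (x⁻¹ * d * x) * t = t * (x⁻¹ * d * x) := by
      calc (x⁻¹ * d * x) * t = x⁻¹ * (d * (x * t * x⁻¹)) * x := by group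
        _ = x⁻¹ * (d * (t * z)) * x := by rw [hx]
        _ = x⁻¹ * ((d * t) * z) * x := by group
        _ = x⁻¹ * (t * (d * z)) * x := by rw [h2]; group
        _ = x⁻¹ * ((t * z) * d) * x := by rw [← hzd]; group
        _ = x⁻¹ * ((x * t * x⁻¹) * d) * x := by rw [hx]
        _ = t * (x⁻¹ * d * x) := by group
    refine b.mem_D.mpr ⟨b.mem_cent (b.le_N (mem_centralizer_singleton_iff.mpr h4)) ?_ ?_ ?_, h4, ?_⟩
    · rw [hconj]; exact h3
    · rw [hconj]
      exact fun h5 => b.coprime.1 (h5.trans (Subgroup.orderOf_dvd_natCard _ h1))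
    · rw [hconj]
      exact fun h5 => b.coprime.2 (h5.trans (Subgroup.orderOf_dvd_natCard _ h1))
    · rw [hconj]; exact h3
  -- `N(D) ≠ G`
  have hDt : t ∉ D K t := by
    intro h1
    have h2 := (b.mem_D.mp h1).2.2
    rw [b.ord] at h2
    exact absurd h2 (by decide)
  have hX : normalizer (D K t : Set G) ≠ ⊤ := by
    intro htop
    have hn : (D K t).Normal := Subgroup.normalizer_eq_top_iff.mp htop
    rcases hn.eq_bot_or_eq_top with h1 | h1
    · rw [h1, mem_bot] at hyD
      exact hy1 hyD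
    · exact hDt (h1 ▸ mem_top t)
  -- the component `J` of `N(D)`
  have htC : t ∈ centralizer ({t} : Set G) := mem_centralizer_singleton_iff.mpr rfl
  have hKt := b.std.cmp b.ord b.mem
  have hz' : centralizer (zpowers t : Set G) = centralizer ({t} : Set G) := by
    rw [Subgroup.zpowers_eq_closure, Subgroup.centralizer_closure]
  have h1 : Cmp (normalizer (D K t : Set G) ⊓ centralizer (zpowers t : Set G)) K := by
    rw [hz']
    exact hKt.mono (le_inf (hKt.le.trans hCD) hKt.le) inf_le_right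
  have h2 := h1.lbal b.std.cyc (isPGroup_zpowers b.ord) (zpowers_le.mpr (hCD htC))
  obtain ⟨J, hJ, hpJ, hKJ⟩ := exists_cmp b.std.cyc b.std.quasi h2 b.std.prime b.std.ne_two b.std.dvd
  have hXJ := hJ.le_normalizer b.std.cyc b.std.prime b.std.ne_two hpJ
  have hJt : J ≠ ⊤ := by
    rintro rfl
    exact hX (top_le_iff.mp hJ.le)
  have hne : K ≠ J := by
    rintro rfl
    have h3 : x * t * x⁻¹ ∈ centralizer (K : Set G) :=
      forall_of_mem_normalizer (normalizer_le_centralizer K (hXJ hxD)) t b.mem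
    rw [hx] at h3
    have h4 : z ∈ centralizer (K : Set G) := by
      have := (centralizer (K : Set G)).mul_mem ((centralizer (K : Set G)).inv_mem b.mem) h3
      rwa [inv_mul_cancel_left] at this
    have h5 : z ∈ K ⊓ centralizer (K : Set G) := ⟨hz, h4⟩
    rw [b.inf, mem_bot] at h5
    exact hz1 h5
  have hCJ := hCD.trans hXJ
  have hout' := b.exists_outer hout
  have hnab := b.nonabelian
  have hGc : commutator G = ⊤ := by
    have hn : (commutator G).Normal := inferInstance
    rcases hn.eq_bot_or_eq_top with h3 | h3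
    · exfalso
      rw [_root_.commutator_def, Subgroup.commutator_eq_bot_iff_le_centralizer] at h3
      obtain ⟨k, -, l, -, hkl⟩ := hnab
      exact hkl (mem_centralizer_iff.mp (h3 (mem_top l)) k (Set.mem_univ _))
    · exact h3
  obtain ⟨e⟩ := b.iso
  rcases iso_of_pump b.std.cyc hk b.ord hJt hJ.quasi (hCJ htC) hKJ hne
    (fun x hx => centralizer_comm b.mem hx)
    (fun y _ hyt x hx => forall_of_mem_normalizer (b.le_N (mem_centralizer_singleton_iff.mpr hyt)) x hx)
    (f := 2) (by rw [b.card]; norm_num) (by rw [b.card]) e with ⟨F₂, i1, i2, f₂, hf₂, hF₂, ⟨e₂⟩⟩ | ⟨hJ1, k, hko⟩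
  · exact b.false_of_sixteen hGc hKJ hne hCJ hout' (by rw [hF₂, b.card]; norm_num) e₂
  · exact b.false_of_local hKJ hne hCJ hout' hJ1 hko

end Base

end Cfsg.Agent.OddCyclic.CompFive
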