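import Mathlib
import Cfsg.Agent.OddCyclic.CompFive
import Cfsg.Agent.OddCyclic.A4EMainTwo
import Cfsg.Agent.OddCyclic.B2Final
import Cfsg.Agent.OddCyclic.B2SpecClass
import Cfsg.Agent.OddCyclic.CompStart

/-!
# S0342, component type, case A4: `K ≅ A₅` and an outer 2-element
-/

set_option autoImplicit false

namespace Cfsg.Agent.OddCyclic.CompFour

open Subgroup Cfsg Cfsg.Agent.OddCyclic.T1Defs Cfsg.Agent.OddCyclic.PumpMain
open Cfsg.Agent.LieExceptional Cfsg.Agent.LieExceptional.CITDefs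
open Cfsg.Agent.LieExceptional.CITBasic
open Cfsg.Agent.OddCyclic.CompBasic Cfsg.Agent.OddCyclic.CompStandard
open Cfsg.Agent.OddCyclic.CaseADefs Cfsg.Agent.OddCyclic.CaseABase
open Cfsg.Agent.OddCyclic.CompStart

universe u

variable {G : Type u} [Group G] [Finite G] {p : ℕ} {K : Subgroup G} {t : G} {F : Type*} [Field F] [Fintype F]

/-- if elements of odd order of `C(K) ∩ C(t)` are trivial, then `C(K) ∩ C(t) = ⟨t⟩` -/
theorem eq_one_or (ht : t ∈ centralizer (K : Set G)) (ho : orderOf t = 2)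
    (h2 : ∀ Q : Subgroup G, Q ≤ centralizer (K : Set G) → IsPGroup 2 Q → Nat.card Q ≤ 2)
    (hodd : ∀ y ∈ centralizer (K : Set G), y * t = t * y → Odd (orderOf y) → y = 1) {g : G}
    (hgt : g * t = t * g) (hg : g ∈ centralizer (K : Set G)) : g = 1 ∨ g = t := by
  have hpf : Fact (Nat.Prime 2) := ⟨Nat.prime_two⟩
  obtain ⟨a, m, hm, hgm⟩ := Nat.exists_eq_two_pow_mul_odd (n := orderOf g) (orderOf_pos g).ne'
  have h1 : g ^ 2 ^ a = 1 := by
    refine hodd _ (Subgroup.pow_mem _ hg _) ((show Commute g t from hgt).pow_left _) ?_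
    rw [orderOf_pow, hgm, Nat.gcd_eq_right (dvd_mul_right _ _), Nat.mul_div_cancel_left _ (by positivity)]
    exact hm
  have h3 : IsPGroup 2 (zpowers g ⊔ zpowers t : Subgroup G) := by
    refine (isPGroup_zpowers_of_pow ⟨a, h1⟩).to_sup_of_normal_right' (isPGroup_zpowers ho) ?_
    rw [zpowers_le]
    refine centralizer_le_normalizer _ ?_
    rw [mem_centralizer_iff]
    rintro _ ⟨k, rfl⟩
    exact ((show Commute g t from hgt).zpow_right k).symm.eq
  have h4 := h2 _ (sup_le (zpowers_le.mpr hg) (zpowers_le.mpr ht)) h3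
  have h5 : zpowers t = zpowers g ⊔ zpowers t :=
    Subgroup.eq_of_le_of_card_ge le_sup_right (by rw [Nat.card_zpowers, ho]; exact h4)
  have h6 : g ∈ zpowers t := h5 ▸ mem_sup_left (mem_zpowers g)
  obtain ⟨k, hk⟩ := mem_zpowers_iff.mp h6
  have ht2 : t ^ (2 : ℤ) = 1 := by rw [zpow_ofNat, pow_two, sq_of_orderOf ho]
  rw [← hk]
  rcases Int.even_or_odd' k with ⟨j, rfl | rfl⟩
  · left; rw [zpow_mul, ht2, one_zpow]
  · right; rw [zpow_add, zpow_mul, ht2, one_zpow, one_mul, zpow_one]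

/-- `K ≅ A₅` with an outer 2-element -/
theorem false_of_outer [IsSimpleGroup G] (hsec : SecZero G) (hcrit : Crit G)
    (hSE : ¬ ∃ H : Subgroup G, IsStronglyEmbedded H) (hnab : NonAb G) (h : Std p K)
    (h4 : Fintype.card F = 4) (e : K ≃* Matrix.ProjectiveSpecialLinearGroup (Fin 2) F)
    (hout : ∃ x ∈ normalizer (K : Set G), (∃ n : ℕ, x ^ 2 ^ n = 1) ∧ x ∉ K ⊔ centralizer (K : Set G)) :
    False := by
  have hk : ∀ J : Subgroup G, J ≠ ⊤ → IsQuasisimple J → KZero (J ⧸ center J) :=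
    fun J hJ hq => kzero_of_quasi hsec hq hJ
  have hab : ∃ a b : G, a * b ≠ b * a := by
    obtain ⟨S, hS, -⟩ := exists_isSyl2 (⊤ : Subgroup G) ⊥ bot_le IsPGroup.of_bot
    obtain ⟨a, -, b, -, hne⟩ := hnab S hS
    exact ⟨a, b, hne⟩
  obtain ⟨R, hR, -⟩ := exists_isSyl2 (centralizer (K : Set G)) ⊥ bot_le IsPGroup.of_bot
  have hR2 := A4EMainTwo.card_two hab h h4 e hout (h.exists_even hcrit hSE) hR
  have h2 : ∀ Q : Subgroup G, Q ≤ centralizer (K : Set G) → IsPGroup 2 Q → Nat.card Q ≤ 2 := by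
    intro Q hQ hQ2
    rw [← hR2]
    exact card_le_of_isSyl2 hR hQ hQ2
  obtain ⟨t, htK, ht⟩ := exists_involution_cent h
  have b : CompFive.Base p K t F := ⟨h, h4, ⟨e⟩, htK, ht, h2⟩
  obtain ⟨x, hx, -, hxo⟩ := hout
  have hcent : B2Hyp.Cent K t := by
    intro y z hz _ hz1 hy _ g hgt hgK
    refine eq_one_or htK ht h2 (fun d hd hdt hdo => b.eq_one hk ⟨x, hx, hxo⟩ hz hz1 hy hd hdt hdo) hgt ?_
    rw [mem_centralizer_iff]
    exact fun k hk' => (hgK k hk').symm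
  have hp5 : Fact (Nat.Prime 5) := ⟨by norm_num⟩
  obtain ⟨f⟩ := A4EMainTwo.nonempty_equiv h4
  refine B2Final.false_of_cent (F := ZMod 5) (by rw [ZMod.card]; norm_num) (by rw [ZMod.card]) ⟨e.trans f⟩ h
    hcent htK ht h2 hnab ?_
  intro J hJ hq
  have hs : IsSimpleGroup (J ⧸ center J) := hq.2
  rcases B2SpecClass.oneClass_of_kZero (hk J hJ hq) with h5 | ⟨h5, h6⟩
  · exact Or.inl h5
  · exact Or.inr ⟨h5.trans (Subgroup.card_quotient_dvd_card _), h6⟩

end Cfsg.Agent.OddCyclic.CompFour
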