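import Mathlib
import Cfsg.Agent.OddCyclic.CompBasic
import Cfsg.Agent.OddCyclic.CompJOneTools
import Cfsg.Agent.SporRec.J1.Pair
import Cfsg.Agent.Lib.PGroupCoprimeAction
import Cfsg.Agent.S0082
import Cfsg.Agent.S0112

/-!
# Component case `J₁` of S0342

`no_JOne`: in a finite group with all odd Sylow subgroups cyclic there is no involution `t` fused to another
involution of `C(t)` with `C(t) = Y × K`, `K` of type `J₁`, `4 ∤ |Y|`, `t ∈ Z(Y)`.
-/

set_option autoImplicit false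

namespace Cfsg.Agent.OddCyclic.CompJOne

open Subgroup Cfsg.Agent.OddCyclic.T1Defs Cfsg.Agent.OddCyclic.CompBasic
open Cfsg.Agent.OddCyclic.CompJOneTools
open Cfsg.Agent.SporRec.J1.Defs Cfsg.Agent.SporRec.J1.CentFacts Cfsg.Agent.SporRec.J1.Pair
open Cfsg.Agent.SporRec.J1.A5More (w0)

/-! ### Elementary facts -/

section Elem

variable {G : Type*} [Group G]

/-- two commuting involutions give a subgroup of order four -/
theorem four_dvd [Finite G] {Y : Subgroup G} {a b : G} (ha : a ∈ Y) (hb : b ∈ Y) (aa : a * a = 1)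
    (bb : b * b = 1) (ab : a * b = b * a) (a1 : a ≠ 1) (b1 : b ≠ 1) (hne : a ≠ b) : 4 ∣ Nat.card Y := by
  classical
  let V : Subgroup G :=
    { carrier := {x | x = 1 ∨ x = a ∨ x = b ∨ x = a * b}
      mul_mem' := by
        have h1 : a * (a * b) = b := by rw [← mul_assoc, aa, one_mul]
        have h2 : b * (a * b) = a := by rw [ab, ← mul_assoc, bb, one_mul]
        have h3 : a * b * a = b := by rw [ab, mul_assoc, aa, mul_one]
        have h4 : a * b * b = a := by rw [mul_assoc, bb, mul_one]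
        have h5 : a * b * (a * b) = 1 := by rw [← mul_assoc, h3, bb]
        rintro x y (rfl | rfl | rfl | rfl) (rfl | rfl | rfl | rfl) <;>
          simp only [Set.mem_ofPred_eq, one_mul, mul_one, aa, bb, h1, h2, h3, h4, h5, ← ab] <;> tauto
      one_mem' := Or.inl rfl
      inv_mem' := by
        have ha' : a⁻¹ = a := inv_eq_of_mul_eq_one_right aa
        have hb' : b⁻¹ = b := inv_eq_of_mul_eq_one_right bb
        rintro x (rfl | rfl | rfl | rfl)
        · left; exact inv_one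
        · right; left; exact ha'
        · right; right; left; exact hb'
        · right; right; right
          rw [mul_inv_rev, ha', hb', ab] }
  have hle : V ≤ Y := by
    rintro x (rfl | rfl | rfl | rfl)
    · exact Y.one_mem
    · exact ha
    · exact hb
    · exact Y.mul_mem ha hb
  have hcard : Nat.card V = 4 := by
    have h1 : (V : Set G) = (({1, a, b, a * b} : Finset G) : Set G) := by
      ext x
      simp only [Finset.coe_insert, Finset.coe_singleton, Set.mem_insert_iff, Set.mem_singleton_iff]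
      rfl
    calc Nat.card V = (V : Set G).ncard := rfl
      _ = ({1, a, b, a * b} : Finset G).card := by rw [h1, Set.ncard_coe_finset]
      _ = 4 := by
        have n1 : a ≠ a * b := by
          intro h; exact b1 (mul_left_cancel (h.symm.trans (mul_one a).symm))
        have n2 : b ≠ a * b := by
          intro h; exact a1 (mul_right_cancel (h.symm.trans (one_mul b).symm))
        have n3 : (1 : G) ≠ a * b := by
          intro h
          apply hne
          rw [eq_comm, mul_eq_one_iff_eq_inv] at h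
          rw [h, inv_eq_of_mul_eq_one_right bb]
        rw [Finset.card_insert_of_notMem, Finset.card_insert_of_notMem, Finset.card_insert_of_notMem,
          Finset.card_singleton]
        · simpa using n2
        · simp only [Finset.mem_insert, Finset.mem_singleton, not_or]
          exact ⟨hne, n1⟩
        · simp only [Finset.mem_insert, Finset.mem_singleton, not_or]
          exact ⟨a1.symm, b1.symm, n3⟩
  rw [← hcard]
  exact card_dvd_of_le hle

theorem w0_three : w0 ^ 3 = 1 ∧ w0 ≠ 1 :=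
  ⟨Cfsg.Agent.SporRec.J1.A5More.ds, Cfsg.Agent.SporRec.J1.A5More.ds_ne⟩

theorem prod_three : ∀ a : A5, ∃ b : A5, b ^ 3 = 1 ∧ (b⁻¹ * a) ^ 3 = 1 := by decide +kernel

end Elem

variable {G : Type*} [Group G]

/-- the situation: `C(t) = Y × K`. -/
structure Setup (t : G) (Y K : Subgroup G) : Prop where
  odd : OddCyc G
  t2 : orderOf t = 2
  comm : ∀ y ∈ Y, ∀ k ∈ K, y * k = k * y
  disj : ∀ x ∈ Y, x ∈ K → x = 1
  tY : t ∈ Y
  tcent : ∀ y ∈ Y, y * t = t * y
  cover : ∀ g, g * t = t * g → ∃ y ∈ Y, ∃ k ∈ K, g = y * k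
  four : ¬ 4 ∣ Nat.card Y
  loc : Local K

/-- the centraliser of the involution `k` of `K` -/
structure CentK (K : Subgroup G) (k : G) (ψ : A5 →* G) (v : G) : Prop where
  kK : k ∈ K
  k2 : orderOf k = 2
  inj : Function.Injective ψ
  mem : ∀ a, ψ a ∈ K
  comm : ∀ a, k * ψ a = ψ a * k
  cover : ∀ g ∈ K, g * k = k * g → ∃ a, g = ψ a ∨ g = k * ψ a
  ne : ∀ a, ψ a ≠ k
  vK : v ∈ K
  v5 : orderOf v = 5
  vx : v * ψ w0 = ψ w0 * v
  kv : k * v * k⁻¹ = v⁻¹
  cov : ∀ z ∈ K, z * ψ w0 = ψ w0 * z → z * v * z⁻¹ = v ∨ z * v * z⁻¹ = v⁻¹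

namespace Setup

variable {t : G} {Y K : Subgroup G}

theorem tt (S : Setup t Y K) : t * t = 1 := sq_of_two S.t2

theorem t1 (S : Setup t Y K) : t ≠ 1 := ne_of_two S.t2

theorem tk (S : Setup t Y K) {k : G} (hk : k ∈ K) : t * k = k * t := S.comm t S.tY k hk

theorem pow_eq (S : Setup t Y K) {y k : G} (hy : y ∈ Y) (hk : k ∈ K) {n : ℕ} (h : (y * k) ^ n = 1) :
    y ^ n = 1 ∧ k ^ n = 1 := by
  have hc : Commute y k := S.comm y hy k hk
  rw [hc.mul_pow] at h
  have h1 : y ^ n = (k ^ n)⁻¹ := eq_inv_of_mul_eq_one_left h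
  have h2 : y ^ n = 1 := S.disj _ (Y.pow_mem hy n) (by rw [h1]; exact K.inv_mem (K.pow_mem hk n))
  refine ⟨h2, ?_⟩
  rwa [h2, one_mul] at h

theorem y_cases [Finite G] (S : Setup t Y K) {y : G} (hy : y ∈ Y) (hyy : y * y = 1) : y = 1 ∨ y = t := by
  by_contra hne
  push Not at hne
  exact S.four (four_dvd hy S.tY hyy S.tt (S.tcent y hy) hne.1 S.t1 hne.2)

theorem y_two [Finite G] (S : Setup t Y K) {y : G} (hy : y ∈ Y) {n : ℕ} (h : y ^ (2 ^ n) = 1) :
    y = 1 ∨ y = t := by
  apply S.y_cases hy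
  have h1 : orderOf y ∣ 2 ^ n := orderOf_dvd_of_pow_eq_one h
  obtain ⟨m, -, hm⟩ := (Nat.dvd_prime_pow Nat.prime_two).1 h1
  have h2 : m ≤ 1 := by
    by_contra hlt
    apply S.four
    have h3 : 2 ^ 2 ∣ orderOf y := by rw [hm]; exact pow_dvd_pow 2 (by omega)
    exact h3.trans (orderOf_dvd_natCard Y hy)
  have h3 : y ^ (2 ^ 1) = 1 := by
    apply orderOf_dvd_iff_pow_eq_one.1
    rw [hm]
    exact pow_dvd_pow 2 h2
  rwa [pow_one, pow_two] at h3

/-- elements of order 3 (or 5) of `C(t)` lie in `K` -/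
theorem mem_K [Finite G] (S : Setup t Y K) {p : ℕ} (hp : p.Prime) (hp2 : p ≠ 2) (hpK : p ∣ Nat.card K) {g : G}
    (hg : g * t = t * g) (hgp : g ^ p = 1) : g ∈ K := by
  obtain ⟨y, hy, k, hk, rfl⟩ := S.cover g hg
  obtain ⟨h1, h2⟩ := S.pow_eq hy hk hgp
  suffices y = 1 by rw [this, one_mul]; exact hk
  by_contra hy1
  have : Fact p.Prime := ⟨hp⟩
  obtain ⟨⟨z, hzK⟩, hz⟩ := exists_prime_orderOf_dvd_card' (G := K) p hpK
  rw [Subgroup.orderOf_mk] at hz
  have h3 := zpowers_eq_of_commute S.odd hp hp2 (orderOf_eq_prime h1 hy1) hz (S.comm y hy z hzK)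
  apply hy1
  apply S.disj y hy
  have h4 : y ∈ zpowers z := by rw [← h3]; exact mem_zpowers y
  obtain ⟨n, rfl⟩ := mem_zpowers_iff.1 h4
  exact K.zpow_mem hzK n

/-- involutions of `C(t)` -/
theorem inv_cases [Finite G] (S : Setup t Y K) {s : G} (hs : s * t = t * s) (ss : s * s = 1) (s1 : s ≠ 1)
    (st : s ≠ t) : ∃ e k, (e = 1 ∨ e = t) ∧ k ∈ K ∧ orderOf k = 2 ∧ s = e * k := by
  obtain ⟨y, hy, k, hk, rfl⟩ := S.cover s hs
  obtain ⟨h1, h2⟩ := S.pow_eq (n := 2) hy hk (by rw [pow_two, ss])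
  rw [pow_two] at h1 h2
  have hy' := S.y_cases hy h1
  refine ⟨y, k, hy', hk, orderOf_two h2 ?_, rfl⟩
  rintro rfl
  rw [mul_one] at s1 st
  tauto

theorem exists_centK [Finite G] (S : Setup t Y K) {k : G} (hk : k ∈ K) (hk2 : orderOf k = 2) :
    ∃ ψ v, CentK K k ψ v := by
  have hk2' : orderOf (⟨k, hk⟩ : K) = 2 := by rw [Subgroup.orderOf_mk]; exact hk2
  obtain ⟨φ, D⟩ := exists_centData (⟨k, hk⟩ : K) hk2' (S.loc.cent _ hk2')
  obtain ⟨v, P⟩ := exists_pd3 S.loc hk2' D
  refine ⟨K.subtype.comp φ, v, hk, hk2, K.subtype_injective.comp D.inj, fun a => (φ a).2,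
    fun a => congrArg Subtype.val (D.comm a), ?_, ?_, v.2, ?_, congrArg Subtype.val P.xy,
    congrArg Subtype.val P.inv, ?_⟩
  · intro g hg hgk
    obtain ⟨a, ha⟩ := D.cover ⟨g, hg⟩ (Subtype.ext hgk)
    refine ⟨a, ?_⟩
    rcases ha with ha | ha
    · left; exact congrArg Subtype.val ha
    · right; exact congrArg Subtype.val ha
  · intro a ha
    exact D.ne a (Subtype.ext ha)
  · rw [Subgroup.orderOf_coe]; exact P.yq
  · intro z hz hzx
    have hzx' : (⟨z, hz⟩ : K) * φ w0 = φ w0 * ⟨z, hz⟩ := Subtype.ext hzx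
    obtain ⟨i, j, h⟩ := P.cover' hzx'
    have hxv : Commute (φ w0 ^ i) v := ((show Commute v (φ w0) from P.xy).zpow_right i).symm
    have hvv : Commute (v ^ j) v := (Commute.refl v).zpow_left j
    have h1 : Commute (φ w0 ^ i * v ^ j) v := hxv.mul_left hvv
    rcases h with h | h
    · left
      have : (⟨z, hz⟩ : K) * v * (⟨z, hz⟩ : K)⁻¹ = v := by
        rw [h, h1.eq]; group
      exact congrArg Subtype.val this
    · right
      have : (⟨z, hz⟩ : K) * v * (⟨z, hz⟩ : K)⁻¹ = v⁻¹ := by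
        rw [h]
        calc φ w0 ^ i * v ^ j * ⟨k, hk⟩ * v * (φ w0 ^ i * v ^ j * ⟨k, hk⟩)⁻¹ 
            = (φ w0 ^ i * v ^ j) * (⟨k, hk⟩ * v * (⟨k, hk⟩ : K)⁻¹) * (φ w0 ^ i * v ^ j)⁻¹ := by group
          _ = (φ w0 ^ i * v ^ j) * v⁻¹ * (φ w0 ^ i * v ^ j)⁻¹ := by rw [P.inv]
          _ = v⁻¹ := by rw [(h1.inv_right).eq]; group
      exact congrArg Subtype.val this

theorem three_dvd [Finite G] {k v : G} {ψ : A5 →* G} (D : CentK K k ψ v) : 3 ∣ Nat.card K := by
  have : Fact (Nat.Prime 3) := ⟨Nat.prime_three⟩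
  have h1 : orderOf (ψ w0) = 3 := by
    refine orderOf_eq_prime (by rw [← map_pow, w0_three.1, map_one]) ?_
    intro h
    exact w0_three.2 (D.inj (by rw [h, map_one]))
  rw [← h1]
  exact orderOf_dvd_natCard K (D.mem w0)

/-- the configuration obtained from a fusion of `t` -/
theorem exists_config [Finite G] (S : Setup t Y K) (g : G) (hg : (g * t * g⁻¹) * t = t * (g * t * g⁻¹))
    (hgt : g * t * g⁻¹ ≠ t) : ∃ (k v : G) (ψ : A5 →* G) (w s : G), CentK K k ψ v ∧ (s = k ∨ s = t * k) ∧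
      w * s * w⁻¹ = t ∧ (w * t * w⁻¹ = k ∨ w * t * w⁻¹ = t * k) ∧ ∀ a, ∃ b, w * ψ a * w⁻¹ = ψ b := by
  set s := g * t * g⁻¹ with hs
  have ss : s * s = 1 := by
    calc g * t * g⁻¹ * (g * t * g⁻¹) = g * (t * t) * g⁻¹ := by group
      _ = 1 := by rw [S.tt]; group
  have s1 : s ≠ 1 := by
    intro h
    rw [hs] at h
    exact S.t1 (conj_eq_one_iff.1 h)
  obtain ⟨e, k, he, hk, hk2, hsk⟩ := S.inv_cases hg ss s1 hgt
  obtain ⟨ψ, v, D⟩ := S.exists_centK hk hk2
  -- the involution `g⁻¹ t g`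
  set r := g⁻¹ * t * g with hr
  have hgs : g⁻¹ * s * g = t := by rw [hs]; group
  have hrt : r * t = t * r := by
    calc g⁻¹ * t * g * t = g⁻¹ * t * g * (g⁻¹ * s * g) := by rw [hgs]
      _ = g⁻¹ * (t * s) * g := by group
      _ = g⁻¹ * (s * t) * g := by rw [hg]
      _ = (g⁻¹ * s * g) * (g⁻¹ * t * g) := by group
      _ = t * (g⁻¹ * t * g) := by rw [hgs]
  have rr : r * r = 1 := by
    calc g⁻¹ * t * g * (g⁻¹ * t * g) = g⁻¹ * (t * t) * g := by group
      _ = 1 := by rw [S.tt]; group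
  have r1 : r ≠ 1 := by
    intro h
    apply S.t1
    have : t = g * r * g⁻¹ := by rw [hr]; group
    rw [this, h]; group
  have rt : r ≠ t := by
    intro h
    apply hgt
    calc s = g * t * g⁻¹ := hs
      _ = g * r * g⁻¹ := by rw [h]
      _ = t := by rw [hr]; group
  obtain ⟨e2, k2, he2, hk2K, hk22, hrk⟩ := S.inv_cases hrt rr r1 rt
  obtain ⟨⟨κ, hκK⟩, hκ⟩ := S.loc.conj ⟨k2, hk2K⟩ ⟨k, hk⟩ (by rw [Subgroup.orderOf_mk]; exact hk22)
    (by rw [Subgroup.orderOf_mk]; exact hk2)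
  have hκ' : κ * k2 * κ⁻¹ = k := congrArg Subtype.val hκ
  have hκt : κ * t = t * κ := (S.tk hκK).symm
  -- `t` and `s` commute with `ψ a`
  have hta : ∀ a, t * ψ a = ψ a * t := fun a => S.tk (D.mem a)
  have hsa : ∀ a, s * ψ a = ψ a * s := by
    intro a
    rw [hsk]
    have h1 : Commute e (ψ a) := by
      rcases he with rfl | rfl
      · exact Commute.one_left _
      · exact hta a
    exact (h1.mul_left (D.comm a)).eq
  have h3K := three_dvd D
  -- conjugates of `ψ a`
  have hmem3 : ∀ b : A5, b ^ 3 = 1 → g⁻¹ * ψ b * g ∈ K := by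
    intro b hb
    apply S.mem_K Nat.prime_three (by norm_num) h3K
    · calc g⁻¹ * ψ b * g * t = g⁻¹ * ψ b * g * (g⁻¹ * s * g) := by rw [hgs]
        _ = g⁻¹ * (ψ b * s) * g := by group
        _ = g⁻¹ * (s * ψ b) * g := by rw [hsa]
        _ = (g⁻¹ * s * g) * (g⁻¹ * ψ b * g) := by group
        _ = t * (g⁻¹ * ψ b * g) := by rw [hgs]
    · have : (g⁻¹ * ψ b * g) ^ 3 = g⁻¹ * (ψ b) ^ 3 * g := by
        rw [pow_succ, pow_two, pow_succ, pow_two]; group
      rw [this, ← map_pow, hb, map_one]; group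
  have hmem : ∀ a : A5, g⁻¹ * ψ a * g ∈ K := by
    intro a
    obtain ⟨b, hb1, hb2⟩ := prod_three a
    have h1 := K.mul_mem (hmem3 _ hb1) (hmem3 _ hb2)
    have h2 : g⁻¹ * ψ b * g * (g⁻¹ * ψ (b⁻¹ * a) * g) = g⁻¹ * ψ a * g := by
      rw [map_mul, map_inv]; group
    rwa [h2] at h1
  refine ⟨k, v, ψ, κ * g⁻¹, s, D, ?_, ?_, ?_, ?_⟩
  · rcases he with rfl | rfl
    · left; rw [hsk, one_mul]
    · right; exact hsk
  · calc κ * g⁻¹ * s * (κ * g⁻¹)⁻¹ = κ * (g⁻¹ * s * g) * κ⁻¹ := by group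
      _ = t := by rw [hgs, hκt]; group
  · have h1 : κ * g⁻¹ * t * (κ * g⁻¹)⁻¹ = e2 * k := by
      calc κ * g⁻¹ * t * (κ * g⁻¹)⁻¹ = κ * r * κ⁻¹ := by rw [hr]; group
        _ = κ * e2 * k2 * κ⁻¹ := by rw [hrk]; group
        _ = e2 * (κ * k2 * κ⁻¹) := by
          have : κ * e2 = e2 * κ := by
            rcases he2 with rfl | rfl
            · rw [mul_one, one_mul]
            · exact hκt
          rw [this]; group
        _ = e2 * k := by rw [hκ']
    rw [h1]
    rcases he2 with rfl | rfl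
    · left; rw [one_mul]
    · right; rfl
  · -- the image of `ψ a`
    have hwK : ∀ a, κ * g⁻¹ * ψ a * (κ * g⁻¹)⁻¹ ∈ K := by
      intro a
      have : κ * g⁻¹ * ψ a * (κ * g⁻¹)⁻¹ = κ * (g⁻¹ * ψ a * g) * κ⁻¹ := by group
      rw [this]
      exact K.mul_mem (K.mul_mem hκK (hmem a)) (K.inv_mem hκK)
    have hwk : ∀ a, (κ * g⁻¹ * ψ a * (κ * g⁻¹)⁻¹) * k = k * (κ * g⁻¹ * ψ a * (κ * g⁻¹)⁻¹) := by
      intro a
      -- `g⁻¹ ψ(a) g` commutes with `k2`
      have h1 : (g⁻¹ * ψ a * g) * r = r * (g⁻¹ * ψ a * g) := by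
        rw [hr]
        calc g⁻¹ * ψ a * g * (g⁻¹ * t * g) = g⁻¹ * (ψ a * t) * g := by group
          _ = g⁻¹ * (t * ψ a) * g := by rw [hta]
          _ = _ := by group
      have h2 : (g⁻¹ * ψ a * g) * k2 = k2 * (g⁻¹ * ψ a * g) := by
        have h3 : k2 = e2 * r := by
          rw [hrk, ← mul_assoc]
          rcases he2 with rfl | rfl
          · group
          · rw [S.tt, one_mul]
        have h4 : Commute (g⁻¹ * ψ a * g) e2 := by
          rcases he2 with rfl | rfl
          · exact Commute.one_right _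
          · exact (S.tk (hmem a)).symm
        rw [h3]
        exact (h4.mul_right h1).eq
      calc (κ * g⁻¹ * ψ a * (κ * g⁻¹)⁻¹) * k = (κ * g⁻¹ * ψ a * (κ * g⁻¹)⁻¹) * (κ * k2 * κ⁻¹) := by rw [hκ']
        _ = κ * ((g⁻¹ * ψ a * g) * k2) * κ⁻¹ := by group
        _ = κ * (k2 * (g⁻¹ * ψ a * g)) * κ⁻¹ := by rw [h2]
        _ = (κ * k2 * κ⁻¹) * (κ * g⁻¹ * ψ a * (κ * g⁻¹)⁻¹) := by group
        _ = _ := by rw [hκ']
    have hk3 : k ^ 3 = k := by
      rw [pow_succ, pow_two, sq_of_two hk2, one_mul]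
    have h3 : ∀ a : A5, a ^ 3 = 1 → ∃ b, κ * g⁻¹ * ψ a * (κ * g⁻¹)⁻¹ = ψ b := by
      intro a ha
      obtain ⟨b, hb | hb⟩ := D.cover _ (hwK a) (hwk a)
      · exact ⟨b, hb⟩
      · exfalso
        have h4 : (κ * g⁻¹ * ψ a * (κ * g⁻¹)⁻¹) ^ 3 = 1 := by
          have : (κ * g⁻¹ * ψ a * (κ * g⁻¹)⁻¹) ^ 3 = κ * g⁻¹ * (ψ a) ^ 3 * (κ * g⁻¹)⁻¹ := by
            rw [pow_succ, pow_two, pow_succ, pow_two]; group
          rw [this, ← map_pow, ha, map_one]; group
        rw [hb, (show Commute k (ψ b) from D.comm b).mul_pow, hk3, ← map_pow] at h4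
        apply D.ne (b ^ 3)⁻¹
        rw [map_inv]
        exact (eq_inv_of_mul_eq_one_left h4).symm
    intro a
    obtain ⟨b, hb1, hb2⟩ := prod_three a
    obtain ⟨c1, hc1⟩ := h3 b hb1
    obtain ⟨c2, hc2⟩ := h3 _ hb2
    refine ⟨c1 * c2, ?_⟩
    rw [map_mul, ← hc1, ← hc2, map_mul, map_inv]
    group

theorem mem_normalizer_zpowers {X : Type*} [Group X] {g x : X} (h : g * x * g⁻¹ = x⁻¹) :
    g ∈ normalizer (zpowers x : Set X) := by
  have h' : g⁻¹ * x * g = x⁻¹ := by
    have h1 : g * x⁻¹ * g⁻¹ = x := by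
      calc g * x⁻¹ * g⁻¹ = (g * x * g⁻¹)⁻¹ := by group
        _ = x := by rw [h, inv_inv]
    calc g⁻¹ * x * g = g⁻¹ * (g * x⁻¹ * g⁻¹) * g := by rw [h1]
      _ = x⁻¹ := by group
  rw [mem_normalizer_iff]
  intro y
  constructor
  · intro hy
    obtain ⟨n, rfl⟩ := mem_zpowers_iff.1 hy
    have h2 : g * x ^ n * g⁻¹ = (g * x * g⁻¹) ^ n := by rw [conj_zpow]
    rw [h2, h]
    exact zpow_mem (inv_mem (mem_zpowers x)) n
  · intro hy
    obtain ⟨n, hn⟩ := mem_zpowers_iff.1 hy
    have h3 : y = g⁻¹ * x ^ n * g := by rw [hn]; group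
    have h2 : g⁻¹ * x ^ n * g⁻¹⁻¹ = (g⁻¹ * x * g⁻¹⁻¹) ^ n := by rw [conj_zpow]
    rw [inv_inv, h'] at h2
    rw [h3, h2]
    exact zpow_mem (inv_mem (mem_zpowers x)) n

/-- the configuration where `w` acts as a 3-cycle is impossible -/
theorem no_three_cycle [Finite G] (S : Setup t Y K) {k v w s : G} {ψ : A5 →* G} (D : CentK K k ψ v)
    (hs : s = k ∨ s = t * k) (hws : w * s * w⁻¹ = t) (hwt : w * t * w⁻¹ = k ∨ w * t * w⁻¹ = t * k)
    (hne : w * t * w⁻¹ ≠ s) : False := by
  classical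
  have : Fact (Nat.Prime 3) := ⟨Nat.prime_three⟩
  have htk := S.tk D.kK
  have k1 : k ≠ 1 := ne_of_two D.k2
  have kt : k ≠ t := by
    intro h
    apply k1
    apply S.disj k ?_ D.kK
    rw [h]; exact S.tY
  have kk := sq_of_two D.k2
  have hta : ∀ a, t * ψ a = ψ a * t := fun a => S.tk (D.mem a)
  have hst : s ≠ t := by
    rcases hs with rfl | rfl
    · exact kt
    · intro h; exact k1 (mul_left_cancel (h.trans (mul_one t).symm))
  have ht1 : w * t * w⁻¹ ≠ t := by
    rcases hwt with h | h <;> rw [h]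
    · exact kt
    · intro h; exact k1 (mul_left_cancel (h.trans (mul_one t).symm))
  -- `w t₁ w⁻¹ = s`
  have hw1 : w * (w * t * w⁻¹) * w⁻¹ = s := by
    rcases hs with rfl | rfl
    · rcases hwt with h | h
      · exact absurd h hne
      · rw [h]
        calc w * (t * s) * w⁻¹ = (w * t * w⁻¹) * (w * s * w⁻¹) := by group
          _ = t * s * t := by rw [h, hws]
          _ = s := by rw [htk, mul_assoc, S.tt, mul_one]
    · rcases hwt with h | h
      · rw [h]
        calc w * k * w⁻¹ = w * (t * (t * k)) * w⁻¹ := by rw [← mul_assoc t t k, S.tt, one_mul]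
          _ = (w * t * w⁻¹) * (w * (t * k) * w⁻¹) := by group
          _ = k * t := by rw [h, hws]
          _ = t * k := htk.symm
      · exact absurd h hne
  have e3 : w ^ (3 : ℤ) = w * w * w := by
    rw [show (3 : ℤ) = ((3 : ℕ) : ℤ) from rfl, zpow_natCast, pow_succ, pow_two]
  have e2 : w ^ (2 : ℤ) = w * w := by
    rw [show (2 : ℤ) = ((2 : ℕ) : ℤ) from rfl, zpow_natCast, pow_two]
  have hw3 : Commute (w ^ (3 : ℤ)) t := by
    have : w ^ (3 : ℤ) * t * (w ^ (3 : ℤ))⁻¹ = t := by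
      calc w ^ (3 : ℤ) * t * (w ^ (3 : ℤ))⁻¹ = w * (w * (w * t * w⁻¹) * w⁻¹) * w⁻¹ := by
            rw [e3]; group
        _ = t := by rw [hw1, hws]
    calc w ^ (3 : ℤ) * t = w ^ (3 : ℤ) * t * (w ^ (3 : ℤ))⁻¹ * w ^ (3 : ℤ) := by group
      _ = t * w ^ (3 : ℤ) := by rw [this]
  let τ : ℤ → G := fun j => w ^ j * t * (w ^ j)⁻¹
  have hτ3 : ∀ q r : ℤ, τ (r + 3 * q) = τ r := by
    intro q r
    have h1 : Commute (w ^ (3 * q)) t := by
      rw [zpow_mul]; exact hw3.zpow_left q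
    change w ^ (r + 3 * q) * t * (w ^ (r + 3 * q))⁻¹ = w ^ r * t * (w ^ r)⁻¹
    rw [zpow_add]
    calc w ^ r * w ^ (3 * q) * t * (w ^ r * w ^ (3 * q))⁻¹ 
        = w ^ r * (w ^ (3 * q) * t) * (w ^ (3 * q))⁻¹ * (w ^ r)⁻¹ := by group
      _ = w ^ r * (t * w ^ (3 * q)) * (w ^ (3 * q))⁻¹ * (w ^ r)⁻¹ := by rw [h1.eq]
      _ = _ := by group
  have hτ0 : τ 0 = t := by change w ^ (0 : ℤ) * t * (w ^ (0 : ℤ))⁻¹ = t; group
  have hτ1 : τ 1 = w * t * w⁻¹ := by change w ^ (1 : ℤ) * t * (w ^ (1 : ℤ))⁻¹ = _; group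
  have hτ2 : τ 2 = s := by
    rw [← hw1]
    change w ^ (2 : ℤ) * t * (w ^ (2 : ℤ))⁻¹ = _
    rw [e2]; group
  have hcases : ∀ j : ℤ, (j % 3 = 0 ∧ τ j = t) ∨ (j % 3 = 1 ∧ τ j = w * t * w⁻¹) ∨ (j % 3 = 2 ∧ τ j = s) := by
    intro j
    have h1 : τ j = τ (j % 3) := by
      conv_lhs => rw [← Int.emod_add_mul_ediv j 3]
      exact hτ3 _ _
    have h2 : j % 3 = 0 ∨ j % 3 = 1 ∨ j % 3 = 2 := by omega
    rcases h2 with h | h | h
    · left; rw [h1, h]; exact ⟨rfl, hτ0⟩
    · right; left; rw [h1, h]; exact ⟨rfl, hτ1⟩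
    · right; right; rw [h1, h]; exact ⟨rfl, hτ2⟩
  have hτψ : ∀ (j : ℤ) a, ψ a * τ j * (ψ a)⁻¹ = τ j := by
    intro j a
    have c1 : ψ a * t = t * ψ a := (hta a).symm
    have c2 : ψ a * k = k * ψ a := (D.comm a).symm
    have c3 : ψ a * (t * k) = (t * k) * ψ a := (show Commute (ψ a) t from c1).mul_right c2
    have c4 : ψ a * τ j = τ j * ψ a := by
      rcases hcases j with ⟨-, h⟩ | ⟨-, h⟩ | ⟨-, h⟩ <;> rw [h]
      · exact c1
      · rcases hwt with h | h <;> rw [h]
        · exact c2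
        · exact c3
      · rcases hs with h | h <;> rw [h]
        · exact c2
        · exact c3
    rw [c4]; group
  set H : Subgroup G := closure (Set.range ψ ∪ {w}) with hH
  have hAH : ∀ a, ψ a ∈ H := fun a => subset_closure (Or.inl ⟨a, rfl⟩)
  have hwH : w ∈ H := subset_closure (Or.inr rfl)
  have key : ∀ h ∈ H, ∃ n : ℤ, ∀ j : ℤ, h * τ j * h⁻¹ = τ (n + j) := by
    intro h hh
    induction hh using closure_induction with
    | mem x hx =>
      rcases hx with ⟨a, rfl⟩ | hxw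
      · exact ⟨0, fun j => by rw [zero_add]; exact hτψ j a⟩
      · rw [Set.mem_singleton_iff.1 hxw]
        refine ⟨1, fun j => ?_⟩
        change w * (w ^ j * t * (w ^ j)⁻¹) * w⁻¹ = w ^ (1 + j) * t * (w ^ (1 + j))⁻¹
        rw [zpow_add, zpow_one]; group
    | one => exact ⟨0, fun j => by rw [zero_add]; group⟩
    | mul x y _ _ hx hy =>
      obtain ⟨n, hn⟩ := hx
      obtain ⟨m, hm⟩ := hy
      refine ⟨n + m, fun j => ?_⟩
      calc x * y * τ j * (x * y)⁻¹ = x * (y * τ j * y⁻¹) * x⁻¹ := by group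
        _ = τ (n + m + j) := by rw [hm, hn, add_assoc]
    | inv x _ hx =>
      obtain ⟨n, hn⟩ := hx
      refine ⟨-n, fun j => ?_⟩
      have h1 := hn (-n + j)
      rw [show n + (-n + j) = j by ring] at h1
      rw [← h1]; group
  have key2 : ∀ h ∈ H, (orderOf h).Coprime 3 → h * t = t * h := by
    intro h hh ho
    obtain ⟨n, hn⟩ := key h hh
    have hm : ∀ (m : ℕ) (j : ℤ), h ^ m * τ j * (h ^ m)⁻¹ = τ (m * n + j) := by
      intro m
      induction m with
      | zero => intro j; rw [Nat.cast_zero, zero_mul, zero_add, pow_zero]; group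
      | succ m ih =>
        intro j
        calc h ^ (m + 1) * τ j * (h ^ (m + 1))⁻¹ = h ^ m * (h * τ j * h⁻¹) * (h ^ m)⁻¹ := by
              rw [pow_succ]; group
          _ = τ ((m + 1 : ℕ) * n + j) := by
            rw [hn, ih]
            congr 1
            push_cast
            ring
    have h1 := hm (orderOf h) 0
    rw [pow_orderOf_eq_one, hτ0, one_mul, inv_one, mul_one, add_zero] at h1
    have h2 : ((orderOf h : ℤ) * n) % 3 = 0 := by
      rcases hcases ((orderOf h : ℤ) * n) with ⟨h3, -⟩ | ⟨-, h3⟩ | ⟨-, h3⟩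
      · exact h3
      · rw [← h1] at h3; exact absurd h3.symm ht1
      · rw [← h1] at h3; exact absurd h3.symm hst
    have h3 : (3 : ℤ) ∣ n := by
      have h4 : (3 : ℤ) ∣ (orderOf h : ℤ) * n := Int.dvd_of_emod_eq_zero h2
      have h5 : IsCoprime (3 : ℤ) (orderOf h : ℤ) := by
        rw [show (3 : ℤ) = ((3 : ℕ) : ℤ) from rfl, Nat.isCoprime_iff_coprime]
        exact ho.symm
      exact h5.dvd_of_dvd_mul_left h4
    have h4 := hn 0
    rw [add_zero, hτ0] at h4
    rcases hcases n with ⟨-, h5⟩ | ⟨h5, -⟩ | ⟨h5, -⟩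
    · rw [h5] at h4
      calc h * t = (h * t * h⁻¹) * h := by group
        _ = t * h := by rw [h4]
    · omega
    · omega
  obtain ⟨P⟩ : Nonempty (Sylow 3 H) := inferInstance
  have hPc : IsCyclic P := oddCyc_subgroup S.odd H 3 P Nat.prime_three (by norm_num)
  rcases Cfsg.Agent.S0082.result P hPc with hN | hR
  · rw [Cfsg.Agent.Transfer.FrobeniusFusion.hasNormalPComplement_iff_localCondition] at hN
    obtain ⟨s0, s00, s01, hs0⟩ := A5_inverted w0
    have e0 : ψ s0 * ψ w0 * (ψ s0)⁻¹ = (ψ w0)⁻¹ := by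
      rw [← map_inv, ← map_inv, ← map_mul, ← map_mul, inv_eq_of_mul_eq_one_right s00, hs0]
    have e1 : (⟨ψ s0, hAH s0⟩ : H) * ⟨ψ w0, hAH w0⟩ * (⟨ψ s0, hAH s0⟩ : H)⁻¹ = (⟨ψ w0, hAH w0⟩ : H)⁻¹ :=
      Subtype.ext e0
    have e3 : orderOf (⟨ψ w0, hAH w0⟩ : H) = 3 := by
      rw [Subgroup.orderOf_mk]
      refine orderOf_eq_prime (by rw [← map_pow, w0_three.1, map_one]) ?_
      intro h
      exact w0_three.2 (D.inj (by rw [h, map_one]))
    have e2 : orderOf (⟨ψ s0, hAH s0⟩ : H) = 2 := by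
      rw [Subgroup.orderOf_mk]
      refine orderOf_two (by rw [← map_mul, s00, map_one]) ?_
      intro h
      exact s01 (D.inj (by rw [h, map_one]))
    have hz := hN (zpowers (⟨ψ w0, hAH w0⟩ : H)) (IsPGroup.of_card (n := 1) (by
      rw [Nat.card_zpowers, e3, pow_one])) ⟨ψ s0, hAH s0⟩ (mem_normalizer_zpowers e1) (by
      rw [e2]; norm_num)
    have hz' := mem_centralizer_iff.1 hz _ (mem_zpowers (⟨ψ w0, hAH w0⟩ : H))
    have h6 : ψ w0 * ψ s0 = ψ s0 * ψ w0 := congrArg Subtype.val hz'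
    rw [← h6, mul_assoc, mul_inv_cancel, mul_one, ← map_inv] at e0
    have h7 : w0 = w0⁻¹ := D.inj e0
    have h8 : w0 ^ 3 = w0 := by
      calc w0 ^ 3 = w0 * w0 * w0 := by rw [pow_succ, pow_two]
        _ = w0 * w0⁻¹ * w0 := by rw [← h7]
        _ = w0 := by group
    rw [w0_three.1] at h8
    exact w0_three.2 h8.symm
  · have hle : Cfsg.pResidual 3 H ≤ (centralizer ({t} : Set G)).subgroupOf H := by
      rw [Cfsg.pResidual, closure_le]
      intro h hh
      have h1 := key2 h h.2 (by rw [Subgroup.orderOf_coe]; exact hh)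
      exact mem_subgroupOf.2 (mem_centralizer_singleton_iff.2 h1)
    rw [hR] at hle
    have h1 : (⟨w, hwH⟩ : H) ∈ (centralizer ({t} : Set G)).subgroupOf H := hle (mem_top _)
    have h2 : w * t = t * w := mem_centralizer_singleton_iff.1 (mem_subgroupOf.1 h1)
    apply ht1
    rw [h2]; group

/-- in the swap configuration there is a 2-element which centralises `ψ(w0)` and swaps `t` and `s` -/
theorem exists_w4 [Finite G] (S : Setup t Y K) {k v w s : G} {ψ : A5 →* G} (D : CentK K k ψ v)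
    (hs : s = k ∨ s = t * k) (hws : w * s * w⁻¹ = t) (hwt : w * t * w⁻¹ = s)
    (hwA : ∀ a, ∃ b, w * ψ a * w⁻¹ = ψ b) : 
    ∃ u : G, (∃ n, u ^ (2 ^ n) = 1) ∧ u * ψ w0 = ψ w0 * u ∧ u * t * u⁻¹ = s ∧ u * s * u⁻¹ = t := by
  obtain ⟨p, hp⟩ := hwA w0
  have hp3 : p ^ 3 = 1 := by
    apply D.inj
    rw [map_pow, ← hp, map_one]
    have : (w * ψ w0 * w⁻¹) ^ 3 = w * (ψ w0) ^ 3 * w⁻¹ := by
      rw [pow_succ, pow_two, pow_succ, pow_two]; group
    rw [this, ← map_pow, w0_three.1, map_one]; group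
  have hp1 : p ≠ 1 := by
    rintro rfl
    rw [map_one, conj_eq_one_iff] at hp
    exact w0_three.2 (D.inj (by rw [hp, map_one]))
  obtain ⟨h, hh⟩ := Cfsg.Agent.SporRec.J1.A5More.conj3 p ⟨hp3, hp1⟩
  have hta : ∀ a, t * ψ a = ψ a * t := fun a => S.tk (D.mem a)
  have hsa : ∀ a, s * ψ a = ψ a * s := by
    intro a
    rcases hs with rfl | rfl
    · exact D.comm a
    · exact ((show Commute t (ψ a) from hta a).mul_left (D.comm a)).eq
  set w1 := ψ h * w with hw1
  have a1 : w1 * ψ w0 * w1⁻¹ = ψ w0 := by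
    calc ψ h * w * ψ w0 * (ψ h * w)⁻¹ = ψ h * (w * ψ w0 * w⁻¹) * (ψ h)⁻¹ := by group
      _ = ψ w0 := by rw [hp, ← map_inv, ← map_mul, ← map_mul, hh]
  have a2 : w1 * t * w1⁻¹ = s := by
    calc ψ h * w * t * (ψ h * w)⁻¹ = ψ h * (w * t * w⁻¹) * (ψ h)⁻¹ := by group
      _ = (ψ h * s) * (ψ h)⁻¹ := by rw [hwt]
      _ = s := by rw [← hsa]; group
  have a3 : w1 * s * w1⁻¹ = t := by
    calc ψ h * w * s * (ψ h * w)⁻¹ = ψ h * (w * s * w⁻¹) * (ψ h)⁻¹ := by group
      _ = (ψ h * t) * (ψ h)⁻¹ := by rw [hws]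
      _ = t := by rw [← hta]; group
  clear_value w1
  have hodd : ∀ j : ℕ, w1 ^ (2 * j + 1) * t * (w1 ^ (2 * j + 1))⁻¹ = s ∧
      w1 ^ (2 * j + 1) * s * (w1 ^ (2 * j + 1))⁻¹ = t := by
    intro j
    induction j with
    | zero => rw [mul_zero, zero_add, pow_one]; exact ⟨a2, a3⟩
    | succ j ih =>
      have e : w1 ^ (2 * (j + 1) + 1) = w1 * w1 * w1 ^ (2 * j + 1) := by
        rw [show 2 * (j + 1) + 1 = (2 * j + 1) + 1 + 1 by ring, pow_succ' w1 (2 * j + 1 + 1),
          pow_succ' w1 (2 * j + 1), mul_assoc]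
      rw [e]
      constructor
      · calc w1 * w1 * w1 ^ (2 * j + 1) * t * (w1 * w1 * w1 ^ (2 * j + 1))⁻¹ 
            = w1 * (w1 * (w1 ^ (2 * j + 1) * t * (w1 ^ (2 * j + 1))⁻¹) * w1⁻¹) * w1⁻¹ := by group
          _ = s := by rw [ih.1, a3, a2]
      · calc w1 * w1 * w1 ^ (2 * j + 1) * s * (w1 * w1 * w1 ^ (2 * j + 1))⁻¹ 
            = w1 * (w1 * (w1 ^ (2 * j + 1) * s * (w1 ^ (2 * j + 1))⁻¹) * w1⁻¹) * w1⁻¹ := by group
          _ = t := by rw [ih.2, a2, a3]
  obtain ⟨n, m, hm, hnm⟩ := Nat.exists_eq_two_pow_mul_odd (n := orderOf w1) (orderOf_pos w1).ne'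
  obtain ⟨j, rfl⟩ := hm
  refine ⟨w1 ^ (2 * j + 1), ⟨n, ?_⟩, ?_, (hodd j).1, (hodd j).2⟩
  · rw [← pow_mul, mul_comm, ← hnm, pow_orderOf_eq_one]
  · have : Commute w1 (ψ w0) := by
      calc w1 * ψ w0 = (w1 * ψ w0 * w1⁻¹) * w1 := by group
        _ = ψ w0 * w1 := by rw [a1]
    exact (this.pow_left _).eq

/-- the swap configuration is impossible -/
theorem no_swap [Finite G] (S : Setup t Y K) {k v w s : G} {ψ : A5 →* G} (D : CentK K k ψ v)
    (hs : s = k ∨ s = t * k) (hws : w * s * w⁻¹ = t) (hwt : w * t * w⁻¹ = s)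
    (hwA : ∀ a, ∃ b, w * ψ a * w⁻¹ = ψ b) : False := by
  classical
  have hp2 : Fact (Nat.Prime 2) := ⟨Nat.prime_two⟩
  have hp3 : Fact (Nat.Prime 3) := ⟨Nat.prime_three⟩
  have hp5 : Fact (Nat.Prime 5) := ⟨Nat.prime_five⟩
  obtain ⟨u, ⟨nu, hu2⟩, hux, hut, hus⟩ := S.exists_w4 D hs hws hwt hwA
  have htk := S.tk D.kK
  have kk := sq_of_two D.k2
  have k1 : k ≠ 1 := ne_of_two D.k2
  have kt : k ≠ t := by
    intro h
    apply k1
    apply S.disj k ?_ D.kK
    rw [h]; exact S.tY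
  have hta : ∀ a, t * ψ a = ψ a * t := fun a => S.tk (D.mem a)
  set x := ψ w0 with hx
  have hx3 : orderOf x = 3 := by
    refine orderOf_eq_prime (by rw [hx, ← map_pow, w0_three.1, map_one]) ?_
    intro h
    exact w0_three.2 (D.inj (by rw [← hx, h, map_one]))
  obtain ⟨X, hX1, hX2, hX3⟩ := exists_centralizer_complement S.odd (by norm_num) hx3
  have htX : t ∈ X := hX3 t (hta w0) (by rw [S.t2]; norm_num)
  have hkX : k ∈ X := hX3 k (D.comm w0) (by rw [D.k2]; norm_num)
  have huX : u ∈ X := by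
    refine hX3 u hux ?_
    have h1 : orderOf u ∣ 2 ^ nu := orderOf_dvd_of_pow_eq_one hu2
    exact Nat.Coprime.coprime_dvd_left h1 (Nat.Coprime.pow_left nu (by norm_num))
  have hvX : v ∈ X := hX3 v D.vx (by rw [D.v5]; norm_num)
  -- the four-group
  have s2 : s * s = 1 := by
    rcases hs with rfl | rfl
    · exact kk
    · calc t * k * (t * k) = t * (k * t) * k := by group
        _ = t * t * (k * k) := by rw [← htk]; group
        _ = 1 := by rw [S.tt, kk, one_mul]
  set V : Subgroup G := zpowers t ⊔ zpowers k with hVdef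
  have htV : t ∈ V := mem_sup_left (mem_zpowers t)
  have hkV : k ∈ V := mem_sup_right (mem_zpowers k)
  have hsV : s ∈ V := by
    rcases hs with rfl | rfl
    · exact hkV
    · exact V.mul_mem htV hkV
  have hVcl : V = closure {t, k} := by
    rw [hVdef, zpowers_eq_closure, zpowers_eq_closure, ← Subgroup.closure_union]; rfl
  have hVlist : ∀ a ∈ V, a = 1 ∨ a = t ∨ a = k ∨ a = t * k := by
    intro a ha
    rw [hVcl] at ha
    induction ha using closure_induction with
    | mem y hy =>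
      rcases hy with rfl | rfl
      · tauto
      · tauto
    | one => tauto
    | mul y z _ _ hy hz =>
      have h1 : t * (t * k) = k := by rw [← mul_assoc, S.tt, one_mul]
      have h2 : k * (t * k) = t := by rw [htk, ← mul_assoc, kk, one_mul]
      have h3 : t * k * t = k := by rw [htk, mul_assoc, S.tt, mul_one]
      have h4 : t * k * k = t := by rw [mul_assoc, kk, mul_one]
      have h5 : t * k * (t * k) = 1 := by rw [← mul_assoc, h3, kk]
      rcases hy with rfl | rfl | rfl | rfl <;> rcases hz with rfl | rfl | rfl | rfl <;>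
        simp only [one_mul, mul_one, S.tt, kk, h1, h2, h3, h4, h5, ← htk] <;> tauto
    | inv y _ hy =>
      have ht' : t⁻¹ = t := inv_eq_of_mul_eq_one_right S.tt
      have hk' : k⁻¹ = k := inv_eq_of_mul_eq_one_right kk
      rcases hy with rfl | rfl | rfl | rfl
      · left; exact inv_one
      · right; left; exact ht'
      · right; right; left; exact hk'
      · right; right; right
        rw [mul_inv_rev, ht', hk', htk]
  have hVcomm : ∀ a ∈ V, ∀ b ∈ V, a * b = b * a := by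
    have c1 : Commute t k := htk
    intro a ha b hb
    rcases hVlist a ha with rfl | rfl | rfl | rfl <;> rcases hVlist b hb with rfl | rfl | rfl | rfl
    · rfl
    · exact Commute.one_left _
    · exact Commute.one_left _
    · exact Commute.one_left _
    · exact Commute.one_right _
    · rfl
    · exact c1
    · exact ((Commute.refl a).mul_right c1).eq
    · exact Commute.one_right _
    · exact c1.symm
    · rfl
    · exact (c1.symm.mul_right (Commute.refl _)).eq
    · exact Commute.one_right _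
    · exact ((Commute.refl b).mul_left c1.symm).eq
    · exact (c1.mul_left (Commute.refl _)).eq
    · rfl
  have hV2 : IsPGroup 2 V := by
    intro a
    refine ⟨1, Subtype.ext ?_⟩
    change (a : G) ^ (2 ^ 1) = 1
    rw [pow_one, pow_two]
    have h5 : t * k * (t * k) = 1 := by
      calc t * k * (t * k) = t * (k * t) * k := by group
        _ = t * t * (k * k) := by rw [← htk]; group
        _ = 1 := by rw [S.tt, kk, one_mul]
    rcases hVlist a a.2 with h | h | h | h <;> rw [h]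
    · rw [one_mul]
    · exact S.tt
    · exact kk
    · exact h5
  have hV4 : Nat.card V = 4 := by
    have h1 : 4 ∣ Nat.card V := four_dvd htV hkV S.tt kk htk S.t1 k1 kt.symm
    have h2 : Nat.card V ≤ 4 := by
      have h3 : (V : Set G) ⊆ (({1, t, k, t * k} : Finset G) : Set G) := by
        intro a ha
        simp only [Finset.coe_insert, Finset.coe_singleton, Set.mem_insert_iff, Set.mem_singleton_iff]
        exact hVlist a ha
      calc Nat.card V = (V : Set G).ncard := rfl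
        _ ≤ (({1, t, k, t * k} : Finset G) : Set G).ncard := Set.ncard_le_ncard h3 (Finset.finite_toSet _)
        _ = ({1, t, k, t * k} : Finset G).card := Set.ncard_coe_finset _
        _ ≤ 4 := Finset.card_le_four
    have h3 : 0 < Nat.card V := Nat.card_pos
    obtain ⟨c, hc⟩ := h1
    have : c = 1 := by
      rcases c with _ | _ | c
      · omega
      · rfl
      · omega
    omega
  -- the 2-group `Q = V⟨u⟩`
  set Q : Subgroup G := V ⊔ zpowers u with hQdef
  have huV : ∀ a ∈ V, u * a * u⁻¹ ∈ V := by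
    have e1 : u * t * u⁻¹ ∈ V := by rw [hut]; exact hsV
    have e2 : u * k * u⁻¹ ∈ V := by
      have : k ∈ closure {t, s} := by
        rcases hs with h | h
        · rw [h]; exact subset_closure (by simp)
        · have h1 : k = t * s := by rw [h, ← mul_assoc, S.tt, one_mul]
          rw [h1]
          exact mul_mem (subset_closure (by simp)) (subset_closure (by simp))
      rcases hs with h | h
      · rw [← h, hus]; exact htV
      · have h1 : k = t * s := by rw [h, ← mul_assoc, S.tt, one_mul]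
        have h2 : u * k * u⁻¹ = (u * t * u⁻¹) * (u * s * u⁻¹) := by rw [h1]; group
        rw [h2, hut, hus]
        exact V.mul_mem hsV htV
    intro a ha
    rcases hVlist a ha with rfl | rfl | rfl | rfl
    · rw [mul_one, mul_inv_cancel]; exact V.one_mem
    · exact e1
    · exact e2
    · have : u * (t * k) * u⁻¹ = (u * t * u⁻¹) * (u * k * u⁻¹) := by group
      rw [this]; exact V.mul_mem e1 e2
  have huN : u ∈ normalizer (V : Set G) := by
    have h1 : V.map (MulAut.conj u).toMonoidHom = V := by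
      apply Subgroup.eq_of_le_of_card_ge
      · rintro _ ⟨a, ha, rfl⟩
        exact huV a ha
      · rw [Subgroup.card_map_of_injective (MulAut.conj u).injective]
    rw [mem_normalizer_iff]
    intro a
    constructor
    · exact huV a
    · intro ha
      rw [← h1] at ha
      obtain ⟨b, hb, hab⟩ := ha
      have : b = a := (MulAut.conj u).injective hab
      rw [← this]; exact hb
  have hQ2 : IsPGroup 2 Q := by
    apply IsPGroup.to_sup_of_normal_left' hV2
    · intro a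
      obtain ⟨m, hm⟩ := mem_zpowers_iff.1 a.2
      refine ⟨nu, Subtype.ext ?_⟩
      change (a : G) ^ (2 ^ nu) = 1
      rw [← hm, ← zpow_natCast, ← zpow_mul, mul_comm, zpow_mul, zpow_natCast, hu2, one_zpow]
    · rwa [zpowers_le]
  have hVX : V ≤ X := sup_le (by rwa [zpowers_le]) (by rwa [zpowers_le])
  have hQX : Q ≤ X := sup_le hVX (by rwa [zpowers_le])
  have hVQ : V ≤ Q := le_sup_left
  have huQ : u ∈ Q := mem_sup_right (mem_zpowers u)
  have hst : s ≠ t := by
    rcases hs with rfl | rfl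
    · exact kt
    · intro h; exact k1 (mul_left_cancel (h.trans (mul_one t).symm))
  have hVneQ : V ≠ Q := by
    intro h
    have h1 : u ∈ V := by rw [h]; exact huQ
    apply hst
    rw [← hut, hVcomm u h1 t htV]; group
  -- the 2-elements of `C(V)`
  have hself : ∀ g ∈ X, (∀ a ∈ V, g * a = a * g) → (∃ n, g ^ (2 ^ n) = 1) → g ∈ V := by
    rintro g hg hgV ⟨n, hgn⟩
    obtain ⟨y, hy, c, hc, rfl⟩ := S.cover g (hgV t htV)
    obtain ⟨h1, h2⟩ := S.pow_eq hy hc hgn
    have hy' : y ∈ V := by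
      rcases S.y_two hy h1 with rfl | rfl
      · exact V.one_mem
      · exact htV
    have hck : c * k = k * c := by
      have h3 := hgV k hkV
      have h4 : y * (c * k) = y * (k * c) := by
        calc y * (c * k) = y * c * k := by group
          _ = k * (y * c) := h3
          _ = (k * y) * c := by group
          _ = (y * k) * c := by rw [S.comm y hy k D.kK]
          _ = y * (k * c) := by group
      exact mul_left_cancel h4
    have hcx : c * x = x * c := by
      have h3 := hX1 _ hg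
      have h4 : y * (c * x) = y * (x * c) := by
        calc y * (c * x) = y * c * x := by group
          _ = x * (y * c) := h3
          _ = (x * y) * c := by group
          _ = (y * x) * c := by rw [S.comm y hy x (D.mem w0)]
          _ = y * (x * c) := by group
      exact mul_left_cancel h4
    apply V.mul_mem hy'
    -- `c ∈ {1, k}`
    have hpow : ∀ a : A5, a * w0 = w0 * a → ∀ m : ℕ, a ^ (2 ^ m) = 1 → a = 1 := by
      intro a ha m hm
      have h3 := Cfsg.Agent.SporRec.J1.A5More.comm3 a ha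
      have h4 : orderOf a ∣ 3 := orderOf_dvd_of_pow_eq_one h3
      have h5 : orderOf a ∣ 2 ^ m := orderOf_dvd_of_pow_eq_one hm
      have h6 : Nat.Coprime 3 (2 ^ m) := Nat.Coprime.pow_right m (by norm_num)
      exact orderOf_eq_one_iff.1 (Nat.eq_one_of_dvd_coprimes h6 h4 h5)
    obtain ⟨a, ha | ha⟩ := D.cover c hc hck
    · have h3 : a * w0 = w0 * a := D.inj (by rw [map_mul, map_mul, ← ha]; exact hcx)
      have h4 := hpow a h3 n (D.inj (by rw [map_pow, ← ha, h2, map_one]))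
      rw [ha, h4, map_one]
      exact V.one_mem
    · have h3 : a * w0 = w0 * a := by
        apply D.inj
        rw [map_mul, map_mul]
        have h5 : k * (ψ a * ψ w0) = k * (ψ w0 * ψ a) := by
          calc k * (ψ a * ψ w0) = k * ψ a * ψ w0 := by group
            _ = c * x := by rw [ha]
            _ = x * c := hcx
            _ = (ψ w0 * k) * ψ a := by rw [ha, hx]; group
            _ = (k * ψ w0) * ψ a := by rw [D.comm w0]
            _ = _ := by group
        exact mul_left_cancel h5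
      have h4 : a ^ (2 ^ (n + 1)) = 1 := by
        apply D.inj
        rw [map_pow, map_one]
        have h5 : ψ a = k * c := by rw [ha, ← mul_assoc, kk, one_mul]
        have h6 : Commute k c := hck.symm
        rw [h5, h6.mul_pow, pow_succ, mul_comm (2 ^ n) 2, pow_mul k, pow_two, kk, one_pow, mul_comm 2, pow_mul c, h2,
          one_pow, one_mul]
      have h5 := hpow a h3 _ h4
      rw [ha, h5, map_one, mul_one]
      exact hkV
  obtain ⟨O, hO1, hO2, hO3, hO4⟩ := exists_odd_complement hX2 hQ2 hQX hVQ hV4 hVneQ hVcomm hself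
  have hvO : v ∈ O := hO4 v hvX (by rw [D.v5]; norm_num)
  -- the invariant Sylow 5-subgroups
  obtain ⟨P, hPs, hPQ⟩ := Cfsg.Agent.Lib.PGroupCoprimeAction.exists_invariant_sylow hQ2 hO2
    (fun b hb u hu => hO3 b (hQX hb) u hu) 5
  have hT2 : IsPGroup 2 (zpowers t) := IsPGroup.of_card (n := 1) (by
    rw [Nat.card_zpowers, S.t2, pow_one])
  have hTX : zpowers t ≤ X := by rwa [zpowers_le]
  have htQ : t ∈ Q := hVQ htV
  have htv : t * v = v * t := S.tk D.vK
  obtain ⟨R, hRs, hRT, hRv⟩ := Cfsg.Agent.Lib.PGroupCoprimeAction.exists_invariant_sylow_ge hT2 hO2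
    (fun b hb u hu => hO3 b (hTX hb) u hu) (q := 5) (R := zpowers v) (by rwa [zpowers_le])
    (IsPGroup.of_card (n := 1) (by rw [Nat.card_zpowers, D.v5, pow_one]))
    (by
      intro b hb r hr
      obtain ⟨i, rfl⟩ := mem_zpowers_iff.1 hb
      obtain ⟨j, rfl⟩ := mem_zpowers_iff.1 hr
      have h1 : Commute (t ^ i) (v ^ j) := (show Commute t v from htv).zpow_zpow i j
      rw [h1.eq, mul_inv_cancel_right]
      exact zpow_mem (mem_zpowers v) j)
  obtain ⟨c, ⟨hcO, hct⟩, hcR⟩ := Cfsg.Agent.Lib.PGroupCoprimeAction.exists_centralizer_conj hT2 hO2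
    (fun b hb u hu => hO3 b (hTX hb) u hu) hRs hPs hRT
    (fun b hb u hu => hPQ b (by
      have : zpowers t ≤ Q := by rwa [zpowers_le]
      exact this hb) u hu)
  -- `v ∈ P`
  have hvP : v ∈ P := by
    have h1 : c * v * c⁻¹ ∈ P := by
      rw [← hcR]
      exact ⟨v, hRv (mem_zpowers v), rfl⟩
    have hct' : c * t = t * c := (mem_centralizer_iff.1 hct t (mem_zpowers t)).symm
    have hcx : c * x = x * c := hX1 c (hO1 hcO)
    obtain ⟨y, hy, κ, hκ, rfl⟩ := S.cover c hct'
    have hκx : κ * x = x * κ := by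
      have h4 : y * (κ * x) = y * (x * κ) := by
        calc y * (κ * x) = y * κ * x := by group
          _ = x * (y * κ) := hcx
          _ = (x * y) * κ := by group
          _ = (y * x) * κ := by rw [S.comm y hy x (D.mem w0)]
          _ = y * (x * κ) := by group
      exact mul_left_cancel h4
    have h2 : y * κ * v * (y * κ)⁻¹ = y * (κ * v * κ⁻¹) * y⁻¹ := by group
    rcases D.cov κ hκ hκx with h3 | h3
    · rw [h2, h3, S.comm y hy v D.vK, mul_inv_cancel_right] at h1
      exact h1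
    · rw [h2, h3, S.comm y hy v⁻¹ (K.inv_mem D.vK), mul_inv_cancel_right] at h1
      exact inv_mem_iff.1 h1
  have hP5 : IsPGroup 5 P := by
    obtain ⟨T, rfl⟩ := hPs
    exact T.2.map _
  have hPc : IsCyclic P := isCyclic_of_isPGroup S.odd Nat.prime_five (by norm_num) hP5
  have hPcomm : ∀ a ∈ P, ∀ b ∈ P, a * b = b * a := by
    intro a ha b hb
    obtain ⟨z, hz⟩ := hPc.exists_generator
    obtain ⟨i, hi⟩ := mem_zpowers_iff.1 (hz ⟨a, ha⟩)
    obtain ⟨j, hj⟩ := mem_zpowers_iff.1 (hz ⟨b, hb⟩)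
    have h1 : (⟨a, ha⟩ : P) * ⟨b, hb⟩ = ⟨b, hb⟩ * ⟨a, ha⟩ := by
      rw [← hi, ← hj, ← zpow_add, ← zpow_add, add_comm]
    exact congrArg Subtype.val h1
  -- `u⁻¹ v u` is a power of `v`
  have hvu : u⁻¹ * v * u ∈ P := by
    have := hPQ u⁻¹ (Q.inv_mem huQ) v hvP
    rwa [inv_inv] at this
  have hvu5 : orderOf (u⁻¹ * v * u) = 5 := by
    have : u⁻¹ * v * u = MulAut.conj u⁻¹ v := by rw [MulAut.conj_apply, inv_inv]
    rw [this, MulEquiv.orderOf_eq, D.v5]
  have hz := zpowers_eq_of_commute S.odd Nat.prime_five (by norm_num) hvu5 D.v5 (hPcomm _ hvu _ hvP)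
  have hmem : u⁻¹ * v * u ∈ zpowers v := by rw [← hz]; exact mem_zpowers _
  obtain ⟨m, hm⟩ := mem_zpowers_iff.1 hmem
  have htm : t * v ^ m * t⁻¹ = v ^ m := by
    rw [((show Commute t v from htv).zpow_right m).eq, mul_inv_cancel_right]
  -- `s t` centralises `v`
  have hsv : s * v * s⁻¹ = v := by
    calc s * v * s⁻¹ = (u * t * u⁻¹) * v * (u * t * u⁻¹)⁻¹ := by rw [hut]
      _ = u * (t * (u⁻¹ * v * u) * t⁻¹) * u⁻¹ := by group
      _ = u * (u⁻¹ * v * u) * u⁻¹ := by rw [← hm, htm]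
      _ = v := by group
  -- but `s` inverts `v`
  have hsv' : s * v * s⁻¹ = v⁻¹ := by
    rcases hs with rfl | rfl
    · exact D.kv
    · calc t * k * v * (t * k)⁻¹ = t * (k * v * k⁻¹) * t⁻¹ := by group
        _ = t * v⁻¹ * t⁻¹ := by rw [D.kv]
        _ = v⁻¹ := by rw [((show Commute t v from htv).inv_right).eq, mul_inv_cancel_right]
  have h2 : v = v⁻¹ := hsv.symm.trans hsv'
  have h3 : v ^ 2 = 1 := by
    rw [pow_two]
    calc v * v = v * v⁻¹ := by rw [← h2]
      _ = 1 := mul_inv_cancel v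
  have h4 : orderOf v ∣ 2 := orderOf_dvd_of_pow_eq_one h3
  rw [D.v5] at h4
  norm_num at h4

end Setup

/-- **The component case `J₁` of S0342.** -/
theorem no_JOne [Finite G] {t : G} {Y K : Subgroup G} (S : Setup t Y K)
    (h : ∃ g : G, (g * t * g⁻¹) * t = t * (g * t * g⁻¹) ∧ g * t * g⁻¹ ≠ t) : False := by
  obtain ⟨g, hg, hgt⟩ := h
  obtain ⟨k, v, ψ, w, s, D, hs, hws, hwt, hwA⟩ := S.exists_config g hg hgt
  by_cases hne : w * t * w⁻¹ = s
  · exact S.no_swap D hs hws hne hwA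
  · exact S.no_three_cycle D hs hws hwt hne

end Cfsg.Agent.OddCyclic.CompJOne
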