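import Mathlib
import Cfsg.Agent.OddCyclic.CompStandard
import Cfsg.Agent.OddCyclic.CompJOne
import Cfsg.Agent.OddCyclic.JInner

/-!
# Component case D (`K` of type `J₁`) of S0342

`false_of_JOne`: in a finite simple group with cyclic odd Sylow subgroups and without strongly embedded
subgroup, the standard component `K` (of `CompStandard`) has not the local structure of `J₁`.
-/

set_option autoImplicit false

namespace Cfsg.Agent.OddCyclic.CompJOneFinal

open Subgroup Cfsg.Agent.OddCyclic.T1Defs Cfsg.Agent.OddCyclic.CompBasic Cfsg.Agent.OddCyclic.CompStandard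
open Cfsg.Agent.OddCyclic.CompJOneTools Cfsg.Agent.OddCyclic.CompJOne
open Cfsg.Agent.SporRec.J1.Defs Cfsg.Agent.SporRec.J1.CentFacts Cfsg.Agent.SporRec.J1.Pair
open Cfsg.Agent.SporRec.J1.A5More (w0)

theorem card_A5 : Nat.card A5 = 60 := by
  have := two_mul_nat_card_alternatingGroup (α := Fin 5)
  rw [Nat.card_perm, Nat.card_fin] at this
  have h5 : Nat.factorial 5 = 120 := by decide
  rw [h5] at this
  have h2 : Nat.card (alternatingGroup (Fin 5)) = 60 := by omega
  exact h2

/-- `C_J(A_k) = ⟨k⟩` -/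
theorem cent_A {J : Type*} [Group J] [Finite J] (h : Local J) {k : J} (hk : orderOf k = 2) {φ : A5 →* J}
    (D : CentData k φ) {c : J} (hc : ∀ a, c * φ a = φ a * c) : c = 1 ∨ c = k := by
  have hp3 : Fact (Nat.Prime 3) := ⟨Nat.prime_three⟩
  have hp5 : Fact (Nat.Prime 5) := ⟨Nat.prime_five⟩
  -- no element of order 3 or 5 commutes with `A_k`
  have key : ∀ d : J, (orderOf d = 3 ∨ orderOf d = 5) → ¬ ∀ a, d * φ a = φ a * d := by
    intro d hd hda
    have h30 : Nat.card (centralizer ({d} : Set J)) = 30 := by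
      rcases hd with h1 | h1
      · exact h.cent3 d h1
      · exact h.cent5 d h1
    have hle : φ.range ≤ centralizer ({d} : Set J) := by
      rintro _ ⟨a, rfl⟩
      exact mem_centralizer_singleton_iff.2 (hda a).symm
    have h60 : Nat.card φ.range = 60 := by
      rw [← card_A5]
      exact (Nat.card_congr (MonoidHom.ofInjective D.inj).toEquiv).symm
    have h1 := card_dvd_of_le hle
    rw [h60, h30] at h1
    norm_num at h1
  obtain ⟨v, P⟩ := exists_pd3 h hk D
  obtain ⟨i, j, hij⟩ := P.cover' (hc w0)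
  have hkk := sq_of_two hk
  -- `x^i v^j` commutes with `A_k`
  have hd : ∀ a, (φ w0 ^ i * v ^ j) * φ a = φ a * (φ w0 ^ i * v ^ j) := by
    intro a
    rcases hij with h1 | h1
    · rw [← h1]; exact hc a
    · have h2 : φ w0 ^ i * v ^ j = c * k := by rw [h1, mul_assoc, hkk, mul_one]
      rw [h2]
      exact ((show Commute c (φ a) from hc a).mul_left (D.comm a)).eq
  have hcomm : Commute (φ w0 ^ i) (v ^ j) := ((show Commute v (φ w0) from P.xy).zpow_zpow j i).symm
  have hd1 : φ w0 ^ i * v ^ j = 1 := by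
    by_contra hne
    by_cases h3 : (φ w0 ^ i * v ^ j) ^ 3 = 1
    · exact key _ (Or.inl (orderOf_eq_prime h3 hne)) hd
    · apply key ((φ w0 ^ i * v ^ j) ^ 3) (Or.inr (orderOf_eq_prime ?_ h3))
      · intro a
        exact ((show Commute (φ w0 ^ i * v ^ j) (φ a) from hd a).pow_left 3).eq
      · have e1 : (φ w0 ^ i) ^ 3 = 1 := by
          rw [← zpow_natCast, ← zpow_mul, mul_comm, zpow_mul, zpow_natCast]
          have : (φ w0) ^ 3 = 1 := by rw [← map_pow, w0_three.1, map_one]
          rw [this, one_zpow]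
        have e2 : (v ^ j) ^ 5 = 1 := by
          rw [← zpow_natCast, ← zpow_mul, mul_comm, zpow_mul, zpow_natCast]
          have : v ^ 5 = 1 := by rw [← P.yq, pow_orderOf_eq_one]
          rw [this, one_zpow]
        rw [hcomm.mul_pow, e1, one_mul, ← pow_mul, mul_comm, pow_mul, e2, one_pow]
  rcases hij with h1 | h1
  · left; rw [h1, hd1]
  · right; rw [h1, hd1, one_mul]

/-- the centre is trivial -/
theorem center_trivial {J : Type*} [Group J] [Finite J] (h : Local J) {k : J} (hk : orderOf k = 2) {c : J}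
    (hc : ∀ a, c * a = a * c) : c = 1 := by
  obtain ⟨φ, D⟩ := exists_centData k hk (h.cent k hk)
  rcases cent_A h hk D (fun a => hc (φ a)) with h1 | h1
  · exact h1
  · exfalso
    obtain ⟨v, P⟩ := exists_pd3 h hk D
    have h2 := P.inv
    rw [← h1, hc v, mul_inv_cancel_right] at h2
    have h3 : v ^ 2 = 1 := by
      rw [pow_two]
      calc v * v = v * v⁻¹ := by rw [← h2]
        _ = 1 := mul_inv_cancel v
    have h4 : orderOf v ∣ 2 := orderOf_dvd_of_pow_eq_one h3
    rw [P.yq] at h4
    norm_num at h4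

variable {G : Type*} [Group G] [Finite G] {K : Subgroup G}

/-- `K ∩ C(K) = 1` -/
theorem disj (hloc : Local K) (hk : ∃ k : K, orderOf k = 2) {x : G} (hxY : x ∈ centralizer (K : Set G))
    (hxK : x ∈ K) : x = 1 := by
  obtain ⟨k, hk⟩ := hk
  have h1 : (⟨x, hxK⟩ : K) = 1 := by
    apply center_trivial hloc hk
    intro a
    exact Subtype.ext (mem_centralizer_iff.1 hxY a a.2).symm
  exact congrArg Subtype.val h1

/-- `N(K) = C(K) K` -/
theorem cover (hloc : Local K) (hk : ∃ k : K, orderOf k = 2) {m : G} (hm : m ∈ normalizer (K : Set G)) :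
    ∃ y ∈ centralizer (K : Set G), ∃ k ∈ K, m = y * k := by
  obtain ⟨k, hk⟩ := hk
  obtain ⟨⟨c, hcK⟩, hc⟩ := Cfsg.Agent.OddCyclic.JInner.inner hloc k hk (K.normalizerMonoidHom ⟨m, hm⟩)
  have hc' : ∀ x ∈ K, m * x * m⁻¹ = c * x * c⁻¹ := fun x hx => congrArg Subtype.val (hc ⟨x, hx⟩)
  have hy : c⁻¹ * m ∈ centralizer (K : Set G) := by
    rw [mem_centralizer_iff]
    intro x hx
    have h1 := hc' x hx
    calc x * (c⁻¹ * m) = c⁻¹ * (c * x * c⁻¹) * m := by group
      _ = c⁻¹ * (m * x * m⁻¹) * m := by rw [h1]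
      _ = c⁻¹ * m * x := by group
  refine ⟨c⁻¹ * m, hy, c, hcK, ?_⟩
  rw [← mem_centralizer_iff.1 hy c hcK]; group

/-- Claim W: 2-subgroups of `C(K)^g ∩ N(K)` have order at most two. -/
theorem card_le_two (h : Std 3 K) (hloc : Local K) (hk : ∃ k : K, orderOf k = 2) {g : G}
    (hg : g ∉ normalizer (K : Set G)) {A : Subgroup G} (hA : IsPGroup 2 A)
    (hAY : A ≤ cj g (centralizer (K : Set G))) (hAM : A ≤ normalizer (K : Set G)) : Nat.card A ≤ 2 := by
  classical
  have hp2 : Fact (Nat.Prime 2) := ⟨Nat.prime_two⟩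
  by_cases hA1 : A = ⊥
  · rw [hA1, Subgroup.card_bot]; norm_num
  -- an involution
  obtain ⟨a, haA, ha⟩ : ∃ a ∈ A, orderOf a = 2 := by
    obtain ⟨n, hn0, hn⟩ := hA.nontrivial_iff_card.mp ((Subgroup.nontrivial_iff_ne_bot _).mpr hA1)
    exact exists_involution (H := A) (by rw [hn]; exact (Nat.even_pow.mpr ⟨even_two, Nat.pos_iff_ne_zero.mp hn0⟩))
  have haY : a ∉ centralizer (K : Set G) := fun haY => hg (h.mem_of_involution ha haY (hAY haA))
  obtain ⟨y, hy, k, hkK, hyk⟩ := cover hloc hk (hAM haA)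
  have hcyk : Commute y k := (mem_centralizer_iff.1 hy k hkK).symm
  have haa := sq_of_two ha
  have hkk : k * k = 1 := by
    have h1 : y * y * (k * k) = 1 := by
      calc y * y * (k * k) = y * (y * k) * k := by group
        _ = y * (k * y) * k := by rw [hcyk.eq]
        _ = (y * k) * (y * k) := by group
        _ = 1 := by rw [← hyk, haa]
    have h2 : k * k = (y * y)⁻¹ := eq_inv_of_mul_eq_one_right h1
    apply disj hloc hk _ (K.mul_mem hkK hkK)
    rw [h2]
    exact inv_mem (mul_mem hy hy)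
  have hk1 : k ≠ 1 := by
    rintro rfl
    rw [mul_one] at hyk
    exact haY (hyk ▸ hy)
  have hk2 : orderOf (⟨k, hkK⟩ : K) = 2 := by
    rw [Subgroup.orderOf_mk]; exact orderOf_two hkk hk1
  obtain ⟨φ, D⟩ := exists_centData (⟨k, hkK⟩ : K) hk2 (hloc.cent _ hk2)
  have hCa := h.centralizer_le_cj ha (hAY haA)
  -- `A_k ≤ C(a) ≤ N(K)^g`
  have haφ : ∀ b : A5, ((φ b : K) : G) * a = a * (φ b : K) := by
    intro b
    have c1 : Commute ((φ b : K) : G) y := mem_centralizer_iff.1 hy _ (φ b).2
    have c2 : Commute ((φ b : K) : G) k := (congrArg Subtype.val (D.comm b)).symm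
    rw [hyk]
    exact (c1.mul_right c2).eq
  -- `C(K)^g` commutes with `A_k`
  have hcomm3 : ∀ b : A5, b ^ 3 = 1 → ∀ z ∈ cj g (centralizer (K : Set G)), ((φ b : K) : G) * z = z * (φ b : K) := by
    intro b hb z hz
    by_cases hb1 : b = 1
    · rw [hb1, map_one]; simp
    have hp3 : Fact (Nat.Prime 3) := ⟨Nat.prime_three⟩
    have ho : orderOf ((φ b : K) : G) = 3 := by
      rw [Subgroup.orderOf_coe]
      refine orderOf_eq_prime (by rw [← map_pow, hb, map_one]) ?_
      intro h1
      exact hb1 (D.inj (by rw [h1, map_one]))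
    exact h.commute_of_dvd g Nat.prime_three (by norm_num) h.dvd
      (hCa (mem_centralizer_singleton_iff.2 (haφ b))) ho hz
  have hcomm : ∀ b : A5, ∀ z ∈ cj g (centralizer (K : Set G)), ((φ b : K) : G) * z = z * (φ b : K) := by
    intro b z hz
    obtain ⟨c, hc1, hc2⟩ := prod_three b
    have c1 : Commute ((φ c : K) : G) z := hcomm3 c hc1 z hz
    have c2 : Commute ((φ (c⁻¹ * b) : K) : G) z := hcomm3 _ hc2 z hz
    have c3 := c1.mul_left c2
    have : ((φ c : K) : G) * ((φ (c⁻¹ * b) : K) : G) = ((φ b : K) : G) := by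
      rw [← Subgroup.coe_mul, ← map_mul, mul_inv_cancel_left]
    rw [this] at c3
    exact c3.eq
  -- every element of `A` lies in `Y ⟨k⟩`
  have hlist : ∀ z ∈ A, z ∈ centralizer (K : Set G) ∨ z * k ∈ centralizer (K : Set G) := by
    intro z hz
    obtain ⟨y', hy', k', hk', hz'⟩ := cover hloc hk (hAM hz)
    have h1 : (⟨k', hk'⟩ : K) = 1 ∨ (⟨k', hk'⟩ : K) = ⟨k, hkK⟩ := by
      apply cent_A hloc hk2 D
      intro b
      apply Subtype.ext
      change k' * (φ b : K) = (φ b : K) * k'
      have h2 := hcomm b z (hAY hz)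
      have h3 : k' = y'⁻¹ * z := by rw [hz']; group
      have h4 : Commute ((φ b : K) : G) y'⁻¹ := mem_centralizer_iff.1 (inv_mem hy') _ (φ b).2
      rw [h3]
      exact (h4.mul_right h2).eq.symm
    rcases h1 with h1 | h1
    · left
      have h2 : k' = 1 := congrArg Subtype.val h1
      rw [hz', h2, mul_one]; exact hy'
    · right
      have h2 : k' = k := congrArg Subtype.val h1
      rw [hz', h2, mul_assoc, hkk, mul_one]; exact hy'
  have hbot : ∀ z ∈ A, z ∈ centralizer (K : Set G) → z = 1 := by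
    intro z hz hzY
    have h1 := h.inf_eq_bot hg hA hAY
    have h2 : z ∈ A ⊓ centralizer (K : Set G) := ⟨hz, hzY⟩
    rw [h1] at h2
    exact h2
  have hset : (A : Set G) ⊆ (({1, a} : Finset G) : Set G) := by
    intro z hz
    simp only [Finset.coe_insert, Finset.coe_singleton, Set.mem_insert_iff, Set.mem_singleton_iff]
    rcases hlist z hz with h1 | h1
    · left; exact hbot z hz h1
    · right
      have h2 : z * a ∈ centralizer (K : Set G) := by
        have h3 : z * a = (z * k) * y := by rw [hyk, hcyk.eq]; group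
        rw [h3]; exact mul_mem h1 hy
      have h3 := hbot _ (A.mul_mem hz haA) h2
      calc z = z * a * a := by rw [mul_assoc, haa, mul_one]
        _ = a := by rw [h3, one_mul]
  calc Nat.card A = (A : Set G).ncard := rfl
    _ ≤ (({1, a} : Finset G) : Set G).ncard := Set.ncard_le_ncard hset (Finset.finite_toSet _)
    _ = ({1, a} : Finset G).card := Set.ncard_coe_finset _
    _ ≤ 2 := Finset.card_le_two

/-- **Component case D of S0342.** -/
theorem false_of_JOne [IsSimpleGroup G] (h : Std 3 K) (hloc : Local K) (hk : ∃ k : K, orderOf k = 2)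
    (hA : ∀ M : Subgroup G, M ≠ ⊤ → ∀ z : G, orderOf z = 2 → z ∈ M →
      (∃ S : Sylow 2 G, z ∈ S ∧ ∀ s ∈ S, Commute s z) → (∀ g : G, g * z * g⁻¹ ∈ M → g ∈ M) →
      (∀ g : G, Commute z (g * z * g⁻¹) → g * z * g⁻¹ ≠ z →
        centralizer ({z * (g * z * g⁻¹)} : Set G) ≤ M) → ∃ H : Subgroup G, Cfsg.IsStronglyEmbedded H)
    (hSE : ¬ ∃ H : Subgroup G, Cfsg.IsStronglyEmbedded H) : False := by
  classical
  have hp2 : Fact (Nat.Prime 2) := ⟨Nat.prime_two⟩
  obtain ⟨g, hg, heven⟩ := h.exists_even hA hSE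
  obtain ⟨a, haW, ha⟩ := exists_involution heven
  have haYg : a ∈ cj g (centralizer (K : Set G)) := haW.1
  have haM : a ∈ normalizer (K : Set G) := haW.2
  have haY : a ∉ centralizer (K : Set G) := fun haY => hg (h.mem_of_involution ha haY haYg)
  obtain ⟨y, hy, k, hkK, hyk⟩ := cover hloc hk haM
  have hcyk : Commute y k := (mem_centralizer_iff.1 hy k hkK).symm
  have haa := sq_of_two ha
  have h1 : y * y * (k * k) = 1 := by
    calc y * y * (k * k) = y * (y * k) * k := by group
      _ = y * (k * y) * k := by rw [hcyk.eq]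
      _ = (y * k) * (y * k) := by group
      _ = 1 := by rw [← hyk, haa]
  have hkk : k * k = 1 := by
    have h2 : k * k = (y * y)⁻¹ := eq_inv_of_mul_eq_one_right h1
    apply disj hloc hk _ (K.mul_mem hkK hkK)
    rw [h2]
    exact inv_mem (mul_mem hy hy)
  have hyy : y * y = 1 := by rwa [hkk, mul_one] at h1
  have hg' : g⁻¹ ∉ normalizer (K : Set G) := fun hn => hg (inv_mem_iff.1 hn)
  -- 2-subgroups of `C_Y(y)` have order at most 2
  have hCy : ∀ B : Subgroup G, IsPGroup 2 B → B ≤ centralizer (K : Set G) → (∀ b ∈ B, b * y = y * b) →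
      Nat.card B ≤ 2 := by
    intro B hB hBY hBy
    rw [← card_cj g⁻¹ B]
    apply card_le_two h hloc hk hg'
    · exact hB.map _
    · exact cj_mono hBY
    · intro z hz
      rw [mem_cj, inv_inv] at hz
      have h2 : g * z * g⁻¹ ∈ centralizer ({a} : Set G) := by
        rw [mem_centralizer_singleton_iff, hyk]
        have c1 : Commute (g * z * g⁻¹) y := hBy _ hz
        have c2 : Commute (g * z * g⁻¹) k := (mem_centralizer_iff.1 (hBY hz) k hkK).symm
        exact (c1.mul_right c2).eq
      have h3 := h.centralizer_le_cj ha haYg h2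
      rw [mem_cj] at h3
      have h4 : g⁻¹ * (g * z * g⁻¹) * g = z := by group
      rwa [h4] at h3
  -- an involution `t` of `Y` commuting with `y`
  obtain ⟨t0, ht0, hKt0⟩ := h.ex
  have ht0Y := mem_centralizer_of_cmp hKt0
  have hfour : ¬ 4 ∣ Nat.card (centralizer (K : Set G)) := by
    intro h4
    have hpy : IsPGroup 2 (zpowers (⟨y, hy⟩ : centralizer (K : Set G))) := by
      intro b
      obtain ⟨m, hm⟩ := mem_zpowers_iff.1 b.2
      refine ⟨1, Subtype.ext ?_⟩
      change (b : centralizer (K : Set G)) ^ (2 ^ 1) = 1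
      have e : (⟨y, hy⟩ : centralizer (K : Set G)) ^ 2 = 1 := Subtype.ext (by
        change y ^ 2 = 1
        rw [pow_two, hyy])
      rw [← hm, pow_one, ← zpow_natCast, ← zpow_mul, mul_comm, zpow_mul, zpow_natCast, e, one_zpow]
    obtain ⟨P, hP⟩ := hpy.exists_le_sylow
    have hyP : (⟨y, hy⟩ : centralizer (K : Set G)) ∈ P := hP (mem_zpowers _)
    have hP4 : 4 ∣ Nat.card P := by
      have := P.pow_dvd_card_of_pow_dvd_card (n := 2) (by norm_num; exact h4)
      simpa using this
    set B : Subgroup G := (P : Subgroup (centralizer (K : Set G))).map (centralizer (K : Set G)).subtype with hB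
    have hB2 : IsPGroup 2 B := P.2.map _
    have hBY : B ≤ centralizer (K : Set G) := Subgroup.map_subtype_le _
    have hB4 : 4 ∣ Nat.card B := by
      rw [hB, Subgroup.card_map_of_injective (subtype_injective _)]; exact hP4
    have hyB : y ∈ B := ⟨_, hyP, rfl⟩
    -- a central involution of `P`
    have hnt : Nontrivial P := by
      rw [← Finite.one_lt_card_iff_nontrivial]
      have := Nat.le_of_dvd Nat.card_pos hP4
      omega
    have hPp : IsPGroup 2 P := P.2
    have hcen : Nontrivial (center P) := hPp.center_nontrivial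
    obtain ⟨n, hn0, hn⟩ := (hPp.to_subgroup (center P)).nontrivial_iff_card.mp hcen
    obtain ⟨z, hz, hz2⟩ := exists_involution (H := center P) (by
      rw [hn]; exact (Nat.even_pow.mpr ⟨even_two, Nat.pos_iff_ne_zero.mp hn0⟩))
    have hzc : ∀ b ∈ B, b * ((z : centralizer (K : Set G)) : G) = ((z : centralizer (K : Set G)) : G) * b := by
      rintro _ ⟨b, hb, rfl⟩
      have h2 := mem_center_iff.1 hz ⟨b, hb⟩
      exact congrArg (fun w : P => (((w : centralizer (K : Set G)) : G))) h2
    set z' : G := ((z : centralizer (K : Set G)) : G) with hz'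
    have hz'2 : orderOf z' = 2 := by rw [hz', Subgroup.orderOf_coe, Subgroup.orderOf_coe]; exact hz2
    have hzB : z' ∈ B := ⟨_, z.2, rfl⟩
    have hyz : y = 1 ∨ y = z' := by
      by_contra hne
      push Not at hne
      set C : Subgroup G := zpowers z' ⊔ zpowers y with hC
      have hCB : C ≤ B := sup_le (by rwa [zpowers_le]) (by rwa [zpowers_le])
      have hCc : C ≤ centralizer ({y} : Set G) := by
        apply sup_le
        · rw [zpowers_le, mem_centralizer_singleton_iff]
          exact (hzc y hyB).symm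
        · rw [zpowers_le, mem_centralizer_singleton_iff]
      have h2 := hCy C (hB2.to_le hCB) (hCB.trans hBY) (fun b hb => mem_centralizer_singleton_iff.1 (hCc hb))
      have h3 : 4 ∣ Nat.card C := four_dvd (mem_sup_left (mem_zpowers z')) (mem_sup_right (mem_zpowers y))
        (sq_of_two hz'2) hyy (hzc y hyB).symm (ne_of_two hz'2) hne.1 (fun h => hne.2 h.symm)
      have h4 := Nat.le_of_dvd Nat.card_pos h3
      omega
    have hBy : ∀ b ∈ B, b * y = y * b := by
      intro b hb
      rcases hyz with h2 | h2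
      · rw [h2, one_mul, mul_one]
      · rw [h2]; exact hzc b hb
    have h2 := hCy B hB2 hBY hBy
    have h3 := Nat.le_of_dvd Nat.card_pos hB4
    omega
  obtain ⟨t, htY, ht2, hty⟩ : ∃ t ∈ centralizer (K : Set G), orderOf t = 2 ∧ y * t = t * y := by
    by_cases hy1 : y = 1
    · exact ⟨t0, ht0Y, ht0, by rw [hy1, one_mul, mul_one]⟩
    · exact ⟨y, hy, orderOf_two hyy hy1, rfl⟩
  -- `g⁻¹ a g` is conjugate to `t` in `Y`
  have hy0 : g⁻¹ * a * g ∈ centralizer (K : Set G) := mem_cj.1 haYg
  have hy02 : orderOf (⟨g⁻¹ * a * g, hy0⟩ : centralizer (K : Set G)) = 2 := by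
    rw [Subgroup.orderOf_mk]
    have := orderOf_conj g⁻¹ a
    rw [inv_inv] at this
    rw [this, ha]
  have htp : orderOf (⟨t, htY⟩ : centralizer (K : Set G)) = 2 := by rw [Subgroup.orderOf_mk]; exact ht2
  obtain ⟨c, hc⟩ := Cfsg.Agent.OddCyclic.JInner.exists_conj_mem (zpowers (⟨t, htY⟩ : centralizer (K : Set G)))
    (IsPGroup.of_card (n := 1) (by rw [Nat.card_zpowers, htp, pow_one])) (by
      intro h2
      apply hfour
      have h3 := card_mul_index (zpowers (⟨t, htY⟩ : centralizer (K : Set G)))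
      rw [Nat.card_zpowers, htp] at h3
      rw [← h3]
      exact Nat.mul_dvd_mul (dvd_refl 2) h2) _ hy02
  have hct : c * ⟨g⁻¹ * a * g, hy0⟩ * c⁻¹ = (⟨t, htY⟩ : centralizer (K : Set G)) := by
    obtain ⟨n, hn⟩ := mem_zpowers_iff.1 hc
    rcases zpow_cases (sq_of_two htp) n with h2 | h2
    · exfalso
      rw [h2] at hn
      have h3 := conj_eq_one_iff.1 hn.symm
      rw [h3, orderOf_one] at hy02
      omega
    · rw [← hn, h2]
  have hct' : (c : G) * (g⁻¹ * a * g) * (c : G)⁻¹ = t := congrArg Subtype.val hct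
  have hga : g * (c : G)⁻¹ * t * (g * (c : G)⁻¹)⁻¹ = a := by
    rw [← hct']; group
  have hat : a * t = t * a := by
    have c1 : Commute y t := hty
    have c2 : Commute k t := mem_centralizer_iff.1 htY k hkK
    rw [hyk]
    exact (c1.mul_left c2).eq
  have S : Setup t (centralizer (K : Set G) ⊓ centralizer ({t} : Set G)) K := by
    refine ⟨h.cyc, ht2, ?_, ?_, ?_, ?_, ?_, ?_, hloc⟩
    · intro z hz x hx
      exact (mem_centralizer_iff.1 hz.1 x hx).symm
    · intro x hx hxK
      exact disj hloc hk hx.1 hxK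
    · exact ⟨htY, mem_centralizer_singleton_iff.2 rfl⟩
    · intro z hz
      exact mem_centralizer_singleton_iff.1 hz.2
    · intro m hm
      have hmM := h.le_normalizer ht2 htY (mem_centralizer_singleton_iff.2 hm)
      obtain ⟨z, hz, x, hx, rfl⟩ := cover hloc hk hmM
      refine ⟨z, ⟨hz, mem_centralizer_singleton_iff.2 ?_⟩, x, hx, rfl⟩
      have c1 : Commute (z * x) t := hm
      have c2 : Commute x t := mem_centralizer_iff.1 htY x hx
      have : z = (z * x) * x⁻¹ := by group
      rw [this]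
      exact (c1.mul_left c2.inv_left).eq
    · intro h4
      exact hfour (h4.trans (card_dvd_of_le inf_le_left))
  refine no_JOne S ⟨g * (c : G)⁻¹, ?_, ?_⟩
  · rw [hga]; exact hat
  · rw [hga]
    rintro rfl
    exact haY htY

end Cfsg.Agent.OddCyclic.CompJOneFinal
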