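import Cfsg.Agent.OddCyclic.CompPslOuter
import Cfsg.Agent.OddCyclic.B2Hyp
import Cfsg.Agent.OddCyclic.B2Main
import Cfsg.Agent.OddCyclic.B2E16
import Cfsg.Agent.OddCyclic.B2SpecClass
import Cfsg.Agent.OddCyclic.PumpMain

/-!
# S0342, component type, case B: `K ≅ PSL₂(p)`, `p ≥ 7`; assembly

* `exists_hyp` : the hypotheses of case B2 (`|R| = 2`, `T > S`);
* `false_of_psl` : case B.
-/

set_option autoImplicit false

namespace Cfsg.Agent.OddCyclic.CompPslMain

open Subgroup Cfsg Cfsg.Agent.LieExceptional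
open Cfsg.Agent.OddCyclic.T1Defs Cfsg.Agent.OddCyclic.CompBasic
open Cfsg.Agent.OddCyclic.CompStandard Cfsg.Agent.OddCyclic.CompPsl
open Cfsg.Agent.LieExceptional.CITDefs
open Cfsg.Agent.LieExceptional.CITBasic

universe u v

variable {G : Type u} [Group G] [Finite G] {K : Subgroup G}
variable {F : Type v} [Field F] [Finite F]

/-- 2-subgroups of `C(K)` have order at most 2 -/
theorem card_le_two [IsSimpleGroup G] {p₀ : ℕ} (h : Std p₀ K) (D : Data K F)
    (hq7 : 7 ≤ Nat.card F)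
    (hev : ∃ g, g ∉ normalizer (K : Set G) ∧
      Even (Nat.card (cj g (centralizer (K : Set G)) ⊓ normalizer (K : Set G) : Subgroup G))) :
    ∀ Q : Subgroup G, Q ≤ centralizer (K : Set G) → IsPGroup 2 Q → Nat.card Q ≤ 2 := by
  intro Q hQ hQ2
  obtain ⟨R, hR, hQR⟩ := exists_isSyl2 _ Q hQ hQ2
  have h1 := card_two h D hq7 hev hR
  rw [← h1]
  exact Subgroup.card_le_of_le hQR

/-- The hypotheses of case B2. -/
theorem exists_hyp [IsSimpleGroup G] [Fintype F] {p₀ : ℕ} (h : Std p₀ K) (D : Data K F)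
    (hq7 : 7 ≤ Nat.card F) (hP : Pump K)
    (hev : ∃ g, g ∉ normalizer (K : Set G) ∧
      Even (Nat.card (cj g (centralizer (K : Set G)) ⊓ normalizer (K : Set G) : Subgroup G)))
    (hab : ∀ S : Subgroup G, IsSyl2 ⊤ S → ∃ a ∈ S, ∃ b ∈ S, a * b ≠ b * a) :
    ∃ t : G, B2Pgl.Hyp F t K := by
  obtain ⟨t, ht, hKt⟩ := h.ex
  refine ⟨t, B2Hyp.hyp ?_ ?_ ⟨D.e⟩ h hP (mem_centralizer_of_cmp hKt) ht
    (card_le_two h D hq7 hev) hab⟩
  · rw [← Nat.card_eq_fintype_card]; exact D.prime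
  · rw [← Nat.card_eq_fintype_card]; exact D.five

/-- **Case B**: a standard component is not isomorphic to `PSL₂(p)`, `p ≥ 7` prime. -/
theorem false_of_psl [IsSimpleGroup G] (hG : OddCyc G)
    (hk : ∀ J : Subgroup G, J ≠ ⊤ → IsQuasisimple J → PumpMain.KZero (J ⧸ center J))
    {p₀ : ℕ} (h : Std p₀ K) (D : Data K F) (hq7 : 7 ≤ Nat.card F)
    (hev : ∃ g, g ∉ normalizer (K : Set G) ∧
      Even (Nat.card (cj g (centralizer (K : Set G)) ⊓ normalizer (K : Set G) : Subgroup G)))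
    (hab : ∀ S : Subgroup G, IsSyl2 ⊤ S → ∃ a ∈ S, ∃ b ∈ S, a * b ≠ b * a) : False := by
  have := Fintype.ofFinite F
  have h7 : 7 ≤ Fintype.card F := by rw [← Nat.card_eq_fintype_card]; exact hq7
  have hp : (Fintype.card F).Prime := by rw [← Nat.card_eq_fintype_card]; exact D.prime
  have hP : Pump K := PumpMain.pump hG hk (PumpMain.not_isL2Two_of_prime hp h7 D.e)
  obtain ⟨t, ht⟩ := exists_hyp h D hq7 hP hev hab
  have hnab : ∃ a b : G, a * b ≠ b * a := by
    obtain ⟨S, hS, -⟩ := exists_isSyl2 (⊤ : Subgroup G) ⊥ bot_le IsPGroup.of_bot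
    obtain ⟨a, -, b, -, hne⟩ := hab S hS
    exact ⟨a, b, hne⟩
  refine B2Main.false_of_hyp_of hnab hG (fun J hJ hq => ?_) ?_ ?_ ht (fun h' => by omega)
  · have hs : IsSimpleGroup (J ⧸ center J) := hq.2
    rcases B2SpecClass.oneClass_of_kZero (hk J hJ hq) with h1 | ⟨h1, h2⟩
    · exact Or.inl h1
    · exact Or.inr ⟨h1.trans (Subgroup.card_quotient_dvd_card _), h2⟩
  · intro t h y V P F T₄ T L Y D' hT hle hne hE h16 hyF hTT
    exact B2E16.sixteen_false' L (B2LemA.three L) Y D' hT hle hne hE h16 hyF hTT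
  · intro t h y V P F T₄ T L Y D' hT hle hne hE h16
    exact B2E16.sixteen_false_Z L Y D' hT hle hne hE h16

end Cfsg.Agent.OddCyclic.CompPslMain
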