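import Cfsg.Agent.OddCyclic.CompSL2Outer

/-!
# S0342, component type, case C: `K ≅ SL(2,p)`, `p ≥ 5`, does not occur

`Hyp.false`: (C3), (O3), (O4) of blueprints/S0342-caseC.md. `false_of_std`: in terms of the standard component
of CompStandard.lean.
-/

set_option autoImplicit false

namespace Cfsg.Agent.OddCyclic.CompSL2Amb

open Subgroup Cfsg
open Cfsg.Agent.OddCyclic.T1Defs Cfsg.Agent.OddCyclic.CompBasic
open Cfsg.Agent.OddCyclic.CompStandard Cfsg.Agent.OddCyclic.CompSL2Facts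
open Cfsg.Agent.LieExceptional Cfsg.Agent.LieExceptional.CITDefs
open Cfsg.Agent.LieExceptional.CITBasic

variable {G : Type*} [Group G] [Finite G] {K : Subgroup G} {z : G} {p m n : ℕ}

/-- a Sylow 2-subgroup of `N(K)` contains an elementary abelian group of order 8 -/
theorem Hyp.exists_V (h : Hyp K z p m n) (hV : ∃ V : Subgroup G, Elem V ∧ Nat.card V = 8)
    {T : Subgroup G} (hT : IsSyl2 (normalizer (K : Set G)) T) :
    ∃ V : Subgroup G, V ≤ T ∧ Elem V ∧ Nat.card V = 8 := by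
  obtain ⟨V, hVe, hVc⟩ := hV
  have hT' := h.isSyl2_top hT
  obtain ⟨S, hS, hVS⟩ := exists_isSyl2 ⊤ V le_top (IsPGroup.of_card (n := 3) (by rw [hVc]; norm_num))
  obtain ⟨g, -, hg⟩ := CITBasic.IsSyl2.conj hS hT'
  refine ⟨cj g V, ?_, ?_, by rw [card_cj, hVc]⟩
  · rw [hg]; exact cj_mono hVS
  · intro v hv
    have h1 := hVe _ (mem_cj.mp hv)
    calc v * v = g * ((g⁻¹ * v * g) * (g⁻¹ * v * g)) * g⁻¹ := by group
      _ = 1 := by rw [h1]; group

theorem index_ne_two [IsSimpleGroup G] (hV : ∃ V : Subgroup G, Elem V ∧ Nat.card V = 8) :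
    ∀ M : Subgroup G, M.Normal → M.index ≠ 2 := by
  intro M hM h2
  rcases hM.eq_bot_or_eq_top with h1 | h1
  · rw [h1, Subgroup.index_bot] at h2
    obtain ⟨V, -, hVc⟩ := hV
    have := Subgroup.card_le_card_group V
    omega
  · rw [h1, Subgroup.index_top] at h2
    omega

/-- conjugates of `z` commuting with `z` are outer on `K` -/
theorem Hyp.pair [IsSimpleGroup G] (h : Hyp K z p m n)
    (hV : ∃ V : Subgroup G, Elem V ∧ Nat.card V = 8) {g : G}
    (hc : (g * z * g⁻¹) * z = z * (g * z * g⁻¹)) (hne : g * z * g⁻¹ ≠ z) :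
    ¬ Inn K (g * z * g⁻¹) ∧
    ∀ r : ℕ, r.Prime → r ≠ 2 → r ∣ n → r ≠ 3 ∧ ∃ a ∈ K, orderOf a = r ∧
      ∃ t, orderOf t = 3 ∧ t * a = a * t := by
  obtain ⟨x, P, T, H⟩ := exists_pair h hc hne
  have hVT := h.exists_V hV H.sylT
  have hI : ¬ Inn K (g * z * g⁻¹) := by
    intro hI
    obtain ⟨k, hk, y, hy, hky, hkk, hyy⟩ := h.inn_inv H.uu H.uY hI
    obtain ⟨d, m', n', hd, hm', hn', hm, hn, -, hp⟩ := h.nums
    exact InnPair.false ⟨H, hk, hy, hky, hkk, hyy, hd, hm', hn', hm, hn, hp⟩ hVT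
      (index_ne_two hV)
  refine ⟨hI, fun r hr hr2 hrn => ?_⟩
  obtain ⟨h1, a, ha, har, -, t, ht, hta⟩ := H.X hI hVT hr hr2 hrn
  exact ⟨h1, a, ha, har, t, ht, hta⟩

theorem Hyp.exists_conj_comm [IsSimpleGroup G] (h : Hyp K z p m n) :
    ∃ g : G, (g * z * g⁻¹) * z = z * (g * z * g⁻¹) ∧ g * z * g⁻¹ ≠ z := by
  by_contra hcon
  push Not at hcon
  obtain ⟨N, -, hNn, hodd, hN⟩ := Cfsg.Agent.AschCrit.Dichotomy.commutator_mem_of_isolated h.z2
    (L := ⊤) (by
      rw [mem_normalizer_iff]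
      intro x
      exact ⟨fun _ => mem_top _, fun _ => mem_top _⟩) (fun g _ hg => hcon g hg.eq.symm)
  have hNn' : N.Normal := Subgroup.normalizer_eq_top_iff.mp (top_le_iff.mp hNn)
  obtain ⟨k, hk, hkk⟩ := h.ex4
  obtain ⟨w, hw, hwk, -⟩ := h.conj_inv hk hkk
  rcases hNn'.eq_bot_or_eq_top with h1 | h1
  · have hzc : z ∈ center G := by
      rw [mem_center_iff]
      intro g
      have h2 := hN g (mem_top g)
      rw [h1, mem_bot] at h2
      have h3 : z * g * z⁻¹ = g := mul_inv_eq_one.mp h2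
      exact (mul_inv_eq_iff_eq_mul.mp h3).symm
    have hcn : (center G).Normal := inferInstance
    rcases hcn.eq_bot_or_eq_top with h2 | h2
    · rw [h2, mem_bot] at hzc
      exact h.z_ne hzc
    · have h3 : w ∈ center G := by rw [h2]; exact mem_top _
      have h4 := mem_center_iff.mp h3 k
      rw [← h4, mul_inv_cancel_right] at hwk
      exact h.k_ne hkk hwk
  · rw [h1, Subgroup.card_top] at hodd
    have h2 := orderOf_dvd_natCard z
    rw [h.z2] at h2
    exact (Nat.not_even_iff_odd.mpr hodd) (even_iff_two_dvd.mpr h2)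

/-- Case C does not occur. -/
theorem Hyp.false [IsSimpleGroup G] (h : Hyp K z p m n)
    (hV : ∃ V : Subgroup G, Elem V ∧ Nat.card V = 8) : False := by
  have hpf : Fact (Nat.Prime 2) := ⟨Nat.prime_two⟩
  have h3f : Fact (Nat.Prime 3) := ⟨Nat.prime_three⟩
  obtain ⟨g₀, hg₀c, hg₀⟩ := h.exists_conj_comm
  obtain ⟨-, hX⟩ := h.pair hV hg₀c hg₀
  -- the prime `r`
  obtain ⟨d, m', n', hd, hm', hn', hm, hn, hn1, hp⟩ := h.nums
  obtain ⟨r, hr, hrn'⟩ := Nat.exists_prime_and_dvd (show n' ≠ 1 by omega)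
  have hr2 : r ≠ 2 := by
    rintro rfl
    exact (Nat.not_even_iff_odd.mpr hn') (even_iff_two_dvd.mpr hrn')
  have hrn : r ∣ n := by rw [hn]; exact Dvd.dvd.mul_left hrn' 2
  obtain ⟨-, b, hbK, hbr, t, ht, htb⟩ := hX r hr hr2 hrn
  have h3n : ¬ 3 ∣ n := fun h3 => (hX 3 Nat.prime_three (by decide) h3).1 rfl
  have h3m : 3 ∣ m := h.three.resolve_right h3n
  -- the element `a` of order 3
  obtain ⟨k, hk, hkk⟩ := h.ex4
  obtain ⟨w, hw, hwk, hww⟩ := h.conj_inv hk hkk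
  obtain ⟨a, haK, hak, ha3⟩ : ∃ a ∈ K, a * k = k * a ∧ orderOf a = 3 := by
    obtain ⟨⟨a, ha'⟩, ha⟩ := exists_prime_orderOf_dvd_card'
      (G := (K ⊓ centralizer ({k} : Set G) : Subgroup G)) 3 (by rw [h.card4 hk hkk]; exact h3m)
    rw [Subgroup.orderOf_mk] at ha
    exact ⟨a, ha'.1, mem_centralizer_singleton_iff.mp ha'.2, ha⟩
  have haz : a * z = z * a := comm haK h.zY
  have hwa : w * a * w⁻¹ = a⁻¹ := (h.invt hk hkk (le_normalizer hw) hwk).1 a haK hak
  -- `L = N(⟨a⟩)`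
  set L : Subgroup G := normalizer (zpowers a : Set G) with hL
  have hmemL : ∀ g, (∃ b ∈ zpowers a, g * a * g⁻¹ = b) → g ∈ L := by
    rintro g ⟨b, hb, hgb⟩
    refine mem_normalizer_of_forall ?_
    rintro _ ⟨i, rfl⟩
    change g * a ^ i * g⁻¹ ∈ zpowers a
    have e : g * a ^ i * g⁻¹ = (g * a * g⁻¹) ^ i := by rw [conj_zpow]
    rw [e, hgb]
    exact Subgroup.zpow_mem _ hb i
  have hzL : z ∈ L := hmemL z ⟨a, mem_zpowers a, by rw [← haz]; group⟩
  have hkL : k ∈ L := hmemL k ⟨a, mem_zpowers a, by rw [← hak]; group⟩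
  have hwL : w ∈ L := hmemL w ⟨a⁻¹, Subgroup.inv_mem _ (mem_zpowers a), hwa⟩
  -- `z` is isolated in `L`
  have hiso : ∀ g ∈ L, g * z * g⁻¹ * z = z * (g * z * g⁻¹) → g * z * g⁻¹ = z := by
    intro g hg hgc
    by_contra hne
    obtain ⟨hI, hX'⟩ := h.pair hV hgc hne
    have hga : g⁻¹ * a * g ∈ zpowers a := by
      have := forall_of_mem_normalizer (Subgroup.inv_mem _ hg) a (mem_zpowers a)
      rwa [inv_inv] at this
    have hzga : z * (g⁻¹ * a * g) = (g⁻¹ * a * g) * z := by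
      obtain ⟨i, hi⟩ := hga
      rw [← hi]
      exact (Commute.zpow_right (show Commute z a from haz.symm) i).eq
    have hag : a * (g * z * g⁻¹) = (g * z * g⁻¹) * a := by
      calc a * (g * z * g⁻¹) = g * ((g⁻¹ * a * g) * z) * g⁻¹ := by group
        _ = g * (z * (g⁻¹ * a * g)) * g⁻¹ := by rw [hzga]
        _ = (g * z * g⁻¹) * a := by group
    have hgg : g * z * g⁻¹ * (g * z * g⁻¹) = 1 := by
      calc g * z * g⁻¹ * (g * z * g⁻¹) = g * (z * z) * g⁻¹ := by group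
        _ = 1 := by rw [h.zz]; group
    have h1 := h.outer (h.mem_iff.mpr hgc) (by rw [hgg]; exact one_mem _) hI
    have h2 : orderOf a ∣ n := by
      rw [← h1]
      exact (K ⊓ centralizer ({g * z * g⁻¹} : Set G)).orderOf_dvd_natCard
        ⟨haK, mem_centralizer_singleton_iff.mpr hag⟩
    rw [ha3] at h2
    exact h3n h2
  obtain ⟨N, hNL, hLN, hodd, hN⟩ := Cfsg.Agent.AschCrit.Dichotomy.commutator_mem_of_isolated h.z2
    (L := L) (Subgroup.le_normalizer hzL) (fun g hg hgc => hiso g hg hgc.eq.symm)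
  -- the quaternion group `⟨k, w⟩`
  set S : Subgroup G := zpowers w ⊔ zpowers k with hS
  have hS2 : IsPGroup 2 S := by
    refine IsPGroup.to_sup_of_normal_right' (isPGroup_of_pow (InnPair.sq_pow h hww))
      (isPGroup_of_pow (InnPair.sq_pow h hkk)) ?_
    rw [zpowers_le]
    refine mem_normalizer_of_forall ?_
    rintro _ ⟨i, rfl⟩
    change w * k ^ i * w⁻¹ ∈ zpowers k
    have e : w * k ^ i * w⁻¹ = (w * k * w⁻¹) ^ i := by rw [conj_zpow]
    rw [e, hwk]
    exact Subgroup.zpow_mem _ (Subgroup.inv_mem _ (mem_zpowers k)) i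
  have hSL : S ≤ L := sup_le (zpowers_le.mpr hwL) (zpowers_le.mpr hkL)
  have hwS : w ∈ S := Subgroup.mem_sup_left (mem_zpowers w)
  have hkS : k ∈ S := Subgroup.mem_sup_right (mem_zpowers k)
  have hNz : ∀ u ∈ N, z * u = u * z := by
    have h1 := commutator_comm_odd h.cyc hS2 hodd
      (fun b hb u hu => forall_of_mem_normalizer (hLN (hSL hb)) u hu) hwS hkS
    have h2 : w * k * w⁻¹ * k⁻¹ = z := by rw [hwk]; exact h.inv_sq hkk
    rwa [h2] at h1
  -- `L ≤ M`
  have hLM : ∀ g ∈ L, g ∈ normalizer (K : Set G) := by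
    intro g hg
    rw [h.mem_iff]
    refine mul_inv_eq_iff_eq_mul.mp (hiso g hg ?_)
    have h1 := hNz _ (hN g hg)
    have h2 : g * z * g⁻¹ = (z * g * z⁻¹ * g⁻¹)⁻¹ * z := by
      rw [h.z_inv]; group
      rw [show z ^ (-1 : ℤ) = z by rw [zpow_neg_one, h.z_inv]]
    have h3 : Commute (z * g * z⁻¹ * g⁻¹) z := (show Commute z _ from h1).symm
    rw [h2]
    exact (h3.inv_left.mul_left (Commute.refl z)).eq
  -- conclusion
  obtain ⟨g, -, hg⟩ := exists_conj_zpowers h.cyc Nat.prime_three (by decide) ⊤ (mem_top a)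
    (mem_top t) ha3 ht
  have hba : (g * b * g⁻¹) * a = a * (g * b * g⁻¹) := by
    refine comm_of_zpowers (a := g * t * g⁻¹) (b := a) hg.symm ?_
    calc (g * b * g⁻¹) * (g * t * g⁻¹) = g * (b * t) * g⁻¹ := by group
      _ = g * (t * b) * g⁻¹ := by rw [htb]
      _ = (g * t * g⁻¹) * (g * b * g⁻¹) := by group
  have hbM : g * b * g⁻¹ ∈ normalizer (K : Set G) := by
    apply hLM
    exact hmemL _ ⟨a, mem_zpowers a, by rw [hba]; group⟩
  have hbr' : orderOf (g * b * g⁻¹) = r := by rw [orderOf_conj, hbr]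
  have hbK' : g * b * g⁻¹ ∈ K := h.mem r hr hr2 (h.dvd_n hrn) _ hbM hbr'
  have ha1 : a ≠ 1 := by
    rintro rfl
    rw [orderOf_one] at ha3
    omega
  have haz' : a ≠ z := by
    rintro rfl
    rw [h.z2] at ha3
    omega
  have hbk := h.tor hk haK hbK' hkk hak ha1 haz' hba
  have hrm : r ∣ m := by
    rw [← h.card4 hk hkk, ← hbr']
    exact (K ⊓ centralizer ({k} : Set G)).orderOf_dvd_natCard
      ⟨hbK', mem_centralizer_singleton_iff.mpr hbk⟩
  exact h.not_both hr hr2 hrm hrn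

/-- Case C in terms of the standard component. -/
theorem false_of_std [IsSimpleGroup G] {q : ℕ} (hK : Std q K) {F : Type*} [Field F] [Finite F]
    {p : ℕ} (hp : p.Prime) (h5 : 5 ≤ p) (hF : Nat.card F = p)
    (e : K ≃* Matrix.SpecialLinearGroup (Fin 2) F)
    (hV : ∃ V : Subgroup G, Elem V ∧ Nat.card V = 8) : False := by
  obtain ⟨⟨z, hz⟩, m, n, hd⟩ := exists_data hp h5 hF e
  refine Hyp.false (K := K) (z := z) (p := p) (m := m) (n := n) ⟨hK.cyc, hz, hd, ?_, ?_, ?_⟩ hV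
  · intro s hs hs2
    exact hK.le_normalizer hs2 hs
  · intro g s hs2 hs hgs
    have h1 : g⁻¹ ∈ normalizer (K : Set G) := by
      refine hK.mem_of_involution hs2 hs ?_
      rw [mem_cj, inv_inv]
      exact hgs
    have := Subgroup.inv_mem _ h1
    rwa [inv_inv] at this
  · intro r hr hr2 hrK x hx hxr
    exact hK.mem_of_dvd hr hr2 hrK hx hxr

end Cfsg.Agent.OddCyclic.CompSL2Amb
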