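import Mathlib
import Cfsg.Agent.OddCyclic.CompStart
import Cfsg.Agent.OddCyclic.CompSL2Main
import Cfsg.Agent.OddCyclic.CompJOneFinal
import Cfsg.Agent.OddCyclic.CompCovers
import Cfsg.Agent.OddCyclic.CompPslMain
import Cfsg.Agent.OddCyclic.CompFour
import Cfsg.Agent.OddCyclic.CaseAMain
import Cfsg.Agent.S0253

/-!
# S0342, component type: the assembly

`CompMain.false_of_cases`: a finite simple group with cyclic odd Sylow subgroups, all of whose proper
simple sections are in the list `KZero`, of 2-rank at least 3, without strongly embedded subgroups and with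
non-abelian Sylow 2-subgroups, is not of component type: from the cases

* `CaseA`: `K ≅ PSL(2,2ᶠ)`,
* `CaseB`: `K ≅ PSL(2,p)`, `p ≥ 7`,
* `CaseE`: `K` a Suzuki group, `CaseE8`: `K` a proper cover of `Sz(8)`;

the case `K ≅ SL(2,p)` is `CompSL2Main`, the case of `J₁` is `CompJOneFinal`.

`caseA` (`CaseAMain`, `CompFour`; S1169 as hypothesis), `caseB` (`CompPslMain`), `false_of_suzuki` (only `CaseE` and
`CaseE8` are left).
-/

set_option autoImplicit false

namespace Cfsg.Agent.OddCyclic.CompMain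

open Subgroup Cfsg
open Cfsg.Agent.OddCyclic.T1Defs Cfsg.Agent.OddCyclic.CompBasic Cfsg.Agent.OddCyclic.CompStandard
open Cfsg.Agent.OddCyclic.PumpMain Cfsg.Agent.OddCyclic.CompStart

universe u

/-- `X ≅ Sz(8)` -/
def IsSzEight (X : Type*) [Group X] : Prop :=
  ∃ (F : Type) (_ : Field F) (_ : Fintype F), Fintype.card F = 8 ∧
    Nonempty (X ≃* ↥(Cfsg.Lie.Sz F 4))

/-- the quasisimple groups over the list -/
def Cover (K : Type*) [Group K] : Prop :=
  (∃ (F : Type) (_ : Field F) (_ : Fintype F), (Fintype.card F).Prime ∧ 5 ≤ Fintype.card F ∧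
    Nonempty (K ≃* Matrix.ProjectiveSpecialLinearGroup (Fin 2) F)) ∨
  (∃ (F : Type) (_ : Field F) (_ : Fintype F), (Fintype.card F).Prime ∧ 5 ≤ Fintype.card F ∧
    Nonempty (K ≃* Matrix.SpecialLinearGroup (Fin 2) F)) ∨
  IsL2Two K ∨ Cfsg.Lie.IsoSuzuki K ∨ (Cfsg.Agent.SporRec.J1.Defs.Local K ∧ ∃ k : K, orderOf k = 2) ∨
  (center K ≠ ⊥ ∧ IsSzEight (K ⧸ center K))

/-- `K ≅ PSL(2,2ᶠ)` -/
def CaseA (G : Type u) [Group G] : Prop :=
  ∀ K : Subgroup G, Std 3 K → IsL2Two K → False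

/-- `K ≅ PSL(2,p)`, `p ≥ 7` -/
def CaseB (G : Type u) [Group G] : Prop :=
  ∀ K : Subgroup G, Std 3 K → ∀ (F : Type) [Field F] [Fintype F], (Fintype.card F).Prime →
    7 ≤ Fintype.card F → Nonempty (K ≃* Matrix.ProjectiveSpecialLinearGroup (Fin 2) F) → False

/-- `K` a Suzuki group; all components of centralizers of involutions are covers of Suzuki groups -/
def CaseE (G : Type u) [Group G] : Prop :=
  NoThree G → ∀ K : Subgroup G, Std 5 K → Cfsg.Lie.IsoSuzuki K → False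

/-- `K` a proper cover of `Sz(8)` -/
def CaseE8 (G : Type u) [Group G] : Prop :=
  NoThree G → ∀ K : Subgroup G, Std 5 K → center K ≠ ⊥ → IsSzEight (K ⧸ center K) → False

/-- `PSL(2,5) ≅ PSL(2,4)` -/
theorem isL2Two_of_five {K : Type*} [Group K] {F : Type*} [Field F] [Fintype F]
    (hF : Fintype.card F = 5) (e : K ≃* Matrix.ProjectiveSpecialLinearGroup (Fin 2) F) :
    IsL2Two K := by
  obtain ⟨e5⟩ := Cfsg.Agent.S0253.result hF
  obtain ⟨F4, i1, i2, f, hf, hF4, ⟨e4⟩⟩ := PumpJOne.nonempty_psl_four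
  exact ⟨F4, i1, i2, f, hf, hF4, ⟨(e.trans e5).trans e4⟩⟩

theorem isSuzuki_of_szEight {X : Type*} [Group X] (h : IsSzEight X) : Cfsg.Lie.IsoSuzuki X := by
  obtain ⟨F, i1, i2, hF, ⟨e⟩⟩ := h
  exact ⟨F, i1, i2, 1, le_rfl, by rw [hF]; norm_num, ⟨e⟩⟩

variable {G : Type u} [Group G] [Finite G]

omit [Finite G] in
/-- The order of a Suzuki group is prime to 3. -/
theorem not_three_dvd {X : Type*} [Group X] (h : Cfsg.Lie.IsoSuzuki X) : ¬ 3 ∣ Nat.card X := by
  obtain ⟨F, iF, iFin, m, hm, hF, ⟨e⟩⟩ := h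
  rw [Nat.card_congr e.toEquiv, (Cfsg.Agent.S1163.result hm hF).1]
  intro h3
  have h5 : 2 ^ (2 * m + 1) % 3 = 2 := by
    rw [pow_succ, pow_mul, Nat.mul_mod, Nat.pow_mod]
    norm_num
  have h6 : (2 ^ (2 * m + 1) - 1) % 3 = 1 := by omega
  rcases (Nat.Prime.dvd_mul Nat.prime_three).mp h3 with h3 | h3
  · rcases (Nat.Prime.dvd_mul Nat.prime_three).mp h3 with h3 | h3
    · have := Nat.Prime.dvd_of_dvd_pow Nat.prime_three h3
      omega
    · omega
  · have h4 := Nat.mod_eq_zero_of_dvd h3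
    rw [Nat.add_mod, Nat.pow_mod, h5] at h4
    norm_num at h4

/-- The order of a cover of a Suzuki group is prime to 3. -/
theorem not_three_dvd_cover (hG : OddCyc G) {K : Subgroup G} (hK : IsQuasisimple K)
    (h : Cfsg.Lie.IsoSuzuki (K ⧸ center K)) : ¬ 3 ∣ Nat.card K := by
  intro h3
  rw [← Subgroup.card_mul_index (center K), Subgroup.index_eq_card] at h3
  rcases (Nat.Prime.dvd_mul Nat.prime_three).mp h3 with h3 | h3
  · have hpf : Fact (Nat.Prime 3) := ⟨Nat.prime_three⟩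
    obtain ⟨⟨z, hz⟩, hz3⟩ := exists_prime_orderOf_dvd_card' (G := center K) 3 h3
    rw [Subgroup.orderOf_mk] at hz3
    exact false_of_center (oddCyc_subgroup hG K) hK.1 Nat.prime_three (by norm_num) hz hz3
  · exact not_three_dvd h h3

/-- the order of a group `PSL(2,F)` is divisible by 3 -/
theorem three_dvd_psl {K : Type*} [Group K] {F : Type*} [Field F] [Fintype F]
    (e : K ≃* Matrix.ProjectiveSpecialLinearGroup (Fin 2) F) : 3 ∣ Nat.card K := by
  rw [Nat.card_congr e.toEquiv]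
  exact Cfsg.Agent.ThreePrime.OrderThree.three_dvd_card_psl F

theorem three_dvd_sl {K : Type*} [Group K] {F : Type*} [Field F] [Fintype F]
    (e : K ≃* Matrix.SpecialLinearGroup (Fin 2) F) : 3 ∣ Nat.card K := by
  rw [Nat.card_congr e.toEquiv]
  exact (Cfsg.Agent.ThreePrime.OrderThree.three_dvd_card_psl F).trans
    (Subgroup.card_quotient_dvd_card _)

theorem false_of_cases [IsSimpleGroup G] (hG : OddCyc G) (hsec : SecZero G)
    (hr : ¬ Cfsg.PRankLE 2 2 G) (hct : IsComponentType G) (hcrit : Crit G)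
    (hSE : ¬ ∃ H : Subgroup G, IsStronglyEmbedded H)
    (hcov : ∀ K : Subgroup G, IsQuasisimple K → KZero (K ⧸ center K) → Cover K)
    (hA : CaseA G) (hB : CaseB G) (hE : CaseE G) (hE8 : CaseE8 G) : False := by
  obtain ⟨K, hK⟩ := exists_std hG hsec hct
  have key : ∀ p : ℕ, Std p K → Cover K := by
    intro p h
    obtain ⟨t, ht, hKt⟩ := h.ex
    exact hcov K h.quasi (kzero_of_quasi hsec h.quasi (cmp_ne_top ht hKt))
  rcases hK with h | ⟨h, h3⟩
  · rcases key 3 h with ⟨F, i1, i2, hp, h5, ⟨e⟩⟩ | ⟨F, i1, i2, hp, h5, ⟨e⟩⟩ | h1 | h1 | ⟨h1, h2⟩ |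
      ⟨h1, h2⟩
    · by_cases h7 : 7 ≤ Fintype.card F
      · exact hB K h F hp h7 ⟨e⟩
      · have hF : Fintype.card F = 5 := by
          have : Fintype.card F = 5 ∨ Fintype.card F = 6 := by omega
          rcases this with h8 | h8
          · exact h8
          · rw [h8] at hp
            norm_num at hp
        exact hA K h (isL2Two_of_five hF e)
    · exact CompSL2Amb.false_of_std h hp h5 Nat.card_eq_fintype_card e (exists_elem_eight hr)
    · exact hA K h h1
    · exact not_three_dvd h1 h.dvd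
    · exact CompJOneFinal.false_of_JOne h h1 h2 hcrit hSE
    · exact not_three_dvd_cover hG h.quasi (isSuzuki_of_szEight h2) h.dvd
  · obtain ⟨t, ht, hKt⟩ := h.ex
    have hn := h3 t ht K hKt
    rcases key 5 h with ⟨F, i1, i2, hp, h5, ⟨e⟩⟩ | ⟨F, i1, i2, hp, h5, ⟨e⟩⟩ |
      ⟨F, i1, i2, f, hf, hF, ⟨e⟩⟩ | h1 | ⟨h1, k, h2⟩ | ⟨h1, h2⟩
    · exact hn (three_dvd_psl e)
    · exact hn (three_dvd_sl e)
    · exact hn (three_dvd_psl e)
    · exact hE h3 K h h1
    · refine hn ?_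
      rw [JFacts.card_of_local h1 h2]
      norm_num
    · exact hE8 h3 K h h1 h2

/-- the conclusion of S1169 for `G` -/
def GoldAb (G : Type u) [Group G] [Finite G] : Prop :=
  ∀ T : Sylow 2 G, CaseAZero.ZeroBig.Gold T

theorem caseA [IsSimpleGroup G] (hsec : SecZero G) (hcrit : Crit G)
    (hSE : ¬ ∃ H : Subgroup G, IsStronglyEmbedded H) (hnab : NonAb G) (hGold : GoldAb G) : CaseA G :=
  CaseAMain.caseA hsec hcrit hSE hnab hGold fun _ h _ _ _ h4 e hout =>
    CompFour.false_of_outer hsec hcrit hSE hnab h h4 e.some hout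

theorem caseB [IsSimpleGroup G] (hsec : SecZero G) (hcrit : Crit G)
    (hSE : ¬ ∃ H : Subgroup G, IsStronglyEmbedded H) (hnab : NonAb G) : CaseB G := by
  intro K h F _ _ hp h7 ⟨e⟩
  exact CompPslMain.false_of_psl h.cyc (fun J hJ hq => kzero_of_quasi hsec hq hJ) h
    (F := F) ⟨e, by rw [Nat.card_eq_fintype_card]; exact hp, by rw [Nat.card_eq_fintype_card]; omega⟩
    (by rw [Nat.card_eq_fintype_card]; exact h7) (h.exists_even hcrit hSE) hnab

/-- component type, given the Suzuki cases -/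
theorem false_of_suzuki [IsSimpleGroup G] (hG : OddCyc G) (hsec : SecZero G)
    (hr : ¬ Cfsg.PRankLE 2 2 G) (hct : IsComponentType G) (hcrit : Crit G)
    (hSE : ¬ ∃ H : Subgroup G, IsStronglyEmbedded H) (hnab : NonAb G) (hGold : GoldAb G)
    (hE : CaseE G) (hE8 : CaseE8 G) : False :=
  false_of_cases hG hsec hr hct hcrit hSE
    (fun K hK h => CompCovers.cover (oddCyc_subgroup hG K) hK h)
    (caseA hsec hcrit hSE hnab hGold) (caseB hsec hcrit hSE hnab) hE hE8

end Cfsg.Agent.OddCyclic.CompMain
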