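import Cfsg.Agent.OddCyclic.FFSl2
import Cfsg.Agent.OddCyclic.T1SzComp
import Cfsg.Agent.OddCyclic.T1SzFacts
import Cfsg.Agent.OddCyclic.T1Socle
import Cfsg.Agent.S1162

/-!
# Suzuki groups have no best offenders

For `J ≃ Sz(q)`, acting nontrivially on the elementary abelian 2-group `V`: `|V : C_V(a)| ≥ q` for every involution `a`
(`sz_index`), and there are no best offenders `A ≠ 1` (`main`).
-/

set_option autoImplicit false
set_option linter.unusedSectionVars false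

namespace Cfsg.Agent.OddCyclic.FFSz

open Cfsg.Agent.OddCyclic.T1Module Cfsg.Agent.OddCyclic.FFBasic Cfsg.Agent.OddCyclic.FFRed
  Cfsg.Agent.OddCyclic.FFSl2 Cfsg.Agent.ThreePrime Cfsg.Agent.ThreePrime.SzRel Cfsg.Agent.OddCyclic.T1SzFacts

section syl

variable {J : Type*} [Group J]

/-- the centre of the Sylow 2-subgroup `P` -/
def Zs (P : Sylow 2 J) : Subgroup J := (P : Subgroup J) ⊓ Subgroup.centralizer ((P : Subgroup J) : Set J)

open scoped Pointwise in
theorem mem_smul {P : Sylow 2 J} {g x : J} : x ∈ g • P ↔ g⁻¹ * x * g ∈ P := by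
  show x ∈ (MulAut.conj g • (P : Subgroup J)) ↔ _
  rw [Subgroup.mem_pointwise_smul_iff_inv_smul_mem]
  have h1 : (MulAut.conj g)⁻¹ • x = g⁻¹ * x * g := by
    rw [← map_inv, MulAut.smul_def, MulAut.conj_apply, inv_inv]
  rw [h1]; rfl

theorem mem_Zs {P : Sylow 2 J} {x : J} : x ∈ Zs P ↔ x ∈ P ∧ ∀ y ∈ P, y * x = x * y := by
  rw [Zs, Subgroup.mem_inf, Subgroup.mem_centralizer_iff]; rfl

theorem smul_Zs {P : Sylow 2 J} {g x : J} : x ∈ Zs (g • P) ↔ g⁻¹ * x * g ∈ Zs P := by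
  rw [mem_Zs, mem_Zs, mem_smul]
  constructor
  · rintro ⟨h1, h2⟩
    refine ⟨h1, fun y hy => ?_⟩
    have h3 := h2 (g * y * g⁻¹) (by rw [mem_smul]; have : g⁻¹ * (g * y * g⁻¹) * g = y := by group
                                    rwa [this])
    have h4 : y * (g⁻¹ * x * g) = g⁻¹ * (g * y * g⁻¹ * x) * g := by group
    rw [h4, h3]; group
  · rintro ⟨h1, h2⟩
    refine ⟨h1, fun y hy => ?_⟩
    rw [mem_smul] at hy
    have h3 := h2 _ hy
    have h4 : y * x = g * (g⁻¹ * y * g * (g⁻¹ * x * g)) * g⁻¹ := by group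
    rw [h4, h3]; group

variable {V : Type*} [CommGroup V] {ρ : J →* MulAut V}

/-- the vectors fixed by `Z(P)` -/
def UU (ρ : J →* MulAut V) (P : Sylow 2 J) : Subgroup V := CS ρ (Zs P)

theorem smul_UU {P : Sylow 2 J} {g : J} {v : V} (hv : v ∈ UU ρ P) : ρ g v ∈ UU ρ (g • P) := by
  intro x hx
  rw [smul_Zs] at hx
  have h1 := hv _ hx
  have h2 : ρ g (ρ (g⁻¹ * x * g) v) = ρ g v := by rw [h1]
  rw [← MulAut.mul_apply, ← map_mul] at h2
  have h3 : g * (g⁻¹ * x * g) = x * g := by group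
  rw [h3, map_mul, MulAut.mul_apply] at h2
  exact h2

theorem map_UU (P : Sylow 2 J) (g : J) : (UU ρ P).map (ρ g : V ≃* V).toMonoidHom = UU ρ (g • P) := by
  ext v
  constructor
  · rintro ⟨w, hw, rfl⟩
    exact smul_UU hw
  · intro hv
    refine ⟨ρ g⁻¹ v, ?_, ?_⟩
    · have := smul_UU (g := g⁻¹) hv
      rwa [smul_smul, inv_mul_cancel, one_smul] at this
    · show ρ g (ρ g⁻¹ v) = v
      rw [← MulAut.mul_apply, ← map_mul, mul_inv_cancel, map_one]; rfl

theorem index_UU_inf (P Q : Sylow 2 J) (g : J) : (UU ρ (g • P) ⊓ UU ρ (g • Q)).index = (UU ρ P ⊓ UU ρ Q).index := by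
  rw [← map_UU, ← map_UU, ← Subgroup.map_inf _ _ _ (ρ g : V ≃* V).injective, index_map]

end syl

section rel

variable {J : Type*} [Group J] {F : Type*} [Field F] (R : SzRel.Rel J F)

theorem orderOf_d (k : Fˣ) : orderOf (R.d k) = orderOf k := by
  let f : Fˣ →* J := { toFun := R.d, map_one' := R.d_one, map_mul' := fun k l => (R.d_mul k l).symm }
  exact orderOf_injective f (fun k l h => R.d_inj h) k

theorem w_inv_d (k : Fˣ) : R.w * R.d k * R.w⁻¹ = (R.d k)⁻¹ := by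
  rw [R.w_mul_d, R.d_inv, mul_inv_cancel_right]

theorem w_ne_one : R.w ≠ 1 := by
  have h := R.w_ne 0 0 1
  rwa [R.u_zero, R.d_one, one_mul] at h

/-- the action on pairs of Sylow 2-subgroups is transitive -/
theorem two_trans {P₀ : Sylow 2 J} [Finite J] (hP₀ : (P₀ : Subgroup J) = R.T) {P Q : Sylow 2 J} (h : P ≠ Q) :
    ∃ g : J, g • P = P₀ ∧ g • Q = R.w • P₀ := by
  have : Fact (Nat.Prime 2) := ⟨Nat.prime_two⟩
  obtain ⟨g₁, hg₁⟩ := MulAction.exists_smul_eq J P P₀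
  obtain ⟨g₂, hg₂⟩ := MulAction.exists_smul_eq J P₀ (g₁ • Q)
  have hn : ∀ a b k, (R.u a b * R.d k) • P₀ = P₀ := by
    intro a b k
    rw [Sylow.smul_eq_iff_mem_normalizer]
    show _ ∈ Subgroup.normalizer ((P₀ : Subgroup J) : Set J)
    rw [hP₀]
    exact R.ud_mem_normalizer a b k
  rcases R.bruhat g₂ with ⟨a, b, k, h1⟩ | ⟨a, b, c, e, k, h1⟩
  · exfalso
    rw [h1, hn, ← hg₁] at hg₂
    exact h (smul_left_cancel g₁ hg₂)
  · refine ⟨(R.u a b)⁻¹ * g₁, ?_, ?_⟩
    · rw [mul_smul, hg₁, inv_smul_eq_iff]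
      have := hn a b 1
      rw [R.d_one, mul_one] at this
      exact this.symm
    · rw [mul_smul, ← hg₂, h1, inv_smul_eq_iff, mul_smul, hn, mul_smul]

end rel

variable {J : Type*} [Group J] [Finite J] {V : Type*} [CommGroup V] [Finite V]

/-- faithfulness -/
theorem nontrivial_of (h : Cfsg.Lie.IsoSuzuki J) (ρ : J →* MulAut V)
    (hρ : ∃ g v, ρ g v ≠ v) {y : J} (hy : y ≠ 1) : ∃ v, ρ y v ≠ v := by
  by_contra hcon
  push Not at hcon
  obtain ⟨F, _, _, m, hm, hF, ⟨e⟩⟩ := h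
  have hs' := Cfsg.Agent.S1162.result hm hF
  have hs : IsSimpleGroup J := e.isSimpleGroup
  have hyk : y ∈ ρ.ker := by
    rw [MonoidHom.mem_ker]
    ext v
    exact hcon v
  rcases hs.eq_bot_or_eq_top_of_normal ρ.ker inferInstance with h1 | h1
  · rw [h1] at hyk; exact hy hyk
  · obtain ⟨g, v, hg⟩ := hρ
    apply hg
    have h2 : g ∈ ρ.ker := by rw [h1]; trivial
    rw [MonoidHom.mem_ker] at h2
    rw [h2]; rfl

/-- the element of order `l` and the involution inverting it -/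
theorem exists_real {F : Type*} [Field F] [Fintype F] (h : Cfsg.Lie.IsoSuzuki J) (hV : ∀ v : V, v * v = 1)
    (ρ : J →* MulAut V) (hρ : ∃ g v, ρ g v ≠ v) (R : SzRel.Rel J F) {m : ℕ} (hm : 1 ≤ m)
    (hF : Fintype.card F = 2 ^ (2 * m + 1)) :
    ∃ y : J, Odd (orderOf y) ∧ y ≠ 1 ∧ R.w * y * R.w⁻¹ = y⁻¹ ∧ Fintype.card F ^ 2 ≤ (fx ρ y).index := by
  obtain ⟨l, hl, hl1, hl2, hl3⟩ := Lib.Zsigmondy.exists_primitive (a := 2) (n := 2 * m + 1) le_rfl (by omega)
    (fun h => by omega) (fun h => by omega)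
  have hlne : l ≠ 2 := fun h => hl3 (by rw [h])
  have : Fact l.Prime := ⟨hl⟩
  have hdvd : l ∣ Nat.card Fˣ := by
    classical
    rw [Nat.card_eq_fintype_card, Fintype.card_units, hF]
    exact (hl1 (2 * m + 1)).2 dvd_rfl
  obtain ⟨k, hk⟩ := exists_prime_orderOf_dvd_card' l hdvd
  have hyo : orderOf (R.d k) = l := by rw [orderOf_d, hk]
  have hodd : Odd (orderOf (R.d k)) := by rw [hyo]; exact hl.odd_of_ne_two hlne
  have hy1 : R.d k ≠ 1 := by
    intro h
    rw [h, orderOf_one] at hyo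
    exact hl.one_lt.ne hyo
  refine ⟨R.d k, hodd, hy1, w_inv_d R k, ?_⟩
  obtain ⟨d, hd, h5, h6⟩ := prim hV hl hlne hyo (nontrivial_of h ρ hρ hy1)
  obtain ⟨e, he⟩ := prim_even (ρ := ρ) hV R.w_mul_w hodd (w_inv_d R k)
  have h7 : d = 2 * e := by
    rw [h5, ← pow_mul] at he
    rw [Nat.pow_right_injective (le_refl 2) he, mul_comm]
  have h8 : 2 * m + 1 ∣ d := (hl1 d).1 h6
  have h9 : 2 * m + 1 ∣ e := by
    have : Nat.Coprime (2 * m + 1) 2 :=
      Nat.Coprime.symm ((Nat.Prime.coprime_iff_not_dvd Nat.prime_two).2 (by omega))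
    rw [h7] at h8
    exact this.dvd_of_dvd_mul_left h8
  have h10 : 2 * m + 1 ≤ e := Nat.le_of_dvd (by omega) h9
  rw [h5, hF, ← pow_mul, h7]
  exact Nat.pow_le_pow_right (by norm_num) (by omega)

omit [Finite V] in
theorem exists_sylow_mem {a : J} (ha : a * a = 1) : ∃ P : Sylow 2 J, a ∈ P := by
  have : Fact (Nat.Prime 2) := ⟨Nat.prime_two⟩
  have h2 : IsPGroup 2 (Subgroup.zpowers a) := by
    rintro ⟨x, k, rfl⟩
    refine ⟨1, ?_⟩
    apply Subtype.ext
    show (a ^ k) ^ (2 ^ 1) = 1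
    rw [pow_one, pow_two, ← zpow_add, show k + k = 2 * k by ring, zpow_mul, zpow_ofNat, pow_two, ha, one_zpow]
  obtain ⟨P, hP⟩ := h2.exists_le_sylow
  exact ⟨P, hP (Subgroup.mem_zpowers a)⟩

/-- involutions of a Suzuki group are conjugate -/
theorem conj_inv (h : Cfsg.Lie.IsoSuzuki J) {a b : J} (ha : a * a = 1) (ha1 : a ≠ 1) (hb : b * b = 1) (hb1 : b ≠ 1) :
    ∃ g, g * a * g⁻¹ = b := by
  have : Fact (Nat.Prime 2) := ⟨Nat.prime_two⟩
  obtain ⟨P, hP⟩ := exists_sylow_mem ha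
  obtain ⟨Q, hQ⟩ := exists_sylow_mem hb
  obtain ⟨g, hg⟩ := MulAction.exists_smul_eq J P Q
  have h1 : g * a * g⁻¹ ∈ Q := by
    rw [← hg, mem_smul]
    have : g⁻¹ * (g * a * g⁻¹) * g = a := by group
    rwa [this]
  obtain ⟨d, -, hd⟩ := (szMore h Q).trans_inv (g * a * g⁻¹) h1 b hQ (by
    have : g * a * g⁻¹ * (g * a * g⁻¹) = g * (a * a) * g⁻¹ := by group
    rw [this, ha]; group) hb (by
    intro h
    apply ha1
    have : a = g⁻¹ * (g * a * g⁻¹) * g := by group
    rw [this, h]; group) hb1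
  refine ⟨d * g, ?_⟩
  rw [← hd]; group

theorem sz_index {F : Type*} [Field F] [Fintype F] (h : Cfsg.Lie.IsoSuzuki J) (hV : ∀ v : V, v * v = 1)
    (ρ : J →* MulAut V) (hρ : ∃ g v, ρ g v ≠ v) (R : SzRel.Rel J F) {m : ℕ} (hm : 1 ≤ m)
    (hF : Fintype.card F = 2 ^ (2 * m + 1)) {a : J} (ha : a * a = 1) (ha1 : a ≠ 1) :
    Fintype.card F ≤ (fx ρ a).index := by
  obtain ⟨y, hy, -, hwy, hi⟩ := exists_real h hV ρ hρ R hm hF
  obtain ⟨g, hg⟩ := conj_inv h R.w_mul_w (w_ne_one R) ha ha1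
  rw [← hg, index_fx_conj]
  exact (Nat.pow_le_pow_iff_left (by norm_num)).1 (hi.trans (half' ρ hy hwy))

omit [Finite V] in
theorem sylow_ti (h : Cfsg.Lie.IsoSuzuki J) {P Q : Sylow 2 J} {x : J} (hP : x ∈ P) (hQ : x ∈ Q) (hx : x ≠ 1) : P = Q := by
  have : Fact (Nat.Prime 2) := ⟨Nat.prime_two⟩
  obtain ⟨g, hg⟩ := MulAction.exists_smul_eq J P Q
  rw [← hg, mem_smul] at hQ
  have h1 := (szMore h P).ti g⁻¹ x hP hx (by rwa [inv_inv])
  rw [← hg]
  exact (Sylow.smul_eq_iff_mem_normalizer.2 (by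
    have := inv_mem h1
    rwa [inv_inv] at this)).symm

theorem card_diff {V : Type*} [Group V] [Finite V] {C D : Subgroup V} (hD : C ≤ D) :
    Nat.card {v : V // v ∈ D ∧ v ∉ C} + Nat.card C = Nat.card D := by
  classical
  have h1 : Nat.card ({v : V // v ∈ D ∧ v ∉ C} ⊕ C) = Nat.card D := by
    apply Nat.card_congr
    refine Equiv.ofBijective (Sum.elim (fun v => ⟨v.1, v.2.1⟩) (fun v => ⟨v.1, hD v.2⟩)) ⟨?_, ?_⟩
    · rintro (⟨v, hv⟩ | ⟨v, hv⟩) (⟨w, hw⟩ | ⟨w, hw⟩) h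
      · have : v = w := congrArg Subtype.val h
        subst this; rfl
      · have : v = w := congrArg Subtype.val h
        subst this; exact absurd hw hv.2
      · have : v = w := congrArg Subtype.val h
        subst this; exact absurd hv hw.2
      · have : v = w := congrArg Subtype.val h
        subst this; rfl
    · rintro ⟨v, hv⟩
      by_cases h : v ∈ C
      · exact ⟨Sum.inr ⟨v, h⟩, rfl⟩
      · exact ⟨Sum.inl ⟨v, hv, h⟩, rfl⟩
  rw [← h1, Nat.card_sum]

/-- the stabiliser of all vectors of `W` -/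
def EE (ρ : J →* MulAut V) (W : Subgroup V) : Subgroup J where
  carrier := {g | ∀ w ∈ W, ρ g w = w}
  mul_mem' := fun {a b} ha hb w hw => by rw [map_mul, MulAut.mul_apply, hb w hw, ha w hw]
  one_mem' := fun w _ => by rw [map_one]; rfl
  inv_mem' := fun {a} ha w hw => fx_inv (ρ := ρ) (v := w) (ha w hw)

omit [Finite J] [Finite V] in
theorem mem_EE {ρ : J →* MulAut V} {W : Subgroup V} {g : J} : g ∈ EE ρ W ↔ ∀ w ∈ W, ρ g w = w := Iff.rfl

/-- **Suzuki groups have no best offenders** -/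
theorem main (h : Cfsg.Lie.IsoSuzuki J) (hV : ∀ v : V, v * v = 1) (ρ : J →* MulAut V) (hρ : ∃ g v, ρ g v ≠ v)
    {A : Subgroup J} (hA : BO ρ A) : A = ⊥ := by
  classical
  by_contra hA1
  have : Fact (Nat.Prime 2) := ⟨Nat.prime_two⟩
  obtain ⟨F, iF, iF', m, hm, hF, ⟨R⟩⟩ := exists_rel h
  set q := Fintype.card F with hq
  have hq8 : 8 ≤ q := by
    have := SzRel.Rel.eight_le hm
    rwa [← hF] at this
  obtain ⟨P₀, hP₀⟩ := R.exists_sylow_eq hm hF
  -- orders
  have hcZ : ∀ P : Sylow 2 J, Nat.card (Zs P) = q := by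
    intro P
    have h1 : Nat.card P = q ^ 2 := by
      have h2 : Nat.card P = Nat.card P₀ := Nat.card_congr (Sylow.equiv P P₀).toEquiv
      have h3 : Nat.card P₀ = Nat.card R.T := by rw [← hP₀]
      rw [h2, h3, card_T, Nat.card_eq_fintype_card]
    have h4 := (szMore h P).card_eq
    have h5 : Nat.card (Zs P) ^ 2 = q ^ 2 := by rw [← h1]; exact h4.symm
    exact Nat.pow_left_injective (by norm_num : (2 : ℕ) ≠ 0) h5
  obtain ⟨P₁, hP₁⟩ := (show IsPGroup 2 A from fun a => ⟨1, by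
    rw [pow_one, pow_two]; exact Subtype.ext (hA.sq a a.2)⟩).exists_le_sylow
  have hAZ : A ≤ Zs P₁ := (szMore h P₁).elem_le hP₁ hA.sq
  obtain ⟨⟨a, ha⟩, ha1'⟩ := Subgroup.ne_bot_iff_exists_ne_one.1 hA1
  have ha1 : a ≠ 1 := fun h => ha1' (Subtype.ext h)
  have hlow : ∀ z : J, z * z = 1 → z ≠ 1 → q ≤ (fx ρ z).index := fun z hz hz1 => sz_index h hV ρ hρ R hm hF hz hz1
  have h6 := index_le_of_le (CS_le_fx (ρ := ρ) ha)
  have h7 := hA.index_le
  have h8 : Nat.card A ≤ q := by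
    rw [← hcZ P₁]
    exact Nat.card_le_card_of_injective _ (Subgroup.inclusion_injective hAZ)
  have h5 := hlow a (hA.sq a ha) ha1
  have hAeq : A = Zs P₁ := Subgroup.eq_of_le_of_card_ge hAZ (by rw [hcZ P₁]; omega)
  have hU₁ : (UU ρ P₁).index = q := by rw [UU, ← hAeq]; omega
  have hU : ∀ P : Sylow 2 J, (UU ρ P).index = q := by
    intro P
    obtain ⟨g, hg⟩ := MulAction.exists_smul_eq J P₁ P
    rw [← hg, ← map_UU, index_map, hU₁]
  have hmemZ : ∀ P : Sylow 2 J, ∀ z ∈ P, z * z = 1 → z ∈ Zs P := fun P z hz hz2 => (szMore h P).mem_Z.2 ⟨hz, hz2⟩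
  have hfix : ∀ P : Sylow 2 J, ∀ z ∈ P, z * z = 1 → z ≠ 1 → fx ρ z = UU ρ P := by
    intro P z hz hz2 hz1
    refine (eq_of_index_le (CS_le_fx (hmemZ P z hz hz2)) ?_).symm
    show (UU ρ P).index ≤ _
    rw [hU]
    exact hlow z hz2 hz1
  -- pairs
  obtain ⟨y, hyodd, hy1, hwy, hyi⟩ := exists_real h hV ρ hρ R hm hF
  have hww : R.w * R.w = 1 := R.w_mul_w
  have hwinv : R.w⁻¹ = R.w := R.w_inv
  have hwy2 : (R.w * y) * (R.w * y) = 1 := by
    have : (R.w * y) * (R.w * y) = (R.w * y * R.w⁻¹) * y := by rw [hwinv]; group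
    rw [this, hwy, inv_mul_cancel]
  have hwy1 : R.w * y ≠ 1 := by
    intro h1
    have h2 : y = R.w := by
      have := eq_inv_of_mul_eq_one_right h1
      rwa [hwinv] at this
    rw [h2] at hyodd hy1
    have h3 : orderOf R.w ∣ 2 := orderOf_dvd_of_pow_eq_one (by rw [pow_two, hww])
    rw [Nat.dvd_prime Nat.prime_two] at h3
    rcases h3 with h3 | h3
    · exact hy1 (orderOf_eq_one_iff.1 h3)
    · rw [h3] at hyodd; exact absurd hyodd (by decide)
  obtain ⟨Q₁, hQ₁⟩ := exists_sylow_mem hww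
  obtain ⟨Q₂, hQ₂⟩ := exists_sylow_mem hwy2
  have hQne : Q₁ ≠ Q₂ := by
    rintro rfl
    have h1 : y ∈ Q₁ := by
      have := mul_mem hQ₁ hQ₂
      rwa [← mul_assoc, hww, one_mul] at this
    obtain ⟨k, hk⟩ := Q₁.isPGroup' ⟨y, h1⟩
    have h2 : y ^ 2 ^ k = 1 := congrArg Subtype.val hk
    have h3 := orderOf_dvd_of_pow_eq_one h2
    have h4 : Nat.Coprime (orderOf y) (2 ^ k) := (Nat.coprime_two_right.2 hyodd).pow_right k
    have h5 := Nat.Coprime.eq_one_of_dvd h4 h3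
    exact hy1 (orderOf_eq_one_iff.1 h5)
  have hpair₀ : q ^ 2 ≤ (UU ρ Q₁ ⊓ UU ρ Q₂).index := by
    refine hyi.trans (index_le_of_le ?_)
    intro v hv
    rw [← hfix Q₁ R.w hQ₁ hww (w_ne_one R), ← hfix Q₂ _ hQ₂ hwy2 hwy1, Subgroup.mem_inf] at hv
    have h1 := fx_mul ρ hv.1 hv.2
    rwa [← mul_assoc, hww, one_mul] at h1
  have hpair : ∀ P Q : Sylow 2 J, P ≠ Q → (UU ρ P ⊓ UU ρ Q).index = q ^ 2 := by
    intro P Q hPQ
    apply le_antisymm
    · refine Subgroup.index_inf_le.trans ?_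
      rw [hU, hU, pow_two]
    · obtain ⟨g, hg, hg'⟩ := two_trans R hP₀ hPQ
      obtain ⟨k, hk, hk'⟩ := two_trans R hP₀ hQne
      have e1 := index_UU_inf (ρ := ρ) P Q g
      have e2 := index_UU_inf (ρ := ρ) Q₁ Q₂ k
      rw [hg, hg'] at e1
      rw [hk, hk'] at e2
      rw [← e1, e2]
      exact hpair₀
  -- the set of Sylow 2-subgroups
  set W := UU ρ Q₁ ⊓ UU ρ Q₂ with hW
  have hWi : W.index = q ^ 2 := hpair Q₁ Q₂ hQne
  let S := {Q : Sylow 2 J // W ≤ UU ρ Q}
  have hSpair : ∀ P Q : S, P ≠ Q → UU ρ P.1 ⊓ UU ρ Q.1 = W := by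
    intro P Q hPQ
    have h1 : P.1 ≠ Q.1 := fun h => hPQ (Subtype.ext h)
    exact (eq_of_index_le (le_inf P.2 Q.2) (by rw [hWi, hpair _ _ h1])).symm
  have hcard : ∀ P : S, Nat.card {v : V // v ∈ UU ρ P.1 ∧ v ∉ W} = q * Nat.card W - Nat.card W := by
    intro P
    have h1 := card_diff P.2
    have h2 := (UU ρ P.1).card_mul_index
    have h3 := W.card_mul_index
    rw [hU] at h2
    rw [hWi] at h3
    have h4 : Nat.card (UU ρ P.1) = q * Nat.card W := by
      apply Nat.eq_of_mul_eq_mul_right (show 0 < q by omega)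
      rw [h2, ← h3]; ring
    omega
  have hSle : Nat.card S ≤ q + 1 := by
    let T := Σ P : S, {v : V // v ∈ UU ρ P.1 ∧ v ∉ W}
    let Φ : T → {v : V // v ∉ W} := fun t => ⟨t.2.1, t.2.2.2⟩
    have hinj : Function.Injective Φ := by
      rintro ⟨P, v, hv, hv'⟩ ⟨Q, w, hw, hw'⟩ h
      have h1 : v = w := congrArg Subtype.val h
      subst h1
      have h2 : P = Q := by
        by_contra hne
        apply hv'
        rw [← hSpair P Q hne]
        exact ⟨hv, hw⟩
      subst h2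
      rfl
    have h1 := Nat.card_le_card_of_injective Φ hinj
    have h2 : Nat.card T = Nat.card S * (q * Nat.card W - Nat.card W) := by
      have : Fintype S := Fintype.ofFinite S
      rw [Nat.card_sigma, Finset.sum_congr rfl (fun P _ => hcard P), Finset.sum_const, Finset.card_univ,
        smul_eq_mul, Nat.card_eq_fintype_card (α := S)]
    have h3 : Nat.card {v : V // v ∉ W} + Nat.card W = Nat.card V := by
      have := card_diff (le_top : W ≤ ⊤)
      rw [Subgroup.card_top] at this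
      rw [← this]
      congr 1
      apply Nat.card_congr
      exact Equiv.subtypeEquivRight (fun v => by simp)
    have h4 : Nat.card V = Nat.card W * q ^ 2 := by rw [← hWi, W.card_mul_index]
    have h5 : 0 < Nat.card W := Nat.card_pos
    rw [h2] at h1
    obtain ⟨r, hr⟩ : ∃ r, q = r + 1 := ⟨q - 1, by omega⟩
    rw [hr] at h1 h4 ⊢
    have e1 : (r + 1) * Nat.card W - Nat.card W = r * Nat.card W := by
      rw [Nat.succ_mul]; omega
    rw [e1] at h1
    have hr0 : 0 < r := by omega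
    by_contra hcon
    push Not at hcon
    have h6 : (r + 1 + 1 + 1) * (r * Nat.card W) ≤ Nat.card S * (r * Nat.card W) :=
      Nat.mul_le_mul_right _ hcon
    have h7 : 0 < r * Nat.card W := Nat.mul_pos hr0 h5
    nlinarith
  -- the action of `Z(Q)`
  have hEZ : ∀ Q : S, ∀ z ∈ Zs Q.1, ∀ w ∈ W, ρ z w = w := fun Q z hz w hw => Q.2 hw z hz
  have hstab : ∀ g : J, (∀ w ∈ W, ρ g w = w) → ∀ Q : S, W ≤ UU ρ (g • Q.1) := by
    intro g hg Q w hw
    have h1 := smul_UU (g := g) (Q.2 hw)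
    rwa [hg w hw] at h1
  have hfree : ∀ (Q : Sylow 2 J) (Q' : Sylow 2 J), Q' ≠ Q → ∀ z ∈ Zs Q, z • Q' = Q' → z = 1 := by
    intro Q Q' hne z hz hzQ
    by_contra hz1
    have h1 : z ∈ Subgroup.normalizer ((Q' : Subgroup J) : Set J) := Sylow.smul_eq_iff_mem_normalizer.1 hzQ
    have h2 : IsPGroup 2 (Zs Q) := Q.isPGroup'.to_le inf_le_left
    have h3 := h2.inf_normalizer_sylow Q'
    have h4 : z ∈ Zs Q ⊓ (Q' : Subgroup J) := by
      rw [← h3]
      exact ⟨hz, h1⟩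
    exact hne (sylow_ti h h4.2 (show z ∈ Q from hz.1) hz1)
  have hact : ∀ Q : S, Nat.card {Q' : S // Q' ≠ Q} = q := by
    intro Q
    let _ : MulAction (Zs Q.1) {Q' : S // Q' ≠ Q} :=
      { smul := fun z Q' => ⟨⟨(z : J) • Q'.1.1, hstab z (hEZ Q z z.2) Q'.1⟩, by
          intro h1
          apply Q'.2
          apply Subtype.ext
          have h2 : (z : J) • Q'.1.1 = Q.1 := congrArg Subtype.val h1
          have h3 : (z : J) • Q.1 = Q.1 :=
            Sylow.smul_eq_iff_mem_normalizer.2 (Subgroup.le_normalizer (show (z : J) ∈ (Q.1 : Subgroup J) from z.2.1))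
          exact smul_left_cancel (z : J) (h2.trans h3.symm)⟩
        one_smul := fun Q' => by
          apply Subtype.ext
          apply Subtype.ext
          exact one_smul J Q'.1.1
        mul_smul := fun z z' Q' => by
          apply Subtype.ext
          apply Subtype.ext
          exact mul_smul (z : J) (z' : J) Q'.1.1 }
    have h1 : Nat.card (Zs Q.1) ∣ Nat.card {Q' : S // Q' ≠ Q} := by
      apply card_dvd_of_free
      intro Q' z hz
      have h2 : (z : J) • Q'.1.1 = Q'.1.1 := congrArg (fun t => t.1.1) hz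
      exact Subtype.ext (hfree Q.1 Q'.1.1 (fun h => Q'.2 (Subtype.ext h)) z z.2 h2)
    rw [hcZ] at h1
    have h2 : Nat.card {Q' : S // Q' ≠ Q} + 1 = Nat.card S := by
      have : Fintype S := Fintype.ofFinite S
      rw [Nat.card_eq_fintype_card, Nat.card_eq_fintype_card, Fintype.card_subtype_compl, Fintype.card_subtype_eq]
      have : 0 < Fintype.card S := Fintype.card_pos_iff.2 ⟨Q⟩
      omega
    have h3 : 0 < Nat.card {Q' : S // Q' ≠ Q} := by
      have h4 : Nonempty {Q' : S // Q' ≠ Q} := by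
        by_cases h5 : Q.1 = Q₁
        · exact ⟨⟨⟨Q₂, inf_le_right⟩, fun h6 => hQne (by rw [← h5, ← h6])⟩⟩
        · exact ⟨⟨⟨Q₁, inf_le_left⟩, fun h6 => h5 (by rw [← h6])⟩⟩
      exact Nat.card_pos
    have h4 := Nat.le_of_dvd h3 h1
    omega
  have hScard : Nat.card S = q + 1 := by
    have h1 := hact ⟨Q₁, inf_le_left⟩
    have : Fintype S := Fintype.ofFinite S
    rw [Nat.card_eq_fintype_card, Fintype.card_subtype_compl, Fintype.card_subtype_eq] at h1
    rw [Nat.card_eq_fintype_card]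
    have : 0 < Fintype.card S := Fintype.card_pos_iff.2 ⟨⟨Q₁, inf_le_left⟩⟩
    omega
  -- transitivity of `E`
  let _ : MulAction (EE ρ W) S :=
    { smul := fun g Q => ⟨(g : J) • Q.1, hstab g g.2 Q⟩
      one_smul := fun Q => Subtype.ext (one_smul J Q.1)
      mul_smul := fun g g' Q => Subtype.ext (mul_smul (g : J) (g' : J) Q.1) }
  have htr : MulAction.IsPretransitive (EE ρ W) S := by
    refine ⟨fun P Q => ?_⟩
    obtain ⟨X, hXP, hXQ⟩ : ∃ X : S, X ≠ P ∧ X ≠ Q := by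
      have : Fintype S := Fintype.ofFinite S
      have h1 : ({P, Q} : Finset S).card < (Finset.univ : Finset S).card := by
        refine lt_of_le_of_lt Finset.card_le_two ?_
        rw [Finset.card_univ, ← Nat.card_eq_fintype_card, hScard]
        omega
      obtain ⟨X, -, hX⟩ := Finset.exists_mem_notMem_of_card_lt_card h1
      rw [Finset.mem_insert, Finset.mem_singleton, not_or] at hX
      exact ⟨X, hX.1, hX.2⟩
    let f : Zs X.1 → {Q' : S // Q' ≠ X} := fun z => ⟨⟨(z : J) • P.1, hstab z (hEZ X z z.2) P⟩, by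
      intro h1
      apply hXP
      apply Subtype.ext
      have h2 : (z : J) • P.1 = X.1 := congrArg Subtype.val h1
      have h3 : (z : J) • X.1 = X.1 :=
        Sylow.smul_eq_iff_mem_normalizer.2 (Subgroup.le_normalizer (show (z : J) ∈ (X.1 : Subgroup J) from z.2.1))
      exact (smul_left_cancel (z : J) (h2.trans h3.symm)).symm⟩
    have hf : Function.Injective f := by
      intro z z' hzz
      have h1 : (z : J) • P.1 = (z' : J) • P.1 := congrArg (fun t => t.1.1) hzz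
      have h2 : ((z : J)⁻¹ * z') • P.1 = P.1 := by
        rw [mul_smul, ← h1, inv_smul_smul]
      have h3 := hfree X.1 P.1 (fun h => hXP (Subtype.ext h.symm)) ((z : J)⁻¹ * z') (mul_mem (inv_mem z.2) z'.2) h2
      exact Subtype.ext (inv_mul_eq_one.1 h3)
    have hbij := hf.bijective_of_nat_card_le (by rw [hact X, hcZ])
    obtain ⟨z, hz⟩ := hbij.2 ⟨Q, hXQ.symm⟩
    refine ⟨⟨z, fun w hw => hEZ X z z.2 w hw⟩, ?_⟩
    apply Subtype.ext
    exact congrArg (fun t => t.1.1) hz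
  have h9 : Nat.card S ∣ Nat.card J := by
    have h10 := MulAction.index_stabilizer_of_transitive (EE ρ W) (⟨Q₁, inf_le_left⟩ : S)
    rw [← h10]
    exact (Subgroup.index_dvd_card _).trans (Subgroup.card_subgroup_dvd_card _)
  have h3 := T1Socle.not_three_dvd h
  apply h3
  refine Dvd.dvd.trans ?_ h9
  rw [hScard, hF, pow_succ, pow_mul, Nat.dvd_iff_mod_eq_zero, Nat.add_mod, Nat.mul_mod, Nat.pow_mod]
  norm_num

end Cfsg.Agent.OddCyclic.FFSz
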