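import Cfsg.Agent.OddCyclic.EmpNFF
import Cfsg.Agent.OddCyclic.KZeroCongr
import Cfsg.Agent.Lib.NormalAbelian

/-!
# (Empty), `V` not FF: the frame of section 4 of blueprints/S0342-Empty-NS-helper347.md

`FP S F T P` : `F ≤ V` bad of maximal order, `T` Sylow in `N_G(F)` with `J ≤ T`, `P` minimal with
`C_G(V)T ≤ P ≤ C_G(F)T`, `P ≰ L`.

* `vp` = `V_+`, `ww` = `W = ⟨V_+^P⟩`, `uu` = `U = ⟨V^P⟩`, `kk` = `K_P = C_P(W/F)`.
-/

set_option autoImplicit false
set_option linter.unusedSectionVars false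

namespace Cfsg.Agent.OddCyclic.EmpNSBase

open Subgroup Cfsg Cfsg.Agent.ZN Cfsg.Agent.ZN.ChoiceBase Cfsg.Agent.ZN.ChoiceSit
open Cfsg.Agent.MinSimple Cfsg.Agent.MinSimple.EmptyTI Cfsg.Agent.MinSimple.EmptySix
open Cfsg.Agent.MinSimple.EmptyE.Closed (LL CC cl mem_cl cl_eq cl_le vv_comm vv_sq vv_mul_self vv_inv
  isPGroup_vv vv_le_jj vv_le jj_le_centralizer_vv conj_mem_vv cj_vv)
open Cfsg.Agent.OddCyclic.EmpFrame
open Cfsg.Agent.OddCyclic.KZeroCongr (KS)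

universe u

variable {G : Type u} [Group G]

/-- elements of `X ⊓ N_G(F)` centralising `W` modulo `F` -/
def cmod (X F W : Subgroup G) : Subgroup G where
  carrier := {g | g ∈ X ∧ g ∈ normalizer (F : Set G) ∧ ∀ w ∈ W, g * w * g⁻¹ * w⁻¹ ∈ F}
  mul_mem' := by
    rintro a b ⟨ha, hna, ha1⟩ ⟨hb, hnb, hb1⟩
    refine ⟨mul_mem ha hb, mul_mem hna hnb, fun w hw => ?_⟩
    have e : a * b * w * (a * b)⁻¹ * w⁻¹ = (a * (b * w * b⁻¹ * w⁻¹) * a⁻¹) * (a * w * a⁻¹ * w⁻¹) := by group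
    rw [e]
    exact mul_mem ((mem_normalizer_iff.1 hna _).1 (hb1 w hw)) (ha1 w hw)
  one_mem' := ⟨one_mem _, one_mem _, fun w _ => by simp⟩
  inv_mem' := by
    rintro a ⟨ha, hna, ha1⟩
    refine ⟨inv_mem ha, inv_mem hna, fun w hw => ?_⟩
    have e : a⁻¹ * w * a⁻¹⁻¹ * w⁻¹ = a⁻¹ * (a * w * a⁻¹ * w⁻¹)⁻¹ * a⁻¹⁻¹ := by group
    rw [e]
    exact (mem_normalizer_iff.1 (inv_mem hna) _).1 (inv_mem (ha1 w hw))

theorem mem_cmod {X F W : Subgroup G} {g : G} :
    g ∈ cmod X F W ↔ g ∈ X ∧ g ∈ normalizer (F : Set G) ∧ ∀ w ∈ W, g * w * g⁻¹ * w⁻¹ ∈ F := Iff.rfl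

theorem cmod_le (X F W : Subgroup G) : cmod X F W ≤ X := fun _ h => h.1

theorem comm_symm {F : Subgroup G} {a b : G} (h : a * b * a⁻¹ * b⁻¹ ∈ F) : b * a * b⁻¹ * a⁻¹ ∈ F := by
  have e : b * a * b⁻¹ * a⁻¹ = (a * b * a⁻¹ * b⁻¹)⁻¹ := by group
  rw [e]
  exact inv_mem h

theorem cj_cmod (g : G) (X F W : Subgroup G) : cj g (cmod X F W) = cmod (cj g X) (cj g F) (cj g W) := by
  ext x
  rw [mem_cj, mem_cmod, mem_cmod, mem_cj, ← cj_normalizer, mem_cj]
  refine and_congr_right fun _ => and_congr_right fun _ => ?_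
  constructor
  · intro h w hw
    rw [mem_cj] at hw ⊢
    have h1 := h _ hw
    have e : g⁻¹ * (x * w * x⁻¹ * w⁻¹) * g =
      g⁻¹ * x * g * (g⁻¹ * w * g) * (g⁻¹ * x * g)⁻¹ * (g⁻¹ * w * g)⁻¹ := by group
    rwa [e]
  · intro h w hw
    have h1 := h (g * w * g⁻¹) (by rw [mem_cj]; simpa [mul_assoc] using hw)
    rw [mem_cj] at h1
    have e : g⁻¹ * (x * (g * w * g⁻¹) * x⁻¹ * (g * w * g⁻¹)⁻¹) * g =
      g⁻¹ * x * g * w * (g⁻¹ * x * g)⁻¹ * w⁻¹ := by group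
    rwa [e] at h1

/-- a 2-group acts nontrivially: fixed points in `V/F` -/
theorem exists_fix [Finite G] {V F T : Subgroup G} (hT : IsPGroup 2 T) (hV : IsPGroup 2 V)
    (hTV : T ≤ normalizer (V : Set G)) (hTF : T ≤ normalizer (F : Set G)) (hVF : V ≤ normalizer (F : Set G))
    (hFV : F ≤ V) (hne : F ≠ V) : ∃ v ∈ V, v ∉ F ∧ ∀ t ∈ T, t * v * t⁻¹ * v⁻¹ ∈ F := by
  have hf : Fact (Nat.Prime 2) := ⟨Nat.prime_two⟩
  obtain ⟨Q, hQ⟩ : ∃ Q, Q = T ⊔ V := ⟨_, rfl⟩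
  have hTQ : T ≤ Q := hQ ▸ le_sup_left
  have hVQ : V ≤ Q := hQ ▸ le_sup_right
  have hQp : IsPGroup 2 Q := by
    rw [hQ]
    exact IsPGroup.to_sup_of_normal_right' hT hV hTV
  have hQF : Q ≤ normalizer (F : Set G) := by rw [hQ]; exact sup_le hTF hVF
  have hQV : Q ≤ normalizer (V : Set G) := by rw [hQ]; exact sup_le hTV le_normalizer
  have hn : (F.subgroupOf Q).Normal := (normal_subgroupOf_iff_le_normalizer (hFV.trans hVQ)).2 hQF
  have hVn : (V.subgroupOf Q).Normal := (normal_subgroupOf_iff_le_normalizer hVQ).2 hQV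
  have hnil : Group.IsNilpotent (Q ⧸ F.subgroupOf Q) := (hQp.to_quotient _).isNilpotent
  have hN : ((V.subgroupOf Q).map (QuotientGroup.mk' (F.subgroupOf Q))).Normal :=
    hVn.map _ (QuotientGroup.mk'_surjective _)
  have hN1 : (V.subgroupOf Q).map (QuotientGroup.mk' (F.subgroupOf Q)) ≠ ⊥ := by
    intro h
    apply hne
    refine le_antisymm hFV fun v hv => ?_
    have h1 : QuotientGroup.mk' (F.subgroupOf Q) ⟨v, hVQ hv⟩ ∈
        (V.subgroupOf Q).map (QuotientGroup.mk' (F.subgroupOf Q)) := mem_map_of_mem _ hv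
    rw [h, mem_bot] at h1
    have h2 : (⟨v, hVQ hv⟩ : Q) ∈ F.subgroupOf Q := (QuotientGroup.eq_one_iff _).1 h1
    exact h2
  obtain ⟨⟨x, hx⟩, hx1⟩ := ne_bot_iff_exists_ne_one.1
    (Cfsg.Agent.Lib.NormalAbelian.normal_inf_center_ne_bot _ hN1)
  obtain ⟨⟨v, hv, hvx⟩, hc⟩ := hx
  refine ⟨v, hv, ?_, fun t ht => ?_⟩
  · intro hF
    apply hx1
    apply Subtype.ext
    show x = 1
    rw [← hvx]
    exact (QuotientGroup.eq_one_iff _).2 hF
  · have h1 := (mem_center_iff.1 hc (QuotientGroup.mk' (F.subgroupOf Q) ⟨t, hTQ ht⟩))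
    rw [← hvx, ← map_mul, ← map_mul] at h1
    have h2 := QuotientGroup.eq.1 h1.symm
    have h3 : (v * t)⁻¹ * (t * v) ∈ F := h2
    have h4 := (mem_normalizer_iff.1 (hQF (mul_mem v.2 (hTQ ht))) _).1 h3
    have e : (v : G) * t * ((v * t)⁻¹ * (t * v)) * (v * t)⁻¹ = t * v * t⁻¹ * (v : G)⁻¹ := by group
    rwa [e] at h4

/-- the frame -/
structure FP [Finite G] (S : Sylow 2 G) (F T P : Subgroup G) : Prop where
  ens : ENS S
  ks : KS G
  star : ∀ g : G, vv (S : Subgroup G) ⊓ cj g (vv (S : Subgroup G)) ≠ ⊥ →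
    cj g (vv (S : Subgroup G)) ≤ centralizer (vv (S : Subgroup G) : Set G)
  F_le : F ≤ vv (S : Subgroup G)
  F_ne : F ≠ ⊥
  bad : ¬ Good (S : Subgroup G) F
  max : ∀ D : Subgroup G, D ≤ vv (S : Subgroup G) → ¬ Good (S : Subgroup G) D → Nat.card D ≤ Nat.card F
  syl : Syl T (normalizer (F : Set G))
  jT : jj (S : Subgroup G) ≤ T
  le_P : centralizer (vv (S : Subgroup G) : Set G) ⊔ T ≤ P
  P_le : P ≤ centralizer (F : Set G) ⊔ T
  P_not : ¬ P ≤ LL (S : Subgroup G)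
  min : ∀ X : Subgroup G, centralizer (vv (S : Subgroup G) : Set G) ⊔ T ≤ X → X ≤ P →
    ¬ X ≤ LL (S : Subgroup G) → X = P

/-- `V_+`: the elements of `V` centralised by `T` modulo `F` -/
def vp (S F T : Subgroup G) : Subgroup G := cmod (vv S) F T

/-- `W = ⟨V_+^P⟩` -/
def ww (S F T P : Subgroup G) : Subgroup G := ⨆ g : P, cj (g : G) (vp S F T)

/-- `U = ⟨V^P⟩` -/
def uu (S P : Subgroup G) : Subgroup G := ⨆ g : P, cj (g : G) (vv S)

/-- `K_P = C_P(W/F)` -/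
def kk (S F T P : Subgroup G) : Subgroup G := cmod P F (ww S F T P)

section Frame

variable [Finite G] {S : Sylow 2 G} {F T P : Subgroup G}

theorem le_normalizer_iSup (P X : Subgroup G) : P ≤ normalizer ((⨆ g : P, cj (g : G) X : Subgroup G) : Set G) := by
  intro p hp
  refine mem_normalizer_of_cj_le ?_
  rw [cj_le_iff]
  refine iSup_le fun g => ?_
  rw [← cj_le_iff, cj_cj]
  exact le_iSup (fun g : P => cj (g : G) X) ⟨p * g, mul_mem hp g.2⟩

namespace FP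

variable (h : FP S F T P)
include h

theorem T_le_P : T ≤ P := le_sup_right.trans h.le_P

theorem C_le_P : centralizer (vv (S : Subgroup G) : Set G) ≤ P := le_sup_left.trans h.le_P

theorem T_le_N : T ≤ normalizer (F : Set G) := h.syl.1

theorem T_two : IsPGroup 2 T := h.syl.2.1

theorem T_le_NJ : T ≤ normalizer (jj (S : Subgroup G) : Set G) := EmptyTI.le_normalizer_jj S h.T_two h.jT

theorem T_le_LL : T ≤ LL (S : Subgroup G) := h.T_le_NJ.trans (normalizer_jj_le_vv _)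

theorem base_le_LL : centralizer (vv (S : Subgroup G) : Set G) ⊔ T ≤ LL (S : Subgroup G) :=
  sup_le h.ens.centralizer_vv_le_LL h.T_le_LL

theorem P_le_N : P ≤ normalizer (F : Set G) :=
  h.P_le.trans (sup_le (centralizer_le_normalizer _) h.T_le_N)

theorem F_ne_vv : F ≠ vv (S : Subgroup G) := fun h0 => h.bad (h0 ▸ good_vv S)

theorem good_of_lt {D : Subgroup G} (h1 : F < D) (h2 : D ≤ vv (S : Subgroup G)) : Good (S : Subgroup G) D := by
  by_contra hD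
  have h3 := h.max D h2 hD
  exact h1.ne (Subgroup.eq_of_le_of_card_ge h1.le h3)

/-- a subgroup of `V` containing `F` and an element outside `F` is good -/
theorem good_of_mem {D : Subgroup G} (h1 : F ≤ D) (h2 : D ≤ vv (S : Subgroup G)) {v : G} (hv : v ∈ D) (hvF : v ∉ F) :
    Good (S : Subgroup G) D := h.good_of_lt (lt_of_le_of_ne h1 fun h0 => hvF (h0 ▸ hv)) h2

theorem vv_le_NF : vv (S : Subgroup G) ≤ normalizer (F : Set G) := by
  refine le_trans ?_ (centralizer_le_normalizer _)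
  intro v hv
  rw [mem_centralizer_iff]
  intro f hf
  exact vv_comm (h.F_le hf) hv

/-- two lines containing `F` meet in `F` -/
theorem inf_eq {g : G} (hF : F ≤ cj g (vv (S : Subgroup G))) (hg : cj g (vv (S : Subgroup G)) ≠ vv (S : Subgroup G)) :
    vv (S : Subgroup G) ⊓ cj g (vv (S : Subgroup G)) = F :=
  (Subgroup.eq_of_le_of_card_ge (le_inf h.F_le hF) (h.max _ inf_le_left (not_good_inf hg))).symm

/-! ### `V_+` -/

theorem mem_vp {v : G} : v ∈ vp (S : Subgroup G) F T ↔ v ∈ vv (S : Subgroup G) ∧ ∀ t ∈ T, t * v * t⁻¹ * v⁻¹ ∈ F := by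
  rw [vp, mem_cmod]
  constructor
  · rintro ⟨h1, -, h3⟩
    exact ⟨h1, fun t ht => comm_symm (h3 t ht)⟩
  · rintro ⟨h1, h3⟩
    exact ⟨h1, h.vv_le_NF h1, fun t ht => comm_symm (h3 t ht)⟩

omit h in
theorem vp_le : vp (S : Subgroup G) F T ≤ vv (S : Subgroup G) := cmod_le _ _ _

theorem F_le_vp : F ≤ vp (S : Subgroup G) F T := by
  intro f hf
  rw [h.mem_vp]
  refine ⟨h.F_le hf, fun t ht => ?_⟩
  exact mul_mem ((mem_normalizer_iff.1 (h.T_le_N ht) f).1 hf) (inv_mem hf)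

theorem exists_vp : ∃ v ∈ vp (S : Subgroup G) F T, v ∉ F := by
  obtain ⟨v, hv, hvF, hT⟩ := exists_fix h.T_two (isPGroup_vv (S := S)) h.T_le_LL h.T_le_N h.vv_le_NF h.F_le h.F_ne_vv
  exact ⟨v, h.mem_vp.2 ⟨hv, hT⟩, hvF⟩

theorem good_vp : Good (S : Subgroup G) (vp (S : Subgroup G) F T) := by
  obtain ⟨v, hv, hvF⟩ := h.exists_vp
  exact h.good_of_mem h.F_le_vp vp_le hv hvF

/-- `C_G(V)T` centralises `V_+/F` -/
theorem base_vp {y : G} (hy : y ∈ centralizer (vv (S : Subgroup G) : Set G) ⊔ T) {v : G}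
    (hv : v ∈ vp (S : Subgroup G) F T) : y * v * y⁻¹ * v⁻¹ ∈ F := by
  have h1 : centralizer (vv (S : Subgroup G) : Set G) ⊔ T ≤ cmod ⊤ F (vp (S : Subgroup G) F T) := by
    refine sup_le ?_ ?_
    · intro c hc
      have hcN : c ∈ normalizer (F : Set G) := h.P_le_N (h.C_le_P hc)
      refine mem_cmod.2 ⟨mem_top _, hcN, fun w hw => ?_⟩
      have h2 := mem_centralizer_iff.1 hc w (vp_le hw)
      rw [← h2, mul_inv_cancel_right, mul_inv_cancel]
      exact one_mem _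
    · intro t ht
      exact mem_cmod.2 ⟨mem_top _, h.T_le_N ht, fun w hw => (h.mem_vp.1 hw).2 t ht⟩
  exact (mem_cmod.1 (h1 hy)).2.2 v hv

/-! ### `W`, `U` -/

omit h in
theorem cj_vp_le_ww {g : G} (hg : g ∈ P) : cj g (vp (S : Subgroup G) F T) ≤ ww (S : Subgroup G) F T P :=
  le_iSup (fun g : P => cj (g : G) (vp (S : Subgroup G) F T)) ⟨g, hg⟩

omit h in
theorem cj_vv_le_uu {g : G} (hg : g ∈ P) : cj g (vv (S : Subgroup G)) ≤ uu (S : Subgroup G) P :=
  le_iSup (fun g : P => cj (g : G) (vv (S : Subgroup G))) ⟨g, hg⟩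

omit h in
theorem vp_le_ww : vp (S : Subgroup G) F T ≤ ww (S : Subgroup G) F T P := by
  have h1 := cj_vp_le_ww (S := S) (F := F) (T := T) (one_mem P)
  rwa [cj_one] at h1

omit h in
theorem vv_le_uu : vv (S : Subgroup G) ≤ uu (S : Subgroup G) P := by
  have h1 := cj_vv_le_uu (S := S) (one_mem P)
  rwa [cj_one] at h1

omit h in
theorem ww_le_uu : ww (S : Subgroup G) F T P ≤ uu (S : Subgroup G) P :=
  iSup_le fun g => (cj_mono _ vp_le).trans (cj_vv_le_uu g.2)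

omit h in
theorem P_le_ww : P ≤ normalizer (ww (S : Subgroup G) F T P : Set G) := le_normalizer_iSup _ _

omit h in
theorem P_le_uu : P ≤ normalizer (uu (S : Subgroup G) P : Set G) := le_normalizer_iSup _ _

theorem F_le_ww : F ≤ ww (S : Subgroup G) F T P := h.F_le_vp.trans vp_le_ww

theorem F_le_cj {g : G} (hg : g ∈ P) : F ≤ cj g (vv (S : Subgroup G)) := by
  rw [← cj_eq_of_mem_normalizer (h.P_le_N hg)]
  exact cj_mono g h.F_le

theorem uu_comm : uu (S : Subgroup G) P ≤ centralizer (uu (S : Subgroup G) P : Set G) := by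
  have key : ∀ a b : P, cj (a : G) (vv (S : Subgroup G)) ≤ centralizer (cj (b : G) (vv (S : Subgroup G)) : Set G) := by
    intro a b
    have h1 : vv (S : Subgroup G) ⊓ cj ((b : G)⁻¹ * a) (vv (S : Subgroup G)) ≠ ⊥ := by
      intro h0
      apply h.F_ne
      rw [← le_bot_iff, ← h0]
      exact le_inf h.F_le (h.F_le_cj (mul_mem (inv_mem b.2) a.2))
    have h2 := cj_mono (b : G) (h.star _ h1)
    rwa [cj_cj, mul_inv_cancel_left, cj_centralizer] at h2
  refine iSup_le fun a => ?_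
  rw [le_centralizer_iff]
  refine iSup_le fun b => ?_
  exact key b a

theorem uu_comm' {x y : G} (hx : x ∈ uu (S : Subgroup G) P) (hy : y ∈ uu (S : Subgroup G) P) : x * y = y * x :=
  mem_centralizer_iff.1 (h.uu_comm hy) x hx

theorem uu_sq {x : G} (hx : x ∈ uu (S : Subgroup G) P) : x * x = 1 := by
  rw [uu] at hx
  refine Subgroup.iSup_induction' (fun g : P => cj (g : G) (vv (S : Subgroup G))) (C := fun x _ => x * x = 1)
    (fun g x hx => ?_) (one_mul 1) (fun x y hx hy hx1 hy1 => ?_) hx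
  · obtain ⟨v, hv, rfl⟩ := hx
    rw [← map_mul, vv_mul_self hv, map_one]
  · have h1 : x * y = y * x := h.uu_comm' (P := P) hx hy
    calc x * y * (x * y) = x * (y * x) * y := by group
      _ = x * (x * y) * y := by rw [h1]
      _ = (x * x) * (y * y) := by group
      _ = 1 := by rw [hx1, hy1, one_mul]

theorem ww_comm {x y : G} (hx : x ∈ ww (S : Subgroup G) F T P) (hy : y ∈ ww (S : Subgroup G) F T P) :
    x * y = y * x := h.uu_comm' (ww_le_uu hx) (ww_le_uu hy)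

theorem ww_sq {x : G} (hx : x ∈ ww (S : Subgroup G) F T P) : x * x = 1 := h.uu_sq (ww_le_uu hx)

theorem uu_two : IsPGroup 2 (uu (S : Subgroup G) P) := by
  rintro ⟨x, hx⟩
  refine ⟨1, Subtype.ext ?_⟩
  show x ^ 2 ^ 1 = 1
  rw [pow_one, sq, h.uu_sq hx]

/-! ### `K_P` -/

omit h in
theorem kk_le_P : kk (S : Subgroup G) F T P ≤ P := cmod_le _ _ _

theorem mem_kk {g : G} : g ∈ kk (S : Subgroup G) F T P ↔
    g ∈ P ∧ ∀ w ∈ ww (S : Subgroup G) F T P, g * w * g⁻¹ * w⁻¹ ∈ F := by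
  rw [kk, mem_cmod]
  exact ⟨fun h1 => ⟨h1.1, h1.2.2⟩, fun h1 => ⟨h1.1, h.P_le_N h1.1, h1.2⟩⟩

theorem P_le_kk : P ≤ normalizer (kk (S : Subgroup G) F T P : Set G) := by
  intro p hp
  rw [mem_normalizer_iff_cj, kk, cj_cmod, cj_eq_of_mem_normalizer (le_normalizer hp),
    cj_eq_of_mem_normalizer (h.P_le_N hp), cj_eq_of_mem_normalizer (P_le_ww hp)]

/-- `K_P` fixes all lines on the base point -/
theorem kk_fix {k g : G} (hk : k ∈ kk (S : Subgroup G) F T P) (hg : g ∈ P) :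
    cj k (cj g (vv (S : Subgroup G))) = cj g (vv (S : Subgroup G)) := by
  -- `g⁻¹kg ∈ K_P` normalises `V_+`
  have hk1 : g⁻¹ * k * g ∈ kk (S : Subgroup G) F T P := by
    have h1 := (mem_normalizer_iff.1 (h.P_le_kk (inv_mem hg)) k).1 hk
    rwa [inv_inv] at h1
  have h2 : g⁻¹ * k * g ∈ normalizer (vp (S : Subgroup G) F T : Set G) := by
    refine mem_normalizer_of_cj_le ?_
    rintro _ ⟨v, hv, rfl⟩
    have h3 := (h.mem_kk.1 hk1).2 v (vp_le_ww hv)
    have e : (MulAut.conj (g⁻¹ * k * g)).toMonoidHom v =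
      (g⁻¹ * k * g * v * (g⁻¹ * k * g)⁻¹ * v⁻¹) * v := by
      simp [mul_assoc]
    rw [e]
    exact mul_mem (h.F_le_vp h3) hv
  have h3 := h.good_vp.normalizer_le vp_le h2
  have h4 := cj_eq_of_mem_normalizer h3
  calc cj k (cj g (vv (S : Subgroup G))) = cj g (cj (g⁻¹ * k * g) (vv (S : Subgroup G))) := by
        rw [cj_cj, cj_cj]; congr 1; group
    _ = cj g (vv (S : Subgroup G)) := by rw [h4]

theorem kk_le_LL : kk (S : Subgroup G) F T P ≤ LL (S : Subgroup G) := by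
  intro k hk
  have h1 := h.kk_fix hk (one_mem P)
  rw [cj_one] at h1
  exact mem_normalizer_iff_cj.2 h1

theorem uu_le_kk : uu (S : Subgroup G) P ⊓ P ≤ kk (S : Subgroup G) F T P := by
  rintro x ⟨hx, hxP⟩
  rw [h.mem_kk]
  refine ⟨hxP, fun w hw => ?_⟩
  rw [h.uu_comm' hx (ww_le_uu hw), mul_inv_cancel_right, mul_inv_cancel]
  exact one_mem _

theorem T_dvd : ¬ 2 ∣ T.relIndex P := by
  have h1 := syl_not_dvd h.syl
  intro h2
  exact h1 (h2.trans (Dvd.intro _ (relIndex_mul_relIndex T P _ h.T_le_P h.P_le_N)))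

end FP

end Frame

end Cfsg.Agent.OddCyclic.EmpNSBase
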