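import Cfsg.Agent.OddCyclic.EmpNSDefs
import Cfsg.Agent.OddCyclic.KZeroCongr
import Cfsg.Agent.OddCyclic.CompBasic

/-!
# The action of `P` on a section `W/F`

* `Rp P W F ρ r π`: `r : P →* H`, `π : W →* M` surjective, `ρ : H →* MulAut M` faithful, the action of `P` on `W/F`;
* `exists_rp`;
* `not_dvd_ker`: `r | |K|`, `K` a nonabelian simple subgroup of an image of `P` (odd Sylow subgroups cyclic) implies
  that the kernel is an `r'`-group.
-/

set_option autoImplicit false
set_option linter.unusedSectionVars false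

namespace Cfsg.Agent.OddCyclic.EmpNSRep

open Subgroup
open Cfsg.Agent.OddCyclic.T1Defs (OddCyc)
open Cfsg.Agent.OddCyclic.CompBasic
open Cfsg.Agent.OddCyclic.KZeroCongr (KS)
open Cfsg.Agent.OddCyclic.PumpMain (KZero)

universe u v

variable {G : Type u} [Group G]

/-- the action of `P` on `W/F` -/
structure Rp (P W F : Subgroup G) {H : Type v} [Group H] {M : Type v} [CommGroup M] (ρ : H →* MulAut M)
    (r : P →* H) (π : W →* M) : Prop where
  inj : Function.Injective ρ
  r_surj : Function.Surjective r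
  π_surj : Function.Surjective π
  π_one : ∀ w : W, π w = 1 ↔ (w : G) ∈ F
  act : ∀ (p : P) (w : W) (hw : (p : G) * w * (p : G)⁻¹ ∈ W), ρ (r p) (π w) = π ⟨(p : G) * w * (p : G)⁻¹, hw⟩

/-- conjugation by `p ∈ N(W)` on `W` -/
def cw (W : Subgroup G) (p : G) (hp : p ∈ normalizer (W : Set G)) : W ≃* W where
  toFun w := ⟨p * w * p⁻¹, (mem_normalizer_iff.1 hp _).1 w.2⟩
  invFun w := ⟨p⁻¹ * w * p, by
    have h1 := (mem_normalizer_iff.1 (inv_mem hp) (w : G)).1 w.2
    rwa [inv_inv] at h1⟩
  left_inv w := by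
    apply Subtype.ext
    show p⁻¹ * (p * w * p⁻¹) * p = w
    group
  right_inv w := by
    apply Subtype.ext
    show p * (p⁻¹ * w * p) * p⁻¹ = w
    group
  map_mul' a b := by
    apply Subtype.ext
    show p * (a * b) * p⁻¹ = (p * a * p⁻¹) * (p * b * p⁻¹)
    group

theorem cw_coe (W : Subgroup G) (p : G) (hp : p ∈ normalizer (W : Set G)) (w : W) :
    (cw W p hp w : G) = p * w * p⁻¹ := rfl

theorem exists_rp [Finite G] {P W F : Subgroup G} (hPW : P ≤ normalizer (W : Set G))
    (hPF : P ≤ normalizer (F : Set G)) (hab : ∀ a ∈ W, ∀ b ∈ W, a * b = b * a) :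
    ∃ (M : Type u) (_ : CommGroup M) (_ : Finite M) (H : Type u) (_ : Group H) (_ : Finite H)
      (ρ : H →* MulAut M) (r : P →* H) (π : W →* M), Rp P W F ρ r π := by
  let _ : CommGroup W := { (inferInstance : Group W) with
    mul_comm := fun a b => Subtype.ext (hab a a.2 b b.2) }
  let N : Subgroup W := F.subgroupOf W
  have hN : N.Normal := inferInstance
  have hmap : ∀ (p : G) (hp : p ∈ P), N.map (cw W p (hPW hp)).toMonoidHom = N := by
    have h1 : ∀ (p : G) (hp : p ∈ P), N.map (cw W p (hPW hp)).toMonoidHom ≤ N := by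
      rintro p hp _ ⟨w, hw, rfl⟩
      exact (mem_normalizer_iff.1 (hPF hp) _).1 hw
    intro p hp
    refine le_antisymm (h1 p hp) fun w hw => ?_
    refine ⟨(cw W p (hPW hp)).symm w, ?_, (cw W p (hPW hp)).apply_symm_apply w⟩
    show p⁻¹ * w * p ∈ F
    have h2 := (mem_normalizer_iff.1 (hPF (inv_mem hp)) (w : G)).1 hw
    rwa [inv_inv] at h2
  let φ : P →* MulAut (W ⧸ N) :=
    { toFun := fun p => QuotientGroup.congr N N (cw W p (hPW p.2)) (hmap p p.2)
      map_one' := by
        ext x
        obtain ⟨w, rfl⟩ := QuotientGroup.mk_surjective x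
        show ((cw W (1 : G) _ w : W) : W ⧸ N) = (w : W ⧸ N)
        congr 1
        apply Subtype.ext
        rw [cw_coe]
        simp
      map_mul' := fun p q => by
        ext x
        obtain ⟨w, rfl⟩ := QuotientGroup.mk_surjective x
        show ((cw W ((p : G) * q) _ w : W) : W ⧸ N) = ((cw W (p : G) _ (cw W (q : G) _ w) : W) : W ⧸ N)
        congr 1
        apply Subtype.ext
        rw [cw_coe, cw_coe, cw_coe]
        group }
  refine ⟨W ⧸ N, inferInstance, inferInstance, φ.range, inferInstance, inferInstance, φ.range.subtype,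
    φ.rangeRestrict, QuotientGroup.mk' N, φ.range.subtype_injective, φ.rangeRestrict_surjective,
    QuotientGroup.mk'_surjective N, fun w => ?_, fun p w hw => rfl⟩
  exact QuotientGroup.eq_one_iff w

/-! ### The kernel -/

theorem oddCyc_of_surj {A : Type u} {B : Type v} [Group A] [Finite A] [Group B] (h : OddCyc A) (φ : A →* B)
    (hφ : Function.Surjective φ) : OddCyc B := by
  have e : A ⧸ φ.ker ≃* B := QuotientGroup.quotientKerEquivOfSurjective φ hφ
  have hB : Finite B := Finite.of_surjective φ hφ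
  exact oddCyc_of_injective (oddCyc_quotient h φ.ker) e.symm.toMonoidHom e.symm.injective

theorem tameSec_of_surj {A : Type u} {B : Type v} [Group A] [Group B] (h : UniStruct.TameSec A) (φ : A →* B)
    (hφ : Function.Surjective φ) : UniStruct.TameSec B := by
  have e : A ⧸ φ.ker ≃* B := QuotientGroup.quotientKerEquivOfSurjective φ hφ
  exact (h.quot (N := φ.ker)).of_injective (f := e.symm.toMonoidHom) e.symm.injective

/-- if `K` is a nonabelian simple subgroup of an image of `P` and `r` an odd prime divisor of `|K|` then the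
kernel is an `r'`-group -/
theorem not_dvd_ker {P : Type u} {H : Type v} [Group P] [Finite P] [Group H] (hc : OddCyc P) (φ : P →* H)
    {K : Subgroup H} (hKφ : K ≤ φ.range) (hK : IsSimpleGroup K) (hab : ∃ x y : K, x * y ≠ y * x) {r : ℕ} (hr : r.Prime)
    (hr2 : r ≠ 2) (hrK : r ∣ Nat.card K) : ¬ r ∣ Nat.card φ.ker := by
  have hrf : Fact r.Prime := ⟨hr⟩
  intro hrk
  -- a minimal `M` with `φ(M) = K`
  obtain ⟨M, hM, hmin⟩ : ∃ M : Subgroup P, M.map φ = K ∧ ∀ N : Subgroup P, N ≤ M → N.map φ = K → N = M := by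
    obtain ⟨M, hM, hmin⟩ := Set.Finite.exists_minimal (s := {M : Subgroup P | M.map φ = K}) (Set.toFinite _)
      ⟨K.comap φ, by rw [Set.mem_ofPred_eq, map_comap_eq, inf_eq_right.2 hKφ]⟩
    exact ⟨M, hM, fun N h1 h2 => le_antisymm h1 (hmin h2 h1)⟩
  -- `K` is perfect
  have hKp : ⁅K, K⁆ = K := by
    have h1 : (⁅(⊤ : Subgroup K), ⊤⁆ : Subgroup K).Normal := inferInstance
    rcases hK.eq_bot_or_eq_top_of_normal _ h1 with h2 | h2
    · exfalso
      obtain ⟨x, y, hxy⟩ := hab
      apply hxy
      have h3 : x * y * x⁻¹ * y⁻¹ ∈ ⁅(⊤ : Subgroup K), ⊤⁆ := commutator_mem_commutator (mem_top x) (mem_top y)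
      rw [h2, mem_bot] at h3
      calc x * y = x * y * x⁻¹ * y⁻¹ * (y * x) := by group
        _ = y * x := by rw [h3, one_mul]
    · have h3 := congrArg (Subgroup.map K.subtype) h2
      rw [Subgroup.map_commutator, ← MonoidHom.range_eq_map, range_subtype] at h3
      exact h3
  have hMp : ⁅M, M⁆ = M := by
    refine hmin _ (commutator_le.2 fun a ha b hb => ?_) ?_
    · exact mul_mem (mul_mem (mul_mem ha hb) (inv_mem ha)) (inv_mem hb)
    · rw [Subgroup.map_commutator, hM, hKp]
  have hMperf : Group.IsPerfect M := by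
    refine ⟨?_⟩
    apply Subgroup.map_injective M.subtype_injective
    rw [commutator_def, Subgroup.map_commutator, ← MonoidHom.range_eq_map, range_subtype, hMp]
  -- `D = M ∩ ker`
  let ψ : M →* H := φ.comp M.subtype
  have hψ : ψ.range = K := by
    rw [MonoidHom.range_comp, range_subtype, hM]
  obtain ⟨D, hD⟩ : ∃ D, D = ψ.ker := ⟨_, rfl⟩
  have hDn : D.Normal := hD ▸ inferInstance
  have hcM : OddCyc M := oddCyc_subgroup hc M
  have hrD : ¬ r ∣ Nat.card D := by
    intro hrD
    obtain ⟨Q⟩ : Nonempty (Sylow r D) := inferInstance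
    -- Frattini
    have h1 : normalizer (((Q : Subgroup D).map D.subtype : Subgroup M) : Set M) ⊔ D = ⊤ :=
      Sylow.normalizer_sup_eq_top Q
    have h2 : normalizer (((Q : Subgroup D).map D.subtype : Subgroup M) : Set M) = ⊤ := by
      have h3 : (normalizer (((Q : Subgroup D).map D.subtype : Subgroup M) : Set M)).map ψ = K := by
        have h4 := congrArg (Subgroup.map ψ) h1
        rw [Subgroup.map_sup, ← MonoidHom.range_eq_map, hψ] at h4
        have h5 : D.map ψ = ⊥ := by
          exact (Subgroup.map_eq_bot_iff D).2 hD.le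
        rwa [h5, sup_bot_eq] at h4
      have h4 := hmin ((normalizer (((Q : Subgroup D).map D.subtype : Subgroup M) : Set M)).map M.subtype)
        (map_subtype_le _) (by rw [Subgroup.map_map]; exact h3)
      apply Subgroup.map_injective M.subtype_injective
      rw [h4, ← MonoidHom.range_eq_map, range_subtype]
    have h3 : ((Q : Subgroup D).map D.subtype : Subgroup M).Normal := normalizer_eq_top_iff.1 h2
    have h4 : IsPGroup r ((Q : Subgroup D).map D.subtype : Subgroup M) := Q.isPGroup'.map _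
    have h5 : IsCyclic ((Q : Subgroup D).map D.subtype : Subgroup M) := isCyclic_of_isPGroup hcM hr hr2 h4
    have h6 := le_center_of_isCyclic hMperf h3
    have h7 : r ∣ Nat.card (Q : Subgroup D) := by
      have h8 := Q.card_eq_multiplicity
      rw [h8]
      exact dvd_pow_self r (hr.factorization_pos_of_dvd (Nat.card_pos).ne' hrD).ne'
    obtain ⟨x, hx⟩ := exists_prime_orderOf_dvd_card' (G := (Q : Subgroup D)) r h7
    refine false_of_center hcM hMperf hr hr2 (z := ((x : D) : M)) (h6 ⟨x, x.2, rfl⟩) ?_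
    rw [orderOf_coe, orderOf_coe, hx]
  -- an element of order `r` in `M`
  have hrM : r ∣ Nat.card M := by
    refine hrK.trans ?_
    rw [← hM]
    exact card_dvd_of_surjective (φ.subgroupMap M) (φ.subgroupMap_surjective M)
  obtain ⟨x, hx⟩ := exists_prime_orderOf_dvd_card' (G := M) r hrM
  have h1 : (x : P) ∈ φ.ker := mem_of_orderOf hc hr hr2 inferInstance hrk (by rw [orderOf_coe, hx])
  apply hrD
  have h2 : x ∈ D := by
    rw [hD]
    exact h1
  have h3 : orderOf (⟨x, h2⟩ : D) ∣ Nat.card D := orderOf_dvd_natCard _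
  rwa [Subgroup.orderOf_mk, hx] at h3

/-- nonabelian simple subgroups of images of proper subgroups -/
theorem kZero_of_surj (hK : KS G) {A : Subgroup G} (hA : A ≠ ⊤) {X : Type v} [Group X] (π : A →* X)
    (hπ : Function.Surjective π) {J : Subgroup X} (hs : IsSimpleGroup J) (hn : ∃ a b : J, a * b ≠ b * a) :
    KZero J := by
  let B : Subgroup G := (J.comap π).map A.subtype
  have hBA : B ≤ A := by
    rintro _ ⟨b, -, rfl⟩
    exact b.2
  have hB : B ≠ ⊤ := fun h => hA (top_le_iff.1 (h ▸ hBA))
  have hBJ : ∀ b : B, π ⟨b, hBA b.2⟩ ∈ J := by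
    rintro ⟨_, a, ha, rfl⟩
    exact ha
  let ψ : B →* J :=
    { toFun := fun b => ⟨π ⟨b, hBA b.2⟩, hBJ b⟩
      map_one' := by
        apply Subtype.ext
        exact map_one π
      map_mul' := fun a b => by
        apply Subtype.ext
        exact map_mul π ⟨a, hBA a.2⟩ ⟨b, hBA b.2⟩ }
  have hψ : Function.Surjective ψ := by
    rintro ⟨j, hj⟩
    obtain ⟨a, rfl⟩ := hπ j
    exact ⟨⟨a, a, hj, rfl⟩, rfl⟩
  exact hK.of_surj hB hs hn ψ hψ

end Cfsg.Agent.OddCyclic.EmpNSRep
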