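import Mathlib
import Cfsg.Agent.OddCyclic.FFBasic

/-!
# (STB) of the case (Empty), part III: free modules from vectors fixed by a Borel subgroup

* `ph_inj`, `card_fix`: `U` a 2-group acting on the elementary abelian 2-group `V`, `D ≤ V` with injective norm: the
  submodule generated by `D` is free of rank `dim D`; the fixed points of `J ≤ U` have order `|D| ^ |U : J|`.
* `stb`: `X = B ∪ U w B`, `V₀ ≤ C_V(B)`, `V₀ ∩ C_V(X) = 1`: `V` has a free `U`-submodule of rank `dim V₀` in `⟨V₀ ^ X⟩`.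
-/

set_option autoImplicit false
set_option maxHeartbeats 400000

namespace Cfsg.Agent.OddCyclic.EmpSTB

open Cfsg.Agent.OddCyclic.T1Module Cfsg.Agent.OddCyclic.FFBasic

section free

variable {U V : Type*} [Group U] [CommGroup V] [Fintype U] (σ : U →* MulAut V) (D : Subgroup V)

/-- The natural map from the free module -/
def ph : (U → D) →* V where
  toFun f := ∏ u, σ u (f u : V)
  map_one' := by simp
  map_mul' f g := by simp [Finset.prod_mul_distrib]

theorem ph_apply (f : U → D) : ph σ D f = ∏ u, σ u (f u : V) := rfl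

/-- translation -/
def tr {A : Type*} (x : U) (f : U → A) : U → A := fun u => f (x⁻¹ * u)

omit [Fintype U] in
theorem tr_mul {A : Type*} (x y : U) (f : U → A) : tr (x * y) f = tr x (tr y f) := by
  funext u
  simp [tr, mul_assoc]

omit [Fintype U] in
theorem tr_one {A : Type*} (f : U → A) : tr 1 f = f := by
  funext u
  simp [tr]

theorem ph_tr (x : U) (f : U → D) : ph σ D (tr x f) = σ x (ph σ D f) := by
  rw [ph_apply, ph_apply, map_prod]
  refine Fintype.prod_equiv (Equiv.mulLeft x⁻¹) _ _ fun u => ?_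
  show σ u (f (x⁻¹ * u) : V) = σ x (σ (x⁻¹ * u) (f (x⁻¹ * u) : V))
  rw [← MulAut.mul_apply, ← map_mul, mul_inv_cancel_left]

/-- `U` acts on the kernel of `ph` -/
def act : MulAction U (ph σ D).ker where
  smul x f := ⟨tr x (f : U → D), by
    rw [MonoidHom.mem_ker, ph_tr, show ph σ D (f : U → D) = 1 from f.2, map_one]⟩
  one_smul f := Subtype.ext (tr_one _)
  mul_smul x y f := Subtype.ext (tr_mul x y _)

variable [Finite V]

theorem ph_inj (hU : IsPGroup 2 U) (hV : ∀ v : V, v * v = 1) (hD : ∀ d ∈ D, ∏ u, σ u d = 1 → d = 1) :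
    Function.Injective (ph σ D) := by
  haveI : Fact (Nat.Prime 2) := ⟨Nat.prime_two⟩
  rw [injective_iff_map_eq_one]
  intro f hf
  by_contra hne
  letI := act σ D
  haveI : Finite (U → D) := inferInstance
  have hpK : IsPGroup 2 (ph σ D).ker := by
    intro g
    refine ⟨1, Subtype.ext (funext fun u => Subtype.ext ?_)⟩
    simp only [pow_one, sq]
    exact hV _
  have hnt : Nontrivial (ph σ D).ker := ⟨⟨⟨f, hf⟩, 1, fun h => hne (congrArg Subtype.val h)⟩⟩
  have hdvd : 2 ∣ Nat.card (ph σ D).ker := by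
    obtain ⟨n, hn, hc⟩ := hpK.nontrivial_iff_card.mp hnt
    rw [hc]
    exact dvd_pow_self 2 (by omega)
  obtain ⟨g, hg, hg1⟩ := hU.exists_fixed_point_of_prime_dvd_card_of_fixed_point (ph σ D).ker hdvd
    (a := (1 : (ph σ D).ker)) (fun x => Subtype.ext (funext fun u => rfl))
  apply hg1
  have hcst : ∀ u, (g : U → D) u = (g : U → D) 1 := by
    intro u
    have h := congrFun (congrArg Subtype.val (hg u⁻¹)) 1
    change (g : U → D) (u⁻¹⁻¹ * 1) = (g : U → D) 1 at h
    rwa [inv_inv, mul_one] at h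
  have h1 : (((g : U → D) 1 : D) : V) = 1 := by
    refine hD _ ((g : U → D) 1).2 ?_
    have h := g.2
    rw [MonoidHom.mem_ker, ph_apply] at h
    rw [← h]
    exact Finset.prod_congr rfl fun u _ => by rw [hcst u]
  refine (Subtype.ext (funext fun u => Subtype.ext ?_)).symm
  rw [hcst u, h1]
  rfl

/-- functions constant on the cosets `J u` -/
def fixEquiv {A : Type*} (J : Subgroup U) :
    {f : U → A // ∀ x ∈ J, tr x f = f} ≃ (Quotient (QuotientGroup.rightRel J) → A) where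
  toFun f := fun q => Quotient.liftOn' q (f : U → A) (by
    intro u v h
    have h' : v * u⁻¹ ∈ J := QuotientGroup.rightRel_apply.mp h
    have h1 := congrFun (f.2 _ h') v
    rw [← h1]
    simp [tr])
  invFun g := ⟨fun u => g (Quotient.mk'' u), by
    intro x hx
    funext u
    show g _ = g _
    congr 1
    refine Quotient.sound' ?_
    refine QuotientGroup.rightRel_apply.mpr ?_
    simpa using hx⟩
  left_inv f := by
    ext u
    rfl
  right_inv g := by
    funext q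
    induction q using Quotient.inductionOn'
    rfl

theorem card_fix (hU : IsPGroup 2 U) (hV : ∀ v : V, v * v = 1) (hD : ∀ d ∈ D, ∏ u, σ u d = 1 → d = 1)
    (J : Subgroup U) : Nat.card ((ph σ D).range ⊓ CS σ J : Subgroup V) = Nat.card D ^ J.index := by
  have hinj := ph_inj σ D hU hV hD
  have e : {f : U → D // ∀ x ∈ J, tr x f = f} ≃ ((ph σ D).range ⊓ CS σ J : Subgroup V) := by
    refine Equiv.ofBijective (fun f => ⟨ph σ D f.1, ⟨⟨f.1, rfl⟩, fun x hx => ?_⟩⟩) ⟨?_, ?_⟩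
    · rw [← ph_tr, f.2 x hx]
    · intro f g h
      exact Subtype.ext (hinj (congrArg Subtype.val h))
    · rintro ⟨_, ⟨f, rfl⟩, h⟩
      refine ⟨⟨f, fun x hx => hinj ?_⟩, rfl⟩
      rw [ph_tr]
      exact h x hx
  rw [← Nat.card_congr e, Nat.card_congr (fixEquiv J), Nat.card_fun]
  congr 1
  rw [Nat.card_congr (QuotientGroup.quotientRightRelEquivQuotientLeftRel J)]
  rfl

theorem card_range (hU : IsPGroup 2 U) (hV : ∀ v : V, v * v = 1) (hD : ∀ d ∈ D, ∏ u, σ u d = 1 → d = 1) :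
    Nat.card (ph σ D).range = Nat.card D ^ Nat.card U := by
  have h := card_fix σ D hU hV hD ⊥
  rw [Subgroup.index_bot] at h
  rw [← h]
  congr 2
  refine (inf_eq_left.mpr ?_).symm
  intro v _ x hx
  rw [Subgroup.mem_bot.mp hx, map_one]
  rfl

end free

section borel

variable {H V : Type*} [Group H] [CommGroup V] [Finite V] [Finite H] (ρ : H →* MulAut V)

omit [Finite V] in
/-- The sum over `X / B` of a vector fixed by `B` is fixed by `X`. -/
theorem sum_fixed {X B U : Subgroup H} {w : H} [Fintype U] (hUX : U ≤ X) (hw : w ∈ X)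
    (hcov : ∀ x ∈ X, x ∈ B ∨ ∃ u ∈ U, (u * w)⁻¹ * x ∈ B) (hwB : ∀ u ∈ U, u * w ∉ B)
    (hinj : ∀ u ∈ U, w⁻¹ * u * w ∈ B → u = 1) {v : V} (hv : v ∈ CS ρ B) :
    v * ∏ u : U, ρ (u : H) (ρ w v) ∈ CS ρ X := by
  classical
  let g : Option U → H := fun i => i.elim 1 fun u => (u : H) * w
  have hg : ∀ i, g i ∈ X := by
    intro i
    cases i with
    | none => exact X.one_mem
    | some u => exact X.mul_mem (hUX u.2) hw
  have hcov' : ∀ x ∈ X, ∃ j, (g j)⁻¹ * x ∈ B := by
    intro x hx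
    rcases hcov x hx with h | ⟨u, hu, h⟩
    · exact ⟨none, by show (1 : H)⁻¹ * x ∈ B; rwa [inv_one, one_mul]⟩
    · exact ⟨some ⟨u, hu⟩, h⟩
  have hinj' : ∀ i j, (g i)⁻¹ * g j ∈ B → i = j := by
    intro i j h
    cases i with
    | none =>
      cases j with
      | none => rfl
      | some u =>
        exfalso
        refine hwB u u.2 ?_
        have : (1 : H)⁻¹ * ((u : H) * w) ∈ B := h
        rwa [inv_one, one_mul] at this
    | some u =>
      cases j with
      | none =>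
        exfalso
        refine hwB u u.2 ?_
        have : ((u : H) * w)⁻¹ * 1 ∈ B := h
        rw [mul_one] at this
        exact (B.inv_mem_iff).mp this
      | some u' =>
        have h1 : ((u : H) * w)⁻¹ * ((u' : H) * w) ∈ B := h
        have h2 : w⁻¹ * ((u : H)⁻¹ * u') * w ∈ B := by
          rwa [show w⁻¹ * ((u : H)⁻¹ * u') * w = ((u : H) * w)⁻¹ * ((u' : H) * w) by group]
        have h3 := hinj _ (U.mul_mem (U.inv_mem u.2) u'.2) h2
        exact congrArg some (Subtype.ext (inv_mul_eq_one.mp h3))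
  have hprod : v * ∏ u : U, ρ (u : H) (ρ w v) = ∏ i : Option U, ρ (g i) v := by
    rw [Fintype.prod_option]
    congr 1
    · show v = ρ 1 v
      rw [map_one]; rfl
    · refine Finset.prod_congr rfl fun u _ => ?_
      show ρ (u : H) (ρ w v) = ρ ((u : H) * w) v
      rw [map_mul]; rfl
  rw [hprod]
  intro x hx
  choose π hπ using fun i => hcov' (x * g i) (X.mul_mem hx (hg i))
  have hπi : Function.Injective π := by
    intro i j hij
    refine hinj' i j ?_
    have h1 := hπ i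
    have h2 := hπ j
    rw [← hij] at h2
    have := B.mul_mem (B.inv_mem h1) h2
    rwa [show ((g (π i))⁻¹ * (x * g i))⁻¹ * ((g (π i))⁻¹ * (x * g j)) = (g i)⁻¹ * g j by group] at this
  rw [map_prod]
  refine Fintype.prod_bijective π (Finite.injective_iff_bijective.mp hπi) _ _ fun i => ?_
  have h1 : ρ ((g (π i))⁻¹ * (x * g i)) v = v := hv _ (hπ i)
  rw [← MulAut.mul_apply, ← map_mul]
  conv_rhs => rw [← h1]
  rw [← MulAut.mul_apply, ← map_mul, mul_inv_cancel_left]

theorem stb (hV : ∀ v : V, v * v = 1) {X B U : Subgroup H} {w : H} (hUX : U ≤ X) (hw : w ∈ X) (hU : IsPGroup 2 U)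
    (hcov : ∀ x ∈ X, x ∈ B ∨ ∃ u ∈ U, (u * w)⁻¹ * x ∈ B) (hwB : ∀ u ∈ U, u * w ∉ B)
    (hinj : ∀ u ∈ U, w⁻¹ * u * w ∈ B → u = 1) {V₀ : Subgroup V} (hV₀ : V₀ ≤ CS ρ B) (hd : V₀ ⊓ CS ρ X = ⊥) :
    ∃ M : Subgroup V, (∀ W : Subgroup V, V₀ ≤ W → (∀ x ∈ X, ∀ v ∈ W, ρ x v ∈ W) → M ≤ W) ∧
      (∀ u ∈ U, ∀ m ∈ M, ρ u m ∈ M) ∧ Nat.card M = Nat.card V₀ ^ Nat.card U ∧
      ∀ J ≤ U, Nat.card (M ⊓ CS ρ J : Subgroup V) = Nat.card V₀ ^ J.relIndex U := by
  classical
  letI : Fintype U := Fintype.ofFinite U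
  let σ : U →* MulAut V := ρ.comp U.subtype
  let D : Subgroup V := V₀.map (ρ w : V ≃* V).toMonoidHom
  have hcD : Nat.card D = Nat.card V₀ := Subgroup.card_map_of_injective (MulEquiv.injective _)
  have hD : ∀ d ∈ D, ∏ u, σ u d = 1 → d = 1 := by
    rintro _ ⟨v, hv, rfl⟩ h
    have h1 := sum_fixed ρ hUX hw hcov hwB hinj (hV₀ hv)
    have h2 : ∏ u : U, ρ (u : H) (ρ w v) = 1 := h
    rw [h2, mul_one] at h1
    have h3 : v ∈ V₀ ⊓ CS ρ X := ⟨hv, h1⟩
    rw [hd, Subgroup.mem_bot] at h3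
    show ρ w v = 1
    rw [h3, map_one]
  refine ⟨(ph σ D).range, ?_, ?_, ?_, ?_⟩
  · rintro W hW hinv _ ⟨f, rfl⟩
    rw [ph_apply]
    refine Subgroup.prod_mem _ fun u _ => hinv _ (hUX u.2) _ ?_
    obtain ⟨v, hv, hv'⟩ := (f u).2
    rw [← hv']
    exact hinv _ hw _ (hW hv)
  · rintro u hu _ ⟨f, rfl⟩
    exact ⟨tr (⟨u, hu⟩ : U) f, ph_tr σ D _ f⟩
  · rw [card_range σ D hU hV hD, hcD]
  · intro J hJ
    have e : CS ρ J = CS σ (J.subgroupOf U) := by
      ext v
      constructor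
      · intro h x hx
        exact h _ hx
      · intro h x hx
        exact h ⟨x, hJ hx⟩ hx
    rw [← hcD, Subgroup.relIndex, ← card_fix σ D hU hV hD (J.subgroupOf U), e]

/-- The index of the centraliser: `|W : C_W(A)|² ≥ |V₀| ^ |U|` as soon as `A ∩ U ≠ 1`. -/
theorem stb_index (hV : ∀ v : V, v * v = 1) {X B U : Subgroup H} {w : H} (hUX : U ≤ X) (hw : w ∈ X)
    (hU : IsPGroup 2 U) (hcov : ∀ x ∈ X, x ∈ B ∨ ∃ u ∈ U, (u * w)⁻¹ * x ∈ B) (hwB : ∀ u ∈ U, u * w ∉ B)
    (hinj : ∀ u ∈ U, w⁻¹ * u * w ∈ B → u = 1) {V₀ : Subgroup V} (hV₀ : V₀ ≤ CS ρ B) (hd : V₀ ⊓ CS ρ X = ⊥)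
    {W : Subgroup V} (hW : V₀ ≤ W) (hinv : ∀ x ∈ X, ∀ v ∈ W, ρ x v ∈ W) {A : Subgroup H} {a : H} (ha : a ∈ A)
    (haU : a ∈ U) (ha1 : a ≠ 1) : Nat.card V₀ ^ Nat.card U ≤ ((CS ρ A).relIndex W) ^ 2 := by
  obtain ⟨M, h1, h2, h3, h4⟩ := stb ρ hV hUX hw hU hcov hwB hinj hV₀ hd
  have h5 := h4 (Subgroup.zpowers a) (by rw [Subgroup.zpowers_le]; exact haU)
  have hr : 2 * (Subgroup.zpowers a).relIndex U ≤ Nat.card U := by
    have e := Subgroup.card_mul_index ((Subgroup.zpowers a).subgroupOf U)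
    have e2 : 2 ≤ Nat.card ((Subgroup.zpowers a).subgroupOf U) := by
      have : Nontrivial ((Subgroup.zpowers a).subgroupOf U) := by
        refine ⟨⟨⟨⟨a, haU⟩, Subgroup.mem_zpowers a⟩, 1, fun h => ha1 ?_⟩⟩
        exact congrArg Subtype.val (congrArg Subtype.val h)
      exact Finite.one_lt_card
    rw [Subgroup.relIndex, ← e]
    exact Nat.mul_le_mul_right _ e2
  have h6 : Nat.card (M ⊓ CS ρ (Subgroup.zpowers a) : Subgroup V) * (CS ρ (Subgroup.zpowers a)).relIndex M = Nat.card M := by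
    have e := Subgroup.card_mul_index ((CS ρ (Subgroup.zpowers a)).subgroupOf M)
    rw [← e, inf_comm, ← Subgroup.subgroupOf_map_subtype,
      Subgroup.card_map_of_injective M.subtype_injective]
    rfl
  have h7 : (CS ρ (Subgroup.zpowers a)).relIndex M ≤ (CS ρ A).relIndex W := by
    have e1 : CS ρ A ≤ CS ρ (Subgroup.zpowers a) := by
      intro v hv x hx
      exact hv x ((Subgroup.zpowers_le.mpr ha) hx)
    have hMW : M ≤ W := h1 W hW hinv
    have ne : ∀ A W : Subgroup V, A.relIndex W ≠ 0 := fun A W => Subgroup.index_ne_zero_of_finite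
    calc (CS ρ (Subgroup.zpowers a)).relIndex M ≤ (CS ρ (Subgroup.zpowers a)).relIndex W :=
          Subgroup.relIndex_le_of_le_right hMW (ne _ _)
      _ ≤ (CS ρ A).relIndex W := Subgroup.relIndex_le_of_le_left e1 (ne _ _)
  have hc : 0 < Nat.card V₀ := Nat.card_pos
  have h8 : Nat.card V₀ ^ Nat.card U ≤ ((CS ρ (Subgroup.zpowers a)).relIndex M) ^ 2 := by
    set r := (Subgroup.zpowers a).relIndex U
    set q := (CS ρ (Subgroup.zpowers a)).relIndex M
    rw [h5, h3] at h6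
    have h9 : (Nat.card V₀ ^ r) ^ 2 * q ^ 2 = (Nat.card V₀ ^ Nat.card U) ^ 2 := by rw [← mul_pow, h6]
    have h10 : (Nat.card V₀ ^ r) ^ 2 ≤ Nat.card V₀ ^ Nat.card U := by
      rw [← pow_mul, mul_comm]
      exact Nat.pow_le_pow_right hc hr
    have hp : 0 < Nat.card V₀ ^ Nat.card U := pow_pos hc _
    nlinarith [Nat.mul_le_mul_right (q ^ 2) h10]
  exact h8.trans (Nat.pow_le_pow_left h7 2)

end borel

end Cfsg.Agent.OddCyclic.EmpSTB
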