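import Mathlib
import Cfsg.Agent.OddCyclic.GamFlag
import Cfsg.Agent.OddCyclic.T1Tools

/-!
# `Gam`: an involution of `C_G(x)` which acts as a transposition commutes with an element of order three of `C_G(x)`

`exists_cent`, `exists_cent_bb`.
-/

set_option autoImplicit false
set_option linter.dupNamespace false
set_option linter.unusedSectionVars false

namespace Cfsg.Agent.OddCyclic.GamBase

open Subgroup Cfsg Cfsg.Agent.ZN Cfsg.Agent.MinSimple.Geo Cfsg.Agent.MinSimple.OddBase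
open Cfsg.Agent.OddCyclic.T1Defs GamPerm GamMod GamLoc
open Cfsg.Agent.ZN.Block (conj_mem_of_normalizer conj_mem_of_normalizer' le_normalizer_of_forall
  mem_normalizer_of)

universe u

variable {G : Type u} [Group G]

/-- `w ↦ [b, w]` on an abelian group of exponent two -/
def dl {W : Subgroup G} (hc : ∀ a ∈ W, ∀ b ∈ W, a * b = b * a) (b : G)
    (hn : ∀ w ∈ W, b * w * b⁻¹ ∈ W) : W →* G where
  toFun w := b * (w : G) * b⁻¹ * w
  map_one' := by
    change b * 1 * b⁻¹ * 1 = 1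
    group
  map_mul' := by
    intro v w
    change b * ((v : G) * w) * b⁻¹ * ((v : G) * w) = b * (v : G) * b⁻¹ * v * (b * (w : G) * b⁻¹ * w)
    have h1 := hc _ (hn w w.2) v v.2
    calc b * ((v : G) * w) * b⁻¹ * ((v : G) * w) = b * (v : G) * b⁻¹ * ((b * (w : G) * b⁻¹) * v) * w := by group
      _ = b * (v : G) * b⁻¹ * (v * (b * (w : G) * b⁻¹)) * w := by rw [h1]
      _ = b * (v : G) * b⁻¹ * v * (b * (w : G) * b⁻¹ * w) := by group

namespace Gam

variable {V : Subgroup G} {z : G} [Finite G]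

theorem exists_cent (h : Gam V z) {x : G} (hx : Pt z x) {ρ : centralizer ({x} : Set G) →* S5}
    (hρ : Loc (ws V x) x ρ) {bc : centralizer ({x} : Set G)} {b : G} (hbc : (bc : G) = b)
    (hb2 : b * b = 1) (hne : ρ bc ≠ 1) {g : S5} (hg : O3 g) (hbg : ρ bc * g = g * ρ bc) :
    ∃ t : G, t ^ 3 = 1 ∧ t ≠ 1 ∧ t * x = x * t ∧ t * b = b * t := by
  have hbx : b * x = x * b := by rw [← hbc]; exact mem_centralizer_singleton_iff.mp bc.2
  have hbi : b⁻¹ = b := inv_eq_of_mul_eq_one_left hb2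
  have hcc : ρ bc * ρ bc = 1 := by
    rw [← map_mul]
    have : bc * bc = 1 := Subtype.ext (by change (bc : G) * bc = 1; rw [hbc, hb2])
    rw [this, map_one]
  have hnorm : ∀ w ∈ ws V x, b * w * b⁻¹ ∈ ws V x := fun w hw => h.norm hx hbx hw
  -- the commutator homomorphism
  set δ := dl hρ.comm b hnorm with hδ
  have hδa : ∀ w : ws V x, δ w = b * (w : G) * b⁻¹ * w := fun _ => rfl
  have hfixδ : ∀ w ∈ ws V x, b * (b * w * b⁻¹ * w) * b⁻¹ = b * w * b⁻¹ * w := by
    intro w hw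
    calc b * (b * w * b⁻¹ * w) * b⁻¹ = (b * b) * w * (b * b)⁻¹ * (b * w * b⁻¹) := by group
      _ = w * (b * w * b⁻¹) := by rw [hb2]; group
      _ = b * w * b⁻¹ * w := hρ.comm w hw _ (hnorm w hw)
  have hcx : ∀ {w : G}, w ∈ hρ.cx bc ↔ w ∈ ws V x ∧ Cg x (b * w * b⁻¹) w := by
    intro w; rw [hρ.mem_cx, hbc]
  have hcard8 := hρ.card_cx hcc hne
  have h32 : Nat.card (ws V x) = 32 := hρ.card
  have hprod : Nat.card δ.ker * Nat.card δ.range = 32 := by
    rw [← h32, ← Subgroup.index_ker δ, Subgroup.card_mul_index]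
  -- the kernel
  have hker : ∀ {w : ws V x}, w ∈ δ.ker ↔ b * (w : G) * b⁻¹ = w := by
    intro w
    rw [MonoidHom.mem_ker, hδa, mul_eq_one_iff_eq_inv, hρ.inv w.2]
  have hk8 : Nat.card δ.ker ≤ 8 := by
    rw [← hcard8]
    refine Nat.card_le_card_of_injective (fun w => (⟨((w : ws V x) : G), ?_⟩ : hρ.cx bc)) ?_
    · exact hcx.mpr ⟨w.1.2, Or.inl (hker.mp w.2)⟩
    · intro w w' e
      have e' : ((w : ws V x) : G) = ((w' : ws V x) : G) := congrArg (fun t : hρ.cx bc => (t : G)) e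
      exact Subtype.ext (Subtype.ext e')
  have hnk : Nat.card δ.range ≤ Nat.card δ.ker := by
    refine Nat.card_le_card_of_injective (fun n => (⟨⟨(n : G), ?_⟩, ?_⟩ : δ.ker)) ?_
    · obtain ⟨w, hw⟩ := n.2
      rw [← hw, hδa]
      exact mul_mem (hnorm w w.2) w.2
    · obtain ⟨w, hw⟩ := n.2
      rw [hker]
      change b * (n : G) * b⁻¹ = n
      rw [← hw, hδa, hfixδ w w.2]
    · intro n n' e
      exact Subtype.ext (congrArg (fun t : δ.ker => ((t : ws V x) : G)) e)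
  have hkcard : Nat.card δ.ker = 8 := by
    have h1 : 0 < Nat.card δ.ker := Nat.card_pos
    interval_cases (Nat.card δ.ker) <;> omega
  set N : Subgroup G := δ.range with hN
  have hNcard : Nat.card N = 4 := by rw [hkcard] at hprod; omega
  have hNle : N ≤ ws V x := by
    rintro _ ⟨w, rfl⟩
    rw [hδa]; exact mul_mem (hnorm w w.2) w.2
  have hNmem : ∀ {w : G}, w ∈ ws V x → b * w * b⁻¹ * w ∈ N := fun {w} hw => ⟨⟨w, hw⟩, rfl⟩
  have hNb : ∀ {n : G}, n ∈ N → b * n * b⁻¹ = n := by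
    rintro _ ⟨w, rfl⟩
    rw [hδa]; exact hfixδ w w.2
  -- elements of `cx` are fixed
  have hcxfix : ∀ w ∈ hρ.cx bc, b * w * b⁻¹ = w := by
    have h1 : δ.ker.map (ws V x).subtype ≤ hρ.cx bc := by
      rintro _ ⟨w, hw, rfl⟩
      exact hcx.mpr ⟨w.2, Or.inl (hker.mp hw)⟩
    have h2 : δ.ker.map (ws V x).subtype = hρ.cx bc := by
      refine Subgroup.eq_of_le_of_card_ge h1 ?_
      rw [hcard8, card_map_of_injective (subtype_injective _), hkcard]
    intro w hw
    rw [← h2] at hw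
    obtain ⟨w', hw', rfl⟩ := hw
    exact hker.mp hw'
  have hxN : x ∉ N := by
    rintro ⟨w, hw⟩
    rw [hδa] at hw
    have hw' : (w : G) * w = 1 := hρ.sq w w.2
    have h1 : b * (w : G) * b⁻¹ = w * x := by
      calc b * (w : G) * b⁻¹ = (b * (w : G) * b⁻¹ * w) * (w : G)⁻¹ := by group
        _ = x * w := by rw [hw, hρ.inv w.2]
        _ = w * x := hρ.comm x hρ.x_mem w w.2
    have h2 := hcxfix w (hcx.mpr ⟨w.2, Or.inr h1⟩)
    rw [h1] at h2
    exact hρ.x_ne (by simpa using h2)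
  have hcxN : ∀ w ∈ hρ.cx bc, ∃ n ∈ N, Cg x w n := by
    intro w hw
    obtain ⟨v, hv, hwv⟩ := hρ.exists_comm hcc hne hw
    rw [hbc] at hwv
    exact ⟨_, hNmem hv, hwv⟩
  obtain ⟨p, hp, _, _, hp1, _, _⟩ := exists_two hNcard
  have hpW := hNle hp
  have hpx : p ≠ x := fun e => hxN (e ▸ hp)
  obtain ⟨d0, hd0⟩ := hρ.even g hg.sign
  have hO : O3 (ρ d0) := by rw [hd0]; exact hg
  -- the image of `p`
  have h1 : (d0 : G) * p * (d0 : G)⁻¹ ∈ hρ.cx bc := by
    rw [hcx]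
    refine ⟨hρ.norm d0 d0.2 p hpW, ?_⟩
    have h2 := hρ.congr (c := bc * d0) (d := d0 * bc) (by rw [map_mul, map_mul, hd0]; exact hbg) hpW
    have e1 : ((bc * d0 : centralizer ({x} : Set G)) : G) = b * d0 := by rw [← hbc]; rfl
    have e2 : ((d0 * bc : centralizer ({x} : Set G)) : G) = d0 * b := by rw [← hbc]; rfl
    rw [e1, e2] at h2
    have e3 : b * (d0 : G) * p * (b * (d0 : G))⁻¹ = b * ((d0 : G) * p * (d0 : G)⁻¹) * b⁻¹ := by group
    have e4 : (d0 : G) * b * p * ((d0 : G) * b)⁻¹ = (d0 : G) * p * (d0 : G)⁻¹ := by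
      calc (d0 : G) * b * p * ((d0 : G) * b)⁻¹ = (d0 : G) * (b * p * b⁻¹) * (d0 : G)⁻¹ := by group
        _ = _ := by rw [hNb hp]
    rw [e3, e4] at h2
    exact h2
  obtain ⟨q, hq, hpq'⟩ := hcxN _ h1
  have hqW := hNle hq
  have hqx : q ≠ x := fun e => hxN (e ▸ hq)
  have hq1 : q ≠ 1 := by
    rintro rfl
    rcases hpq' with e | e
    · exact conj_ne_one hp1 e
    · rw [one_mul] at e
      have e5 : (d0 : G) * x * (d0 : G)⁻¹ = x := by
        rw [mem_centralizer_singleton_iff.mp d0.2, mul_inv_cancel_right]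
      exact hpx (conj_inj (e.trans e5.symm))
  have hpq : p ≠ q := by
    rintro rfl
    rcases hρ.fpf d0 hO p hpW hpq' with e | e
    · exact hp1 e
    · exact hpx e
  have hpqx : p * q ≠ x := fun e => hxN (e ▸ mul_mem hp hq)
  obtain ⟨d', hd', hd3, hdp, hdq⟩ := h.star' hx hρ hpW hqW hp1 hpx hq1 hqx hpq hpqx hO hpq'
    (hρ.cyc_of hO hpW hqW hpq')
  set d : G := (d' : G) with hdd
  have hdx : d * x = x * d := mem_centralizer_singleton_iff.mp d'.2
  have hd1 : d ≠ 1 := by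
    intro e
    rw [e] at hdp
    apply hpq; rw [← hdp]; group
  have hdN : ∀ n ∈ N, d * n * d⁻¹ ∈ N := by
    intro n hn
    rcases mem_four hNcard hp hq (hρ.sq p hpW) (hρ.sq q hqW) hp1 hq1 hpq hn with e | e | e | e
    · rw [e]; simp [one_mem]
    · rw [e, hdp]; exact hq
    · rw [e, hdq]; exact mul_mem hp hq
    · rw [e]
      have : d * (p * q) * d⁻¹ = (d * p * d⁻¹) * (d * q * d⁻¹) := by group
      rw [this, hdp, hdq]; exact mul_mem hq (mul_mem hp hq)
  have hdW : ∀ w ∈ ws V x, d * w * d⁻¹ ∈ ws V x := fun w hw => h.norm hx hdx hw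
  have hdW' : ∀ w ∈ ws V x, d⁻¹ * w * d ∈ ws V x := fun w hw => by
    have h2 : d⁻¹ * x = x * d⁻¹ := by
      have : Commute d x := hdx
      exact this.inv_left
    have := h.norm hx h2 hw
    rwa [inv_inv] at this
  -- `d b d⁻¹` and `b` agree on `ws V x`
  have hagree : ∀ w ∈ ws V x, (d * b * d⁻¹) * w * (d * b * d⁻¹)⁻¹ = b * w * b⁻¹ := by
    intro w hw
    have h2 : (d * b * d⁻¹) * w * (d * b * d⁻¹)⁻¹ * w ∈ N := by
      have h3 := hdN _ (hNmem (hdW' w hw))
      have e : d * (b * (d⁻¹ * w * d) * b⁻¹ * (d⁻¹ * w * d)) * d⁻¹ =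
          (d * b * d⁻¹) * w * (d * b * d⁻¹)⁻¹ * w := by group
      rwa [e] at h3
    have h4 : ρ (d' * bc * d'⁻¹) = ρ bc := by
      rw [map_mul, map_mul, map_inv, hd', hd0, mul_inv_eq_iff_eq_mul]; exact hbg.symm
    have h5 := hρ.congr h4 hw
    have e1 : ((d' * bc * d'⁻¹ : centralizer ({x} : Set G)) : G) = d * b * d⁻¹ := by
      rw [hdd, ← hbc]; rfl
    rw [e1, hbc] at h5
    rcases h5 with e | e
    · exact e
    · exfalso
      apply hxN
      have h6 := mul_mem (inv_mem (hNmem hw)) h2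
      have e2 : (b * w * b⁻¹ * w)⁻¹ * ((d * b * d⁻¹) * w * (d * b * d⁻¹)⁻¹ * w) = x := by
        rw [e]
        have h7 : x * w = w * x := hρ.comm x hρ.x_mem w hw
        calc (b * w * b⁻¹ * w)⁻¹ * (b * w * b⁻¹ * x * w) = w⁻¹ * (x * w) := by group
          _ = x := by rw [h7]; group
      rwa [e2] at h6
  -- `c = b⁻¹ d b d⁻¹`
  set c : G := b⁻¹ * (d * b * d⁻¹) with hc
  have hcW : ∀ w ∈ ws V x, c * w = w * c := by
    intro w hw
    apply mul_inv_eq_iff_eq_mul.mp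
    calc c * w * c⁻¹ = b⁻¹ * ((d * b * d⁻¹) * w * (d * b * d⁻¹)⁻¹) * b := by rw [hc]; group
      _ = w := by rw [hagree w hw]; group
  have hcd : b⁻¹ * d * b = c * d := by rw [hc]; group
  have hcx' : c * x = x * c := hcW x hρ.x_mem
  set w1 : G := c * d * c⁻¹ * d⁻¹ with hw1
  have hw1W : w1 ∈ ws V x := h.cent_three hx hcW hdx hd3
  have hdc : d * c * d⁻¹ = c * w1 := by
    have h2 : w1⁻¹ = w1 := hρ.inv hw1W
    have h3 : d * c * d⁻¹ = w1⁻¹ * c := by rw [hw1]; group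
    rw [h3, h2, hcW w1 hw1W]
  have hddc : d * (d * c * d⁻¹) * d⁻¹ = c * (w1 * (d * w1 * d⁻¹)) := by
    rw [hdc]
    calc d * (c * w1) * d⁻¹ = (d * c * d⁻¹) * (d * w1 * d⁻¹) := by group
      _ = c * (w1 * (d * w1 * d⁻¹)) := by rw [hdc, mul_assoc]
  have hcd3 : (c * d) ^ 3 = 1 := by
    rw [← hcd]
    have : (b⁻¹ * d * b) ^ 3 = b⁻¹ * d ^ 3 * b := by
      simp only [pow_succ, pow_zero, one_mul]; group
    rw [this, hd3]; group
  have hprod3 : c * (d * c * d⁻¹) * (d * (d * c * d⁻¹) * d⁻¹) = 1 := by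
    have h2 : (c * d) ^ 3 = c * (d * c * d⁻¹) * (d * (d * c * d⁻¹) * d⁻¹) * d ^ 3 := by
      simp only [pow_succ, pow_zero, one_mul]; group
    rw [hcd3, hd3, mul_one] at h2
    exact h2.symm
  have hc3 : c ^ 3 ∈ ws V x := by
    have h2 := hprod3
    rw [hdc] at h2
    have h3 : d * (c * w1) * d⁻¹ = c * (w1 * (d * w1 * d⁻¹)) := by rw [← hdc]; exact hddc
    rw [h3] at h2
    have h4 : c * (c * w1) * (c * (w1 * (d * w1 * d⁻¹))) = c ^ 3 * (w1 * (w1 * (d * w1 * d⁻¹))) := by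
      have h5 := hcW w1 hw1W
      calc c * (c * w1) * (c * (w1 * (d * w1 * d⁻¹))) = c * c * (w1 * c) * (w1 * (d * w1 * d⁻¹)) := by group
        _ = c * c * (c * w1) * (w1 * (d * w1 * d⁻¹)) := by rw [h5]
        _ = _ := by simp only [pow_succ, pow_zero, one_mul]; group
    rw [h4] at h2
    rw [mul_eq_one_iff_eq_inv.mp h2]
    exact inv_mem (mul_mem hw1W (mul_mem hw1W (hdW w1 hw1W)))
  have hcC : c ∈ centralizer ({x} : Set G) := mem_centralizer_singleton_iff.mpr hcx'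
  have hc2 : c ^ 2 = 1 := by
    have h2 : ρ (⟨c, hcC⟩ ^ 2) = 1 := by
      have h3 : ρ ⟨c, hcC⟩ = 1 := by
        rw [hρ.ker]
        intro w hw
        left
        change c * w * c⁻¹ = w
        rw [hcW w hw, mul_inv_cancel_right]
      rw [map_pow, h3, one_pow]
    refine h.ker_three hx hρ (k := ⟨c, hcC⟩ ^ 2) h2 ?_
    change (c ^ 2) ^ 3 = 1
    rw [← pow_mul, mul_comm, pow_mul, pow_two]
    exact hρ.sq _ hc3
  have hcmem : c ∈ ws V x := by
    have : c = c ^ 3 := by rw [pow_succ, hc2, one_mul]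
    rw [this]; exact hc3
  -- `w`
  set w : G := d * c * d⁻¹ with hw
  have hwW : w ∈ ws V x := hdW c hcmem
  have hwc : w * (d * w * d⁻¹) = c := by
    have h2 : c * (w * (d * w * d⁻¹)) = 1 := by rw [← mul_assoc]; exact hprod3
    have h3 := eq_inv_of_mul_eq_one_right h2
    rw [h3, hρ.inv hcmem]
  have hdwi : (d * w * d⁻¹)⁻¹ = d * w * d⁻¹ := hρ.inv (hdW w hwW)
  have hwd : w * d * w⁻¹ = c * d := by
    calc w * d * w⁻¹ = w * (d * w * d⁻¹)⁻¹ * d := by group
      _ = c * d := by rw [hdwi, hwc]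
  set e : G := b * w with he
  have hed : e * d = d * e := by
    have h2 : w * d * w⁻¹ = b⁻¹ * d * b := by rw [hwd, hcd]
    calc e * d = b * (w * d * w⁻¹) * w := by rw [he]; group
      _ = d * e := by rw [h2, he]; group
  have hee : e * e = b * w * b⁻¹ * w := by rw [he, hbi]; group
  have heeN : e * e ∈ N := by rw [hee]; exact hNmem hwW
  have hee1 : e * e = 1 := by
    have h2 : d * (e * e) * d⁻¹ = e * e := by
      calc d * (e * e) * d⁻¹ = (d * e) * e * d⁻¹ := by group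
        _ = (e * d) * e * d⁻¹ := by rw [hed]
        _ = e * (d * e) * d⁻¹ := by group
        _ = e * (e * d) * d⁻¹ := by rw [hed]
        _ = e * e := by group
    rcases hρ.fpf d' (by rw [hd']; exact hO) (e * e) (hNle heeN) (Or.inl h2) with e1 | e1
    · exact e1
    · exact absurd (e1 ▸ heeN) hxN
  have hbw : b * w * b⁻¹ = w := by
    rw [hee1] at hee
    have := mul_eq_one_iff_eq_inv.mp hee.symm
    rw [this, hρ.inv hwW]
  obtain ⟨n, hn, hwn⟩ := hcxN w (hcx.mpr ⟨hwW, Or.inl hbw⟩)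
  obtain ⟨⟨v, hv⟩, hvn⟩ := hn
  rw [hδa] at hvn
  change b * v * b⁻¹ * v = n at hvn
  obtain ⟨f, hf, hwf⟩ : ∃ f, (f = 1 ∨ f = x) ∧ w = n * f := by
    rcases hwn with e1 | e1
    · exact ⟨1, Or.inl rfl, by rw [e1, mul_one]⟩
    · exact ⟨x, Or.inr rfl, e1⟩
  have hff : f * f = 1 ∧ d * f = f * d := by
    rcases hf with rfl | rfl
    · simp
    · exact ⟨hρ.xx, hdx⟩
  have hnN : n ∈ N := ⟨⟨v, hv⟩, by rw [hδa]; exact hvn⟩
  -- `v⁻¹ b v = e f`
  have hvbv : v⁻¹ * b * v = e * f := by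
    have h2 : b * v * b⁻¹ = n * v := by
      have : b * v * b⁻¹ = n * v⁻¹ := by rw [← hvn]; group
      rw [this, hρ.inv hv]
    have h3 : v⁻¹ * b * v = n * b := by
      have h4 : n * v = v * n := hρ.comm n (hNle hnN) v hv
      calc v⁻¹ * b * v = v⁻¹ * (b * v * b⁻¹) * b := by group
        _ = v⁻¹ * (v * n) * b := by rw [h2, h4]
        _ = n * b := by group
    have h5 : n * b = b * n := (mul_inv_eq_iff_eq_mul.mp (hNb hnN)).symm
    rw [h3, h5, he, hwf]
    calc b * n = b * (n * (f * f)) := by rw [hff.1, mul_one]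
      _ = b * (n * f) * f := by group
  refine ⟨v * d * v⁻¹, ?_, conj_ne_one hd1, ?_, ?_⟩
  · have : (v * d * v⁻¹) ^ 3 = v * d ^ 3 * v⁻¹ := by simp only [pow_succ, pow_zero, one_mul]; group
    rw [this, hd3]; group
  · have hvx : v * x = x * v := hρ.comm v hv x hρ.x_mem
    have h2 : Commute x (v * d * v⁻¹) := by
      have h3 : Commute x v := hvx.symm
      have h4 : Commute x d := hdx.symm
      exact (h3.mul_right h4).mul_right h3.inv_right
    exact h2.symm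
  · have h2 : Commute (e * f) d := by
      have h3 : Commute e d := hed
      have h4 : Commute f d := hff.2.symm
      exact h3.mul_left h4
    have h3 : b = v * (e * f) * v⁻¹ := by rw [← hvbv]; group
    have h4 : (e * f) * d = d * (e * f) := h2
    calc v * d * v⁻¹ * b = v * (d * (e * f)) * v⁻¹ := by rw [h3]; group
      _ = v * ((e * f) * d) * v⁻¹ := by rw [h4]
      _ = b * (v * d * v⁻¹) := by rw [h3]; group

end Gam

namespace Pl

variable {V : Subgroup G} {z : G} [Finite G] {E : Subgroup G}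

/-- the situation in a plane -/
theorem exists_cent_bb (hE : Pl V z E) (h : Gam V z) {u v : G} (hu : u ∈ E) (hv : v ∈ E) (hu1 : u ≠ 1)
    (hv1 : v ≠ 1) (huv : u ≠ v) {x b : G} (hx : x ∈ bb V u v) (hxE : x ∉ E) (hb : b ∈ bb V v u)
    (hbE : b ∉ E) : ∃ t : G, t ^ 3 = 1 ∧ t ≠ 1 ∧ t * x = x * t ∧ t * b = b * t := by
  have hup := hE.pt h hu hu1
  have hvp := hE.pt h hv hv1
  have hx1 : x ≠ 1 := fun e => hxE (e ▸ one_mem _)
  have hxp : Pt z x := h.pt hup hx.1 hx1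
  have hux : u ∈ ws V x := h.mem_symm hup hx.1 hx1
  have hunex : u ≠ x := fun e => hxE (e ▸ hu)
  have hbx : b * x = x * b := (hE.bb_comm h hu hv hu1 hv1 huv hx hb).symm
  obtain ⟨ρ, hρ⟩ := h.loc_pt hxp
  obtain ⟨ρu, hρu⟩ := h.loc_pt hup
  obtain ⟨i, hi⟩ := hρ.exists_pg hux
  have hE1 := h.plane_eq hxp hρ hu1 hunex hi
  have hbC : b ∈ centralizer ({x} : Set G) := mem_centralizer_singleton_iff.mpr hbx
  have hb2 : b * b = 1 := h.sq_ws hvp hb.1
  have hbu : b * u * b⁻¹ = u := by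
    rw [h.comm hvp hb.1 (hE.le_ws h hv hv1 hu), mul_inv_cancel_right]
  have hfix : ρ ⟨b, hbC⟩ i = i := hρ.idx_fix hi hu1 hunex (Or.inl hbu)
  have hcc : ρ ⟨b, hbC⟩ * ρ ⟨b, hbC⟩ = 1 := by
    rw [← map_mul]
    have : (⟨b, hbC⟩ * ⟨b, hbC⟩ : centralizer ({x} : Set G)) = 1 := Subtype.ext hb2
    rw [this, map_one]
  have hK : ¬ K4 i (ρ ⟨b, hbC⟩) := by
    intro hK
    -- an element of the plane through `x` and `u` outside `bb V u v`
    have hex : ∃ a ∈ ws V x ⊓ ws V u, a ∉ bb V u v := by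
      by_contra hcon
      push Not at hcon
      have hle : ws V x ⊓ ws V u ≤ bb V u v := hcon
      have h1 := T1Tools.card_le_inf (hE.le_bb h hu hv hu1 hv1) hle (n := 2)
        (by rw [hE.card_bb h hu hv hu1 hv1 huv, hE.card h])
      have hE1' := h.pl hxp hux hu1 hunex
      rw [hE1'.card h] at h1
      have huE1 : u ∈ ws V x ⊓ ws V u := ⟨hux, h.self_mem hup⟩
      have hxE1 : x ∈ ws V x ⊓ ws V u := ⟨h.self_mem hxp, hx.1⟩
      obtain ⟨j, hj⟩ := hE.exists_pg h hu hu1 hρu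
      obtain ⟨k, hk⟩ := hE1'.exists_pg h huE1 hu1 hρu
      have hjk : j ≠ k := by
        rintro rfl
        apply hxE
        rw [hj, ← hk]; exact hxE1
      have h2 : ((E ⊓ (ws V x ⊓ ws V u) : Subgroup G) : Set G) ⊆ {1, u} := by
        rintro t ⟨ht1, ht2⟩
        rw [hj] at ht1
        rw [hk] at ht2
        exact hρu.pg_inf hjk ht1 ht2
      have h3 := Set.ncard_le_ncard h2 (Set.toFinite _)
      rw [Set.ncard_pair hu1.symm] at h3
      have h4 : Nat.card (E ⊓ (ws V x ⊓ ws V u) : Subgroup G) =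
        ((E ⊓ (ws V x ⊓ ws V u) : Subgroup G) : Set G).ncard := rfl
      omega
    obtain ⟨a, ha, hab⟩ := hex
    have h1 := hρ.fix_of_k4 hK (w := a) (by rw [← hE1]; exact ha)
    change Cg x (b * a * b⁻¹) a at h1
    rw [hE.bb_act h hu hv hu1 hv1 huv ha.2 hab hb hbE] at h1
    rcases h1 with e | e
    · exact hu1 (by simpa using e)
    · exact hunex (mul_left_cancel e)
  have hne : ρ ⟨b, hbC⟩ ≠ 1 := by
    intro e
    apply hK
    rw [e]
    exact ⟨rfl, map_one _, one_mul 1⟩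
  obtain ⟨g, hg, hbg⟩ := exists_commute_o3 i _ hfix hcc hK
  exact h.exists_cent hxp hρ (bc := ⟨b, hbC⟩) rfl hb2 hne hg hbg

end Pl

end Cfsg.Agent.OddCyclic.GamBase
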