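import Mathlib
import Cfsg.Agent.OddCyclic.GamTri

/-!
# `Gam V z` is impossible

`Gam.false`: in (E1) with `|V| = 4` and `ws V z` abelian, `C_G(z)` does not induce `A₅` or `S₅ = ΓL₂(4)` on the natural
module `ws V z/⟨z⟩` (helper794's note `blueprints/S0342-E1-S5-helper794.md`, section A).
-/

set_option autoImplicit false
set_option linter.dupNamespace false
set_option linter.unusedSectionVars false

namespace Cfsg.Agent.OddCyclic.GamBase

open Subgroup Cfsg Cfsg.Agent.ZN Cfsg.Agent.MinSimple.Geo Cfsg.Agent.MinSimple.OddBase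
open Cfsg.Agent.OddCyclic.T1Defs GamPerm GamMod GamLoc
open Cfsg.Agent.ZN.Block (conj_mem_of_normalizer conj_mem_of_normalizer' le_normalizer_of_forall
  mem_normalizer_of)

universe u

variable {G : Type u} [Group G]

theorem seven' {A : Type*} [CommGroup A]
    {J f1 f2 f3 g1 g2 g3 h1 h2 h3 i1 i2 i3 j1 j2 j3 k1 k2 k3 m1 m2 m3 : A}
    (pf : f1 * f2 * f3 = 1) (pg : g1 * g2 * g3 = 1) (ph : h1 * h2 * h3 = 1) (pi : i1 * i2 * i3 = 1)
    (pj : j1 * j2 * j3 = 1) (pk : k1 * k2 * k3 = 1) (pm : m1 * m2 * m3 = 1)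
    (l1 : J = f1 * g1 * i1) (l2 : J = f2 * h1 * j1) (l3 : J = f3 * k2 * m1) (l4 : J = g2 * h2 * k1)
    (l5 : J = g3 * j2 * m2) (l6 : J = h3 * i2 * m3) (l7 : J = i3 * j3 * k3) (hJ : J * J = 1) : J = 1 := by
  have e1 : (f1 * g1 * i1) * (f2 * h1 * j1) * (f3 * k2 * m1) * (g2 * h2 * k1) * (g3 * j2 * m2) *
      (h3 * i2 * m3) * (i3 * j3 * k3) = J * J * J * J * J * J * J := by
    rw [← l1, ← l2, ← l3, ← l4, ← l5, ← l6, ← l7]
  have e2 : (f1 * g1 * i1) * (f2 * h1 * j1) * (f3 * k2 * m1) * (g2 * h2 * k1) * (g3 * j2 * m2) *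
      (h3 * i2 * m3) * (i3 * j3 * k3) =
      (f1 * f2 * f3) * (g1 * g2 * g3) * (h1 * h2 * h3) * (i1 * i2 * i3) * (j1 * j2 * j3) *
      (k1 * k2 * k3) * (m1 * m2 * m3) := by ac_rfl
  rw [e2, pf, pg, ph, pi, pj, pk, pm] at e1
  have e3 : J * J * J * J * J * J * J = (J * J) * (J * J) * (J * J) * J := by group
  rw [e3, hJ] at e1
  simpa using e1.symm

theorem seven {A : Type*} [inst : Group A] (hc : ∀ a b : A, a * b = b * a)
    {J f1 f2 f3 g1 g2 g3 h1 h2 h3 i1 i2 i3 j1 j2 j3 k1 k2 k3 m1 m2 m3 : A}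
    (pf : f1 * f2 * f3 = 1) (pg : g1 * g2 * g3 = 1) (ph : h1 * h2 * h3 = 1) (pi : i1 * i2 * i3 = 1)
    (pj : j1 * j2 * j3 = 1) (pk : k1 * k2 * k3 = 1) (pm : m1 * m2 * m3 = 1)
    (l1 : J = f1 * g1 * i1) (l2 : J = f2 * h1 * j1) (l3 : J = f3 * k2 * m1) (l4 : J = g2 * h2 * k1)
    (l5 : J = g3 * j2 * m2) (l6 : J = h3 * i2 * m3) (l7 : J = i3 * j3 * k3) (hJ : J * J = 1) : J = 1 :=
  @seven' A { inst with mul_comm := hc } J f1 f2 f3 g1 g2 g3 h1 h2 h3 i1 i2 i3 j1 j2 j3 k1 k2 k3 m1 m2 m3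
    pf pg ph pi pj pk pm l1 l2 l3 l4 l5 l6 l7 hJ

namespace Pl

variable {V : Subgroup G} {z : G} [Finite G] {E : Subgroup G}

/-- the product over a line is in `E` -/
theorem tri_mem (hE : Pl V z E) (h : Gam V z) {u v : G} (t : Two E u v) {g₁ g₂ g₃ : G}
    (T : Tri V E u v g₁ g₂ g₃) : g₁ * g₂ * g₃ ∈ E := by
  classical
  set CE : Subgroup G := centralizer (E : Set G) with hCE
  have hEC : E ≤ CE := fun e he => mem_centralizer_iff.mpr fun e' he' => hE.comm h he' he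
  have hWC : ∀ {a w : G}, a ∈ E → a ≠ 1 → w ∈ ws V a → w ∈ CE := fun {a w} ha ha1 hw =>
    mem_centralizer_iff.mpr fun e he => (hE.ws_comm h ha ha1 hw he).symm
  have hnorm : (E.subgroupOf CE).Normal := by
    constructor
    intro e he c
    rw [mem_subgroupOf] at he ⊢
    have h1 := mem_centralizer_iff.mp c.2 e he
    have h2 : ((c * e * c⁻¹ : CE) : G) = e := by
      change (c : G) * e * (c : G)⁻¹ = e
      rw [← h1, mul_inv_cancel_right]
    rw [h2]; exact he
  -- the quotient map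
  let π : CE →* CE ⧸ E.subgroupOf CE := QuotientGroup.mk' (E.subgroupOf CE)
  have hπ1 : ∀ {c : CE}, π c = 1 ↔ (c : G) ∈ E := by
    intro c
    change (QuotientGroup.mk' (E.subgroupOf CE)) c = 1 ↔ _
    rw [← MonoidHom.mem_ker, QuotientGroup.ker_mk', mem_subgroupOf]
  have hπE : ∀ {e : G} (he : e ∈ E), π ⟨e, hEC he⟩ = 1 := fun {e} he => hπ1.mpr he
  have hπc : ∀ {a w : G} (_ : a ∈ E) (_ : a ≠ 1) (_ : w ∈ ws V a) (hw' : w ∈ CE),
      π ⟨w, hw'⟩ ∈ center (CE ⧸ E.subgroupOf CE) := by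
    intro a w ha ha1 hw hw'
    rw [mem_center_iff]
    intro q
    obtain ⟨c, rfl⟩ := QuotientGroup.mk'_surjective (E.subgroupOf CE) q
    change π c * π ⟨w, hw'⟩ = π ⟨w, hw'⟩ * π c
    rw [← map_mul, ← map_mul, ← mul_inv_eq_one, ← map_inv, ← map_mul, hπ1]
    have h1 := hE.comm_mem h ha ha1 (c := (c : G)) (fun e he => (mem_centralizer_iff.mp c.2 e he).symm) hw
    have h2 : ((c * ⟨w, hw'⟩ * (⟨w, hw'⟩ * c)⁻¹ : CE) : G) = c * w * (c : G)⁻¹ * w := by
      change (c : G) * w * (w * (c : G))⁻¹ = _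
      have h3 := h.inv_ws (hE.pt h ha ha1) hw
      rw [mul_inv_rev, h3]; group
    rw [h2]; exact h1
  have hflC : ∀ {p q g : G}, Two E p q → Fl V E p q g → g ∈ CE := fun {p q g} t hg =>
    hWC t.u_mem t.u_ne hg.mem.1
  have hF : ∀ p q : G, ∃ F : center (CE ⧸ E.subgroupOf CE), Two E p q →
      ∃ g, ∃ hg : g ∈ CE, Fl V E p q g ∧ (F : CE ⧸ E.subgroupOf CE) = π ⟨g, hg⟩ := by
    intro p q
    by_cases t : Two E p q
    · obtain ⟨g, hg⟩ := hE.exists_fl h t
      exact ⟨⟨π ⟨g, hflC t hg⟩, hπc t.u_mem t.u_ne hg.mem.1 _⟩, fun _ => ⟨g, hflC t hg, hg, rfl⟩⟩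
    · exact ⟨1, fun h => absurd h t⟩
  choose F hF using hF
  have hcc : ∀ a b : center (CE ⧸ E.subgroupOf CE), a * b = b * a := fun a b =>
    Subtype.ext ((mem_center_iff.mp b.2) a)
  have hFs : ∀ {p q g : G}, Two E p q → Fl V E p q g → ∀ hg : g ∈ CE,
      (F p q : CE ⧸ E.subgroupOf CE) = π ⟨g, hg⟩ := by
    intro p q g t hfl hg
    obtain ⟨g', hg', hfl', e1⟩ := hF p q t
    obtain ⟨e, he, e2⟩ := hE.fl_eq h t hfl' hfl
    rw [e1]
    have e3 : (⟨g, hg⟩ : CE) = ⟨g', hg'⟩ * ⟨e, hEC he⟩ := Subtype.ext e2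
    rw [e3, map_mul, hπE he, mul_one]
  have hsame : ∀ {p q : G}, Two E p q → F p (p * q) = F p q := by
    intro p q t
    obtain ⟨g, hg, hfl, e⟩ := hF p q t
    apply Subtype.ext
    rw [e]
    exact hFs (hE.two_mul h t) ((hE.fl_same h t).mpr hfl) hg
  have hsame' : ∀ {p q r : G}, Two E p q → p * q = r → F p r = F p q := by
    intro p q r t e
    rw [← e]; exact hsame t
  have hpoint : ∀ {p q r : G}, Ind E p q r → F p q * F p r * F p (q * r) = 1 := by
    intro p q r hi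
    have tq := hi.two
    have tr : Two E p r := ⟨hi.u_mem, hi.w_mem, hi.u_ne, hi.w_ne, hi.uw⟩
    have hqr : Ind E p q (q * r) := hE.ind_swap h (hE.ind_mul h (hE.ind_swap h hi))
    have tqr : Two E p (q * r) := ⟨hqr.u_mem, hqr.w_mem, hqr.u_ne, hqr.w_ne, hqr.uw⟩
    obtain ⟨g1, hg1, hf1, e1⟩ := hF p q tq
    obtain ⟨g2, hg2, hf2, e2⟩ := hF p r tr
    obtain ⟨g3, hg3, hf3, e3⟩ := hF p (q * r) tqr
    have hpp := hE.pt h hi.u_mem hi.u_ne
    obtain ⟨ρ, hρ⟩ := h.loc_pt hpp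
    have c1 : Nat.card (ws V p) = 2 * Nat.card (bb V p q) := by
      rw [hρ.card, hE.card_bb h tq.u_mem tq.v_mem tq.u_ne tq.v_ne tq.uv]
    have n2 : g2 ∉ bb V p q := fun hh => hf2.notMem (hE.bb_inf h hi hh hf2.mem)
    have n3 : g3 ∉ bb V p q := fun hh => hf3.notMem (hE.bb_inf h hqr hh hf3.mem)
    have h23 : g2 * g3 ∈ bb V p q :=
      mul_mem_of_two (bb_le V _ _) c1 (by
        rw [hE.card_bb h tq.u_mem tq.v_mem tq.u_ne tq.v_ne tq.uv]; norm_num) hf2.mem.1 hf3.mem.1 n2 n3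
    have h23' : g2 * g3 ∉ E := by
      intro hh
      have hr : Ind E p r (q * r) := by
        have h4 := hE.ind_rot h (hE.ind_rot h hi)
        have h5 : Ind E r p q := h4
        have h6 := hE.ind_mul h h5
        have h7 : Ind E p r (r * q) := hE.ind_swap h h6
        rwa [hE.comm h hi.w_mem hi.v_mem] at h7
      have h8 : g3 ∈ bb V p r := by
        have h9 : g3 = g2 * (g2 * g3) := by
          rw [← mul_assoc, hE.fl_sq h tr hf2, one_mul]
        rw [h9]
        exact mul_mem hf2.mem (hE.le_bb h tr.u_mem tr.v_mem tr.u_ne tr.v_ne hh)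
      exact hf3.notMem (hE.bb_inf h hr h8 hf3.mem)
    obtain ⟨e, he, q1⟩ := hE.fl_eq h tq hf1 ⟨h23, h23'⟩
    apply Subtype.ext
    change (F p q : CE ⧸ E.subgroupOf CE) * F p r * F p (q * r) = 1
    rw [e1, e2, e3, ← map_mul, ← map_mul, hπ1]
    change g1 * g2 * g3 ∈ E
    rw [mul_assoc, q1, ← mul_assoc, hE.fl_sq h tq hf1, one_mul]
    exact he
  have hsq : ∀ {p q : G}, Two E p q → F p q * F p q = 1 := by
    intro p q t
    obtain ⟨g, hg, hfl, e⟩ := hF p q t
    apply Subtype.ext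
    change (F p q : CE ⧸ E.subgroupOf CE) * F p q = 1
    rw [e, ← map_mul, hπ1]
    change g * g ∈ E
    rw [hE.fl_sq h t hfl]; exact one_mem _
  -- the product over a line
  have hJtri : ∀ {p q k1 k2 k3 : G} (t : Two E p q) (K : Tri V E p q k1 k2 k3)
      (h1 : k1 ∈ CE) (h2 : k2 ∈ CE) (h3 : k3 ∈ CE),
      ((F p q * F q p * F (p * q) p : center (CE ⧸ E.subgroupOf CE)) : CE ⧸ E.subgroupOf CE) =
        π (⟨k1, h1⟩ * ⟨k2, h2⟩ * ⟨k3, h3⟩) := by
    intro p q k1 k2 k3 t K h1 h2 h3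
    change (F p q : CE ⧸ E.subgroupOf CE) * F q p * F (p * q) p = _
    rw [hFs t K.f1 h1, hFs t.swap K.f2 h2, hFs (hE.two_mul h t).swap K.f3 h3, ← map_mul, ← map_mul]
  have hJ : ∀ {p q r : G}, Ind E p q r →
      F p q * F q p * F (p * q) p = F p r * F r p * F (p * r) p := by
    intro p q r hi
    have tq := hi.two
    have tr : Two E p r := ⟨hi.u_mem, hi.w_mem, hi.u_ne, hi.w_ne, hi.uw⟩
    obtain ⟨a1, a2, a3, A⟩ := hE.exists_tri h tq
    obtain ⟨b1, b2, b3, B⟩ := hE.exists_tri h tr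
    obtain ⟨e, he, q1⟩ := hE.tri_eq_mod h hi A B
    have ha1 := hflC tq A.f1
    have ha2 := hflC tq.swap A.f2
    have ha3 := hflC (hE.two_mul h tq).swap A.f3
    have hb1 := hflC tr B.f1
    have hb2 := hflC tr.swap B.f2
    have hb3 := hflC (hE.two_mul h tr).swap B.f3
    apply Subtype.ext
    rw [hJtri tq A ha1 ha2 ha3, hJtri tr B hb1 hb2 hb3]
    have e3 : (⟨b1, hb1⟩ * ⟨b2, hb2⟩ * ⟨b3, hb3⟩ : CE) =
        (⟨a1, ha1⟩ * ⟨a2, ha2⟩ * ⟨a3, ha3⟩) * ⟨e, hEC he⟩ := Subtype.ext q1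
    rw [e3]
    exact ((map_mul π _ _).trans (by rw [hπE he, mul_one])).symm
  have hJs : ∀ {p q : G}, Two E p q → F p q * F q p * F (p * q) p = F q p * F p q * F (q * p) q := by
    intro p q t
    have e1 : F (p * q) p = F (q * p) q := by
      have e2 : q * p = p * q := hE.comm h t.v_mem t.u_mem
      rw [e2]
      have t' := (hE.two_mul h t).swap
      symm
      refine hsame' t' ?_
      rw [hE.comm h t.u_mem t.v_mem, mul_assoc, hE.sq h t.u_mem, mul_one]
    rw [e1, hcc (F p q) (F q p)]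
  -- the seven lines
  obtain ⟨c, hi⟩ := hE.exists_third h t.u_mem t.v_mem t.u_ne t.v_ne t.uv
  have comm : ∀ {p q : G}, p ∈ E → q ∈ E → p * q = q * p := fun hp hq => hE.comm h hp hq
  have sq : ∀ {p : G}, p ∈ E → p * p = 1 := fun hp => hE.sq h hp
  have hu := hi.u_mem
  have hv := hi.v_mem
  have hc := hi.w_mem
  have i1 : Ind E v u c := hE.ind_swap h hi
  have i2 : Ind E v c u := hE.ind_rot h hi
  have i3 : Ind E c u v := hE.ind_rot h i2
  have i4 : Ind E u c v := hE.ind_swap h i3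
  have i5 : Ind E u v (v * c) := hE.ind_swap h (hE.ind_mul h i1)
  have i6 : Ind E v u (u * c) := hE.ind_swap h (hE.ind_mul h hi)
  have i7 : Ind E u c (u * v) := hE.ind_mul h i4
  have i8 : Ind E c u (u * v) := hE.ind_swap h i7
  have i9 : Ind E (u * v) u c := hE.ind_rot h (hE.ind_rot h i7)
  have i10 : Ind E (u * v) u (u * c) := hE.ind_swap h (hE.ind_mul h (hE.ind_swap h i9))
  have i11 : Ind E (u * c) u v := hE.ind_rot h (hE.ind_rot h (hE.ind_mul h hi))
  have i12 : Ind E (v * c) v u := hE.ind_rot h (hE.ind_rot h (hE.ind_mul h i1))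
  have i13 : Ind E u v (u * (v * c)) := hE.ind_mul h i5
  have i14 : Ind E (u * (v * c)) u v := hE.ind_rot h (hE.ind_rot h i13)
  -- products
  have huvc : v * (u * c) = u * (v * c) := by
    rw [← mul_assoc, comm hv hu, mul_assoc]
  have hcuv : c * (u * v) = u * (v * c) := by
    rw [comm hc (mul_mem hu hv), mul_assoc]
  have h77 : u * v * (u * c) = v * c := by
    calc u * v * (u * c) = (u * v) * u * c := by group
      _ = (v * u) * u * c := by rw [comm hu hv]
      _ = v * (u * u) * c := by group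
      _ = v * c := by rw [sq hu, mul_one]
  have huvcc : u * (v * c) * c = u * v := by
    calc u * (v * c) * c = u * v * (c * c) := by group
      _ = u * v := by rw [sq hc, mul_one]
  set J := F u v * F v u * F (u * v) u with hJdef
  have L2 : J = F u c * F c u * F (u * c) u := hJ hi
  have L3 : J = F u (v * c) * F (v * c) u * F (u * (v * c)) u := hJ i5
  have Jvu : F v u * F u v * F (v * u) v = J := (hJs t).symm
  have L4 : J = F v c * F c v * F (v * c) v := by rw [← Jvu]; exact hJ i1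
  have L5 : J = F v (u * c) * F (u * c) v * F (u * (v * c)) v := by
    rw [← Jvu]
    have := hJ i6
    rwa [huvc] at this
  have Jcu : F c u * F u c * F (c * u) c = J := by
    rw [L2]
    exact (hJs (p := u) (q := c) ⟨hu, hc, t.u_ne, hi.w_ne, hi.uw⟩).symm
  have L6 : J = F c (u * v) * F (u * v) c * F (u * (v * c)) (u * v) := by
    rw [← Jcu]
    have h1 := hJ i8
    rw [hcuv] at h1
    rw [h1]
    have h2 : F (u * (v * c)) (u * v) = F (u * (v * c)) c := by
      refine hsame' ?_ huvcc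
      have i15 : Ind E c (u * (v * c)) u := by
        have j1 : Ind E u c v := i4
        have j2 : Ind E u (u * (v * c)) v := by
          have := i14
          exact hE.ind_swap h (hE.ind_swap h (hE.ind_swap h i14))
        have j3 := hE.ind_mul h i12
        refine ⟨hc, i14.u_mem, hu, hi.w_ne, i14.u_ne, t.u_ne, ?_, hi.uw.symm, i14.uv, ?_⟩
        · intro e
          apply t.uv
          have e2 : u * v = 1 := by
            have e3 : c * c = u * (v * c) * c := by rw [← e]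
            rw [sq hc, huvcc] at e3
            exact e3.symm
          rw [mul_eq_one_iff_eq_inv.mp e2, hE.inv h hv]
        · intro e
          apply t.v_ne
          have e2 : c * (u * (v * c)) = u * v := by
            rw [comm hc i14.u_mem, huvcc]
          rw [e2] at e
          simpa using e
      exact ⟨i14.u_mem, hc, i14.u_ne, hi.w_ne, i15.uv.symm⟩
    rw [h2]
  have L7 : J = F (u * v) (u * c) * F (u * c) (u * v) * F (v * c) (u * v) := by
    have h1 := hJ i10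
    rw [h77] at h1
    rw [← h1]
    have t' : Two E u (u * v) := hE.two_mul h t
    have h2 := hJs t'.swap
    rw [h2]
    have e1 : u * (u * v) = v := by rw [← mul_assoc, sq hu, one_mul]
    rw [e1, hsame t, hJdef, mul_assoc, mul_assoc, hcc (F (u * v) u) (F v u)]
  have P1 := hpoint hi
  have P2 := hpoint i1
  have P3 := hpoint i3
  have P4 := hpoint i9
  have P5 := hpoint i11
  have P6 := hpoint i12
  rw [comm hv hu] at P6
  have P7 := hpoint i14
  have hJJ : J * J = 1 := by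
    have s1 := hsq t
    have s2 := hsq t.swap
    have s3 := hsq (hE.two_mul h t).swap
    calc J * J = F u v * (F v u * (F (u * v) u * F u v)) * F v u * F (u * v) u := by
          rw [hJdef]; group
      _ = F u v * (F v u * (F u v * F (u * v) u)) * F v u * F (u * v) u := by
          rw [hcc (F (u * v) u) (F u v)]
      _ = F u v * (F v u * F u v) * (F (u * v) u * F v u) * F (u * v) u := by group
      _ = F u v * (F u v * F v u) * (F v u * F (u * v) u) * F (u * v) u := by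
          rw [hcc (F v u) (F u v), hcc (F (u * v) u) (F v u)]
      _ = (F u v * F u v) * (F v u * F v u) * (F (u * v) u * F (u * v) u) := by group
      _ = 1 := by rw [s1, s2, s3]; group
  have hJ1 : J = 1 := seven hcc P1 P2 P3 P4 P5 P6 P7 hJdef L2 L3 L4 L5 L6 L7 hJJ
  have ha1 := hflC t T.f1
  have ha2 := hflC t.swap T.f2
  have ha3 := hflC (hE.two_mul h t).swap T.f3
  have h1 := hJtri t T ha1 ha2 ha3
  have h2 : ((F u v * F v u * F (u * v) u : center (CE ⧸ E.subgroupOf CE)) : CE ⧸ E.subgroupOf CE) = 1 := by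
    rw [← hJdef, hJ1]; rfl
  rw [h2] at h1
  exact hπ1.mp h1.symm

end Pl

/-- **`Gam V z` is impossible** -/
theorem Gam.false [Finite G] {V : Subgroup G} {z : G} (h : Gam V z) : False := by
  obtain ⟨_, _, v, hv, _, hv1, hvz⟩ := h.move
  have hzp : Pt z z := Pt.refl z
  have hvW : v ∈ ws V z := le_ws (⟨⟨1, (cj_one V).symm⟩, h.z_mem⟩ : V ∈ lines V z) hv
  have hvp := h.pt hzp hvW hv1
  have hE := h.pl hzp hvW hv1 hvz
  set E := ws V z ⊓ ws V v with hEdef
  have hzE : z ∈ E := ⟨h.self_mem hzp, h.mem_symm hzp hvW hv1⟩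
  have hvE : v ∈ E := ⟨hvW, h.self_mem hvp⟩
  have t : Two E z v := ⟨hzE, hvE, h.z_ne, hv1, hvz.symm⟩
  obtain ⟨c, hi⟩ := hE.exists_third h t.u_mem t.v_mem t.u_ne t.v_ne t.uv
  obtain ⟨y, _, hy3, hyz, hyv, hyE⟩ := hE.exists_rot h (hE.ind_rot h (hE.ind_rot h hi))
  obtain ⟨g, hg⟩ := hE.exists_fl h t
  have evz : v * z = z * v := hE.comm h hvE hzE
  have h2 : Fl V E v z (y * g * y⁻¹) := by
    have := hg.conj hyE
    rw [hyz, hyv, ← evz] at this
    exact (hE.fl_same h t.swap).mp this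
  have h3 : Fl V E (z * v) z (y * (y * g * y⁻¹) * y⁻¹) := by
    have := h2.conj hyE
    rw [hyz, hyv] at this
    exact (hE.fl_third h t).mpr this
  have T : Tri V E z v g (y * g * y⁻¹) (y * (y * g * y⁻¹) * y⁻¹) := ⟨hg, h2, h3⟩
  have hjE := hE.tri_mem h t T
  obtain ⟨c1, c2, c3⟩ := hE.tri_comm h t T
  set g₁ := y * g * y⁻¹ with hg₁
  set g₂ := y * g₁ * y⁻¹ with hg₂
  have hg₃ : y * g₂ * y⁻¹ = g := by
    have : y * g₂ * y⁻¹ = y ^ 3 * g * (y ^ 3)⁻¹ := by
      rw [hg₂, hg₁]; simp only [pow_succ, pow_zero, one_mul]; group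
    rw [this, hy3]; group
  set j := g * g₁ * g₂ with hj
  have hgj : g * j = j * g := hE.fl_comm_E h t hg hjE
  have hg₁j : g₁ * j = j * g₁ := hE.fl_comm_E h t.swap h2 hjE
  have hyj : y * j * y⁻¹ = j := by
    calc y * j * y⁻¹ = (y * g * y⁻¹) * (y * g₁ * y⁻¹) * (y * g₂ * y⁻¹) := by rw [hj]; group
      _ = g₁ * g₂ * g := by rw [hg₃, ← hg₁, ← hg₂]
      _ = g₁ * (g₂ * g) := by group
      _ = g * g₁ * g₂ := by rw [← c2, ← mul_assoc, c1]
  have hjj : j * j = 1 := hE.sq h hjE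
  have hg₂2 : g₂ * g₂ = 1 := hE.fl_sq h (hE.two_mul h t).swap h3
  -- the two commuting points
  set x := g * j with hx
  set b := y * x * y⁻¹ with hb
  have hb' : b = g₁ * j := by
    calc b = (y * g * y⁻¹) * (y * j * y⁻¹) := by rw [hb, hx]; group
      _ = g₁ * j := by rw [hyj]
  have hyb : y * b * y⁻¹ = x * b := by
    have e1 : y * b * y⁻¹ = g₂ * j := by
      rw [hb']
      calc y * (g₁ * j) * y⁻¹ = (y * g₁ * y⁻¹) * (y * j * y⁻¹) := by group
        _ = g₂ * j := by rw [hyj]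
    have e2 : x * b = g * g₁ := by
      rw [hb', hx]
      calc g * j * (g₁ * j) = g * (j * g₁) * j := by group
        _ = g * g₁ * (j * j) := by rw [← hg₁j]; group
        _ = g * g₁ := by rw [hjj, mul_one]
    have e3 : g₂ * j = g * g₁ := by
      have e4 : g₂ * j = (g₂ * g) * (g₁ * g₂) := by rw [hj]; group
      rw [e4, ← c2, c3]
      calc g * g₂ * (g₂ * g₁) = g * (g₂ * g₂) * g₁ := by group
        _ = g * g₁ := by rw [hg₂2, mul_one]
    rw [e1, e2, e3]
  have hxb : x ∈ bb V z v := mul_mem hg.mem (hE.le_bb h hzE hvE h.z_ne hv1 hjE)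
  have hxE : x ∉ E := fun e => hg.notMem ((Subgroup.mul_mem_cancel_right _ hjE).mp e)
  have hbb : b ∈ bb V v z := by
    rw [hb']; exact mul_mem h2.mem (hE.le_bb h hvE hzE hv1 h.z_ne hjE)
  have hbE : b ∉ E := fun e => by
    rw [hb'] at e
    exact h2.notMem ((Subgroup.mul_mem_cancel_right _ hjE).mp e)
  have hxneb : x ≠ b := by
    intro e
    apply hxE
    exact ⟨hxb.1, by rw [e]; exact hbb.1⟩
  obtain ⟨s, hs3, hs1, hsx, hsb⟩ := hE.exists_cent_bb h hzE hvE h.z_ne hv1 hvz.symm hxb hxE hbb hbE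
  exact hs1 (h.noThree hy3 rfl hyb hxneb hs3 hsx hsb)

end Cfsg.Agent.OddCyclic.GamBase
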