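import Cfsg.Agent.OddCyclic.FFSl2

/-!
# The symmetric group `S₅` generated by transvections

`ρ : S₅ → Aut V`, `V` an elementary abelian 2-group, `A₅` acting faithfully, transpositions acting as transvections: then
`V = E × C_V(S₅)` with `E` the module of the even subsets of `{0,…,4}` (= natural `O₄⁻(2)`-module), `ρ` being the natural
action on `E`.
-/

set_option autoImplicit false
set_option linter.unusedSectionVars false

namespace Cfsg.Agent.OddCyclic.FFOuterPerm

open Equiv Cfsg.Agent.OddCyclic.T1Module Cfsg.Agent.OddCyclic.FFBasic Cfsg.Agent.OddCyclic.FFRed Cfsg.Agent.OddCyclic.FFSl2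

variable {V : Type*} [CommGroup V] [Finite V] {ρ : Perm (Fin 5) →* MulAut V}

/-- the centres of the transvections -/
structure Ev (ρ : Perm (Fin 5) →* MulAut V) (e : Fin 5 → Fin 5 → V) : Prop where
  diag : ∀ i, e i i = 1
  symm : ∀ i j, e i j = e j i
  add : ∀ i j k, e i j * e j k = e i k
  ne : ∀ i j, i ≠ j → e i j ≠ 1
  act : ∀ (g : Perm (Fin 5)) i j, ρ g (e i j) = e (g i) (g j)
  tv : ∀ i j, i ≠ j → ∀ v, ρ (swap i j) v = v ∨ ρ (swap i j) v = v * e i j

theorem exists_fifth : ∀ i j k l : Fin 5, ∃ m, m ≠ i ∧ m ≠ j ∧ m ≠ k ∧ m ≠ l := by decide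

theorem index_swap (i j : Fin 5) (hij : i ≠ j) (k l : Fin 5) (hkl : k ≠ l) :
    (fx ρ (swap i j)).index = (fx ρ (swap k l)).index := by
  obtain ⟨c, hc⟩ := isConj_iff.1 (Perm.isConj_swap hij hkl)
  rw [← hc, index_fx_conj]

theorem exists_center {g : Perm (Fin 5)} (h : (fx ρ g).index = 2) :
    ∃ c : V, c ≠ 1 ∧ ∀ x, x ∈ (cm ρ g).range ↔ x = 1 ∨ x = c := by
  have h1 : Nat.card (cm ρ g).range = 2 := by rw [card_range_cm, h]
  obtain ⟨c, hc⟩ : ∃ c : (cm ρ g).range, c ≠ 1 := by
    have : Nontrivial (cm ρ g).range := by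
      rw [← Finite.one_lt_card_iff_nontrivial, h1]; norm_num
    exact exists_ne 1
  have h2 := Nat.card_eq_two_iff' (1 : (cm ρ g).range) |>.1 h1
  obtain ⟨d, hd, hu⟩ := h2
  have hcd : c = d := hu c hc
  refine ⟨c.1, fun h => hc (Subtype.ext h), fun x => ⟨fun hx => ?_, ?_⟩⟩
  · by_cases hx1 : x = 1
    · exact Or.inl hx1
    · right
      have := hu ⟨x, hx⟩ (fun h => hx1 (congrArg Subtype.val h))
      rw [hcd, ← this]
  · rintro (rfl | rfl)
    · exact one_mem _
    · exact c.2

theorem exists_ev (hV : ∀ v : V, v * v = 1)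
    (hf : ∀ g ∈ alternatingGroup (Fin 5), g ≠ 1 → ∃ v, ρ g v ≠ v)
    (h2 : ∀ i j : Fin 5, i ≠ j → (fx ρ (swap i j)).index = 2) : ∃ e, Ev ρ e := by
  classical
  have hex : ∀ i j : Fin 5, ∃ c : V, (i = j → c = 1) ∧ (i ≠ j → c ≠ 1 ∧
      ∀ x, x ∈ (cm ρ (swap i j)).range ↔ x = 1 ∨ x = c) := by
    intro i j
    by_cases hij : i = j
    · exact ⟨1, fun _ => rfl, fun h => absurd hij h⟩
    · obtain ⟨c, hc⟩ := exists_center (h2 i j hij)
      exact ⟨c, fun h => absurd h hij, fun _ => hc⟩
  choose e he1 he2 using hex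
  have hne : ∀ i j, i ≠ j → e i j ≠ 1 := fun i j h => (he2 i j h).1
  have hdiag : ∀ i, e i i = 1 := fun i => he1 i i rfl
  have hact : ∀ (g : Perm (Fin 5)) i j, ρ g (e i j) = e (g i) (g j) := by
    intro g i j
    by_cases hij : i = j
    · subst hij
      rw [hdiag, hdiag, map_one]
    · have hgij : g i ≠ g j := fun h => hij (g.injective h)
      have h3 : e i j ∈ (cm ρ (swap i j)).range := ((he2 i j hij).2 _).2 (Or.inr rfl)
      obtain ⟨v, hv⟩ := h3
      have h4 : ρ g (e i j) ∈ (cm ρ (swap (g i) (g j))).range := by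
        refine ⟨ρ g v, ?_⟩
        rw [cm_apply, swap_apply_apply, ← hv, cm_apply, map_mul (ρ g), map_inv (ρ g)]
        congr 1
        rw [← MulAut.mul_apply, ← MulAut.mul_apply, ← map_mul, ← map_mul]
        congr 2; group
      rcases ((he2 _ _ hgij).2 _).1 h4 with h5 | h5
      · exfalso
        apply hne i j hij
        have : ρ g (e i j) = ρ g 1 := by rw [h5, map_one]
        exact (ρ g).injective this
      · exact h5
  have htv : ∀ i j, i ≠ j → ∀ v, ρ (swap i j) v = v ∨ ρ (swap i j) v = v * e i j := by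
    intro i j hij v
    rcases ((he2 i j hij).2 (cm ρ (swap i j) v)).1 ⟨v, rfl⟩ with h | h
    · left
      rw [cm_apply, mul_inv_eq_one] at h
      exact h
    · right
      rw [cm_apply, mul_inv_eq_iff_eq_mul] at h
      rw [h, mul_comm]
  have hsymm : ∀ i j, e i j = e j i := by
    intro i j
    have h := hact (swap i j) i j
    rw [swap_apply_left, swap_apply_right] at h
    by_cases hij : i = j
    · rw [hij]
    · rcases htv i j hij (e i j) with h3 | h3
      · rw [← h, h3]
      · exfalso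
        rw [hV] at h3
        rw [h] at h3
        exact hne j i (fun h => hij h.symm) h3
  -- the noncommuting case
  have key : ∀ i j k, i ≠ j → j ≠ k → i ≠ k → e i k ≠ e j k := by
    intro i j k hij hjk hik heq
    have h3 : ∀ a b c : Fin 5, a ≠ b → b ≠ c → a ≠ c → e a c = e b c := by
      intro a b c hab hbc hac
      have hg : ∀ i j k a b c : Fin 5, i ≠ j → j ≠ k → i ≠ k → a ≠ b → b ≠ c → a ≠ c →
          ∃ g : Perm (Fin 5), g i = a ∧ g j = b ∧ g k = c := by
        intro i j k a b c hij hjk hik hab hbc hac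
        let p : Perm (Fin 5) := swap i a
        let q : Perm (Fin 5) := swap (p j) b
        let r : Perm (Fin 5) := swap (q (p k)) c
        have hp : p i = a := swap_apply_left i a
        have hpj : p j ≠ a := fun h => hij (p.injective (hp.trans h.symm))
        have hpk : p k ≠ a := fun h => hik (p.injective (hp.trans h.symm))
        have hq : q (p j) = b := swap_apply_left _ _
        have hqa : q a = a := swap_apply_of_ne_of_ne hpj.symm hab
        have hqk : q (p k) ≠ b := fun h => hjk (p.injective (q.injective (hq.trans h.symm)))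
        have hqk' : q (p k) ≠ a := fun h => hpk (q.injective (h.trans hqa.symm))
        refine ⟨r * q * p, ?_, ?_, ?_⟩
        · change r (q (p i)) = a
          rw [hp, hqa]
          exact swap_apply_of_ne_of_ne hqk'.symm hac
        · change r (q (p j)) = b
          rw [hq]
          exact swap_apply_of_ne_of_ne hqk.symm hbc
        · exact swap_apply_left _ _
      obtain ⟨g, h4, h5, h6⟩ := hg i j k a b c hij hjk hik hab hbc hac
      rw [← h4, ← h5, ← h6, ← hact, ← hact, heq]
    -- all centres on a triple coincide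
    have h4 : e j k = e i j := by
      rw [hsymm j k, hsymm i j]
      rw [← h3 i k j hik hjk.symm hij, hsymm i j]
    have h5 : ρ (swap i j) (e i j) = e i j := by
      rw [hact, swap_apply_left, swap_apply_right]; exact (hsymm i j).symm
    have h6 : ρ (swap j k) (e i j) = e i j := by
      rw [← h4, hact, swap_apply_left, swap_apply_right]; exact (hsymm j k).symm
    have h7 : ∀ v, ρ (swap i j * swap j k) v = v ∨ ρ (swap i j * swap j k) v = v * e i j := by
      intro v
      rw [map_mul, MulAut.mul_apply]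
      rcases htv j k hjk v with h | h
      · rw [h]; exact htv i j hij v
      · rw [h, h4, map_mul, h5]
        rcases htv i j hij v with h' | h'
        · right; rw [h']
        · left; rw [h', mul_assoc, hV, mul_one]
    have h8 : ρ (swap i j * swap j k) (e i j) = e i j := by
      rw [map_mul, MulAut.mul_apply, h6, h5]
    have h9 : ∀ v, ρ ((swap i j * swap j k) * (swap i j * swap j k)) v = v := by
      intro v
      rw [map_mul, MulAut.mul_apply]
      rcases h7 v with h | h
      · rw [h]; exact h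
      · rw [h, map_mul, h8, h, mul_assoc, hV, mul_one]
    have h10 : (swap i j * swap j k) * (swap i j * swap j k) ≠ (1 : Perm (Fin 5)) := by
      intro h
      have := congrArg (fun g : Perm (Fin 5) => g j) h
      simp only [Perm.mul_apply, Perm.one_apply, swap_apply_left] at this
      rw [swap_apply_of_ne_of_ne hik.symm hjk.symm, swap_apply_right, swap_apply_right] at this
      exact hij this
    obtain ⟨v, hv⟩ := hf _ (by
      rw [Perm.mem_alternatingGroup, map_mul, map_mul, Perm.sign_swap hij, Perm.sign_swap hjk]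
      norm_num) h10
    exact hv (h9 v)
  have hadd : ∀ i j k, e i j * e j k = e i k := by
    intro i j k
    by_cases hij : i = j
    · subst hij; rw [hdiag, one_mul]
    by_cases hjk : j = k
    · subst hjk; rw [hdiag, mul_one]
    by_cases hik : i = k
    · subst hik; rw [hdiag, hsymm j i, hV]
    have h3 := hact (swap i j) j k
    rw [swap_apply_right, swap_apply_of_ne_of_ne (Ne.symm hik) (Ne.symm hjk)] at h3
    rcases htv i j hij (e j k) with h4 | h4
    · exfalso
      rw [h3] at h4
      exact key i j k hij hjk hik h4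
    · rw [← h3, h4, mul_comm]
  exact ⟨e, hdiag, hsymm, hadd, hne, hact, htv⟩

/-! ### transpositions have index two -/

/-- double transpositions -/
def DT (g : Perm (Fin 5)) : Prop :=
  ∃ i j k l : Fin 5, i ≠ j ∧ k ≠ l ∧ i ≠ k ∧ i ≠ l ∧ j ≠ k ∧ j ≠ l ∧ g = swap i j * swap k l

instance (g : Perm (Fin 5)) : Decidable (DT g) := by unfold DT; infer_instance

set_option maxRecDepth 100000 in
theorem invol_odd : ∀ g : Perm (Fin 5), g * g = 1 → Perm.sign g = -1 → ∃ i j, i ≠ j ∧ g = swap i j := by decide +kernel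

set_option maxRecDepth 100000 in
theorem invol_even : ∀ g : Perm (Fin 5), g * g = 1 → Perm.sign g = 1 → g ≠ 1 → DT g := by decide +kernel

/-- a vector fixed by all `(i, i+1)` is fixed by everything -/
theorem mem_top {v : V} (h : ∀ i : Fin 4, v ∈ fx ρ (swap i.castSucc i.succ)) : v ∈ CS ρ ⊤ := by
  rw [mem_CS_iff]
  intro g _
  have h1 : Submonoid.closure (Set.range fun i : Fin 4 => swap i.castSucc i.succ) ≤ (stb ρ v).toSubmonoid := by
    rw [Submonoid.closure_le]
    rintro _ ⟨i, rfl⟩
    exact h i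
  rw [Perm.mclosure_swap_castSucc_succ] at h1
  exact h1 (Submonoid.mem_top g)

theorem index_top (h2 : ∀ i j : Fin 5, i ≠ j → (fx ρ (swap i j)).index = 2) : (CS ρ ⊤).index ≤ 16 := by
  have h1 : fx ρ (swap (0 : Fin 5) 1) ⊓ fx ρ (swap (1 : Fin 5) 2) ⊓ (fx ρ (swap (2 : Fin 5) 3) ⊓ fx ρ (swap (3 : Fin 5) 4)) ≤
      CS ρ ⊤ := by
    rintro v ⟨⟨ha, hb⟩, hc, hd⟩
    apply mem_top
    intro i
    fin_cases i
    · exact ha
    · exact hb
    · exact hc
    · exact hd
  refine (index_le_of_le h1).trans ?_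
  have e1 : (fx ρ (swap (0 : Fin 5) 1) ⊓ fx ρ (swap (1 : Fin 5) 2)).index ≤ 4 := by
    refine Subgroup.index_inf_le.trans ?_
    rw [h2 _ _ (by decide), h2 _ _ (by decide)]
  have e2 : (fx ρ (swap (2 : Fin 5) 3) ⊓ fx ρ (swap (3 : Fin 5) 4)).index ≤ 4 := by
    refine Subgroup.index_inf_le.trans ?_
    rw [h2 _ _ (by decide), h2 _ _ (by decide)]
  refine Subgroup.index_inf_le.trans ?_
  exact Nat.mul_le_mul e1 e2

theorem exists_conj_pair : ∀ i j k l a b c d : Fin 5, i ≠ j → k ≠ l → i ≠ k → i ≠ l → j ≠ k → j ≠ l →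
    a ≠ b → c ≠ d → a ≠ c → a ≠ d → b ≠ c → b ≠ d →
    ∃ g : Perm (Fin 5), g i = a ∧ g j = b ∧ g k = c ∧ g l = d := by
  intro i j k l a b c d hij hkl hik hil hjk hjl hab hcd hac had hbc hbd
  let p : Perm (Fin 5) := swap i a
  let q : Perm (Fin 5) := swap (p j) b
  let r : Perm (Fin 5) := swap (q (p k)) c
  let s : Perm (Fin 5) := swap (r (q (p l))) d
  have hp : p i = a := swap_apply_left i a
  have hq : q (p j) = b := swap_apply_left _ _
  have hr : r (q (p k)) = c := swap_apply_left _ _
  have hs : s (r (q (p l))) = d := swap_apply_left _ _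
  have ne : ∀ {x y : Fin 5} (g : Perm (Fin 5)), x ≠ y → g x ≠ g y := fun g h h' => h (g.injective h')
  have hqa : q a = a := swap_apply_of_ne_of_ne (by rw [← hp]; exact ne p hij) hab
  have hra : r a = a := swap_apply_of_ne_of_ne (by rw [← hqa, ← hp]; exact ne q (ne p hik)) hac
  have hrb : r b = b := swap_apply_of_ne_of_ne (by rw [← hq]; exact ne q (ne p hjk)) hbc
  have hsa : s a = a := swap_apply_of_ne_of_ne (by rw [← hra, ← hqa, ← hp]; exact ne r (ne q (ne p hil))) had
  have hsb : s b = b := swap_apply_of_ne_of_ne (by rw [← hrb, ← hq]; exact ne r (ne q (ne p hjl))) hbd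
  have hsc : s c = c := swap_apply_of_ne_of_ne (by rw [← hr]; exact ne r (ne q (ne p hkl))) hcd
  refine ⟨s * r * q * p, ?_, ?_, ?_, ?_⟩
  · change s (r (q (p i))) = a
    rw [hp, hqa, hra, hsa]
  · change s (r (q (p j))) = b
    rw [hq, hrb, hsb]
  · change s (r (q (p k))) = c
    rw [hr, hsc]
  · exact hs

/-- disjoint transpositions cannot have the same fixed points -/
theorem index_top_of_eq {i j k l : Fin 5} (hij : i ≠ j) (hkl : k ≠ l) (hik : i ≠ k) (hil : i ≠ l) (hjk : j ≠ k)
    (hjl : j ≠ l) (h : fx ρ (swap i j) = fx ρ (swap k l)) : CS ρ ⊤ = fx ρ (swap 0 1) := by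
  have h1 : ∀ a b c d : Fin 5, a ≠ b → c ≠ d → a ≠ c → a ≠ d → b ≠ c → b ≠ d →
      fx ρ (swap a b) = fx ρ (swap c d) := by
    intro a b c d hab hcd hac had hbc hbd
    obtain ⟨g, ha, hb, hc, hd⟩ := exists_conj_pair i j k l a b c d hij hkl hik hil hjk hjl hab hcd hac had hbc hbd
    rw [← ha, ← hb, ← hc, ← hd, swap_apply_apply, swap_apply_apply, fx_conj, fx_conj, h]
  apply le_antisymm (CS_le_fx (Subgroup.mem_top _))
  intro v hv
  have e1 : v ∈ fx ρ (swap 2 3) := by
    rw [h1 2 3 0 1 (by decide) (by decide) (by decide) (by decide) (by decide) (by decide)]; exact hv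
  have e2 : v ∈ fx ρ (swap 0 4) := by
    rw [h1 0 4 2 3 (by decide) (by decide) (by decide) (by decide) (by decide) (by decide)]; exact e1
  have e3 : v ∈ fx ρ (swap 1 2) := by
    rw [h1 1 2 0 4 (by decide) (by decide) (by decide) (by decide) (by decide) (by decide)]; exact e2
  have e4 : v ∈ fx ρ (swap 3 4) := by
    rw [h1 3 4 0 1 (by decide) (by decide) (by decide) (by decide) (by decide) (by decide)]; exact hv
  apply mem_top
  intro i
  fin_cases i
  · exact hv
  · exact e3
  · exact e1
  · exact e4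

/-- transpositions act nontrivially -/
theorem index_ne_one (hf : ∀ g ∈ alternatingGroup (Fin 5), g ≠ 1 → ∃ v, ρ g v ≠ v) {i j : Fin 5} (hij : i ≠ j) :
    (fx ρ (swap i j)).index ≠ 1 := by
  intro h
  have h1 : ∀ k l : Fin 5, k ≠ l → ∀ v, ρ (swap k l) v = v := by
    intro k l hkl v
    have h2 := index_swap (ρ := ρ) i j hij k l hkl
    rw [h] at h2
    have h3 := Subgroup.index_eq_one.1 h2.symm
    have : v ∈ fx ρ (swap k l) := by rw [h3]; trivial
    exact this
  obtain ⟨v, hv⟩ := hf (swap 0 1 * swap 1 2) (by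
    rw [Perm.mem_alternatingGroup, map_mul, Perm.sign_swap (by decide), Perm.sign_swap (by decide)]; rfl) (by decide)
  apply hv
  rw [map_mul, MulAut.mul_apply, h1 1 2 (by decide), h1 0 1 (by decide)]

/-- the action of `S₅` in the presence of a best offender outside `A₅`, part 1 -/
theorem index_two (hV : ∀ v : V, v * v = 1)
    (hf : ∀ g ∈ alternatingGroup (Fin 5), g ≠ 1 → ∃ v, ρ g v ≠ v)
    (hinv : ∀ g ∈ alternatingGroup (Fin 5), g ≠ 1 → g * g = 1 → 4 ≤ (fx ρ g).index)
    (h16 : 16 ≤ (CS ρ (alternatingGroup (Fin 5))).index)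
    {A : Subgroup (Perm (Fin 5))} (hsq : ∀ a ∈ A, a * a = 1) (hi : (CS ρ A).index ≤ Nat.card A)
    (h4 : Nat.card A ≤ 4) (hA : ¬ A ≤ alternatingGroup (Fin 5))
    (hc : 2 * Nat.card (A ⊓ alternatingGroup (Fin 5) : Subgroup (Perm (Fin 5))) = Nat.card A) :
    (∀ i j : Fin 5, i ≠ j → (fx ρ (swap i j)).index = 2) ∧ (CS ρ A).index = Nat.card A := by
  obtain ⟨a, ha, haL⟩ := SetLike.not_le_iff_exists.1 hA
  have hsa : Perm.sign a = -1 := by
    rcases Int.units_eq_one_or (Perm.sign a) with h | h
    · exact absurd (Perm.mem_alternatingGroup.2 h) haL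
    · exact h
  obtain ⟨i, j, hij, rfl⟩ := invol_odd a (hsq a ha) hsa
  have hne := index_ne_one hf hij
  have hle := index_le_of_le (CS_le_fx (ρ := ρ) ha)
  have hsuf : (fx ρ (swap i j)).index = 2 → ∀ i j : Fin 5, i ≠ j → (fx ρ (swap i j)).index = 2 := by
    intro h k l hkl
    rw [← h]; exact index_swap k l hkl i j hij
  have hpos : (fx ρ (swap i j)).index ≠ 0 := Subgroup.index_ne_zero_of_finite
  by_cases hu : ∃ u ∈ A ⊓ alternatingGroup (Fin 5), u ≠ 1
  · obtain ⟨u, ⟨hu, huL⟩, hu1⟩ := hu
    have h5 := hinv u huL hu1 (hsq u hu)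
    have h6 := index_le_of_le (CS_le_fx (ρ := ρ) hu)
    have h7 : (CS ρ A).index = 4 := by omega
    have h8 : CS ρ A = fx ρ u := eq_of_index_le (CS_le_fx hu) (by omega)
    refine ⟨hsuf ?_, by omega⟩
    by_contra hcon
    obtain ⟨d, hd⟩ := index_pow hV (fx ρ (swap i j))
    have hd2 : d = 2 := by
      have h9 : 2 ^ d ≤ 2 ^ 2 := by rw [← hd]; omega
      have h10 : d ≤ 2 := (Nat.pow_le_pow_iff_right (by norm_num)).1 h9
      interval_cases d
      · exact absurd hd hne
      · exact absurd hd hcon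
      · rfl
    rw [hd2] at hd
    have h9 : CS ρ A = fx ρ (swap i j) := eq_of_index_le (CS_le_fx ha) (by omega)
    -- the other transposition
    have hau : swap i j * u ∈ A := mul_mem ha hu
    have hsu : Perm.sign (swap i j * u) = -1 := by
      rw [map_mul, hsa, Perm.mem_alternatingGroup.1 huL, mul_one]
    obtain ⟨k, l, hkl, hau'⟩ := invol_odd _ (hsq _ hau) hsu
    have hu' : u = swap i j * swap k l := by
      rw [← hau', ← mul_assoc, swap_mul_self, one_mul]
    have hkl2 : fx ρ (swap i j) ≤ fx ρ (swap k l) := by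
      rw [← h9, ← hau']
      exact CS_le_fx hau
    have h10 : fx ρ (swap i j) = fx ρ (swap k l) := by
      apply eq_of_index_le hkl2
      rw [index_swap i j hij k l hkl]
    -- disjointness
    have h11 : swap i j * swap k l * (swap i j * swap k l) = 1 := by rw [← hu']; exact hsq u hu
    have hdis : ∀ i j k l : Fin 5, i ≠ j → k ≠ l → swap i j * swap k l * (swap i j * swap k l) = 1 →
        swap i j * swap k l ≠ 1 → i ≠ k ∧ i ≠ l ∧ j ≠ k ∧ j ≠ l := by decide +kernel
    obtain ⟨e1, e2, e3, e4⟩ := hdis i j k l hij hkl h11 (by rw [← hu']; exact hu1)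
    have h12 := index_top_of_eq hij hkl e1 e2 e3 e4 h10
    have h13 := index_le_of_le (CS_anti (ρ := ρ) (le_top : alternatingGroup (Fin 5) ≤ ⊤))
    rw [h12, index_swap 0 1 (by decide) i j hij, hd] at h13
    omega
  · push Not at hu
    have hbot : A ⊓ alternatingGroup (Fin 5) = ⊥ := by
      rw [Subgroup.eq_bot_iff_forall]
      exact hu
    rw [hbot, Subgroup.card_bot] at hc
    have h7 : (fx ρ (swap i j)).index = 2 := by omega
    exact ⟨hsuf h7, by omega⟩

end Cfsg.Agent.OddCyclic.FFOuterPerm
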