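import Cfsg.Agent.OddCyclic.RedFiveC
import Cfsg.Agent.OddCyclic.RedBlock

/-!
# S0342, (C2), 2.2-2.3: the type `S₅`, the output
-/

set_option autoImplicit false

namespace Cfsg.Agent.OddCyclic.RedFive

open Subgroup Equiv Equiv.Perm
open Cfsg.Agent.OddCyclic.T1Module Cfsg.Agent.OddCyclic.FFBasic Cfsg.Agent.OddCyclic.FFRed
open Cfsg.Agent.OddCyclic.RedFFDefs Cfsg.Agent.OddCyclic.RedFam
open Cfsg.Agent.OddCyclic.T1Defs (OddCyc)

universe u

variable {H : Type u} [Group H] {V : Type u} [CommGroup V] {ρ : H →* MulAut V} {K : Subgroup H}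
  {e : K ≃* Perm (Fin 5)} {s : Fin 5 → V} {φ : H →* Perm (Fin 5)}

/-- the type `S₅` -/
structure FO (ρ : H →* MulAut V) (T : Subgroup H) (𝒜 : Set (Subgroup H)) {K : Subgroup H} (e : K ≃* Perm (Fin 5))
    (s : Fin 5 → V) (φ : H →* Perm (Fin 5)) : Prop extends Fv ρ e s φ where
  t01 : ∃ A ∈ 𝒜, tr e 0 1 ∈ A
  t23 : ∃ A ∈ 𝒜, tr e 2 3 ∈ A
  le : ∀ A ∈ 𝒜, A ≤ closure {tr e 0 1, tr e 2 3}
  card : Nat.card (T ⊓ K : Subgroup H) = 8

variable [Finite H] [Finite V] {T : Subgroup H} {𝒜 : Set (Subgroup H)}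

omit [Finite V] in
theorem card_inf (h : Fv ρ e s φ) (hT : IsPGroup 2 T) (hs : ¬ 2 ∣ T.index) : Nat.card (T ⊓ K : Subgroup H) = 8 := by
  have hf : Fact (Nat.Prime 2) := ⟨Nat.prime_two⟩
  have hK := h.normal
  have h1 : ¬ 2 ∣ (T ⊓ K).relIndex K := Red.not_dvd_inf (X := ⊤) hT (by rwa [relIndex_top_right]) le_top
    (by rw [normalizer_eq_top])
  have h2 : Nat.card K = 120 := by
    rw [Nat.card_congr e.toEquiv, Nat.card_perm, Nat.card_eq_fintype_card, Fintype.card_fin]; rfl
  have h3 := card_mul_relIndex (A := T ⊓ K) (B := K) inf_le_right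
  rw [h2] at h3
  obtain ⟨n, hn⟩ := IsPGroup.iff_card.1 (hT.to_le (inf_le_left : T ⊓ K ≤ T))
  rw [hn] at h3 ⊢
  have h4 : n < 7 := by
    by_contra hcon
    have h5 : 2 ^ 7 ≤ 2 ^ n := Nat.pow_le_pow_right (by norm_num) (by omega)
    have h6 : 0 < (T ⊓ K).relIndex K := Nat.pos_of_ne_zero (by
      intro h0
      rw [h0] at h3
      norm_num at h3)
    nlinarith
  interval_cases n <;> omega

theorem exists_FO (hF : Fam ρ T 𝒜) {A : Subgroup H} (hA : A ∈ 𝒜) (hA1 : A ≠ ⊥) (h5 : OutFive ρ A) :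
    ∃ (K : Subgroup H) (e : K ≃* Perm (Fin 5)) (s : Fin 5 → V) (φ : H →* Perm (Fin 5)), FO ρ T 𝒜 e s φ := by
  obtain ⟨K, hAK, e, hn, htv, hgen⟩ := h5
  have hn' : (L0 e).Normal := hn
  obtain ⟨s, hs⟩ := (FD.mk hF.sq hF.inj hn htv : FD ρ e).exists_s
  obtain ⟨φ, hφ, hφK⟩ := hs.exists_phi hn'
  have h : Fv ρ e s φ := { toVec := hs, ri := hF.inj, nl := hn', phi := hφ, phiK := hφK }
  -- a transposition
  obtain ⟨a, b, hab, htA⟩ : ∃ a b : Fin 5, a ≠ b ∧ tr e a b ∈ A := by
    by_contra hcon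
    push Not at hcon
    apply hA1
    rw [eq_bot_iff]
    refine hgen.trans ?_
    rw [closure_le]
    rintro t ⟨ht, i, j, hij, rfl⟩
    exact absurd ht (hcon i j hij)
  have hD : Nat.card (((T ⊓ K).subgroupOf K).map e.toMonoidHom) = 8 := by
    rw [Subgroup.card_map_of_injective e.injective, Nat.card_congr (subgroupOfEquivOfLe inf_le_right).toEquiv]
    exact card_inf h hF.two hF.syl
  obtain ⟨_, ⟨k, hk, rfl⟩, hg⟩ := RedPerm.exists_not_comm hD hab
  have hkT : (k : H) ∈ T := (mem_subgroupOf.1 hk).1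
  change e k * swap a b ≠ swap a b * e k at hg
  have hcj := h.conj_tr (k : H) a b
  rw [h.phiK] at hcj
  have hA'T : A.map (MulAut.conj (k : H)).toMonoidHom ≤ T := by
    rintro _ ⟨x, hx, rfl⟩
    exact T.mul_mem (T.mul_mem hkT (hF.le A hA hx)) (T.inv_mem hkT)
  have hA' := hF.conj A hA k hA'T
  have htA' : tr e (e k a) (e k b) ∈ A.map (MulAut.conj (k : H)).toMonoidHom := by
    rw [← hcj]
    exact ⟨_, htA, rfl⟩
  have hab' : e k a ≠ e k b := (e k).injective.ne hab
  rcases tr_disj hF.two hab hab' (hF.le A hA htA) (hA'T htA') with h1 | ⟨h1, h2, h3, h4⟩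
  · exfalso
    apply hg
    rw [swap_apply_apply, eq_mul_inv_iff_mul_eq] at h1
    exact h1.symm
  obtain ⟨σ, s0, s1, s2, s3⟩ := RedPerm.exists_perm hab h1 h2 h3 h4 hab'
  have hR := h.relabel σ
  have hG := gen hR hF
  have ht01 : tr (rel e σ) 0 1 ∈ A := by rw [rel_tr, s0, s1]; exact htA
  have ht23 : tr (rel e σ) 2 3 ∈ A.map (MulAut.conj (k : H)).toMonoidHom := by rw [rel_tr, s2, s3]; exact htA'
  refine ⟨K, rel e σ, s ∘ σ, _, FO.mk hR ⟨A, hA, ht01⟩ ⟨_, hA', ht23⟩ ?_ (card_inf h hF.two hF.syl)⟩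
  intro B hB
  refine (hG B hB).trans (closure_mono ?_)
  rintro t ⟨htB, i, j, hij, rfl⟩
  have h01 : (0 : Fin 5) ≠ 1 := by decide
  have h23 : (2 : Fin 5) ≠ 3 := by decide
  rcases tr_disj hF.two hij h01 (hF.le B hB htB) (hF.le A hA ht01) with h5 | ⟨h5, h6, h7, h8⟩
  · left
    rw [tr, tr, h5]
  rcases tr_disj hF.two hij h23 (hF.le B hB htB) (hA'T ht23) with h9 | ⟨h9, h10, h11, h12⟩
  · right
    rw [Set.mem_singleton_iff, tr, tr, h9]
  exfalso
  omega

section plane

omit [Finite V] in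
/-- the planes -/
theorem FO.plane (h : FO ρ T 𝒜 e s φ) (hc : OddCyc H) {P : Subgroup V} {x : H} (hp : Pl ρ 𝒜 P x) :
    (P = closure {s 0 * s 1, s 0 * s 4} ∧ ρ x (s 2 * s 3) = s 2 * s 3) ∨
    (P = closure {s 2 * s 3, s 2 * s 4} ∧ ρ x (s 0 * s 1) = s 0 * s 1) := by
  classical
  have hxL := h.three_mem hc hp.three
  obtain ⟨η, hη, hxη⟩ := of_mem_L0 hxL
  have hφx : φ x = η := by rw [hxη, h.phiK, e.apply_symm_apply]
  have hfinP : Finite P := Nat.finite_of_card_ne_zero (by rw [hp.card]; norm_num)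
  have hη1 : η ≠ 1 := by
    rintro rfl
    rw [map_one] at hxη
    have h1 : P = ⊥ := by
      rw [eq_bot_iff_forall]
      intro p hp'
      exact hp.fpf p hp' (by rw [hxη]; change ρ 1 p = p; rw [map_one]; rfl)
    have h2 := hp.card
    rw [h1, card_bot] at h2
    norm_num at h2
  have hη3 : orderOf η = 3 := by
    refine RedPerm.order_three ?_ hη1
    obtain ⟨k, hk⟩ := hp.three
    refine ⟨k, ?_⟩
    rw [← hφx, ← map_pow, hk, map_one]
  obtain ⟨a, b, c, hab, hbc, hac, hηe⟩ := RedPerm.exists_three hη3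
  have hx : x = tr e a b * tr e b c := by
    rw [hxη, hηe, map_mul]; rfl
  have hsub : (P : Set V) ⊆ {1, s a * s b, s b * s c, s a * s c} := by
    let f : P →* P :=
      { toFun := fun p => ⟨cm ρ x p, mul_mem (hp.inv p p.2) (inv_mem p.2)⟩
        map_one' := Subtype.ext (map_one _)
        map_mul' := fun a b => Subtype.ext (map_mul (cm ρ x) (a : V) b) }
    have hinj : Function.Injective f := by
      rw [injective_iff_map_eq_one]
      intro p hp'
      have h3 : cm ρ x p = 1 := congrArg Subtype.val hp'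
      rw [cm_apply, mul_inv_eq_one] at h3
      exact Subtype.ext (hp.fpf p p.2 h3)
    have hsur := (Finite.injective_iff_surjective (f := f)).1 hinj
    intro p hp'
    obtain ⟨q, hq⟩ := hsur ⟨p, hp'⟩
    have h1 : cm ρ x q = p := congrArg Subtype.val hq
    rw [← h1, hx]
    rcases h.toVec.cm_three hab hbc (q : V) with h2 | h2 | h2 | h2 <;> rw [h2]
    · left; rfl
    · right; left; rfl
    · right; right; left; rfl
    · right; right; right; rfl
  have hPe : (P : Set V) = {1, s a * s b, s b * s c, s a * s c} := by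
    refine Set.eq_of_subset_of_ncard_le hsub ?_ (Set.toFinite _)
    have h1 : (P : Set V).ncard = 4 := hp.card
    rw [h1]
    refine (Set.ncard_insert_le _ _).trans ?_
    refine Nat.succ_le_succ ((Set.ncard_insert_le _ _).trans ?_)
    refine Nat.succ_le_succ ((Set.ncard_insert_le _ _).trans ?_)
    rw [Set.ncard_singleton]
  have hmem : ∀ p, p ∈ P ↔ p = 1 ∨ p = s a * s b ∨ p = s b * s c ∨ p = s a * s c := by
    intro p
    rw [← SetLike.mem_coe, hPe]
    rfl
  -- pairs
  have hin : ∀ i ∈ ({a, b, c} : Finset (Fin 5)), ∀ j ∈ ({a, b, c} : Finset (Fin 5)), s i * s j ∈ P := by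
    intro i hi j hj
    have key : ∀ i ∈ ({a, b, c} : Finset (Fin 5)), s a * s i ∈ P := by
      intro i hi
      simp only [Finset.mem_insert, Finset.mem_singleton] at hi
      rcases hi with rfl | rfl | rfl
      · rw [h.sq]; exact one_mem _
      · exact (hmem _).2 (Or.inr (Or.inl rfl))
      · exact (hmem _).2 (Or.inr (Or.inr (Or.inr rfl)))
    have e1 : s i * s j = (s a * s i) * (s a * s j) := by
      calc s i * s j = (s a * s a) * (s i * s j) := by rw [h.sq, one_mul]
        _ = _ := by simp only [mul_comm, mul_left_comm]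
    rw [e1]
    exact mul_mem (key i hi) (key j hj)
  have hout : ∀ i j, i ≠ j → s i * s j ∈ P → i ∈ ({a, b, c} : Finset (Fin 5)) := by
    intro i j hij hP
    rcases (hmem _).1 hP with h1 | h1 | h1 | h1
    · exact absurd h1 (h.toVec.pair_ne_one hij)
    · rcases h.toVec.pair_eq hij h1 with ⟨h2, -⟩ | ⟨h2, -⟩ <;> rw [h2] <;> simp
    · rcases h.toVec.pair_eq hij h1 with ⟨h2, -⟩ | ⟨h2, -⟩ <;> rw [h2] <;> simp
    · rcases h.toVec.pair_eq hij h1 with ⟨h2, -⟩ | ⟨h2, -⟩ <;> rw [h2] <;> simp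
  have himg : ∀ u v : Fin 5, (∃ A ∈ 𝒜, tr e u v ∈ A) →
      ({a, b, c} : Finset (Fin 5)).image (swap u v) ⊆ {a, b, c} := by
    rintro u v ⟨A, hA, ht⟩ y hy
    obtain ⟨i, hi, rfl⟩ := Finset.mem_image.1 hy
    obtain ⟨j, hj, hij⟩ : ∃ j ∈ ({a, b, c} : Finset (Fin 5)), i ≠ j := by
      by_cases hia : i = a
      · exact ⟨b, by simp, by rw [hia]; exact hab⟩
      · exact ⟨a, by simp, hia⟩
    have h1 := hp.inv' A hA _ ht _ (hin i hi j hj)
    rw [map_mul, h.toVec.act_tr, h.toVec.act_tr] at h1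
    exact hout _ _ ((swap u v).injective.ne hij) h1
  have hfix : ∀ i, i ∉ ({a, b, c} : Finset (Fin 5)) → ρ x (s i) = s i := by
    intro i hi
    simp only [Finset.mem_insert, Finset.mem_singleton, not_or] at hi
    rw [h.phi, hφx, hηe, Perm.mul_apply, swap_apply_of_ne_of_ne hi.2.1 hi.2.2, swap_apply_of_ne_of_ne hi.1 hi.2.1]
  have hcl : ∀ o i j : Fin 5, ({a, b, c} : Finset (Fin 5)) = {o, i, j} → P = closure {s o * s i, s o * s j} := by
    intro o i j hF
    apply le_antisymm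
    · intro p hp'
      have key : ∀ k ∈ ({a, b, c} : Finset (Fin 5)), s o * s k ∈ closure {s o * s i, s o * s j} := by
        intro k hk
        rw [hF] at hk
        simp only [Finset.mem_insert, Finset.mem_singleton] at hk
        rcases hk with rfl | rfl | rfl
        · rw [h.sq]; exact one_mem _
        · exact subset_closure (Or.inl rfl)
        · exact subset_closure (Or.inr rfl)
      have key2 : ∀ k ∈ ({a, b, c} : Finset (Fin 5)), ∀ l ∈ ({a, b, c} : Finset (Fin 5)),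
          s k * s l ∈ closure {s o * s i, s o * s j} := by
        intro k hk l hl
        have e1 : s k * s l = (s o * s k) * (s o * s l) := by
          calc s k * s l = (s o * s o) * (s k * s l) := by rw [h.sq, one_mul]
            _ = _ := by simp only [mul_comm, mul_left_comm]
        rw [e1]
        exact mul_mem (key k hk) (key l hl)
      rcases (hmem _).1 hp' with rfl | rfl | rfl | rfl
      · exact one_mem _
      · exact key2 a (by simp) b (by simp)
      · exact key2 b (by simp) c (by simp)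
      · exact key2 a (by simp) c (by simp)
    · rw [closure_le]
      rintro _ (rfl | rfl)
      · exact hin o (by rw [hF]; simp) i (by rw [hF]; simp)
      · exact hin o (by rw [hF]; simp) j (by rw [hF]; simp)
  rcases RedPerm.triple a b c hab hbc hac (himg 0 1 h.t01) (himg 2 3 h.t23) with hF | hF
  · left
    refine ⟨hcl 0 1 4 hF, ?_⟩
    rw [map_mul, hfix 2 (by rw [hF]; decide), hfix 3 (by rw [hF]; decide)]
  · right
    refine ⟨hcl 2 3 4 hF, ?_⟩
    rw [map_mul, hfix 0 (by rw [hF]; decide), hfix 1 (by rw [hF]; decide)]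

end plane

end Cfsg.Agent.OddCyclic.RedFive
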