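import Cfsg.Agent.OddCyclic.RedNoLin
import Cfsg.Agent.OddCyclic.RedFiveD

/-!
# S0342, (C2), 2.2-2.4: type (S5) for `X`
-/

set_option autoImplicit false
set_option linter.unusedSectionVars false

namespace Cfsg.Agent.OddCyclic.RedFivX

open Subgroup Cfsg Cfsg.Agent.ZN Cfsg.Agent.MinSimple Cfsg.Agent.MinSimple.DBlkApi Equiv Equiv.Perm
open Cfsg.Agent.ZN.ChoiceBase (AA cj)
open Cfsg.Agent.MinSimple.LemX (nc le_nc nc_le le_normalizer_nc)
open Cfsg.Agent.OddCyclic.COneDefs (LBlk)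
open Cfsg.Agent.OddCyclic.T1Module Cfsg.Agent.OddCyclic.FFBasic Cfsg.Agent.OddCyclic.FFRed
open Cfsg.Agent.OddCyclic.RedFam Cfsg.Agent.OddCyclic.RedTy Cfsg.Agent.OddCyclic.RedRep Cfsg.Agent.OddCyclic.RedPl
open Cfsg.Agent.OddCyclic.RedFive Cfsg.Agent.OddCyclic.RedNoLin
open Cfsg.Agent.OddCyclic.T1Defs (OddCyc)

universe u

/-- the four-group generated by two commuting involutions -/
theorem mem_pair {K : Type*} [Group K] {a b : K} (ha : a * a = 1) (hb : b * b = 1) (hab : a * b = b * a) {x : K} :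
    x ∈ closure ({a, b} : Set K) ↔ x = 1 ∨ x = a ∨ x = b ∨ x = a * b := by
  constructor
  · intro hx
    have hbab : b * (a * b) = a := by rw [hab, ← mul_assoc, hb, one_mul]
    have haab : a * (a * b) = b := by rw [← mul_assoc, ha, one_mul]
    have haba : a * b * a = b := by rw [hab, mul_assoc, ha, mul_one]
    have habb : a * b * b = a := by rw [mul_assoc, hb, mul_one]
    have habab : a * b * (a * b) = 1 := by rw [← mul_assoc, haba, hb]
    refine closure_induction (p := fun x _ => x = 1 ∨ x = a ∨ x = b ∨ x = a * b) ?_ (Or.inl rfl) ?_ ?_ hx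
    · rintro _ (rfl | rfl)
      · exact Or.inr (Or.inl rfl)
      · exact Or.inr (Or.inr (Or.inl rfl))
    · rintro x y - - (rfl | rfl | rfl | rfl) (rfl | rfl | rfl | rfl)
      · simp
      · simp
      · simp
      · simp
      · simp
      · left; exact ha
      · right; right; right; rfl
      · right; right; left; exact haab
      · simp
      · right; right; right; exact hab.symm
      · left; exact hb
      · right; left; exact hbab
      · simp
      · right; right; left; exact haba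
      · right; left; exact habb
      · left; exact habab
    · have hai : a⁻¹ = a := inv_eq_of_mul_eq_one_left ha
      have hbi : b⁻¹ = b := inv_eq_of_mul_eq_one_left hb
      rintro x - (rfl | rfl | rfl | rfl)
      · left; exact inv_one
      · right; left; exact hai
      · right; right; left; exact hbi
      · right; right; right
        rw [mul_inv_rev, hai, hbi, hab]
  · rintro (rfl | rfl | rfl | rfl)
    · exact one_mem _
    · exact subset_closure (Or.inl rfl)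
    · exact subset_closure (Or.inr rfl)
    · exact mul_mem (subset_closure (Or.inl rfl)) (subset_closure (Or.inr rfl))

theorem card_pair {K : Type*} [Group K] {a b : K} (ha : a * a = 1) (hb : b * b = 1) (hab : a * b = b * a)
    (ha1 : a ≠ 1) (hb1 : b ≠ 1) (hne : a ≠ b) : Nat.card (closure ({a, b} : Set K)) = 4 := by
  have h1 : ((closure ({a, b} : Set K) : Subgroup K) : Set K) = {1, a, b, a * b} := by
    ext x
    rw [SetLike.mem_coe, mem_pair ha hb hab]
    rfl
  have h2 : Nat.card (closure ({a, b} : Set K)) = ((closure ({a, b} : Set K) : Subgroup K) : Set K).ncard := rfl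
  have hab1 : a * b ≠ 1 := fun h => hne ((mul_eq_one_iff_eq_inv.1 h).trans (inv_eq_of_mul_eq_one_left hb))
  rw [h2, h1, Set.ncard_insert_of_notMem, Set.ncard_insert_of_notMem, Set.ncard_pair]
  · intro h; exact ha1 (mul_eq_right.1 h.symm)
  · simp only [Set.mem_insert_iff, Set.mem_singleton_iff, not_or]
    exact ⟨hne, fun h => hb1 (mul_eq_left.1 h.symm)⟩
  · simp only [Set.mem_insert_iff, Set.mem_singleton_iff, not_or]
    exact ⟨Ne.symm ha1, Ne.symm hb1, Ne.symm hab1⟩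

variable {G : Type u} [Group G] [Finite G] {X T Y : Subgroup G} {H V : Type u} [Group H] [CommGroup V] [Finite H]
  [Finite V] {r : X →* H} {ρ : H →* MulAut V} {ι : V →* G} {K : Subgroup H} {e : K ≃* Perm (Fin 5)} {s : Fin 5 → V}
  {φ : H →* Perm (Fin 5)}

/-- the situation -/
structure Q5 (X T Y : Subgroup G) (r : X →* H) (ρ : H →* MulAut V) (ι : V →* G) {K : Subgroup H}
    (e : K ≃* Perm (Fin 5)) (s : Fin 5 → V) (φ : H →* Perm (Fin 5)) : Prop where
  yc : YC X T Y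
  rep : Rep X Y r ρ ι
  fam : Fam ρ (im X T r) (famOf X T r)
  fo : FO ρ (im X T r) (famOf X T r) e s φ

/-- the vectors -/
def E (ι : V →* G) (s : Fin 5 → V) (i j : Fin 5) : G := ι (s i * s j)

variable (h : Q5 X T Y r ρ ι e s φ)

include h

theorem e_symm_apply (σ : Perm (Fin 5)) : φ (e.symm σ : H) = σ := by
  rw [h.fo.phiK, e.apply_symm_apply]

theorem phi_tr (i j : Fin 5) : φ (tr e i j) = swap i j := e_symm_apply h _

theorem AA_mem {A : Subgroup G} (hA : A ∈ AA T) {x : X} (hx : (x : G) ∈ A) : r x ∈ closure {tr e 0 1, tr e 2 3} :=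
  h.fo.le _ ⟨A, hA, rfl⟩ ⟨x, mem_subgroupOf.2 hx, rfl⟩

theorem jj_mem {x : X} (hx : (x : G) ∈ jj T) : r x ∈ closure {tr e 0 1, tr e 2 3} := by
  have h1 : jj T ≤ ((closure {tr e 0 1, tr e 2 3}).comap r).map X.subtype := by
    rw [ChoiceBase.jj_eq]
    refine sSup_le fun A hA a ha => ?_
    have haX : a ∈ X := h.yc.TX (hA.2.1 ha)
    exact ⟨⟨a, haX⟩, AA_mem h hA ha, rfl⟩
  obtain ⟨y, hy, hyx⟩ := h1 hx
  have : y = x := Subtype.ext hyx
  rw [← this]
  exact hy

theorem cl_le : closure {tr e 0 1, tr e 2 3} ≤ K := by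
  rw [closure_le]
  rintro _ (rfl | rfl)
  · exact (e.symm _).2
  · exact (e.symm _).2

theorem phi_cl {k : H} (hk : k ∈ closure {tr e 0 1, tr e 2 3}) : φ k ∈ closure {swap 0 1, swap 2 3} := by
  have h1 : closure {tr e 0 1, tr e 2 3} ≤ (closure {swap 0 1, swap 2 3}).comap φ := by
    rw [closure_le]
    rintro _ (rfl | rfl)
    · change φ (tr e 0 1) ∈ closure {swap 0 1, swap 2 3}
      rw [phi_tr h]; exact subset_closure (Or.inl rfl)
    · change φ (tr e 2 3) ∈ closure {swap 0 1, swap 2 3}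
      rw [phi_tr h]; exact subset_closure (Or.inr rfl)
  exact h1 hk

/-- vectors fixed by `tr 0 1`, `tr 2 3` are centralised by `bau T` -/
theorem bau_fixv {v : V} (h1 : ρ (tr e 0 1) v = v) (h2 : ρ (tr e 2 3) v = v) {x : X} (hx : (x : G) ∈ bau T) :
    ρ (r x) v = v := by
  rw [h.rep.fix]
  refine bau_fix h.yc (h.rep.mem v) (fun a ha => ?_) _ hx
  have haX : a ∈ X := h.yc.TX (ZN.jj_le T ha)
  refine (h.rep.fix (x := ⟨a, haX⟩)).1 ?_
  have h3 : closure {tr e 0 1, tr e 2 3} ≤ (MulAction.stabilizer (MulAut V) v).comap ρ := by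
    rw [closure_le]
    rintro _ (rfl | rfl)
    · exact h1
    · exact h2
  exact h3 (jj_mem h (x := ⟨a, haX⟩) ha)

theorem fix01 : ρ (tr e 0 1) (s 0 * s 1) = s 0 * s 1 := by
  rw [map_mul, h.fo.toVec.act_tr, h.fo.toVec.act_tr, swap_apply_left, swap_apply_right, mul_comm]

theorem fix_of_ne {a b i : Fin 5} (h1 : i ≠ a) (h2 : i ≠ b) : ρ (tr e a b) (s i) = s i := by
  rw [h.fo.toVec.act_tr, swap_apply_of_ne_of_ne h1 h2]

/-- `bau T` acts on `Y` as `⟨(0 1), (2 3)⟩` -/
theorem bau_mem {x : X} (hx : (x : G) ∈ bau T) : r x ∈ closure {tr e 0 1, tr e 2 3} := by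
  have hv := h.fo.toVec
  have h1 : ρ (r x) (s 0 * s 1) = s 0 * s 1 := bau_fixv h (fix01 h) (by
    rw [map_mul, fix_of_ne h (by decide) (by decide), fix_of_ne h (by decide) (by decide)]) hx
  have h2 : ρ (r x) (s 2 * s 3) = s 2 * s 3 := bau_fixv h (by
    rw [map_mul, fix_of_ne h (by decide) (by decide), fix_of_ne h (by decide) (by decide)]) (by
    rw [map_mul, hv.act_tr, hv.act_tr, swap_apply_left, swap_apply_right, mul_comm]) hx
  rw [map_mul, h.fo.phi, h.fo.phi] at h1 h2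
  have h3 := hv.pair_eq ((φ (r x)).injective.ne (by decide : (0 : Fin 5) ≠ 1)) h1
  have h4 := hv.pair_eq ((φ (r x)).injective.ne (by decide : (2 : Fin 5) ≠ 3)) h2
  have hK : ∀ v ∈ CS ρ K, ρ (r x) v = v := fun v hv => bau_fixv h
    ((mem_CS _ _ _).1 hv _ (e.symm _).2) ((mem_CS _ _ _).1 hv _ (e.symm _).2) hx
  have key : ∀ c ∈ closure {tr e 0 1, tr e 2 3}, φ (r x) = φ c → r x ∈ closure {tr e 0 1, tr e 2 3} := by
    intro c hc he
    have h5 : r x = c := hv.ext h.fo.ri h.fo.phi he fun v hv => by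
      rw [hK v hv, (mem_CS _ _ _).1 hv c (cl_le h hc)]
    rw [h5]; exact hc
  rcases RedPerm.perm_cases (by decide) (by decide) (by decide) (by decide) (by decide) (by decide) h3 h4 with
    h5 | h5 | h5 | h5
  · exact key 1 (one_mem _) (by rw [h5, map_one])
  · exact key (tr e 0 1) (subset_closure (Or.inl rfl)) (by rw [h5, phi_tr h])
  · exact key (tr e 2 3) (subset_closure (Or.inr rfl)) (by rw [h5, phi_tr h])
  · exact key (tr e 0 1 * tr e 2 3) (mul_mem (subset_closure (Or.inl rfl)) (subset_closure (Or.inr rfl)))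
      (by rw [h5, map_mul, phi_tr h, phi_tr h])

theorem kk_mem {x : X} (hx : (x : G) ∈ kk X T) : r x ∈ K := by
  have h1 : kk X T ≤ (K.comap r).map X.subtype := by
    refine nc_le ?_ ?_
    · intro a ha
      have haX : a ∈ X := h.yc.TX (ZN.jj_le T ha)
      exact ⟨⟨a, haX⟩, cl_le h (jj_mem h (x := ⟨a, haX⟩) ha), rfl⟩
    · have hK := h.fo.toFv.normal
      rw [le_normalizer_iff]
      rintro g hg _ ⟨y, hy, rfl⟩
      refine ⟨⟨g, hg⟩ * y * ⟨g, hg⟩⁻¹, ?_, rfl⟩
      change r (⟨g, hg⟩ * y * ⟨g, hg⟩⁻¹) ∈ K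
      rw [map_mul, map_mul, map_inv]
      exact hK.conj_mem _ hy _
  obtain ⟨y, hy, hyx⟩ := h1 hx
  have : y = x := Subtype.ext hyx
  rw [← this]
  exact hy

theorem kk_le : kk X T ≤ X := nc_le ((ZN.jj_le T).trans h.yc.TX) Subgroup.le_normalizer

/-- the elements of `C_V(K)` are centralised by `kk X T` -/
theorem cent_of_CS {v : V} (hv : v ∈ CS ρ K) : ι v ∈ centralizer (kk X T : Set G) := by
  rw [mem_centralizer_iff]
  intro g hg
  have hgX : g ∈ X := kk_le h hg
  exact (h.rep.fix (x := ⟨g, hgX⟩)).1 ((mem_CS _ _ _).1 hv _ (kk_mem h (x := ⟨g, hgX⟩) hg))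

theorem exists_tr01 : ∃ A ∈ AA T, ∃ x : X, (x : G) ∈ A ∧ r x = tr e 0 1 := by
  obtain ⟨_, ⟨A, hA, rfl⟩, ⟨x, hx, hxr⟩⟩ := h.fo.t01
  exact ⟨A, hA, x, mem_subgroupOf.1 hx, hxr⟩

theorem exists_tr23 : ∃ A ∈ AA T, ∃ x : X, (x : G) ∈ A ∧ r x = tr e 2 3 := by
  obtain ⟨_, ⟨A, hA, rfl⟩, ⟨x, hx, hxr⟩⟩ := h.fo.t23
  exact ⟨A, hA, x, mem_subgroupOf.1 hx, hxr⟩

theorem CS_of_cent {v : V} (hc : ι v ∈ centralizer (kk X T : Set G)) : v ∈ CS ρ K := by
  obtain ⟨A, hA, a, haA, ha⟩ := exists_tr01 h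
  have key : ∀ i j : Fin 5, i ≠ j → ρ (tr e i j) v = v := by
    intro i j hij
    obtain ⟨σ, h0, h1⟩ : ∃ σ : Perm (Fin 5), σ 0 = i ∧ σ 1 = j := by
      refine ⟨swap (swap 0 i 1) j * swap 0 i, ?_, ?_⟩
      · rw [Perm.mul_apply, swap_apply_left]
        refine swap_apply_of_ne_of_ne ?_ hij
        intro h2
        have h3 := congrArg (swap 0 i) h2
        rw [swap_apply_right, swap_apply_self] at h3
        exact absurd h3 (by decide)
      · rw [Perm.mul_apply, swap_apply_left]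
    obtain ⟨g, hg⟩ := h.rep.surj (e.symm σ : H)
    have h2 : r (g * a * g⁻¹) = tr e i j := by
      rw [map_mul, map_mul, map_inv, ha, h.fo.toFv.conj_tr, hg, e_symm_apply h, h0, h1]
    have h3 : ((g * a * g⁻¹ : X) : G) ∈ kk X T :=
      Four.conj_mem (le_normalizer_nc X (jj T) g.2) (le_nc X (jj T) (ChoiceBase.le_jj hA haA))
    rw [← h2, h.rep.fix]
    exact mem_centralizer_iff.1 hc _ h3
  exact h.fo.toVec.fix_all (key 0 1 (by decide)) (key 1 2 (by decide)) (key 2 3 (by decide)) (key 3 4 (by decide))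

/-! ### the planes -/

theorem E_mem (i j : Fin 5) : E ι s i j ∈ (uu s).map ι := ⟨_, mul_mem (s_mem s i) (s_mem s j), rfl⟩

theorem E_Y (i j : Fin 5) : E ι s i j ∈ Y := h.rep.mem _

theorem E_sq (i j : Fin 5) : E ι s i j * E ι s i j = 1 := by
  rw [E, ← map_mul, h.fo.sq, map_one]

theorem E_comm (i j k l : Fin 5) : E ι s i j * E ι s k l = E ι s k l * E ι s i j := by
  rw [E, E, ← map_mul, ← map_mul, mul_comm]

theorem E_mul (i j k : Fin 5) : E ι s i j * E ι s j k = E ι s i k := by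
  rw [E, E, E, ← map_mul]
  congr 1
  calc s i * s j * (s j * s k) = s i * (s j * s j) * s k := by simp only [mul_assoc]
    _ = s i * s k := by rw [h.fo.sq, mul_one]

theorem E_symm (i j : Fin 5) : E ι s i j = E ι s j i := by rw [E, E, mul_comm]

theorem E_ne_one {i j : Fin 5} (hij : i ≠ j) : E ι s i j ≠ 1 := by
  intro h1
  rw [E, ← map_one ι] at h1
  exact h.fo.toVec.pair_ne_one hij (h.rep.iinj h1)

theorem E_ne {i j k : Fin 5} (hjk : j ≠ k) : E ι s i j ≠ E ι s i k := by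
  intro h1
  exact hjk (h.fo.inj (mul_left_cancel (h.rep.iinj h1)))

theorem E_conj (x : X) (i j : Fin 5) : (x : G) * E ι s i j * (x : G)⁻¹ = E ι s (φ (r x) i) (φ (r x) j) := by
  rw [E, ← h.rep.act, map_mul, h.fo.phi, h.fo.phi]; rfl

/-- the plane -/
theorem mem_pl {o i j : Fin 5} {x : G} : x ∈ closure ({E ι s o i, E ι s o j} : Set G) ↔
    x = 1 ∨ x = E ι s o i ∨ x = E ι s o j ∨ x = E ι s i j := by
  rw [mem_pair (E_sq h _ _) (E_sq h _ _) (E_comm h _ _ _ _), E_symm h o i, E_mul h]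

theorem E_mem_pl {o i j : Fin 5} {k l : Fin 5} (hk : k ∈ ({o, i, j} : Finset (Fin 5)))
    (hl : l ∈ ({o, i, j} : Finset (Fin 5))) : E ι s k l ∈ closure ({E ι s o i, E ι s o j} : Set G) := by
  have key : ∀ k ∈ ({o, i, j} : Finset (Fin 5)), E ι s o k ∈ closure ({E ι s o i, E ι s o j} : Set G) := by
    intro k hk
    simp only [Finset.mem_insert, Finset.mem_singleton] at hk
    rcases hk with rfl | rfl | rfl
    · have : E ι s k k = 1 := by rw [E, h.fo.sq, map_one]
      rw [this]; exact one_mem _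
    · exact subset_closure (Or.inl rfl)
    · exact subset_closure (Or.inr rfl)
  rw [← E_mul h k o l, E_symm h k o]
  exact mul_mem (key k hk) (key l hl)

theorem card_pl {o i j : Fin 5} (hoi : o ≠ i) (hoj : o ≠ j) (hij : i ≠ j) :
    Nat.card (closure ({E ι s o i, E ι s o j} : Set G)) = 4 :=
  card_pair (E_sq h _ _) (E_sq h _ _) (E_comm h _ _ _ _) (E_ne_one h hoi) (E_ne_one h hoj) (E_ne h hij)

theorem conj_pl {o i j : Fin 5} {x : X} (hx : ∀ k ∈ ({o, i, j} : Finset (Fin 5)), φ (r x) k ∈ ({o, i, j} : Finset (Fin 5)))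
    {g : G} (hg : g ∈ closure ({E ι s o i, E ι s o j} : Set G)) :
    (x : G) * g * (x : G)⁻¹ ∈ closure ({E ι s o i, E ι s o j} : Set G) := by
  have ho : o ∈ ({o, i, j} : Finset (Fin 5)) := by simp
  have hi : i ∈ ({o, i, j} : Finset (Fin 5)) := by simp
  have hj : j ∈ ({o, i, j} : Finset (Fin 5)) := by simp
  rcases (mem_pl h).1 hg with rfl | rfl | rfl | rfl
  · rw [mul_one, mul_inv_cancel]; exact one_mem _
  · rw [E_conj h]; exact E_mem_pl h (hx _ ho) (hx _ hi)
  · rw [E_conj h]; exact E_mem_pl h (hx _ ho) (hx _ hj)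
  · rw [E_conj h]; exact E_mem_pl h (hx _ hi) (hx _ hj)

theorem norm_pl {o i j : Fin 5} {x : X} (hx : ∀ k, k ∈ ({o, i, j} : Finset (Fin 5)) ↔ φ (r x) k ∈ ({o, i, j} : Finset (Fin 5))) :
    (x : G) ∈ normalizer (closure ({E ι s o i, E ι s o j} : Set G) : Set G) := by
  rw [mem_normalizer_iff]
  intro g
  constructor
  · exact fun hg => conj_pl h (fun k hk => (hx k).1 hk) hg
  · intro hg
    have h1 := conj_pl h (x := x⁻¹) (o := o) (i := i) (j := j) (fun k hk => by
      rw [map_inv, map_inv, hx]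
      have : φ (r x) ((φ (r x))⁻¹ k) = k := (φ (r x)).apply_symm_apply k
      rw [this]; exact hk) hg
    have e : ((x⁻¹ : X) : G) * ((x : G) * g * (x : G)⁻¹) * ((x⁻¹ : X) : G)⁻¹ = g := by
      rw [Subgroup.coe_inv]; group
    rw [e] at h1
    exact h1

/-- `φ` of `bau T` -/
theorem phi_bau {x : X} (hx : (x : G) ∈ bau T) : φ (r x) = 1 ∨ φ (r x) = swap 0 1 ∨ φ (r x) = swap 2 3 ∨
    φ (r x) = swap 0 1 * swap 2 3 := by
  have h1 := phi_cl h (bau_mem h hx)
  exact (mem_pair (swap_mul_self _ _) (swap_mul_self _ _) (by decide)).1 h1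

/-- existence of the two blocks -/
theorem exists_blk (hc : OddCyc G) {a b : Fin 5} (hab : a ≠ b) (ha : a ≠ 4) (hb : b ≠ 4)
    (ht : ∃ A ∈ AA T, ∃ x : X, (x : G) ∈ A ∧ r x = tr e a b)
    (hst : ∀ σ : Perm (Fin 5), σ = 1 ∨ σ = swap 0 1 ∨ σ = swap 2 3 ∨ σ = swap 0 1 * swap 2 3 →
      ∀ k, k ∈ ({a, b, 4} : Finset (Fin 5)) ↔ σ k ∈ ({a, b, 4} : Finset (Fin 5))) :
    ∃ (L : Subgroup G) (k : ℕ), L ≤ X ∧ IsDBlk (bau T) L k ∧ vl (bau T) L = closure {E ι s a b, E ι s a 4} := by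
  have hpY : closure ({E ι s a b, E ι s a 4} : Set G) ≤ Y := by
    rw [closure_le]
    rintro _ (rfl | rfl)
    · exact E_Y h _ _
    · exact E_Y h _ _
  obtain ⟨A, hA, x, hxA, hx⟩ := ht
  obtain ⟨y, hy⟩ := h.rep.surj (tr e a b * tr e b 4)
  have hφy : φ (r y) = swap a b * swap b 4 := by rw [hy, map_mul, phi_tr h, phi_tr h]
  have ya : φ (r y) a = b := by
    rw [hφy, Perm.mul_apply, swap_apply_of_ne_of_ne hab ha, swap_apply_left]
  have yb : φ (r y) b = 4 := by
    rw [hφy, Perm.mul_apply, swap_apply_left, swap_apply_of_ne_of_ne (Ne.symm ha) (Ne.symm hb)]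
  have y4 : φ (r y) 4 = a := by
    rw [hφy, Perm.mul_apply, swap_apply_right, swap_apply_right]
  have yo : ∀ k : Fin 5, k ≠ a → k ≠ b → k ≠ 4 → φ (r y) k = k := fun k h1 h2 h3 => by
    rw [hφy, Perm.mul_apply, swap_apply_of_ne_of_ne h2 h3, swap_apply_of_ne_of_ne h1 h2]
  have g1 : bau T ≤ normalizer (closure ({E ι s a b, E ι s a 4} : Set G) : Set G) := by
    intro b' hb'
    have hbX : b' ∈ X := h.yc.TX (ZN.bau_le T hb')
    exact norm_pl h (x := ⟨b', hbX⟩) (hst _ (phi_bau h (x := ⟨b', hbX⟩) hb'))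
  have g2 : ∃ b' ∈ bau T, ∃ v ∈ closure ({E ι s a b, E ι s a 4} : Set G), b' * v ≠ v * b' := by
    refine ⟨x, ZN.jj_le_bau T (ChoiceBase.le_jj hA hxA), E ι s a 4, subset_closure (Or.inr rfl), ?_⟩
    intro h4
    have h5 := E_conj h x a 4
    rw [h4, mul_inv_cancel_right, hx, phi_tr h, swap_apply_left, swap_apply_of_ne_of_ne (Ne.symm ha) (Ne.symm hb),
      E_symm h a 4, E_symm h b 4] at h5
    exact E_ne h hab h5
  have g3 : ∃ y ∈ X, y ∈ normalizer (closure ({E ι s a b, E ι s a 4} : Set G) : Set G) ∧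
      ∀ v ∈ closure ({E ι s a b, E ι s a 4} : Set G), v ≠ 1 → y * v * y⁻¹ ≠ v := by
    refine ⟨y, y.2, norm_pl h fun k => ?_, ?_⟩
    · simp only [Finset.mem_insert, Finset.mem_singleton]
      constructor
      · rintro (rfl | rfl | rfl)
        · right; left; exact ya
        · right; right; exact yb
        · left; exact y4
      · intro h4
        by_contra hcon
        simp only [not_or] at hcon
        rw [yo k hcon.1 hcon.2.1 hcon.2.2] at h4
        rcases h4 with h4 | h4 | h4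
        · exact hcon.1 h4
        · exact hcon.2.1 h4
        · exact hcon.2.2 h4
    · intro v hv hv1 h4
      rcases (mem_pl h).1 hv with rfl | rfl | rfl | rfl
      · exact hv1 rfl
      · rw [E_conj h, ya, yb, E_symm h a b] at h4
        exact E_ne h (Ne.symm ha) h4
      · rw [E_conj h, ya, y4, E_symm h b a] at h4
        exact E_ne h hb h4
      · rw [E_conj h, yb, y4, E_symm h b 4] at h4
        exact E_ne h hab h4
  obtain ⟨L, k, h1, -, h2, h3⟩ := exists_blk_of_plane hc h.yc.toLoc (V := closure ({E ι s a b, E ι s a 4} : Set G))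
    (hpY.trans h.yc.le) (card_pl h hab ha hb) g1 g2 g3
  exact ⟨L, k, h1, h2, h3⟩

/-- the planes of the blocks -/
theorem only {L : Subgroup G} {k : ℕ} (hLX : L ≤ X) (hL : IsDBlk (bau T) L k) :
    (vl (bau T) L = closure {E ι s 0 1, E ι s 0 4} ∧ IsPt (bau T) L (E ι s 0 1) ∧ E ι s 2 3 ∈ rl (bau T) L) ∨
    (vl (bau T) L = closure {E ι s 2 3, E ι s 2 4} ∧ IsPt (bau T) L (E ι s 2 3) ∧ E ι s 0 1 ∈ rl (bau T) L) := by
  obtain ⟨y, hyL, hy3, hgen, hpl⟩ := pl_of_blk' h.yc h.rep hLX hL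
  have hvY : vl (bau T) L ≤ Y := h.yc.vl_le L hLX (Or.inl ⟨k, hL⟩)
  have hmap : ((vl (bau T) L).comap ι).map ι = vl (bau T) L := by
    rw [Subgroup.map_comap_eq, h.rep.range, inf_eq_right]
    exact hvY
  have hz : ∀ a b : Fin 5, ρ (tr e 0 1) (s a * s b) = s a * s b → ρ (tr e 2 3) (s a * s b) = s a * s b →
      E ι s a b ∈ zc (bau T) := by
    intro a b h1 h2
    refine mem_zc_bau h.yc (E_Y h _ _) fun x hx => ?_
    have hxX : x ∈ X := h.yc.TX (ZN.jj_le T hx)
    exact h.rep.fix.1 (bau_fixv h h1 h2 (x := ⟨x, hxX⟩) (ZN.jj_le_bau T hx))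
  have hz01 : E ι s 0 1 ∈ zc (bau T) := hz 0 1 (fix01 h) (by
    rw [map_mul, fix_of_ne h (by decide) (by decide), fix_of_ne h (by decide) (by decide)])
  have hz23 : E ι s 2 3 ∈ zc (bau T) := hz 2 3 (by
    rw [map_mul, fix_of_ne h (by decide) (by decide), fix_of_ne h (by decide) (by decide)]) (by
    rw [map_mul, h.fo.toVec.act_tr, h.fo.toVec.act_tr, swap_apply_left, swap_apply_right, mul_comm])
  have hrl : ∀ a b : Fin 5, E ι s a b ∈ zc (bau T) → ρ (r y) (s a * s b) = s a * s b →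
      E ι s a b ∈ rl (bau T) L := by
    intro a b h1 h2
    refine ⟨h1, ?_⟩
    change E ι s a b ∈ centralizer (L : Set G)
    rw [mem_centralizer_iff]
    intro g hg
    obtain ⟨n, b', hb', rfl⟩ := hgen g hg
    have h3 : (y : G) * E ι s a b = E ι s a b * y := h.rep.fix.1 h2
    have h4 : (y : G) ^ n * E ι s a b = E ι s a b * (y : G) ^ n := by
      have : Commute (y : G) (E ι s a b) := h3
      exact (this.pow_left n).eq
    have h5 : b' * E ι s a b = E ι s a b * b' := zc_comm h1 hb'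
    rw [mul_assoc, h5, ← mul_assoc, h4, mul_assoc]
  have hcl : ∀ a b c d : V, (closure ({a, b} : Set V)).map ι = closure {ι a, ι b} := by
    intro a b c d
    rw [MonoidHom.map_closure, Set.image_pair]
  rcases h.fo.plane h.fam.cyc hpl with ⟨h1, h2⟩ | ⟨h1, h2⟩
  · left
    have h3 : vl (bau T) L = closure {E ι s 0 1, E ι s 0 4} := by
      rw [← hmap, h1, MonoidHom.map_closure, Set.image_pair]; rfl
    refine ⟨h3, ⟨?_, hz01, E_ne_one h (by decide)⟩, hrl 2 3 hz23 h2⟩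
    rw [h3]; exact subset_closure (Or.inl rfl)
  · right
    have h3 : vl (bau T) L = closure {E ι s 2 3, E ι s 2 4} := by
      rw [← hmap, h1, MonoidHom.map_closure, Set.image_pair]; rfl
    refine ⟨h3, ⟨?_, hz23, E_ne_one h (by decide)⟩, hrl 0 1 hz01 h2⟩
    rw [h3]; exact subset_closure (Or.inl rfl)

/-- no `SL₂(q)`-block -/
theorem nolin {L : Subgroup G} {q : ℕ} (hLX : L ≤ X) (hL : LBlk (bau T) L q) : False := by
  refine nolin_of_transv h.yc hLX hL fun b hb => ?_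
  have hbX : b ∈ X := h.yc.TX (ZN.bau_le T hb)
  set S := closure {c : G | c ∈ bau T ∧
      ∀ v ∈ Y, ∀ w ∈ Y, c * v ≠ v * c → c * w ≠ w * c → c * (v * w) = v * w * c} with hS
  have key : ∀ a b : Fin 5, a ≠ b → (∃ A ∈ AA T, ∃ x : X, (x : G) ∈ A ∧ r x = tr e a b) →
      tr e a b ∈ (S.subgroupOf X).map r := by
    rintro a b hab ⟨A, hA, x, hxA, hx⟩
    refine ⟨x, mem_subgroupOf.2 (subset_closure ⟨ZN.jj_le_bau T (ChoiceBase.le_jj hA hxA), ?_⟩), hx⟩
    intro v hv w hw h1 h2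
    obtain ⟨v, rfl⟩ := h.rep.exists_v hv
    obtain ⟨w, rfl⟩ := h.rep.exists_v hw
    rw [ne_eq, ← h.rep.fix, hx] at h1 h2
    rw [← map_mul, ← h.rep.fix, hx, map_mul]
    rcases h.fo.tv a b hab v with h3 | h3
    · exact absurd h3 h1
    rcases h.fo.tv a b hab w with h4 | h4
    · exact absurd h4 h2
    rw [h3, h4]
    calc s a * s b * v * (s a * s b * w) = (s a * s a) * (s b * s b) * (v * w) := by
          simp only [mul_comm, mul_left_comm, mul_assoc]
      _ = v * w := by rw [h.fo.sq, h.fo.sq, one_mul, one_mul]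
  have h1 : closure {tr e 0 1, tr e 2 3} ≤ (S.subgroupOf X).map r := by
    rw [closure_le]
    rintro _ (rfl | rfl)
    · exact key 0 1 (by decide) (exists_tr01 h)
    · exact key 2 3 (by decide) (exists_tr23 h)
  obtain ⟨c, hc, hcb⟩ := h1 (bau_mem h (x := ⟨b, hbX⟩) hb)
  refine ⟨c, mem_subgroupOf.1 hc, fun y hy => ?_⟩
  obtain ⟨v, rfl⟩ := h.rep.exists_v hy
  have h2 := h.rep.act ⟨b, hbX⟩ v
  rw [← hcb, h.rep.act] at h2
  exact h2.symm

/-- **type (S5)** -/
theorem main (hc : OddCyc G) :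
    FivY X T Y ((uu s).map ι) (φ.comp r) (E ι s) where
  le := by
    rintro _ ⟨v, -, rfl⟩
    exact h.rep.mem v
  norm := by
    rw [le_normalizer_iff]
    rintro x hx _ ⟨u, hu, rfl⟩
    refine ⟨ρ (r ⟨x, hx⟩) u, ?_, h.rep.act ⟨x, hx⟩ u⟩
    change ρ (r ⟨x, hx⟩) u ∈ uu s
    refine closure_induction (p := fun u _ => ρ (r ⟨x, hx⟩) u ∈ uu s) ?_ ?_ ?_ ?_ hu
    · rintro _ ⟨i, rfl⟩
      rw [h.fo.phi]; exact s_mem s _
    · rw [map_one]; exact one_mem _
    · intro a b _ _ ha hb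
      rw [map_mul]; exact mul_mem ha hb
    · intro a _ ha
      rw [map_inv]; exact inv_mem ha
  surj := fun σ => by
    obtain ⟨x, hx⟩ := h.rep.surj (e.symm σ : H)
    exact ⟨x, by rw [MonoidHom.comp_apply, hx, e_symm_apply h]⟩
  ker := by
    rintro x hx _ ⟨u, hu, rfl⟩
    rw [← h.rep.fix]
    rw [MonoidHom.comp_apply] at hx
    refine closure_induction (p := fun u _ => ρ (r x) u = u) ?_ ?_ ?_ ?_ hu
    · rintro _ ⟨i, rfl⟩
      rw [h.fo.phi, hx]; rfl
    · rw [map_one]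
    · intro a b _ _ ha hb
      rw [map_mul, ha, hb]
    · intro a _ ha
      rw [map_inv, ha]
  sq := by
    rintro _ ⟨u, hu, rfl⟩
    rw [← map_mul, h.fo.sq, map_one]
  mem := E_mem h
  self := fun i => by rw [E, h.fo.sq, map_one]
  ne := fun i j hij => E_ne_one h hij
  symm := E_symm h
  mul := E_mul h
  all := by
    rintro _ ⟨u, hu, rfl⟩
    have h0 : E ι s 0 0 = 1 := by rw [E, h.fo.sq, map_one]
    rcases h.fo.toVec.mem_uu hu with rfl | ⟨i, rfl⟩ | ⟨i, j, -, rfl⟩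
    · exact ⟨0, 0, 0, 0, by rw [h0, map_one, mul_one]⟩
    · obtain ⟨j, k, l, m, -, -, h1⟩ := h.fo.toVec.four i
      exact ⟨j, k, l, m, by rw [h1, map_mul]; rfl⟩
    · exact ⟨i, j, 0, 0, by rw [h0, mul_one]; rfl⟩
  conj := fun x i j => E_conj h x i j
  three := by
    intro x hx hx3 y hy
    obtain ⟨v, rfl⟩ := h.rep.exists_v hy
    have h1 : r ⟨x, hx⟩ ∈ K := by
      refine L0_le (e := e) (h.fo.three_mem h.fam.cyc ?_)
      obtain ⟨k, hk⟩ := hx3
      refine ⟨k, ?_⟩
      rw [← map_pow]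
      have : (⟨x, hx⟩ : X) ^ 3 ^ k = 1 := Subtype.ext hk
      rw [this, map_one]
    obtain ⟨u, hu, hvu⟩ := h.fo.toVec.split v
    refine ⟨ρ (r ⟨x, hx⟩) v * v⁻¹, ?_, ?_⟩
    · change ρ (r ⟨x, hx⟩) v * v⁻¹ ∈ uu s
      have h2 := (mem_CS _ _ _).1 hvu _ h1
      rw [map_mul] at h2
      have h3 : ρ (r ⟨x, hx⟩) v * v⁻¹ = u * (ρ (r ⟨x, hx⟩) u)⁻¹ := by
        rw [eq_mul_inv_iff_mul_eq, mul_right_comm, h2, mul_right_comm, mul_inv_cancel, one_mul]
      rw [h3]
      refine mul_mem hu (inv_mem ?_)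
      refine closure_induction (p := fun u _ => ρ (r ⟨x, hx⟩) u ∈ uu s) ?_ ?_ ?_ ?_ hu
      · rintro _ ⟨i, rfl⟩
        rw [h.fo.phi]; exact s_mem s _
      · rw [map_one]; exact one_mem _
      · intro a b _ _ ha hb
        rw [map_mul]; exact mul_mem ha hb
      · intro a _ ha
        rw [map_inv]; exact inv_mem ha
    · rw [map_mul, map_inv]
      rw [h.rep.act ⟨x, hx⟩ v]
  split := by
    intro y hy
    obtain ⟨v, rfl⟩ := h.rep.exists_v hy
    obtain ⟨u, hu, hvu⟩ := h.fo.toVec.split v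
    have h1 : ι v = ι u⁻¹ * ι (v * u) := by
      rw [← map_mul]
      congr 1
      rw [mul_comm v u, inv_mul_cancel_left]
    rw [h1]
    exact mul_mem (mem_sup_left ⟨u⁻¹, inv_mem hu, rfl⟩) (mem_sup_right ⟨h.rep.mem _, cent_of_CS h hvu⟩)
  disj := by
    rw [eq_bot_iff_forall]
    rintro _ ⟨⟨u, hu, rfl⟩, hc'⟩
    rw [h.fo.toVec.disj hu (CS_of_cent h hc'), map_one]
  bau_le := fun x hx => phi_cl h (bau_mem h hx)
  tr₁ := by
    obtain ⟨A, hA, x, hxA, hx⟩ := exists_tr01 h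
    exact ⟨A, hA, x, hxA, by rw [MonoidHom.comp_apply, hx, phi_tr h]⟩
  tr₂ := by
    obtain ⟨A, hA, x, hxA, hx⟩ := exists_tr23 h
    exact ⟨A, hA, x, hxA, by rw [MonoidHom.comp_apply, hx, phi_tr h]⟩
  blk₁ := exists_blk h hc (by decide) (by decide) (by decide) (exists_tr01 h) (by
    rintro σ (rfl | rfl | rfl | rfl) <;> decide)
  blk₂ := exists_blk h hc (by decide) (by decide) (by decide) (exists_tr23 h) (by
    rintro σ (rfl | rfl | rfl | rfl) <;> decide)
  only := fun L k hLX hL => only h hLX hL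
  nolin := fun L q hLX hL => nolin h hLX hL
  bau_ne := by
    intro hb
    have h1 : im X T r ⊓ K ≤ closure {tr e 0 1, tr e 2 3} := by
      rintro _ ⟨⟨x, hx, rfl⟩, -⟩
      exact bau_mem h (by rw [hb]; exact mem_subgroupOf.1 hx)
    have h2 := Subgroup.card_dvd_of_le h1
    have hsq : ∀ i j : Fin 5, tr e i j * tr e i j = 1 := fun i j => by
      have : e.symm (swap i j) * e.symm (swap i j) = 1 := by
        rw [← map_mul, swap_mul_self, map_one]
      exact congrArg Subtype.val this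
    have hco : tr e 0 1 * tr e 2 3 = tr e 2 3 * tr e 0 1 := by
      have : e.symm (swap 0 1) * e.symm (swap 2 3) = e.symm (swap 2 3) * e.symm (swap 0 1) := by
        rw [← map_mul, ← map_mul, show swap (0 : Fin 5) 1 * swap 2 3 = swap 2 3 * swap 0 1 by decide]
      exact congrArg Subtype.val this
    have hne : ∀ i j : Fin 5, i ≠ j → tr e i j ≠ 1 := fun i j hij h0 => by
      have h3 := phi_tr h i j
      rw [h0, map_one] at h3
      exact hij (swap_eq_one_iff.1 h3.symm)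
    rw [h.fo.card, card_pair (hsq _ _) (hsq _ _) hco (hne _ _ (by decide)) (hne _ _ (by decide)) (fun h0 => by
      have h3 := tr_inj h0
      revert h3
      decide)] at h2
    norm_num at h2

omit h in
/-- type (S5) from a member of `famOf X T r` of type `OutFive` -/
theorem of_out (hc : OddCyc G) (hY : YC X T Y) (hr : Rep X Y r ρ ι) (hF : Fam ρ (im X T r) (famOf X T r))
    {A : Subgroup H} (hA : A ∈ famOf X T r) (hA1 : A ≠ ⊥) (h5 : RedFFDefs.OutFive ρ A) : TyY X T Y := by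
  obtain ⟨K, e, s, φ, hfo⟩ := exists_FO hF hA hA1 h5
  exact TyY.fiv _ _ _ (main ⟨hY, hr, hF, hfo⟩ hc)

end Cfsg.Agent.OddCyclic.RedFivX
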