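import Cfsg.Agent.OddCyclic.Bc.FrA
import Cfsg.Agent.OddCyclic.RedFivX

/-!
# (Empty), [Bc], case C: the graph argument

`V = O₄⁻(2)` for `L/C_L(V) = A₅` or `S₅` (`Bc.FrA L V φ e`), `r = e 3 4`; `N` of order 8, normal in `C_G(r)`,
`C_G(r)` is 2-transitive on `N - 1`, `3 ∤ |C_G(N)|`, `e 0 1 ∈ N`, and `C_G(r)` is a maximal 2-local. This is impossible.
-/

set_option autoImplicit false
set_option linter.unusedSectionVars false

namespace Cfsg.Agent.OddCyclic.BcGraph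

open Subgroup

universe u

/-! ### Three points -/

theorem triv_of {C Ω : Type*} [Group C] [Finite C] [MulAction C Ω] [MulAction.IsPretransitive C Ω]
    (h3 : Nat.card Ω = 3) (D : Subgroup C) [D.Normal] (hD : ¬ 3 ∣ Nat.card D) (d : C) (hd : d ∈ D) (ω : Ω) :
    d • ω = ω := by
  have h1 : MulAction.IsPreprimitive C Ω := MulAction.IsPreprimitive.of_prime_card (by rw [h3]; norm_num)
  by_contra hne
  have h2 : MulAction.fixedPoints D Ω ≠ Set.univ := by
    intro h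
    have h4 : ω ∈ MulAction.fixedPoints D Ω := by rw [h]; trivial
    exact hne (h4 ⟨d, hd⟩)
  have h3' : MulAction.IsPretransitive D Ω := MulAction.IsQuasiPreprimitive.isPretransitive_of_normal h2
  apply hD
  rw [← h3, ← MulAction.index_stabilizer_of_transitive D ω]
  exact (MulAction.stabilizer D ω).index_dvd_card

variable {G : Type u} [Group G] [Finite G]

/-- a normal 3'-subgroup of a group which is transitive on the three cosets of `⟨p⟩` in `N - ⟨p⟩` is trivial there -/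
theorem key {N : Subgroup G} {p : G} (card : Nat.card N = 8) (sq : ∀ x ∈ N, x * x = 1) (hp : p ∈ N) (hp1 : p ≠ 1)
    (C : Subgroup G) (hCN : ∀ c ∈ C, ∀ x ∈ N, c * x * c⁻¹ ∈ N) (hCp : ∀ c ∈ C, c * p = p * c)
    (htr : ∀ x ∈ N, ∀ y ∈ N, x ≠ 1 → x ≠ p → y ≠ 1 → y ≠ p → ∃ c ∈ C, c * x * c⁻¹ = y)
    (D : Subgroup G) (hDC : D ≤ C) (hDn : ∀ c ∈ C, ∀ d ∈ D, c * d * c⁻¹ ∈ D) (h3 : ¬ 3 ∣ Nat.card D) :
    ∀ d ∈ D, ∀ x ∈ N, d * x * d⁻¹ = x ∨ d * x * d⁻¹ = x * p := by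
  have hinv : ∀ x ∈ N, x⁻¹ = x := fun x hx => inv_eq_of_mul_eq_one_left (sq x hx)
  have hcomm : ∀ x ∈ N, ∀ y ∈ N, x * y = y * x := fun x hx y hy => by
    have h1 := hinv _ (mul_mem hx hy)
    rw [mul_inv_rev, hinv x hx, hinv y hy] at h1
    exact h1.symm
  let P : Subgroup N := zpowers ⟨p, hp⟩
  have hPm : ∀ x : N, x ∈ P ↔ (x : G) = 1 ∨ (x : G) = p := by
    intro x
    constructor
    · rintro ⟨n, rfl⟩
      have h1 : (⟨p, hp⟩ : N) ^ 2 = 1 := Subtype.ext (by rw [pow_two]; exact sq p hp)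
      have h2 : ∀ n : ℤ, (⟨p, hp⟩ : N) ^ n = 1 ∨ (⟨p, hp⟩ : N) ^ n = ⟨p, hp⟩ := by
        intro n
        rcases Int.even_or_odd n with ⟨k, rfl⟩ | ⟨k, rfl⟩
        · left
          rw [← two_mul, zpow_mul]
          norm_cast
          rw [h1, one_zpow]
        · right
          rw [zpow_add, zpow_mul]
          norm_cast
          rw [h1, one_zpow, one_mul, pow_one]
      rcases h2 n with h4 | h4
      · left; exact congrArg Subtype.val h4
      · right; exact congrArg Subtype.val h4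
    · rintro (h1 | h1)
      · have : x = 1 := Subtype.ext h1
        rw [this]; exact one_mem _
      · have : x = ⟨p, hp⟩ := Subtype.ext h1
        rw [this]; exact mem_zpowers _
  have hPn : P.Normal := ⟨fun n hn g => by
    have h1 : g * n * g⁻¹ = n := Subtype.ext (by
      change (g : G) * n * (g : G)⁻¹ = n
      rw [hcomm g g.2 n n.2, mul_inv_cancel_right])
    rw [h1]; exact hn⟩
  let conj : C → (N →* N) := fun c =>
    { toFun := fun x => ⟨c * x * (c : G)⁻¹, hCN c c.2 x x.2⟩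
      map_one' := Subtype.ext (by simp)
      map_mul' := fun x y => Subtype.ext (by
        change (c : G) * (x * y) * (c : G)⁻¹ = c * x * (c : G)⁻¹ * (c * y * (c : G)⁻¹)
        group) }
  have hcP : ∀ (c : C) (x : N), conj c x ∈ P ↔ x ∈ P := by
    intro c x
    rw [hPm, hPm]
    change (c : G) * x * (c : G)⁻¹ = 1 ∨ (c : G) * x * (c : G)⁻¹ = p ↔ _
    have h1 : p = c * p * (c : G)⁻¹ := by rw [hCp c c.2, mul_inv_cancel_right]
    constructor
    · rintro (h2 | h2)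
      · left
        exact conj_eq_one_iff.1 h2
      · right
        rw [h1] at h2
        exact mul_left_cancel (mul_right_cancel h2)
    · rintro (h2 | h2)
      · left
        rw [h2]; group
      · right
        rw [h2, ← h1]
  have hconj : ∀ c, P ≤ P.comap (conj c) := fun c x hx => (hcP c x).2 hx
  have cardP : Nat.card P = 2 := by
    rw [Nat.card_zpowers]
    refine orderOf_eq_prime ?_ ?_
    · exact Subtype.ext (by rw [pow_two]; exact sq p hp)
    · exact fun h => hp1 (congrArg Subtype.val h)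
  have cardQ : Nat.card (N ⧸ P) = 4 := by
    have h1 := P.card_eq_card_quotient_mul_card_subgroup
    rw [card, cardP] at h1
    omega
  let Ω := {q : N ⧸ P // q ≠ 1}
  have cardΩ : Nat.card Ω = 3 := by
    have h1 : Nat.card Ω = ({(1 : N ⧸ P)}ᶜ : Set (N ⧸ P)).ncard := rfl
    rw [h1, Set.ncard_compl, Set.ncard_singleton, cardQ]
  let act : MulAction C Ω :=
    { smul := fun c q => ⟨QuotientGroup.map P P (conj c) (hconj c) q.1, by
        obtain ⟨q, hq⟩ := q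
        obtain ⟨x, rfl⟩ := QuotientGroup.mk_surjective q
        rw [QuotientGroup.map_mk, ne_eq, QuotientGroup.eq_one_iff, hcP, ← QuotientGroup.eq_one_iff]
        exact hq⟩
      one_smul := fun q => by
        obtain ⟨q, hq⟩ := q
        obtain ⟨x, rfl⟩ := QuotientGroup.mk_surjective q
        refine Subtype.ext ?_
        change QuotientGroup.map P P (conj 1) (hconj 1) (x : N ⧸ P) = x
        rw [QuotientGroup.map_mk]
        congr 1
        exact Subtype.ext (by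
          change ((1 : C) : G) * x * ((1 : C) : G)⁻¹ = x
          rw [OneMemClass.coe_one, one_mul, inv_one, mul_one])
      mul_smul := fun c d q => by
        obtain ⟨q, hq⟩ := q
        obtain ⟨x, rfl⟩ := QuotientGroup.mk_surjective q
        refine Subtype.ext ?_
        change QuotientGroup.map P P (conj (c * d)) (hconj (c * d)) (x : N ⧸ P) =
          QuotientGroup.map P P (conj c) (hconj c) (QuotientGroup.map P P (conj d) (hconj d) (x : N ⧸ P))
        rw [QuotientGroup.map_mk, QuotientGroup.map_mk, QuotientGroup.map_mk]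
        congr 1
        exact Subtype.ext (by
          change ((c * d : C) : G) * x * ((c * d : C) : G)⁻¹ = c * (d * x * (d : G)⁻¹) * (c : G)⁻¹
          rw [Subgroup.coe_mul]; group) }
  have htrans : MulAction.IsPretransitive C Ω := by
    constructor
    rintro ⟨q, hq⟩ ⟨q', hq'⟩
    obtain ⟨x, rfl⟩ := QuotientGroup.mk_surjective q
    obtain ⟨y, rfl⟩ := QuotientGroup.mk_surjective q'
    rw [ne_eq, QuotientGroup.eq_one_iff, hPm, not_or] at hq hq'
    obtain ⟨c, hc, h1⟩ := htr x x.2 y y.2 hq.1 hq.2 hq'.1 hq'.2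
    refine ⟨⟨c, hc⟩, Subtype.ext ?_⟩
    change QuotientGroup.map P P (conj ⟨c, hc⟩) (hconj ⟨c, hc⟩) (x : N ⧸ P) = y
    rw [QuotientGroup.map_mk]
    congr 1
    exact Subtype.ext h1
  have hDn' : (D.subgroupOf C).Normal := ⟨fun d hd c => hDn c c.2 d hd⟩
  have h3' : ¬ 3 ∣ Nat.card (D.subgroupOf C) := by
    rw [Nat.card_congr (subgroupOfEquivOfLe hDC).toEquiv]
    exact h3
  intro d hd x hx
  by_cases hxP : (⟨x, hx⟩ : N) ∈ P
  · rcases (hPm _).1 hxP with h1 | h1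
    · left
      change x = 1 at h1
      rw [h1]; group
    · left
      change x = p at h1
      rw [h1, hCp d (hDC hd), mul_inv_cancel_right]
  · have h1 := triv_of cardΩ (D.subgroupOf C) h3' ⟨d, hDC hd⟩ hd
      ⟨((⟨x, hx⟩ : N) : N ⧸ P), fun h => hxP ((QuotientGroup.eq_one_iff _).1 h)⟩
    have h2 : QuotientGroup.map P P (conj ⟨d, hDC hd⟩) (hconj ⟨d, hDC hd⟩) ((⟨x, hx⟩ : N) : N ⧸ P) =
      ((⟨x, hx⟩ : N) : N ⧸ P) := congrArg Subtype.val h1
    rw [QuotientGroup.map_mk] at h2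
    have h4 := QuotientGroup.eq.1 h2.symm
    rcases (hPm _).1 h4 with h5 | h5
    · left
      change x⁻¹ * (d * x * d⁻¹) = 1 at h5
      exact (inv_mul_eq_one.1 h5).symm
    · right
      change x⁻¹ * (d * x * d⁻¹) = p at h5
      rw [← h5]; group

/-! ### The graph -/

/-- the data at the vertex `r` -/
structure Gr (N : Subgroup G) (r : G) : Prop where
  card : Nat.card N = 8
  sq : ∀ x ∈ N, x * x = 1
  comm : ∀ x ∈ N, x * r = r * x
  norm : ∀ g, g * r = r * g → ∀ x ∈ N, g * x * g⁻¹ ∈ N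
  two : ∀ a ∈ N, ∀ b ∈ N, ∀ a' ∈ N, ∀ b' ∈ N, a ≠ 1 → b ≠ 1 → a ≠ b → a' ≠ 1 → b' ≠ 1 → a' ≠ b' →
    ∃ g, g * r = r * g ∧ g * a * g⁻¹ = a' ∧ g * b * g⁻¹ = b'

/-- `x` lies in the subgroup `N(y)` of the vertex `y` -/
def Nb (N : Subgroup G) (r y x : G) : Prop := ∃ g, g * r * g⁻¹ = y ∧ g⁻¹ * x * g ∈ N

theorem exists_third {N : Subgroup G} (card : Nat.card N = 8) (a : G) : ∃ b ∈ N, b ≠ 1 ∧ b ≠ a := by
  by_contra hcon
  push Not at hcon
  have h1 : (N : Set G) ⊆ {1, a} := fun b hb => by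
    by_cases hb1 : b = 1
    · exact Or.inl hb1
    · exact Or.inr (hcon b hb hb1)
  have h2 := Set.ncard_le_ncard h1 (Set.toFinite _)
  have h3 : (N : Set G).ncard = 8 := card
  have h4 := Set.ncard_insert_le (1 : G) {a}
  rw [Set.ncard_singleton] at h4
  omega

theorem conj_mul' (g a b : G) : g * (a * b) * g⁻¹ = g * a * g⁻¹ * (g * b * g⁻¹) := by group

theorem conj_comm_iff (g : G) {a b : G} :
    g * a * g⁻¹ * (g * b * g⁻¹) = g * b * g⁻¹ * (g * a * g⁻¹) ↔ a * b = b * a := by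
  rw [← conj_mul', ← conj_mul']
  exact ⟨fun h => mul_left_cancel (mul_right_cancel h), fun h => by rw [h]⟩

namespace Gr

variable {N : Subgroup G} {r : G}

theorem inv (h : Gr N r) {x : G} (hx : x ∈ N) : x⁻¹ = x := inv_eq_of_mul_eq_one_left (h.sq x hx)

theorem ab (h : Gr N r) {x y : G} (hx : x ∈ N) (hy : y ∈ N) : x * y = y * x := by
  have h1 := h.inv (mul_mem hx hy)
  rw [mul_inv_rev, h.inv hx, h.inv hy] at h1
  exact h1.symm

theorem nb_iff (h : Gr N r) (g : G) {x : G} : Nb N r (g * r * g⁻¹) x ↔ g⁻¹ * x * g ∈ N := by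
  constructor
  · rintro ⟨k, hk, hx⟩
    have h1 : (g⁻¹ * k) * r = r * (g⁻¹ * k) := by
      calc g⁻¹ * k * r = g⁻¹ * (k * r * k⁻¹) * k := by group
        _ = g⁻¹ * (g * r * g⁻¹) * k := by rw [hk]
        _ = r * (g⁻¹ * k) := by group
    have h2 := h.norm _ h1 _ hx
    have h3 : g⁻¹ * k * (k⁻¹ * x * k) * (g⁻¹ * k)⁻¹ = g⁻¹ * x * g := by group
    rwa [h3] at h2
  · intro hx
    exact ⟨g, rfl, hx⟩

theorem nb_self (h : Gr N r) {x : G} : Nb N r r x ↔ x ∈ N := by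
  have h1 := h.nb_iff 1 (x := x)
  simpa using h1

end Gr

theorem Nb.conj {N : Subgroup G} {r y x : G} (h : Nb N r y x) (g : G) : Nb N r (g * y * g⁻¹) (g * x * g⁻¹) := by
  obtain ⟨k, rfl, hx⟩ := h
  refine ⟨g * k, by group, ?_⟩
  have h3 : (g * k)⁻¹ * (g * x * g⁻¹) * (g * k) = k⁻¹ * x * k := by group
  rwa [h3]

/-- the situation at the edge `r, p` -/
structure Ed (N : Subgroup G) (r p s : G) : Prop extends Gr N r where
  hp : p ∈ N
  hp1 : p ≠ 1
  sr : s * r * s⁻¹ = p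
  sp : s * p * s⁻¹ = r
  three : ¬ 3 ∣ Nat.card (centralizer (N : Set G))
  max : ∀ A : Subgroup G, A ≠ ⊥ → (∀ a ∈ A, a * a = 1) → centralizer {r} ≤ normalizer (A : Set G) →
    normalizer (A : Set G) ≤ centralizer {r}

namespace Ed

variable {N : Subgroup G} {r p s : G}

theorem ne (h : Ed N r p s) : p ≠ r := by
  intro hpr
  obtain ⟨b, hb, hb1, hbp⟩ := exists_third h.card p
  obtain ⟨g, hg, h1, h2⟩ := h.two p h.hp b hb b hb p h.hp h.hp1 hb1 (Ne.symm hbp) hb1 h.hp1 hbp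
  apply hbp
  rw [← h1, hpr, hg, mul_inv_cancel_right]

theorem trans (h : Ed N r p s) {a b : G} (ha : a ∈ N) (ha1 : a ≠ 1) (hb : b ∈ N) (hb1 : b ≠ 1) :
    ∃ g, g * r = r * g ∧ g * a * g⁻¹ = b := by
  obtain ⟨a', ha', ha1', haa⟩ := exists_third h.card a
  obtain ⟨b', hb', hb1', hbb⟩ := exists_third h.card b
  obtain ⟨g, hg, h1, -⟩ := h.two a ha a' ha' b hb b' hb' ha1 ha1' (Ne.symm haa) hb1 hb1' (Ne.symm hbb)
  exact ⟨g, hg, h1⟩

theorem edge (h : Ed N r p s) {y y' : G} (hy : Nb N r y y') (hy1 : y' ≠ 1) :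
    ∃ g, g * r * g⁻¹ = y ∧ g * p * g⁻¹ = y' := by
  obtain ⟨k, rfl, hk⟩ := hy
  obtain ⟨g, hg, h1⟩ := h.trans h.hp h.hp1 hk (fun h1 => hy1 (by
    have h2 : y' = k * (k⁻¹ * y' * k) * k⁻¹ := by group
    rw [h2, h1]; group))
  refine ⟨k * g, ?_, ?_⟩
  · calc k * g * r * (k * g)⁻¹ = k * (g * r) * g⁻¹ * k⁻¹ := by group
      _ = k * r * k⁻¹ := by rw [hg]; group
  · calc k * g * p * (k * g)⁻¹ = k * (g * p * g⁻¹) * k⁻¹ := by group
      _ = y' := by rw [h1]; group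

theorem nb_p (h : Ed N r p s) {x : G} : Nb N r p x ↔ s⁻¹ * x * s ∈ N := by
  rw [← h.nb_iff s, h.sr]

theorem r_mem (h : Ed N r p s) : Nb N r p r := by
  rw [h.nb_p, ← h.sp]
  have h1 : s⁻¹ * (s * p * s⁻¹) * s = p := by group
  rw [h1]
  exact h.hp

theorem rr (h : Ed N r p s) : r * r = 1 := by
  rw [← h.sp, ← conj_mul', h.sq p h.hp]
  group

theorem r_ne (h : Ed N r p s) : r ≠ 1 := by
  intro h1
  apply h.hp1
  rw [← h.sr, h1]
  group

/-- the swap acts on `C(r) ∩ C(p)` -/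
theorem swap_comm (h : Ed N r p s) {c : G} (hr : c * r = r * c) (hp : c * p = p * c) :
    (s * c * s⁻¹) * r = r * (s * c * s⁻¹) ∧ (s * c * s⁻¹) * p = p * (s * c * s⁻¹) := by
  constructor
  · have h1 := (conj_comm_iff s).2 hp
    rwa [h.sp] at h1
  · have h1 := (conj_comm_iff s).2 hr
    rwa [h.sr] at h1

theorem swap_comm' (h : Ed N r p s) {c : G} (hr : c * r = r * c) (hp : c * p = p * c) :
    (s⁻¹ * c * s) * r = r * (s⁻¹ * c * s) ∧ (s⁻¹ * c * s) * p = p * (s⁻¹ * c * s) := by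
  have e1 : s⁻¹ * p * s = r := by rw [← h.sr]; group
  have e2 : s⁻¹ * r * s = p := by rw [← h.sp]; group
  constructor
  · have h1 := (conj_comm_iff s⁻¹).2 hp
    rw [inv_inv] at h1
    rwa [e1] at h1
  · have h1 := (conj_comm_iff s⁻¹).2 hr
    rw [inv_inv] at h1
    rwa [e2] at h1

/-- normal 3'-subgroups of `C(r) ∩ C(p)` centralise `N / ⟨p⟩` -/
theorem nt (h : Ed N r p s) (D : Subgroup G) (hDr : ∀ d ∈ D, d * r = r * d) (hDp : ∀ d ∈ D, d * p = p * d)
    (hDn : ∀ c, c * r = r * c → c * p = p * c → ∀ d ∈ D, c * d * c⁻¹ ∈ D) (h3 : ¬ 3 ∣ Nat.card D) :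
    ∀ d ∈ D, ∀ x ∈ N, d * x * d⁻¹ = x ∨ d * x * d⁻¹ = x * p := by
  have hC : ∀ c, c ∈ centralizer {r} ⊓ centralizer {p} ↔ c * r = r * c ∧ c * p = p * c := fun c => by
    rw [mem_inf, mem_centralizer_singleton_iff, mem_centralizer_singleton_iff]
  refine key h.card h.sq h.hp h.hp1 (centralizer {r} ⊓ centralizer {p}) ?_ ?_ ?_ D ?_ ?_ h3
  · intro c hc
    exact h.norm c ((hC c).1 hc).1
  · intro c hc
    exact ((hC c).1 hc).2
  · intro x hx y hy hx1 hxp hy1 hyp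
    obtain ⟨g, hg, h1, h2⟩ := h.two p h.hp x hx p h.hp y hy h.hp1 hx1 (Ne.symm hxp) h.hp1 hy1 (Ne.symm hyp)
    exact ⟨g, (hC g).2 ⟨hg, mul_inv_eq_iff_eq_mul.1 h1⟩, h2⟩
  · intro d hd
    exact (hC d).2 ⟨hDr d hd, hDp d hd⟩
  · intro c hc
    exact hDn c ((hC c).1 hc).1 ((hC c).1 hc).2

/-- (i) at the edge `r, p` -/
theorem one_aux (h : Ed N r p s) {x x' : G} (hx : x ∈ N) (hx' : Nb N r p x') : x * x' = x' * x := by
  let D : Subgroup G := N.map (MulAut.conj s).toMonoidHom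
  have hD : ∀ d, d ∈ D ↔ s⁻¹ * d * s ∈ N := by
    intro d
    constructor
    · rintro ⟨n, hn, rfl⟩
      have h1 : s⁻¹ * (MulAut.conj s).toMonoidHom n * s = n := by
        change s⁻¹ * (s * n * s⁻¹) * s = n
        group
      rw [h1]; exact hn
    · intro h1
      exact ⟨_, h1, by change s * (s⁻¹ * d * s) * s⁻¹ = d; group⟩
  have hDp : ∀ d ∈ D, d * p = p * d := by
    intro d hd
    have h1 := (conj_comm_iff s).2 (h.comm _ ((hD d).1 hd))
    have h2 : s * (s⁻¹ * d * s) * s⁻¹ = d := by group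
    rwa [h2, h.sr] at h1
  have hDr : ∀ d ∈ D, d * r = r * d := by
    intro d hd
    have h1 := (conj_comm_iff s).2 (h.ab ((hD d).1 hd) h.hp)
    have h2 : s * (s⁻¹ * d * s) * s⁻¹ = d := by group
    rwa [h2, h.sp] at h1
  have hcard : ¬ 3 ∣ Nat.card D := by
    have h1 : Nat.card D = 8 := by
      rw [← h.card]
      exact Subgroup.card_map_of_injective (MulAut.conj s).injective
    rw [h1]; norm_num
  have hDn : ∀ c, c * r = r * c → c * p = p * c → ∀ d ∈ D, c * d * c⁻¹ ∈ D := by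
    intro c hr hp d hd
    rw [hD] at hd ⊢
    have h1 := h.norm _ (h.swap_comm' hr hp).1 _ hd
    have h2 : s⁻¹ * c * s * (s⁻¹ * d * s) * (s⁻¹ * c * s)⁻¹ = s⁻¹ * (c * d * c⁻¹) * s := by group
    rwa [h2] at h1
  have hnt := h.nt D hDr hDp hDn hcard
  -- `[d, x] ∈ ⟨p⟩` and, by the swap, `[d, x] ∈ ⟨r⟩`
  have hx'D : x' ∈ D := (hD x').2 (h.nb_p.1 hx')
  rcases hnt x' hx'D x hx with h1 | h1
  · exact (mul_inv_eq_iff_eq_mul.1 h1).symm
  · exfalso
    -- the commutator of `s x s⁻¹ ∈ D` and `s⁻¹ x' s ∈ N`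
    have h2 : s * x * s⁻¹ ∈ D := (hD _).2 (by
      have h3 : s⁻¹ * (s * x * s⁻¹) * s = x := by group
      rw [h3]; exact hx)
    have h4 : s⁻¹ * x' * s ∈ N := (hD _).1 hx'D
    -- conjugate by `s⁻¹`: `s⁻¹ x s ∈ D^{s⁻²} = D`
    have h5 : s⁻¹ * x * s ∈ D := by
      rw [hD]
      have h6 : (s⁻¹ * s⁻¹) * r = r * (s⁻¹ * s⁻¹) := by
        have e1 : s⁻¹ * p * s = r := by rw [← h.sr]; group
        have e2 : s⁻¹ * r * s = p := by rw [← h.sp]; group
        calc s⁻¹ * s⁻¹ * r = s⁻¹ * (s⁻¹ * r * s) * s⁻¹ := by group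
          _ = s⁻¹ * p * s⁻¹ := by rw [e2]
          _ = (s⁻¹ * p * s) * (s⁻¹ * s⁻¹) := by group
          _ = r * (s⁻¹ * s⁻¹) := by rw [e1]
      have h7 := h.norm _ h6 _ hx
      have h8 : s⁻¹ * s⁻¹ * x * (s⁻¹ * s⁻¹)⁻¹ = s⁻¹ * (s⁻¹ * x * s) * s := by
        simp only [mul_assoc, mul_inv_rev, inv_inv]
      rwa [h8] at h7
    have h9 := hnt _ h5 _ h4
    -- conjugate back by `s`
    have h10 : x * x' * x⁻¹ = x' ∨ x * x' * x⁻¹ = x' * r := by
      have e3 : s * (s⁻¹ * x * s * (s⁻¹ * x' * s) * (s⁻¹ * x * s)⁻¹) * s⁻¹ = x * x' * x⁻¹ := by group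
      have e4 : s * (s⁻¹ * x' * s) * s⁻¹ = x' := by group
      rcases h9 with h9 | h9
      · left
        rw [← e3, h9, e4]
      · right
        rw [← e3, h9, conj_mul', e4, h.sp]
    have hxi := h.inv hx
    rcases h10 with h10 | h10
    · have h11 := mul_inv_eq_iff_eq_mul.1 h10
      have h12 := mul_inv_eq_iff_eq_mul.1 h1
      rw [← h11] at h12
      have h13 : x * (p * x') = x * x' := by rw [← mul_assoc, ← h12]
      have h14 := mul_left_cancel h13
      exact h.hp1 (mul_eq_right.1 h14)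
    · have h11 := mul_inv_eq_iff_eq_mul.1 h10
      have h12 := mul_inv_eq_iff_eq_mul.1 h1
      -- `x x' = x' r x`, `x' x = x p x'`
      have hpr : p * x' = x' * p := (hDp x' hx'D).symm
      have hrx : r * x = x * r := (h.comm x hx).symm
      have h13 : x' * x = x' * x * (r * p) := by
        calc x' * x = x * p * x' := h12
          _ = x * (p * x') := by group
          _ = (x * x') * p := by rw [hpr]; group
          _ = (x' * r * x) * p := by rw [h11]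
          _ = x' * (r * x) * p := by group
          _ = x' * x * (r * p) := by rw [hrx]; group
      have h14 : r * p = 1 := mul_eq_left.1 h13.symm
      apply h.ne
      have h15 := h.rr
      rw [← h14] at h15
      exact (mul_left_cancel h15).symm

/-- (i) -/
theorem one (h : Ed N r p s) {y y' x x' : G} (hy : Nb N r y y') (hy1 : y' ≠ 1) (hx : Nb N r y x)
    (hx' : Nb N r y' x') : x * x' = x' * x := by
  obtain ⟨g, rfl, rfl⟩ := h.edge hy hy1
  have h1 : g⁻¹ * x * g ∈ N := (h.nb_iff g).1 hx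
  have h2 := hx'.conj g⁻¹
  have e1 : g⁻¹ * (g * p * g⁻¹) * g⁻¹⁻¹ = p := by group
  rw [e1] at h2
  have h3 := h.one_aux h1 h2
  have h4 := (conj_comm_iff g).2 h3
  have e2 : g * (g⁻¹ * x * g) * g⁻¹ = x := by group
  have e3 : g * (g⁻¹ * x' * g⁻¹⁻¹) * g⁻¹ = x' := by group
  rwa [e2, e3] at h4

theorem cent_le (h : Ed N r p s) {d : G} (hd : ∀ x ∈ N, d * x = x * d) : d * r = r * d := by
  have h1 : N ≠ ⊥ := by
    intro h1
    apply h.hp1
    have h2 := h.hp
    rwa [h1, mem_bot] at h2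
  have h2 : centralizer {r} ≤ normalizer (N : Set G) := by
    intro g hg
    have hg' := mem_centralizer_singleton_iff.1 hg
    have hg'' := mem_centralizer_singleton_iff.1 (inv_mem hg)
    rw [mem_normalizer_iff]
    intro x
    constructor
    · exact h.norm g hg' x
    · intro hx
      have h3 := h.norm g⁻¹ hg'' _ hx
      have h4 : g⁻¹ * (g * x * g⁻¹) * g⁻¹⁻¹ = x := by group
      rwa [h4] at h3
  have h3 := h.max N h1 h.sq h2
  have h4 : d ∈ normalizer (N : Set G) := by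
    refine centralizer_le_normalizer _ ?_
    rw [mem_centralizer_iff]
    intro x hx
    exact (hd x hx).symm
  exact mem_centralizer_singleton_iff.1 (h3 h4)

/-- (ii) at the edge `r, p` -/
theorem two_aux (h : Ed N r p s) {d x' : G} (hd : ∀ x ∈ N, d * x = x * d) (hx' : Nb N r p x') :
    d * x' * d⁻¹ = x' ∨ d * x' * d⁻¹ = x' * r := by
  let D : Subgroup G := (centralizer (N : Set G)).map (MulAut.conj s⁻¹).toMonoidHom
  have hCm : ∀ c, c ∈ centralizer (N : Set G) ↔ ∀ x ∈ N, c * x = x * c := fun c => by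
    rw [mem_centralizer_iff]
    exact ⟨fun h1 x hx => (h1 x hx).symm, fun h1 x hx => (h1 x hx).symm⟩
  have hD : ∀ c, c ∈ D ↔ s * c * s⁻¹ ∈ centralizer (N : Set G) := by
    intro c
    constructor
    · rintro ⟨n, hn, rfl⟩
      have h1 : s * (MulAut.conj s⁻¹).toMonoidHom n * s⁻¹ = n := by
        change s * (s⁻¹ * n * s⁻¹⁻¹) * s⁻¹ = n
        group
      rw [h1]; exact hn
    · intro h1
      exact ⟨_, h1, by change s⁻¹ * (s * c * s⁻¹) * s⁻¹⁻¹ = c; group⟩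
  have hCr : ∀ c ∈ centralizer (N : Set G), c * r = r * c := fun c hc => h.cent_le ((hCm c).1 hc)
  have hCp : ∀ c ∈ centralizer (N : Set G), c * p = p * c := fun c hc => (hCm c).1 hc p h.hp
  have back : ∀ c, s⁻¹ * (s * c * s⁻¹) * s = c := fun c => by group
  have hDr : ∀ c ∈ D, c * r = r * c := by
    intro c hc
    have h1 := (h.swap_comm' (hCr _ ((hD c).1 hc)) (hCp _ ((hD c).1 hc))).1
    rwa [back] at h1
  have hDp : ∀ c ∈ D, c * p = p * c := by
    intro c hc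
    have h1 := (h.swap_comm' (hCr _ ((hD c).1 hc)) (hCp _ ((hD c).1 hc))).2
    rwa [back] at h1
  have hDn : ∀ c, c * r = r * c → c * p = p * c → ∀ d ∈ D, c * d * c⁻¹ ∈ D := by
    intro c hr hp d hd
    rw [hD, hCm] at hd ⊢
    have h1 := (h.swap_comm hr hp).1
    intro x hx
    have hci : (s * c * s⁻¹)⁻¹ * r = r * (s * c * s⁻¹)⁻¹ := by
      have h2 : Commute (s * c * s⁻¹) r := h1
      exact h2.inv_left.eq
    have h2 := h.norm _ hci _ hx
    rw [inv_inv] at h2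
    have h3 := hd _ h2
    have h4 := (conj_comm_iff (s * c * s⁻¹)).2 h3
    have e1 : s * c * s⁻¹ * (s * d * s⁻¹) * (s * c * s⁻¹)⁻¹ = s * (c * d * c⁻¹) * s⁻¹ := by group
    have e2 : s * c * s⁻¹ * ((s * c * s⁻¹)⁻¹ * x * (s * c * s⁻¹)) * (s * c * s⁻¹)⁻¹ = x := by group
    rwa [e1, e2] at h4
  have hcard : ¬ 3 ∣ Nat.card D := by
    have h1 : Nat.card D = Nat.card (centralizer (N : Set G)) :=
      Subgroup.card_map_of_injective (MulAut.conj s⁻¹).injective
    rw [h1]; exact h.three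
  have h1 : s⁻¹ * d * s ∈ D := (hD _).2 (by
    have e : s * (s⁻¹ * d * s) * s⁻¹ = d := by group
    rw [e, hCm]; exact hd)
  have h2 := h.nt D hDr hDp hDn hcard _ h1 _ (h.nb_p.1 hx')
  have e3 : s * (s⁻¹ * d * s * (s⁻¹ * x' * s) * (s⁻¹ * d * s)⁻¹) * s⁻¹ = d * x' * d⁻¹ := by group
  have e4 : s * (s⁻¹ * x' * s) * s⁻¹ = x' := by group
  rcases h2 with h2 | h2
  · left
    rw [← e3, h2, e4]
  · right
    rw [← e3, h2, conj_mul', e4, h.sp]

/-- (ii) -/
theorem two' (h : Ed N r p s) {y y' d x' : G} (hy : Nb N r y y') (hy1 : y' ≠ 1)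
    (hd : ∀ x, Nb N r y x → d * x = x * d) (hx' : Nb N r y' x') :
    d * x' * d⁻¹ = x' ∨ d * x' * d⁻¹ = x' * y := by
  obtain ⟨g, rfl, rfl⟩ := h.edge hy hy1
  have h2 := hx'.conj g⁻¹
  have e1 : g⁻¹ * (g * p * g⁻¹) * g⁻¹⁻¹ = p := by group
  rw [e1] at h2
  have h3 := h.two_aux (d := g⁻¹ * d * g) (fun x hx => by
    have h4 := hd (g * x * g⁻¹) ((h.nb_iff g).2 (by
      have e : g⁻¹ * (g * x * g⁻¹) * g = x := by group
      rw [e]; exact hx))
    have h5 := (conj_comm_iff g⁻¹).2 h4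
    have e2 : g⁻¹ * (g * x * g⁻¹) * g⁻¹⁻¹ = x := by group
    rwa [e2, inv_inv] at h5) h2
  have e3 : g * (g⁻¹ * d * g * (g⁻¹ * x' * g⁻¹⁻¹) * (g⁻¹ * d * g)⁻¹) * g⁻¹ = d * x' * d⁻¹ := by group
  have e4 : g * (g⁻¹ * x' * g⁻¹⁻¹) * g⁻¹ = x' := by group
  rcases h3 with h3 | h3
  · left
    rw [← e3, h3, e4]
  · right
    rw [← e3, h3, conj_mul', e4]

/-- adjacency -/
def Adj (N : Subgroup G) (r y y' : G) : Prop := Nb N r y y' ∧ y' ≠ 1

/-- paths of length `n` -/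
def Pth (N : Subgroup G) (r : G) : ℕ → G → G → Prop
  | 0, a, c => a = c
  | n + 1, a, c => ∃ m, Pth N r n a m ∧ Adj N r m c

theorem adj_symm (h : Ed N r p s) {y y' : G} (hy : Adj N r y y') : Adj N r y' y := by
  obtain ⟨g, rfl, rfl⟩ := h.edge hy.1 hy.2
  refine ⟨h.r_mem.conj g, ?_⟩
  rw [ne_eq, conj_eq_one_iff]
  exact h.r_ne

theorem adj_conj {y y' : G} (hy : Adj N r y y') (g : G) : Adj N r (g * y * g⁻¹) (g * y' * g⁻¹) :=
  ⟨hy.1.conj g, by rw [ne_eq, conj_eq_one_iff]; exact hy.2⟩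

theorem pth_conj (g : G) : ∀ (n : ℕ) {a c : G}, Pth N r n a c → Pth N r n (g * a * g⁻¹) (g * c * g⁻¹)
  | 0, a, c, h => by
      change a = c at h
      rw [h]; exact rfl
  | n + 1, a, c, ⟨m, h1, h2⟩ => ⟨_, pth_conj g n h1, adj_conj h2 g⟩

theorem pth_cons : ∀ (n : ℕ) {a m c : G}, Adj N r a m → Pth N r n m c → Pth N r (n + 1) a c
  | 0, a, m, c, h, h' => by
      change m = c at h'
      subst h'
      exact ⟨a, rfl, h⟩
  | n + 1, a, m, c, h, ⟨m', h1, h2⟩ => ⟨m', pth_cons n h h1, h2⟩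

theorem pth_symm (h : Ed N r p s) : ∀ (n : ℕ) {a c : G}, Pth N r n a c → Pth N r n c a
  | 0, a, c, h' => by
      change a = c at h'
      exact h'.symm
  | n + 1, a, c, ⟨m, h1, h2⟩ => pth_cons n (h.adj_symm h2) (pth_symm h n h1)

theorem nb_comm (h : Ed N r p s) {y x x' : G} (hx : Nb N r y x) (hx' : Nb N r y x') : x * x' = x' * x := by
  obtain ⟨g, rfl, h1⟩ := hx
  have h2 := (h.nb_iff g).1 hx'
  have h3 := (conj_comm_iff g).2 (h.ab h1 h2)
  have e1 : g * (g⁻¹ * x * g) * g⁻¹ = x := by group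
  have e2 : g * (g⁻¹ * x' * g) * g⁻¹ = x' := by group
  rwa [e1, e2] at h3

theorem nb_cent (h : Ed N r p s) {y x : G} (hx : Nb N r y x) : x * y = y * x := by
  obtain ⟨g, rfl, h1⟩ := hx
  have h3 := (conj_comm_iff g).2 (h.comm _ h1)
  have e1 : g * (g⁻¹ * x * g) * g⁻¹ = x := by group
  rwa [e1] at h3

theorem nb_sq (h : Ed N r p s) {y x : G} (hx : Nb N r y x) : x * x = 1 := by
  obtain ⟨g, rfl, h1⟩ := hx
  have h3 := h.sq _ h1
  have h4 : g * (g⁻¹ * x * g * (g⁻¹ * x * g)) * g⁻¹ = x * x := by group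
  rw [← h4, h3]; group

theorem nb_one {y : G} (hy : ∃ g, g * r * g⁻¹ = y) : Nb N r y 1 := by
  obtain ⟨g, hg⟩ := hy
  refine ⟨g, hg, ?_⟩
  have h1 : g⁻¹ * 1 * g = 1 := by group
  rw [h1]; exact one_mem _

/-- some connected vertices do not commute -/
theorem exists_pth (h : Ed N r p s) : ∃ (n : ℕ) (a c : G), Pth N r n a c ∧ a * c ≠ c * a := by
  by_contra hcon
  push Not at hcon
  let X : Set G := {y | ∃ n, Pth N r n r y}
  have hX : ∀ a ∈ X, ∀ b ∈ X, a * b = b * a := by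
    rintro a ⟨n, ha⟩ b ⟨m, hb⟩
    -- concatenate
    have hcat : ∀ (n : ℕ) {a b c : G} (k : ℕ), Pth N r k a b → Pth N r n b c → Pth N r (k + n) a c := by
      intro n
      induction n with
      | zero =>
        intro a b c k h1 h2
        change b = c at h2
        subst h2
        exact h1
      | succ n ih =>
        rintro a b c k h1 ⟨m, h2, h3⟩
        exact ⟨m, ih k h1 h2, h3⟩
    exact hcon _ a b (hcat m n (h.pth_symm n ha) hb)
  have hsqX : ∀ y ∈ X, y * y = 1 := by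
    rintro y ⟨n, hy⟩
    cases n with
    | zero =>
      change r = y at hy
      rw [← hy]; exact h.rr
    | succ n =>
      obtain ⟨m, -, h2⟩ := hy
      exact h.nb_sq h2.1
  let A : Subgroup G := closure X
  have hrA : r ∈ A := subset_closure ⟨0, rfl⟩
  have hA1 : A ≠ ⊥ := by
    intro h1
    rw [h1, mem_bot] at hrA
    exact h.r_ne hrA
  have hAcomm : ∀ a ∈ A, ∀ b ∈ A, a * b = b * a := by
    intro a ha b hb
    have h1 : A ≤ centralizer X := by
      rw [closure_le]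
      intro x hx
      rw [SetLike.mem_coe, mem_centralizer_iff]
      intro y hy
      exact hX y hy x hx
    have h2 : A ≤ centralizer (A : Set G) := by
      have h3 : centralizer (A : Set G) = centralizer X := centralizer_closure X
      rw [h3]; exact h1
    exact ((mem_centralizer_iff.1 (h2 ha)) b hb).symm
  have hAsq : ∀ a ∈ A, a * a = 1 := by
    intro a ha
    refine closure_induction (p := fun x _ => x * x = 1) ?_ (by simp) ?_ ?_ ha
    · intro x hx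
      exact hsqX x hx
    · intro x y hx hy h1 h2
      calc x * y * (x * y) = x * (y * x) * y := by group
        _ = x * (x * y) * y := by rw [hAcomm y hy x hx]
        _ = (x * x) * (y * y) := by group
        _ = 1 := by rw [h1, h2, one_mul]
    · intro x _ h1
      rw [← mul_inv_rev, h1, inv_one]
  -- an element which maps `X` into itself normalises `A`
  have hnorm : ∀ g : G, (∀ x ∈ X, g * x * g⁻¹ ∈ X) → g ∈ normalizer (A : Set G) := by
    intro g hg
    have h1 : A.map (MulAut.conj g).toMonoidHom ≤ A := by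
      change (closure X).map _ ≤ closure X
      rw [MonoidHom.map_closure]
      refine closure_mono ?_
      rintro _ ⟨x, hx, rfl⟩
      exact hg x hx
    have h2 : A.map (MulAut.conj g).toMonoidHom = A := by
      apply Subgroup.eq_of_le_of_card_ge h1
      rw [Subgroup.card_map_of_injective (MulAut.conj g).injective]
    rw [mem_normalizer_iff]
    intro x
    constructor
    · intro hx
      apply h1
      exact ⟨x, hx, rfl⟩
    · intro hx
      rw [← h2] at hx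
      obtain ⟨y, hy, hxy⟩ := hx
      have h3 : g * y * g⁻¹ = g * x * g⁻¹ := hxy
      have h4 := mul_left_cancel (mul_right_cancel h3)
      rw [← h4]; exact hy
  have h1 : centralizer {r} ≤ normalizer (A : Set G) := by
    intro g hg
    have hg' := mem_centralizer_singleton_iff.1 hg
    apply hnorm
    rintro x ⟨n, hx⟩
    refine ⟨n, ?_⟩
    have h2 := pth_conj (N := N) g n hx
    rwa [hg', mul_inv_cancel_right] at h2
  have h2 : s ∈ normalizer (A : Set G) := by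
    apply hnorm
    rintro x ⟨n, hx⟩
    refine ⟨n + 1, ?_⟩
    have h3 := pth_conj (N := N) s n hx
    rw [h.sr] at h3
    exact pth_cons n ⟨h.nb_self.2 h.hp, h.hp1⟩ h3
  have h3 := mem_centralizer_singleton_iff.1 (h.max A hA1 hAsq h1 h2)
  apply h.ne
  rw [← h.sr, h3, mul_inv_cancel_right]

/-- (iii) -/
theorem exists_noncomm (h : Ed N r p s) :
    ∃ a c x x' : G, a ∈ N ∧ a ≠ 1 ∧ c ∈ N ∧ c ≠ 1 ∧ Nb N r a x ∧ Nb N r c x' ∧ x * x' ≠ x' * x := by
  classical
  have hex := h.exists_pth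
  let b := Nat.find hex
  obtain ⟨a, c, hP, hne⟩ := Nat.find_spec hex
  have hmin : ∀ n, n < Nat.find hex → ∀ a c, Pth N r n a c → a * c = c * a := by
    intro n hn a c hac
    by_contra h1
    exact Nat.find_min hex hn ⟨a, c, hac, h1⟩
  generalize hb : Nat.find hex = b at hP hmin
  have h4 : 4 ≤ b := by
    by_contra hlt
    have h5 : b = 0 ∨ b = 1 ∨ b = 2 ∨ b = 3 := by omega
    rcases h5 with rfl | rfl | rfl | rfl
    · change a = c at hP
      exact hne (by rw [hP])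
    · obtain ⟨m, h1, h2⟩ := hP
      change a = m at h1
      subst h1
      exact hne (h.nb_cent h2.1).symm
    · obtain ⟨m, ⟨m', h1, h2⟩, h3⟩ := hP
      change a = m' at h1
      subst h1
      exact hne (h.nb_comm (h.adj_symm h2).1 h3.1)
    · obtain ⟨m, ⟨m', ⟨m'', h1, h2⟩, h3⟩, h4⟩ := hP
      change a = m'' at h1
      subst h1
      exact hne (h.one h3.1 h3.2 (h.adj_symm h2).1 h4.1)
  obtain ⟨n, rfl⟩ : ∃ n, b = n + 4 := ⟨b - 4, by omega⟩
  have hP' := h.pth_symm _ hP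
  obtain ⟨m3, ⟨m2, h2, h23⟩, h3c⟩ := hP
  obtain ⟨k3, ⟨k2, g2, g23⟩, g3a⟩ := hP'
  -- `a` centralises `N(m2)`
  have ha : ∀ x, Nb N r m2 x → a * x = x * a := by
    intro x hx
    by_cases hx1 : x = 1
    · rw [hx1, mul_one, one_mul]
    · exact hmin (n + 3) (by omega) a x ⟨m2, h2, hx, hx1⟩
  have hc : ∀ x, Nb N r k2 x → c * x = x * c := by
    intro x hx
    by_cases hx1 : x = 1
    · rw [hx1, mul_one, one_mul]
    · exact hmin (n + 3) (by omega) c x ⟨k2, g2, hx, hx1⟩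
  have ham : a * m2 = m2 * a := hmin (n + 2) (by omega) a m2 h2
  have hck : c * k2 = k2 * c := hmin (n + 2) (by omega) c k2 g2
  have e1 : a * c = c * m2 * a := by
    rcases h.two' h23.1 h23.2 ha h3c.1 with h5 | h5
    · exact absurd (mul_inv_eq_iff_eq_mul.1 h5) hne
    · exact mul_inv_eq_iff_eq_mul.1 h5
  have e2 : c * a = a * k2 * c := by
    rcases h.two' g23.1 g23.2 hc g3a.1 with h5 | h5
    · exact absurd (mul_inv_eq_iff_eq_mul.1 h5).symm hne
    · exact mul_inv_eq_iff_eq_mul.1 h5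
  have e3 : k2 = m2 := by
    have h5 : a * c = a * c * (k2 * m2) := by
      calc a * c = c * (m2 * a) := by rw [e1]; group
        _ = c * a * m2 := by rw [← ham]; group
        _ = a * (k2 * c) * m2 := by rw [e2]; group
        _ = a * c * (k2 * m2) := by rw [← hck]; group
    have h6 : k2 * m2 = 1 := mul_eq_left.1 h5.symm
    have h7 : m2 * m2 = 1 := h.nb_sq (h.adj_symm h23).1
    exact mul_right_cancel (h6.trans h7.symm)
  subst e3
  -- conjugate `k2` to `r`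
  obtain ⟨g, hg, hgm⟩ := g23.1
  have hinv : ∀ {y : G}, g⁻¹ * y * g = g⁻¹ * y * g⁻¹⁻¹ := by intro y; rw [inv_inv]
  have hgr : g⁻¹ * k2 * g⁻¹⁻¹ = r := by rw [← hg]; group
  refine ⟨g⁻¹ * k3 * g, g⁻¹ * m3 * g, g⁻¹ * a * g, g⁻¹ * c * g, hgm, ?_, ?_, ?_, ?_, ?_, ?_⟩
  · rw [hinv, ne_eq, conj_eq_one_iff]
    exact g23.2
  · rw [← h.nb_self, hinv]
    have h9 := h23.1.conj g⁻¹
    rwa [hgr] at h9
  · rw [hinv, ne_eq, conj_eq_one_iff]
    exact h23.2
  · rw [hinv, hinv]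
    exact g3a.1.conj g⁻¹
  · rw [hinv, hinv]
    exact h3c.1.conj g⁻¹
  · rw [hinv, hinv, ne_eq, conj_comm_iff]
    exact hne

/-- 2-transitivity of `C(y)` on `N(y)` -/
theorem two_nb (h : Ed N r p s) {y a b a' b' : G} (ha : Nb N r y a) (hb : Nb N r y b) (ha' : Nb N r y a')
    (hb' : Nb N r y b') (ha1 : a ≠ 1) (hb1 : b ≠ 1) (hab : a ≠ b) (ha1' : a' ≠ 1) (hb1' : b' ≠ 1) (hab' : a' ≠ b') :
    ∃ g, g * y = y * g ∧ g * a * g⁻¹ = a' ∧ g * b * g⁻¹ = b' := by
  obtain ⟨k, rfl, h1⟩ := ha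
  have h2 := (h.nb_iff k).1 hb
  have h3 := (h.nb_iff k).1 ha'
  have h4 := (h.nb_iff k).1 hb'
  have hk : ∀ x : G, k⁻¹ * x * k = k⁻¹ * x * k⁻¹⁻¹ := fun x => by rw [inv_inv]
  have hinj : ∀ {x y : G}, k⁻¹ * x * k = k⁻¹ * y * k → x = y := fun h => mul_left_cancel (mul_right_cancel h)
  have hone : ∀ {x : G}, k⁻¹ * x * k = 1 → x = 1 := fun {x} h => by
    rw [hk] at h
    exact conj_eq_one_iff.1 h
  obtain ⟨g, hg, e1, e2⟩ := h.two _ h1 _ h2 _ h3 _ h4 (fun h => ha1 (hone h)) (fun h => hb1 (hone h))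
    (fun h => hab (hinj h)) (fun h => ha1' (hone h)) (fun h => hb1' (hone h)) (fun h => hab' (hinj h))
  refine ⟨k * g * k⁻¹, (conj_comm_iff k).2 hg, ?_, ?_⟩
  · calc k * g * k⁻¹ * a * (k * g * k⁻¹)⁻¹ = k * (g * (k⁻¹ * a * k) * g⁻¹) * k⁻¹ := by group
      _ = a' := by rw [e1]; group
  · calc k * g * k⁻¹ * b * (k * g * k⁻¹)⁻¹ = k * (g * (k⁻¹ * b * k) * g⁻¹) * k⁻¹ := by group
      _ = b' := by rw [e2]; group

end Ed

/-- two four-subgroups of `N` meet -/
theorem meet {N : Subgroup G} (card : Nat.card N = 8) (sq : ∀ x ∈ N, x * x = 1) (ab : ∀ x ∈ N, ∀ y ∈ N, x * y = y * x)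
    {a b a' b' : G} (ha : a ∈ N) (hb : b ∈ N) (ha' : a' ∈ N) (hb' : b' ∈ N) (ha1 : a ≠ 1) (hb1 : b ≠ 1) (hab : a ≠ b)
    (ha1' : a' ≠ 1) (hb1' : b' ≠ 1) (hab' : a' ≠ b') :
    ∃ q, q ≠ 1 ∧ (q = a ∨ q = b ∨ q = a * b) ∧ (q = a' ∨ q = b' ∨ q = a' * b') := by
  have h1 := RedFivX.card_pair (sq a ha) (sq b hb) (ab a ha b hb) ha1 hb1 hab
  have h2 := RedFivX.card_pair (sq a' ha') (sq b' hb') (ab a' ha' b' hb') ha1' hb1' hab'
  by_contra hcon
  push Not at hcon
  have hdis : Disjoint (closure ({a, b} : Set G)) (closure ({a', b'} : Set G)) := by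
    rw [disjoint_def]
    intro x hx hx'
    by_contra hx1
    rw [RedFivX.mem_pair (sq a ha) (sq b hb) (ab a ha b hb)] at hx
    rw [RedFivX.mem_pair (sq a' ha') (sq b' hb') (ab a' ha' b' hb')] at hx'
    obtain ⟨h3, h4, h5⟩ := hcon x hx1 (hx.resolve_left hx1)
    rcases hx'.resolve_left hx1 with h6 | h6 | h6
    · exact h3 h6
    · exact h4 h6
    · exact h5 h6
  have hle : closure ({a, b} : Set G) ≤ N := by
    rw [closure_le]
    rintro x (rfl | rfl)
    · exact ha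
    · exact hb
  have hle' : closure ({a', b'} : Set G) ≤ N := by
    rw [closure_le]
    rintro x (rfl | rfl)
    · exact ha'
    · exact hb'
  have h3 := mul_injective_of_disjoint hdis
  let f : closure ({a, b} : Set G) × closure ({a', b'} : Set G) → N := fun x =>
    ⟨x.1 * x.2, mul_mem (hle x.1.2) (hle' x.2.2)⟩
  have hf : Function.Injective f := fun x y hxy => h3 (congrArg Subtype.val hxy)
  have h4 := Nat.card_le_card_of_injective f hf
  rw [Nat.card_prod, h1, h2, card] at h4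
  omega

/-! ### The frame -/

section frame

variable {L V N : Subgroup G} {φ : L →* Equiv.Perm (Fin 5)} {e : Fin 5 → Fin 5 → G} {s : G}

theorem nb_e (F : Bc.FrA L V φ e) (h01 : e 0 1 ∈ N) (π : Equiv.Perm (Fin 5)) :
    Nb N (e 3 4) (e (π 3) (π 4)) (e (π 0) (π 1)) := by
  have key : ∃ g, (g : G) * e 3 4 * (g : G)⁻¹ = e (π 3) (π 4) ∧ (g : G) * e 0 1 * (g : G)⁻¹ = e (π 0) (π 1) := by
    rcases F.exists_or π (k := 3) (l := 4) (by decide) with ⟨g, hg⟩ | ⟨g, hg⟩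
    · have h1 := F.conj g 3 4
      have h2 := F.conj g 0 1
      rw [hg] at h1 h2
      exact ⟨g, h1, h2⟩
    · have h1 := F.conj g 3 4
      have h2 := F.conj g 0 1
      have e1 : Equiv.swap (3 : Fin 5) 4 3 = 4 ∧ Equiv.swap (3 : Fin 5) 4 4 = 3 ∧ Equiv.swap (3 : Fin 5) 4 0 = 0 ∧
        Equiv.swap (3 : Fin 5) 4 1 = 1 := by decide
      rw [hg, Equiv.Perm.mul_apply, Equiv.Perm.mul_apply] at h1 h2
      rw [e1.1, e1.2.1, F.symm (π 4)] at h1
      rw [e1.2.2.1, e1.2.2.2] at h2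
      exact ⟨g, h1, h2⟩
  obtain ⟨g, h1, h2⟩ := key
  refine ⟨g, h1, ?_⟩
  rw [← h2]
  have h3 : (g : G)⁻¹ * ((g : G) * e 0 1 * (g : G)⁻¹) * g = e 0 1 := by group
  rw [h3]; exact h01

/-- `x` lies in `N(q) N` -/
def Rr (N : Subgroup G) (r q x : G) : Prop := ∃ y n, Nb N r q y ∧ n ∈ N ∧ x = y * n

theorem Rr.conj {r q x : G} (h : Gr N r) (hx : Rr N r q x) {g : G} (hg : g * r = r * g) :
    Rr N r (g * q * g⁻¹) (g * x * g⁻¹) := by
  obtain ⟨y, n, h1, h2, rfl⟩ := hx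
  exact ⟨_, _, h1.conj g, h.norm g hg n h2, conj_mul' g y n⟩

theorem line (F : Bc.FrA L V φ e) (h : Ed N (e 3 4) (e 0 1) s) {q x : G} (hq : q ∈ N) (hq1 : q ≠ 1)
    (hx : Nb N (e 3 4) q x) :
    ∃ a b, a ∈ N ∧ b ∈ N ∧ a ≠ 1 ∧ b ≠ 1 ∧ a ≠ b ∧ Rr N (e 3 4) a x ∧ Rr N (e 3 4) b x ∧ Rr N (e 3 4) (a * b) x := by
  have h01 : e 0 1 ∈ N := h.hp
  have h02 : e 0 2 ∈ N := by
    have h1 := nb_e F h01 (Equiv.swap 1 2)
    have e1 : Equiv.swap (1 : Fin 5) 2 3 = 3 ∧ Equiv.swap (1 : Fin 5) 2 4 = 4 ∧ Equiv.swap (1 : Fin 5) 2 0 = 0 ∧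
      Equiv.swap (1 : Fin 5) 2 1 = 2 := by decide
    rw [e1.1, e1.2.1, e1.2.2.1, e1.2.2.2] at h1
    exact h.nb_self.1 h1
  have h12 : e 0 1 * e 0 2 = e 1 2 := by rw [F.symm 0 1]; exact F.mul 1 0 2
  have h12N : e 1 2 ∈ N := by rw [← h12]; exact mul_mem h01 h02
  have hr : ∀ {q : G}, q ∈ N → q ≠ 1 → Nb N (e 3 4) q (e 3 4) := fun hq hq1 =>
    (h.adj_symm ⟨h.nb_self.2 hq, hq1⟩).1
  have hone : ∀ {q : G}, q ∈ N → q ≠ 1 → Nb N (e 3 4) q 1 := fun hq hq1 => by
    obtain ⟨g, hg, -⟩ := hr hq hq1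
    exact Ed.nb_one ⟨g, hg⟩
  by_cases hx1 : x = 1 ∨ x = e 3 4
  · refine ⟨e 0 1, e 0 2, h01, h02, h.hp1, F.ne 0 2 (by decide), ?_, ?_, ?_, ?_⟩
    · intro h1
      have h2 : e 1 2 = 1 := by rw [← h12, h1, h.sq _ h02]
      exact F.ne 1 2 (by decide) h2
    · rcases hx1 with rfl | rfl
      · exact ⟨1, 1, hone h01 h.hp1, one_mem _, (one_mul _).symm⟩
      · exact ⟨_, 1, hr h01 h.hp1, one_mem _, (mul_one _).symm⟩
    · rcases hx1 with rfl | rfl
      · exact ⟨1, 1, hone h02 (F.ne 0 2 (by decide)), one_mem _, (one_mul _).symm⟩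
      · exact ⟨_, 1, hr h02 (F.ne 0 2 (by decide)), one_mem _, (mul_one _).symm⟩
    · rw [h12]
      rcases hx1 with rfl | rfl
      · exact ⟨1, 1, hone h12N (F.ne 1 2 (by decide)), one_mem _, (one_mul _).symm⟩
      · exact ⟨_, 1, hr h12N (F.ne 1 2 (by decide)), one_mem _, (mul_one _).symm⟩
  · rw [not_or] at hx1
    -- `(q, x)` is conjugate to `(e 0 1, e 2 3)` under `C(r)`
    have n23 : Nb N (e 3 4) (e 0 1) (e 2 3) := by
      have hπ : ∃ π : Equiv.Perm (Fin 5), π 3 = 0 ∧ π 4 = 1 ∧ π 0 = 2 ∧ π 1 = 3 := by decide +kernel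
      obtain ⟨π, p3, p4, p0, p1⟩ := hπ
      have h1 := nb_e F h01 π
      rwa [p3, p4, p0, p1] at h1
    have n13 : Nb N (e 3 4) (e 0 2) (e 1 3) := by
      have hπ : ∃ π : Equiv.Perm (Fin 5), π 3 = 0 ∧ π 4 = 2 ∧ π 0 = 1 ∧ π 1 = 3 := by decide +kernel
      obtain ⟨π, p3, p4, p0, p1⟩ := hπ
      have h1 := nb_e F h01 π
      rwa [p3, p4, p0, p1] at h1
    have n03 : Nb N (e 3 4) (e 1 2) (e 0 3) := by
      have hπ : ∃ π : Equiv.Perm (Fin 5), π 3 = 1 ∧ π 4 = 2 ∧ π 0 = 0 ∧ π 1 = 3 := by decide +kernel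
      obtain ⟨π, p3, p4, p0, p1⟩ := hπ
      have h1 := nb_e F h01 π
      rwa [p3, p4, p0, p1] at h1
    obtain ⟨g1, hg1, hq'⟩ := h.trans h01 h.hp1 hq hq1
    have n1 : Nb N (e 3 4) q (g1 * e 2 3 * g1⁻¹) := by
      have h1 := n23.conj g1
      rwa [hq'] at h1
    have h23 : e 2 3 ≠ e 3 4 := by
      intro h1
      apply F.ne 2 4 (by decide)
      rw [← F.mul 2 3 4, h1]
      exact h.rr
    obtain ⟨g2, hg2, h3, h4⟩ := h.two_nb (hr hq hq1) n1 (hr hq hq1) hx h.r_ne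
      (by rw [ne_eq, conj_eq_one_iff]; exact F.ne 2 3 (by decide))
      (by
        intro h1
        apply h23
        have h2 : g1 * e 3 4 * g1⁻¹ = e 3 4 := by rw [hg1, mul_inv_cancel_right]
        rw [← h2] at h1
        exact (mul_left_cancel (mul_right_cancel h1)).symm)
      h.r_ne hx1.1 (Ne.symm hx1.2)
    have hgr : g2 * g1 * e 3 4 = e 3 4 * (g2 * g1) := by
      rw [mul_assoc, hg1, ← mul_assoc, mul_inv_eq_iff_eq_mul.1 h3, mul_assoc]
    have hx' : x = g2 * g1 * e 2 3 * (g2 * g1)⁻¹ := by rw [← h4]; group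
    have base1 : Rr N (e 3 4) (e 0 1) (e 2 3) := ⟨_, 1, n23, one_mem _, (mul_one _).symm⟩
    have base2 : Rr N (e 3 4) (e 0 2) (e 2 3) := ⟨_, _, n13, h12N, by
      rw [F.symm 1 3, F.mul 3 1 2, F.symm 3 2]⟩
    have base3 : Rr N (e 3 4) (e 0 1 * e 0 2) (e 2 3) := by
      rw [h12]
      exact ⟨_, _, n03, h02, by rw [F.symm 0 3, F.mul 3 0 2, F.symm 3 2]⟩
    refine ⟨g2 * g1 * e 0 1 * (g2 * g1)⁻¹, g2 * g1 * e 0 2 * (g2 * g1)⁻¹, h.norm _ hgr _ h01, h.norm _ hgr _ h02,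
      ?_, ?_, ?_, ?_, ?_, ?_⟩
    · rw [ne_eq, conj_eq_one_iff]; exact h.hp1
    · rw [ne_eq, conj_eq_one_iff]; exact F.ne 0 2 (by decide)
    · intro h1
      have h2 := mul_left_cancel (mul_right_cancel h1)
      have h5 : e 1 2 = 1 := by rw [← h12, h2, h.sq _ h02]
      exact F.ne 1 2 (by decide) h5
    · rw [hx']; exact base1.conj h.toGr hgr
    · rw [hx']; exact base2.conj h.toGr hgr
    · rw [hx', ← conj_mul']; exact base3.conj h.toGr hgr

theorem rr_comm {r p q x x' : G} (h : Ed N r p s) (hq : q ∈ N) (hq1 : q ≠ 1) (hx : Rr N r q x)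
    (hx' : Rr N r q x') : x * x' = x' * x := by
  obtain ⟨y, n, hy, hn, rfl⟩ := hx
  obtain ⟨y', n', hy', hn', rfl⟩ := hx'
  have c1 : Commute y y' := h.nb_comm hy hy'
  have c2 : Commute n n' := h.ab hn hn'
  have c3 : Commute n y' := h.one (h.nb_self.2 hq) hq1 (h.nb_self.2 hn) hy'
  have c4 : Commute n' y := h.one (h.nb_self.2 hq) hq1 (h.nb_self.2 hn') hy
  exact ((c1.mul_left c3).mul_right (c4.symm.mul_left c2)).eq

/-- **the graph argument** -/
theorem false_of (F : Bc.FrA L V φ e) (card : Nat.card N = 8) (sq : ∀ x ∈ N, x * x = 1) (h01 : e 0 1 ∈ N)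
    (hc : ∀ x ∈ N, x * e 3 4 = e 3 4 * x) (hn : centralizer {e 3 4} ≤ normalizer (N : Set G))
    (two : ∀ a ∈ N, ∀ b ∈ N, ∀ a' ∈ N, ∀ b' ∈ N, a ≠ 1 → b ≠ 1 → a ≠ b → a' ≠ 1 → b' ≠ 1 → a' ≠ b' →
      ∃ g, g * e 3 4 = e 3 4 * g ∧ g * a * g⁻¹ = a' ∧ g * b * g⁻¹ = b')
    (three : ¬ 3 ∣ Nat.card (centralizer (N : Set G)))
    (max : ∀ A : Subgroup G, A ≠ ⊥ → (∀ a ∈ A, a * a = 1) → centralizer {e 3 4} ≤ normalizer (A : Set G) →
      normalizer (A : Set G) ≤ centralizer {e 3 4}) : False := by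
  obtain ⟨s, hs⟩ := F.exists_of_sign (Equiv.swap 0 3 * Equiv.swap 1 4) (by decide)
  have hp : (Equiv.swap (0 : Fin 5) 3 * Equiv.swap (1 : Fin 5) 4) 3 = 0 ∧
      (Equiv.swap (0 : Fin 5) 3 * Equiv.swap (1 : Fin 5) 4) 4 = 1 ∧
      (Equiv.swap (0 : Fin 5) 3 * Equiv.swap (1 : Fin 5) 4) 0 = 3 ∧
      (Equiv.swap (0 : Fin 5) 3 * Equiv.swap (1 : Fin 5) 4) 1 = 4 := by decide
  have hnorm : ∀ g, g * e 3 4 = e 3 4 * g → ∀ x ∈ N, g * x * g⁻¹ ∈ N := by
    intro g hg x hx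
    exact (mem_normalizer_iff.1 (hn (mem_centralizer_singleton_iff.2 hg)) x).1 hx
  have h : Ed N (e 3 4) (e 0 1) (s : G) :=
  { card := card
    sq := sq
    comm := hc
    norm := hnorm
    two := two
    hp := h01
    hp1 := F.ne 0 1 (by decide)
    sr := by
      have h1 := F.conj s 3 4
      rw [hs, hp.1, hp.2.1] at h1
      exact h1
    sp := by
      have h1 := F.conj s 0 1
      rw [hs, hp.2.2.1, hp.2.2.2] at h1
      exact h1
    three := three
    max := max }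
  obtain ⟨q, q', x, x', hq, hq1, hq', hq1', hx, hx', hne⟩ := h.exists_noncomm
  obtain ⟨a, b, ha, hb, ha1, hb1, hab, r1, r2, r3⟩ := line F h hq hq1 hx
  obtain ⟨a', b', ha', hb', ha1', hb1', hab', r1', r2', r3'⟩ := line F h hq' hq1' hx'
  obtain ⟨t, ht1, ht, ht'⟩ := meet card sq (fun x hx y hy => h.ab hx hy) ha hb ha' hb' ha1 hb1 hab ha1' hb1' hab'
  have htN : t ∈ N := by
    rcases ht with rfl | rfl | rfl
    · exact ha
    · exact hb
    · exact mul_mem ha hb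
  have k1 : Rr N (e 3 4) t x := by
    rcases ht with rfl | rfl | rfl
    · exact r1
    · exact r2
    · exact r3
  have k2 : Rr N (e 3 4) t x' := by
    rcases ht' with h1 | h1 | h1
    · rw [h1]; exact r1'
    · rw [h1]; exact r2'
    · rw [h1]; exact r3'
  exact hne (rr_comm h htN ht1 k1 k2)

end frame

end Cfsg.Agent.OddCyclic.BcGraph
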