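import Cfsg.Agent.OddCyclic.CaseADefs
import Cfsg.Agent.OddCyclic.T1Tools

/-!
# S0342, component type, case A: tools
-/

set_option autoImplicit false

namespace Cfsg.Agent.OddCyclic.CaseABase

open Subgroup
open Cfsg.Agent.LieExceptional Cfsg.Agent.LieExceptional.CITDefs
open Cfsg.Agent.LieExceptional.CITBasic
open Cfsg.Agent.OddCyclic.T1Tools
open Cfsg.Agent.OddCyclic.CompBasic Cfsg.Agent.OddCyclic.CompStandard
open Cfsg.Agent.OddCyclic.CaseADefs

variable {G : Type*} [Group G]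

/-! ### products of commuting subgroups -/

theorem mem_sup_comm {A B : Subgroup G} (hc : ∀ a ∈ A, ∀ b ∈ B, a * b = b * a) {x : G} :
    x ∈ A ⊔ B ↔ ∃ a ∈ A, ∃ b ∈ B, x = a * b := by
  constructor
  · intro hx
    have hle : A ⊔ B ≤
        { carrier := {x | ∃ a ∈ A, ∃ b ∈ B, x = a * b}
          one_mem' := ⟨1, A.one_mem, 1, B.one_mem, (mul_one 1).symm⟩
          mul_mem' := by
            rintro _ _ ⟨a, ha, b, hb, rfl⟩ ⟨a', ha', b', hb', rfl⟩
            refine ⟨a * a', A.mul_mem ha ha', b * b', B.mul_mem hb hb', ?_⟩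
            calc a * b * (a' * b') = a * (b * a') * b' := by group
              _ = a * (a' * b) * b' := by rw [hc a' ha' b hb]
              _ = a * a' * (b * b') := by group
          inv_mem' := by
            rintro _ ⟨a, ha, b, hb, rfl⟩
            refine ⟨a⁻¹, A.inv_mem ha, b⁻¹, B.inv_mem hb, ?_⟩
            rw [mul_inv_rev, hc _ (A.inv_mem ha) _ (B.inv_mem hb)] } := by
      refine sup_le (fun a ha => ⟨a, ha, 1, B.one_mem, (mul_one a).symm⟩)
        (fun b hb => ⟨1, A.one_mem, b, hb, (one_mul b).symm⟩)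
    exact hle hx
  · rintro ⟨a, ha, b, hb, rfl⟩
    exact Subgroup.mul_mem _ (mem_sup_left ha) (mem_sup_right hb)

theorem card_sup_comm [Finite G] {A B : Subgroup G} (hc : ∀ a ∈ A, ∀ b ∈ B, a * b = b * a)
    (hd : A ⊓ B = ⊥) : Nat.card (A ⊔ B : Subgroup G) = Nat.card A * Nat.card B := by
  have h1 : B ≤ normalizer (A : Set G) := by
    intro b hb
    refine mem_normalizer_of_forall fun a ha => ?_
    rw [← hc a ha b hb, mul_inv_cancel_right]
    exact ha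
  have h2 := card_sup_mul (K := A) (H := B) h1
  rw [hd, Subgroup.card_bot, mul_one] at h2
  exact h2

/-! ### counting -/

theorem card_ne_one [Finite G] (A : Subgroup G) :
    Nat.card {x : A // x ≠ 1} = Nat.card A - 1 := by
  classical
  have h1 := Nat.card_congr (Equiv.sumCompl (fun x : A => x = 1))
  rw [Nat.card_sum] at h1
  have h2 : Nat.card {x : A // x = 1} = 1 := by
    rw [Nat.card_eq_one_iff_unique]
    exact ⟨⟨fun a b => Subtype.ext (a.2.trans b.2.symm)⟩, ⟨⟨1, rfl⟩⟩⟩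
  have h3 : Nat.card {x : A // x ≠ 1} = Nat.card {x : A // ¬ x = 1} := rfl
  omega

theorem sum_card_le [Finite G] {ι : Type*} [Fintype ι] (F : ι → Subgroup G) (V : Subgroup G)
    (hle : ∀ i, F i ≤ V) (hdis : ∀ i j, i ≠ j → ∀ s ∈ F i, s ∈ F j → s = 1) :
    ∑ i, (Nat.card (F i) - 1) ≤ Nat.card V - 1 := by
  classical
  rw [← card_ne_one V]
  have h1 : Nat.card (Σ i : ι, {x : F i // x ≠ 1}) = ∑ i, (Nat.card (F i) - 1) := by
    rw [Nat.card_sigma]
    exact Finset.sum_congr rfl fun i _ => card_ne_one (F i)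
  rw [← h1]
  refine Nat.card_le_card_of_injective
    (fun y : (Σ i : ι, {x : F i // x ≠ 1}) =>
      (⟨⟨(y.2.1 : G), hle y.1 y.2.1.2⟩,
        fun h => y.2.2 (Subtype.ext (congrArg (fun z : V => (z : G)) h :))⟩ :
        {x : V // x ≠ 1})) ?_
  rintro ⟨i, ⟨⟨x, hx⟩, hx1⟩⟩ ⟨j, ⟨⟨y, hy⟩, hy1⟩⟩ hxy
  have h2 : x = y := congrArg (fun z : {x : V // x ≠ 1} => ((z : V) : G)) hxy
  subst h2
  have hij : i = j := by
    by_contra hne
    exact hx1 (Subtype.ext (hdis i j hne x hx hy))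
  subst hij
  rfl

/-- The union of the disjoint subgroups `F i`. -/
theorem card_union [Finite G] {ι : Type*} [Fintype ι] (F : ι → Subgroup G)
    (hdis : ∀ i j, i ≠ j → ∀ s ∈ F i, s ∈ F j → s = 1) :
    Nat.card {x : G // x ≠ 1 ∧ ∃ i, x ∈ F i} = ∑ i, (Nat.card (F i) - 1) := by
  classical
  have h1 : Nat.card (Σ i : ι, {x : F i // x ≠ 1}) = ∑ i, (Nat.card (F i) - 1) := by
    rw [Nat.card_sigma]
    exact Finset.sum_congr rfl fun i _ => card_ne_one (F i)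
  rw [← h1]
  symm
  refine Nat.card_eq_of_bijective
    (fun y : (Σ i : ι, {x : F i // x ≠ 1}) =>
      (⟨(y.2.1 : G), fun h => y.2.2 (Subtype.ext h), y.1, y.2.1.2⟩ :
        {x : G // x ≠ 1 ∧ ∃ i, x ∈ F i})) ⟨?_, ?_⟩
  · rintro ⟨i, ⟨⟨x, hx⟩, hx1⟩⟩ ⟨j, ⟨⟨y, hy⟩, hy1⟩⟩ hxy
    have h2 : x = y := congrArg Subtype.val hxy
    subst h2
    have hij : i = j := by
      by_contra hne
      exact hx1 (Subtype.ext (hdis i j hne x hx hy))
    subst hij
    rfl
  · rintro ⟨x, hx1, i, hx⟩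
    exact ⟨⟨i, ⟨⟨x, hx⟩, fun h => hx1 (congrArg Subtype.val h)⟩⟩, rfl⟩

/-! ### 2-groups -/

theorem isPGroup_two_of_forall [Finite G] {H : Subgroup G}
    (h : ∀ r : ℕ, r.Prime → r ≠ 2 → ∀ x ∈ H, orderOf x ≠ r) : IsPGroup 2 H := by
  have hpf : Fact (Nat.Prime 2) := ⟨Nat.prime_two⟩
  rw [IsPGroup.iff_card]
  refine ⟨_, Nat.eq_prime_pow_of_unique_prime_dvd Nat.card_pos.ne' ?_⟩
  intro r hr hrH
  by_contra hr2
  have hrf : Fact r.Prime := ⟨hr⟩
  obtain ⟨x, hx⟩ := exists_prime_orderOf_dvd_card' r hrH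
  refine h r hr hr2 x x.2 ?_
  rw [← hx, Subgroup.orderOf_coe]

theorem isPGroup_of_elem {A : Subgroup G} (h : Elem A) : IsPGroup 2 A := by
  rintro ⟨x, hx⟩
  refine ⟨1, Subtype.ext ?_⟩
  simp only [pow_one, SubmonoidClass.mk_pow, OneMemClass.coe_one]
  rw [pow_two]
  exact h x hx

theorem isPGroup_cj {g : G} {A : Subgroup G} (h : IsPGroup 2 A) : IsPGroup 2 (cj g A) :=
  h.map _

theorem elem_cj {g : G} {A : Subgroup G} (h : Elem A) : Elem (cj g A) := by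
  rintro _ ⟨x, hx, rfl⟩
  simp only [MulEquiv.coe_toMonoidHom, MulAut.conj_apply]
  have := h x hx
  calc g * x * g⁻¹ * (g * x * g⁻¹) = g * (x * x) * g⁻¹ := by group
    _ = 1 := by rw [this]; group

theorem isSyl2_cj (g : G) {M S : Subgroup G} (h : IsSyl2 M S) : IsSyl2 (cj g M) (cj g S) := by
  refine ⟨cj_mono h.le, isPGroup_cj h.two, fun Z hZ hZ2 hle => ?_⟩
  have h1 : cj g⁻¹ Z ≤ M := by
    have := cj_mono (g := g⁻¹) hZ
    rwa [cj_inv_cj] at this
  have h2 : S ≤ cj g⁻¹ Z := by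
    have := cj_mono (g := g⁻¹) hle
    rwa [cj_inv_cj] at this
  have h3 := h.max _ h1 (isPGroup_cj hZ2) h2
  rw [← h3, cj_cj_inv]

theorem isSyl2_conj [Finite G] {M S T : Subgroup G} (hS : IsSyl2 M S) (hT : IsSyl2 M T) :
    ∃ m ∈ M, T = cj m S := CITBasic.IsSyl2.conj hS hT

theorem isSyl2_card [Finite G] {M S T : Subgroup G} (hS : IsSyl2 M S) (hT : IsSyl2 M T) :
    Nat.card T = Nat.card S := by
  obtain ⟨m, -, rfl⟩ := isSyl2_conj hS hT
  exact card_cj m S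

/-- a 2-subgroup of `M` at least as large as a Sylow 2-subgroup is a Sylow 2-subgroup -/
theorem isSyl2_of_card [Finite G] {M S T : Subgroup G} (hS : IsSyl2 M S) (hTM : T ≤ M)
    (hT : IsPGroup 2 T) (hc : Nat.card S ≤ Nat.card T) : IsSyl2 M T := by
  obtain ⟨Q, hQ, hTQ⟩ := exists_isSyl2 M T hTM hT
  have h1 : T = Q := Subgroup.eq_of_le_of_card_ge hTQ (by rw [isSyl2_card hS hQ]; exact hc)
  rw [h1]; exact hQ

theorem card_le_of_isSyl2 [Finite G] {M S T : Subgroup G} (hS : IsSyl2 M S) (hTM : T ≤ M)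
    (hT : IsPGroup 2 T) : Nat.card T ≤ Nat.card S := by
  obtain ⟨Q, hQ, hTQ⟩ := exists_isSyl2 M T hTM hT
  rw [← isSyl2_card hS hQ]
  exact Subgroup.card_le_of_le hTQ

theorem mem_of_pow_two {P : Subgroup G} (hP : IsPGroup 2 P) {x : G} (hx : x ∈ P) :
    ∃ n : ℕ, x ^ 2 ^ n = 1 := by
  obtain ⟨n, hn⟩ := hP ⟨x, hx⟩
  exact ⟨n, congrArg Subtype.val hn⟩

theorem isPGroup_zpowers_of_pow {x : G} (h : ∃ n : ℕ, x ^ 2 ^ n = 1) : IsPGroup 2 (zpowers x) := by
  obtain ⟨n, hn⟩ := h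
  rintro ⟨y, hy⟩
  obtain ⟨k, rfl⟩ := hy
  refine ⟨n, Subtype.ext ?_⟩
  simp only [OneMemClass.coe_one]
  calc (x ^ k) ^ 2 ^ n = (x ^ 2 ^ n) ^ k := by
        rw [← zpow_natCast, ← zpow_mul, mul_comm, zpow_mul, zpow_natCast]
    _ = 1 := by rw [hn, one_zpow]

/-- a 2-element of `M` normalizing a Sylow 2-subgroup `S` of `M` lies in `S` -/
theorem mem_isSyl2 {M S : Subgroup G} [Finite G] (hS : IsSyl2 M S) {x : G} (hx : x ∈ M)
    (h2 : ∃ n : ℕ, x ^ 2 ^ n = 1) (hn : ∀ s ∈ S, x * s * x⁻¹ ∈ S) : x ∈ S := by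
  have hpf : Fact (Nat.Prime 2) := ⟨Nat.prime_two⟩
  have h1 : zpowers x ≤ normalizer (S : Set G) := by
    rw [zpowers_le]
    exact mem_normalizer_of_forall hn
  have h2' : IsPGroup 2 (zpowers x ⊔ S : Subgroup G) :=
    IsPGroup.to_sup_of_normal_right' (isPGroup_zpowers_of_pow h2) hS.two h1
  have h3 := hS.max _ (sup_le (zpowers_le.mpr hx) hS.le) h2' le_sup_right
  have h4 : x ∈ zpowers x ⊔ S := mem_sup_left (mem_zpowers x)
  rwa [h3] at h4

/-- a normal 2-subgroup lies in each Sylow 2-subgroup -/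
theorem le_isSyl2 {M S E : Subgroup G} [Finite G] (hS : IsSyl2 M S) (hE : E ≤ M)
    (h2 : IsPGroup 2 E) (hn : ∀ s ∈ S, ∀ e ∈ E, s * e * s⁻¹ ∈ E) : E ≤ S := by
  have hpf : Fact (Nat.Prime 2) := ⟨Nat.prime_two⟩
  have h1 : S ≤ normalizer (E : Set G) := fun s hs => mem_normalizer_of_forall (hn s hs)
  have h2' : IsPGroup 2 (S ⊔ E : Subgroup G) := IsPGroup.to_sup_of_normal_right' hS.two h2 h1
  have h3 := hS.max _ (sup_le hS.le hE) h2' le_sup_left
  have h4 : E ≤ S ⊔ E := le_sup_right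
  rwa [h3] at h4

theorem orderOf_eq_two {x : G} (h1 : x ≠ 1) (h2 : x * x = 1) : orderOf x = 2 :=
  orderOf_eq_prime (by rw [pow_two]; exact h2) h1

theorem sq_of_orderOf {x : G} (h : orderOf x = 2) : x * x = 1 := by
  rw [← pow_two, ← h, pow_orderOf_eq_one]

theorem ne_one_of_orderOf {x : G} (h : orderOf x = 2) : x ≠ 1 := by
  rintro rfl
  rw [orderOf_one] at h
  omega

theorem isSyl2_ne_bot [Finite G] {M S : Subgroup G} (hS : IsSyl2 M S) {t : G} (ht : t ∈ M)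
    (h2 : orderOf t = 2) : S ≠ ⊥ := by
  intro hb
  obtain ⟨Q, hQ, htQ⟩ := exists_isSyl2 M (zpowers t) (zpowers_le.mpr ht) (isPGroup_zpowers h2)
  have h1 := isSyl2_card hS hQ
  rw [hb, Subgroup.card_bot] at h1
  have h3 : t ∈ Q := htQ (mem_zpowers t)
  rw [Subgroup.card_eq_one.mp h1, mem_bot] at h3
  exact ne_one_of_orderOf h2 h3

theorem exists_involution_of_ne_bot [Finite G] {A : Subgroup G} (hA : IsPGroup 2 A)
    (h : A ≠ ⊥) : ∃ a ∈ A, orderOf a = 2 := by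
  have hpf : Fact (Nat.Prime 2) := ⟨Nat.prime_two⟩
  obtain ⟨n, hn0, hn⟩ := hA.nontrivial_iff_card.mp ((Subgroup.nontrivial_iff_ne_bot _).mpr h)
  refine exists_involution ?_
  rw [hn]
  exact (Nat.even_pow.mpr ⟨even_two, Nat.pos_iff_ne_zero.mp hn0⟩)

/-! ### conjugates of `C(K)` -/

section

variable [Finite G] {p : ℕ} {K : Subgroup G}

/-- tight embedding -/
theorem mem_of_cj (h : Std p K) {u v s : G} (hs : orderOf s = 2)
    (h1 : s ∈ cj u (centralizer (K : Set G))) (h2 : s ∈ cj v (centralizer (K : Set G))) :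
    u⁻¹ * v ∈ normalizer (K : Set G) := by
  have h3 : orderOf (u⁻¹ * s * u) = 2 := by
    have := orderOf_conj u⁻¹ s
    rw [inv_inv] at this
    rw [this, hs]
  refine h.mem_of_involution h3 (mem_cj.mp h1) ?_
  rw [mem_cj]
  have h4 := mem_cj.mp h2
  have e : (u⁻¹ * v)⁻¹ * (u⁻¹ * s * u) * (u⁻¹ * v) = v⁻¹ * s * v := by group
  rw [e]; exact h4

omit [Finite G] in
theorem exists_involution_cent (h : Std p K) :
    ∃ t ∈ centralizer (K : Set G), orderOf t = 2 := by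
  obtain ⟨t, ht, hK⟩ := h.ex
  exact ⟨t, mem_centralizer_of_cmp hK, ht⟩

theorem sylR_ne_bot (h : Std p K) {R : Subgroup G} (hR : IsSyl2 (centralizer (K : Set G)) R) :
    R ≠ ⊥ := by
  obtain ⟨t, htY, ht⟩ := exists_involution_cent h
  exact isSyl2_ne_bot hR htY ht

omit [Finite G] in
theorem comm_KY : ∀ k ∈ K, ∀ y ∈ centralizer (K : Set G), k * y = y * k :=
  fun _ hk _ hy => mem_centralizer_iff.mp hy _ hk

omit [Finite G] in
theorem mem_KY {x : G} : x ∈ K ⊔ centralizer (K : Set G) ↔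
    ∃ k ∈ K, ∃ y ∈ centralizer (K : Set G), x = k * y := mem_sup_comm comm_KY

omit [Finite G] in
theorem KY_le : K ⊔ centralizer (K : Set G) ≤ normalizer (K : Set G) :=
  sup_le Subgroup.le_normalizer (centralizer_le_normalizer _)

omit [Finite G] in
/-- powers of a product -/
theorem pow_KY {k y : G} (hk : k ∈ K) (hy : y ∈ centralizer (K : Set G)) (n : ℕ) :
    (k * y) ^ n = k ^ n * y ^ n := (show Commute k y from comm_KY k hk y hy).mul_pow n

omit [Finite G] in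
theorem pow_eq_one_KY (hi : K ⊓ centralizer (K : Set G) = ⊥) {k y : G} (hk : k ∈ K)
    (hy : y ∈ centralizer (K : Set G)) {n : ℕ} (h : (k * y) ^ n = 1) : k ^ n = 1 ∧ y ^ n = 1 := by
  rw [pow_KY hk hy] at h
  have h1 : k ^ n = (y ^ n)⁻¹ := eq_inv_of_mul_eq_one_left h
  have h2 : k ^ n ∈ K ⊓ centralizer (K : Set G) :=
    ⟨Subgroup.pow_mem _ hk n, by rw [h1]; exact Subgroup.inv_mem _ (Subgroup.pow_mem _ hy n)⟩
  rw [hi, mem_bot] at h2
  refine ⟨h2, ?_⟩
  rw [h2, one_mul] at h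
  exact h

end

end Cfsg.Agent.OddCyclic.CaseABase
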