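import Cfsg.Agent.OddCyclic.COneDefs

/-!
# S0342 (D): consequences of a noncommuting pair `V`, `V ^ t`, with nonsolvable 2-locals allowed

The results of `MinSimple.CaseOneAP` with the amalgam property `AP` as hypothesis instead of solvability of the
2-locals.
-/

set_option autoImplicit false

namespace Cfsg.Agent.OddCyclic.COneAP

open Subgroup Cfsg Cfsg.Agent.ZN
open Cfsg.Agent.MinSimple
open Cfsg.Agent.MinSimple.CaseOneAP (Sit)

universe u

variable {G : Type u} [Group G] {A T B L : Subgroup G} {k : ℕ} {z t : G}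

/-- The amalgam property: no nontrivial subgroup of `B` is normal in `L` and in `L ^ t`. -/
def AP (B L : Subgroup G) (t : G) : Prop :=
  ∀ R : Subgroup G, R ≤ B → (∀ l ∈ L, ∀ r ∈ R, l * r * l⁻¹ ∈ R) →
    (∀ l ∈ L, ∀ r ∈ R, (t * l * t⁻¹) * r * (t * l * t⁻¹)⁻¹ ∈ R) → R = ⊥

/-- Elements of `Q` have square one. -/
theorem sq_eq_one [Finite G] (h : Sit A T B L k z t) (hap : AP B L t) {q : G} (hq : q ∈ o2 L) :
    q * q = 1 := by
  obtain ⟨v, hv, u, hu, hne⟩ := h.nc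
  have hvQ : v ∈ o2 L := CaseOneAP.zl_le_o2 h.blk hv
  have huQ : u ∈ o2 L := CaseOneAP.zl_le_o2 h.blk hu
  have hvv : v * v = 1 := h.data.Vsq v hv
  have huu : u * u = 1 := h.data.Vsq u hu
  -- `v ∉ Q ^ t`, `u ^ t ∉ Q`
  have hv' : t⁻¹ * v * t ∉ o2 L := by
    intro hh
    apply hne
    have h1 := h.data.VcQ _ hh u hu
    calc v * (t * u * t⁻¹) = t * ((t⁻¹ * v * t) * u) * t⁻¹ := by group
      _ = t * (u * (t⁻¹ * v * t)) * t⁻¹ := by rw [h1]
      _ = t * u * t⁻¹ * v := by group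
  have hu' : t * u * t⁻¹ ∉ o2 L := fun hh => hne (h.data.VcQ _ hh v hv).symm
  set R : Subgroup G := closure {x | ∃ q ∈ o2 L, x = q * q} with hR
  have hRQ : R ≤ o2 L := by
    rw [hR, closure_le]
    rintro _ ⟨q, hq, rfl⟩
    exact mul_mem hq hq
  -- squares of `Q` are squares of `Q ^ t`
  have h1 : ∀ q ∈ o2 L, ∃ p ∈ o2 L, q * q = t * (p * p) * t⁻¹ := by
    intro q hq
    by_cases hqt : t⁻¹ * q * t ∈ o2 L
    · exact ⟨_, hqt, by group⟩
    · have h2 : (t⁻¹ * q * t) * (t⁻¹ * v * t) ∈ o2 L :=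
        CaseOneAP.mul_mem_of_relIndex h.blk.o2_index (h.conjB' (h.blk.o2_le hq)) (h.conjB' (h.blk.o2_le hvQ))
          hqt hv'
      refine ⟨_, h2, ?_⟩
      have h3 := h.data.VcQ q hq v hv
      calc q * q = q * (v * v) * q := by rw [hvv, mul_one]
        _ = (q * v) * (v * q) := by group
        _ = (q * v) * (q * v) := by rw [h3]
        _ = _ := by group
  have h2 : ∀ q ∈ o2 L, ∃ p ∈ o2 L, t * (q * q) * t⁻¹ = p * p := by
    intro q hq
    by_cases hqt : t * q * t⁻¹ ∈ o2 L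
    · exact ⟨_, hqt, by group⟩
    · have h2 : (t * q * t⁻¹) * (t * u * t⁻¹) ∈ o2 L :=
        CaseOneAP.mul_mem_of_relIndex h.blk.o2_index (h.conjB (h.blk.o2_le hq)) (h.conjB (h.blk.o2_le huQ))
          hqt hu'
      refine ⟨_, h2, ?_⟩
      have h3 := h.data.VcQ q hq u hu
      calc t * (q * q) * t⁻¹ = t * (q * (u * u) * q) * t⁻¹ := by rw [huu, mul_one]
        _ = t * ((q * u) * (u * q)) * t⁻¹ := by group
        _ = t * ((q * u) * (q * u)) * t⁻¹ := by rw [h3]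
        _ = _ := by group
  have hLR : ∀ l ∈ L, ∀ r ∈ R, l * r * l⁻¹ ∈ R := by
    intro l hl
    have : R ≤ R.comap (MulAut.conj l).toMonoidHom := by
      conv_lhs => rw [hR]
      rw [closure_le]
      rintro _ ⟨q, hq, rfl⟩
      change l * (q * q) * l⁻¹ ∈ R
      rw [hR]
      exact subset_closure ⟨l * q * l⁻¹, h.data.LnQ l hl q hq, by group⟩
    exact fun r hr => this hr
  -- `R ≤ R ^ t` and `R ^ t ≤ R`
  have htR : ∀ r ∈ R, t * r * t⁻¹ ∈ R := by
    have : R ≤ R.comap (MulAut.conj t).toMonoidHom := by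
      conv_lhs => rw [hR]
      rw [closure_le]
      rintro _ ⟨q, hq, rfl⟩
      change t * (q * q) * t⁻¹ ∈ R
      obtain ⟨p, hp, hqp⟩ := h2 q hq
      rw [hqp, hR]
      exact subset_closure ⟨p, hp, rfl⟩
    exact fun r hr => this hr
  have htR' : ∀ r ∈ R, t⁻¹ * r * t ∈ R := by
    have : R ≤ R.comap (MulAut.conj t⁻¹).toMonoidHom := by
      conv_lhs => rw [hR]
      rw [closure_le]
      rintro _ ⟨q, hq, rfl⟩
      change t⁻¹ * (q * q) * t⁻¹⁻¹ ∈ R
      obtain ⟨p, hp, hqp⟩ := h1 q hq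
      rw [hqp, hR]
      exact subset_closure ⟨p, hp, by group⟩
    intro r hr
    have := this hr
    change t⁻¹ * r * t⁻¹⁻¹ ∈ R at this
    rwa [inv_inv] at this
  have hbot : R = ⊥ := by
    refine hap R (hRQ.trans h.blk.o2_le) hLR fun l hl r hr => ?_
    have e : (t * l * t⁻¹) * r * (t * l * t⁻¹)⁻¹ = t * (l * (t⁻¹ * r * t) * l⁻¹) * t⁻¹ := by group
    rw [e]
    exact htR _ (hLR l hl _ (htR' r hr))
  have : q * q ∈ R := by rw [hR]; exact subset_closure ⟨q, hq, rfl⟩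
  rwa [hbot, mem_bot] at this

/-- `O₂(L) = V`. -/
theorem o2_eq [Finite G] (h : Sit A T B L k z t) (hap : AP B L t) : o2 L = zl B L := by
  apply le_antisymm _ (CaseOneAP.zl_le_o2 h.blk)
  obtain ⟨v, hv, u, hu, hne⟩ := h.nc
  have hvQ : v ∈ o2 L := CaseOneAP.zl_le_o2 h.blk hv
  have huQ : u ∈ o2 L := CaseOneAP.zl_le_o2 h.blk hu
  have hsq : ∀ q ∈ o2 L, q * q = 1 := fun q hq => sq_eq_one h hap hq
  have hv' : t⁻¹ * v * t ∉ o2 L := by
    intro hh
    apply hne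
    have h1 := h.data.VcQ _ hh u hu
    calc v * (t * u * t⁻¹) = t * ((t⁻¹ * v * t) * u) * t⁻¹ := by group
      _ = t * (u * (t⁻¹ * v * t)) * t⁻¹ := by rw [h1]
      _ = t * u * t⁻¹ * v := by group
  have hu' : t * u * t⁻¹ ∉ o2 L := fun hh => hne (h.data.VcQ _ hh v hv).symm
  have hcomm : ∀ q ∈ o2 L, t⁻¹ * q * t ∈ o2 L → q ∈ zc B := by
    intro q hq hqt
    refine FinalBridge.mem_zc.2 ⟨h.blk.o2_le hq, by rw [pow_two]; exact hsq q hq, fun b hb => ?_⟩
    have hqu : q * (t * u * t⁻¹) = (t * u * t⁻¹) * q := by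
      have h1 := h.data.VcQ _ hqt u hu
      calc q * (t * u * t⁻¹) = t * ((t⁻¹ * q * t) * u) * t⁻¹ := by group
        _ = t * (u * (t⁻¹ * q * t)) * t⁻¹ := by rw [h1]
        _ = t * u * t⁻¹ * q := by group
    by_cases hbQ : b ∈ o2 L
    · exact CaseOneAP.comm_of_sq hsq hbQ hq
    · have h1 : b * (t * u * t⁻¹) ∈ o2 L :=
        CaseOneAP.mul_mem_of_relIndex h.blk.o2_index hb (h.conjB (h.blk.o2_le huQ)) hbQ hu'
      have h2 : b * (t * u * t⁻¹) * q = q * (b * (t * u * t⁻¹)) := CaseOneAP.comm_of_sq hsq h1 hq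
      have h3 : b * q * (t * u * t⁻¹) = q * b * (t * u * t⁻¹) := by
        calc b * q * (t * u * t⁻¹) = b * (q * (t * u * t⁻¹)) := by group
          _ = b * ((t * u * t⁻¹) * q) := by rw [hqu]
          _ = b * (t * u * t⁻¹) * q := by group
          _ = q * (b * (t * u * t⁻¹)) := h2
          _ = q * b * (t * u * t⁻¹) := by group
      exact mul_right_cancel h3
  intro q hq
  by_cases hqt : t⁻¹ * q * t ∈ o2 L
  · exact FinalBridge.zc_le_zl B L (hcomm q hq hqt)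
  · have h2 : (t⁻¹ * q * t) * (t⁻¹ * v * t) ∈ o2 L :=
      CaseOneAP.mul_mem_of_relIndex h.blk.o2_index (h.conjB' (h.blk.o2_le hq)) (h.conjB' (h.blk.o2_le hvQ))
        hqt hv'
    have h3 : t⁻¹ * (q * v) * t ∈ o2 L := by
      have e : t⁻¹ * (q * v) * t = (t⁻¹ * q * t) * (t⁻¹ * v * t) := by group
      rwa [e]
    have h4 := FinalBridge.zc_le_zl B L (hcomm _ (mul_mem hq hvQ) h3)
    have h5 := mul_mem h4 (inv_mem hv)
    rwa [mul_inv_cancel_right] at h5

/-- `C_Z(L) ∩ C_Z(L ^ t) = 1`. -/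
theorem rl_inf [Finite G] (h : Sit A T B L k z t) (hap : AP B L t) {x : G} (hx : x ∈ rl B L)
    (hxt : t⁻¹ * x * t ∈ rl B L) : x = 1 := by
  have hc1 : ∀ l ∈ L, l * x = x * l := fun l hl => mem_centralizer_iff.1 hx.2 l hl
  have hc2 : ∀ l ∈ L, (t * l * t⁻¹) * x = x * (t * l * t⁻¹) := by
    intro l hl
    have h1 := mem_centralizer_iff.1 hxt.2 l hl
    calc (t * l * t⁻¹) * x = t * (l * (t⁻¹ * x * t)) * t⁻¹ := by group
      _ = t * ((t⁻¹ * x * t) * l) * t⁻¹ := by rw [h1]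
      _ = x * (t * l * t⁻¹) := by group
  have hz : ∀ g : G, g * x = x * g → ∀ r ∈ zpowers x, g * r * g⁻¹ ∈ zpowers x := by
    intro g hg r hr
    obtain ⟨n, rfl⟩ := mem_zpowers_iff.1 hr
    have h1 : g * x ^ n = x ^ n * g := ((show Commute g x from hg).zpow_right n).eq
    rw [h1, mul_inv_cancel_right]
    exact hr
  have hbot : zpowers x = ⊥ := by
    exact hap _ (zpowers_le.2 (FinalBridge.zc_le B hx.1)) (fun l hl => hz l (hc1 l hl))
      (fun l hl => hz _ (hc2 l hl))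
  exact zpowers_eq_bot.1 hbot

/-- `|C_Z(L)| ≤ 2`. -/
theorem rl_unique [Finite G] (h : Sit A T B L k z t) (hap : AP B L t) {x y : G} (hx : x ∈ rl B L)
    (hy : y ∈ rl B L) (hx1 : x ≠ 1) (hy1 : y ≠ 1) : x = y := by
  have hZ' : ∀ x ∈ zc B, t⁻¹ * x * t ∈ zc B := by
    intro x hx
    have := h.data.AnZ t⁻¹ (A.inv_mem h.tA) x hx
    rwa [inv_inv] at this
  have h1 : (t⁻¹ * x * t) * (t⁻¹ * y * t) ∈ rl B L :=
    CaseOneAP.mul_mem_of_relIndex h.blk.rl_index (hZ' x hx.1) (hZ' y hy.1)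
      (fun hh => hx1 (rl_inf h hap hx hh)) (fun hh => hy1 (rl_inf h hap hy hh))
  have h2 : t⁻¹ * (x * y) * t ∈ rl B L := by
    have e : t⁻¹ * (x * y) * t = (t⁻¹ * x * t) * (t⁻¹ * y * t) := by group
    rwa [e]
  have h3 := rl_inf h hap (mul_mem hx hy) h2
  have h4 : y * y = 1 := by
    have := (FinalBridge.mem_zc.1 hy.1).2.1
    rwa [pow_two] at this
  calc x = x * (y * y) := by rw [h4, mul_one]
    _ = (x * y) * y := by group
    _ = y := by rw [h3, one_mul]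

end Cfsg.Agent.OddCyclic.COneAP
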