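import Cfsg.Agent.OddCyclic.COneDefs
import Cfsg.Agent.MinSimple.DBlkReduce

/-!
# S0342 (D): basic facts on the configuration `Conf M T H s`
-/

set_option autoImplicit false

namespace Cfsg.Agent.OddCyclic.COneBase

open Subgroup Cfsg Cfsg.Agent.ZN
open Cfsg.Agent.MinSimple
open Cfsg.Agent.MinSimple.CaseOneCfg (Cfg)
open Cfsg.Agent.MinSimple.Choice97 (Loc2)
open Cfsg.Agent.MinSimple.DBlkReduce
open Cfsg.Agent.OddCyclic.COneDefs

universe u

variable {G : Type u} [Group G] {M T H : Subgroup G} {s : G}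

theorem exists_two (h : Conf M T H s) : ∃ N : Subgroup G, IsTwoLocal N ∧ H ≤ N ∧ T ≤ N ∧ ¬ N ≤ M := by
  obtain ⟨N, hN, hHN⟩ := h.loc.exists_isTwoLocal
  exact ⟨N, hN, hHN, h.le.trans hHN, fun hc => h.notM (hHN.trans hc)⟩

theorem syl [Finite G] (h : Conf M T H s) : ChoiceSit.Syl T H := by
  obtain ⟨N, hN, hHN, hTN, hNM⟩ := exists_two h
  exact ⟨h.le, h.cfg.two, fun Q hQ hQ2 hTQ => (h.cfg.syl_of hN hTN hNM).2.2 Q (hQ.trans hHN) hQ2 hTQ⟩

theorem not_dvd [Finite G] (h : Conf M T H s) : ¬ 2 ∣ T.relIndex H := ChoiceSit.syl_not_dvd (syl h)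

theorem o2_le_T [Finite G] (h : Conf M T H s) : o2 H ≤ T := ChoiceSit.o2_le_syl (syl h)

theorem self_cent [Finite G] (hc : IsCharacteristicTwoType G) (h : Conf M T H s) :
    H ⊓ centralizer (o2 H : Set G) ≤ o2 H := by
  obtain ⟨N, hN, hHN, hTN, hNM⟩ := exists_two h
  exact Basic.char2_of_le (ChoiceSit.self_cent hc hN)
    ((ChoiceSit.o2_le_syl (h.cfg.syl_of hN hTN hNM)).trans h.le) hHN

theorem cent_zc_le [Finite G] (hc : IsCharacteristicTwoType G) (h : Conf M T H s) :
    centralizer (zc T : Set G) ≤ M := by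
  obtain ⟨N, hN, hHN, hTN, hNM⟩ := exists_two h
  exact h.cfg.cent_zc_le hc hN hTN hNM

theorem normalizer_bau_le [Finite G] (h : Conf M T H s) : normalizer (bau T : Set G) ≤ M :=
  h.cfg.normalizer_bau_le

theorem jj_ne_bot [Finite G] (h : Conf M T H s) : jj T ≠ ⊥ := ZN.CaseTwo.jj_ne_bot h.cfg.two h.cfg.ne

/-- `N_G(C) ≤ M` for `1 ≠ C` normalised by `N_G(T)`. -/
theorem normalizer_le [Finite G] (h : Conf M T H s) {C : Subgroup G} (hC : IsPGroup 2 C) (hC1 : C ≠ ⊥)
    (hn : normalizer (T : Set G) ≤ normalizer (C : Set G)) : normalizer (C : Set G) ≤ M :=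
  h.cfg.normalizer_le hC hC1 (h.cfg.A_norm.trans hn)

theorem normalizer_jj_le [Finite G] (h : Conf M T H s) : normalizer (jj T : Set G) ≤ M :=
  normalizer_le h (h.cfg.two.to_le (jj_le T)) (jj_ne_bot h) (normalizer_le_normalizer_jj T)

/-- no nontrivial 2-subgroup is normalised by `H` and `s` -/
theorem core [Finite G] (h : Conf M T H s) {C : Subgroup G} (hC : IsPGroup 2 C)
    (hH : H ≤ normalizer (C : Set G)) (hs : s ∈ normalizer (C : Set G)) : C = ⊥ := by
  by_contra hne
  exact h.notM (hH.trans (h.cfg.normalizer_le hC hne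
    (sup_le (h.le.trans hH) ((zpowers_le).2 hs))))

/-- `T`-minimality. -/
theorem eq_of_not_le (h : Conf M T H s) {X : Subgroup G} (hTX : T ≤ X) (hXH : X ≤ H) (hX : ¬ X ≤ M) :
    X = H := by
  by_contra hne
  exact hX (h.min X hTX (lt_of_le_of_ne hXH hne))

theorem frattini [Finite G] (h : Conf M T H s) {N : Subgroup G} (hN : H ≤ normalizer (N : Set G)) :
    H ≤ N ⊔ (H ⊓ normalizer ((T ⊓ N : Subgroup G) : Set G)) :=
  Basic.frattini h.le h.cfg.two (not_dvd h) hN

theorem T_le_normalizer (h : Conf M T H s) {N : Subgroup G} (hN : H ≤ normalizer (N : Set G)) :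
    T ≤ normalizer ((T ⊓ N : Subgroup G) : Set G) :=
  (le_inf le_normalizer (h.le.trans hN)).trans inf_normalizer_le_normalizer_inf

/-- If a normal subgroup `N` of `H` lies in `M` then `T ∩ N` is normal in `H`. -/
theorem le_normalizer_inf [Finite G] (h : Conf M T H s) {N : Subgroup G}
    (hN : H ≤ normalizer (N : Set G)) (hNM : N ≤ M) :
    H ≤ normalizer ((T ⊓ N : Subgroup G) : Set G) := by
  have h1 := frattini h hN
  have h2 : ¬ H ⊓ normalizer ((T ⊓ N : Subgroup G) : Set G) ≤ M := fun hc =>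
    h.notM (h1.trans (sup_le hNM hc))
  have h3 := eq_of_not_le h (le_inf h.le (T_le_normalizer h hN)) inf_le_left h2
  rw [← h3]
  exact inf_le_right

theorem inf_le_o2 [Finite G] (h : Conf M T H s) {N : Subgroup G}
    (hN : H ≤ normalizer (N : Set G)) (hNM : N ≤ M) : T ⊓ N ≤ o2 H :=
  le_o2 (inf_le_left.trans h.le) (h.cfg.two.to_le inf_le_left) (le_normalizer_inf h hN hNM)

/-- A normal subgroup of `H` not in `M` covers `H / T`. -/
theorem sup_eq (h : Conf M T H s) {N : Subgroup G} (hNH : N ≤ H)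
    (hNM : ¬ N ≤ M) : N ⊔ T = H :=
  eq_of_not_le h le_sup_right (sup_le hNH h.le) fun hc => hNM (le_sup_left.trans hc)

/-- a normal subgroup containing `J(T)` is not in `M` -/
theorem not_le_of_jj [Finite G] (h : Conf M T H s) {N : Subgroup G} (hN : H ≤ normalizer (N : Set G))
    (hJ : jj T ≤ N) : ¬ N ≤ M := by
  intro hNM
  have h1 := Basic.frattini_jj h.le h.cfg.two (not_dvd h) hN hJ
  exact h.notM (h1.trans (sup_le hNM (inf_le_right.trans (normalizer_jj_le h))))

theorem inf_cent_zl_le [Finite G] (hc : IsCharacteristicTwoType G) (h : Conf M T H s) :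
    H ⊓ centralizer (zl T H : Set G) ≤ M :=
  inf_centralizer_zl_le (inf_le_right.trans (cent_zc_le hc h))

theorem norm_cent_zl (T H : Subgroup G) :
    H ≤ normalizer ((H ⊓ centralizer (zl T H : Set G) : Subgroup G) : Set G) :=
  (le_inf le_normalizer ((le_normalizer_zl T H).trans (nc _))).trans
    inf_normalizer_le_normalizer_inf

/-- `C_T(W) = O₂(H)`, `W = zl T H`. -/
theorem inf_cent_zl [Finite G] (hc : IsCharacteristicTwoType G) (h : Conf M T H s) :
    T ⊓ centralizer (zl T H : Set G) = o2 H := by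
  apply le_antisymm
  · refine le_trans ?_ (inf_le_o2 h (norm_cent_zl T H) (inf_cent_zl_le hc h))
    exact le_inf inf_le_left (le_inf (inf_le_left.trans h.le) inf_le_right)
  · exact le_inf (o2_le_T h) (o2_le_centralizer_zl h.cfg.two h.le (not_dvd h))

/-- `J(T)` does not centralise `W`. -/
theorem not_jj_le_cent [Finite G] (hc : IsCharacteristicTwoType G) (h : Conf M T H s) :
    ¬ jj T ≤ centralizer (zl T H : Set G) :=
  DBlkReduce.not_jj_le h.cfg.two h.le (not_dvd h) (inf_le_right.trans (cent_zc_le hc h))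
    (inf_le_right.trans (normalizer_jj_le h)) h.notM

/-- `W = zl T H` lies in `Ω₁(Z(O₂(H)))`. -/
theorem zl_le_o2 [Finite G] (hc : IsCharacteristicTwoType G) (h : Conf M T H s) : zl T H ≤ o2 H := by
  refine zl_le ?_ (le_normalizer_o2 H)
  intro x hx
  have hx' := mem_zc.1 hx
  refine self_cent hc h ⟨h.le (zc_le T hx), mem_centralizer_iff.2 fun y hy => ?_⟩
  exact zc_comm hx (o2_le_T h hy)

theorem zl_comm [Finite G] (hc : IsCharacteristicTwoType G) (h : Conf M T H s) :
    ∀ x ∈ zl T H, ∀ y ∈ zl T H, x * y = y * x := by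
  intro x hx y hy
  have h1 := (inf_cent_zl hc h).ge (zl_le_o2 hc h hy)
  exact mem_centralizer_iff.1 h1.2 x hx

theorem zl_sq [Finite G] (hc : IsCharacteristicTwoType G) (h : Conf M T H s) :
    ∀ x ∈ zl T H, x * x = 1 := by
  let E : Subgroup G :=
    { carrier := {x | x ∈ zl T H ∧ x * x = 1}
      one_mem' := ⟨one_mem _, one_mul 1⟩
      mul_mem' := by
        rintro a b ⟨ha, ha2⟩ ⟨hb, hb2⟩
        refine ⟨mul_mem ha hb, ?_⟩
        calc a * b * (a * b) = a * (b * a) * b := by group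
          _ = a * (a * b) * b := by rw [zl_comm hc h b hb a ha]
          _ = (a * a) * (b * b) := by group
          _ = 1 := by rw [ha2, hb2, one_mul]
      inv_mem' := by
        rintro a ⟨ha, ha2⟩
        refine ⟨inv_mem ha, ?_⟩
        rw [← mul_inv_rev, ha2, inv_one] }
  have hE : zl T H ≤ E := by
    refine zl_le ?_ ?_
    · intro x hx
      refine ⟨zc_le_zl hx, ?_⟩
      have := zc_sq hx
      rwa [pow_two] at this
    · intro g hg
      have key : ∀ g ∈ H, ∀ x ∈ E, g * x * g⁻¹ ∈ E := by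
        rintro g hg x ⟨hx, hx2⟩
        refine ⟨(mem_normalizer_iff.1 (le_normalizer_zl T H hg) x).1 hx, ?_⟩
        calc g * x * g⁻¹ * (g * x * g⁻¹) = g * (x * x) * g⁻¹ := by group
          _ = 1 := by rw [hx2]; group
      refine mem_normalizer_iff.2 fun x => ⟨key g hg x, fun hx => ?_⟩
      have := key g⁻¹ (inv_mem hg) _ hx
      have e : g⁻¹ * (g * x * g⁻¹) * g⁻¹⁻¹ = x := by group
      rwa [e] at this
  exact fun x hx => (hE hx).2

end Cfsg.Agent.OddCyclic.COneBase
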