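import Cfsg.Agent.OddCyclic.T1Torus
import Cfsg.Agent.OddOrderLocal.CyclicSub

/-!
# S0342 (D): a normal subgroup of odd order in a minimal parabolic with perfect residual is trivial

`X` a finite group with cyclic odd Sylow subgroups, `T` a Sylow 2-subgroup contained in a unique maximal subgroup
`M`, `C ≤ M` normal of odd order, `X = N T`, `N = [N, N] C` normal: then `C = 1`.
-/

set_option autoImplicit false

namespace Cfsg.Agent.OddCyclic.COneOdd

open Subgroup Cfsg.Agent.OddCyclic.T1Defs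
open scoped Pointwise commutatorElement

variable {X : Type*} [Group X]

/-- automorphisms of a cyclic group commute -/
theorem commutator_le_centralizer {R : Subgroup X} [R.Normal] (hR : IsCyclic R) :
    ⁅(⊤ : Subgroup X), ⊤⁆ ≤ centralizer (R : Set X) := by
  obtain ⟨g, hg⟩ := hR
  have hpow : ∀ x : X, ∃ n : ℤ, x * g * x⁻¹ = (g : X) ^ n := by
    intro x
    have h1 : x * g * x⁻¹ ∈ R := (inferInstance : R.Normal).conj_mem g g.2 x
    obtain ⟨n, hn⟩ := mem_zpowers_iff.1 (hg ⟨_, h1⟩)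
    refine ⟨n, ?_⟩
    have := congrArg Subtype.val hn
    simpa using this.symm
  have hcen : ∀ z : X, z * g = g * z → z ∈ centralizer (R : Set X) := by
    intro z hz
    rw [mem_centralizer_iff]
    intro r hr
    obtain ⟨n, hn⟩ := mem_zpowers_iff.1 (hg ⟨r, hr⟩)
    have h1 : (g : X) ^ n = r := by
      have := congrArg Subtype.val hn
      simpa using this
    rw [← h1]
    exact (((show Commute z g from hz).zpow_right n).eq).symm
  rw [commutator_le]
  intro x _ y _
  apply hcen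
  obtain ⟨m, hm⟩ := hpow x
  obtain ⟨n, hn⟩ := hpow y
  have h1 : x * y * g * (x * y)⁻¹ = (g : X) ^ (m * n) := by
    calc x * y * g * (x * y)⁻¹ = x * (y * g * y⁻¹) * x⁻¹ := by group
      _ = x * (g : X) ^ n * x⁻¹ := by rw [hn]
      _ = (x * g * x⁻¹) ^ n := (conj_zpow ..).symm
      _ = (g : X) ^ (m * n) := by rw [hm, ← zpow_mul]
  have h2 : y * x * g * (y * x)⁻¹ = (g : X) ^ (m * n) := by
    calc y * x * g * (y * x)⁻¹ = y * (x * g * x⁻¹) * y⁻¹ := by group
      _ = y * (g : X) ^ m * y⁻¹ := by rw [hm]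
      _ = (y * g * y⁻¹) ^ m := (conj_zpow ..).symm
      _ = (g : X) ^ (m * n) := by rw [hn, ← zpow_mul, mul_comm]
  have h3 : (y * x)⁻¹ * (x * y) * g * ((y * x)⁻¹ * (x * y))⁻¹ = g := by
    calc (y * x)⁻¹ * (x * y) * g * ((y * x)⁻¹ * (x * y))⁻¹
        = (y * x)⁻¹ * (x * y * g * (x * y)⁻¹) * (y * x) := by group
      _ = (y * x)⁻¹ * (y * x * g * (y * x)⁻¹) * (y * x) := by rw [h1, h2]
      _ = g := by group
  -- `(yx)⁻¹(xy)` centralises, hence its conjugate `⁅x, y⁆`
  have h4 : ∀ z : X, z * g * z⁻¹ = g → ∀ w : X, (w * z * w⁻¹) * g * (w * z * w⁻¹)⁻¹ = g := by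
    intro z hz w
    have h5 : z * g = g * z := by
      calc z * g = (z * g * z⁻¹) * z := by group
        _ = g * z := by rw [hz]
    have h6 := mem_centralizer_iff.1 (hcen z h5)
    have h7 : w⁻¹ * g * w ∈ R := by
      have := (inferInstance : R.Normal).conj_mem g g.2 w⁻¹
      rwa [inv_inv] at this
    have h8 := h6 _ h7
    calc (w * z * w⁻¹) * g * (w * z * w⁻¹)⁻¹ = w * (z * (w⁻¹ * g * w)) * z⁻¹ * w⁻¹ := by group
      _ = w * ((w⁻¹ * g * w) * z) * z⁻¹ * w⁻¹ := by rw [h8]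
      _ = g := by group
  have h9 := h4 _ h3 (y * x)
  have e : y * x * ((y * x)⁻¹ * (x * y)) * (y * x)⁻¹ = ⁅x, y⁆ := by
    rw [commutatorElement_def]; group
  rw [e] at h9
  calc ⁅x, y⁆ * g = (⁅x, y⁆ * g * ⁅x, y⁆⁻¹) * ⁅x, y⁆ := by group
    _ = g * ⁅x, y⁆ := by rw [h9]

/-- A central element of prime order `r` in the commutator subgroup of a group with an abelian Sylow
`r`-subgroup does not exist. -/
theorem not_mem_commutator {Y : Type*} [Group Y] [Finite Y] {r : ℕ} [Fact r.Prime] (P : Sylow r Y)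
    (hP : IsCyclic P) {z : Y} (hz : ∀ y, y * z = z * y) (hzr : orderOf z = r) :
    z ∉ (⁅(⊤ : Subgroup Y), (⊤ : Subgroup Y)⁆ : Subgroup Y) := by
  intro hzc
  have hzP : z ∈ (P : Subgroup Y) := by
    have h1 : (zpowers z).Normal := by
      refine ⟨fun n hn g => ?_⟩
      obtain ⟨k, rfl⟩ := mem_zpowers_iff.1 hn
      have : g * z ^ k = z ^ k * g := ((show Commute g z from hz g).zpow_right k).eq
      rw [this, mul_inv_cancel_right]
      exact hn
    have h2 : IsPGroup r (zpowers z) := by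
      apply IsPGroup.of_card (n := 1)
      rw [Nat.card_zpowers, hzr, pow_one]
    have h3 : zpowers z ≤ (P : Subgroup Y) := h2.le_sylow_of_normal P
    exact h3 (mem_zpowers z)
  letI : CommGroup P := IsCyclic.commGroup
  have h1 : MonoidHom.transfer (MonoidHom.id (P : Subgroup Y)) z = 1 := by
    have h2 : ⁅(⊤ : Subgroup Y), ⊤⁆ ≤ (MonoidHom.transfer (MonoidHom.id (P : Subgroup Y))).ker := by
      rw [commutator_le]
      intro a _ b _
      rw [MonoidHom.mem_ker, map_commutatorElement, commutatorElement_eq_one_iff_mul_comm, mul_comm]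
    exact h2 hzc
  have h3 : ∀ (k : ℕ) (g₀ : Y), g₀⁻¹ * z ^ k * g₀ ∈ (P : Subgroup Y) → g₀⁻¹ * z ^ k * g₀ = z ^ k := by
    intro k g₀ _
    have : z ^ k * g₀ = g₀ * z ^ k := ((show Commute g₀ z from hz g₀).pow_right k).eq.symm
    rw [mul_assoc, this, inv_mul_cancel_left]
  rw [MonoidHom.transfer_eq_pow (MonoidHom.id (P : Subgroup Y)) z h3] at h1
  have h4 : z ^ (P : Subgroup Y).index = 1 := by
    have := congrArg Subtype.val h1
    simpa using this
  have h5 := orderOf_dvd_of_pow_eq_one h4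
  rw [hzr] at h5
  exact P.not_dvd_index h5

/-- a subgroup of index prime to `r` contains a conjugate of a Sylow `r`-subgroup -/
theorem exists_sylow_conj_le [Finite X] {r : ℕ} [Fact r.Prime] (T : Sylow r X) {K : Subgroup X}
    (hK : ¬ r ∣ K.index) : ∃ g : X, ∀ t ∈ T, g * t * g⁻¹ ∈ K := by
  obtain ⟨P⟩ : Nonempty (Sylow r K) := inferInstance
  have h1 : IsPGroup r ((P : Subgroup K).map K.subtype) := P.isPGroup'.map _
  have h2 : ¬ r ∣ ((P : Subgroup K).map K.subtype).index := by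
    have h3 : ((P : Subgroup K).map K.subtype).index = (P : Subgroup K).index * K.index := by
      rw [Subgroup.index_map, Subgroup.ker_subtype, sup_bot_eq, Subgroup.range_subtype]
    rw [h3]
    intro h4
    rcases (Fact.out : r.Prime).dvd_mul.1 h4 with h5 | h5
    · exact P.not_dvd_index h5
    · exact hK h5
  obtain ⟨g, hg⟩ := MulAction.exists_smul_eq X T (h1.toSylow h2)
  refine ⟨g, fun t ht => ?_⟩
  have h5 : g * t * g⁻¹ ∈ ((g • T : Sylow r X) : Subgroup X) := by
    rw [Sylow.coe_subgroup_smul]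
    exact ⟨t, ht, rfl⟩
  rw [hg] at h5
  obtain ⟨x, -, hx⟩ : g * t * g⁻¹ ∈ (P : Subgroup K).map K.subtype := h5
  rw [← hx]
  exact x.2

theorem index_mul_card_inf [Finite X] {H C : Subgroup X} [C.Normal] (h : H ⊔ C = ⊤) :
    H.index * Nat.card (C ⊓ H : Subgroup X) = Nat.card C := by
  have h1 : C.index = C.relIndex H := by
    rw [← Subgroup.relIndex_sup_right H C, h, Subgroup.relIndex_top_right]
  have h2 := C.card_mul_index
  have h3 := H.card_mul_index
  have h4 : Nat.card (C ⊓ H : Subgroup X) * C.relIndex H = Nat.card H := by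
    have := Subgroup.relIndex_mul_relIndex (⊥ : Subgroup X) (C ⊓ H) H bot_le inf_le_right
    rwa [Subgroup.relIndex_bot_left, Subgroup.relIndex_bot_left, Subgroup.inf_relIndex_right] at this
  have h5 : 0 < C.relIndex H := by
    rw [← h1]; exact Nat.pos_of_ne_zero (Subgroup.index_ne_zero_of_finite)
  apply Nat.eq_of_mul_eq_mul_right h5
  calc H.index * Nat.card (C ⊓ H : Subgroup X) * C.relIndex H
      = (Nat.card (C ⊓ H : Subgroup X) * C.relIndex H) * H.index := by ring
    _ = Nat.card X := by rw [h4, h3]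
    _ = Nat.card C * C.relIndex H := by rw [← h1, h2]

/-- two subgroups of order `r` of a cyclic group are equal -/
theorem zpowers_eq_of_orderOf {P : Subgroup X} [Finite X] (hP : IsCyclic P) {a b : X} (ha : a ∈ P) (hb : b ∈ P)
    (h : orderOf a = orderOf b) : zpowers a = zpowers b := by
  refine Cfsg.Agent.OddOrderLocal.CyclicSub.eq_of_card_eq_of_le_cyclic hP (zpowers_le.2 ha) (zpowers_le.2 hb) ?_
  rw [Nat.card_zpowers, Nat.card_zpowers, h]

/-- **No normal subgroup of odd order.** -/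
theorem eq_bot [Finite X] (hcyc : OddCyc X) (T : Sylow 2 X) {M C N : Subgroup X} [C.Normal] [N.Normal]
    (hCM : C ≤ M) (hM : M ≠ ⊤) (hmin : ∀ Y : Subgroup X, (T : Subgroup X) ≤ Y → Y ≤ M ∨ Y = ⊤)
    (hTM : (T : Subgroup X) ≤ M) (hodd : Odd (Nat.card C)) (hN : N ⊔ T = ⊤) (hperf : N ≤ ⁅N, N⁆ ⊔ C) : C = ⊥ := by
  have h2p : Fact (Nat.Prime 2) := ⟨Nat.prime_two⟩
  by_contra hC
  obtain ⟨r, hr, hrC⟩ := Nat.exists_prime_and_dvd (fun h => hC (Subgroup.card_eq_one.1 h))
  have hrf : Fact r.Prime := ⟨hr⟩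
  have hr2 : r ≠ 2 := by
    rintro rfl
    rw [← Nat.not_even_iff_odd, even_iff_two_dvd] at hodd
    exact hodd hrC
  -- a normal Sylow subgroup of `C`
  obtain ⟨R₀⟩ : Nonempty (Sylow r C) := inferInstance
  set R₁ : Subgroup X := (R₀ : Subgroup C).map C.subtype with hR₁
  have hfr : normalizer (R₁ : Set X) ⊔ C = ⊤ := Sylow.normalizer_sup_eq_top R₀
  have hidx : ¬ 2 ∣ (normalizer (R₁ : Set X)).index := by
    intro h
    have h1 : (normalizer (R₁ : Set X)).index ∣ Nat.card C := Dvd.intro _ (index_mul_card_inf hfr)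
    rw [← Nat.not_even_iff_odd, even_iff_two_dvd] at hodd
    exact hodd (h.trans h1)
  obtain ⟨g, hg⟩ := exists_sylow_conj_le T hidx
  have hnt : normalizer (R₁ : Set X) = ⊤ := by
    -- the conjugate `N(R₁) ^ (g⁻¹)`
    set K : Subgroup X := (normalizer (R₁ : Set X)).comap (MulAut.conj g).toMonoidHom with hK
    have hTK : (T : Subgroup X) ≤ K := fun t ht => hg t ht
    have hKC : K ⊔ C = ⊤ := by
      have h1 : (K ⊔ C) = (normalizer (R₁ : Set X) ⊔ C).comap (MulAut.conj g).toMonoidHom := by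
        have h2 : C = C.comap (MulAut.conj g).toMonoidHom := by
          ext x
          rw [mem_comap]
          change x ∈ C ↔ g * x * g⁻¹ ∈ C
          refine ⟨fun h => (inferInstance : C.Normal).conj_mem x h g, fun h => ?_⟩
          have := (inferInstance : C.Normal).conj_mem _ h g⁻¹
          have e : g⁻¹ * (g * x * g⁻¹) * g⁻¹⁻¹ = x := by group
          rwa [e] at this
        conv_lhs => rw [h2, hK]
        exact (Subgroup.comap_sup_eq _ _ _ (MulAut.conj g).surjective)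
      rw [h1, hfr, comap_top]
    have hKtop : K = ⊤ := (hmin K hTK).resolve_left fun h => hM (by
      rw [eq_top_iff, ← hKC]
      exact sup_le h hCM)
    rw [eq_top_iff]
    intro x _
    have h1 : g⁻¹ * x * g ∈ K := by rw [hKtop]; exact mem_top _
    have h2 : g * (g⁻¹ * x * g) * g⁻¹ ∈ normalizer (R₁ : Set X) := h1
    have e : g * (g⁻¹ * x * g) * g⁻¹ = x := by group
    rwa [e] at h2
  have hRn : R₁.Normal := normalizer_eq_top_iff.1 hnt
  have hRp : IsPGroup r R₁ := R₀.isPGroup'.map _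
  have hRle : ∀ P : Sylow r X, R₁ ≤ P := fun P => hRp.le_sylow_of_normal P
  have hRcyc : IsCyclic R₁ := by
    obtain ⟨P⟩ : Nonempty (Sylow r X) := inferInstance
    have := hcyc r P hr hr2
    exact isCyclic_of_injective (Subgroup.inclusion (hRle P)) (Subgroup.inclusion_injective _)
  have hRne : ∃ x ∈ R₁, orderOf x = r := by
    have h1 : r ∣ Nat.card R₁ := by
      rw [hR₁, Subgroup.card_map_of_injective C.subtype_injective]
      exact R₀.dvd_card_of_dvd_card hrC
    obtain ⟨x, hx⟩ := exists_prime_orderOf_dvd_card' r h1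
    exact ⟨x, x.2, by rw [Subgroup.orderOf_coe]; exact hx⟩
  obtain ⟨x₀, hx₀, hx₀r⟩ := hRne
  -- `Y = [N, N]` centralises `R₁`
  set Y : Subgroup X := ⁅N, N⁆ with hY
  have hYR : Y ≤ centralizer (R₁ : Set X) :=
    (commutator_mono le_top le_top).trans (commutator_le_centralizer hRcyc)
  have hYn : Y.Normal := by rw [hY]; infer_instance
  have hY'n : (⁅Y, Y⁆ : Subgroup X).Normal := inferInstance
  have hrY : ¬ r ∣ Nat.card (⁅Y, Y⁆ : Subgroup X) := by
    intro hd
    obtain ⟨z, hz⟩ := exists_prime_orderOf_dvd_card' r hd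
    have hzr : orderOf (z : X) = r := by rw [Subgroup.orderOf_coe]; exact hz
    have hzY' : (z : X) ∈ (⁅Y, Y⁆ : Subgroup X) := z.2
    have hzY : (z : X) ∈ Y := (commutator_le_left Y Y) hzY'
    -- `z` lies in `R₁`
    have hzp : IsPGroup r (zpowers (z : X)) := by
      apply IsPGroup.of_card (n := 1)
      rw [Nat.card_zpowers, hzr, pow_one]
    obtain ⟨P, hP⟩ := hzp.exists_le_sylow
    have hPc := hcyc r P hr hr2
    have h1 : zpowers (z : X) = zpowers x₀ :=
      zpowers_eq_of_orderOf hPc (hP (mem_zpowers _)) (hRle P hx₀) (by rw [hzr, hx₀r])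
    have hzR : (z : X) ∈ R₁ := by
      have h2 : zpowers x₀ ≤ R₁ := zpowers_le.2 hx₀
      exact h2 (h1 ▸ mem_zpowers (z : X))
    -- transfer in `Y`
    obtain ⟨Q⟩ : Nonempty (Sylow r Y) := inferInstance
    have hQc : IsCyclic Q := T1Torus.oddCyc_subgroup hcyc Y r Q hr hr2
    have hcen : ∀ y : Y, y * (⟨z, hzY⟩ : Y) = (⟨z, hzY⟩ : Y) * y := by
      intro y
      apply Subtype.ext
      exact ((mem_centralizer_iff.1 (hYR y.2) _ hzR).symm)
    refine not_mem_commutator Q hQc (z := (⟨z, hzY⟩ : Y)) hcen ?_ ?_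
    · rw [Subgroup.orderOf_mk]; exact hzr
    · have h3 : (⁅(⊤ : Subgroup Y), (⊤ : Subgroup Y)⁆).map Y.subtype = ⁅Y, Y⁆ := by
        rw [map_commutator, ← MonoidHom.range_eq_map, Y.range_subtype]
      obtain ⟨w, hw, hwz⟩ : (z : X) ∈ (⁅(⊤ : Subgroup Y), (⊤ : Subgroup Y)⁆).map Y.subtype := by
        rw [h3]; exact hzY'
      have : w = (⟨z, hzY⟩ : Y) := Subtype.ext hwz
      rwa [this] at hw
  -- `N = N'' C`
  have hN2 : N ≤ ⁅Y, Y⁆ ⊔ C := by
    have h1 : Y ≤ ⁅Y, Y⁆ ⊔ C := by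
      have h2 : (⁅Y ⊔ C, Y ⊔ C⁆ : Subgroup X) ≤ ⁅Y, Y⁆ ⊔ C := by
        rw [commutator_le]
        intro a ha b hb
        obtain ⟨y, hy, c, hc, rfl⟩ := mem_sup_of_normal_right.1 ha
        obtain ⟨y', hy', c', hc', rfl⟩ := mem_sup_of_normal_right.1 hb
        have hD : (⁅Y, Y⁆ ⊔ C).Normal := inferInstance
        rw [← QuotientGroup.eq_one_iff (N := ⁅Y, Y⁆ ⊔ C)]
        have q1 : ∀ c ∈ C, ((c : X) : X ⧸ (⁅Y, Y⁆ ⊔ C)) = 1 := fun c hc =>
          (QuotientGroup.eq_one_iff c).2 (mem_sup_right hc)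
        have q2 : ((⁅y, y'⁆ : X) : X ⧸ (⁅Y, Y⁆ ⊔ C)) = 1 :=
          (QuotientGroup.eq_one_iff _).2 (mem_sup_left (commutator_mem_commutator hy hy'))
        have q3 : ((⁅y * c, y' * c'⁆ : X) : X ⧸ (⁅Y, Y⁆ ⊔ C)) = ((⁅y, y'⁆ : X) : X ⧸ (⁅Y, Y⁆ ⊔ C)) := by
          rw [commutatorElement_def, commutatorElement_def]
          simp only [QuotientGroup.mk_mul, QuotientGroup.mk_inv, q1 c hc, q1 c' hc', mul_one]
        rw [q3, q2]
      exact (commutator_mono hperf hperf).trans h2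
    exact hperf.trans (sup_le h1 le_sup_right)
  have h4 : ⁅Y, Y⁆ ⊔ (T : Subgroup X) = ⊤ := by
    refine (hmin _ le_sup_right).resolve_left fun h => hM ?_
    rw [eq_top_iff, ← hN]
    refine sup_le (hN2.trans (sup_le (le_sup_left.trans h) hCM)) hTM
  have h5 : r ∣ Nat.card X := hrC.trans (Subgroup.card_subgroup_dvd_card C)
  have h6 : Nat.card X ∣ Nat.card (⁅Y, Y⁆ : Subgroup X) * Nat.card (T : Subgroup X) := by
    have h7 := index_mul_card_inf (H := (T : Subgroup X)) (C := ⁅Y, Y⁆) (by rw [sup_comm]; exact h4)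
    rw [← h7, mul_comm (T : Subgroup X).index, mul_assoc, mul_comm (T : Subgroup X).index,
      (T : Subgroup X).card_mul_index]
    exact Dvd.intro_left _ rfl
  rcases hr.dvd_mul.1 (h5.trans h6) with h7 | h7
  · exact hrY h7
  · obtain ⟨n, hn⟩ := IsPGroup.iff_card.1 T.isPGroup'
    rw [hn] at h7
    exact hr2 ((Nat.prime_dvd_prime_iff_eq hr Nat.prime_two).1 (hr.dvd_of_dvd_pow h7))

end Cfsg.Agent.OddCyclic.COneOdd
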