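import Cfsg.Agent.OddCyclic.COneBase
import Cfsg.Agent.OddCyclic.COneOdd
import Cfsg.Agent.OddCyclic.CompBasic

/-!
# S0342 (D): `C_H(W) = O₂(H)` for a `T`-minimal `H` covered by `T` and a normal subgroup which is perfect modulo `C_H(W)`
-/

set_option autoImplicit false

namespace Cfsg.Agent.OddCyclic.COneCent

open Subgroup Cfsg Cfsg.Agent.ZN
open Cfsg.Agent.MinSimple
open Cfsg.Agent.OddCyclic.T1Defs Cfsg.Agent.OddCyclic.COneDefs Cfsg.Agent.OddCyclic.COneBase
open scoped commutatorElement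

universe u

variable {G : Type u} [Group G] {M T H : Subgroup G} {s : G}

/-- `C_H(W) = O₂(H)`. -/
theorem cent_eq [Finite G] (hcyc : OddCyc G) (hc : IsCharacteristicTwoType G) (h : Conf M T H s)
    {N : Subgroup G} (hNH : N ≤ H) (hHN : H ≤ normalizer (N : Set G)) (hNM : ¬ N ≤ M)
    (hperf : N ≤ ⁅N, N⁆ ⊔ (H ⊓ centralizer (zl T H : Set G))) :
    H ⊓ centralizer (zl T H : Set G) = o2 H := by
  have h2p : Fact (Nat.Prime 2) := ⟨Nat.prime_two⟩
  set C : Subgroup G := H ⊓ centralizer (zl T H : Set G) with hC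
  have hTC : T ⊓ C = o2 H := by
    rw [← inf_cent_zl hc h, hC, ← inf_assoc, inf_eq_left.2 h.le]
  have hQC : o2 H ≤ C := by rw [← hTC]; exact inf_le_right
  have hQT : o2 H ≤ T := o2_le_T h
  have hHC : H ≤ normalizer (C : Set G) := norm_cent_zl T H
  have hCM : C ≤ M := inf_cent_zl_le hc h
  refine le_antisymm ?_ hQC
  -- the quotient
  set Q' : Subgroup H := (o2 H).subgroupOf H with hQ'
  have hQn : Q'.Normal := (normal_subgroupOf_iff_le_normalizer (o2_le H)).2 (le_normalizer_o2 H)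
  set π : H →* H ⧸ Q' := QuotientGroup.mk' Q' with hπ
  have hπs : Function.Surjective π := QuotientGroup.mk'_surjective Q'
  have hker : ∀ x : H, π x = 1 ↔ (x : G) ∈ o2 H := fun x => by
    rw [hπ, QuotientGroup.mk'_apply, QuotientGroup.eq_one_iff]
    exact Iff.rfl
  have hS : IsPGroup 2 (T.subgroupOf H) := h.cfg.two.comap_of_injective _ H.subtype_injective
  have hSi : ¬ 2 ∣ (T.subgroupOf H).index := not_dvd h
  set S₀ : Sylow 2 H := hS.toSylow hSi with hS₀
  have hS₀' : (S₀ : Subgroup H) = T.subgroupOf H := rfl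
  set S : Sylow 2 (H ⧸ Q') := S₀.mapSurjective hπs with hSd
  have hSc : (S : Subgroup (H ⧸ Q')) = (T.subgroupOf H).map π := rfl
  have hCn : (C.subgroupOf H).Normal := (normal_subgroupOf_iff_le_normalizer inf_le_left).2 hHC
  have hNn : (N.subgroupOf H).Normal := (normal_subgroupOf_iff_le_normalizer hNH).2 hHN
  have hCn' : ((C.subgroupOf H).map π).Normal := hCn.map π hπs
  have hNn' : ((N.subgroupOf H).map π).Normal := hNn.map π hπs
  -- lifting
  have hlift : ∀ (K : Subgroup G), o2 H ≤ K → ∀ x : H, π x ∈ (K.subgroupOf H).map π → (x : G) ∈ K := by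
    rintro K hK x ⟨y, hy, hxy⟩
    have h1 : π (y⁻¹ * x) = 1 := by rw [map_mul, map_inv, hxy, inv_mul_cancel]
    have h2 := hK ((hker _).1 h1)
    have h3 : (x : G) = (y : G) * ((y⁻¹ * x : H) : G) := by
      rw [coe_mul, coe_inv]; group
    rw [h3]
    exact mul_mem hy h2
  have hX : OddCyc (H ⧸ Q') := CompBasic.oddCyc_quotient (CompBasic.oddCyc_subgroup hcyc H) Q'
  have hkey : (C.subgroupOf H).map π = ⊥ := by
    refine COneOdd.eq_bot hX S (M := (M.subgroupOf H).map π) (N := (N.subgroupOf H).map π)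
      (Subgroup.map_mono fun x hx => hCM hx) ?_ ?_ ?_ ?_ ?_ ?_
    · intro htop
      apply h.notM
      intro x hx
      refine hlift M (hQT.trans h.cfg.TM) ⟨x, hx⟩ ?_
      rw [htop]; exact mem_top _
    · intro Y hY
      set Y' : Subgroup G := (Y.comap π).map H.subtype with hY'
      have hYH : Y' ≤ H := map_subtype_le _
      have hTY : T ≤ Y' := by
        intro t ht
        refine ⟨⟨t, h.le ht⟩, ?_, rfl⟩
        rw [SetLike.mem_coe, mem_comap]
        apply hY
        rw [hSc]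
        exact ⟨⟨t, h.le ht⟩, ht, rfl⟩
      by_cases hYM : Y' ≤ M
      · left
        intro x hx
        obtain ⟨y, rfl⟩ := hπs x
        exact ⟨y, hYM ⟨y, hx, rfl⟩, rfl⟩
      · right
        have h1 := eq_of_not_le h hTY hYH hYM
        rw [eq_top_iff]
        intro x _
        obtain ⟨y, rfl⟩ := hπs x
        have h2 : (y : G) ∈ Y' := by rw [h1]; exact y.2
        obtain ⟨z, hz, hzy⟩ := h2
        have : z = y := Subtype.ext hzy
        rw [← this]
        exact hz
    · rw [hSc]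
      exact Subgroup.map_mono fun x hx => h.cfg.TM hx
    · rw [← Nat.not_even_iff_odd, even_iff_two_dvd]
      have h1 := Lib.SylowNormalInf.not_dvd_relIndex S ((C.subgroupOf H).map π)
      have h2 := Lib.SylowNormalInf.card_inf_mul_relIndex (S : Subgroup (H ⧸ Q')) ((C.subgroupOf H).map π)
      have h3 : (S : Subgroup (H ⧸ Q')) ⊓ (C.subgroupOf H).map π = ⊥ := by
        rw [eq_bot_iff]
        rintro x ⟨hx1, hx2⟩
        obtain ⟨y, rfl⟩ := hπs x
        rw [SetLike.mem_coe, hSc] at hx1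
        have h4 := hlift T hQT y hx1
        have h5 := hlift C hQC y hx2
        rw [mem_bot, hker, ← hTC]
        exact ⟨h4, h5⟩
      rw [h3, Subgroup.card_bot, one_mul] at h2
      rwa [← h2]
    · rw [hSc, ← Subgroup.map_sup, eq_top_iff]
      intro x _
      obtain ⟨y, rfl⟩ := hπs x
      refine ⟨y, ?_, rfl⟩
      have h1 := sup_eq h hNH hNM
      have h2 : N.subgroupOf H ⊔ T.subgroupOf H = ⊤ := by
        rw [← Subgroup.subgroupOf_sup hNH h.le, h1, subgroupOf_self]
      rw [h2]; exact mem_top _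
    · rw [← Subgroup.map_commutator, ← Subgroup.map_sup]
      apply Subgroup.map_mono
      have h1 : (⁅N.subgroupOf H, N.subgroupOf H⁆ : Subgroup H).map H.subtype = ⁅N, N⁆ := by
        rw [Subgroup.map_commutator, Subgroup.map_subgroupOf_eq_of_le hNH]
      intro x hx
      have h2 : (x : G) ∈ (⁅N, N⁆ : Subgroup G) ⊔ C := hperf hx
      have h3 : (⁅N, N⁆ : Subgroup G) ⊔ C =
          (⁅N.subgroupOf H, N.subgroupOf H⁆ ⊔ C.subgroupOf H).map H.subtype := by
        rw [Subgroup.map_sup, h1, Subgroup.map_subgroupOf_eq_of_le inf_le_left]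
      rw [h3] at h2
      obtain ⟨y, hy, hyx⟩ := h2
      have : y = x := Subtype.ext hyx
      rwa [← this]
  intro x hx
  have h1 : π ⟨x, hx.1⟩ ∈ (C.subgroupOf H).map π := ⟨⟨x, hx.1⟩, hx, rfl⟩
  rw [hkey, mem_bot] at h1
  exact (hker _).1 h1

end Cfsg.Agent.OddCyclic.COneCent
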