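import Mathlib
import Cfsg.Agent.OddCyclic.COneEndS
import Cfsg.Agent.LieExceptional.CITFFAux

/-!
# S0342, characteristic 2 type, unique maximal 2-local over `S`: the end `q = 4`, `M ≤ N(B)` and the centralisers of
the involutions of `B`
-/

set_option autoImplicit false
set_option linter.unusedSectionVars false

universe u

namespace Cfsg.Agent.OddCyclic.COneEnd

open Cfsg.Agent.LieExceptional Cfsg.Agent.LieExceptional.CITDefs Cfsg.Agent.OddCyclic.T1Defs
open Cfsg.Agent.LieExceptional.CITSylowFour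
open Subgroup

variable {G : Type u} [Group G] [Finite G]

namespace Four

variable {M S T B V W Z : Subgroup G} {x s : G} (h : Four M S T B V W Z x s)

include h

theorem S_T1 {g : G} (hg : g ∈ S) : g ∈ h.T1 := h.mem_T1.2 ⟨hg, h.S_norm g hg⟩

theorem S_Z {g : G} (hg : g ∈ S) : ∀ z ∈ Z, g * z * g⁻¹ ∈ Z := h.core.normZ (h.S_norm g hg)

theorem V_le_S : V ≤ S := h.core.V_le.trans (h.B_le.trans h.T_le)

theorem B_le_S : B ≤ S := h.B_le.trans h.T_le

theorem V_ne_bot : V ≠ ⊥ := by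
  intro e
  have := h.core.cardV
  rw [e, Subgroup.card_bot] at this
  omega

theorem B_ne_bot : B ≠ ⊥ := fun e => h.V_ne_bot (le_bot_iff.1 (e ▸ h.core.V_le))

theorem S_ne_bot : S ≠ ⊥ := fun e => h.V_ne_bot (le_bot_iff.1 (e ▸ h.V_le_S))

theorem S_le_M : S ≤ M := le_normalizer.trans (h.uniq S h.sylS.two h.S_ne_bot le_normalizer)

theorem NB_le_M : normalizer (B : Set G) ≤ M :=
  h.uniq B h.core.two_B h.B_ne_bot fun g hg => mem_norm.2 (h.S_norm g hg)

theorem x_mem_M : x ∈ M := h.NB_le_M (mem_norm.2 (h.core.x_B h.xact))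

/-- an involution of `Z` centralised by `S` -/
theorem exists_z : ∃ z ∈ Z, z ≠ 1 ∧ ∀ g ∈ S, g * z = z * g :=
  exists_fix h.sylS.two (fun _ hg => h.S_Z hg) (by rw [h.core.cardZ]; norm_num)

section U

variable {U : Subgroup G} (hU : IsO2 M U) (hU1 : U ≠ ⊥)

include hU

theorem U_le_S : U ≤ S := by
  have h1 : U ⊔ S = S := by
    apply h.sylS.max _ le_top _ le_sup_right
    exact IsPGroup.to_sup_of_normal_left' hU.two h.sylS.two fun g hg => mem_norm.2 (hU.normal g (h.S_le_M hg))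
  rw [← h1]
  exact le_sup_left

include hU1

theorem cent_U : centralizer (U : Set G) ≤ U := by
  have h1 := CITGlobalBasic.isMaxLocal_normalizer h.maxM hU1 hU.le hU.two hU.normal
  exact h.char2 U U hU.two hU1 (h1 ▸ hU)

/-- `Ω₁(Z(U)) = Z` -/
theorem omega_U : omegaZ U = Z := by
  set A : Subgroup G := omegaZ U with hA
  have hAU : A ≤ U := fun a ha => ha.1
  have hAE : Elem A := fun a ha => ha.2.1
  have hAM : ∀ m ∈ M, ∀ a ∈ A, m * a * m⁻¹ ∈ A := by
    intro m hm a ha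
    obtain ⟨ha1, ha2, ha3⟩ := ha
    refine ⟨hU.normal m hm a ha1, ?_, fun y hy => ?_⟩
    · have e : (m * a * m⁻¹) * (m * a * m⁻¹) = m * (a * a) * m⁻¹ := by group
      rw [e, ha2]; group
    · have h1 := ha3 _ (hU.normal m⁻¹ (M.inv_mem hm) y hy)
      calc m * a * m⁻¹ * y = m * (a * (m⁻¹ * y * m⁻¹⁻¹)) * m⁻¹ := by group
        _ = m * ((m⁻¹ * y * m⁻¹⁻¹) * a) * m⁻¹ := by rw [h1]
        _ = y * (m * a * m⁻¹) := by group
  -- `A ∩ B ≤ Z`
  have hAB : A ⊓ B ≤ Z := by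
    have h1 : Elem (A ⊓ B : Subgroup G) := fun y hy => hAE y (Subgroup.mem_inf.1 hy).1
    have hs : ∀ y ∈ (A ⊓ B : Subgroup G), s * y * s⁻¹ ∈ (A ⊓ B : Subgroup G) := fun y hy =>
      Subgroup.mem_inf.2 ⟨hAM s (h.S_le_M h.s_mem) y (Subgroup.mem_inf.1 hy).1, h.s_norm y (Subgroup.mem_inf.1 hy).2⟩
    rcases h.core.elem_le (inf_le_right : A ⊓ B ≤ B) h1 with h2 | h2
    · intro y hy
      have h3 : s * y * s⁻¹ ∈ V := h2 (hs y hy)
      exact h.core.mem_Z.2 ⟨h2 hy, (h.s_iff' y).1 h3⟩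
    · intro y hy
      have h3 : s * y * s⁻¹ ∈ W := h2 (hs y hy)
      exact h.core.mem_Z.2 ⟨(h.s_iff y).1 h3, h2 hy⟩
  have hAB' : A ≤ B := by
    intro a ha
    have haS := h.U_le_S hU (hAU ha)
    apply h.mem_B' _ (h.S_Z haS)
    intro v hv
    apply hAB
    have hvB := h.core.V_le hv
    refine Subgroup.mem_inf.2 ⟨?_, B.mul_mem (h.S_norm a haS v hvB) (B.inv_mem hvB)⟩
    have e : a * v * a⁻¹ * v⁻¹ = a * (v * a⁻¹ * v⁻¹) := by group
    rw [e]
    exact A.mul_mem ha (hAM v (h.S_le_M (h.V_le_S hv)) _ (A.inv_mem ha))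
  have hAZ : A ≤ Z := fun a ha => hAB (Subgroup.mem_inf.2 ⟨ha, hAB' ha⟩)
  apply h.core.Z_irr h.xact hAZ (hAM x h.x_mem_M)
  exact CITFFAux.omegaZ_ne_bot hU.two hU1

theorem Z_le_U : Z ≤ U := by
  rw [← h.omega_U hU hU1]
  exact fun a ha => ha.1

theorem U_Z {u z : G} (hu : u ∈ U) (hz : z ∈ Z) : u * z = z * u := by
  rw [← h.omega_U hU hU1] at hz
  exact (hz.2.2 u hu).symm

/-- `M` normalises `Z` -/
theorem M_Z : ∀ m ∈ M, ∀ z ∈ Z, m * z * m⁻¹ ∈ Z := by
  intro m hm a ha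
  rw [← h.omega_U hU hU1] at ha ⊢
  obtain ⟨ha1, ha2, ha3⟩ := ha
  refine ⟨hU.normal m hm a ha1, ?_, fun y hy => ?_⟩
  · have e : (m * a * m⁻¹) * (m * a * m⁻¹) = m * (a * a) * m⁻¹ := by group
    rw [e, ha2]; group
  · have h1 := ha3 _ (hU.normal m⁻¹ (M.inv_mem hm) y hy)
    calc m * a * m⁻¹ * y = m * (a * (m⁻¹ * y * m⁻¹⁻¹)) * m⁻¹ := by group
      _ = m * ((m⁻¹ * y * m⁻¹⁻¹) * a) * m⁻¹ := by rw [h1]
      _ = y * (m * a * m⁻¹) := by group

/-- if `V ≤ U` then `B ≤ U` -/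
theorem B_le_of_V (hV : V ≤ U) : B ≤ U := by
  intro b hb
  obtain ⟨v, hv, w, hw, rfl⟩ := h.core.mem hb
  refine U.mul_mem (hV hv) ?_
  have h1 : s⁻¹ * w * s ∈ V := by
    rw [← h.s_iff]
    have e : s * (s⁻¹ * w * s) * s⁻¹ = w := by group
    rwa [e]
  have h2 := hU.normal s (h.S_le_M h.s_mem) _ (hV h1)
  have e : s * (s⁻¹ * w * s) * s⁻¹ = w := by group
  rwa [e] at h2

/-- if `W ≤ U` then `B ≤ U` -/
theorem B_le_of_W (hW : W ≤ U) : B ≤ U := h.symm.B_le_of_V hU hU1 hW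

/-- if every odd element of `C_M(Z)` is trivial then `B ≤ U` -/
theorem B_le_of_two (h2 : ∀ p : ℕ, p.Prime → p ≠ 2 → ∀ d ∈ M, (∀ z ∈ Z, d * z = z * d) → orderOf d = p → False) :
    B ≤ U := by
  apply h.B_le_of_V hU hU1
  let D : Subgroup G := M ⊓ centralizer (Z : Set G)
  have hD : IsPGroup 2 D := isPGroup_of_prime fun p hp hp2 d hd ho =>
    h2 p hp hp2 d (Subgroup.mem_inf.1 hd).1 (fun z hz => (mem_centralizer_iff.1 (Subgroup.mem_inf.1 hd).2 z hz).symm) ho
  have hDU : D ≤ U := by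
    apply hU.max D inf_le_left hD
    intro m hm d hd
    refine Subgroup.mem_inf.2 ⟨M.mul_mem (M.mul_mem hm (Subgroup.mem_inf.1 hd).1) (M.inv_mem hm), ?_⟩
    rw [mem_centralizer_iff]
    intro z hz
    have h3 := mem_centralizer_iff.1 (Subgroup.mem_inf.1 hd).2 _ (h.M_Z hU hU1 m⁻¹ (M.inv_mem hm) z hz)
    calc z * (m * d * m⁻¹) = m * ((m⁻¹ * z * m⁻¹⁻¹) * d) * m⁻¹ := by group
      _ = m * (d * (m⁻¹ * z * m⁻¹⁻¹)) * m⁻¹ := by rw [h3]
      _ = m * d * m⁻¹ * z := by group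
  intro v hv
  apply hDU
  refine Subgroup.mem_inf.2 ⟨h.S_le_M (h.V_le_S hv), mem_centralizer_iff.2 fun z hz => ?_⟩
  exact h.core.elemV.comm (h.core.Z_le_V hz) hv

/-- `|U ∩ B|` is 4, 16 or 64 -/
theorem card_UB : Nat.card (U ⊓ B : Subgroup G) = 4 ∨ Nat.card (U ⊓ B : Subgroup G) = 16 ∨
    Nat.card (U ⊓ B : Subgroup G) = 64 := by
  have h1 := h.core.card_mod h.xact (inf_le_right : U ⊓ B ≤ B) fun y hy =>
    Subgroup.mem_inf.2 ⟨hU.normal x h.x_mem_M y (Subgroup.mem_inf.1 hy).1,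
      h.core.x_B h.xact y (Subgroup.mem_inf.1 hy).2⟩
  have h2 : Nat.card (U ⊓ B : Subgroup G) ∣ 64 := by
    rw [← h.core.card_B]; exact Subgroup.card_dvd_of_le inf_le_right
  have h3 : Z ≤ U ⊓ B := le_inf (h.Z_le_U hU hU1) h.core.Z_le
  have h4 := Subgroup.card_le_of_le h3
  rw [h.core.cardZ] at h4
  have h5 : Nat.card (U ⊓ B : Subgroup G) ∈ Nat.divisors 64 := Nat.mem_divisors.2 ⟨h2, by norm_num⟩
  have h6 : Nat.divisors 64 = {1, 2, 4, 8, 16, 32, 64} := by decide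
  rw [h6] at h5
  simp only [Finset.mem_insert, Finset.mem_singleton] at h5
  omega

theorem card_UB_ne_four : Nat.card (U ⊓ B : Subgroup G) ≠ 4 := by
  intro hc
  have h3 : Z ≤ U ⊓ B := le_inf (h.Z_le_U hU hU1) h.core.Z_le
  have h4 : Z = U ⊓ B := Subgroup.eq_of_le_of_card_ge h3 (by rw [hc, h.core.cardZ])
  have hUB : U ≤ B := by
    intro u hu
    have huS := h.U_le_S hU hu
    apply h.mem_B' _ (h.S_Z huS)
    intro v hv
    rw [h4]
    have hvB := h.core.V_le hv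
    refine Subgroup.mem_inf.2 ⟨?_, B.mul_mem (h.S_norm u huS v hvB) (B.inv_mem hvB)⟩
    have e : u * v * u⁻¹ * v⁻¹ = u * (v * u⁻¹ * v⁻¹) := by group
    rw [e]
    exact U.mul_mem hu (hU.normal v (h.S_le_M (h.V_le_S hv)) _ (U.inv_mem hu))
  have hUZ : U ≤ Z := by rw [h4]; exact le_inf le_rfl hUB
  have h5 : V ≤ Z := by
    intro v hv
    apply hUZ
    apply h.cent_U hU hU1
    rw [mem_centralizer_iff]
    intro u hu
    exact h.core.elemV.comm (h.core.Z_le_V (hUZ hu)) hv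
  have h6 := Subgroup.card_le_of_le h5
  rw [h.core.cardV, h.core.cardZ] at h6
  omega

/-- `U ∩ T ≤ B` -/
theorem UT_le {u : G} (hu : u ∈ U) (huT : u ∈ T) : u ∈ B :=
  h.cent_Z u huT fun _ hz => h.U_Z hU hU1 hu hz

theorem card_U_le : Nat.card U ≤ 2 * Nat.card (U ⊓ B : Subgroup G) := by
  have h1 : Nat.card U ≤ 2 * Nat.card (T ⊓ U : Subgroup G) :=
    card_le_two_mul fun a ha b hb haT hbT => h.T1_mul (h.S_T1 (h.U_le_S hU ha)) (h.S_T1 (h.U_le_S hU hb)) haT hbT
  have h2 : T ⊓ U ≤ U ⊓ B := fun u hu =>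
    Subgroup.mem_inf.2 ⟨(Subgroup.mem_inf.1 hu).2, h.UT_le hU hU1 (Subgroup.mem_inf.1 hu).2 (Subgroup.mem_inf.1 hu).1⟩
  have h3 := Subgroup.card_le_of_le h2
  omega

/-- for `|U ∩ B| = 16`: the involutions of `U ∩ B` are in `Z` -/
theorem inv_UB (hc : Nat.card (U ⊓ B : Subgroup G) = 16) {y : G} (hy : y ∈ U) (hyB : y ∈ B) (hyy : y * y = 1) :
    y ∈ Z := by
  -- `V ∩ U = Z`
  have key : ∀ {V' W' : Subgroup G} (h' : Four M S T B V' W' Z x s), y ∈ V' → y ∈ Z := by
    intro V' W' h' hyV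
    by_contra hyZ
    have h1 : (U ⊓ V' : Subgroup G) ≤ B := inf_le_right.trans h'.core.V_le
    have h2 := h'.core.card_mod h'.xact h1 fun y hy =>
      Subgroup.mem_inf.2 ⟨hU.normal x h'.x_mem_M y (Subgroup.mem_inf.1 hy).1,
        h'.xact.nV y (Subgroup.mem_inf.1 hy).2⟩
    have h3 : Z < U ⊓ V' := by
      refine lt_of_le_of_ne (le_inf (h.Z_le_U hU hU1) h'.core.Z_le_V) ?_
      intro e
      exact hyZ (e ▸ Subgroup.mem_inf.2 ⟨hy, hyV⟩)
    have h4 : Nat.card (U ⊓ V' : Subgroup G) ∣ 16 := by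
      rw [← h'.core.cardV]; exact Subgroup.card_dvd_of_le inf_le_right
    have h5 : 4 < Nat.card (U ⊓ V' : Subgroup G) := by
      rw [← h'.core.cardZ]
      by_contra hlt
      exact h3.ne (Subgroup.eq_of_le_of_card_ge h3.le (not_lt.1 hlt))
    have h6 : Nat.card (U ⊓ V' : Subgroup G) ≤ 16 := Nat.le_of_dvd (by norm_num) h4
    have h7 : Nat.card (U ⊓ V' : Subgroup G) = 16 := by
      have h8 : Nat.card (U ⊓ V' : Subgroup G) ∈ Nat.divisors 16 := Nat.mem_divisors.2 ⟨h4, by norm_num⟩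
      have h9 : Nat.divisors 16 = {1, 2, 4, 8, 16} := by decide
      rw [h9] at h8
      simp only [Finset.mem_insert, Finset.mem_singleton] at h8
      omega
    have h8 : U ⊓ V' = V' := Subgroup.eq_of_le_of_card_ge inf_le_right (by rw [h7, h'.core.cardV])
    have h9 : B ≤ U := h'.B_le_of_V hU hU1 (by rw [← h8]; exact inf_le_left)
    rw [inf_eq_right.2 h9, h.core.card_B] at hc
    omega
  rcases h.core.inv_mem hyB hyy with h1 | h1
  · exact key h h1
  · exact key h.symm h1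

/-- `|U ∩ B| = 16` is impossible -/
theorem card_UB_ne (hc : Nat.card (U ⊓ B : Subgroup G) = 16) : False := by
  have hBU : B ≤ U := by
    apply h.B_le_of_two hU hU1
    intro p hp hp2 g hgM hgZ hgp
    have hodd : Odd (orderOf g) := by rw [hgp]; exact hp.odd_of_ne_two hp2
    have hp3 : p ≠ 3 := fun e => h.no3 (by rw [hgp, e]) hgZ
    have h3 : ¬ 3 ∣ orderOf g := by
      rw [hgp]
      intro hd
      exact hp3 ((Nat.prime_dvd_prime_iff_eq Nat.prime_three hp).1 hd).symm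
    have hgU : ∀ u ∈ U, g * u * g⁻¹ ∈ U := hU.normal g hgM
    have hZ2 := isPGroup_of_elem h.core.elemZ
    -- it is enough that `g` centralises a subgroup of index 4
    have fin : ∀ C : Subgroup G, C ≤ U → (∀ c ∈ C, g * c = c * g) → Nat.card U ≤ 4 * Nat.card C → False := by
      intro C hC hgC hidx
      have h1 := T1Tools.commute_of_index_le_four hodd h3 hU.two hgU hC hgC hidx
      have h2 : g ∈ U := h.cent_U hU hU1 (mem_centralizer_iff.2 fun u hu => (h1 u hu).symm)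
      have h4 := three_not_two hU.two h2 hodd
      rw [h4, orderOf_one] at hgp
      exact hp.one_lt.ne hgp
    have hcU := h.card_U_le hU hU1
    by_cases hUB : U ≤ B
    · have h1 : U ⊓ B = U := inf_eq_left.2 hUB
      rw [h1] at hc
      exact fin Z (h.Z_le_U hU hU1) hgZ (by rw [hc, h.core.cardZ])
    · -- `|U| = 32`
      have hlt : (U ⊓ B : Subgroup G) < U := lt_of_le_of_ne inf_le_left fun e => hUB (inf_eq_left.1 e)
      have h32 : Nat.card U = 32 := by
        have h1 : Nat.card (U ⊓ B : Subgroup G) ∣ Nat.card U := Subgroup.card_dvd_of_le inf_le_left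
        obtain ⟨k, hk⟩ := h1
        have h2 : Nat.card U ≠ Nat.card (U ⊓ B : Subgroup G) := fun e =>
          hlt.ne (Subgroup.eq_of_le_of_card_ge hlt.le (by rw [e]))
        rw [hc] at hk h2 hcU
        have h4 : 0 < Nat.card U := Nat.card_pos
        omega
      -- the involution `e`
      have hxU : ∀ u ∈ U, x * u * x⁻¹ ∈ U := hU.normal x h.x_mem_M
      have h4 := card_mod_three h.xact.three hxU
      rw [h32] at h4
      obtain ⟨e, he, he1⟩ : ∃ e ∈ (U ⊓ centralizer ({x} : Set G) : Subgroup G), e ≠ 1 := by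
        by_contra hcon
        push Not at hcon
        have h5 : (U ⊓ centralizer ({x} : Set G) : Subgroup G) = ⊥ := (Subgroup.eq_bot_iff_forall _).2 hcon
        rw [h5, Subgroup.card_bot] at h4
        exact absurd h4 (by decide)
      obtain ⟨heU, hex⟩ := Subgroup.mem_inf.1 he
      have hxe : x * e = e * x := (mem_centralizer_singleton_iff.1 hex).symm
      have heB : e ∉ B := fun hB => he1 (h.core.fpfB h.xact hB hxe)
      have heT : e ∉ T := fun hT => heB (h.UT_le hU hU1 heU hT)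
      have hee : e * e = 1 := by
        have h5 : e * e ∈ T := h.T1_mul (h.S_T1 (h.U_le_S hU heU)) (h.S_T1 (h.U_le_S hU heU)) heT heT
        have h6 : e * e ∈ B := h.UT_le hU hU1 (U.mul_mem heU heU) h5
        apply h.core.fpfB h.xact h6
        rw [← mul_assoc, hxe, mul_assoc, hxe, mul_assoc]
      -- conjugates of `e`
      have hgn : ∀ n : ℕ, ∀ u ∈ U, g ^ n * u * (g ^ n)⁻¹ ∈ U := fun n => hU.normal (g ^ n) (M.pow_mem hgM n)
      have hgnZ : ∀ n : ℕ, ∀ z ∈ Z, g ^ n * z = z * g ^ n := fun n z hz =>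
        (Commute.pow_left (show Commute g z from hgZ z hz) n).eq
      have hsq : ∀ n : ℕ, (g ^ n * e * (g ^ n)⁻¹) * (g ^ n * e * (g ^ n)⁻¹) = 1 := by
        intro n
        have e1 : (g ^ n * e * (g ^ n)⁻¹) * (g ^ n * e * (g ^ n)⁻¹) = g ^ n * (e * e) * (g ^ n)⁻¹ := by group
        rw [e1, hee]; group
      have hnB : ∀ n : ℕ, g ^ n * e * (g ^ n)⁻¹ ∉ B := by
        intro n hn
        have h5 := h.inv_UB hU hU1 hc (hgn n e heU) hn (hsq n)
        apply heB
        have h6 := hgnZ n _ h5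
        have h7 : g ^ n * (g ^ n * e * (g ^ n)⁻¹) * (g ^ n)⁻¹ = g ^ n * e * (g ^ n)⁻¹ :=
          mul_inv_eq_iff_eq_mul.2 h6
        have h8 : g ^ n * e * (g ^ n)⁻¹ = e := conj_inj h7
        rwa [h8] at hn
      -- `e⁻¹ e_n ∈ U ∩ B`
      have hprod : ∀ n : ℕ, e * (g ^ n * e * (g ^ n)⁻¹) ∈ (U ⊓ B : Subgroup G) := by
        intro n
        have h5 := hgn n e heU
        have hUT : g ^ n * e * (g ^ n)⁻¹ ∉ T := fun hT => hnB n (h.UT_le hU hU1 h5 hT)
        have h6 : e * (g ^ n * e * (g ^ n)⁻¹) ∈ U := U.mul_mem heU h5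
        exact Subgroup.mem_inf.2 ⟨h6, h.UT_le hU hU1 h6
          (h.T1_mul (h.S_T1 (h.U_le_S hU heU)) (h.S_T1 (h.U_le_S hU h5)) heT hUT)⟩
      -- pigeonhole
      have hZY : Z ≤ U ⊓ B := le_inf (h.Z_le_U hU hU1) h.core.Z_le
      have hq : Nat.card ((U ⊓ B : Subgroup G) ⧸ Z.subgroupOf (U ⊓ B)) = 4 := by
        have h5 := T1Tools.card_mul_relIndex hZY
        rw [h.core.cardZ, hc] at h5
        have h6 : Z.relIndex (U ⊓ B) = Nat.card ((U ⊓ B : Subgroup G) ⧸ Z.subgroupOf (U ⊓ B)) := rfl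
        omega
      obtain ⟨i, j, hij, hfij⟩ : ∃ i j : Fin 5, i ≠ j ∧
          ((⟨_, hprod i⟩ : (U ⊓ B : Subgroup G)) : (U ⊓ B : Subgroup G) ⧸ Z.subgroupOf (U ⊓ B)) =
            ((⟨_, hprod j⟩ : (U ⊓ B : Subgroup G)) : (U ⊓ B : Subgroup G) ⧸ Z.subgroupOf (U ⊓ B)) := by
        have : Fintype ((U ⊓ B : Subgroup G) ⧸ Z.subgroupOf (U ⊓ B)) := Fintype.ofFinite _
        apply Fintype.exists_ne_map_eq_of_card_lt
          (fun i : Fin 5 => ((⟨_, hprod i⟩ : (U ⊓ B : Subgroup G)) : (U ⊓ B : Subgroup G) ⧸ Z.subgroupOf (U ⊓ B)))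
        rw [← Nat.card_eq_fintype_card, hq, Fintype.card_fin]
        norm_num
      -- `g^d` commutes with `e` for some `0 < d ≤ 4`
      have hd : ∃ d : ℕ, 0 < d ∧ d ≤ 4 ∧ g ^ d * e * (g ^ d)⁻¹ * e⁻¹ ∈ Z := by
        have h5 := QuotientGroup.eq.1 hfij
        rw [Subgroup.mem_subgroupOf] at h5
        have h6 : (g ^ (i : ℕ) * e * (g ^ (i : ℕ))⁻¹)⁻¹ * (g ^ (j : ℕ) * e * (g ^ (j : ℕ))⁻¹) ∈ Z := by
          have e1 : ((e * (g ^ (i : ℕ) * e * (g ^ (i : ℕ))⁻¹))⁻¹ * (e * (g ^ (j : ℕ) * e * (g ^ (j : ℕ))⁻¹))) =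
            (g ^ (i : ℕ) * e * (g ^ (i : ℕ))⁻¹)⁻¹ * (g ^ (j : ℕ) * e * (g ^ (j : ℕ))⁻¹) := by group
          rw [← e1]
          exact h5
        -- general
        have gen : ∀ a b : ℕ, a < b → b ≤ 4 →
            (g ^ a * e * (g ^ a)⁻¹)⁻¹ * (g ^ b * e * (g ^ b)⁻¹) ∈ Z →
            ∃ d : ℕ, 0 < d ∧ d ≤ 4 ∧ g ^ d * e * (g ^ d)⁻¹ * e⁻¹ ∈ Z := by
          intro a b hab hb4 hz
          refine ⟨b - a, by omega, by omega, ?_⟩
          obtain ⟨d, rfl⟩ : ∃ d, b = a + d := ⟨b - a, by omega⟩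
          rw [Nat.add_sub_cancel_left]
          set z := (g ^ a * e * (g ^ a)⁻¹)⁻¹ * (g ^ (a + d) * e * (g ^ (a + d))⁻¹) with hzd
          have h7 : e⁻¹ * (g ^ d * e * (g ^ d)⁻¹) = z := by
            have h8 := hgnZ a z hz
            have h9 : (g ^ a)⁻¹ * z * g ^ a = z := by
              rw [mul_assoc, ← h8]; group
            rw [← h9, hzd, pow_add]
            group
          have h8 : g ^ d * e * (g ^ d)⁻¹ * e⁻¹ = e * z * e⁻¹ := by rw [← h7]; group
          rw [h8, h.U_Z hU hU1 heU hz]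
          simpa using hz
        rcases lt_or_gt_of_ne (fun h7 => hij (Fin.ext h7) : (i : ℕ) ≠ j) with hlt' | hlt'
        · exact gen i j hlt' (by have := j.2; omega) h6
        · refine gen j i hlt' (by have := i.2; omega) ?_
          have h7 := Z.inv_mem h6
          have e1 : ((g ^ (i : ℕ) * e * (g ^ (i : ℕ))⁻¹)⁻¹ * (g ^ (j : ℕ) * e * (g ^ (j : ℕ))⁻¹))⁻¹ =
            (g ^ (j : ℕ) * e * (g ^ (j : ℕ))⁻¹)⁻¹ * (g ^ (i : ℕ) * e * (g ^ (i : ℕ))⁻¹) := by group
          rwa [e1] at h7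
      obtain ⟨d, hd0, hd4, hdZ⟩ := hd
      have hcop : Nat.Coprime d (orderOf g) := by
        rw [hgp]
        have hp5 : 5 ≤ p := by
          have := hp.two_le
          have h4' : p ≠ 4 := fun e => by rw [e] at hp; exact absurd hp (by norm_num)
          omega
        exact ((Nat.Prime.coprime_iff_not_dvd hp).2 (fun hdv => by
          have := Nat.le_of_dvd hd0 hdv
          omega)).symm
      have h5 : g ^ d * e = e * g ^ d := by
        apply T1Tools.commute_of_mem _ hZ2 (hgnZ d) hdZ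
        exact Odd.of_dvd_nat hodd (orderOf_pow_dvd d)
      have h6 : g * e = e * g := by
        obtain ⟨m, hm⟩ := exists_pow_eq_self_of_coprime hcop
        have h7 : Commute (g ^ d) e := h5
        have h8 := h7.pow_left m
        rw [hm] at h8
        exact h8
      -- conclusion
      let C : Subgroup G := U ⊓ centralizer ({g} : Set G)
      have hCZ : Z < C := by
        refine lt_of_le_of_ne (fun z hz => Subgroup.mem_inf.2 ⟨h.Z_le_U hU hU1 hz,
          mem_centralizer_singleton_iff.2 (hgZ z hz).symm⟩) ?_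
        intro e1
        apply heB
        apply h.core.Z_le
        rw [e1]
        exact Subgroup.mem_inf.2 ⟨heU, mem_centralizer_singleton_iff.2 h6.symm⟩
      have hC8 : 8 ≤ Nat.card C := by
        have h7 : Nat.card Z ∣ Nat.card C := Subgroup.card_dvd_of_le hCZ.le
        have h8 : Nat.card C ≠ Nat.card Z := fun e1 =>
          hCZ.ne (Subgroup.eq_of_le_of_card_ge hCZ.le (by rw [e1]))
        rw [h.core.cardZ] at h7 h8
        obtain ⟨k, hk⟩ := h7
        have h9 : 0 < Nat.card C := Nat.card_pos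
        omega
      exact fin C inf_le_left (fun c hc => (mem_centralizer_singleton_iff.1 (Subgroup.mem_inf.1 hc).2).symm)
        (by rw [h32]; omega)
  rw [inf_eq_right.2 hBU, h.core.card_B] at hc
  omega

theorem B_le_U : B ≤ U := by
  rcases h.card_UB hU hU1 with h1 | h1 | h1
  · exact absurd h1 (h.card_UB_ne_four hU hU1)
  · exact (h.card_UB_ne hU hU1 h1).elim
  · have h2 : U ⊓ B = B := Subgroup.eq_of_le_of_card_ge inf_le_right (by rw [h1, h.core.card_B])
    rw [← h2]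
    exact inf_le_left

end U

/-- `M` normalises `B` -/
theorem M_norm : ∀ m ∈ M, ∀ b ∈ B, m * b * m⁻¹ ∈ B := by
  obtain ⟨U, hU1, hU⟩ := h.maxM.1
  have hB := h.B_le_U hU hU1
  intro m hm
  exact h.norm_of_T1 fun b hb => h.S_T1 (h.U_le_S hU (hU.normal m hm b (hB hb)))

/-- the centraliser of a central involution of `S` is a 2-group -/
theorem cent_z {z : G} (hz : z ∈ Z) (hz1 : z ≠ 1) (hzS : ∀ g ∈ S, g * z = z * g) :
    IsPGroup 2 (centralizer ({z} : Set G)) := by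
  have hzz : z * z = 1 := h.core.elemZ z hz
  have hzp : ∀ y ∈ zpowers z, y = 1 ∨ y = z := by
    intro y hy
    obtain ⟨n, rfl⟩ := mem_zpowers_iff.1 hy
    rcases Int.even_or_odd' n with ⟨k, rfl | rfl⟩
    · left
      rw [zpow_mul]
      have : z ^ (2 : ℤ) = 1 := by rw [zpow_two]; exact hzz
      rw [this, one_zpow]
    · right
      rw [zpow_add, zpow_mul]
      have : z ^ (2 : ℤ) = 1 := by rw [zpow_two]; exact hzz
      rw [this, one_zpow, one_mul, zpow_one]
  have hR2 : IsPGroup 2 (zpowers z) := by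
    apply isPGroup_of_elem
    intro y hy
    rcases hzp y hy with rfl | rfl
    · exact one_mul 1
    · exact hzz
  have hR1 : zpowers z ≠ ⊥ := by rwa [Ne, zpowers_eq_bot]
  have hle : ∀ g : G, g * z = z * g → g ∈ normalizer ((zpowers z : Subgroup G) : Set G) := by
    intro g hg
    rw [mem_norm]
    intro y hy
    rcases hzp y hy with rfl | rfl
    · simp
    · rw [mul_inv_eq_iff_eq_mul.2 hg]; exact mem_zpowers y
  have hM : ∀ g : G, g * z = z * g → g ∈ M := fun g hg =>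
    h.uniq (zpowers z) hR2 hR1 (fun g hg => hle g (hzS g hg)) (hle g hg)
  apply isPGroup_of_prime
  intro p hp hp2 g hg ho
  have hodd : Odd (orderOf g) := by rw [ho]; exact hp.odd_of_ne_two hp2
  have hgz : g * z = z * g := mem_centralizer_singleton_iff.1 hg
  have hgB := h.M_norm g (hM g hgz)
  -- `g` normalises `V`
  have hgV : ∀ v ∈ V, g * v * g⁻¹ ∈ V := by
    rcases h.core.swap hgB with h1 | h1
    · exact h1.1
    · exfalso
      have h2 : ∀ k : ℕ, ∀ v ∈ V, g ^ (2 * k) * v * (g ^ (2 * k))⁻¹ ∈ V := by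
        intro k
        induction k with
        | zero => intro v hv; simpa using hv
        | succ k ih =>
          intro v hv
          have h3 := h1.2 _ (h1.1 _ (ih v hv))
          have e : g * (g * (g ^ (2 * k) * v * (g ^ (2 * k))⁻¹) * g⁻¹) * g⁻¹ =
              g ^ (2 * (k + 1)) * v * (g ^ (2 * (k + 1)))⁻¹ := by
            rw [show 2 * (k + 1) = 2 + 2 * k by ring, pow_add, pow_two]; group
          rwa [e] at h3
      obtain ⟨k, hk⟩ := hodd
      have h3 : ∀ v ∈ V, v ∈ W := by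
        intro v hv
        have h4 := h1.1 _ (h2 k v hv)
        have e : g * (g ^ (2 * k) * v * (g ^ (2 * k))⁻¹) * g⁻¹ = g ^ (2 * k + 1) * v * (g ^ (2 * k + 1))⁻¹ := by
          rw [pow_succ']; group
        rw [e, ← hk, pow_orderOf_eq_one] at h4
        simpa using h4
      exact h.core.V_ne_W (Subgroup.eq_of_le_of_card_ge h3 (by rw [h.core.cardV, h.core.cardW]))
  -- `g` centralises `Z`
  have hgZ : ∀ a ∈ Z, g * a = a * g := by
    intro a ha
    have hcc : ∀ c ∈ zpowers z, g * c = c * g := by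
      intro c hc
      rcases hzp c hc with rfl | rfl
      · simp
      · exact hgz
    refine T1Tools.commute_of_mem hodd hR2 hcc ?_
    · -- `g a g⁻¹ a⁻¹ ∈ {1, z}`
      by_cases ha1 : a = 1
      · rw [ha1]; simp
      by_cases haz : a = z
      · rw [haz, mul_inv_eq_iff_eq_mul.2 hgz]; simp
      have hza : z * a ≠ 1 := by
        intro e
        apply haz
        have e2 : z * (z * a) = z := by rw [e, mul_one]
        rw [← mul_assoc, hzz, one_mul] at e2
        exact e2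
      have h3 := h.core.normZ hgB a ha
      rcases mem_four h.core.cardZ hz ha h3 hz1 ha1 (Ne.symm haz) hza with e | e | e | e
      · exact absurd e (conj_ne_one ha1)
      · exfalso
        apply haz
        exact conj_inj (e.trans (mul_inv_eq_iff_eq_mul.2 hgz).symm)
      · rw [e]; simp
      · rw [e]; simp
  exact h.no_odd hp hp2 ho hgV hgZ

omit [Finite G] h in
theorem isPGroup_cent_conj {a b g : G} (hab : g * a * g⁻¹ = b)
    (ha : IsPGroup 2 (centralizer ({a} : Set G))) : IsPGroup 2 (centralizer ({b} : Set G)) := by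
  rintro ⟨y, hy⟩
  have hyb : y * b = b * y := mem_centralizer_singleton_iff.1 hy
  have h1 : g⁻¹ * y * g ∈ centralizer ({a} : Set G) := by
    rw [mem_centralizer_singleton_iff]
    have e : a = g⁻¹ * b * g := by rw [← hab]; group
    rw [e]
    calc g⁻¹ * y * g * (g⁻¹ * b * g) = g⁻¹ * (y * b) * g := by group
      _ = g⁻¹ * b * g * (g⁻¹ * y * g) := by rw [hyb]; group
  obtain ⟨k, hk⟩ := ha ⟨_, h1⟩
  refine ⟨k, Subtype.ext ?_⟩
  have h2 : (g⁻¹ * y * g) ^ 2 ^ k = 1 := congrArg Subtype.val hk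
  show y ^ 2 ^ k = 1
  have e : (g⁻¹ * y * g) ^ 2 ^ k = g⁻¹ * y ^ 2 ^ k * g := by
    have h5 := conj_pow (i := 2 ^ k) (a := g⁻¹) (b := y)
    rw [inv_inv] at h5
    exact h5
  rw [e] at h2
  have h3 : y ^ 2 ^ k = g * 1 * g⁻¹ := by rw [← h2]; group
  simpa using h3

/-- the centralisers of the involutions of `B` are 2-groups -/
theorem cent_B {b : G} (hb : b ∈ B) (hb1 : b ≠ 1) (hbb : b * b = 1) : IsPGroup 2 (centralizer ({b} : Set G)) := by
  obtain ⟨z, hz, hz1, hzS⟩ := h.exists_z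
  have hcz := h.cent_z hz hz1 hzS
  rcases h.core.inv_mem hb hbb with h1 | h1
  · obtain ⟨g, hg⟩ := h.trans z (h.core.Z_le_V hz) b h1 hz1 hb1
    exact isPGroup_cent_conj hg hcz
  · obtain ⟨g, hg⟩ := h.symm.trans z (h.core.Z_le_W hz) b h1 hz1 hb1
    exact isPGroup_cent_conj hg hcz

end Four

end Cfsg.Agent.OddCyclic.COneEnd
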