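import Mathlib
import Cfsg.Agent.OddCyclic.COneEndM
import Cfsg.Agent.Transfer.ThompsonTransfer
import Cfsg.Agent.LieExceptional.CITBasic

/-!
# S0342, characteristic 2 type, unique maximal 2-local over `S`: the end `q = 4`, final contradiction
-/

set_option autoImplicit false
set_option linter.unusedSectionVars false

universe u

namespace Cfsg.Agent.OddCyclic.COneEnd

open Cfsg.Agent.LieExceptional Cfsg.Agent.LieExceptional.CITDefs Cfsg.Agent.OddCyclic.T1Defs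
open Cfsg.Agent.LieExceptional.CITSylowFour
open Subgroup

variable {G : Type u} [Group G] [Finite G]

/-- an element of order 3 commuting with `a` is not in a 2-group -/
theorem not_two_of_three {a y : G} (hy : orderOf y = 3) (hc : y * a = a * y)
    (h2 : IsPGroup 2 (centralizer ({a} : Set G))) : False := by
  have h1 := three_not_two h2 (mem_centralizer_singleton_iff.2 hc) (by rw [hy]; decide)
  rw [h1, orderOf_one] at hy
  omega

namespace Four

variable {M S T B V W Z : Subgroup G} {x s : G} (h : Four M S T B V W Z x s)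

include h

/-- the Sylow subgroup `S` -/
def syl (h : Four M S T B V W Z x s) : Sylow 2 G where
  toSubgroup := S
  isPGroup' := h.sylS.two
  is_maximal' := fun {Q} hQ hle => h.sylS.max Q le_top hQ hle

theorem s_notMem : s ∉ T := by
  intro hs
  apply h.core.V_ne_W
  apply Subgroup.eq_of_le_of_card_ge _ (by rw [h.core.cardV, h.core.cardW])
  intro v hv
  have h1 := h.T_V s hs v hv
  exact (h.s_iff v).1 (by
    have := h.s_iff' v
    exact (h.s_iff v).2 hv) |> fun _ => (h.s_iff' v).1 h1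

theorem relIndex_T : T.relIndex S = 2 := by
  rw [Subgroup.relIndex_eq_two_iff]
  refine ⟨s, h.s_mem, fun b hb => ?_⟩
  by_cases hbT : b ∈ T
  · exact Or.inr ⟨hbT, fun h6 => h.s_notMem ((T.mul_mem_cancel_left hbT).1 h6)⟩
  · exact Or.inl ⟨h.T1_mul (h.S_T1 hb) (h.S_T1 h.s_mem) hbT h.s_notMem, hbT⟩

/-- Thompson transfer -/
theorem transfer (hG : IsSimpleGroup G) {u : G} (hu : u * u = 1) : ∃ g : G, g * u * g⁻¹ ∈ T := by
  rcases Cfsg.Agent.Transfer.ThompsonTransfer.thompson_transfer h.syl T h.T_le h.relIndex_T u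
    (by rw [pow_two]; exact hu) with ⟨N, hN, hNi, -⟩ | h1
  · exfalso
    rcases hN.eq_bot_or_eq_top with h3 | h3
    · rw [h3, Subgroup.index_bot] at hNi
      have h4 := Subgroup.card_le_card_group V
      rw [h.core.cardV, hNi] at h4
      omega
    · rw [h3, Subgroup.index_top] at hNi
      omega
  · exact h1

/-- the case `T = B` -/
theorem false_of_eq (hG : IsSimpleGroup G) (hTB : T ≤ B) (h6 : ∃ g : G, orderOf g = 6) : False := by
  obtain ⟨g, hg⟩ := h6
  have hu : orderOf (g ^ 3) = 2 := by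
    rw [orderOf_pow, hg]
    decide
  have hy : orderOf (g ^ 2) = 3 := by
    rw [orderOf_pow, hg]
    decide
  have huu : g ^ 3 * g ^ 3 = 1 := by
    rw [← pow_two, ← hu]; exact pow_orderOf_eq_one _
  obtain ⟨k, hk⟩ := h.transfer hG huu
  have hc : g ^ 2 * g ^ 3 = g ^ 3 * g ^ 2 := by rw [← pow_add, ← pow_add]
  have h1 : k * g ^ 3 * k⁻¹ ≠ 1 := by
    apply conj_ne_one
    intro e
    rw [e, orderOf_one] at hu
    omega
  have h2 := h.cent_B (hTB hk) h1 (by
    have e : k * g ^ 3 * k⁻¹ * (k * g ^ 3 * k⁻¹) = k * (g ^ 3 * g ^ 3) * k⁻¹ := by group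
    rw [e, huu]; group)
  have h3 : IsPGroup 2 (centralizer ({g ^ 3} : Set G)) :=
    isPGroup_cent_conj (g := k⁻¹) (by group) h2
  exact not_two_of_three hy hc h3

/-- the elements of `S` act on `Z` -/
theorem exists_z0 : ∃ z ∈ Z, z ≠ 1 ∧ (∀ g ∈ S, g * z = z * g) ∧
    ∀ t ∈ S, (¬ ∀ y ∈ Z, t * y = y * t) → ∀ c ∈ Z, c ≠ 1 → c ≠ z → t * c * t⁻¹ = z * c := by
  obtain ⟨z, hz, hz1, hzS⟩ := h.exists_z
  refine ⟨z, hz, hz1, hzS, ?_⟩
  intro t ht htB c hc hc1 hcz
  have hcz' : z * c ≠ 1 := by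
    intro e
    apply hcz
    have e2 : z * c * c = c := by rw [e, one_mul]
    rw [mul_assoc, h.core.elemZ c hc, mul_one] at e2
    exact e2.symm
  have hne : t * c * t⁻¹ ≠ c := by
    intro e
    apply htB
    intro y hy
    rcases mem_four h.core.cardZ hz hc hy hz1 hc1 (Ne.symm hcz) hcz' with rfl | rfl | rfl | rfl
    · simp
    · exact hzS t ht
    · exact mul_inv_eq_iff_eq_mul.1 e
    · rw [← mul_assoc, hzS t ht, mul_assoc, mul_inv_eq_iff_eq_mul.1 e, mul_assoc]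
  rcases mem_four h.core.cardZ hz hc (h.S_Z ht c hc) hz1 hc1 (Ne.symm hcz) hcz' with e | e | e | e
  · exact absurd e (conj_ne_one hc1)
  · exfalso
    apply hcz
    have e2 : t * z * t⁻¹ = z := mul_inv_eq_iff_eq_mul.2 (hzS t ht)
    exact conj_inj (e.trans e2.symm)
  · exact absurd e hne
  · exact e

/-- the product of two elements of `S` acting nontrivially on `Z` acts trivially -/
theorem S_mul_Z {a b : G} (ha : a ∈ S) (hb : b ∈ S) (haZ : ¬ ∀ y ∈ Z, a * y = y * a)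
    (hbZ : ¬ ∀ y ∈ Z, b * y = y * b) : ∀ y ∈ Z, a * b * y = y * (a * b) := by
  obtain ⟨z, hz, hz1, hzS, key⟩ := h.exists_z0
  intro y hy
  by_cases hy1 : y = 1
  · rw [hy1]; simp
  by_cases hyz : y = z
  · rw [hyz]; exact hzS _ (S.mul_mem ha hb)
  have h1 := key b hb hbZ y hy hy1 hyz
  have h2 : a * (z * y) * a⁻¹ = y := by
    have e1 : a * (z * y) * a⁻¹ = (a * z * a⁻¹) * (a * y * a⁻¹) := by group
    rw [e1, key a ha haZ y hy hy1 hyz, mul_inv_eq_iff_eq_mul.2 (hzS a ha), ← mul_assoc, h.core.elemZ z hz,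
      one_mul]
  apply mul_inv_eq_iff_eq_mul.1
  calc a * b * y * (a * b)⁻¹ = a * (b * y * b⁻¹) * a⁻¹ := by group
    _ = y := by rw [h1, h2]

/-- `C₁ = C_{N(B)}(Z)` -/
def C1 (_h : Four M S T B V W Z x s) : Subgroup G := normalizer (B : Set G) ⊓ centralizer (Z : Set G)

theorem mem_C1 {g : G} : g ∈ h.C1 ↔ (∀ b ∈ B, g * b * g⁻¹ ∈ B) ∧ ∀ z ∈ Z, g * z = z * g := by
  rw [C1, Subgroup.mem_inf, mem_norm, mem_centralizer_iff]
  exact ⟨fun h => ⟨h.1, fun z hz => (h.2 z hz).symm⟩, fun h => ⟨h.1, fun z hz => (h.2 z hz).symm⟩⟩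

theorem B_le_C1 : B ≤ h.C1 := fun b hb => h.mem_C1.2
  ⟨fun c hc => B.mul_mem (B.mul_mem hb hc) (B.inv_mem hb), fun z hz => (h.core.Zc hz hb).symm⟩

/-- `C₁ ∩ N(V) = B` -/
theorem C1_V {g : G} (hg : g ∈ h.C1) (hV : ∀ v ∈ V, g * v * g⁻¹ ∈ V) : g ∈ B :=
  h.mem_B hV (h.mem_C1.1 hg).2

theorem C1_swaps {g : G} (hg : g ∈ h.C1) (hB : g ∉ B) :
    (∀ v ∈ V, g * v * g⁻¹ ∈ W) ∧ ∀ w ∈ W, g * w * g⁻¹ ∈ V :=
  h.swaps (h.mem_C1.1 hg).1 fun hV => hB (h.C1_V hg hV)

theorem C1_mul {a b : G} (ha : a ∈ h.C1) (hb : b ∈ h.C1) (haB : a ∉ B) (hbB : b ∉ B) : a * b ∈ B := by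
  apply h.C1_V (h.C1.mul_mem ha hb)
  intro v hv
  have e : a * b * v * (a * b)⁻¹ = a * (b * v * b⁻¹) * a⁻¹ := by group
  rw [e]
  exact (h.C1_swaps ha haB).2 _ ((h.C1_swaps hb hbB).1 v hv)

theorem two_C1 : IsPGroup 2 h.C1 := by
  rintro ⟨g, hg⟩
  by_cases hgB : g ∈ B
  · obtain ⟨k, hk⟩ := h.core.two_B ⟨g, hgB⟩
    exact ⟨k, Subtype.ext (by simpa using congrArg Subtype.val hk)⟩
  · have h1 := h.C1_mul hg hg hgB hgB
    obtain ⟨k, hk⟩ := h.core.two_B ⟨g * g, h1⟩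
    have h2 : (g * g) ^ 2 ^ k = 1 := congrArg Subtype.val hk
    refine ⟨k + 1, Subtype.ext ?_⟩
    show g ^ 2 ^ (k + 1) = 1
    rw [pow_succ', pow_mul, pow_two]
    exact h2

theorem C1_norm : ∀ m ∈ M, ∀ c ∈ h.C1, m * c * m⁻¹ ∈ h.C1 := by
  intro m hm c hc
  obtain ⟨h1, h2⟩ := h.mem_C1.1 hc
  refine h.mem_C1.2 ⟨fun b hb => ?_, fun z hz => ?_⟩
  · have h3 := h.M_norm m hm _ (h1 _ (h.M_norm m⁻¹ (M.inv_mem hm) b hb))
    have e : m * (c * (m⁻¹ * b * m⁻¹⁻¹) * c⁻¹) * m⁻¹ = m * c * m⁻¹ * b * (m * c * m⁻¹)⁻¹ := by group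
    rwa [e] at h3
  · have h3 := h2 _ (h.core.normZ (h.M_norm m⁻¹ (M.inv_mem hm)) z hz)
    calc m * c * m⁻¹ * z = m * (c * (m⁻¹ * z * m⁻¹⁻¹)) * m⁻¹ := by group
      _ = m * ((m⁻¹ * z * m⁻¹⁻¹) * c) * m⁻¹ := by rw [h3]
      _ = z * (m * c * m⁻¹) := by group

theorem C1_le_S : h.C1 ≤ S := by
  have h1 : h.C1 ⊔ S = S := by
    apply h.sylS.max _ le_top _ le_sup_right
    exact IsPGroup.to_sup_of_normal_left' h.two_C1 h.sylS.two fun g hg =>
      mem_norm.2 (h.C1_norm g (h.S_le_M hg))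
  exact le_sup_left.trans h1.le

theorem card_C1_le : Nat.card h.C1 ≤ 128 := by
  have h1 : Nat.card h.C1 ≤ 2 * Nat.card (B ⊓ h.C1 : Subgroup G) :=
    card_le_two_mul fun a ha b hb haB hbB => h.C1_mul ha hb haB hbB
  rw [inf_eq_left.2 h.B_le_C1, h.core.card_B] at h1
  exact h1

/-- if `T ≠ B` then `C₁ ≠ B` -/
theorem exists_C1 (hTB : ¬ T ≤ B) : ∃ c ∈ h.C1, c ∉ B := by
  rw [SetLike.not_le_iff_exists] at hTB
  obtain ⟨t, htT, htB⟩ := hTB
  have htZ : ¬ ∀ y ∈ Z, t * y = y * t := fun hc => htB (h.cent_Z t htT hc)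
  by_cases hsZ : ∀ y ∈ Z, s * y = y * s
  · exact ⟨s, h.mem_C1.2 ⟨h.s_norm, hsZ⟩, fun hs => h.s_notMem (h.B_le hs)⟩
  · refine ⟨s * t, h.mem_C1.2 ⟨fun b hb => ?_, h.S_mul_Z h.s_mem (h.T_le htT) hsZ htZ⟩, fun hst => ?_⟩
    · have e : s * t * b * (s * t)⁻¹ = s * (t * b * t⁻¹) * s⁻¹ := by group
      rw [e]
      exact h.s_norm _ (h.T_norm t htT b hb)
    · exact h.s_notMem ((T.mul_mem_cancel_right htT).1 (h.B_le hst))

theorem card_C1 (hTB : ¬ T ≤ B) : Nat.card h.C1 = 128 := by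
  obtain ⟨c, hc, hcB⟩ := h.exists_C1 hTB
  have h1 : Nat.card B ∣ Nat.card h.C1 := Subgroup.card_dvd_of_le h.B_le_C1
  have h2 : Nat.card h.C1 ≠ Nat.card B := by
    intro e
    have h3 : B = h.C1 := Subgroup.eq_of_le_of_card_ge h.B_le_C1 (by rw [e])
    exact hcB (h3 ▸ hc)
  have h3 := h.card_C1_le
  have h4 : 0 < Nat.card h.C1 := Nat.card_pos
  rw [h.core.card_B] at h1 h2
  obtain ⟨k, hk⟩ := h1
  omega

/-- the involution `c` -/
theorem exists_c (hTB : ¬ T ≤ B) : ∃ c ∈ h.C1, c ∉ B ∧ x * c = c * x ∧ c * c = 1 ∧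
    ∀ d ∈ h.C1, x * d = d * x → d = 1 ∨ d = c := by
  have h4 := card_mod_three h.xact.three (h.C1_norm x h.x_mem_M)
  rw [h.card_C1 hTB] at h4
  obtain ⟨c, hc, hc1⟩ : ∃ e ∈ (h.C1 ⊓ centralizer ({x} : Set G) : Subgroup G), e ≠ 1 := by
    by_contra hcon
    push Not at hcon
    have h5 : (h.C1 ⊓ centralizer ({x} : Set G) : Subgroup G) = ⊥ := (Subgroup.eq_bot_iff_forall _).2 hcon
    rw [h5, Subgroup.card_bot] at h4
    exact absurd h4 (by decide)
  obtain ⟨hcC, hcx⟩ := Subgroup.mem_inf.1 hc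
  have hxc : x * c = c * x := (mem_centralizer_singleton_iff.1 hcx).symm
  have hB : ∀ d ∈ h.C1, x * d = d * x → d ∉ B ∨ d = 1 := by
    intro d hd hxd
    by_cases hdB : d ∈ B
    · exact Or.inr (h.core.fpfB h.xact hdB hxd)
    · exact Or.inl hdB
  have hcB : c ∉ B := (hB c hcC hxc).resolve_right hc1
  have hprod : ∀ d ∈ h.C1, x * d = d * x → d ∉ B → c * d = 1 := by
    intro d hd hxd hdB
    apply h.core.fpfB h.xact (h.C1_mul hcC hd hcB hdB)
    rw [← mul_assoc, hxc, mul_assoc, hxd, mul_assoc]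
  have hcc := hprod c hcC hxc hcB
  refine ⟨c, hcC, hcB, hxc, hcc, fun d hd hxd => ?_⟩
  rcases hB d hd hxd with h5 | h5
  · right
    have h6 := hprod d hd hxd h5
    exact (mul_left_cancel (hcc.trans h6.symm)).symm
  · exact Or.inl h5

/-- `σ ∈ S` inverting `x`, acting nontrivially on `Z` -/
theorem exists_sigma (hTB : ¬ T ≤ B) : ∃ σ ∈ S, x * σ * x = σ ∧ ¬ ∀ y ∈ Z, σ * y = y * σ := by
  classical
  have h128 := h.card_C1 hTB
  rw [SetLike.not_le_iff_exists] at hTB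
  obtain ⟨t, htT, htB⟩ := hTB
  have htZ : ¬ ∀ y ∈ Z, t * y = y * t := fun hc => htB (h.cent_Z t htT hc)
  have htS := h.T_le htT
  obtain ⟨z, hz, hz1, hzS, key⟩ := h.exists_z0
  -- `t⁻¹ x t x` centralises `Z`
  have hinv : ∀ y ∈ Z, t⁻¹ * x * t * x * y = y * (t⁻¹ * x * t * x) := by
    have hxf : ∀ y ∈ Z, x * y * x⁻¹ = y → y = 1 := fun y hy e =>
      h.xact.fpfV y (h.core.Z_le_V hy) (mul_inv_eq_iff_eq_mul.1 e)
    set a := x * z * x⁻¹ with ha
    have haZ : a ∈ Z := h.core.x_Z h.xact z hz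
    have ha1 : a ≠ 1 := conj_ne_one hz1
    have haz : a ≠ z := fun e => hz1 (hxf z hz e)
    have hza1 : z * a ≠ 1 := by
      intro e
      apply haz
      have e2 : z * (z * a) = z := by rw [e, mul_one]
      rw [← mul_assoc, h.core.elemZ z hz, one_mul] at e2
      exact e2
    have hcomm : a * z = z * a := h.core.elemZ.comm haZ hz
    have hxa : x * a * x⁻¹ = z * a := by
      rcases mem_four h.core.cardZ hz haZ (h.core.x_Z h.xact a haZ) hz1 ha1 (Ne.symm haz) hza1 with e | e | e | e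
      · exact absurd e (conj_ne_one ha1)
      · exfalso
        apply hza1
        apply hxf _ (Z.mul_mem hz haZ)
        have e1 : x * (z * a) * x⁻¹ = (x * z * x⁻¹) * (x * a * x⁻¹) := by group
        rw [e1, e, ← ha, hcomm]
      · exact absurd (hxf a haZ e) ha1
      · exact e
    have hxza : x * (z * a) * x⁻¹ = z := by
      have e1 : x * (z * a) * x⁻¹ = (x * z * x⁻¹) * (x * a * x⁻¹) := by group
      rw [e1, hxa, ← ha, ← mul_assoc, hcomm, mul_assoc, h.core.elemZ a haZ, mul_one]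
    have hta : t * a * t⁻¹ = z * a := key t htS htZ a haZ ha1 haz
    have htz : t * z * t⁻¹ = z := mul_inv_eq_iff_eq_mul.2 (hzS t htS)
    have htza : t * (z * a) * t⁻¹ = a := by
      have e1 : t * (z * a) * t⁻¹ = (t * z * t⁻¹) * (t * a * t⁻¹) := by group
      rw [e1, hta, htz, ← mul_assoc, h.core.elemZ z hz, one_mul]
    have gz : t⁻¹ * x * t * x * z * (t⁻¹ * x * t * x)⁻¹ = z := by
      calc t⁻¹ * x * t * x * z * (t⁻¹ * x * t * x)⁻¹ = t⁻¹ * (x * (t * (x * z * x⁻¹) * t⁻¹) * x⁻¹) * t := by group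
        _ = t⁻¹ * z * t := by rw [← ha, hta, hxza]
        _ = t⁻¹ * (t * z * t⁻¹) * t := by rw [htz]
        _ = z := by group
    have ga : t⁻¹ * x * t * x * a * (t⁻¹ * x * t * x)⁻¹ = a := by
      calc t⁻¹ * x * t * x * a * (t⁻¹ * x * t * x)⁻¹ = t⁻¹ * (x * (t * (x * a * x⁻¹) * t⁻¹) * x⁻¹) * t := by group
        _ = t⁻¹ * (z * a) * t := by rw [hxa, htza, hxa]
        _ = t⁻¹ * (t * a * t⁻¹) * t := by rw [hta]
        _ = a := by group
    intro y hy
    have gz' := mul_inv_eq_iff_eq_mul.1 gz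
    have ga' := mul_inv_eq_iff_eq_mul.1 ga
    rcases mem_four h.core.cardZ hz haZ hy hz1 ha1 (Ne.symm haz) hza1 with rfl | rfl | rfl | rfl
    · simp
    · exact gz'
    · exact ga'
    · have e1 : t⁻¹ * x * t * x * (z * a) = (t⁻¹ * x * t * x * z) * a := by group
      rw [e1, gz', mul_assoc, ga', ← mul_assoc]
  have : Fintype h.C1 := Fintype.ofFinite _
  have hcl : ∀ k ∈ h.C1, t⁻¹ * x * t * k * x ∈ h.C1 := by
    intro k hk
    have h1 : t⁻¹ * x * t * x ∈ h.C1 := by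
      refine h.mem_C1.2 ⟨?_, hinv⟩
      have : t⁻¹ * x * t * x ∈ M := M.mul_mem (M.mul_mem (M.mul_mem (M.inv_mem (h.S_le_M htS)) h.x_mem_M)
        (h.S_le_M htS)) h.x_mem_M
      exact h.M_norm _ this
    have h2 := h.C1_norm x⁻¹ (M.inv_mem h.x_mem_M) k hk
    have e : t⁻¹ * x * t * k * x = (t⁻¹ * x * t * x) * (x⁻¹ * k * x⁻¹⁻¹) := by group
    rw [e]
    exact h.C1.mul_mem h1 h2
  let f : Function.End h.C1 := fun k => ⟨t⁻¹ * x * t * k * x, hcl k k.2⟩
  have hf : ∀ n : ℕ, ∀ k : h.C1, ((f ^ n : Function.End h.C1) k : G) = t⁻¹ * x ^ n * t * k * x ^ n := by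
    intro n
    induction n with
    | zero => intro k; simp; rfl
    | succ n ih =>
      intro k
      have e1 : (f ^ (n + 1) : Function.End h.C1) k = f ((f ^ n : Function.End h.C1) k) := by
        rw [pow_succ']; rfl
      rw [e1]
      show t⁻¹ * x * t * ((f ^ n : Function.End h.C1) k : G) * x = _
      rw [ih, pow_succ]
      group
  have h3 : f ^ 3 ^ 1 = 1 := by
    funext k
    apply Subtype.ext
    rw [hf, pow_one]
    have e1 : x ^ 3 = 1 := by rw [← h.xact.three]; exact pow_orderOf_eq_one x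
    rw [e1]
    show t⁻¹ * 1 * t * (k : G) * 1 = k
    group
  have : Fact (Nat.Prime 3) := ⟨Nat.prime_three⟩
  have h4 := Equiv.Perm.card_fixedPoints_modEq (f := f) (p := 3) (n := 1) h3
  rw [← Nat.card_eq_fintype_card, h128] at h4
  have h5 : 0 < Fintype.card (Function.fixedPoints f) := by
    rcases Nat.eq_zero_or_pos (Fintype.card (Function.fixedPoints f)) with h6 | h6
    · rw [h6] at h4
      exact absurd h4 (by decide)
    · exact h6
  obtain ⟨k, hk⟩ := (Fintype.card_pos_iff.1 h5)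
  have hk' : t⁻¹ * x * t * (k : G) * x = k := congrArg Subtype.val (show f k = k from hk)
  refine ⟨t * k, S.mul_mem htS (h.C1_le_S k.2), ?_, ?_⟩
  · calc x * (t * k) * x = t * (t⁻¹ * x * t * k * x) := by group
      _ = t * k := by rw [hk']
  · intro hc
    apply htZ
    intro y hy
    have h6 := hc y hy
    have h7 := (h.mem_C1.1 k.2).2 y hy
    have h8 : t * y * k = y * t * k := by
      calc t * y * k = t * (y * k) := by group
        _ = t * (k * y) := by rw [h7]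
        _ = t * k * y := by group
        _ = y * (t * k) := h6
        _ = y * t * k := by group
    exact mul_right_cancel h8

/-- the configuration `c`, `σ` -/
structure CS (h : Four M S T B V W Z x s) (c σ : G) : Prop where
  c_mem : c ∈ h.C1
  c_not : c ∉ B
  xc : x * c = c * x
  cc : c * c = 1
  c_uniq : ∀ d ∈ h.C1, x * d = d * x → d = 1 ∨ d = c
  σ_mem : σ ∈ S
  σ_x : x * σ * x = σ
  σ_Z : ¬ ∀ y ∈ Z, σ * y = y * σ

theorem exists_CS (hTB : ¬ T ≤ B) : ∃ c σ, CS h c σ := by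
  obtain ⟨c, h1, h2, h3, h4, h5⟩ := h.exists_c hTB
  obtain ⟨σ, h6, h7, h8⟩ := h.exists_sigma hTB
  exact ⟨c, σ, h1, h2, h3, h4, h5, h6, h7, h8⟩

omit h

namespace CS

variable {h : Four M S T B V W Z x s} {c σ : G} (k : CS h c σ)

include k

theorem σσ : σ * σ = 1 := by
  have h1 : σ * x = x⁻¹ * σ := by
    calc σ * x = x⁻¹ * (x * σ * x) := by group
      _ = x⁻¹ * σ := by rw [k.σ_x]
  have h2 : x * σ = σ * x⁻¹ := by
    calc x * σ = (x * σ * x) * x⁻¹ := by group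
      _ = σ * x⁻¹ := by rw [k.σ_x]
  have h3 : x * (σ * σ) = σ * σ * x := by
    rw [← mul_assoc, h2, mul_assoc, ← h1, mul_assoc]
  have h4 : σ * σ ∈ h.C1 := h.mem_C1.2 ⟨h.S_norm _ (S.mul_mem k.σ_mem k.σ_mem),
    h.S_mul_Z k.σ_mem k.σ_mem k.σ_Z k.σ_Z⟩
  rcases k.c_uniq _ h4 h3 with h5 | h5
  · exact h5
  · exfalso
    apply k.c_not
    rw [← h5]
    apply h.C1_V h4
    intro v hv
    have e : σ * σ * v * (σ * σ)⁻¹ = σ * (σ * v * σ⁻¹) * σ⁻¹ := by group
    rw [e]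
    rcases h.core.swap (h.S_norm σ k.σ_mem) with h6 | h6
    · exact h6.1 _ (h6.1 v hv)
    · exact h6.2 _ (h6.1 v hv)

theorem σc : σ * c = c * σ := by
  have h1 : σ * x⁻¹ = x * σ := by
    calc σ * x⁻¹ = (x * σ * x) * x⁻¹ := by rw [k.σ_x]
      _ = x * σ := by group
  have h2 : x⁻¹ * σ⁻¹ = σ⁻¹ * x := by
    calc x⁻¹ * σ⁻¹ = (x * σ * x)⁻¹ * x := by group
      _ = σ⁻¹ * x := by rw [k.σ_x]
  have h4 : σ * c * σ⁻¹ ∈ h.C1 := h.C1_norm σ (h.S_le_M k.σ_mem) c k.c_mem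
  have hxc' : x⁻¹ * c = c * x⁻¹ := by
    calc x⁻¹ * c = x⁻¹ * (c * x) * x⁻¹ := by group
      _ = x⁻¹ * (x * c) * x⁻¹ := by rw [k.xc]
      _ = c * x⁻¹ := by group
  have h5 : x * (σ * c * σ⁻¹) = σ * c * σ⁻¹ * x := by
    calc x * (σ * c * σ⁻¹) = (x * σ) * c * σ⁻¹ := by group
      _ = σ * (x⁻¹ * c) * σ⁻¹ := by rw [← h1]; group
      _ = σ * c * (x⁻¹ * σ⁻¹) := by rw [hxc']; group
      _ = σ * c * σ⁻¹ * x := by rw [h2]; group
  rcases k.c_uniq _ h4 h5 with h6 | h6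
  · exfalso
    apply k.c_not
    have h7 : c = 1 := conj_eq_one h6
    rw [h7]
    exact B.one_mem
  · exact mul_inv_eq_iff_eq_mul.1 h6

/-- `C_B(c) = Z` -/
theorem cent_B {b : G} (hb : b ∈ B) (hc : c * b = b * c) : b ∈ Z := by
  obtain ⟨v, hv, w, hw, rfl⟩ := h.core.mem hb
  have hsw := h.C1_swaps k.c_mem k.c_not
  have hcZ := (h.mem_C1.1 k.c_mem).2
  have h1 : (c * v * c⁻¹) * (c * w * c⁻¹) = v * w := by
    have e : (c * v * c⁻¹) * (c * w * c⁻¹) = c * (v * w) * c⁻¹ := by group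
    rw [e]; exact mul_inv_eq_iff_eq_mul.2 hc
  have hv' := hsw.1 v hv
  have hw' := hsw.2 w hw
  -- `v' = c w c⁻¹ ≡ v` mod `Z`
  have h2 : (c * w * c⁻¹)⁻¹ * v ∈ Z := by
    refine h.core.mem_Z.2 ⟨V.mul_mem (V.inv_mem hw') hv, ?_⟩
    have e : (c * w * c⁻¹)⁻¹ * v = ((c * w * c⁻¹)⁻¹ * (c * v * c⁻¹) * (c * w * c⁻¹)) * w⁻¹ := by
      have : v = (c * v * c⁻¹) * (c * w * c⁻¹) * w⁻¹ := by rw [h1]; group
      calc (c * w * c⁻¹)⁻¹ * v = (c * w * c⁻¹)⁻¹ * ((c * v * c⁻¹) * (c * w * c⁻¹) * w⁻¹) := by rw [← this]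
        _ = _ := by group
    rw [e]
    apply W.mul_mem _ (W.inv_mem hw)
    have h3 := h.core.symm.normV (B.inv_mem (h.core.V_le hw')) hv'
    rwa [inv_inv] at h3
  obtain ⟨z, hz, hzv⟩ : ∃ z ∈ Z, v = (c * w * c⁻¹) * z := ⟨_, h2, by group⟩
  have h3 : c * v * c⁻¹ = w * z := by
    rw [hzv]
    have h4 : c * z * c⁻¹ = z := mul_inv_eq_iff_eq_mul.2 (hcZ z hz)
    have h5 : c⁻¹ = c := sq_inv k.cc
    calc c * (c * w * c⁻¹ * z) * c⁻¹ = (c * c) * w * (c⁻¹ * c⁻¹) * (c * z * c⁻¹) := by group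
      _ = w * z := by rw [h4, h5, k.cc]; group
  have h4 : w * v = v * w := by
    have hzw : z * (c * w * c⁻¹) = (c * w * c⁻¹) * z := h.core.Zc hz (h.core.V_le hw')
    calc w * v = w * ((c * w * c⁻¹) * z) := by rw [← hzv]
      _ = w * (z * (c * w * c⁻¹)) := by rw [hzw]
      _ = (w * z) * (c * w * c⁻¹) := by group
      _ = v * w := by rw [← h3, h1]
  rcases h.core.nc v hv w hw h4.symm with h5 | h5
  · have h6 : c * v * c⁻¹ = v := mul_inv_eq_iff_eq_mul.2 (hcZ v h5)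
    have h7 : w ∈ Z := by
      have e : w = (w * z) * z⁻¹ := by group
      rw [e, ← h3, h6]
      exact Z.mul_mem h5 (Z.inv_mem hz)
    exact Z.mul_mem h5 h7
  · have h6 : c * w * c⁻¹ = w := mul_inv_eq_iff_eq_mul.2 (hcZ w h5)
    rw [h6] at hzv
    rw [hzv]
    exact Z.mul_mem (Z.mul_mem h5 hz) h5

/-- elements of `S ∩ C(c)` centralising `Z` -/
theorem mem_or {a : G} (ha : a ∈ S) (hac : a * c = c * a) (haZ : ∀ y ∈ Z, a * y = y * a) :
    a ∈ Z ∨ c * a ∈ Z := by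
  have haC : a ∈ h.C1 := h.mem_C1.2 ⟨h.S_norm a ha, haZ⟩
  by_cases haB : a ∈ B
  · exact Or.inl (k.cent_B haB hac.symm)
  · right
    apply k.cent_B (h.C1_mul k.c_mem haC k.c_not haB)
    rw [mul_assoc, hac]

theorem c_mem_S : c ∈ S := h.C1_le_S k.c_mem

/-- squares of elements of `S ∩ C(c)` -/
theorem sq_mem {z : G} (hz : z ∈ Z) (hzS : ∀ g ∈ S, g * z = z * g)
    (key : ∀ t ∈ S, (¬ ∀ y ∈ Z, t * y = y * t) → ∀ c ∈ Z, c ≠ 1 → c ≠ z → t * c * t⁻¹ = z * c)
    {d : G} (hd : d ∈ S) (hdc : d * c = c * d) : d * d = 1 ∨ d * d = z := by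
  have hZ : ∀ a ∈ Z, a * a = 1 := h.core.elemZ
  have hcZ := (h.mem_C1.1 k.c_mem).2
  by_cases hdZ : ∀ y ∈ Z, d * y = y * d
  · left
    rcases k.mem_or hd hdc hdZ with h1 | h1
    · exact hZ d h1
    · have h2 := hZ _ h1
      calc d * d = (c * c) * (d * d) := by rw [k.cc, one_mul]
        _ = c * (c * d) * d := by group
        _ = c * (d * c) * d := by rw [hdc]
        _ = c * d * (c * d) := by group
        _ = 1 := h2
  · -- `d = a σ`
    set a := d * σ with ha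
    have haS : a ∈ S := S.mul_mem hd k.σ_mem
    have haZ : ∀ y ∈ Z, a * y = y * a := h.S_mul_Z hd k.σ_mem hdZ k.σ_Z
    have hac : a * c = c * a := by rw [ha, mul_assoc, k.σc, ← mul_assoc, hdc, mul_assoc]
    have hda : d = a * σ := by rw [ha, mul_assoc, k.σσ, mul_one]
    have hσ' : σ⁻¹ = σ := sq_inv k.σσ
    -- for `y ∈ Z`, `y σ y σ ∈ {1, z}`
    have hy : ∀ y ∈ Z, y * σ * (y * σ) = 1 ∨ y * σ * (y * σ) = z := by
      intro y hy
      have e : y * σ * (y * σ) = y * (σ * y * σ⁻¹) := by rw [hσ']; group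
      rw [e]
      by_cases hy1 : y = 1
      · left; rw [hy1]; group
      by_cases hyz : y = z
      · left
        rw [hyz, mul_inv_eq_iff_eq_mul.2 (hzS σ k.σ_mem), hZ z hz]
      · right
        rw [key σ k.σ_mem k.σ_Z y hy hy1 hyz, ← mul_assoc, h.core.elemZ.comm hy hz, mul_assoc, hZ y hy, mul_one]
    rcases k.mem_or haS hac haZ with h1 | h1
    · rw [hda]; exact hy a h1
    · have h2 := hy _ h1
      have e : c * a * σ * (c * a * σ) = d * d := by
        calc c * a * σ * (c * a * σ) = c * a * (σ * c) * (a * σ) := by group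
          _ = c * (a * c) * σ * (a * σ) := by rw [k.σc]; group
          _ = (c * c) * (a * σ) * (a * σ) := by rw [hac]; group
          _ = d * d := by rw [k.cc, one_mul, ← hda]
      rwa [e] at h2

/-- 2-subgroups of `C(c)` have order at most 16 -/
theorem card_le {R : Subgroup G} (hR : IsPGroup 2 R) (hRc : R ≤ centralizer ({c} : Set G)) : Nat.card R ≤ 16 := by
  obtain ⟨z, hz, hz1, hzS, key⟩ := h.exists_z0
  let D : Subgroup G := S ⊓ centralizer ({c} : Set G)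
  have hD : ∀ d ∈ D, d ∈ S ∧ d * c = c * d := fun d hd =>
    ⟨(Subgroup.mem_inf.1 hd).1, mem_centralizer_singleton_iff.1 (Subgroup.mem_inf.1 hd).2⟩
  -- `|D| ≤ 16`
  have hD16 : Nat.card D ≤ 16 := by
    have h1 : Nat.card D ≤ 2 * Nat.card (centralizer (Z : Set G) ⊓ D : Subgroup G) := by
      apply card_le_two_mul
      intro a ha b hb haZ hbZ
      have e1 : ¬ ∀ y ∈ Z, a * y = y * a := fun hc => haZ (mem_centralizer_iff.2 fun y hy => (hc y hy).symm)
      have e2 : ¬ ∀ y ∈ Z, b * y = y * b := fun hc => hbZ (mem_centralizer_iff.2 fun y hy => (hc y hy).symm)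
      exact mem_centralizer_iff.2 fun y hy => (h.S_mul_Z (hD a ha).1 (hD b hb).1 e1 e2 y hy).symm
    have h2 : Nat.card (centralizer (Z : Set G) ⊓ D : Subgroup G) ≤
        2 * Nat.card (Z ⊓ (centralizer (Z : Set G) ⊓ D) : Subgroup G) := by
      apply card_le_two_mul
      intro a ha b hb haZ hbZ
      obtain ⟨ha1, ha2⟩ := Subgroup.mem_inf.1 ha
      obtain ⟨hb1, hb2⟩ := Subgroup.mem_inf.1 hb
      have e1 := (k.mem_or (hD a ha2).1 (hD a ha2).2 fun y hy => (mem_centralizer_iff.1 ha1 y hy).symm).resolve_left haZ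
      have e2 := (k.mem_or (hD b hb2).1 (hD b hb2).2 fun y hy => (mem_centralizer_iff.1 hb1 y hy).symm).resolve_left hbZ
      have e3 := Z.mul_mem e1 e2
      have e : c * a * (c * b) = a * b := by
        calc c * a * (c * b) = c * (a * c) * b := by group
          _ = (c * c) * a * b := by rw [(hD a ha2).2]; group
          _ = a * b := by rw [k.cc, one_mul]
      rwa [e] at e3
    have h3 : Nat.card (Z ⊓ (centralizer (Z : Set G) ⊓ D) : Subgroup G) ≤ 4 := by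
      rw [← h.core.cardZ]
      exact Subgroup.card_le_of_le inf_le_left
    omega
  -- `C(z) = S`
  have hCz : ∀ r : G, r * z = z * r → r ∈ S := by
    intro r hr
    have h1 : S ≤ centralizer ({z} : Set G) := fun g hg => mem_centralizer_singleton_iff.2 (hzS g hg)
    have h2 := h.sylS.max _ le_top (h.cent_z hz hz1 hzS) h1
    rw [← h2]
    exact mem_centralizer_singleton_iff.2 hr
  -- `D` is a Sylow 2-subgroup of `C(c)`
  have hDs : IsSyl2 (centralizer ({c} : Set G)) D := by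
    refine ⟨inf_le_right, h.sylS.two.to_le inf_le_left, fun Y hY hY2 hDY => ?_⟩
    by_contra hne
    obtain ⟨r, hrY, hrD, hrn⟩ := exists_normalizing hY2 hDY hne
    apply hrD
    have hrc := hY hrY
    refine Subgroup.mem_inf.2 ⟨?_, hrc⟩
    apply hCz
    -- a square root of `z`
    obtain ⟨y, hy, hy1, hyz⟩ : ∃ y ∈ Z, y ≠ 1 ∧ y ≠ z := by
      by_contra hcon
      push Not at hcon
      have h1 : Z ≤ zpowers z := by
        intro y hy
        by_cases hy1 : y = 1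
        · rw [hy1]; exact one_mem _
        · rw [hcon y hy hy1]; exact mem_zpowers z
      have h2 := Subgroup.card_le_of_le h1
      have h3 : orderOf z ≤ 2 := orderOf_le_of_pow_eq_one (by norm_num) (by rw [pow_two]; exact h.core.elemZ z hz)
      rw [h.core.cardZ, Nat.card_zpowers] at h2
      omega
    have hσ' : σ⁻¹ = σ := sq_inv k.σσ
    have hsq : y * σ * (y * σ) = z := by
      have e : y * σ * (y * σ) = y * (σ * y * σ⁻¹) := by rw [hσ']; group
      rw [e, key σ k.σ_mem k.σ_Z y hy hy1 hyz, ← mul_assoc, h.core.elemZ.comm hy hz, mul_assoc,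
        h.core.elemZ y hy, mul_one]
    have hyσD : y * σ ∈ D := by
      refine Subgroup.mem_inf.2 ⟨S.mul_mem (h.V_le_S (h.core.Z_le_V hy)) k.σ_mem, ?_⟩
      rw [mem_centralizer_singleton_iff, mul_assoc, k.σc, ← mul_assoc, ← (h.mem_C1.1 k.c_mem).2 y hy, mul_assoc]
    have h1 := hD _ (hrn _ hyσD)
    have h2 := k.sq_mem hz hzS key h1.1 h1.2
    have e : r * (y * σ) * r⁻¹ * (r * (y * σ) * r⁻¹) = r * z * r⁻¹ := by rw [← hsq]; group
    rw [e] at h2
    rcases h2 with h2 | h2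
    · exact absurd h2 (conj_ne_one hz1)
    · exact mul_inv_eq_iff_eq_mul.1 h2
  -- all 2-subgroups
  obtain ⟨R', hR', hRR'⟩ := CITGlobalBasic.exists_isSyl2 (centralizer ({c} : Set G)) R hRc hR
  obtain ⟨m, hm, hm2⟩ := CITBasic.IsSyl2.conj hR' hDs
  have h1 := Subgroup.card_le_of_le hRR'
  have h2 : Nat.card D = Nat.card R' := by
    rw [hm2]
    exact Subgroup.card_map_of_injective (MulAut.conj m).injective
  omega

end CS

/-! ### involutions of `T ∖ B` -/

/-- `V_t = {v ∈ V | [v, t] ∈ Z}` -/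
def half (V Z : Subgroup G) (t : G) (hV : ∀ a ∈ V, ∀ b ∈ V, a * b = b * a)
    (hZV : Z ≤ V) : Subgroup G where
  carrier := {v | v ∈ V ∧ (t * v * t⁻¹) * v⁻¹ ∈ Z ∧ t * v * t⁻¹ ∈ V}
  one_mem' := by simp
  mul_mem' := by
    rintro a b ⟨ha, ha', ha''⟩ ⟨hb, hb', hb''⟩
    have e1 : t * (a * b) * t⁻¹ = (t * a * t⁻¹) * (t * b * t⁻¹) := by group
    refine ⟨V.mul_mem ha hb, ?_, ?_⟩
    · have e : t * (a * b) * t⁻¹ * (a * b)⁻¹ = (t * a * t⁻¹ * a⁻¹) * (t * b * t⁻¹ * b⁻¹) := by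
        have h1 : a * (t * b * t⁻¹ * b⁻¹) = (t * b * t⁻¹ * b⁻¹) * a := hV _ ha _ (hZV hb')
        calc t * (a * b) * t⁻¹ * (a * b)⁻¹ = (t * a * t⁻¹) * (t * b * t⁻¹ * b⁻¹) * a⁻¹ := by group
          _ = (t * a * t⁻¹ * a⁻¹) * (a * (t * b * t⁻¹ * b⁻¹)) * a⁻¹ := by group
          _ = (t * a * t⁻¹ * a⁻¹) * (t * b * t⁻¹ * b⁻¹) := by rw [h1]; group
      rw [e]
      exact Z.mul_mem ha' hb'
    · rw [e1]; exact V.mul_mem ha'' hb''
  inv_mem' := by
    rintro a ⟨ha, ha', ha''⟩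
    refine ⟨V.inv_mem ha, ?_, ?_⟩
    · have e : t * a⁻¹ * t⁻¹ * a⁻¹⁻¹ = (t * a * t⁻¹ * a⁻¹)⁻¹ := by
        have h1 : a * (t * a * t⁻¹ * a⁻¹)⁻¹ = (t * a * t⁻¹ * a⁻¹)⁻¹ * a := hV _ ha _ (V.inv_mem (hZV ha'))
        calc t * a⁻¹ * t⁻¹ * a⁻¹⁻¹ = a⁻¹ * ((t * a * t⁻¹ * a⁻¹)⁻¹ * a) := by group
          _ = a⁻¹ * (a * (t * a * t⁻¹ * a⁻¹)⁻¹) := by rw [h1]
          _ = (t * a * t⁻¹ * a⁻¹)⁻¹ := by group
      rw [e]
      exact Z.inv_mem ha'
    · have e : t * a⁻¹ * t⁻¹ = (t * a * t⁻¹)⁻¹ := by group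
      rw [e]; exact V.inv_mem ha''

theorem mem_half {V Z : Subgroup G} {t : G} {hV : ∀ a ∈ V, ∀ b ∈ V, a * b = b * a}
    {hZV : Z ≤ V} {v : G} : v ∈ half V Z t hV hZV ↔ v ∈ V ∧ (t * v * t⁻¹) * v⁻¹ ∈ Z ∧ t * v * t⁻¹ ∈ V := Iff.rfl

section invol

variable {t : G} (ht : t ∈ T) (htB : t ∉ B)

include h ht htB

theorem card_half : Nat.card (half V Z t (fun _ ha _ hb => h.core.elemV.comm ha hb) h.core.Z_le_V) ≤ 8 := by
  set H := half V Z t (fun _ ha _ hb => h.core.elemV.comm ha hb) h.core.Z_le_V with hH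
  have hle : H ≤ V := fun v hv => hv.1
  have h1 : Nat.card H ∣ 16 := by rw [← h.core.cardV]; exact Subgroup.card_dvd_of_le hle
  have h2 : Nat.card H ≠ 16 := by
    intro e
    apply htB
    have h3 : H = V := Subgroup.eq_of_le_of_card_ge hle (by rw [e, h.core.cardV])
    apply h.mem_B' _ (h.T_Z t ht)
    intro v hv
    rw [← h3] at hv
    exact hv.2.1
  have h3 : Nat.card H ∈ Nat.divisors 16 := Nat.mem_divisors.2 ⟨h1, by norm_num⟩
  have h4 : Nat.divisors 16 = {1, 2, 4, 8, 16} := by decide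
  rw [h4] at h3
  simp only [Finset.mem_insert, Finset.mem_singleton] at h3
  omega

theorem Z_le_half : Z ≤ half V Z t (fun _ ha _ hb => h.core.elemV.comm ha hb) h.core.Z_le_V := by
  intro z hz
  have h1 := h.T_Z t ht z hz
  exact ⟨h.core.Z_le_V hz, Z.mul_mem h1 (Z.inv_mem hz), h.core.Z_le_V h1⟩

/-- at most 8 elements `b` of `B` with `(b t)² = 1` -/
theorem card_J (htt : t * t = 1) : Nat.card {b : G // b ∈ B ∧ b * t * (b * t) = 1} ≤ 8 := by
  classical
  set H := half V Z t (fun _ ha _ hb => h.core.elemV.comm ha hb) h.core.Z_le_V with hH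
  set K := half W Z t (fun _ ha _ hb => h.core.elemW.comm ha hb) h.core.Z_le_W with hK
  have hH8 : Nat.card H ≤ 8 := h.card_half ht htB
  have hK8 : Nat.card K ≤ 8 := h.symm.card_half ht htB
  have hZH : Z ≤ H := h.Z_le_half ht htB
  have hZK : Z ≤ K := h.symm.Z_le_half ht htB
  have hn : K ≤ normalizer (H : Set G) := by
    intro w hw
    rw [mem_norm]
    intro v hv
    have h1 := h.core.comm v hv.1 w hw.1
    have e : w * v * w⁻¹ = (v * w * v⁻¹ * w⁻¹)⁻¹ * v := by group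
    rw [e]
    exact H.mul_mem (hZH (Z.inv_mem h1)) hv
  have hHK := T1Tools.card_sup_mul hn
  have h4 : 4 ≤ Nat.card (H ⊓ K : Subgroup G) := by
    rw [← h.core.cardZ]; exact Subgroup.card_le_of_le (le_inf hZH hZK)
  have hP : Nat.card (H ⊔ K : Subgroup G) ≤ 16 := by
    have h5 : Nat.card H * Nat.card K ≤ 64 := Nat.mul_le_mul hH8 hK8
    by_contra hc
    push Not at hc
    have : 17 * 4 ≤ Nat.card (H ⊔ K : Subgroup G) * Nat.card (H ⊓ K : Subgroup G) := Nat.mul_le_mul hc h4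
    omega
  have ht' : t⁻¹ = t := sq_inv htt
  -- `b ∈ J → b ∈ H ⊔ K`
  have hJP : ∀ b ∈ B, b * t * (b * t) = 1 → b ∈ H ⊔ K := by
    intro b hb hbt
    obtain ⟨v, hv, w, hw, rfl⟩ := h.core.mem hb
    have hv' := h.T_V t ht v hv
    have hw' := h.T_W t ht w hw
    have h1 : v * w * ((t * v * t⁻¹) * (t * w * t⁻¹)) = 1 := by
      rw [← hbt]
      calc v * w * (t * v * t⁻¹ * (t * w * t⁻¹)) = v * w * (t * v * w) * t⁻¹ := by group
        _ = v * w * t * (v * w * t) := by rw [ht']; group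
    -- `k = [v', w]`
    have hk := h.core.comm _ hv' w hw
    set k := t * v * t⁻¹ * w * (t * v * t⁻¹)⁻¹ * w⁻¹ with hkd
    have h2 : w * (t * v * t⁻¹) = k⁻¹ * (t * v * t⁻¹) * w := by rw [hkd]; group
    have h3 : v * (k⁻¹ * (t * v * t⁻¹)) = (w * (t * w * t⁻¹))⁻¹ := by
      apply eq_inv_of_mul_eq_one_left
      calc v * (k⁻¹ * (t * v * t⁻¹)) * (w * (t * w * t⁻¹))
          = v * (k⁻¹ * (t * v * t⁻¹) * w) * (t * w * t⁻¹) := by group
        _ = v * (w * (t * v * t⁻¹)) * (t * w * t⁻¹) := by rw [h2]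
        _ = v * w * ((t * v * t⁻¹) * (t * w * t⁻¹)) := by group
        _ = 1 := h1
    have h4 : v * (k⁻¹ * (t * v * t⁻¹)) ∈ Z := by
      refine h.core.mem_Z.2 ⟨V.mul_mem hv (V.mul_mem (h.core.Z_le_V (Z.inv_mem hk)) hv'), ?_⟩
      rw [h3]
      exact W.inv_mem (W.mul_mem hw hw')
    have h5 : v ∈ H := by
      refine ⟨hv, ?_, hv'⟩
      have e : t * v * t⁻¹ * v⁻¹ = (v * (k⁻¹ * (t * v * t⁻¹))) * k := by
        have c1 : v * (t * v * t⁻¹) = (t * v * t⁻¹) * v := h.core.elemV.comm hv hv'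
        have c2 : k⁻¹ * (t * v * t⁻¹) = (t * v * t⁻¹) * k⁻¹ :=
          h.core.elemV.comm (h.core.Z_le_V (Z.inv_mem hk)) hv'
        clear_value k
        calc t * v * t⁻¹ * v⁻¹ = (t * v * t⁻¹) * v := by rw [sq_inv (h.core.elemV v hv)]
          _ = v * (t * v * t⁻¹) := c1.symm
          _ = v * ((t * v * t⁻¹) * k⁻¹) * k := by rw [mul_assoc v, inv_mul_cancel_right]
          _ = (v * (k⁻¹ * (t * v * t⁻¹))) * k := by rw [c2]
      rw [e]
      exact Z.mul_mem h4 hk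
    have h6 : w ∈ K := by
      refine ⟨hw, ?_, hw'⟩
      have h7 : w * (t * w * t⁻¹) ∈ Z := by
        have e : w * (t * w * t⁻¹) = (v * (k⁻¹ * (t * v * t⁻¹)))⁻¹ := by rw [h3, inv_inv]
        rw [e]; exact Z.inv_mem h4
      rw [sq_inv (h.core.elemW w hw), ← h.core.elemW.comm hw hw']
      exact h7
    exact (H ⊔ K).mul_mem (le_sup_left (a := H) h5) (le_sup_right (b := K) h6)
  -- an element of `Z` moved by `t`
  obtain ⟨y, hy, hyt⟩ : ∃ y ∈ Z, t * y ≠ y * t := by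
    by_contra hc
    push Not at hc
    exact htB (h.cent_Z t ht hc)
  -- `J` and `J y` are disjoint
  let P := (H ⊔ K : Subgroup G)
  let f : {b : G // b ∈ B ∧ b * t * (b * t) = 1} ⊕ {b : G // b ∈ B ∧ b * t * (b * t) = 1} → P := fun z =>
    match z with
    | Sum.inl b => ⟨b, hJP b b.2.1 b.2.2⟩
    | Sum.inr b => ⟨b * y, P.mul_mem (hJP b b.2.1 b.2.2) (le_sup_left (a := H) (hZH hy))⟩
  have hdis : ∀ b : G, b ∈ B → b * t * (b * t) = 1 → (b * y) * t * ((b * y) * t) = 1 → False := by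
    intro b hb h1 h2
    apply hyt
    have h3 : y * b = b * y := h.core.Zc hy hb
    have hyt' := h.T_Z t ht y hy
    have h4 : (b * y) * t * ((b * y) * t) = (b * t * (b * t)) * (y * (t * y * t⁻¹)) := by
      have c1 : (t * y * t⁻¹) * b = b * (t * y * t⁻¹) := h.core.Zc hyt' hb
      have c2 : y * (t * b * t⁻¹) = (t * b * t⁻¹) * y := h.core.Zc hy (h.T_norm t ht b hb)
      calc (b * y) * t * ((b * y) * t) = b * (y * (t * b * t⁻¹)) * (t * y * t⁻¹) * (t * t) := by group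
        _ = b * ((t * b * t⁻¹) * y) * (t * y * t⁻¹) := by rw [c2, htt, mul_one]
        _ = b * (t * b * t⁻¹) * (y * (t * y * t⁻¹)) := by group
        _ = (b * t * (b * t)) * (y * (t * y * t⁻¹)) := by
            have : b * (t * b * t⁻¹) = b * t * (b * t) := by rw [ht']; group
            rw [this]
    rw [h1, one_mul] at h4
    rw [h4] at h2
    have h5 : t * y * t⁻¹ = y := by
      have h6 : y * (y * (t * y * t⁻¹)) = y := by rw [h2, mul_one]
      rw [← mul_assoc, h.core.elemZ y hy, one_mul] at h6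
      exact h6
    exact mul_inv_eq_iff_eq_mul.1 h5
  have hf : Function.Injective f := by
    rintro (⟨a, ha⟩ | ⟨a, ha⟩) (⟨b, hb⟩ | ⟨b, hb⟩) hab
    · have : a = b := congrArg Subtype.val hab
      subst this; rfl
    · exfalso
      have h1 : a = b * y := congrArg Subtype.val hab
      exact hdis b hb.1 hb.2 (by rw [← h1]; exact ha.2)
    · exfalso
      have h1 : a * y = b := congrArg Subtype.val hab
      exact hdis a ha.1 ha.2 (by rw [h1]; exact hb.2)
    · have h1 : a * y = b * y := congrArg Subtype.val hab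
      have : a = b := mul_right_cancel h1
      subst this; rfl
  have h7 := Nat.card_le_card_of_injective f hf
  rw [Nat.card_sum] at h7
  have h8 : Nat.card P ≤ 16 := hP
  omega

theorem card_S : 256 ≤ Nat.card S := by
  have h1 := T1Tools.card_mul_relIndex h.T_le
  rw [h.relIndex_T] at h1
  have h2 : Nat.card B ∣ Nat.card T := Subgroup.card_dvd_of_le h.B_le
  have h3 : Nat.card T ≠ Nat.card B := by
    intro e
    have h3 : B = T := Subgroup.eq_of_le_of_card_ge h.B_le (by rw [e])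
    exact htB (h3 ▸ ht)
  have h4 : 0 < Nat.card T := Nat.card_pos
  rw [h.core.card_B] at h2 h3
  obtain ⟨k, hk⟩ := h2
  omega

/-- the centraliser in `S` of an involution of `T ∖ B` has order at least 32 -/
theorem card_cent (htt : t * t = 1) : 32 ≤ Nat.card (S ⊓ centralizer ({t} : Set G) : Subgroup G) := by
  classical
  set K := (S ⊓ centralizer ({t} : Set G) : Subgroup G) with hK
  have h1 := T1Tools.card_mul_relIndex (inf_le_left : K ≤ S)
  have hST : ∀ g ∈ S, g * t * g⁻¹ ∈ T := by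
    intro g hg
    apply h.mem_T (S.mul_mem (S.mul_mem hg (h.T_le ht)) (S.inv_mem hg))
    intro v hv
    have e : g * t * g⁻¹ * v * (g * t * g⁻¹)⁻¹ = g * (t * (g⁻¹ * v * g⁻¹⁻¹) * t⁻¹) * g⁻¹ := by group
    rw [e]
    rcases h.core.swap (h.S_norm g⁻¹ (S.inv_mem hg)) with h2 | h2
    · rcases h.core.swap (h.S_norm g hg) with h3 | h3
      · exact h3.1 _ (h.T_V t ht _ (h2.1 v hv))
      · exfalso
        have h4 := h3.1 _ (h2.1 v hv)
        -- `g` swaps but `g⁻¹` does not: take any `v`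
        obtain ⟨v', hv', hvZ⟩ := h.core.exists_V
        have h5 := h3.1 _ (h2.1 v' hv')
        have e1 : g * (g⁻¹ * v' * g⁻¹⁻¹) * g⁻¹ = v' := by group
        rw [e1] at h5
        exact hvZ (h.core.mem_Z.2 ⟨hv', h5⟩)
    · rcases h.core.swap (h.S_norm g hg) with h3 | h3
      · exfalso
        obtain ⟨v', hv', hvZ⟩ := h.core.exists_V
        have h5 := h3.2 _ (h2.1 v' hv')
        have e1 : g * (g⁻¹ * v' * g⁻¹⁻¹) * g⁻¹ = v' := by group
        rw [e1] at h5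
        exact hvZ (h.core.mem_Z.2 ⟨hv', h5⟩)
      · exact h3.2 _ (h.T_W t ht _ (h2.1 v hv))
  have hSB : ∀ g ∈ S, g * t * g⁻¹ ∉ B := by
    intro g hg hB
    apply htB
    have h2 := h.S_norm g⁻¹ (S.inv_mem hg) _ hB
    have e : g⁻¹ * (g * t * g⁻¹) * g⁻¹⁻¹ = t := by group
    rwa [e] at h2
  have ht' : t⁻¹ = t := sq_inv htt
  have hmem : ∀ g ∈ S, (g * t * g⁻¹) * t ∈ B ∧ (g * t * g⁻¹) * t * t * ((g * t * g⁻¹) * t * t) = 1 := by
    intro g hg
    refine ⟨h.T_mul (hST g hg) ht (hSB g hg) htB, ?_⟩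
    calc (g * t * g⁻¹) * t * t * ((g * t * g⁻¹) * t * t) = (g * t * g⁻¹) * (t * t) * ((g * t * g⁻¹) * (t * t)) := by
          group
      _ = (g * t * g⁻¹) * (g * t * g⁻¹) := by rw [htt, mul_one]
      _ = g * (t * t) * g⁻¹ := by group
      _ = 1 := by rw [htt]; group
  let f : S → {b : G // b ∈ B ∧ b * t * (b * t) = 1} := fun g => ⟨(g * t * (g : G)⁻¹) * t, hmem g g.2⟩
  have hrel : ∀ a b : S, f a = f b ↔ a⁻¹ * b ∈ K.subgroupOf S := by
    intro a b
    rw [Subgroup.mem_subgroupOf]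
    have e0 : f a = f b ↔ (a : G) * t * (a : G)⁻¹ = (b : G) * t * (b : G)⁻¹ := by
      constructor
      · intro hab
        exact mul_right_cancel (congrArg Subtype.val hab)
      · intro hab
        apply Subtype.ext
        show (a : G) * t * (a : G)⁻¹ * t = (b : G) * t * (b : G)⁻¹ * t
        rw [hab]
    rw [e0]
    constructor
    · intro hab
      refine Subgroup.mem_inf.2 ⟨S.mul_mem (S.inv_mem a.2) b.2, ?_⟩
      rw [mem_centralizer_singleton_iff]
      show (a : G)⁻¹ * b * t = t * ((a : G)⁻¹ * b)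
      calc (a : G)⁻¹ * b * t = (a : G)⁻¹ * ((b : G) * t * (b : G)⁻¹) * b := by group
        _ = (a : G)⁻¹ * ((a : G) * t * (a : G)⁻¹) * b := by rw [hab]
        _ = t * ((a : G)⁻¹ * b) := by group
    · intro hab
      have h2 : (a : G)⁻¹ * b * t = t * ((a : G)⁻¹ * b) :=
        mem_centralizer_singleton_iff.1 (Subgroup.mem_inf.1 hab).2
      calc (a : G) * t * (a : G)⁻¹ = a * (t * ((a : G)⁻¹ * b)) * (b : G)⁻¹ := by group
        _ = a * ((a : G)⁻¹ * b * t) * (b : G)⁻¹ := by rw [h2]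
        _ = (b : G) * t * (b : G)⁻¹ := by group
  let F : (S ⧸ K.subgroupOf S) → {b : G // b ∈ B ∧ b * t * (b * t) = 1} :=
    Quotient.lift f (fun a b hab => (hrel a b).2 (QuotientGroup.leftRel_apply.1 hab))
  have hF : Function.Injective F := by
    intro a b
    refine Quotient.inductionOn₂ a b ?_
    intro a b hab
    exact Quotient.sound (QuotientGroup.leftRel_apply.2 ((hrel a b).1 hab))
  have : Finite {b : G // b ∈ B ∧ b * t * (b * t) = 1} := inferInstance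
  have h2 := Nat.card_le_card_of_injective F hF
  have h3 := h.card_J ht htB htt
  have h4 : K.relIndex S ≤ 8 := h2.trans h3
  have h5 := h.card_S ht htB
  nlinarith

end invol

include h

/-- **the end of C1** -/
theorem false_of_ne (hG : IsSimpleGroup G) (hTB : ¬ T ≤ B) : False := by
  obtain ⟨c, σ, k⟩ := h.exists_CS hTB
  obtain ⟨g, hg⟩ := h.transfer hG k.cc
  set t := g * c * g⁻¹ with ht
  have htt : t * t = 1 := by
    have e : t * t = g * (c * c) * g⁻¹ := by rw [ht]; group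
    rw [e, k.cc]; group
  have hc1 : c ≠ 1 := fun e => k.c_not (by rw [e]; exact B.one_mem)
  have ht1 : t ≠ 1 := conj_ne_one hc1
  by_cases htB : t ∈ B
  · have h1 := h.cent_B htB ht1 htt
    have h2 : IsPGroup 2 (centralizer ({c} : Set G)) := isPGroup_cent_conj (g := g⁻¹) (by rw [ht]; group) h1
    exact not_two_of_three h.xact.three k.xc h2
  · have h1 := h.card_cent hg htB htt
    let K := (S ⊓ centralizer ({t} : Set G) : Subgroup G)
    let R : Subgroup G := K.map (MulAut.conj g⁻¹).toMonoidHom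
    have hR : IsPGroup 2 R := (h.sylS.two.to_le inf_le_left : IsPGroup 2 K).map _
    have hRc : R ≤ centralizer ({c} : Set G) := by
      rintro _ ⟨y, hy, rfl⟩
      have hyt : y * t = t * y := mem_centralizer_singleton_iff.1 (Subgroup.mem_inf.1 hy).2
      rw [mem_centralizer_singleton_iff]
      show g⁻¹ * y * g⁻¹⁻¹ * c = c * (g⁻¹ * y * g⁻¹⁻¹)
      calc g⁻¹ * y * g⁻¹⁻¹ * c = g⁻¹ * (y * (g * c * g⁻¹)) * g := by group
        _ = g⁻¹ * ((g * c * g⁻¹) * y) * g := by rw [← ht, hyt]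
        _ = c * (g⁻¹ * y * g⁻¹⁻¹) := by group
    have h2 := k.card_le hR hRc
    have h3 : Nat.card R = Nat.card K := Subgroup.card_map_of_injective (MulAut.conj g⁻¹).injective
    have h4 : 32 ≤ Nat.card K := h1
    omega

/-- **C1, the end `q = 4`** -/
theorem false_of_four (hG : IsSimpleGroup G) (h6 : ∃ g : G, orderOf g = 6) : False := by
  by_cases hTB : T ≤ B
  · exact h.false_of_eq hG hTB h6
  · exact h.false_of_ne hG hTB

end Four

end Cfsg.Agent.OddCyclic.COneEnd
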