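import Cfsg.Agent.OddCyclic.FFOuterPerm

/-!
# `S₅` generated by transvections: `V = C_V(S₅) × ⟨e i j⟩`
-/

set_option autoImplicit false
set_option linter.unusedSectionVars false

namespace Cfsg.Agent.OddCyclic.COneEv

open Equiv Cfsg.Agent.OddCyclic.T1Module Cfsg.Agent.OddCyclic.FFBasic Cfsg.Agent.OddCyclic.FFRed Cfsg.Agent.OddCyclic.FFSl2
open Cfsg.Agent.OddCyclic.FFOuterPerm

variable {V : Type*} [CommGroup V] [Finite V] {ρ : Perm (Fin 5) →* MulAut V} {e : Fin 5 → Fin 5 → V}

/-- the product of the `e 0 i`, `i ∈ f` -/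
def gg (e : Fin 5 → Fin 5 → V) (f : Fin 5 → Bool) : V := ∏ i, if f i then e 0 i else 1

def ev (f : Fin 5 → Bool) : Bool := xor (f 0) (xor (f 1) (xor (f 2) (xor (f 3) (f 4))))

def dl (i : Fin 5) : Fin 5 → Bool := fun m => decide (m = i)

def xr (f g : Fin 5 → Bool) : Fin 5 → Bool := fun i => xor (f i) (g i)

theorem sq (hV : ∀ v : V, v * v = 1) (f : Fin 5 → Bool) : gg e f * gg e f = 1 := hV _

theorem gg_xr (hV : ∀ v : V, v * v = 1) (f g : Fin 5 → Bool) : gg e (xr f g) = gg e f * gg e g := by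
  unfold gg
  rw [← Finset.prod_mul_distrib]
  apply Finset.prod_congr rfl
  intro i _
  unfold xr
  cases f i <;> cases g i <;> simp [hV]

theorem gg_dl (i : Fin 5) : gg e (dl i) = e 0 i := by
  unfold gg dl
  simp [Finset.prod_ite_eq']

theorem e_eq (h : Ev ρ e) (hV : ∀ v : V, v * v = 1) (i j : Fin 5) : e i j = gg e (xr (dl i) (dl j)) := by
  rw [gg_xr hV, gg_dl, gg_dl, h.symm 0 i, h.add]

theorem pow_bool (hV : ∀ v : V, v * v = 1) (y : V) {f : Fin 5 → Bool} (hf : ev f = false) :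
    (∏ i, if f i then y else 1) = 1 := by
  rw [Fin.prod_univ_five]
  unfold ev at hf
  have h1 := hV y
  have h2 : y * y * (y * y) = 1 := by rw [h1, one_mul]
  revert hf
  cases f 0 <;> cases f 1 <;> cases f 2 <;> cases f 3 <;> cases f 4 <;> intro hf <;>
    first
    | exact absurd hf (by decide)
    | simp [mul_assoc, h1]

theorem act_gg (h : Ev ρ e) (hV : ∀ v : V, v * v = 1) (σ : Perm (Fin 5)) {f : Fin 5 → Bool} (hf : ev f = false) :
    ρ σ (gg e f) = gg e (fun i => f (σ⁻¹ i)) := by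
  unfold gg
  rw [map_prod]
  have h1 : ∀ i, ρ σ (if f i then e 0 i else 1) =
      (if f i then e 0 (σ 0) else 1) * (if f i then e 0 (σ i) else 1) := by
    intro i
    cases f i
    · simp
    · simp only [if_true]
      rw [h.act, h.symm 0 (σ 0), h.add]
  rw [Finset.prod_congr rfl fun i _ => h1 i, Finset.prod_mul_distrib, pow_bool hV _ hf, one_mul]
  symm
  apply Fintype.prod_equiv σ⁻¹
  intro i
  simp

theorem swap_xr : ∀ (a b : Fin 5) (f : Fin 5 → Bool), f a ≠ f b →
    (fun i => f ((swap a b)⁻¹ i)) = xr f (xr (dl a) (dl b)) := by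
  intro a b f hab
  funext i
  unfold xr dl
  rw [swap_inv]
  by_cases h1 : i = a
  · subst h1
    rw [swap_apply_left]
    have hne : i ≠ b := fun h => hab (by rw [h])
    revert hab
    simp only [decide_true, decide_eq_false hne]
    cases f i <;> cases f b <;> simp
  · by_cases h2 : i = b
    · subst h2
      rw [swap_apply_right]
      revert hab
      simp only [decide_true, decide_eq_false h1]
      cases f i <;> cases f a <;> simp
    · rw [swap_apply_of_ne_of_ne h1 h2]
      simp only [decide_eq_false h1, decide_eq_false h2]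
      simp

/-- an even subset fixed by everything is empty -/
theorem eq_false (h : Ev ρ e) (hV : ∀ v : V, v * v = 1) {f : Fin 5 → Bool} (hf : ev f = false)
    (hfix : gg e f ∈ CS ρ ⊤) : ∀ i, f i = false := by
  have h1 : ∀ a b, f a = f b := by
    intro a b
    by_contra hab
    have h2 : ρ (swap a b) (gg e f) = gg e f := hfix _ (Subgroup.mem_top _)
    rw [act_gg h hV _ hf, swap_xr a b f hab, gg_xr hV, ← e_eq h hV] at h2
    exact h.ne a b (fun h3 => hab (by rw [h3])) (mul_eq_left.1 h2)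
  intro i
  rw [h1 i 0]
  unfold ev at hf
  rw [h1 1 0, h1 2 0, h1 3 0, h1 4 0] at hf
  revert hf
  cases f 0 <;> simp

theorem exists_four : ∀ f : Fin 5 → Bool, ev f = false → ∃ i j k l, f = xr (xr (dl i) (dl j)) (xr (dl k) (dl l)) := by
  decide +kernel

theorem ev_pair : ∀ i j k l, ev (xr (xr (dl i) (dl j)) (xr (dl k) (dl l))) = false := by decide +kernel

theorem indep (h : Ev ρ e) (hV : ∀ v : V, v * v = 1) {i j k l : Fin 5} (hfix : e i j * e k l ∈ CS ρ ⊤) :
    e i j * e k l = 1 := by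
  rw [e_eq h hV, e_eq h hV, ← gg_xr hV] at hfix ⊢
  have h1 := eq_false h hV (ev_pair i j k l) hfix
  unfold gg
  apply Finset.prod_eq_one
  intro m _
  rw [h1 m]; rfl

theorem ne_pair (h : Ev ρ e) (hV : ∀ v : V, v * v = 1) : e 0 1 ≠ e 2 3 := by
  intro h0
  have h1 : gg e (xr (xr (dl 0) (dl 1)) (xr (dl 2) (dl 3))) ∈ CS ρ ⊤ := by
    rw [gg_xr hV, ← e_eq h hV, ← e_eq h hV, h0, hV]
    exact one_mem _
  exact absurd (eq_false h hV (ev_pair 0 1 2 3) h1 0) (by decide)

theorem card_even : Fintype.card {f : Fin 5 → Bool // ev f = false} = 16 := by decide +kernel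

theorem ev_xr : ∀ f g : Fin 5 → Bool, ev f = false → ev g = false → ev (xr f g) = false := by
  intro f g hf hg
  unfold ev xr at *
  revert hf hg
  cases f 0 <;> cases f 1 <;> cases f 2 <;> cases f 3 <;> cases f 4 <;> cases g 0 <;> cases g 1 <;> cases g 2 <;>
    cases g 3 <;> cases g 4 <;> decide

/-- `V = C_V(S₅) × ⟨e i j⟩` -/
theorem dec (h : Ev ρ e) (hV : ∀ v : V, v * v = 1)
    (h2 : ∀ i j : Fin 5, i ≠ j → (fx ρ (swap i j)).index = 2) (v : V) :
    ∃ c ∈ CS ρ ⊤, ∃ i j k l, v = c * (e i j * e k l) := by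
  let F : {f : Fin 5 → Bool // ev f = false} → V ⧸ CS ρ ⊤ := fun f => QuotientGroup.mk (gg e f.1)
  have hF : Function.Injective F := by
    rintro ⟨f, hf⟩ ⟨g, hg⟩ hfg
    have h3 : (gg e f)⁻¹ * gg e g ∈ CS ρ ⊤ := QuotientGroup.eq.1 hfg
    rw [inv_eq_self hV, ← gg_xr hV] at h3
    have h4 := eq_false h hV (ev_xr f g hf hg) h3
    apply Subtype.ext
    funext i
    have h5 := h4 i
    unfold xr at h5
    revert h5
    change (f i ^^ g i) = false → f i = g i
    cases f i <;> cases g i <;> simp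
  have hbij : Function.Bijective F := by
    have h3 : Nat.card (V ⧸ CS ρ ⊤) ≤ Nat.card {f : Fin 5 → Bool // ev f = false} := by
      rw [Nat.card_eq_fintype_card (α := {f : Fin 5 → Bool // ev f = false}), card_even]
      exact index_top h2
    exact hF.bijective_of_nat_card_le h3
  obtain ⟨⟨f, hf⟩, hfv⟩ := hbij.2 (QuotientGroup.mk v)
  have h3 : (gg e f)⁻¹ * v ∈ CS ρ ⊤ := QuotientGroup.eq.1 hfv
  obtain ⟨i, j, k, l, hijkl⟩ := exists_four f hf
  refine ⟨_, h3, i, j, k, l, ?_⟩
  rw [e_eq h hV i j, e_eq h hV k l, ← gg_xr hV, ← hijkl, mul_comm (gg e f)⁻¹ v, inv_mul_cancel_right]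

end Cfsg.Agent.OddCyclic.COneEv
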