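import Cfsg.Agent.OddCyclic.RedFFDefs
import Cfsg.Agent.Lib.SylowNormalInf

/-!
# S0342 (D): the group `X = H / C_H(W)` with a unique maximal subgroup over its Sylow 2-subgroup

`XM ρ T Mb`: `X` acts faithfully on the elementary abelian 2-group `V`, `O₂(X) = 1`, `T` is a Sylow 2-subgroup of `X`
and every proper subgroup of `X` containing `T` lies in `Mb < X`.
-/

set_option autoImplicit false
set_option linter.unusedSectionVars false

namespace Cfsg.Agent.OddCyclic.COneX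

open Subgroup
open Cfsg.Agent.OddCyclic.T1Module Cfsg.Agent.OddCyclic.FFBasic Cfsg.Agent.OddCyclic.FFRed
open Cfsg.Agent.OddCyclic.RedFFDefs

variable {X : Type*} [Group X] {V : Type*} [CommGroup V]

/-- the standing hypotheses -/
structure XM (ρ : X →* MulAut V) (T : Sylow 2 X) (Mb : Subgroup X) : Prop where
  sq : ∀ v : V, v * v = 1
  inj : Function.Injective ρ
  core : ∀ D : Subgroup X, D.Normal → IsPGroup 2 D → D = ⊥
  ne : Mb ≠ ⊤
  min : ∀ Y : Subgroup X, (T : Subgroup X) ≤ Y → Y ≠ ⊤ → Y ≤ Mb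

variable {ρ : X →* MulAut V} {T : Sylow 2 X} {Mb : Subgroup X}

/-- a normal subgroup of even order covers `X / T` -/
theorem XM.sup_eq [Finite X] (h : XM ρ T Mb) {N : Subgroup X} (hN : N.Normal)
    (hT : N ⊓ (T : Subgroup X) ≠ ⊥) : N ⊔ (T : Subgroup X) = ⊤ := by
  by_contra hne
  have h2p : Fact (Nat.Prime 2) := ⟨Nat.prime_two⟩
  have hNM : N ≤ Mb := (le_sup_left : N ≤ N ⊔ (T : Subgroup X)).trans (h.min _ le_sup_right hne)
  have hTM : (T : Subgroup X) ≤ Mb := (le_sup_right : (T : Subgroup X) ≤ N ⊔ (T : Subgroup X)).trans (h.min _ le_sup_right hne)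
  -- Frattini
  have h3 := Cfsg.Agent.Lib.SylowNormalInf.normalizer_inf_sup_eq_top T N
  have h4 : (T : Subgroup X) ≤ normalizer (((T : Subgroup X) ⊓ N : Subgroup X) : Set X) :=
    (le_inf le_normalizer (le_top.trans (Subgroup.normalizer_eq_top N).ge)).trans inf_normalizer_le_normalizer_inf
  have h5 : normalizer (((T : Subgroup X) ⊓ N : Subgroup X) : Set X) = ⊤ := by
    by_contra h6
    apply h.ne
    rw [eq_top_iff, ← h3]
    exact sup_le (h.min _ h4 h6) hNM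
  have h6 := h.core _ (normalizer_eq_top_iff.1 h5) (T.isPGroup'.to_le inf_le_left)
  rw [inf_comm] at hT
  exact hT h6

/-- the outcome of the X-level analysis -/
def OutX (ρ : X →* MulAut V) (T : Sylow 2 X) : Prop :=
  Group.IsSolvable X ∨
  (∃ L : Subgroup X, L.Normal ∧ ∃ (F : Type) (_ : Field F) (_ : Fintype F), CharP F 2 ∧ 4 ≤ Fintype.card F ∧
    Nonempty (L ≃* Matrix.SpecialLinearGroup (Fin 2) F) ∧ (CS ρ L).index = Fintype.card F ^ 2 ∧
    ∀ A : Subgroup X, BO ρ A → A ≠ ⊥ → A ≤ T → A ≤ L ∧ Nat.card A = Fintype.card F ∧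
      (CS ρ A).index = Fintype.card F ∧ ∀ a ∈ A, a ≠ 1 → fx ρ a = CS ρ A) ∨
  ∃ e : X ≃* Equiv.Perm (Fin 5), (∀ i j : Fin 5, i ≠ j → (fx ρ (e.symm (Equiv.swap i j))).index = 2) ∧
    (∀ x : X, x ∈ T ↔ e x ∈ closure {Equiv.swap 0 1, Equiv.swap 2 3, Equiv.swap 0 2 * Equiv.swap 1 3}) ∧
    ∀ A : Subgroup X, BO ρ A → A ≠ ⊥ → A ≤ T → ∀ a ∈ A, e a ∈ closure {Equiv.swap 0 1, Equiv.swap 2 3}

end Cfsg.Agent.OddCyclic.COneX
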