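import Cfsg.Agent.OddCyclic.COneLinE
import Cfsg.Agent.OddCyclic.COneX
import Cfsg.Agent.LieExceptional.CITFFLocal

/-!
# S0342 (D): the action of `H` on `W = zl T H`

`AD T H ρ π ι`: `X` is the group induced by `H` on `W = zl T H`.
-/

set_option autoImplicit false
set_option linter.unusedSectionVars false

namespace Cfsg.Agent.OddCyclic.COneFF

open Subgroup Cfsg Cfsg.Agent.ZN
open Cfsg.Agent.MinSimple
open Cfsg.Agent.PLocal.ThompsonJ
open Cfsg.Agent.OddCyclic.T1Defs Cfsg.Agent.OddCyclic.COneDefs Cfsg.Agent.OddCyclic.COneBase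
open Cfsg.Agent.OddCyclic.COneLinB
open Cfsg.Agent.OddCyclic.T1Module Cfsg.Agent.OddCyclic.FFBasic Cfsg.Agent.OddCyclic.FFRed
open Cfsg.Agent.OddCyclic.COneX

universe u

variable {G : Type u} [Group G] {M T H : Subgroup G} {s : G}

structure AD {X W : Type u} [Group X] [CommGroup W] (T H : Subgroup G) (ρ : X →* MulAut W) (π : H →* X)
    (ι : W →* G) : Prop where
  sq : ∀ w : W, w * w = 1
  inj : Function.Injective ρ
  surj : Function.Surjective π
  ιinj : Function.Injective ι
  mem : ∀ w, ι w ∈ zl T H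
  ex : ∀ g ∈ zl T H, ∃ w, ι w = g
  act : ∀ (x : H) (w : W), ι (ρ (π x) w) = x * ι w * (x : G)⁻¹

@[reducible] def zlComm [Finite G] (hc : IsCharacteristicTwoType G) (h : Conf M T H s) : CommGroup (zl T H) :=
  { (inferInstance : Group (zl T H)) with mul_comm := fun a b => Subtype.ext (zl_comm hc h _ a.2 _ b.2) }

theorem exists_ad [Finite G] (hc : IsCharacteristicTwoType G) (h : Conf M T H s) :
    ∃ (X W : Type u) (_ : Group X) (_ : CommGroup W) (_ : Finite X) (_ : Finite W) (ρ : X →* MulAut W) (π : H →* X)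
      (ι : W →* G), AD T H ρ π ι := by
  let _ : CommGroup (zl T H) := zlComm hc h
  let c := Cfsg.Agent.LieExceptional.CITFFLocal.conjHom H (zl T H)
    (fun m hm x hx => (mem_normalizer_iff.1 (le_normalizer_zl T H hm) x).1 hx)
  have hfin : Finite (MulAut (zl T H)) := inferInstance
  refine ⟨c.range, zl T H, inferInstance, inferInstance, inferInstance, inferInstance, c.range.subtype,
    c.rangeRestrict, (zl T H).subtype, ?_⟩
  exact
  { sq := fun w => Subtype.ext (zl_sq hc h _ w.2)
    inj := c.range.subtype_injective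
    surj := c.rangeRestrict_surjective
    ιinj := (zl T H).subtype_injective
    mem := fun w => w.2
    ex := fun g hg => ⟨⟨g, hg⟩, rfl⟩
    act := fun x w => rfl }

namespace AD

variable {X W : Type u} [Group X] [CommGroup W] {ρ : X →* MulAut W} {π : H →* X} {ι : W →* G}
variable (d : AD T H ρ π ι)

include d

theorem fix_iff (x : H) (w : W) : ρ (π x) w = w ↔ (x : G) * ι w = ι w * x := by
  rw [← d.ιinj.eq_iff, d.act]
  constructor
  · intro h1
    calc (x : G) * ι w = (x * ι w * (x : G)⁻¹) * x := by group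
      _ = ι w * x := by rw [h1]
  · intro h1
    rw [h1]; group

theorem ker (x : H) : π x = 1 ↔ (x : G) ∈ centralizer (zl T H : Set G) := by
  constructor
  · intro h1
    rw [mem_centralizer_iff]
    intro g hg
    obtain ⟨w, rfl⟩ := d.ex g hg
    exact ((d.fix_iff x w).1 (by rw [h1, map_one]; rfl)).symm
  · intro h1
    apply d.inj
    rw [map_one]
    ext w
    exact (d.fix_iff x w).2 (mem_centralizer_iff.1 h1 _ (d.mem w)).symm

omit d in
/-- preimages -/
def pre (π : H →* X) (Y : Subgroup X) : Subgroup G := (Y.comap π).map H.subtype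

omit d in
theorem mem_pre {Y : Subgroup X} {x : G} (hx : x ∈ H) : x ∈ pre π Y ↔ π ⟨x, hx⟩ ∈ Y := by
  constructor
  · rintro ⟨y, hy, hyx⟩
    have : y = ⟨x, hx⟩ := Subtype.ext hyx
    rw [← this]
    exact hy
  · intro h
    exact ⟨⟨x, hx⟩, h, rfl⟩

omit d in
theorem pre_le {Y : Subgroup X} : pre π Y ≤ H := map_subtype_le _

omit d in
theorem pre_norm {Y : Subgroup X} (hY : Y.Normal) : H ≤ normalizer (pre π Y : Set G) := by
  rw [le_normalizer_iff]
  intro h hh x hx
  have hxH := pre_le hx
  rw [mem_pre (H.mul_mem (H.mul_mem hh hxH) (H.inv_mem hh))]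
  rw [mem_pre hxH] at hx
  have h1 := hY.conj_mem _ hx (π ⟨h, hh⟩)
  rw [← map_inv, ← map_mul, ← map_mul] at h1
  exact h1

omit d in
theorem map_pre (hsurj : Function.Surjective π) {Y : Subgroup X} : ((pre π Y).subgroupOf H).map π = Y := by
  ext y
  constructor
  · rintro ⟨x, hx, rfl⟩
    exact (mem_pre x.2).1 hx
  · intro hy
    obtain ⟨x, rfl⟩ := hsurj y
    exact ⟨x, (mem_pre x.2).2 hy, rfl⟩

/-- images -/
theorem mem_map {A : Subgroup G} {a : G} (ha : a ∈ A) (haH : a ∈ H) : π ⟨a, haH⟩ ∈ (A.subgroupOf H).map π :=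
  ⟨⟨a, haH⟩, ha, rfl⟩

theorem card_map [Finite G] {A : Subgroup G} (hA : A ≤ H) :
    Nat.card ((A.subgroupOf H).map π) * Nat.card (A ⊓ centralizer (zl T H : Set G) : Subgroup G) = Nat.card A := by
  have hker : π.ker = (centralizer (zl T H : Set G)).subgroupOf H := by
    ext x
    rw [MonoidHom.mem_ker, mem_subgroupOf]
    exact d.ker x
  have h1 := COneLinB.card_mul_relIndex (inf_le_left : A ⊓ centralizer (zl T H : Set G) ≤ A)
  rw [inf_comm, Subgroup.inf_relIndex_right] at h1
  rw [← Subgroup.relIndex_ker, hker, Subgroup.relIndex_subgroupOf hA, mul_comm, inf_comm]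
  exact h1

/-- fixed points -/
theorem card_CS [Finite G] {A : Subgroup G} (hA : A ≤ H) :
    Nat.card (CS ρ ((A.subgroupOf H).map π)) = Nat.card (zl T H ⊓ centralizer (A : Set G) : Subgroup G) := by
  have h1 : (CS ρ ((A.subgroupOf H).map π)).map ι = zl T H ⊓ centralizer (A : Set G) := by
    ext g
    constructor
    · rintro ⟨w, hw, rfl⟩
      refine ⟨d.mem w, mem_centralizer_iff.2 fun a ha => ?_⟩
      exact (d.fix_iff ⟨a, hA ha⟩ w).1 (hw _ (d.mem_map ha (hA ha)))
    · rintro ⟨hg, hga⟩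
      obtain ⟨w, rfl⟩ := d.ex g hg
      refine ⟨w, ?_, rfl⟩
      rintro _ ⟨a, ha, rfl⟩
      exact (d.fix_iff a w).2 (mem_centralizer_iff.1 hga _ ha)
  rw [← h1, Subgroup.card_map_of_injective d.ιinj]

theorem card_W [Finite G] : Nat.card W = Nat.card (zl T H) := by
  have h1 : (⊤ : Subgroup W).map ι = zl T H := by
    ext g
    constructor
    · rintro ⟨w, -, rfl⟩
      exact d.mem w
    · intro hg
      obtain ⟨w, rfl⟩ := d.ex g hg
      exact ⟨w, mem_top _, rfl⟩
  rw [← h1, Subgroup.card_map_of_injective d.ιinj, Subgroup.card_top]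

theorem index_CS [Finite G] {A : Subgroup G} (hA : A ≤ H) :
    (CS ρ ((A.subgroupOf H).map π)).index = (zl T H ⊓ centralizer (A : Set G)).relIndex (zl T H) := by
  have h1 := (CS ρ ((A.subgroupOf H).map π)).card_mul_index
  have h2 := COneLinB.card_mul_relIndex (inf_le_left : zl T H ⊓ centralizer (A : Set G) ≤ zl T H)
  rw [d.card_CS hA, d.card_W] at h1
  rw [← h2] at h1
  exact Nat.eq_of_mul_eq_mul_left Nat.card_pos h1

/-- the image of `T` is a Sylow 2-subgroup -/
theorem exists_sylow [Finite G] (h : Conf M T H s) : ∃ S : Sylow 2 X, (S : Subgroup X) = (T.subgroupOf H).map π := by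
  have h1 : IsPGroup 2 ((T.subgroupOf H).map π) := (h.cfg.two.comap_of_injective _ H.subtype_injective).map π
  have h2 : ¬ 2 ∣ ((T.subgroupOf H).map π).index := fun h3 =>
    not_dvd h (h3.trans (Subgroup.index_map_dvd _ d.surj))
  exact ⟨h1.toSylow h2, rfl⟩

theorem xm [Finite G] (hc : IsCharacteristicTwoType G) (h : Conf M T H s) {S : Sylow 2 X}
    (hS : (S : Subgroup X) = (T.subgroupOf H).map π) : XM ρ S ((M.subgroupOf H).map π) where
  sq := d.sq
  inj := d.inj
  core := by
    intro D hD hD2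
    have h1 : pre π D ≤ centralizer (zl T H : Set G) := by
      refine Basic.le_centralizer_zl_of_pow h.le h.cfg.two (not_dvd h) pre_le (pre_norm hD) ?_
      intro x hx
      have hxH := pre_le hx
      obtain ⟨k, hk⟩ := hD2 ⟨_, (mem_pre hxH).1 hx⟩
      refine ⟨k, ?_⟩
      have h2 : π (⟨x, hxH⟩ ^ 2 ^ k) = 1 := by
        rw [map_pow]
        exact congrArg Subtype.val hk
      exact (d.ker _).1 h2
    rw [eq_bot_iff]
    intro y hy
    obtain ⟨x, rfl⟩ := d.surj y
    rw [mem_bot, d.ker]
    exact h1 ((mem_pre x.2).2 hy)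
  ne := by
    intro htop
    apply h.notM
    intro x hx
    obtain ⟨m, hm, hmx⟩ : π ⟨x, hx⟩ ∈ (M.subgroupOf H).map π := by rw [htop]; exact mem_top _
    have h1 : π (m⁻¹ * ⟨x, hx⟩) = 1 := by rw [map_mul, map_inv, hmx, inv_mul_cancel]
    have h2 := (d.ker _).1 h1
    have h3 : ((m⁻¹ * ⟨x, hx⟩ : H) : G) ∈ M := inf_cent_zl_le hc h ⟨(m⁻¹ * ⟨x, hx⟩ : H).2, h2⟩
    have h4 : x = (m : G) * ((m⁻¹ * ⟨x, hx⟩ : H) : G) := by
      rw [coe_mul, coe_inv]; group
    rw [h4]
    exact mul_mem hm h3
  min := by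
    intro Y hTY hY y hy
    have h1 : pre π Y ≤ M := by
      refine h.min _ ?_ ?_
      · intro t ht
        rw [mem_pre (h.le ht)]
        exact hTY (hS.ge (d.mem_map ht (h.le ht)))
      · refine lt_of_le_of_ne pre_le fun h2 => hY ?_
        rw [← map_pre d.surj (Y := Y), h2, subgroupOf_self, ← MonoidHom.range_eq_map, MonoidHom.range_eq_top]
        exact d.surj
    obtain ⟨x, rfl⟩ := d.surj y
    exact ⟨x, h1 ((mem_pre x.2).2 hy), rfl⟩

/-- the images of the largest elementary abelian subgroups of `T` are best offenders -/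
theorem bo [Finite G] [Finite X] [Finite W] (hc : IsCharacteristicTwoType G) (h : Conf M T H s) {A : Subgroup G}
    (hA : IsMaxIn T A) : BO ρ ((A.subgroupOf H).map π) := by
  have hAH : A ≤ H := hA.1.trans h.le
  have hA2 := isElementaryAbelian_iff.1 hA.2.1
  have hWT : zl T H ≤ T := (zl_le_o2 hc h).trans (o2_le_T h)
  constructor
  · rintro _ ⟨a, ha, rfl⟩
    rw [← map_mul]
    have h1 : a * a = 1 := by
      apply Subtype.ext
      have := hA2.2 a ha
      rw [pow_two] at this
      exact this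
    rw [h1, map_one]
  · intro B hB
    -- `B' = A ∩ π⁻¹(B)`
    set B' : Subgroup G := A ⊓ pre π B with hB'
    have hB'A : B' ≤ A := inf_le_left
    have hB'H : B' ≤ H := hB'A.trans hAH
    have hBB : (B'.subgroupOf H).map π = B := by
      ext y
      constructor
      · rintro ⟨x, hx, rfl⟩
        exact (mem_pre x.2).1 hx.2
      · intro hy
        obtain ⟨a, ha, rfl⟩ := hB hy
        exact ⟨a, ⟨ha, (mem_pre a.2).2 hy⟩, rfl⟩
    -- `A ∩ C(W) ≤ B'`
    have hcap : B' ⊓ centralizer (zl T H : Set G) = A ⊓ centralizer (zl T H : Set G) := by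
      apply le_antisymm (inf_le_inf_right _ hB'A)
      rintro x ⟨hxA, hxc⟩
      refine ⟨⟨hxA, (mem_pre (hAH hxA)).2 ?_⟩, hxc⟩
      rw [(d.ker ⟨x, hAH hxA⟩).2 hxc]
      exact one_mem _
    have hcA := d.card_map hAH
    have hcB := d.card_map hB'H
    rw [hBB, hcap] at hcB
    have hfA := d.card_CS hAH
    have hfB := d.card_CS hB'H
    rw [hBB] at hfB
    -- the elementary abelian group `B' C_W(B')`
    set D : Subgroup G := zl T H ⊓ centralizer (B' : Set G) with hD
    have hcomm : ∀ x ∈ B', ∀ y ∈ D, x * y = y * x := fun x hx y hy => mem_centralizer_iff.1 hy.2 x hx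
    have hn : B' ≤ normalizer (D : Set G) := le_normalizer_of_comm hcomm
    have hel : IsElementaryAbelian 2 (B' ⊔ D : Subgroup G) := by
      rw [isElementaryAbelian_iff]
      constructor
      · intro x hx y hy
        obtain ⟨a, ha, v, hv, rfl⟩ := exists_mul_of_mem_sup hn hx
        obtain ⟨a', ha', v', hv', rfl⟩ := exists_mul_of_mem_sup hn hy
        have e1 := hA2.1 a (hB'A ha) a' (hB'A ha')
        have e2 := zl_comm hc h v hv.1 v' hv'.1
        have e3 := hcomm a ha v' hv'
        have e4 := hcomm a' ha' v hv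
        calc a * v * (a' * v') = a * (v * a') * v' := by group
          _ = (a * a') * (v * v') := by rw [← e4]; group
          _ = a' * (a * v') * v := by rw [e1, e2]; group
          _ = a' * v' * (a * v) := by rw [e3]; group
      · intro x hx
        obtain ⟨a, ha, v, hv, rfl⟩ := exists_mul_of_mem_sup hn hx
        have e1 := hA2.2 a (hB'A ha)
        have e3 := hcomm a ha v hv
        rw [pow_two] at e1 ⊢
        calc a * v * (a * v) = a * (v * a) * v := by group
          _ = (a * a) * (v * v) := by rw [← e3]; group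
          _ = 1 := by rw [e1, zl_sq hc h v hv.1, one_mul]
    have hle := hA.2.2 (B' ⊔ D) (sup_le (hB'A.trans hA.1) (inf_le_left.trans hWT)) hel
    have h1 := COneLinB.card_mul_relIndex (le_sup_right : D ≤ B' ⊔ D)
    rw [relIndex_sup_of_le_normalizer hn] at h1
    have h2 := COneLinB.card_mul_relIndex (inf_le_left : B' ⊓ D ≤ B')
    rw [inf_comm, Subgroup.inf_relIndex_right] at h2
    have h3 : Nat.card (D ⊓ B' : Subgroup G) ≤ Nat.card (zl T H ⊓ centralizer (A : Set G) : Subgroup G) := by
      apply Subgroup.card_le_of_le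
      rintro x ⟨hxD, hxB⟩
      exact ⟨hxD.1, mem_centralizer_iff.2 fun a ha => hA2.1 a ha x (hB'A hxB)⟩
    -- `|B'| |D| ≤ |A| |C_W(A)|`
    have h4 : Nat.card B' * Nat.card D ≤
        Nat.card A * Nat.card (zl T H ⊓ centralizer (A : Set G) : Subgroup G) := by
      calc Nat.card B' * Nat.card D = Nat.card (D ⊓ B' : Subgroup G) * (Nat.card D * D.relIndex B') := by
            rw [← h2]; ring
        _ = Nat.card (D ⊓ B' : Subgroup G) * Nat.card (B' ⊔ D : Subgroup G) := by rw [h1]
        _ ≤ Nat.card (zl T H ⊓ centralizer (A : Set G) : Subgroup G) * Nat.card A := Nat.mul_le_mul h3 hle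
        _ = _ := mul_comm _ _
    have hpos : 0 < Nat.card (A ⊓ centralizer (zl T H : Set G) : Subgroup G) := Nat.card_pos
    refine Nat.le_of_mul_le_mul_right ?_ hpos
    calc Nat.card B * Nat.card (CS ρ B) * Nat.card (A ⊓ centralizer (zl T H : Set G) : Subgroup G)
        = Nat.card B' * Nat.card D := by rw [hfB, ← hcB]; ring
      _ ≤ Nat.card A * Nat.card (zl T H ⊓ centralizer (A : Set G) : Subgroup G) := h4
      _ = _ := by rw [hfA, ← hcA]; ring

theorem map_ne_bot {A : Subgroup G} (hAH : A ≤ H) (hA : ¬ A ≤ centralizer (zl T H : Set G)) :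
    (A.subgroupOf H).map π ≠ ⊥ := by
  intro h0
  apply hA
  intro a ha
  have h1 := d.mem_map ha (hAH ha)
  rw [h0, mem_bot] at h1
  exact (d.ker _).1 h1

end AD

end Cfsg.Agent.OddCyclic.COneFF
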