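import Cfsg.Agent.OddCyclic.COneXB

/-!
# S0342 (D): `X = H / C_H(W)`: the case `SL₂(q)`
-/

set_option autoImplicit false
set_option linter.unusedSectionVars false

namespace Cfsg.Agent.OddCyclic.COneXL

open Subgroup
open Cfsg.Agent.OddCyclic.T1Module Cfsg.Agent.OddCyclic.FFBasic Cfsg.Agent.OddCyclic.FFRed Cfsg.Agent.OddCyclic.FFSl2
open Cfsg.Agent.OddCyclic.RedFFDefs Cfsg.Agent.OddCyclic.COneX Cfsg.Agent.OddCyclic.COneXA Cfsg.Agent.OddCyclic.COneXB
open Matrix (SpecialLinearGroup)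
open Equiv (swap)

universe u

/-- `A₅` inside `K = S₅` -/
def alt {X : Type*} [Group X] (K : Subgroup X) (e : K ≃* Equiv.Perm (Fin 5)) : Subgroup X :=
  ((alternatingGroup (Fin 5)).comap e.toMonoidHom).map K.subtype

section

variable {X : Type*} [Group X] {K : Subgroup X} {e : K ≃* Equiv.Perm (Fin 5)}

theorem mem_alt {x : X} (hx : x ∈ K) : x ∈ alt K e ↔ e ⟨x, hx⟩ ∈ alternatingGroup (Fin 5) := by
  constructor
  · rintro ⟨y, hy, hyx⟩
    have : y = ⟨x, hx⟩ := Subtype.ext hyx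
    rw [← this]
    exact hy
  · intro h
    exact ⟨⟨x, hx⟩, h, rfl⟩

theorem alt_le : alt K e ≤ K := map_subtype_le _

/-- `A₅ ≃ alt K e` -/
theorem nonempty_alt : Nonempty (alternatingGroup (Fin 5) ≃* alt K e) := by
  have h1 : ((alternatingGroup (Fin 5)).comap e.toMonoidHom).map e.toMonoidHom = alternatingGroup (Fin 5) :=
    map_comap_eq_self_of_surjective e.surjective _
  have e1 : (alternatingGroup (Fin 5)).comap e.toMonoidHom ≃* alternatingGroup (Fin 5) :=
    (Subgroup.equivMapOfInjective _ e.toMonoidHom e.injective).trans (MulEquiv.subgroupCongr h1)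
  have e2 : (alternatingGroup (Fin 5)).comap e.toMonoidHom ≃* alt K e :=
    Subgroup.equivMapOfInjective _ K.subtype K.subtype_injective
  exact ⟨e1.symm.trans e2⟩

theorem card_alt : Nat.card (alt K e) = 60 := by
  obtain ⟨f⟩ := nonempty_alt (e := e)
  rw [← Nat.card_congr f.toEquiv]
  have h1 := nat_card_alternatingGroup (α := Fin 5)
  rw [Nat.card_eq_fintype_card (α := Fin 5), Fintype.card_fin] at h1
  rw [h1]; rfl

theorem simple_alt : IsSimpleGroup (alt K e) := by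
  obtain ⟨f⟩ := nonempty_alt (e := e)
  have := alternatingGroup.isSimpleGroup_five
  exact f.symm.isSimpleGroup

theorem alt_ncomm : ∃ x y : alt K e, x * y ≠ y * x := by
  by_contra hcon
  push Not at hcon
  obtain ⟨f⟩ := nonempty_alt (e := e)
  have h1 : ∀ a ∈ alternatingGroup (Fin 5), ∀ b ∈ alternatingGroup (Fin 5), a * b = b * a := by
    intro a ha b hb
    have h2 := hcon (f ⟨a, ha⟩) (f ⟨b, hb⟩)
    rw [← map_mul, ← map_mul] at h2
    exact congrArg Subtype.val (f.injective h2)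
  have h3 := h1 (swap 0 1 * swap 1 2) (by
    rw [Equiv.Perm.mem_alternatingGroup, map_mul, Equiv.Perm.sign_swap (by decide), Equiv.Perm.sign_swap (by decide)]; rfl)
    (swap 2 3 * swap 3 4) (by
    rw [Equiv.Perm.mem_alternatingGroup, map_mul, Equiv.Perm.sign_swap (by decide), Equiv.Perm.sign_swap (by decide)]; rfl)
  revert h3
  decide

end

variable {X V : Type u} [Group X] [CommGroup V] {ρ : X →* MulAut V} {T : Sylow 2 X} {Mb : Subgroup X}

/-- the output of FFC in the case `S₅` is incompatible with a normal subgroup on which the odd elements act without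
fixed points -/
theorem false_of_five [Finite X] [Finite V] (h : XM ρ T Mb) {L : Subgroup X} (hL : L.Normal)
    (hs : L ⊔ (T : Subgroup X) = ⊤) (hLs : IsSimpleGroup L)
    (hfpf : ∀ y ∈ L, Odd (orderOf y) → y ≠ 1 → fx ρ y ≤ CS ρ L) {K : Subgroup X} (e : K ≃* Equiv.Perm (Fin 5))
    (hn : (alt K e).Normal) (h2 : ∀ i j : Fin 5, i ≠ j → (fx ρ (e.symm (swap i j) : X)).index = 2) : False := by
  have hLe : alt K e = L := eq_of_simple h hL hs hLs hn simple_alt
  obtain ⟨t, ht⟩ : ∃ t : K, t = e.symm (swap 0 1) := ⟨_, rfl⟩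
  obtain ⟨y, hy⟩ : ∃ y : K, y = e.symm (swap 2 3 * swap 3 4) := ⟨_, rfl⟩
  have hty : t * y = y * t := by
    rw [ht, hy, ← map_mul, ← map_mul]
    congr 1
    decide
  have hyL : (y : X) ∈ L := by
    rw [← hLe, mem_alt y.2]
    have : e ⟨y, y.2⟩ = swap 2 3 * swap 3 4 := by rw [hy]; exact e.apply_symm_apply _
    rw [this, Equiv.Perm.mem_alternatingGroup, map_mul, Equiv.Perm.sign_swap (by decide),
      Equiv.Perm.sign_swap (by decide)]
    rfl
  have hy3 : orderOf (y : X) = 3 := by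
    rw [Subgroup.orderOf_coe, hy, MulEquiv.orderOf_eq]
    exact orderOf_eq_prime (p := 3) (by decide) (by decide)
  have hy1 : (y : X) ≠ 1 := by
    intro h0
    rw [h0, orderOf_one] at hy3
    omega
  have hfy := hfpf y hyL (by rw [hy3]; decide) hy1
  have htX : (t : X) * y = y * t := congrArg Subtype.val hty
  have htr : Nat.card (cm ρ (t : X)).range = 2 := by
    rw [card_range_cm, ht]
    exact h2 0 1 (by decide)
  have hKQ : (t : X) ∈ KQ ρ (CS ρ L) (inv_CS hL) := by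
    intro v
    apply hfy
    change ρ (y : X) (ρ (t : X) v * v⁻¹) = ρ (t : X) v * v⁻¹
    have hc : ρ (t : X) v * v⁻¹ ∈ (cm ρ (t : X)).range := ⟨v, cm_apply _ _ _⟩
    have hc' : ρ (y : X) (ρ (t : X) v * v⁻¹) ∈ (cm ρ (t : X)).range :=
      apply_mem_range ρ (z := (y : X)) htX.symm hc
    by_cases h1 : ρ (t : X) v * v⁻¹ = 1
    · rw [h1, map_one]
    · rcases eq_or_of_card_two htr hc h1 hc' with h3 | h3
      · exact absurd ((map_eq_one_iff _ (ρ (y : X)).injective).1 h3) h1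
      · exact h3
  have hna : ∃ x y : L, x * y ≠ y * x := by rw [← hLe]; exact alt_ncomm
  have h4 := cent_of_KQ h hL hLs hna hKQ
  rw [cent_eq_bot h hL hs hLs hna, mem_bot] at h4
  have h5 : t = 1 := Subtype.ext h4
  rw [ht, MulEquiv.map_eq_one_iff] at h5
  exact absurd h5 (by decide)

/-- the module for `OutLin` is natural -/
theorem isNat_of_lin [Finite X] [Finite V] (hV : ∀ v : V, v * v = 1) (hinj : Function.Injective ρ) {A L : Subgroup X}
    (hA : ∀ a ∈ A, a * a = 1) (hAL : A ≤ L) {F : Type} [Field F] [Fintype F] [CharP F 2] (h4 : 4 ≤ Fintype.card F)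
    (e : L ≃* SpecialLinearGroup (Fin 2) F) (hc : Nat.card A = Fintype.card F)
    (hi : (CS ρ A).index = Fintype.card F) :
    IsNat (ρ.comp (L.subtype.comp e.symm.toMonoidHom)) := by
  have hf : Fact (Nat.Prime 2) := ⟨Nat.prime_two⟩
  have hA2 : IsPGroup 2 ((A.subgroupOf L).map e.toMonoidHom) := by
    have h1 : IsPGroup 2 (A.subgroupOf L) := by
      rintro ⟨a, ha⟩
      refine ⟨1, Subtype.ext (Subtype.ext ?_)⟩
      change (a : X) ^ 2 ^ 1 = 1
      rw [pow_one, pow_two]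
      exact hA _ ha
    exact h1.map _
  obtain ⟨U, hU⟩ := hA2.exists_le_sylow
  have hU' : (A.subgroupOf L).map e.toMonoidHom = (U : Subgroup (SpecialLinearGroup (Fin 2) F)) := by
    apply Subgroup.eq_of_le_of_card_ge hU
    rw [Subgroup.card_map_of_injective e.injective, Nat.card_congr (subgroupOfEquivOfLe hAL).toEquiv, hc]
    exact (T1Sl2.card_sylow U).le
  refine isNat_of h4 hV ?_ U ?_
  · obtain ⟨a, ha, ha1⟩ := exists_ne_one U
    by_contra hcon
    push Not at hcon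
    apply ha1
    have h1 : ρ ((e.symm a : L) : X) = 1 := by
      ext v; exact hcon a v
    have h2 : ((e.symm a : L) : X) = 1 := hinj (by rw [h1, map_one])
    have h3 : e.symm a = 1 := Subtype.ext h2
    exact (MulEquiv.map_eq_one_iff e.symm).1 h3
  · rw [← hi]
    apply index_le_of_le
    intro v hv b hb
    rw [← hU'] at hb
    obtain ⟨a, ha, rfl⟩ := hb
    change ρ ((e.symm (e a) : L) : X) v = v
    rw [e.symm_apply_apply]
    exact hv a ha

theorem fpf_of_nat [Finite X] [Finite V] {L : Subgroup X} {F : Type} [Field F] [Fintype F] [CharP F 2]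
    (e : L ≃* SpecialLinearGroup (Fin 2) F) (hn : IsNat (ρ.comp (L.subtype.comp e.symm.toMonoidHom))) {y : X}
    (hy : y ∈ L) (ho : Odd (orderOf y)) (hy1 : y ≠ 1) : fx ρ y ≤ CS ρ L := by
  have h1 : Odd (orderOf (e ⟨y, hy⟩)) := by
    rw [MulEquiv.orderOf_eq, Subgroup.orderOf_mk]; exact ho
  have h2 : e ⟨y, hy⟩ ≠ 1 := fun h => hy1 (congrArg Subtype.val ((MulEquiv.map_eq_one_iff e).1 h))
  intro v hv l hl
  have h3 : v ∈ fx (ρ.comp (L.subtype.comp e.symm.toMonoidHom)) (e ⟨y, hy⟩) := by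
    change ρ ((e.symm (e ⟨y, hy⟩) : L) : X) v = v
    rw [e.symm_apply_apply]
    exact hv
  have h4 := fx_le hn h1 h2 h3 (e ⟨l, hl⟩) (mem_top _)
  change ρ ((e.symm (e ⟨l, hl⟩) : L) : X) v = v at h4
  rwa [e.symm_apply_apply] at h4

theorem ncomm_sl2 {F : Type} [Field F] [Fintype F] [CharP F 2] (h4 : 4 ≤ Fintype.card F) {L : Subgroup X}
    (e : L ≃* SpecialLinearGroup (Fin 2) F) : ∃ x y : L, x * y ≠ y * x := by
  by_contra hcon
  push Not at hcon
  have hs := isSimpleGroup_sl2 (F := F) h4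
  have h2 : Subgroup.center (SpecialLinearGroup (Fin 2) F) = ⊤ := by
    rw [eq_top_iff]
    intro x _
    rw [mem_center_iff]
    intro y
    have h3 := hcon (e.symm y) (e.symm x)
    rw [← map_mul, ← map_mul] at h3
    exact e.symm.injective h3
  rw [center_sl2] at h2
  have h3 := hs.toNontrivial
  exact bot_ne_top h2

theorem card_ne (F : Type) [Field F] [Fintype F] [CharP F 2] (h4 : 4 ≤ Fintype.card F) :
    Nat.card (SpecialLinearGroup (Fin 2) F) ≠ 168 := by
  rw [T1Sl2.card_sl2]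
  obtain ⟨n, hn, hq⟩ := T1Sl2.card_pow F
  rw [hq] at h4 ⊢
  rcases Nat.lt_or_ge n 3 with h5 | h5
  · interval_cases n
    · omega
    · norm_num
  · have h6 : 8 ≤ 2 ^ n := le_trans (by norm_num) (Nat.pow_le_pow_right (n := 2) (by norm_num) h5)
    intro h7
    have h8 : 9 * 8 * 7 ≤ (2 ^ n + 1) * 2 ^ n * (2 ^ n - 1) :=
      Nat.mul_le_mul (Nat.mul_le_mul (by omega) h6) (by omega)
    omega

/-- **the case `SL₂(q)`** -/
theorem lin_case [Finite X] [Finite V] (h : XM ρ T Mb) (hffc : FFC X) {A : Subgroup X} (hA : BO ρ A) (hA1 : A ≠ ⊥)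
    (hAT : A ≤ T) (hl : OutLin ρ A) :
    ∃ L : Subgroup X, L.Normal ∧ ∃ (F : Type) (_ : Field F) (_ : Fintype F), CharP F 2 ∧ 4 ≤ Fintype.card F ∧
    Nonempty (L ≃* Matrix.SpecialLinearGroup (Fin 2) F) ∧ (CS ρ L).index = Fintype.card F ^ 2 ∧
    (∀ y ∈ L, Odd (orderOf y) → y ≠ 1 → fx ρ y ≤ CS ρ L) ∧ L ⊔ (T : Subgroup X) = ⊤ ∧
    ∀ A : Subgroup X, BO ρ A → A ≠ ⊥ → A ≤ T → A ≤ L ∧ Nat.card A = Fintype.card F ∧
      (CS ρ A).index = Fintype.card F ∧ ∀ a ∈ A, a ≠ 1 → fx ρ a = CS ρ A := by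
  obtain ⟨L, hL, hAL, F, _, _, hchar, h4, ⟨e⟩, hcA, hiL, hiA, hfix⟩ := hl
  have hs : L ⊔ (T : Subgroup X) = ⊤ :=
    h.sup_eq hL (fun h0 => hA1 (le_bot_iff.1 (h0 ▸ le_inf hAL hAT)))
  have hn := isNat_of_lin h.sq h.inj hA.sq hAL h4 e hcA hiA
  have hfpf : ∀ y ∈ L, Odd (orderOf y) → y ≠ 1 → fx ρ y ≤ CS ρ L := fun y hy ho hy1 => fpf_of_nat e hn hy ho hy1
  have hLs : IsSimpleGroup L := by
    have := isSimpleGroup_sl2 (F := F) h4
    exact e.isSimpleGroup
  have h2L : 2 ∣ Nat.card L := by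
    obtain ⟨n, hn, hq⟩ := T1Sl2.card_pow F
    have h5 := Subgroup.card_dvd_of_le hAL
    rw [hcA, hq] at h5
    exact (dvd_pow_self 2 hn.ne').trans h5
  refine ⟨L, hL, F, inferInstance, inferInstance, hchar, h4, ⟨e⟩, hiL, hfpf, hs, ?_⟩
  intro B hB hB1 hBT
  rcases hffc V h.sq ρ h.inj h.core B hB hB1 with h5 | h5 | h5 | h5
  · exfalso
    obtain ⟨y, hy3, hyn, -⟩ := h5
    have hy1 : y ≠ 1 := by
      rintro rfl
      rw [orderOf_one] at hy3
      omega
    exact not_normal_odd hL hs hLs h2L (by rw [hy3]; decide) hy1 hyn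
  · obtain ⟨L', hL', hBL, F', _, _, hchar', h4', ⟨e'⟩, hcB, hiL', hiB, hfix'⟩ := h5
    have hLs' : IsSimpleGroup L' := by
      have := isSimpleGroup_sl2 (F := F') h4'
      exact e'.isSimpleGroup
    have hLL := eq_of_simple h hL hs hLs hL' hLs'
    subst hLL
    have hq : Fintype.card F' = Fintype.card F := by
      rw [hiL] at hiL'
      exact (Nat.pow_left_injective (n := 2) (by norm_num) hiL').symm
    rw [hq] at hcB hiB
    exact ⟨hBL, hcB, hiB, hfix'⟩
  · exfalso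
    obtain ⟨K, hBK, e', hn', h2, -⟩ := h5
    exact false_of_five h hL hs hLs hfpf e' hn' h2
  · exfalso
    obtain ⟨L', hL', hBL, hLs', h168⟩ := h5
    have hLL := eq_of_simple h hL hs hLs hL' hLs'
    rw [hLL, Nat.card_congr e.toEquiv] at h168
    exact card_ne F h4 h168

end Cfsg.Agent.OddCyclic.COneXL
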