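import Cfsg.Agent.OddCyclic.COneFF
import Cfsg.Agent.OddCyclic.COneXL

/-!
# S0342 (D): the case `SL₂(q)`: from the offender theorem to `LinD`
-/

set_option autoImplicit false
set_option linter.unusedSectionVars false

namespace Cfsg.Agent.OddCyclic.COneFFL

open Subgroup Cfsg Cfsg.Agent.ZN
open Cfsg.Agent.MinSimple
open Cfsg.Agent.OddCyclic.T1Defs Cfsg.Agent.OddCyclic.COneDefs Cfsg.Agent.OddCyclic.COneBase
open Cfsg.Agent.OddCyclic.T1Module Cfsg.Agent.OddCyclic.FFBasic Cfsg.Agent.OddCyclic.FFRed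
open Cfsg.Agent.OddCyclic.COneX Cfsg.Agent.OddCyclic.COneFF Cfsg.Agent.OddCyclic.COneFF.AD
open Cfsg.Agent.OddCyclic.COneLin
open Matrix (SpecialLinearGroup)

universe u

variable {G : Type u} [Group G] {M T H : Subgroup G} {s : G}
variable {X W : Type u} [Group X] [CommGroup W] {ρ : X →* MulAut W} {π : H →* X} {ι : W →* G}

theorem pi_mem {L : Subgroup X} (n : pre π L) : π ⟨(n : G), pre_le n.2⟩ ∈ L := (mem_pre (pre_le n.2)).1 n.2

/-- the homomorphism `ψ` -/
def psi {L : Subgroup X} {Y : Type*} [Group Y] (e : L ≃* Y) : pre π L →* Y where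
  toFun n := e ⟨π ⟨(n : G), pre_le n.2⟩, pi_mem n⟩
  map_one' := by
    have : (⟨π ⟨((1 : pre π L) : G), pre_le (1 : pre π L).2⟩, pi_mem 1⟩ : L) = 1 := by
      apply Subtype.ext
      exact map_one π
    rw [this, map_one]
  map_mul' a b := by
    rw [← map_mul]
    congr 1
    apply Subtype.ext
    exact map_mul π ⟨(a : G), pre_le a.2⟩ ⟨(b : G), pre_le b.2⟩

theorem psi_apply {L : Subgroup X} {Y : Type*} [Group Y] (e : L ≃* Y) (n : pre π L) :
    psi e n = e ⟨π ⟨(n : G), pre_le n.2⟩, pi_mem n⟩ := rfl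

theorem psi_one_iff {L : Subgroup X} {Y : Type*} [Group Y] (e : L ≃* Y) (n : pre π L) :
    psi e n = 1 ↔ π ⟨(n : G), pre_le n.2⟩ = 1 := by
  rw [psi_apply, MulEquiv.map_eq_one_iff]
  exact ⟨fun h => congrArg Subtype.val h, fun h => Subtype.ext h⟩

theorem lin [Finite G] [Finite X] [Finite W] (hc : IsCharacteristicTwoType G) (h : Conf M T H s)
    (d : AD T H ρ π ι) {S : Sylow 2 X} (hS : (S : Subgroup X) = (T.subgroupOf H).map π) {L : Subgroup X}
    (hL : L.Normal) {F : Type} [Field F] [Fintype F] [CharP F 2] (h4 : 4 ≤ Fintype.card F)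
    (e : L ≃* SpecialLinearGroup (Fin 2) F) (hidx : (CS ρ L).index = Fintype.card F ^ 2)
    (hfpf : ∀ y ∈ L, Odd (orderOf y) → y ≠ 1 → fx ρ y ≤ CS ρ L)
    (hall : ∀ A : Subgroup X, BO ρ A → A ≠ ⊥ → A ≤ S → A ≤ L ∧ Nat.card A = Fintype.card F ∧
      (CS ρ A).index = Fintype.card F ∧ ∀ a ∈ A, a ≠ 1 → fx ρ a = CS ρ A) :
    LinIn T H (pre π L) F (psi e) := by
  have hf : Fact (Nat.Prime 2) := ⟨Nat.prime_two⟩
  have hA : ∀ A, IsMaxIn T A → ¬ A ≤ centralizer (zl T H : Set G) →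
      (A.subgroupOf H).map π ≤ L ∧ Nat.card ((A.subgroupOf H).map π) = Fintype.card F ∧
      (CS ρ ((A.subgroupOf H).map π)).index = Fintype.card F ∧
      ∀ a ∈ (A.subgroupOf H).map π, a ≠ 1 → fx ρ a = CS ρ ((A.subgroupOf H).map π) := by
    intro A hA1 hA2
    refine hall _ (d.bo hc h hA1) (d.map_ne_bot (hA1.1.trans h.le) hA2) ?_
    rw [hS]
    exact Subgroup.map_mono (Subgroup.comap_mono hA1.1)
  -- `S ∩ L` is the image of every `A`
  have hSL : ∀ A, IsMaxIn T A → ¬ A ≤ centralizer (zl T H : Set G) →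
      (S : Subgroup X) ⊓ L = (A.subgroupOf H).map π := by
    intro A hA1 hA2
    obtain ⟨h5, h6, -, -⟩ := hA A hA1 hA2
    symm
    have hle : (A.subgroupOf H).map π ≤ (S : Subgroup X) ⊓ L := by
      refine le_inf ?_ h5
      rw [hS]
      exact Subgroup.map_mono (Subgroup.comap_mono hA1.1)
    apply Subgroup.eq_of_le_of_card_ge hle
    rw [h6]
    have h7 : IsPGroup 2 ((((S : Subgroup X) ⊓ L).subgroupOf L).map e.toMonoidHom) :=
      ((S.isPGroup'.to_le inf_le_left).comap_of_injective _ L.subtype_injective).map _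
    obtain ⟨U, hU⟩ := h7.exists_le_sylow
    have h8 := Subgroup.card_le_of_le hU
    rw [Subgroup.card_map_of_injective e.injective,
      Nat.card_congr (subgroupOfEquivOfLe (inf_le_right : (S : Subgroup X) ⊓ L ≤ L)).toEquiv] at h8
    exact h8.trans (T1Sl2.card_sylow U).le
  obtain ⟨A₀, hA₀, hA₀1⟩ : ∃ A, IsMaxIn T A ∧ ¬ A ≤ centralizer (zl T H : Set G) := by
    by_contra hcon
    push Not at hcon
    exact not_jj_le_cent hc h (jj_le_of_forall fun A hA => hcon A hA)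
  exact
  { le := pre_le
    norm := pre_norm hL
    cent_le := by
      rintro x ⟨hxH, hx⟩
      rw [mem_pre hxH, (d.ker ⟨x, hxH⟩).2 hx]
      exact one_mem _
    four := h4
    surj := by
      intro y
      obtain ⟨l, rfl⟩ := e.surjective y
      obtain ⟨x, hx⟩ := d.surj l
      have hxp : (x : G) ∈ pre π L := (mem_pre x.2).2 (by
        have : (⟨(x : G), x.2⟩ : H) = x := rfl
        rw [this, hx]; exact l.2)
      refine ⟨⟨x, hxp⟩, ?_⟩
      rw [psi_apply]
      congr 1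
      exact Subtype.ext hx
    ker := fun n => by rw [psi_one_iff, d.ker]
    inN := by
      intro A hA1 hA2 a ha
      have haH := h.le (hA1.1 ha)
      rw [mem_pre haH]
      exact (hA A hA1 hA2).1 (d.mem_map ha haH)
    cardA := by
      intro A hA1 hA2
      obtain ⟨h5, h6, -, -⟩ := hA A hA1 hA2
      have h7 : (A.subgroupOf (pre π L)).map (psi e) =
          (((A.subgroupOf H).map π).subgroupOf L).map e.toMonoidHom := by
        ext y
        constructor
        · rintro ⟨n, hn, rfl⟩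
          exact ⟨⟨π ⟨(n : G), pre_le n.2⟩, pi_mem n⟩, d.mem_map hn (pre_le n.2), rfl⟩
        · rintro ⟨l, hl, rfl⟩
          obtain ⟨x, hx, hxl⟩ := hl
          have hxp : (x : G) ∈ pre π L := (mem_pre x.2).2 (by
            have : (⟨(x : G), x.2⟩ : H) = x := rfl
            rw [this, hxl]; exact l.2)
          refine ⟨⟨x, hxp⟩, hx, ?_⟩
          rw [psi_apply]
          exact congrArg e (Subtype.ext hxl)
      rw [h7, Subgroup.card_map_of_injective e.injective, Nat.card_congr (subgroupOfEquivOfLe h5).toEquiv, h6]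
    idx := by
      intro A hA1 hA2
      rw [← d.index_CS (hA1.1.trans h.le)]
      exact (hA A hA1 hA2).2.2.1
    fix := by
      intro a ha haT ha1 w hw haw b hb
      obtain ⟨-, -, -, h8⟩ := hA A₀ hA₀ hA₀1
      have haH := pre_le ha
      have hbH := h.le hb.1
      obtain ⟨v, rfl⟩ := d.ex w hw
      have h9 : π ⟨a, haH⟩ ∈ (A₀.subgroupOf H).map π := by
        rw [← hSL A₀ hA₀ hA₀1]
        exact ⟨hS.ge (d.mem_map haT haH), (mem_pre haH).1 ha⟩
      have h10 : π ⟨b, hbH⟩ ∈ (A₀.subgroupOf H).map π := by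
        rw [← hSL A₀ hA₀ hA₀1]
        exact ⟨hS.ge (d.mem_map hb.1 hbH), (mem_pre hbH).1 hb.2⟩
      have h11 : π ⟨a, haH⟩ ≠ 1 := fun h0 => ha1 ((psi_one_iff e ⟨a, ha⟩).2 h0)
      have h12 : v ∈ fx ρ (π ⟨a, haH⟩) := (d.fix_iff _ _).2 haw
      rw [h8 _ h9 h11] at h12
      exact (d.fix_iff ⟨b, hbH⟩ v).1 (h12 _ h10)
    top := by
      rw [← d.index_CS pre_le, map_pre d.surj]
      exact hidx
    fpf := by
      intro x hx m hm h1 h2 w hw hxw n hn
      obtain ⟨v, rfl⟩ := d.ex w hw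
      have hxH := pre_le hx
      have hy1 : π ⟨x, hxH⟩ ≠ 1 := fun h0 => h2 ((psi_one_iff e ⟨x, hx⟩).2 h0)
      have hym : (π ⟨x, hxH⟩) ^ m = 1 := by
        rw [psi_apply, ← map_pow, MulEquiv.map_eq_one_iff] at h1
        exact congrArg Subtype.val h1
      have ho : Odd (orderOf (π ⟨x, hxH⟩)) := Odd.of_dvd_nat hm (orderOf_dvd_of_pow_eq_one hym)
      have h5 := hfpf _ ((mem_pre hxH).1 hx) ho hy1
      have h6 : v ∈ CS ρ L := h5 ((d.fix_iff _ _).2 hxw)
      exact (d.fix_iff ⟨n, pre_le hn⟩ v).1 (h6 _ ((mem_pre (pre_le hn)).1 hn)) }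

end Cfsg.Agent.OddCyclic.COneFFL
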