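import Cfsg.Agent.MinSimple.CaseOneAP
import Cfsg.Agent.MinSimple.CaseOneCfg
import Cfsg.Agent.MinSimple.DBlkBasic
import Cfsg.Agent.OddCyclic.COneFin

/-!
# Unique maximal 2-local subgroup, nonsolvable 2-local subgroups allowed: the amalgam property

`comm_o2`: if `X` is a 2-local subgroup of a group of characteristic 2 type, `O₂(X)` normalises `B`, and `L ≤ X` is a
dihedral block over `B`, then `[Ω₁(Z(B))^L, L]` lies in `Z(O₂(X))`.

`ap`: in the configuration `Cfg M T s` a block `L` over `B = bau T`, `L ≰ M`, and a conjugate `L ^ t` with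
`[V, V ^ t] ≠ 1` normalise no common nontrivial subgroup of `B`.

`result`: in the configuration `Cfg M T s` a good dihedral block gives 2-rank at most two or a normal subgroup of
index two.
-/

set_option autoImplicit false

namespace Cfsg.Agent.OddCyclic.COneKey

open Subgroup Cfsg Cfsg.Agent.ZN Cfsg.Agent.ZN.ChoiceBase Cfsg.Agent.ZN.ChoiceSit
open Cfsg.Agent.ZN.CaseTwo (Cand Max)
open Cfsg.Agent.MinSimple
open Cfsg.Agent.MinSimple.CaseOneCfg (Cfg GoodBlk)
open Cfsg.Agent.OddCyclic.COneAP (AP)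

universe u

variable {G : Type u} [Group G]

/-- `O₂(X)` centralises `vl B L`. -/
theorem comm_o2 [Finite G] {X B L : Subgroup G} {k : ℕ} (h : IsDBlk B L k) (hLX : L ≤ X)
    (hO : o2 X ≤ normalizer (B : Set G)) {o v : G} (ho : o ∈ o2 X) (hv : v ∈ vl B L) : o * v = v * o := by
  obtain ⟨z, hz, hzv, hz1, hzr, hzu⟩ := DBlkBasic.exists_z h
  have hnO : ∀ l ∈ L, l ∈ normalizer (o2 X : Set G) := fun l hl => FinalBridge.le_normalizer_o2 X (hLX hl)
  have hoN : ∀ p ∈ o2 X, ∀ l ∈ L, ∀ b ∈ B, ∃ b' ∈ B, p * (l * b * l⁻¹) * p⁻¹ = l * b' * l⁻¹ := by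
    intro p hp l hl b hb
    have h1 : l⁻¹ * p * l ∈ o2 X := (mem_normalizer_iff''.1 (hnO l hl) p).1 hp
    refine ⟨(l⁻¹ * p * l) * b * (l⁻¹ * p * l)⁻¹, (mem_normalizer_iff.1 (hO h1) b).1 hb, by group⟩
  -- `O₂(X)` normalises `L`
  have hoL : ∀ p ∈ o2 X, ∀ l ∈ L, p⁻¹ * l * p ∈ L := by
    intro p hp
    obtain ⟨l₀, hl₀, hlz⟩ := DBlkBasic.moves h hzv hz1
    obtain ⟨u, hu, huQ⟩ : ∃ b ∈ B, b ∉ o2 L := by
      by_contra hcon
      push Not at hcon
      have h1 := h.o2_index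
      have h2 : o2 L = B := le_antisymm h.o2_le hcon
      rw [h2, relIndex_self] at h1
      omega
    have h1 : L ≤ L.map (MulAut.conj p).toMonoidHom := by
      refine DBlkBasic.gen h hz hzv hu huQ hl₀ hlz ?_ ?_
      · refine ⟨p⁻¹ * u * p, h.le ?_, by change p * (p⁻¹ * u * p) * p⁻¹ = u; group⟩
        exact (mem_normalizer_iff''.1 (hO hp) u).1 hu
      · intro b hb
        obtain ⟨b', hb', he⟩ := hoN p⁻¹ ((o2 X).inv_mem hp) l₀ hl₀ b hb
        refine ⟨l₀ * b' * l₀⁻¹, mul_mem (mul_mem hl₀ (h.le hb')) (inv_mem hl₀), ?_⟩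
        change p * (l₀ * b' * l₀⁻¹) * p⁻¹ = l₀ * b * l₀⁻¹
        rw [← he]; group
    intro l hl
    obtain ⟨y, hy, he⟩ := h1 hl
    change p * y * p⁻¹ = l at he
    have : p⁻¹ * l * p = y := by rw [← he]; group
    rw [this]; exact hy
  -- `[O₂(X), L] ≤ O₂(L)`
  have hq : ∀ p ∈ o2 X, ∀ l ∈ L, p * l * p⁻¹ * l⁻¹ ∈ o2 L := by
    intro p hp l hl
    have h1 : o2 X ⊓ L ≤ o2 L := by
      refine FinalBridge.le_o2 inf_le_right ((FinalBridge.o2_isPGroup X).to_le inf_le_left) ?_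
      rw [le_normalizer_iff]
      intro g hg x hx
      exact ⟨(mem_normalizer_iff.1 (hnO g hg) x).1 hx.1, L.mul_mem (L.mul_mem hg hx.2) (L.inv_mem hg)⟩
    refine h1 ⟨?_, ?_⟩
    · have h2 : l * p⁻¹ * l⁻¹ ∈ o2 X := (mem_normalizer_iff.1 (hnO l hl) p⁻¹).1 ((o2 X).inv_mem hp)
      have e : p * l * p⁻¹ * l⁻¹ = p * (l * p⁻¹ * l⁻¹) := by group
      rw [e]; exact (o2 X).mul_mem hp h2
    · have h2 := hoL p⁻¹ ((o2 X).inv_mem hp) l hl
      rw [inv_inv] at h2
      exact L.mul_mem h2 (L.inv_mem hl)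
  -- the action of `o` commutes with that of `L` on `zl B L`
  have hact : ∀ p ∈ o2 X, ∀ l ∈ L, ∀ w ∈ zl B L, p * w * p⁻¹ ∈ zl B L →
      p * (l * w * l⁻¹) * p⁻¹ = l * (p * w * p⁻¹) * l⁻¹ := by
    intro p hp l hl w hw hpw
    have h1 : l * (p * w * p⁻¹) * l⁻¹ ∈ zl B L := FinalBridge.zl_conj_of_mem hl hpw
    have h2 := DBlkBasic.o2_comm h (hq p hp l hl) h1
    calc p * (l * w * l⁻¹) * p⁻¹
        = (p * l * p⁻¹ * l⁻¹) * (l * (p * w * p⁻¹) * l⁻¹) * (p * l * p⁻¹ * l⁻¹)⁻¹ := by group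
      _ = l * (p * w * p⁻¹) * l⁻¹ := by rw [h2]; group
  -- `o` fixes `z`
  have hfix : ∀ p ∈ o2 X, p * z * p⁻¹ = z := by
    intro p hp
    obtain ⟨y, hy, -, -, -, hf, hy3⟩ := h.dih
    have hzZ : z ∈ zl B L := FinalBridge.zc_le_zl B L hz
    have hpz : p * z * p⁻¹ ∈ zc B := FinalBridge.zc_conj (hO hp) hz
    have hpzZ : p * z * p⁻¹ ∈ zl B L := FinalBridge.zc_le_zl B L hpz
    set z₁ := y * z * y⁻¹ with hz₁
    set z₂ := y * z₁ * y⁻¹ with hz₂
    have hv₁ : z₁ ∈ vl B L := CaseOneAP.vl_conj hy hzv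
    have hv₂ : z₂ ∈ vl B L := CaseOneAP.vl_conj hy hv₁
    have hZ₁ : z₁ ∈ zl B L := vl_le_zl B L hv₁
    have hZ₂ : z₂ ∈ zl B L := vl_le_zl B L hv₂
    have hy₂ : y * z₂ * y⁻¹ = z := by
      have e := hy3 z hzv
      calc y * z₂ * y⁻¹ = (y * y * y) * z * (y * y * y)⁻¹ := by rw [hz₂, hz₁]; group
        _ = y ^ 3 * z * (y ^ 3)⁻¹ := by rw [pow_succ, pow_two]
        _ = z := e
    have hcm : ∀ a ∈ zl B L, ∀ b ∈ zl B L, a * b = b * a := h.zl_comm
    -- the product of the three involutions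
    have hprod : z * z₁ * z₂ = 1 := by
      apply hf _ (mul_mem (mul_mem hzv hv₁) hv₂)
      calc y * (z * z₁ * z₂) * y⁻¹ = z₁ * z₂ * (y * z₂ * y⁻¹) := by rw [hz₂, hz₁]; group
        _ = z₁ * z₂ * z := by rw [hy₂]
        _ = z * (z₁ * z₂) := hcm _ (mul_mem hZ₁ hZ₂) _ hzZ
        _ = z * z₁ * z₂ := by group
    have e1 : p * z₁ * p⁻¹ = y * (p * z * p⁻¹) * y⁻¹ := hact p hp y hy z hzZ hpzZ
    have h1 : p * z₁ * p⁻¹ ∈ zl B L := by
      rw [e1]; exact FinalBridge.zl_conj_of_mem hy hpzZ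
    have e2 : p * z₂ * p⁻¹ = y * (p * z₁ * p⁻¹) * y⁻¹ := hact p hp y hy z₁ hZ₁ h1
    have hpp : (p * z * p⁻¹) * (p * z₁ * p⁻¹) * (p * z₂ * p⁻¹) = 1 := by
      calc (p * z * p⁻¹) * (p * z₁ * p⁻¹) * (p * z₂ * p⁻¹) = p * (z * z₁ * z₂) * p⁻¹ := by group
        _ = 1 := by rw [hprod]; group
    have hrf : ∀ r ∈ rl B L, y * r * y⁻¹ = r := by
      intro r hr
      have := mem_centralizer_iff.1 hr.2 y hy
      rw [this]; group
    by_cases hr : p * z * p⁻¹ ∈ rl B L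
    · exfalso
      have e3 := hrf _ hr
      rw [e3] at e1
      rw [e1, e3] at e2
      rw [e1, e2] at hpp
      have hsq : (p * z * p⁻¹) * (p * z * p⁻¹) = 1 := DBlkBasic.zl_mul_self h hpzZ
      rw [hsq, one_mul] at hpp
      apply hz1
      calc z = p⁻¹ * (p * z * p⁻¹) * p := by group
        _ = 1 := by rw [hpp]; group
    · have hr' : p * z * p⁻¹ * z ∈ rl B L :=
        CaseOneAP.mul_mem_of_relIndex h.rl_index hpz hz hr hzr
      set r := p * z * p⁻¹ * z with hrd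
      have hzz : z * z = 1 := DBlkBasic.zl_mul_self h hzZ
      have e0 : p * z * p⁻¹ = r * z := by
        rw [hrd]
        calc p * z * p⁻¹ = p * z * p⁻¹ * (z * z) := by rw [hzz, mul_one]
          _ = _ := by group
      have hrr : y * r * y⁻¹ = r := hrf r hr'
      have hrZ : r ∈ zl B L := FinalBridge.zc_le_zl B L hr'.1
      have e3 : p * z₁ * p⁻¹ = r * z₁ := by
        rw [e1, e0]
        calc y * (r * z) * y⁻¹ = (y * r * y⁻¹) * (y * z * y⁻¹) := by group
          _ = r * z₁ := by rw [hrr]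
      have e4 : p * z₂ * p⁻¹ = r * z₂ := by
        rw [e2, e3]
        calc y * (r * z₁) * y⁻¹ = (y * r * y⁻¹) * (y * z₁ * y⁻¹) := by group
          _ = r * z₂ := by rw [hrr]
      rw [e0, e3, e4] at hpp
      have hrsq : r * r = 1 := DBlkBasic.zl_mul_self h hrZ
      have h5 : r * z * (r * z₁) * (r * z₂) = r * (z * z₁ * z₂) := by
        calc r * z * (r * z₁) * (r * z₂) = r * (z * r) * z₁ * (r * z₂) := by group
          _ = r * (r * z) * z₁ * (r * z₂) := by rw [hcm z hzZ r hrZ]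
          _ = (r * r) * (z * z₁) * (r * z₂) := by group
          _ = ((z * z₁) * r) * z₂ := by rw [hrsq]; group
          _ = (r * (z * z₁)) * z₂ := by rw [hcm _ (mul_mem hzZ hZ₁) r hrZ]
          _ = r * (z * z₁ * z₂) := by group
      rw [h5, hprod, mul_one] at hpp
      rw [e0, hpp, one_mul]
  have hconj : ∀ l ∈ L, o * (l * z * l⁻¹) * o⁻¹ = l * z * l⁻¹ := by
    intro l hl
    have h1 := hfix o ho
    rw [hact o ho l hl z (FinalBridge.zc_le_zl B L hz) (by rw [h1]; exact FinalBridge.zc_le_zl B L hz), h1]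
  -- `vl` is generated by conjugates of `z`
  obtain ⟨y, hy, -, -, -, hf, -⟩ := h.dih
  have hle : vl B L ≤ centralizer ({o} : Set G) := by
    refine CaseOneAP.vl_le_of_mem h hzv (CaseOneAP.vl_conj hy hzv) ?_ ?_ hz1 ?_ ?_
    · rw [mem_centralizer_singleton_iff]
      have := hfix o ho
      exact (mul_inv_eq_iff_eq_mul.1 this).symm
    · rw [mem_centralizer_singleton_iff]
      exact (mul_inv_eq_iff_eq_mul.1 (hconj y hy)).symm
    · intro h1
      apply hz1
      have : z = y⁻¹ * (y * z * y⁻¹) * y := by group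
      rw [this, h1]; group
    · intro h1
      exact hz1 (hf z hzv h1.symm)
  exact (mem_centralizer_singleton_iff.1 (hle hv)).symm

/-- `vl B L ≤ O₂(X)` -/
theorem vl_le_o2 [Finite G] (hc : IsCharacteristicTwoType G) {X B L : Subgroup G} {k : ℕ} (hX : IsTwoLocal X)
    (h : IsDBlk B L k) (hLX : L ≤ X) (hO : o2 X ≤ normalizer (B : Set G)) : vl B L ≤ o2 X := by
  intro v hv
  refine ChoiceSit.self_cent hc hX ⟨hLX ?_, mem_centralizer_iff.2 fun o ho => comm_o2 h hLX hO ho hv⟩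
  exact h.le (DBlkBasic.zl_le_B h (vl_le_zl B L hv))

/-- In the configuration, `O₂(X)` normalises `bau T` for every 2-local subgroup `X ≰ M` over `bau T`. -/
theorem o2_le_normalizer [Finite G] {M T X : Subgroup G} {s : G} (hs : Cfg M T s)
    (hX : IsTwoLocal X) (hXM : ¬ X ≤ M) (hB : bau T ≤ X) : o2 X ≤ normalizer (bau T : Set G) := by
  have hBp : IsPGroup 2 (bau T) := hs.two.to_le (ChoiceBase.bau_le T)
  obtain ⟨S, hS, hBS⟩ := exists_syl hBp hB
  have hjne : jj T ≠ ⊥ := CaseTwo.jj_ne_bot hs.two hs.ne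
  set U := S ⊓ M with hU
  have hBU : bau T ≤ U := le_inf hBS ((ChoiceBase.bau_le T).trans hs.TM)
  have hcand : Cand M U := by
    refine ⟨hS.2.1.to_le inf_le_left, fun h0 => hjne ?_, inf_le_right, X, hX, hXM, inf_le_left.trans hS.1⟩
    exact le_bot_iff.1 ((ChoiceBase.jj_le_bau T).trans (hBU.trans h0.le))
  obtain ⟨-, hj, hb, -⟩ := of_key_le hBU (hs.max.2 _ hcand)
  have hNj : normalizer (jj T : Set G) ≤ M :=
    hs.normalizer_le (hs.two.to_le (ChoiceBase.jj_le T)) hjne (hs.A_norm.trans (normalizer_le_jj T))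
  have hSM : U = S := by
    by_contra hne
    obtain ⟨x, hx1, hx2, hx3⟩ := CaseTwo.exists_normalizing hS.2.1 (inf_le_left : U ≤ S) hne
    apply hx2
    refine ⟨hx1, hNj ?_⟩
    rw [← hj]
    exact normalizer_le_jj U hx3
  have hbS : bau S = bau T := by rw [← hb, hSM]
  have h1 : o2 X ≤ S := o2_le_syl hS
  intro o ho
  have h2 : o ∈ normalizer (S : Set G) := le_normalizer (h1 ho)
  rw [← hbS]
  exact normalizer_le_bau S h2

/-- **The amalgam property.** -/
theorem ap [Finite G] (hc : IsCharacteristicTwoType G) {M T L : Subgroup G} {s t z : G} {k : ℕ}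
    (hs : Cfg M T s) (hLM : ¬ L ≤ M) (h : CaseOneAP.Sit (T ⊔ zpowers s) T (bau T) L k z t) :
    AP (bau T) L t := by
  intro R hR h1 h2
  by_contra hR1
  set X := normalizer (R : Set G) with hXd
  have hX : IsTwoLocal X := ⟨R, h.blk.two.to_le hR, hR1, rfl⟩
  have hLX : L ≤ X := le_normalizer_iff.2 h1
  have hLX' : L.map (MulAut.conj t).toMonoidHom ≤ X := by
    rw [hXd, le_normalizer_iff]
    rintro _ ⟨l, hl, rfl⟩ r hr
    exact h2 l hl r hr
  have hXM : ¬ X ≤ M := fun hh => hLM (hLX.trans hh)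
  have hO := o2_le_normalizer hs hX hXM (h.blk.le.trans hLX)
  have htN : t ∈ normalizer (bau T : Set G) := by
    exact (normalizer_le_bau T) (hs.A_norm h.tA)
  have hblk' : IsDBlk (bau T) (L.map (MulAut.conj t).toMonoidHom) k := by
    have h3 := h.blk.conj t
    have h4 : (bau T).map (MulAut.conj t).toMonoidHom = bau T := cj_eq_of_mem_normalizer htN
    rwa [h4] at h3
  obtain ⟨v, hv, u, hu, hne⟩ := h.nc_vl
  apply hne
  have h5 : v ∈ o2 X := vl_le_o2 hc hX h.blk hLX hO hv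
  have h6 : t * u * t⁻¹ ∈ vl (bau T) (L.map (MulAut.conj t).toMonoidHom) := by
    have h3 : vl ((bau T).map (MulAut.conj t).toMonoidHom) (L.map (MulAut.conj t).toMonoidHom) =
        (vl (bau T) L).map (MulAut.conj t).toMonoidHom := vl_map _ (MulAut.conj t).injective _ _
    have h4 : (bau T).map (MulAut.conj t).toMonoidHom = bau T := cj_eq_of_mem_normalizer htN
    rw [h4] at h3
    rw [h3]
    exact ⟨u, hu, rfl⟩
  exact comm_o2 hblk' hLX' hO h5 h6


/-- **Unique maximal 2-local subgroup, dihedral blocks.** -/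
theorem result [Finite G] (hc : IsCharacteristicTwoType G) (hidx : ∀ N : Subgroup G, N.Normal → N.index ≠ 2)
    {M T L : Subgroup G} {s : G} {k : ℕ} (hs : Cfg M T s) (hk : GoodBlk M T L k) : PRankLE 2 2 G := by
  obtain ⟨z, t, hst, htT⟩ := hk.exists_sit hs
  have hfin : COneFin.Fin M T L s k z t := ⟨hs, hk.notM, hst, htT, ap hc hs hk.notM hst⟩
  by_cases hr : ∀ c ∈ rl (bau T) L, c = 1
  · exact hfin.pRankLE hr
  · push Not at hr
    obtain ⟨c, hc, hc1⟩ := hr
    obtain ⟨N, hN, hN2⟩ := hfin.exists_index_two hc hc1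
    exact absurd hN2 (hidx N hN)

end Cfsg.Agent.OddCyclic.COneKey
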