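import Cfsg.Agent.OddCyclic.COneFF
import Cfsg.Agent.OddCyclic.COneKey
import Cfsg.Agent.OddCyclic.RedBlock
import Cfsg.Agent.MinSimple.CaseOneEnd

/-!
# S0342 (D): the case of a solvable `H`
-/

set_option autoImplicit false
set_option linter.unusedSectionVars false

namespace Cfsg.Agent.OddCyclic.COneFFS

open Subgroup Cfsg Cfsg.Agent.ZN
open Cfsg.Agent.MinSimple
open Cfsg.Agent.MinSimple.CaseOneCfg (Cfg GoodBlk)
open Cfsg.Agent.OddCyclic.T1Defs Cfsg.Agent.OddCyclic.COneDefs Cfsg.Agent.OddCyclic.COneBase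
open Cfsg.Agent.OddCyclic.COneFF

universe u

variable {G : Type u} [Group G] {M T H : Subgroup G} {s : G}
variable {X W : Type u} [Group X] [CommGroup W] {ρ : X →* MulAut W} {π : H →* X} {ι : W →* G}

theorem solvable_of [Finite G] (hcyc : OddCyc G) (hc : IsCharacteristicTwoType G) (h : Conf M T H s)
    (d : AD T H ρ π ι) (hX : Group.IsSolvable X) : Group.IsSolvable H := by
  set C : Subgroup G := H ⊓ centralizer (zl T H : Set G) with hC
  have hCH : C ≤ H := inf_le_left
  have hHC : H ≤ normalizer (C : Set G) := norm_cent_zl T H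
  have hTC : T ⊓ C = o2 H := by
    rw [← inf_cent_zl hc h, hC, ← inf_assoc, inf_eq_left.2 h.le]
  have hQC : o2 H ≤ C := by rw [← hTC]; exact inf_le_right
  have hdvd : ¬ 2 ∣ (o2 H).relIndex C := by
    rw [← hTC]
    exact Red.not_dvd_inf h.cfg.two (not_dvd h) hCH hHC
  have hn : ((o2 H).subgroupOf C).Normal :=
    (Subgroup.normal_subgroupOf_iff_le_normalizer hQC).2 (hCH.trans (le_normalizer_o2 H))
  have hCs : Group.IsSolvable C :=
    Red.solvable_of_normal_syl (T1MinPar.oddCyc_subgroup hcyc C) (D := (o2 H).subgroupOf C)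
      ((isPGroup_o2 H).comap_of_injective _ C.subtype_injective) hdvd
  have hle : π.ker ≤ (Subgroup.inclusion hCH).range := by
    intro x hx
    rw [MonoidHom.mem_ker, d.ker] at hx
    exact ⟨⟨x, x.2, hx⟩, rfl⟩
  exact Group.isSolvable_of_ker_le_range _ _ hle

theorem result [Finite G] (hc : IsCharacteristicTwoType G) (hidx : ∀ N : Subgroup G, N.Normal → N.index ≠ 2)
    (h : Conf M T H s) (hs : Group.IsSolvable H) : PRankLE 2 2 G := by
  have hZ : H ⊓ centralizer (zc T : Set G) ≤ M := inf_le_right.trans (cent_zc_le hc h)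
  have hB : H ⊓ normalizer (bau T : Set G) ≤ M := inf_le_right.trans (normalizer_bau_le h)
  obtain ⟨L, k, d, -, hLH, hLM⟩ := DBlkExist.exists_dblk hs (self_cent hc h) h.cfg.two h.le (not_dvd h)
    hZ hB h.notM
  obtain ⟨h3, h4⟩ := CaseOneEnd.side_indep hs ((Basic.char2_iff H).2 (self_cent hc h)) h.cfg.two h.le
    (not_dvd h) hZ d hLH hLM
  exact COneKey.result hc hidx h.cfg ⟨d, hLM, h3, h4⟩

end Cfsg.Agent.OddCyclic.COneFFS
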