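import Cfsg.Agent.OddCyclic.COneXL
import Cfsg.Agent.OddCyclic.FFOuterPerm
import Cfsg.Agent.UAlt.AutFive

/-!
# S0342 (D): `X = H / C_H(W)`: the case `S₅`
-/

set_option autoImplicit false
set_option linter.unusedSectionVars false

namespace Cfsg.Agent.OddCyclic.COneXF

open Subgroup
open Cfsg.Agent.OddCyclic.T1Module Cfsg.Agent.OddCyclic.FFBasic Cfsg.Agent.OddCyclic.FFRed Cfsg.Agent.OddCyclic.FFSl2
open Cfsg.Agent.OddCyclic.RedFFDefs Cfsg.Agent.OddCyclic.COneX Cfsg.Agent.OddCyclic.COneXA Cfsg.Agent.OddCyclic.COneXB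
open Cfsg.Agent.OddCyclic.COneXL
open Equiv (swap)

universe u

local notation "P5" => Equiv.Perm (Fin 5)

/-- the elements of the standard Sylow 2-subgroup of `S₅` -/
def l8 : Finset P5 :=
  {1, swap 0 1, swap 2 3, swap 0 1 * swap 2 3, swap 0 2 * swap 1 3, swap 0 1 * (swap 0 2 * swap 1 3),
    swap 2 3 * (swap 0 2 * swap 1 3), swap 0 1 * swap 2 3 * (swap 0 2 * swap 1 3)}

theorem l8_mul : ∀ x ∈ l8, ∀ y ∈ l8, x * y ∈ l8 := by decide +kernel

theorem l8_inv : ∀ x ∈ l8, x⁻¹ ∈ l8 := by decide +kernel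

theorem l8_card : l8.card = 8 := by decide +kernel

theorem l8_odd : ∀ x ∈ l8, x * x = 1 → Equiv.Perm.sign x = -1 → x = swap 0 1 ∨ x = swap 2 3 := by decide +kernel

def D8 : Subgroup P5 where
  carrier := (l8 : Set P5)
  mul_mem' := fun ha hb => l8_mul _ ha _ hb
  one_mem' := by decide
  inv_mem' := fun ha => l8_inv _ ha

theorem mem_D8 {x : P5} : x ∈ D8 ↔ x ∈ l8 := Iff.rfl

theorem D8_eq : D8 = closure {swap 0 1, swap 2 3, swap 0 2 * swap 1 3} := by
  apply le_antisymm
  · have h1 : swap (0 : Fin 5) 1 ∈ closure ({swap 0 1, swap 2 3, swap 0 2 * swap 1 3} : Set P5) :=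
      subset_closure (by simp)
    have h2 : swap (2 : Fin 5) 3 ∈ closure ({swap 0 1, swap 2 3, swap 0 2 * swap 1 3} : Set P5) :=
      subset_closure (by simp)
    have h3 : swap (0 : Fin 5) 2 * swap 1 3 ∈ closure ({swap 0 1, swap 2 3, swap 0 2 * swap 1 3} : Set P5) :=
      subset_closure (by simp)
    intro x hx
    rw [mem_D8, l8] at hx
    simp only [Finset.mem_insert, Finset.mem_singleton] at hx
    rcases hx with rfl | rfl | rfl | rfl | rfl | rfl | rfl | rfl
    · exact one_mem _
    · exact h1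
    · exact h2
    · exact mul_mem h1 h2
    · exact h3
    · exact mul_mem h1 h3
    · exact mul_mem h2 h3
    · exact mul_mem (mul_mem h1 h2) h3
  · rw [closure_le]
    intro x hx
    rw [SetLike.mem_coe, mem_D8, l8]
    simp only [Set.mem_insert_iff, Set.mem_singleton_iff] at hx
    rcases hx with rfl | rfl | rfl <;> simp [Finset.mem_insert]

theorem card_D8 : Nat.card D8 = 8 := by
  have h1 : Nat.card D8 = Nat.card (l8 : Set P5) := rfl
  rw [h1, Nat.card_coe_set_eq, Set.ncard_coe_finset, l8_card]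

theorem card_P5 : Nat.card P5 = 120 := by
  rw [Nat.card_eq_fintype_card, Fintype.card_perm, Fintype.card_fin]; rfl

theorem exists_sylow : ∃ S : Sylow 2 P5, (S : Subgroup P5) = D8 := by
  have hf : Fact (Nat.Prime 2) := ⟨Nat.prime_two⟩
  have h1 : IsPGroup 2 D8 := IsPGroup.of_card (n := 3) (by rw [card_D8]; rfl)
  have h2 : ¬ 2 ∣ D8.index := by
    have h3 := D8.card_mul_index
    rw [card_D8, card_P5] at h3
    have h4 : D8.index = 15 := by omega
    rw [h4]; decide
  exact ⟨h1.toSylow h2, rfl⟩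

variable {X V : Type u} [Group X] [CommGroup V] {ρ : X →* MulAut V} {T : Sylow 2 X} {Mb : Subgroup X}

theorem K_eq_top [Finite X] [Finite V] (h : XM ρ T Mb) {K : Subgroup X} (e : K ≃* P5) (hn : (alt K e).Normal) :
    K = ⊤ := by
  have h2L : 2 ∣ Nat.card (alt K e) := by rw [card_alt]; decide
  have hs : alt K e ⊔ (T : Subgroup X) = ⊤ := h.sup_eq hn (inf_ne_bot hn h2L)
  have hc := cent_eq_bot h hn hs simple_alt alt_ncomm
  obtain ⟨f⟩ := nonempty_alt (e := e)
  obtain ⟨ψ, hψ⟩ := UAlt.AutFive.exists_autHom_fin 5 le_rfl (by decide)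
  let θ : X →* P5 := (ψ.comp (MulAut.congr f.symm).toMonoidHom).comp MulAut.conjNormal
  have hθ : Function.Injective θ := by
    rw [injective_iff_map_eq_one]
    intro x hx
    have h1 : x ∈ centralizer (alt K e : Set X) := by
      rw [mem_centralizer_iff]
      intro l hl
      have h3 := hψ ((MulAut.congr f.symm) (MulAut.conjNormal x)) (f.symm ⟨l, hl⟩)
      have h4 : ψ ((MulAut.congr f.symm) (MulAut.conjNormal x)) = 1 := hx
      rw [h4, one_mul, inv_one, mul_one] at h3
      have h5 : (MulAut.congr f.symm) (MulAut.conjNormal x) (f.symm ⟨l, hl⟩) = f.symm (MulAut.conjNormal x ⟨l, hl⟩) := by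
        simp [MulAut.congr]
      rw [h5] at h3
      have h6 := f.symm.injective (Subtype.ext h3)
      have h7 : x * l * x⁻¹ = l := congrArg Subtype.val h6
      calc l * x = (x * l * x⁻¹) * x := by rw [h7]
        _ = x * l := by group
    rw [hc, mem_bot] at h1
    exact h1
  have h1 : Nat.card X ≤ 120 := by
    rw [← card_P5]
    exact Nat.card_le_card_of_injective θ hθ
  have h2 : Nat.card K = 120 := by rw [Nat.card_congr e.toEquiv, card_P5]
  apply Subgroup.eq_top_of_le_card
  rw [h2]; exact h1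

/-- **the case `S₅`** -/
theorem five_case [Finite X] [Finite V] (h : XM ρ T Mb) (hffc : FFC X) {A : Subgroup X} (hfv : OutFive ρ A) :
    ∃ e : X ≃* P5, (∀ i j : Fin 5, i ≠ j → (fx ρ (e.symm (swap i j))).index = 2) ∧ (∀ x, x ∈ T ↔ e x ∈ D8) ∧
      ∀ B : Subgroup X, BO ρ B → B ≠ ⊥ → B ≤ T → (∀ b ∈ B, e b ∈ closure ({swap 0 1, swap 2 3} : Set P5)) ∧
        ∃ b ∈ B, e b = swap 0 1 ∨ e b = swap 2 3 := by
  have hf : Fact (Nat.Prime 2) := ⟨Nat.prime_two⟩
  obtain ⟨K, -, e₁, hn, h2, -⟩ := hfv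
  change (alt K e₁).Normal at hn
  have hK : K = ⊤ := K_eq_top h e₁ hn
  have h2L : 2 ∣ Nat.card (alt K e₁) := by rw [card_alt]; decide
  have hs : alt K e₁ ⊔ (T : Subgroup X) = ⊤ := h.sup_eq hn (inf_ne_bot hn h2L)
  -- `e₀ : X ≃* S₅`
  obtain ⟨e₀, he₀⟩ : ∃ e₀ : X ≃* P5, ∀ x : K, e₀ x = e₁ x := by
    refine ⟨((Subgroup.topEquiv (G := X)).symm.trans (MulEquiv.subgroupCongr hK.symm)).trans e₁, fun x => ?_⟩
    change e₁ _ = e₁ x
    congr 1
  have he₀s : ∀ p, e₀.symm p = (e₁.symm p : X) := by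
    intro p
    apply e₀.injective
    rw [e₀.apply_symm_apply, he₀, e₁.apply_symm_apply]
  -- move the Sylow 2-subgroup
  obtain ⟨S, hS⟩ := exists_sylow
  have hP1 : IsPGroup 2 ((S : Subgroup P5).comap e₀.toMonoidHom) :=
    S.isPGroup'.comap_of_injective _ e₀.injective
  have hP2 : ¬ 2 ∣ ((S : Subgroup P5).comap e₀.toMonoidHom).index := by
    rw [Subgroup.index_comap_of_surjective _ e₀.surjective]
    exact S.not_dvd_index
  let P : Sylow 2 X := hP1.toSylow hP2
  have hP : ∀ x, x ∈ P ↔ e₀ x ∈ D8 := fun x => by rw [← hS]; exact Iff.rfl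
  obtain ⟨g, hg⟩ := MulAction.exists_smul_eq X T P
  have hTP : ∀ x, x ∈ T ↔ g * x * g⁻¹ ∈ P := by
    intro x
    rw [← hg]
    constructor
    · intro hx
      exact ⟨x, hx, rfl⟩
    · rintro ⟨y, hy, hyx⟩
      have : y = x := (MulAut.conj g).injective hyx
      rwa [← this]
  obtain ⟨e, he⟩ : ∃ e : X ≃* P5, ∀ x, e x = e₀ (g * x * g⁻¹) :=
    ⟨(MulAut.conj g).trans e₀, fun x => rfl⟩
  have hes : ∀ p, e.symm p = g⁻¹ * e₀.symm p * g := by
    intro p
    apply e.injective
    rw [e.apply_symm_apply, he]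
    have : g * (g⁻¹ * e₀.symm p * g) * g⁻¹ = e₀.symm p := by group
    rw [this, e₀.apply_symm_apply]
  have hL : ∀ x, x ∈ alt K e₁ ↔ e x ∈ alternatingGroup (Fin 5) := by
    intro x
    have hx : g * x * g⁻¹ ∈ K := by rw [hK]; exact mem_top _
    have h3 : x ∈ alt K e₁ ↔ g * x * g⁻¹ ∈ alt K e₁ := by
      constructor
      · exact fun h0 => hn.conj_mem x h0 g
      · intro h0
        have := hn.conj_mem _ h0 g⁻¹
        have e5 : g⁻¹ * (g * x * g⁻¹) * g⁻¹⁻¹ = x := by group
        rwa [e5] at this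
    rw [h3, mem_alt hx, he]
    have h4 := he₀ ⟨_, hx⟩
    change e₀ (g * x * g⁻¹) = e₁ ⟨g * x * g⁻¹, hx⟩ at h4
    rw [h4]
  refine ⟨e, ?_, ?_, ?_⟩
  · intro i j hij
    rw [hes, he₀s]
    have h3 := h2 i j hij
    rw [← index_fx_conj ρ g⁻¹] at h3
    rwa [inv_inv] at h3
  · intro x
    rw [hTP, hP, he]
  · intro B hB hB1 hBT
    have h2' := h2
    rcases hffc V h.sq ρ h.inj h.core B hB hB1 with h5 | h5 | h5 | h5
    · exfalso
      obtain ⟨y, hy3, hyn, -⟩ := h5
      have hy1 : y ≠ 1 := by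
        rintro rfl
        rw [orderOf_one] at hy3
        omega
      exact not_normal_odd hn hs simple_alt h2L (by rw [hy3]; decide) hy1 hyn
    · exfalso
      obtain ⟨L, hLn, F, _, _, hchar, h4, ⟨eL⟩, hiL, hfpf, hsL, -⟩ := lin_case h hffc hB hB1 hBT h5
      have hLs : IsSimpleGroup L := by
        have := isSimpleGroup_sl2 (F := F) h4
        exact eL.isSimpleGroup
      exact false_of_five h hLn hsL hLs hfpf e₁ hn h2
    · obtain ⟨K', hBK', e', hn', h2e', hgen⟩ := h5
      have hLL : alt K' e' = alt K e₁ := eq_of_simple h hn hs simple_alt hn' simple_alt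
      have key : ∀ t : X, t ∈ B → (∃ i j : Fin 5, i ≠ j ∧ t = (e'.symm (swap i j) : X)) →
          e t = swap 0 1 ∨ e t = swap 2 3 := by
        rintro t htB ⟨i, j, hij, ht⟩
        have htK : t ∈ K' := hBK' htB
        have h6 : e t ∉ alternatingGroup (Fin 5) := by
          rw [← hL, ← hLL, mem_alt htK]
          have h7 : (⟨t, htK⟩ : K') = e'.symm (swap i j) := Subtype.ext ht
          rw [h7, e'.apply_symm_apply, Equiv.Perm.mem_alternatingGroup, Equiv.Perm.sign_swap hij]
          decide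
        have h7 : Equiv.Perm.sign (e t) = -1 := by
          rcases Int.units_eq_one_or (Equiv.Perm.sign (e t)) with h8 | h8
          · exact absurd (Equiv.Perm.mem_alternatingGroup.2 h8) h6
          · exact h8
        have h8 : e t * e t = 1 := by rw [← map_mul, hB.sq t htB, map_one]
        have h9 : e t ∈ D8 := by
          have h10 := (hTP t).1 (hBT htB)
          rw [hP] at h10
          rwa [he]
        exact l8_odd _ h9 h8 h7
      constructor
      · intro b hb
        have h6 : B ≤ (closure ({swap 0 1, swap 2 3} : Set P5)).comap e.toMonoidHom := by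
          refine hgen.trans ?_
          rw [closure_le]
          rintro t ⟨htB, ht⟩
          have h7 : e t ∈ closure ({swap 0 1, swap 2 3} : Set P5) := by
            rcases key t htB ht with h8 | h8
            · rw [h8]; exact subset_closure (by simp)
            · rw [h8]; exact subset_closure (by simp)
          exact h7
        exact h6 hb
      · by_contra hcon
        push Not at hcon
        apply hB1
        rw [eq_bot_iff]
        refine hgen.trans ?_
        rw [closure_le]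
        rintro t ⟨htB, ht⟩
        exfalso
        rcases key t htB ht with h8 | h8
        · exact (hcon t htB).1 h8
        · exact (hcon t htB).2 h8
    · exfalso
      obtain ⟨L', hL', hBL, hLs', h168⟩ := h5
      have hLL : L' = alt K e₁ := eq_of_simple h hn hs simple_alt hL' hLs'
      rw [hLL, card_alt] at h168
      omega

end Cfsg.Agent.OddCyclic.COneXF
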