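import Cfsg.Agent.OddCyclic.COneFF
import Cfsg.Agent.OddCyclic.COneXF
import Cfsg.Agent.OddCyclic.COneEv

/-!
# S0342 (D): the case `S₅`: from the offender theorem to `FiveConf`
-/

set_option autoImplicit false
set_option linter.unusedSectionVars false

namespace Cfsg.Agent.OddCyclic.COneFFV

open Subgroup Cfsg Cfsg.Agent.ZN
open Cfsg.Agent.MinSimple
open Cfsg.Agent.PLocal.ThompsonJ
open Cfsg.Agent.OddCyclic.T1Defs Cfsg.Agent.OddCyclic.COneDefs Cfsg.Agent.OddCyclic.COneBase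
open Cfsg.Agent.OddCyclic.T1Module Cfsg.Agent.OddCyclic.FFBasic Cfsg.Agent.OddCyclic.FFRed
open Cfsg.Agent.OddCyclic.COneX Cfsg.Agent.OddCyclic.COneFF Cfsg.Agent.OddCyclic.COneFF.AD
open Cfsg.Agent.OddCyclic.COneXF Cfsg.Agent.OddCyclic.FFOuterPerm
open Equiv (swap)
open scoped commutatorElement

universe u

local notation "P5" => Equiv.Perm (Fin 5)

variable {G : Type u} [Group G] {M T H : Subgroup G} {s : G}
variable {X W : Type u} [Group X] [CommGroup W] {ρ : X →* MulAut W} {π : H →* X} {ι : W →* G}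

theorem alt_perfect : ⁅alternatingGroup (Fin 5), alternatingGroup (Fin 5)⁆ = alternatingGroup (Fin 5) := by
  have hs : IsSimpleGroup (alternatingGroup (Fin 5)) := alternatingGroup.isSimpleGroup (by simp)
  have hle : ⁅alternatingGroup (Fin 5), alternatingGroup (Fin 5)⁆ ≤ alternatingGroup (Fin 5) :=
    Subgroup.commutator_le_left _ _
  have hn : (⁅alternatingGroup (Fin 5), alternatingGroup (Fin 5)⁆.subgroupOf (alternatingGroup (Fin 5))).Normal :=
    inferInstance
  rcases hs.eq_bot_or_eq_top_of_normal _ hn with h1 | h1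
  · exfalso
    have h2 : swap (0 : Fin 5) 1 * swap 1 2 ∈ alternatingGroup (Fin 5) := by
      rw [Equiv.Perm.mem_alternatingGroup, map_mul, Equiv.Perm.sign_swap (by decide), Equiv.Perm.sign_swap (by decide)]
      rfl
    have h3 : swap (2 : Fin 5) 3 * swap 3 4 ∈ alternatingGroup (Fin 5) := by
      rw [Equiv.Perm.mem_alternatingGroup, map_mul, Equiv.Perm.sign_swap (by decide), Equiv.Perm.sign_swap (by decide)]
      rfl
    have h4 := commutator_mem_commutator h2 h3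
    have h5 := (mem_subgroupOf (H := ⁅alternatingGroup (Fin 5), alternatingGroup (Fin 5)⁆)
      (h := ⟨_, hle h4⟩)).2 h4
    rw [h1, mem_bot] at h5
    have h6 : ⁅(swap (0 : Fin 5) 1 * swap 1 2 : P5), (swap (2 : Fin 5) 3 * swap 3 4 : P5)⁆ = 1 :=
      congrArg Subtype.val h5
    exact absurd h6 (by decide)
  · exact le_antisymm hle (subgroupOf_eq_top.1 h1)

section

variable [Finite G] [Finite X] [Finite W] (hcyc : OddCyc G) (hc : IsCharacteristicTwoType G) (h : Conf M T H s)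
  (d : AD T H ρ π ι) {S : Sylow 2 X} (hS : (S : Subgroup X) = (T.subgroupOf H).map π) (e : X ≃* P5)

include h d hS in
theorem not_le_M (hx : XM ρ S ((M.subgroupOf H).map π)) :
    ¬ pre π ((alternatingGroup (Fin 5)).comap e.toMonoidHom) ≤ M := by
  intro hNM
  have hn : ((alternatingGroup (Fin 5)).comap e.toMonoidHom).Normal := inferInstance
  have h2 : 2 ∣ Nat.card ((alternatingGroup (Fin 5)).comap e.toMonoidHom) := by
    have h3 : Nat.card ((alternatingGroup (Fin 5)).comap e.toMonoidHom) = Nat.card (alternatingGroup (Fin 5)) := by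
      have h4 : ((alternatingGroup (Fin 5)).comap e.toMonoidHom).map e.toMonoidHom = alternatingGroup (Fin 5) :=
        map_comap_eq_self_of_surjective e.surjective _
      conv_rhs => rw [← h4]
      exact (Subgroup.card_map_of_injective e.injective).symm
    rw [h3, nat_card_alternatingGroup, Nat.card_eq_fintype_card (α := Fin 5), Fintype.card_fin]
    decide
  have h3 := hx.sup_eq hn (COneXB.inf_ne_bot hn h2)
  apply hx.ne
  rw [eq_top_iff, ← h3]
  refine sup_le ?_ ?_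
  · intro y hy
    obtain ⟨x, rfl⟩ := d.surj y
    exact ⟨x, hNM ((mem_pre x.2).2 hy), rfl⟩
  · rw [hS]
    exact Subgroup.map_mono (Subgroup.comap_mono h.cfg.TM)

include hcyc hc h d hS in
theorem cent (hx : XM ρ S ((M.subgroupOf H).map π)) (e : X ≃* P5) : H ⊓ centralizer (zl T H : Set G) = o2 H := by
  set A := (alternatingGroup (Fin 5)).comap e.toMonoidHom with hA
  have hn : A.Normal := inferInstance
  refine COneCent.cent_eq hcyc hc h (pre_le (Y := A)) (pre_norm hn) (not_le_M h d hS e hx) ?_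
  intro x hxN
  have hxH := pre_le hxN
  have h1 : ⁅A, A⁆ = A := by
    apply Subgroup.map_injective e.injective (f := e.toMonoidHom)
    rw [map_commutator, hA, map_comap_eq_self_of_surjective e.surjective, alt_perfect]
  have h2 : π ⟨x, hxH⟩ ∈ (⁅(pre π A).subgroupOf H, (pre π A).subgroupOf H⁆).map π := by
    rw [map_commutator, map_pre d.surj, h1]
    exact (mem_pre hxH).1 hxN
  obtain ⟨m, hm, hmx⟩ := h2
  have h3 : π (m⁻¹ * ⟨x, hxH⟩) = 1 := by rw [map_mul, map_inv, hmx, inv_mul_cancel]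
  have h4 := (d.ker _).1 h3
  have h5 : x = (m : G) * ((m⁻¹ * ⟨x, hxH⟩ : H) : G) := by
    rw [coe_mul, coe_inv]; group
  have h6 : (m : G) ∈ ⁅pre π A, pre π A⁆ := by
    have h7 : (⁅(pre π A).subgroupOf H, (pre π A).subgroupOf H⁆).map H.subtype = ⁅pre π A, pre π A⁆ := by
      rw [map_commutator, Subgroup.map_subgroupOf_eq_of_le pre_le]
    rw [← h7]
    exact ⟨m, hm, rfl⟩
  rw [h5]
  exact mul_mem (mem_sup_left h6) (mem_sup_right ⟨(m⁻¹ * ⟨x, hxH⟩ : H).2, h4⟩)

theorem mem_closure_pair {x : P5} (hx : x ∈ closure ({swap 0 1, swap 2 3} : Set P5)) :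
    x = 1 ∨ x = swap 0 1 ∨ x = swap 2 3 ∨ x = swap 0 1 * swap 2 3 := by
  induction hx using closure_induction with
  | mem x hx =>
    rcases hx with rfl | hx
    · exact Or.inr (Or.inl rfl)
    · rw [Set.mem_singleton_iff.1 hx]; exact Or.inr (Or.inr (Or.inl rfl))
  | one => exact Or.inl rfl
  | mul x y _ _ h1 h2 =>
    rcases h1 with rfl | rfl | rfl | rfl <;> rcases h2 with rfl | rfl | rfl | rfl <;> decide
  | inv x _ h1 => rcases h1 with rfl | rfl | rfl | rfl <;> decide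

theorem l8_out : ∀ x ∈ l8, x 0 = 0 ∨ x 0 = 1 → x = 1 ∨ x = swap 0 1 ∨ x = swap 2 3 ∨ x = swap 0 1 * swap 2 3 := by
  decide +kernel

theorem l8_out' : ∀ x ∈ l8, ¬ (x 0 = 0 ∨ x 0 = 1) → (x 0 = 2 ∧ x 1 = 3) ∨ (x 0 = 3 ∧ x 1 = 2) := by
  decide +kernel

theorem mem_closure_of {x : P5} (hx : x = 1 ∨ x = swap 0 1 ∨ x = swap 2 3 ∨ x = swap 0 1 * swap 2 3) :
    x ∈ closure ({swap 0 1, swap 2 3} : Set P5) := by
  have h1 : swap (0 : Fin 5) 1 ∈ closure ({swap 0 1, swap 2 3} : Set P5) := subset_closure (by simp)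
  have h2 : swap (2 : Fin 5) 3 ∈ closure ({swap 0 1, swap 2 3} : Set P5) := subset_closure (by simp)
  rcases hx with rfl | rfl | rfl | rfl
  · exact one_mem _
  · exact h1
  · exact h2
  · exact mul_mem h1 h2

include hcyc hc h d hS in
theorem five (h2 : ∀ i j : Fin 5, i ≠ j → (fx ρ (e.symm (swap i j))).index = 2) (hT : ∀ x, x ∈ S ↔ e x ∈ D8)
    (hall : ∀ B : Subgroup X, BO ρ B → B ≠ ⊥ → B ≤ S → (∀ b ∈ B, e b ∈ closure ({swap 0 1, swap 2 3} : Set P5)) ∧
        ∃ b ∈ B, e b = swap 0 1 ∨ e b = swap 2 3) :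
    ∃ (φ : H →* P5) (ev : Fin 5 → Fin 5 → G), FiveConf M T H s φ ev := by
  have hx := d.xm hc h hS
  have hcent := cent hcyc hc h d hS hx e
  have hmemQ : ∀ x ∈ H, (∀ v ∈ zl T H, x * v = v * x) → x ∈ o2 H := fun x hxH hv => by
    rw [← hcent]
    exact ⟨hxH, mem_centralizer_iff.2 fun v hv' => (hv v hv').symm⟩
  have hQc : ∀ x ∈ o2 H, ∀ v ∈ zl T H, x * v = v * x := fun x hxQ v hv => by
    rw [← hcent] at hxQ
    exact (mem_centralizer_iff.1 hxQ.2 v hv).symm
  have hker : ∀ x : H, π x = 1 ↔ (x : G) ∈ o2 H := fun x => by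
    rw [d.ker, ← hcent]
    exact ⟨fun h1 => ⟨x.2, h1⟩, fun h1 => h1.2⟩
  -- the action of `S₅`
  obtain ⟨σ, hσ⟩ : ∃ σ : P5 →* MulAut W, σ = ρ.comp e.symm.toMonoidHom := ⟨_, rfl⟩
  have hσa : ∀ p, σ p = ρ (e.symm p) := fun p => by rw [hσ]; rfl
  have hσx : ∀ x, σ (e x) = ρ x := fun x => by rw [hσa, e.symm_apply_apply]
  have h2' : ∀ i j : Fin 5, i ≠ j → (fx σ (swap i j)).index = 2 := by
    intro i j hij
    have : fx σ (swap i j) = fx ρ (e.symm (swap i j)) := by
      ext v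
      rw [mem_fx, mem_fx, hσa]
    rw [this]
    exact h2 i j hij
  obtain ⟨ev, hev⟩ := exists_ev (ρ := σ) d.sq (by
    intro g _ hg1
    by_contra hcon
    push Not at hcon
    apply hg1
    have h3 : ρ (e.symm g) = 1 := by
      rw [← hσa]
      ext v
      exact hcon v
    have h4 : e.symm g = 1 := d.inj (by rw [h3, map_one])
    exact (MulEquiv.map_eq_one_iff e.symm).1 h4) h2'
  have hCS : ∀ c : W, (∀ x : H, (x : G) * ι c = ι c * x) ↔ c ∈ CS σ ⊤ := by
    intro c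
    constructor
    · intro h3 p _
      obtain ⟨x, hx⟩ := d.surj (e.symm p)
      rw [hσa, ← hx]
      exact (d.fix_iff x c).2 (h3 x)
    · intro h3 x
      rw [← d.fix_iff, ← hσx]
      exact h3 _ (mem_top _)
  have hact : ∀ (x : H) (i j : Fin 5), (x : G) * ι (ev i j) * (x : G)⁻¹ = ι (ev (e (π x) i) (e (π x) j)) := by
    intro x i j
    rw [← d.act, ← hσx, hev.act]
  -- `T`
  have hTim : ∀ x : H, (x : G) ∈ T ↔ e (π x) ∈ D8 := by
    intro x
    rw [← hT]
    constructor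
    · intro hxT
      exact hS.ge (d.mem_map hxT x.2)
    · intro hxS
      obtain ⟨t, ht, htx⟩ := hS.le hxS
      have h3 : π (t⁻¹ * x) = 1 := by rw [map_mul, map_inv, htx, inv_mul_cancel]
      have h4 := o2_le_T h ((hker _).1 h3)
      have h5 : (x : G) = (t : G) * ((t⁻¹ * x : H) : G) := by
        rw [coe_mul, coe_inv]; group
      rw [h5]
      exact mul_mem ht h4
  -- `J(T)`
  have hJ1 : ∀ (x : G) (hxJ : x ∈ jj T) (hxH : x ∈ H), e (π ⟨x, hxH⟩) ∈ closure ({swap 0 1, swap 2 3} : Set P5) := by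
    have h3 : jj T ≤ pre π ((closure ({swap 0 1, swap 2 3} : Set P5)).comap e.toMonoidHom) := by
      refine jj_le_of_forall fun A hA => ?_
      intro a ha
      have haH := h.le (hA.1 ha)
      rw [mem_pre haH]
      by_cases hAc : A ≤ centralizer (zl T H : Set G)
      · rw [(d.ker ⟨a, haH⟩).2 (hAc ha)]
        exact one_mem _
      · have hle : (A.subgroupOf H).map π ≤ S := by
          rw [hS]
          exact Subgroup.map_mono (Subgroup.comap_mono hA.1)
        exact (hall _ (d.bo hc h hA) (d.map_ne_bot (hA.1.trans h.le) hAc) hle).1 _ (d.mem_map ha haH)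
    intro x hxJ hxH
    exact (mem_pre hxH).1 (h3 hxJ)
  obtain ⟨a, haJ, haH, ha⟩ : ∃ (a : G) (_ : a ∈ jj T) (haH : a ∈ H),
      e (π ⟨a, haH⟩) = swap 0 1 ∨ e (π ⟨a, haH⟩) = swap 2 3 := by
    obtain ⟨A, hA, hAc⟩ : ∃ A, IsMaxIn T A ∧ ¬ A ≤ centralizer (zl T H : Set G) := by
      by_contra hcon
      push Not at hcon
      exact not_jj_le_cent hc h (jj_le_of_forall fun A hA => hcon A hA)
    have hle : (A.subgroupOf H).map π ≤ S := by
      rw [hS]
      exact Subgroup.map_mono (Subgroup.comap_mono hA.1)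
    obtain ⟨-, b, hb, hb'⟩ := hall _ (d.bo hc h hA) (d.map_ne_bot (hA.1.trans h.le) hAc) hle
    obtain ⟨a, ha, rfl⟩ := hb
    exact ⟨a, hA.le_jj ha, a.2, hb'⟩
  -- an element of `T` swapping
  obtain ⟨u, hu⟩ := d.surj (e.symm (swap 0 2 * swap 1 3))
  have heu : e (π u) = swap 0 2 * swap 1 3 := by rw [hu, e.apply_symm_apply]
  have huT : (u : G) ∈ T := by
    rw [hTim, heu, mem_D8]
    decide
  have hconj : (u : G) * a * (u : G)⁻¹ ∈ jj T := (mem_normalizer_iff.1 (le_normalizer_jj T huT) a).1 haJ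
  have hmap : ∀ x y : H, e (π (x * y)) = e (π x) * e (π y) := fun x y => by rw [map_mul, map_mul]
  have hmapi : ∀ x : H, e (π x⁻¹) = (e (π x))⁻¹ := fun x => by rw [map_inv, map_inv]
  obtain ⟨⟨a1, ha1J, ha1⟩, ⟨a2, ha2J, ha2⟩⟩ : (∃ x : H, (x : G) ∈ jj T ∧ e (π x) = swap 0 1) ∧
      (∃ x : H, (x : G) ∈ jj T ∧ e (π x) = swap 2 3) := by
    rcases ha with ha | ha
    · refine ⟨⟨⟨a, haH⟩, haJ, ha⟩, ⟨u * ⟨a, haH⟩ * u⁻¹, hconj, ?_⟩⟩
      rw [hmap, hmap, hmapi, heu, ha]; decide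
    · refine ⟨⟨u * ⟨a, haH⟩ * u⁻¹, hconj, ?_⟩, ⟨⟨a, haH⟩, haJ, ha⟩⟩
      rw [hmap, hmap, hmapi, heu, ha]; decide
  -- covering by `J(T)`
  have hcov : ∀ x : H, e (π x) ∈ closure ({swap 0 1, swap 2 3} : Set P5) → (x : G) ∈ jj T ⊔ o2 H := by
    intro x hx
    obtain ⟨y, hyJ, hyx⟩ : ∃ y : H, (y : G) ∈ jj T ∧ e (π y) = e (π x) := by
      rcases mem_closure_pair hx with h3 | h3 | h3 | h3
      · exact ⟨1, one_mem _, by rw [h3, map_one, map_one]⟩
      · exact ⟨a1, ha1J, by rw [h3, ha1]⟩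
      · exact ⟨a2, ha2J, by rw [h3, ha2]⟩
      · exact ⟨a1 * a2, mul_mem ha1J ha2J, by rw [h3, hmap, ha1, ha2]⟩
    have h3 : π (y⁻¹ * x) = 1 := by
      rw [map_mul, map_inv, e.injective hyx, inv_mul_cancel]
    have h5 : (x : G) = (y : G) * ((y⁻¹ * x : H) : G) := by
      rw [coe_mul, coe_inv]; group
    rw [h5]
    exact mul_mem (mem_sup_left hyJ) (mem_sup_right ((hker _).1 h3))
  have hQH : o2 H ≤ H := o2_le H
  have hred : ∀ Y : Subgroup G, Y ≤ T → (∀ (x : G) (_ : x ∈ Y) (hxH : x ∈ H),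
      e (π ⟨x, hxH⟩) ∈ closure ({swap 0 1, swap 2 3} : Set P5)) →
      ∀ x : H, (x : G) ∈ Y ⊔ o2 H → e (π x) ∈ closure ({swap 0 1, swap 2 3} : Set P5) := by
    intro Y hYT hY x hx
    have h3 : Y ⊔ o2 H ≤ pre π ((closure ({swap 0 1, swap 2 3} : Set P5)).comap e.toMonoidHom) := by
      refine sup_le ?_ ?_
      · intro y hy
        have hyH := h.le (hYT hy)
        exact (mem_pre hyH).2 (hY y hy hyH)
      · intro y hy
        have hyH := hQH hy
        rw [mem_pre hyH, (hker ⟨y, hyH⟩).2 hy]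
        exact one_mem _
    exact (mem_pre x.2).1 (h3 hx)
  -- the Baumann subgroup
  have hB1 : ∀ (x : G) (_ : x ∈ bau T) (hxH : x ∈ H), e (π ⟨x, hxH⟩) ∈ closure ({swap 0 1, swap 2 3} : Set P5) := by
    intro x hxB hxH
    -- `e 0 1 ∈ Z_J`
    have hez : ι (ev 0 1) ∈ zj T := by
      refine mem_zj_of_comm (((zl_le_o2 hc h).trans (o2_le_T h)) (d.mem _))
        (by rw [pow_two]; exact zl_sq hc h _ (d.mem _)) ?_
      intro b hb
      have hbH := h.le (jj_le T hb)
      have h3 := hact ⟨b, hbH⟩ 0 1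
      have h4 : ev (e (π ⟨b, hbH⟩) 0) (e (π ⟨b, hbH⟩) 1) = ev 0 1 := by
        rcases mem_closure_pair (hJ1 b hb hbH) with h5 | h5 | h5 | h5
        · rw [h5]; rfl
        · rw [h5, Equiv.swap_apply_left, Equiv.swap_apply_right, hev.symm]
        · rw [h5]; rfl
        · rw [h5]
          have e1 : (swap (0 : Fin 5) 1 * swap 2 3 : P5) 0 = 1 := by decide
          have e2 : (swap (0 : Fin 5) 1 * swap 2 3 : P5) 1 = 0 := by decide
          rw [e1, e2, hev.symm]
      rw [h4] at h3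
      exact mul_inv_eq_iff_eq_mul.1 h3
    have hxT := bau_le T hxB
    have hxD : e (π ⟨x, hxH⟩) ∈ D8 := (hTim ⟨x, hxH⟩).1 hxT
    have hcomm : x * ι (ev 0 1) = ι (ev 0 1) * x := (mem_centralizer_iff.1 hxB.2 _ hez).symm
    have h3 := hact ⟨x, hxH⟩ 0 1
    have h4 : ev (e (π ⟨x, hxH⟩) 0) (e (π ⟨x, hxH⟩) 1) = ev 0 1 := by
      apply d.ιinj
      rw [← h3]
      exact mul_inv_eq_iff_eq_mul.2 hcomm
    apply mem_closure_of
    apply l8_out _ hxD
    by_contra hcon
    rcases l8_out' _ hxD hcon with ⟨h5, h6⟩ | ⟨h5, h6⟩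
    · rw [h5, h6] at h4
      exact COneEv.ne_pair hev d.sq h4.symm
    · rw [h5, h6, hev.symm] at h4
      exact COneEv.ne_pair hev d.sq h4.symm
  refine ⟨e.toMonoidHom.comp π, fun i j => ι (ev i j), ?_⟩
  exact
  { conf := h
    surj := e.surjective.comp d.surj
    ker := by
      ext x
      rw [MonoidHom.mem_ker, mem_subgroupOf, ← hker]
      exact MulEquiv.map_eq_one_iff e
    zl_comm := zl_comm hc h
    zl_sq := zl_sq hc h
    cent := hmemQ
    cent' := hQc
    mem := fun i j => d.mem _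
    self := fun i => by rw [hev.diag, map_one]
    ne := fun i j hij h0 => hev.ne i j hij (d.ιinj (by rw [h0, map_one]))
    symm := fun i j => by rw [hev.symm]
    mul := fun i j k => by rw [← map_mul, hev.add]
    conj := hact
    dec := by
      intro v hv
      obtain ⟨w, rfl⟩ := d.ex v hv
      obtain ⟨c, hcc, i, j, k, l, hw⟩ := COneEv.dec hev d.sq h2' w
      refine ⟨ι c, d.mem c, fun x hxH => (hCS c).2 hcc ⟨x, hxH⟩, i, j, k, l, ?_⟩
      rw [hw, map_mul, map_mul]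
    indep := by
      intro i j k l hfix
      rw [← map_mul] at hfix ⊢
      have h3 : ev i j * ev k l ∈ CS σ ⊤ := (hCS _).1 fun x => hfix x x.2
      rw [COneEv.indep hev d.sq h3, map_one]
    imT := fun x => by
      rw [hTim, D8_eq]
      exact Iff.rfl
    imB := fun x => ⟨hred (bau T) (bau_le T) hB1 x, fun hx => (sup_le_sup_right (jj_le_bau T) _) (hcov x hx)⟩
    imJ := fun x => ⟨hred (jj T) (jj_le T) hJ1 x, hcov x⟩ }

end

end Cfsg.Agent.OddCyclic.COneFFV
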