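import Mathlib
import Cfsg.Agent.S0144
import Cfsg.Agent.OddCyclic.COneBase
import Cfsg.Agent.OddCyclic.COneKey
import Cfsg.Agent.MinSimple.CaseOneEnd

/-!
# Unique maximal 2-local subgroup, `H / O₂(H) = S₅`: reduction to the dihedral block of `Sym {0,1} × Sym {2,3,4}`
-/

set_option autoImplicit false

namespace Cfsg.Agent.OddCyclic.COneFive

open Subgroup Equiv

/-! ### Permutations of five points -/

def col : Fin 5 → Fin 3 := ![0, 0, 1, 1, 2]

/-- the stabiliser of `{0, 1}` -/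
def S01 : Subgroup (Perm (Fin 5)) where
  carrier := {σ | ∀ i, col (σ i) = 0 ↔ col i = 0}
  one_mem' := fun _ => Iff.rfl
  mul_mem' := fun {a b} ha hb i => by
    rw [Perm.mul_apply]
    exact (ha _).trans (hb _)
  inv_mem' := fun {a} ha i => by
    have := ha (a⁻¹ i)
    rw [show a (a⁻¹ i) = i from a.apply_symm_apply i] at this
    exact this.symm

theorem mem_S01 {σ : Perm (Fin 5)} : σ ∈ S01 ↔ ∀ i, col (σ i) = 0 ↔ col i = 0 := Iff.rfl

/-- `⟨(0 1), (2 3)⟩` -/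
def V4 : Subgroup (Perm (Fin 5)) := MulAction.stabilizer (Perm (Fin 5)) (4 : Fin 5) ⊓ S01

theorem mem_V4 {σ : Perm (Fin 5)} : σ ∈ V4 ↔ σ 4 = 4 ∧ σ ∈ S01 := Iff.rfl

theorem V4_le : V4 ≤ S01 := inf_le_right

theorem v4_aux : ∀ σ : Perm (Fin 5), σ 4 = 4 → (∀ i, col (σ i) = 0 ↔ col i = 0) →
    σ = 1 ∨ σ = swap 0 1 ∨ σ = swap 2 3 ∨ σ = swap 0 1 * swap 2 3 := by
  decide +kernel

theorem closure_eq_V4 : closure {swap 0 1, swap 2 3} = V4 := by
  apply le_antisymm
  · rw [Subgroup.closure_le]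
    rintro τ (rfl | rfl)
    · exact ⟨show swap (0 : Fin 5) 1 4 = 4 by decide, mem_S01.2 (by decide)⟩
    · exact ⟨show swap (2 : Fin 5) 3 4 = 4 by decide, mem_S01.2 (by decide)⟩
  · rintro σ ⟨h1, h2⟩
    have m1 : swap 0 1 ∈ Subgroup.closure ({swap 0 1, swap 2 3} : Set (Perm (Fin 5))) :=
      Subgroup.subset_closure (Or.inl rfl)
    have m2 : swap 2 3 ∈ Subgroup.closure ({swap 0 1, swap 2 3} : Set (Perm (Fin 5))) :=
      Subgroup.subset_closure (Or.inr rfl)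
    rcases v4_aux σ h1 h2 with rfl | rfl | rfl | rfl
    · exact one_mem _
    · exact m1
    · exact m2
    · exact mul_mem m1 m2

def sw : Fin 3 → Fin 3 := ![1, 0, 2]

/-- the stabiliser of the partition `{0, 1}, {2, 3}, {4}` -/
def D8 : Subgroup (Perm (Fin 5)) where
  carrier := {σ | (∀ i, col (σ i) = col i) ∨ (∀ i, col (σ i) = sw (col i))}
  one_mem' := Or.inl fun _ => rfl
  mul_mem' := fun {a b} ha hb => by
    have hsw : ∀ x, sw (sw x) = x := by decide
    rcases ha with ha | ha <;> rcases hb with hb | hb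
    · left; intro i; rw [Perm.mul_apply, ha, hb]
    · right; intro i; rw [Perm.mul_apply, ha, hb]
    · right; intro i; rw [Perm.mul_apply, ha, hb]
    · left; intro i; rw [Perm.mul_apply, ha, hb, hsw]
  inv_mem' := fun {a} ha => by
    have hsw : ∀ x, sw (sw x) = x := by decide
    rcases ha with ha | ha
    · left; intro i
      have := ha (a⁻¹ i)
      rw [show a (a⁻¹ i) = i from a.apply_symm_apply i] at this
      exact this.symm
    · right; intro i
      have := ha (a⁻¹ i)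
      rw [show a (a⁻¹ i) = i from a.apply_symm_apply i] at this
      rw [this, hsw]

theorem closure_le_D8 : closure {swap 0 1, swap 2 3, swap 0 2 * swap 1 3} ≤ D8 := by
  rw [Subgroup.closure_le]
  rintro τ (rfl | rfl | rfl)
  · left; decide
  · left; decide
  · right; decide

theorem V4_le_closure : V4 ≤ closure {swap 0 1, swap 2 3, swap 0 2 * swap 1 3} := by
  rw [← closure_eq_V4, Subgroup.closure_le]
  rintro τ (rfl | rfl)
  · exact subset_closure (Or.inl rfl)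
  · exact subset_closure (Or.inr (Or.inl rfl))

theorem closure_inf_le : closure {swap 0 1, swap 2 3, swap 0 2 * swap 1 3} ⊓ S01 ≤ V4 := by
  rintro σ ⟨h1, h2⟩
  refine mem_V4.2 ⟨?_, h2⟩
  rcases closure_le_D8 h1 with h | h
  · have h3 : ∀ j : Fin 5, col j = 2 → j = 4 := by decide
    exact h3 _ (by rw [h]; rfl)
  · have h3 : ∀ j : Fin 5, col j = 2 → j = 4 := by decide
    exact h3 _ (by rw [h]; rfl)

theorem eq_top {K : Subgroup (Perm (Fin 5))} (h1 : S01 ≤ K) (h2 : swap 0 2 * swap 1 3 ∈ K) : K = ⊤ := by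
  have m1 : swap (0 : Fin 5) 1 ∈ K := h1 (mem_S01.2 (by decide))
  have m3 : swap (3 : Fin 5) 4 ∈ K := h1 (mem_S01.2 (by decide))
  have m4 : swap (2 : Fin 5) 4 ∈ K := h1 (mem_S01.2 (by decide))
  have m5 : swap (0 : Fin 5) 4 ∈ K := by
    have : swap (0 : Fin 5) 4 = (swap 0 2 * swap 1 3) * swap 2 4 * (swap 0 2 * swap 1 3)⁻¹ := by decide
    rw [this]
    exact mul_mem (mul_mem h2 m4) (inv_mem h2)
  have m6 : swap (1 : Fin 5) 4 ∈ K := by
    have : swap (1 : Fin 5) 4 = swap 0 1 * swap 0 4 * (swap 0 1)⁻¹ := by decide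
    rw [this]
    exact mul_mem (mul_mem m1 m5) (inv_mem m1)
  have m7 : ∀ i : Fin 5, swap i 4 ∈ K := by
    intro i
    fin_cases i
    · exact m5
    · exact m6
    · exact m4
    · exact m3
    · have : swap (4 : Fin 5) 4 = 1 := swap_self _
      change swap (4 : Fin 5) 4 ∈ K
      rw [this]; exact one_mem _
  rw [eq_top_iff, ← Perm.closure_isSwap, Subgroup.closure_le]
  rintro σ ⟨i, j, hij, rfl⟩
  by_cases hi : i = 4
  · rw [hi, swap_comm]; exact m7 j
  by_cases hj : j = 4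
  · rw [hj]; exact m7 i
  have : swap i j = swap i 4 * swap j 4 * swap i 4 := by
    rw [swap_comm i 4]
    exact (Equiv.swap_mul_swap_mul_swap hj (Ne.symm hij)).symm
  rw [this]
  exact mul_mem (mul_mem (m7 i) (m7 j)) (m7 i)

/-- a normal subgroup containing a transposition is everything -/
theorem eq_top_of_normal {K : Subgroup (Perm (Fin 5))} [hK : K.Normal] (h : swap 0 1 ∈ K) : K = ⊤ := by
  rw [eq_top_iff, ← Perm.closure_isSwap, Subgroup.closure_le]
  rintro σ ⟨i, j, hij, rfl⟩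
  obtain ⟨τ, hτ⟩ := isConj_iff.1 (Perm.isConj_swap (show (0 : Fin 5) ≠ 1 by decide) hij)
  rw [← hτ]
  exact hK.conj_mem _ h τ

theorem card_S01 : Nat.card S01 = 12 := by
  have : Nat.card S01 = Fintype.card {σ : Perm (Fin 5) // ∀ i, col (σ i) = 0 ↔ col i = 0} := by
    rw [← Nat.card_eq_fintype_card]
    rfl
  rw [this]
  decide +kernel

theorem card_V4 : Nat.card V4 = 4 := by
  have : Nat.card V4 = Fintype.card {σ : Perm (Fin 5) // σ 4 = 4 ∧ ∀ i, col (σ i) = 0 ↔ col i = 0} := by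
    rw [← Nat.card_eq_fintype_card]
    rfl
  rw [this]
  decide +kernel

theorem relIndex_V4 : V4.relIndex S01 = 3 := by
  have h1 := (V4.subgroupOf S01).card_mul_index
  rw [Nat.card_congr (Subgroup.subgroupOfEquivOfLe V4_le).toEquiv, card_S01, card_V4] at h1
  change (V4.subgroupOf S01).index = 3
  omega

/-- an element of odd order of `S01` fixes `0` and `1` -/
theorem fix_of_odd {σ : Perm (Fin 5)} (h : σ ∈ S01) {k : ℕ} (hk : σ ^ (3 ^ k) = 1) : σ 0 = 0 ∧ σ 1 = 1 := by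
  have h2 : (σ * σ) 0 = 0 ∧ (σ * σ) 1 = 1 := by
    have h0 := (h 0).2 rfl
    have h1 := (h 1).2 rfl
    have h3 : ∀ j : Fin 5, col j = 0 → j = 0 ∨ j = 1 := by decide
    have hne : σ 0 ≠ σ 1 := fun e => absurd (σ.injective e) (by decide)
    rw [Perm.mul_apply, Perm.mul_apply]
    rcases h3 _ h0 with e0 | e0 <;> rcases h3 _ h1 with e1 | e1
    · exact absurd (e0.trans e1.symm) hne
    · exact ⟨by rw [e0, e0], by rw [e1, e1]⟩
    · exact ⟨by rw [e0, e1], by rw [e1, e0]⟩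
    · exact absurd (e0.trans e1.symm) hne
  obtain ⟨m, hm⟩ : ∃ m : ℕ, 2 * m = 3 ^ k + 1 := by
    have : Odd (3 ^ k) := Odd.pow (by decide)
    obtain ⟨n, hn⟩ := this
    exact ⟨n + 1, by omega⟩
  have e : σ = (σ * σ) ^ m := by
    rw [← pow_two, ← pow_mul, hm, pow_succ, hk, one_mul]
  have hm0 : ∀ i : Fin 5, (σ * σ) i = i → ((σ * σ) ^ m) i = i := by
    intro i hi
    exact (MulAction.stabilizer (Perm (Fin 5)) i).pow_mem (show σ * σ ∈ MulAction.stabilizer (Perm (Fin 5)) i from hi) m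
  exact ⟨by rw [e]; exact hm0 0 h2.1, by rw [e]; exact hm0 1 h2.2⟩

theorem fix_of_col_two : ∀ j : Fin 5, col j = 2 → j = 4 := by decide

theorem col_cases : ∀ j : Fin 5, col j = 0 ∨ j = 2 ∨ j = 3 ∨ j = 4 := by decide

theorem exists_m : ∀ a b i j : Fin 5, ∃ m : Fin 5, m ≠ a ∧ m ≠ b ∧ m ≠ i ∧ m ≠ j := by decide +kernel

open Cfsg Cfsg.Agent.ZN
open Cfsg.Agent.OddCyclic.COneDefs
open Cfsg.Agent.PLocal.ThompsonJ
open Cfsg.Agent.MinSimple.CaseOneCfg (Cfg GoodBlk)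
open Cfsg.Agent.MinSimple (IsDBlk)

universe u

variable {G : Type u} [Group G] {M T H : Subgroup G} {s : G} {φ : H →* Perm (Fin 5)} {e : Fin 5 → Fin 5 → G}

/-! ### The points and planes -/

theorem mem_ker (h : FiveConf M T H s φ e) {x : H} : φ x = 1 ↔ (x : G) ∈ o2 H := by
  rw [← MonoidHom.mem_ker, h.ker, mem_subgroupOf]

theorem e_comm (h : FiveConf M T H s φ e) (i j k l : Fin 5) : e i j * e k l = e k l * e i j :=
  h.zl_comm _ (h.mem i j) _ (h.mem k l)

theorem e_sq (h : FiveConf M T H s φ e) (i j : Fin 5) : e i j * e i j = 1 := by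
  calc e i j * e i j = e i j * e j i := by rw [h.symm j i]
    _ = e i i := h.mul i j i
    _ = 1 := h.self i

theorem W_le_Q (h : FiveConf M T H s φ e) : zl T H ≤ o2 H := by
  intro x hx
  have h1 : zl T H ≤ H := zl_le ((zc_le T).trans h.conf.le) le_normalizer
  exact h.cent x (h1 hx) fun v hv => h.zl_comm x hx v hv

theorem W_le_T [Finite G] (h : FiveConf M T H s φ e) : zl T H ≤ T := (W_le_Q h).trans (COneBase.o2_le_T h.conf)

theorem W_conj {g w : G} (hg : g ∈ H) (hw : w ∈ zl T H) : g * w * g⁻¹ ∈ zl T H :=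
  (mem_normalizer_iff.1 (le_normalizer_zl T H hg) w).1 hw

/-- `e a b = e i j`, `a ≠ b` implies `a ∈ {i, j}` -/
theorem mem_of_eq (h : FiveConf M T H s φ e) {a b i j : Fin 5} (hab : a ≠ b) (he : e a b = e i j) :
    a = i ∨ a = j := by
  by_contra hcon
  push Not at hcon
  obtain ⟨m, hma, hmb, hmi, hmj⟩ := exists_m a b i j
  obtain ⟨g, hg⟩ := h.surj (swap a m)
  have h1 := h.conj g a b
  have h2 := h.conj g i j
  rw [hg, swap_apply_left, swap_apply_of_ne_of_ne hab.symm hmb.symm] at h1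
  rw [hg, swap_apply_of_ne_of_ne (Ne.symm hcon.1) hmi.symm, swap_apply_of_ne_of_ne (Ne.symm hcon.2) hmj.symm] at h2
  have h3 : e m b = e a b := by rw [← h1, he, h2]
  apply h.ne a m hma.symm
  calc e a m = e a b * e b m := (h.mul a b m).symm
    _ = e a b * e m b := by rw [h.symm b m]
    _ = e a b * e a b := by rw [h3]
    _ = 1 := e_sq h a b

theorem phi_A (h : FiveConf M T H s φ e) {A : Subgroup G} (hA : IsMaxIn T A) :
    (A.subgroupOf H).map φ ≤ V4 := by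
  rintro _ ⟨a, ha, rfl⟩
  rw [← closure_eq_V4]
  exact (h.imJ a).1 (mem_sup_left (hA.le_jj ha))

theorem inf_W [Finite G] (h : FiveConf M T H s φ e) {A : Subgroup G} (hA : IsMaxIn T A) {w : G} :
    w ∈ (A ⊓ o2 H) ⊓ zl T H ↔ w ∈ zl T H ∧ ∀ a ∈ A, a * w = w * a := by
  have hA2 := isElementaryAbelian_iff.1 hA.2.1
  constructor
  · rintro ⟨⟨hwA, -⟩, hw⟩
    exact ⟨hw, fun a ha => hA2.1 a ha w hwA⟩
  · rintro ⟨hw, hwA⟩
    exact ⟨⟨hA.mem_of_comm (W_le_T h hw) (by rw [pow_two]; exact h.zl_sq w hw) fun a ha =>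
          hwA a ha, W_le_Q h hw⟩, hw⟩

theorem index_le [Finite G] (h : FiveConf M T H s φ e) {A : Subgroup G} (hA : IsMaxIn T A) :
    (A ⊓ o2 H).relIndex A ≤ (A ⊓ o2 H).relIndex (zl T H) := by
  have hAH : A ≤ H := hA.1.trans h.conf.le
  have h1 : (A ⊓ o2 H).relIndex A = Nat.card ((A.subgroupOf H).map φ) := by
    rw [← Subgroup.relIndex_ker, h.ker, Subgroup.relIndex_subgroupOf hAH, ← Subgroup.inf_relIndex_right (o2 H) A, inf_comm]
  have hc0 : (A ⊓ o2 H).relIndex (zl T H) ≠ 0 := Subgroup.index_ne_zero_of_finite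
  have hd : Nat.card ((A.subgroupOf H).map φ) ∣ 4 := by
    rw [← card_V4]; exact Subgroup.card_dvd_of_le (phi_A h hA)
  have hcent : ∀ w ∈ zl T H, (A ⊓ o2 H).relIndex (zl T H) = 1 → ∀ a ∈ A, a * w = w * a := by
    intro w hw hc a ha
    rw [Subgroup.relIndex_eq_one] at hc
    exact ((inf_W h hA).1 ⟨hc hw, hw⟩).2 a ha
  have hne1 : 1 < Nat.card ((A.subgroupOf H).map φ) → (A ⊓ o2 H).relIndex (zl T H) ≠ 1 := by
    intro h2 hc
    have h3 : (A.subgroupOf H).map φ = ⊥ := by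
      rw [eq_bot_iff]
      rintro _ ⟨a, ha, rfl⟩
      rw [mem_bot, mem_ker h]
      exact h.cent a a.2 fun v hv => hcent v hv hc a ha
    rw [h3, card_bot] at h2
    omega
  rw [h1]
  have h4 : Nat.card ((A.subgroupOf H).map φ) = 1 ∨ Nat.card ((A.subgroupOf H).map φ) = 2 ∨
      Nat.card ((A.subgroupOf H).map φ) = 4 := by
    obtain ⟨k, hk, hk'⟩ := (Nat.dvd_prime_pow Nat.prime_two (m := 2)).1 hd
    interval_cases k <;> simp_all
  rcases h4 with h4 | h4 | h4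
  · omega
  · have := hne1 (by omega); omega
  · have h5 : (A.subgroupOf H).map φ = V4 := eq_of_le_of_card_ge (phi_A h hA) (by rw [card_V4, h4])
    have hc1 := hne1 (by omega)
    -- a power of two
    have h6 : ∃ k, (A ⊓ o2 H).relIndex (zl T H) = 2 ^ k := by
      have hW : IsPGroup 2 (zl T H) := h.conf.cfg.two.to_le (W_le_T h)
      have : Fact (Nat.Prime 2) := ⟨Nat.prime_two⟩
      obtain ⟨n, hn⟩ := IsPGroup.iff_card.1 hW
      have h7 : (A ⊓ o2 H).relIndex (zl T H) ∣ 2 ^ n := by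
        rw [← hn]
        exact Subgroup.relIndex_dvd_card _ _
      obtain ⟨k, -, hk⟩ := (Nat.dvd_prime_pow Nat.prime_two).1 h7
      exact ⟨k, hk⟩
    have hc2 : (A ⊓ o2 H).relIndex (zl T H) ≠ 2 := by
      intro hc
      have h7 : ∀ i j : Fin 5, e i j ∈ zl T H := h.mem
      have key : ∀ σ : Perm (Fin 5), σ ∈ V4 → ∀ i j, (⟨e i j, h.mem i j⟩ : zl T H) ∈ (A ⊓ o2 H).subgroupOf (zl T H) →
          e (σ i) (σ j) = e i j := by
        intro σ hσ i j hij
        rw [← h5] at hσ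
        obtain ⟨a, ha, rfl⟩ := hσ
        rw [← h.conj a i j]
        have : (a : G) * e i j = e i j * a := ((inf_W h hA).1 ⟨hij, h.mem i j⟩).2 a ha
        rw [this, mul_inv_cancel_right]
      have m1 : swap (0 : Fin 5) 1 ∈ V4 := by rw [← closure_eq_V4]; exact subset_closure (Or.inl rfl)
      have m2 : swap (2 : Fin 5) 3 ∈ V4 := by rw [← closure_eq_V4]; exact subset_closure (Or.inr rfl)
      have n1 : (⟨e 0 4, h.mem 0 4⟩ : zl T H) ∉ (A ⊓ o2 H).subgroupOf (zl T H) := by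
        intro h8
        have h9 := key _ m1 0 4 h8
        rw [show swap (0 : Fin 5) 1 0 = 1 by decide, show swap (0 : Fin 5) 1 4 = 4 by decide] at h9
        exact absurd (mem_of_eq h (by decide) h9) (by decide)
      have n2 : (⟨e 4 2, h.mem 4 2⟩ : zl T H) ∉ (A ⊓ o2 H).subgroupOf (zl T H) := by
        intro h8
        have h9 := key _ m2 4 2 h8
        rw [show swap (2 : Fin 5) 3 2 = 3 by decide, show swap (2 : Fin 5) 3 4 = 4 by decide, h.symm 4 3] at h9
        exact absurd (mem_of_eq h (by decide) h9) (by decide)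
      have n3 : (⟨e 0 2, h.mem 0 2⟩ : zl T H) ∉ (A ⊓ o2 H).subgroupOf (zl T H) := by
        intro h8
        have h9 := key _ m1 0 2 h8
        rw [show swap (0 : Fin 5) 1 0 = 1 by decide, show swap (0 : Fin 5) 1 2 = 2 by decide] at h9
        exact absurd (mem_of_eq h (by decide) h9) (by decide)
      have h10 := (Subgroup.mul_mem_iff_of_index_two (H := (A ⊓ o2 H).subgroupOf (zl T H)) hc
        (a := ⟨e 0 4, h.mem 0 4⟩) (b := ⟨e 4 2, h.mem 4 2⟩)).2 (iff_of_false n1 n2)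
      apply n3
      have h11 : (⟨e 0 4, h.mem 0 4⟩ * ⟨e 4 2, h.mem 4 2⟩ : zl T H) = ⟨e 0 2, h.mem 0 2⟩ :=
        Subtype.ext (h.mul 0 4 2)
      rwa [h11] at h10
    obtain ⟨k, hk⟩ := h6
    rw [h4, hk]
    rw [hk] at hc1 hc2
    match k, hc1, hc2 with
    | 0, h, _ => exact absurd rfl h
    | 1, _, h => exact absurd rfl h
    | (k + 2), _, _ =>
      rw [pow_add]
      have : 0 < 2 ^ k := by positivity
      omega

/-! ### Baumann's argument -/

theorem exists_mul_of_mem_sup {A N : Subgroup G} (h : A ≤ normalizer (N : Set G)) {x : G} (hx : x ∈ A ⊔ N) :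
    ∃ a ∈ A, ∃ b ∈ N, x = a * b := by
  have h1 : x ∈ ((A ⊔ N : Subgroup G) : Set G) := hx
  rw [Subgroup.coe_mul_of_left_le_normalizer_right A N h, Set.mem_mul] at h1
  obtain ⟨a, ha, b, hb, hab⟩ := h1
  exact ⟨a, ha, b, hb, hab.symm⟩

theorem le_normalizer_of_comm {A L : Subgroup G} (hc : ∀ x ∈ A, ∀ y ∈ L, x * y = y * x) :
    A ≤ normalizer (L : Set G) := by
  rw [le_normalizer_iff]
  intro x hx y hy
  rw [hc x hx y hy, mul_inv_cancel_right]
  exact hy

theorem card_mul_relIndex {A B : Subgroup G} (h : A ≤ B) :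
    Nat.card A * A.relIndex B = Nat.card B := by
  have h1 := Subgroup.relIndex_mul_relIndex (⊥ : Subgroup G) A B bot_le h
  rwa [Subgroup.relIndex_bot_left, Subgroup.relIndex_bot_left] at h1

theorem W_norm (h : FiveConf M T H s φ e) (A : Subgroup G) :
    zl T H ≤ normalizer ((A ⊓ o2 H : Subgroup G) : Set G) :=
  le_normalizer_of_comm fun x hx _ hy => (h.cent' _ hy.2 x hx).symm

/-- `W (A ∩ Q)` is again a largest elementary abelian subgroup of `T`. -/
theorem isMaxIn_sup [Finite G] (h : FiveConf M T H s φ e) {A : Subgroup G} (hA : IsMaxIn T A) :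
    IsMaxIn T (zl T H ⊔ (A ⊓ o2 H)) := by
  set D : Subgroup G := A ⊓ o2 H with hD
  have hA2 := isElementaryAbelian_iff.1 hA.2.1
  have hmul : ∀ x ∈ zl T H ⊔ D, ∃ w ∈ zl T H, ∃ a ∈ D, x = w * a := fun x hx =>
    exists_mul_of_mem_sup (W_norm h A) hx
  have hel : IsElementaryAbelian 2 (zl T H ⊔ D : Subgroup G) := by
    rw [isElementaryAbelian_iff]
    constructor
    · intro x hx y hy
      obtain ⟨w, hw, a, ha, rfl⟩ := hmul x hx
      obtain ⟨w', hw', a', ha', rfl⟩ := hmul y hy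
      have e1 := h.zl_comm w hw w' hw'
      have e2 := hA2.1 a ha.1 a' ha'.1
      have e3 := h.cent' a ha.2 w' hw'
      have e4 := h.cent' a' ha'.2 w hw
      calc w * a * (w' * a') = w * (a * w') * a' := by group
        _ = (w * w') * (a * a') := by rw [e3]; group
        _ = w' * (w * a') * a := by rw [e1, e2]; group
        _ = w' * a' * (w * a) := by rw [← e4]; group
    · intro x hx
      obtain ⟨w, hw, a, ha, rfl⟩ := hmul x hx
      have e3 := h.cent' a ha.2 w hw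
      have e5 := hA2.2 a ha.1
      rw [pow_two] at e5 ⊢
      calc w * a * (w * a) = w * (a * w) * a := by group
        _ = (w * w) * (a * a) := by rw [e3]; group
        _ = 1 := by rw [h.zl_sq w hw, e5, one_mul]
  refine ⟨sup_le (W_le_T h) (inf_le_left.trans hA.1), hel, fun B hB hB2 => (hA.2.2 B hB hB2).trans ?_⟩
  have h1 := card_mul_relIndex (inf_le_left : D ≤ A)
  have h2 := card_mul_relIndex (le_sup_right : D ≤ zl T H ⊔ D)
  have h5 : D.relIndex (zl T H) ≤ D.relIndex (zl T H ⊔ D) :=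
    Subgroup.relIndex_le_of_le_right le_sup_left Subgroup.index_ne_zero_of_finite
  rw [← h1, ← h2]
  exact Nat.mul_le_mul_left _ ((index_le h hA).trans h5)

theorem sup_le_Q (h : FiveConf M T H s φ e) (A : Subgroup G) : zl T H ⊔ (A ⊓ o2 H) ≤ o2 H :=
  sup_le (W_le_Q h) inf_le_right

/-- `Z_J ≤ Z_J(Q)`. -/
theorem zj_le_zj [Finite G] (h : FiveConf M T H s φ e) : zj T ≤ zj (o2 H) := by
  obtain ⟨A, hA⟩ := exists_isMaxIn T
  have h1 : jj (o2 H) ≤ jj T := jj_le_jj_of_isMaxIn (isMaxIn_sup h hA) (sup_le_Q h A) (COneBase.o2_le_T h.conf)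
  intro x hx
  exact mem_zj_of_comm (sup_le_Q h A ((isMaxIn_sup h hA).zj_le hx)) (zj_sq hx)
    fun b hb => (mem_zj.1 hx).2.1 b (h1 hb)

theorem comm_A [Finite G] (h : FiveConf M T H s φ e) {A : Subgroup G} (hA : IsMaxIn T A)
    {a y : G} (ha : a ∈ A) (hy : y ∈ zj (o2 H)) : a * y * a⁻¹ * y⁻¹ ∈ zl T H := by
  have h1 : IsMaxIn (o2 H) (zl T H ⊔ (A ⊓ o2 H)) := (isMaxIn_sup h hA).mono (sup_le_Q h A) (COneBase.o2_le_T h.conf)
  have h2 := h1.zj_le hy
  obtain ⟨w, hw, c, hc, rfl⟩ := exists_mul_of_mem_sup (W_norm h A) h2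
  have e1 := (isElementaryAbelian_iff.1 hA.2.1).1 a ha c hc.1
  have e2 : a * (w * c) * a⁻¹ * (w * c)⁻¹ = (a * w * a⁻¹) * w⁻¹ := by
    calc a * (w * c) * a⁻¹ * (w * c)⁻¹ = a * w * (c * a⁻¹) * c⁻¹ * w⁻¹ := by group
      _ = a * w * (a⁻¹ * c) * c⁻¹ * w⁻¹ := by
        have : c * a⁻¹ = a⁻¹ * c := by
          calc c * a⁻¹ = a⁻¹ * (a * c) * a⁻¹ := by group
            _ = a⁻¹ * (c * a) * a⁻¹ := by rw [e1]
            _ = a⁻¹ * c := by group
        rw [this]
      _ = (a * w * a⁻¹) * w⁻¹ := by group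
  rw [e2]
  exact mul_mem (W_conj (h.conf.le (hA.1 ha)) hw) (inv_mem hw)

/-- the elements of `H` centralising `Z_J(Q) / W` -/
def PP (T H : Subgroup G) : Subgroup G where
  carrier := {x | x ∈ H ∧ ∀ y ∈ zj (o2 H), x * y * x⁻¹ * y⁻¹ ∈ zl T H}
  one_mem' := ⟨one_mem _, fun y _ => by simp⟩
  mul_mem' := by
    rintro a b ⟨haH, ha⟩ ⟨hbH, hb⟩
    refine ⟨mul_mem haH hbH, fun y hy => ?_⟩
    have e : a * b * y * (a * b)⁻¹ * y⁻¹ = (a * (b * y * b⁻¹ * y⁻¹) * a⁻¹) * (a * y * a⁻¹ * y⁻¹) := by group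
    rw [e]
    exact mul_mem ((mem_normalizer_iff.1 (le_normalizer_zl T H haH) _).1 (hb y hy)) (ha y hy)
  inv_mem' := by
    rintro a ⟨haH, ha⟩
    refine ⟨inv_mem haH, fun y hy => ?_⟩
    have h1 := inv_mem (ha y hy)
    have h2 := (mem_normalizer_iff.1 (le_normalizer_zl T H (inv_mem haH)) _).1 h1
    have e : a⁻¹ * (a * y * a⁻¹ * y⁻¹)⁻¹ * a⁻¹⁻¹ = a⁻¹ * y * a⁻¹⁻¹ * y⁻¹ := by group
    rwa [e] at h2

theorem zj_conj {g y : G} (hg : g ∈ H) (hy : y ∈ zj (o2 H)) : g * y * g⁻¹ ∈ zj (o2 H) :=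
  (mem_normalizer_iff.1 (((le_normalizer_o2 H).trans (normalizer_le_normalizer_zj (o2 H))) hg) y).1 hy

theorem PP_conj {g x : G} (hg : g ∈ H) (hx : x ∈ PP T H) : g * x * g⁻¹ ∈ PP T H := by
  obtain ⟨h2, h3⟩ := hx
  refine ⟨mul_mem (mul_mem hg h2) (inv_mem hg), fun y hy => ?_⟩
  have h4 : g⁻¹ * y * g ∈ zj (o2 H) := by
    have := zj_conj (inv_mem hg) hy
    rwa [inv_inv] at this
  have h5 := (mem_normalizer_iff.1 (le_normalizer_zl T H hg) _).1 (h3 _ h4)
  have e : g * (x * (g⁻¹ * y * g) * x⁻¹ * (g⁻¹ * y * g)⁻¹) * g⁻¹ = g * x * g⁻¹ * y * (g * x * g⁻¹)⁻¹ * y⁻¹ := by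
    group
  rwa [e] at h5

theorem jj_le_PP [Finite G] (h : FiveConf M T H s φ e) : jj T ≤ PP T H :=
  jj_le_of_forall fun _ hA _ ha => ⟨h.conf.le (hA.1 ha), fun _ hy => comm_A h hA ha hy⟩

/-- elements of 3-power order of `H` centralise `Z_J(Q) / W` -/
theorem mem_PP [Finite G] (h : FiveConf M T H s φ e) {y : G} (hy : y ∈ H) {k : ℕ} (hk : y ^ 3 ^ k = 1) :
    y ∈ PP T H := by
  set P := (PP T H).subgroupOf H with hP
  have hPn : P.Normal := ⟨fun x hx g => PP_conj g.2 hx⟩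
  have h1 : (P.map φ).Normal := hPn.map φ h.surj
  obtain ⟨t, ht⟩ := h.surj (swap 0 1)
  have h2 : (t : G) ∈ jj T ⊔ o2 H := by
    rw [h.imJ, ht]
    exact subset_closure (Or.inl rfl)
  have hJn : jj T ≤ normalizer (o2 H : Set G) := ((jj_le T).trans h.conf.le).trans (le_normalizer_o2 H)
  obtain ⟨j, hj, x, hx, hjx⟩ := exists_mul_of_mem_sup hJn h2
  have h3 : P.map φ = ⊤ := by
    apply eq_top_of_normal
    refine ⟨⟨j, h.conf.le (jj_le T hj)⟩, jj_le_PP h hj, ?_⟩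
    rw [← ht]
    have h4 : t = ⟨j, h.conf.le (jj_le T hj)⟩ * ⟨x, o2_le H hx⟩ := Subtype.ext hjx
    rw [h4, map_mul, (mem_ker h (x := ⟨x, o2_le H hx⟩)).2 hx, mul_one]
  obtain ⟨p, hp, hpy⟩ : φ ⟨y, hy⟩ ∈ P.map φ := by rw [h3]; exact mem_top _
  have h5 : φ (p⁻¹ * ⟨y, hy⟩) = 1 := by rw [map_mul, map_inv, hpy, inv_mul_cancel]
  have h6 := (mem_ker h).1 h5
  obtain ⟨n, hn⟩ := (isPGroup_o2 H) ⟨_, h6⟩
  have hn' : ((p⁻¹ * ⟨y, hy⟩ : H) : G) ^ 2 ^ n = 1 := congrArg Subtype.val hn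
  have h7 : (p⁻¹ * ⟨y, hy⟩) ^ 2 ^ n = 1 := Subtype.ext hn'
  have h8 : (QuotientGroup.mk (⟨y, hy⟩ : H) : H ⧸ P) = QuotientGroup.mk (p⁻¹ * ⟨y, hy⟩) := by
    rw [QuotientGroup.mk_mul, QuotientGroup.mk_inv, (QuotientGroup.eq_one_iff p).2 hp, inv_one, one_mul]
  have h9 : (⟨y, hy⟩ : H) ^ 2 ^ n ∈ P := by
    rw [← QuotientGroup.eq_one_iff, QuotientGroup.mk_pow, h8, ← QuotientGroup.mk_pow, h7, QuotientGroup.mk_one]
  have h10 : y ^ 2 ^ n ∈ PP T H := h9
  have h11 : y ∈ zpowers (y ^ 2 ^ n) := by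
    rw [mem_zpowers_pow_iff]
    have h12 : orderOf y ∣ 3 ^ k := orderOf_dvd_of_pow_eq_one hk
    exact Nat.Coprime.coprime_dvd_right h12 (Nat.Coprime.pow _ _ (by norm_num))
  exact (zpowers_le.2 h10) h11

/-! ### The plane `⟨e 2 3, e 3 4⟩` -/

def E1 (h : FiveConf M T H s φ e) : Subgroup G where
  carrier := {x | x = 1 ∨ x = e 2 3 ∨ x = e 2 4 ∨ x = e 3 4}
  one_mem' := Or.inl rfl
  mul_mem' := by
    have m := h.mul
    have sq := e_sq h
    have a1 : e 2 3 * e 2 4 = e 3 4 := by rw [h.symm 2 3]; exact m 3 2 4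
    have a2 : e 2 3 * e 3 4 = e 2 4 := m 2 3 4
    have a3 : e 2 4 * e 2 3 = e 3 4 := by rw [e_comm h, a1]
    have a4 : e 2 4 * e 3 4 = e 2 3 := by rw [h.symm 3 4]; exact m 2 4 3
    have a5 : e 3 4 * e 2 3 = e 2 4 := by rw [e_comm h, a2]
    have a6 : e 3 4 * e 2 4 = e 2 3 := by rw [e_comm h, a4]
    rintro a b (rfl | rfl | rfl | rfl) (rfl | rfl | rfl | rfl)
    · left; rw [mul_one]
    · right; left; rw [one_mul]
    · right; right; left; rw [one_mul]
    · right; right; right; rw [one_mul]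
    · right; left; rw [mul_one]
    · left; exact sq 2 3
    · right; right; right; exact a1
    · right; right; left; exact a2
    · right; right; left; rw [mul_one]
    · right; right; right; exact a3
    · left; exact sq 2 4
    · right; left; exact a4
    · right; right; right; rw [mul_one]
    · right; right; left; exact a5
    · right; left; exact a6
    · left; exact sq 3 4
  inv_mem' := by
    have sq := e_sq h
    rintro a (rfl | rfl | rfl | rfl)
    · left; exact inv_one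
    · right; left; exact inv_eq_of_mul_eq_one_left (sq 2 3)
    · right; right; left; exact inv_eq_of_mul_eq_one_left (sq 2 4)
    · right; right; right; exact inv_eq_of_mul_eq_one_left (sq 3 4)

theorem mem_E1 (h : FiveConf M T H s φ e) {x : G} : x ∈ E1 h ↔ x = 1 ∨ x = e 2 3 ∨ x = e 2 4 ∨ x = e 3 4 := Iff.rfl

theorem mem_E1_of (h : FiveConf M T H s φ e) {i j : Fin 5} (hi : col i ≠ 0) (hj : col j ≠ 0) : e i j ∈ E1 h := by
  have a : ∀ i : Fin 5, col i ≠ 0 → i = 2 ∨ i = 3 ∨ i = 4 := by decide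
  rw [mem_E1]
  rcases a i hi with rfl | rfl | rfl <;> rcases a j hj with rfl | rfl | rfl
  · left; exact h.self 2
  · right; left; rfl
  · right; right; left; rfl
  · right; left; exact h.symm 3 2
  · left; exact h.self 3
  · right; right; right; rfl
  · right; right; left; exact h.symm 4 2
  · right; right; right; exact h.symm 4 3
  · left; exact h.self 4

theorem exists_of_mem_E1 (h : FiveConf M T H s φ e) {x : G} (hx : x ∈ E1 h) :
    ∃ i j : Fin 5, col i ≠ 0 ∧ col j ≠ 0 ∧ x = e i j := by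
  rcases (mem_E1 h).1 hx with rfl | rfl | rfl | rfl
  · exact ⟨2, 2, by decide, by decide, (h.self 2).symm⟩
  · exact ⟨2, 3, by decide, by decide, rfl⟩
  · exact ⟨2, 4, by decide, by decide, rfl⟩
  · exact ⟨3, 4, by decide, by decide, rfl⟩

theorem card_E1 (h : FiveConf M T H s φ e) : Nat.card (E1 h) ≤ 4 := by
  have h1 : ((E1 h : Subgroup G) : Set G) ⊆ ({1, e 2 3, e 2 4, e 3 4} : Set G) := by
    intro x hx
    exact hx
  have h2 : Nat.card (E1 h) = ((E1 h : Subgroup G) : Set G).ncard := rfl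
  rw [h2]
  refine (Set.ncard_le_ncard h1 (by simp)).trans ?_
  refine (Set.ncard_insert_le _ _).trans ?_
  have h3 := Set.ncard_insert_le (e 2 3) ({e 2 4, e 3 4} : Set G)
  have h4 := Set.ncard_insert_le (e 2 4) ({e 3 4} : Set G)
  rw [Set.ncard_singleton] at h4
  omega

/-- `[W, g] ≤ E1` for `g` in the stabiliser of `{0, 1}` fixing `0` and `1` -/
theorem comm_W (h : FiveConf M T H s φ e) {g : H} (hg : φ g ∈ S01) (h0 : φ g 0 = 0) (h1 : φ g 1 = 1) {w : G}
    (hw : w ∈ zl T H) : (g : G) * w * (g : G)⁻¹ * w⁻¹ ∈ E1 h := by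
  have a : ∀ i : Fin 5, col i = 0 → i = 0 ∨ i = 1 := by decide
  have key1 : ∀ i, e (φ g i) i ∈ E1 h := by
    intro i
    by_cases hi : col i = 0
    · rcases a i hi with rfl | rfl
      · rw [h0, h.self]; exact one_mem _
      · rw [h1, h.self]; exact one_mem _
    · exact mem_E1_of h (fun hc => hi ((hg i).1 hc)) hi
  have key2 : ∀ i j, e (φ g i) (φ g j) * e i j ∈ E1 h := by
    intro i j
    have : e (φ g i) (φ g j) * e i j = e (φ g i) i * e (φ g j) j := by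
      have e1 : e (φ g i) (φ g j) = e (φ g i) i * (e i j * e j (φ g j)) := by
        rw [h.mul, h.mul]
      rw [e1, h.symm j (φ g j), mul_assoc, mul_assoc, e_comm h (φ g j) j i j, ← mul_assoc (e i j) (e i j), e_sq h,
        one_mul]
    rw [this]
    exact mul_mem (key1 i) (key1 j)
  obtain ⟨c, hc, hcH, i, j, k, l, rfl⟩ := h.dec w hw
  have e1 : (g : G) * (c * (e i j * e k l)) * (g : G)⁻¹ * (c * (e i j * e k l))⁻¹ =
      (e (φ g i) (φ g j) * e i j) * (e (φ g k) (φ g l) * e k l) := by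
    have e2 := hcH g g.2
    have e3 := h.conj g i j
    have e4 := h.conj g k l
    have e5 : (e i j)⁻¹ = e i j := inv_eq_of_mul_eq_one_left (e_sq h i j)
    have e6 : (e k l)⁻¹ = e k l := inv_eq_of_mul_eq_one_left (e_sq h k l)
    have c1 : c * e (φ g i) (φ g j) = e (φ g i) (φ g j) * c := h.zl_comm _ hc _ (h.mem _ _)
    have c2 : c * e (φ g k) (φ g l) = e (φ g k) (φ g l) * c := h.zl_comm _ hc _ (h.mem _ _)
    calc (g : G) * (c * (e i j * e k l)) * (g : G)⁻¹ * (c * (e i j * e k l))⁻¹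
        = ((g : G) * c * (g : G)⁻¹) * ((g : G) * e i j * (g : G)⁻¹) * ((g : G) * e k l * (g : G)⁻¹) *
          (e k l)⁻¹ * (e i j)⁻¹ * c⁻¹ := by group
      _ = c * e (φ g i) (φ g j) * (e (φ g k) (φ g l) * e k l) * e i j * c⁻¹ := by
          rw [e2, mul_inv_cancel_right, e3, e4, e5, e6]; group
      _ = c * (e (φ g i) (φ g j) * ((e (φ g k) (φ g l) * e k l) * e i j)) * c⁻¹ := by group
      _ = c * (e (φ g i) (φ g j) * (e i j * (e (φ g k) (φ g l) * e k l))) * c⁻¹ := by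
          rw [h.zl_comm _ (mul_mem (h.mem _ _) (h.mem _ _)) _ (h.mem i j)]
      _ = (e (φ g i) (φ g j) * e i j) * (e (φ g k) (φ g l) * e k l) := by
          have c3 : (e (φ g i) (φ g j) * (e i j * (e (φ g k) (φ g l) * e k l))) ∈ zl T H :=
            mul_mem (h.mem _ _) (mul_mem (h.mem _ _) (mul_mem (h.mem _ _) (h.mem _ _)))
          rw [h.zl_comm c hc _ c3]; group
  rw [e1]
  exact mul_mem (key2 i j) (key2 k l)

/-! ### The subgroup `X1` -/

/-- the preimage of the stabiliser of `{0, 1}` -/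
def X1 (φ : H →* Perm (Fin 5)) : Subgroup G := (S01.comap φ).map H.subtype

theorem mem_X1 {x : G} : x ∈ X1 φ ↔ ∃ hx : x ∈ H, φ ⟨x, hx⟩ ∈ S01 := by
  constructor
  · rintro ⟨y, hy, rfl⟩
    exact ⟨y.2, hy⟩
  · rintro ⟨hx, h1⟩
    exact ⟨⟨x, hx⟩, h1, rfl⟩

theorem X1_le : X1 φ ≤ H := fun _ hx => (mem_X1.1 hx).1

theorem Q_le_X1 (h : FiveConf M T H s φ e) : o2 H ≤ X1 φ := fun x hx =>
  mem_X1.2 ⟨o2_le H hx, by rw [(mem_ker h (x := ⟨x, o2_le H hx⟩)).2 hx]; exact one_mem _⟩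

theorem bau_le_X1 (h : FiveConf M T H s φ e) : bau T ≤ X1 φ := fun x hx =>
  mem_X1.2 ⟨h.conf.le (bau_le T hx), by
    have := (h.imB ⟨x, h.conf.le (bau_le T hx)⟩).1 (mem_sup_left hx)
    rw [closure_eq_V4] at this
    exact this.2⟩

theorem inf_eq (h : FiveConf M T H s φ e) : T ⊓ X1 φ = (V4.comap φ).map H.subtype := by
  ext x
  constructor
  · rintro ⟨hxT, hx⟩
    obtain ⟨hxH, hx1⟩ := mem_X1.1 hx
    refine ⟨⟨x, hxH⟩, ?_, rfl⟩
    exact closure_inf_le ⟨(h.imT ⟨x, hxH⟩).1 hxT, hx1⟩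
  · rintro ⟨y, hy, rfl⟩
    exact ⟨(h.imT y).2 (V4_le_closure hy), mem_X1.2 ⟨y.2, V4_le hy⟩⟩

theorem relIndex_eq (h : FiveConf M T H s φ e) : (T ⊓ X1 φ).relIndex (X1 φ) = 3 := by
  rw [inf_eq h, X1, relIndex_map_map_of_injective _ _ H.subtype_injective, Subgroup.relIndex_comap,
    map_comap_eq_self_of_surjective h.surj, relIndex_V4]

theorem bau_eq [Finite G] (h : FiveConf M T H s φ e) : bau (T ⊓ X1 φ) = bau T :=
  bau_eq_of_bau_le (le_inf (bau_le T) (bau_le_X1 h)) inf_le_left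

theorem solvable [Finite G] (h : FiveConf M T H s φ e) : Group.IsSolvable (X1 φ) := by
  have : Fact (Nat.Prime 2) := ⟨Nat.prime_two⟩
  obtain ⟨n, hn⟩ := IsPGroup.iff_card.1 (isPGroup_o2 H)
  have h1 : Nat.card (X1 φ) = 2 ^ (n + 2) * 3 ^ 1 := by
    have e1 : Nat.card (X1 φ) = Nat.card (S01.comap φ) := card_map_of_injective H.subtype_injective
    have e2 := Subgroup.card_mul_index ((φ.ker).subgroupOf (S01.comap φ))
    have e3 : ((φ.ker).subgroupOf (S01.comap φ)).index = 12 := by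
      change φ.ker.relIndex (S01.comap φ) = 12
      rw [Subgroup.relIndex_ker, map_comap_eq_self_of_surjective h.surj, card_S01]
    have e4 : Nat.card ((φ.ker).subgroupOf (S01.comap φ)) = 2 ^ n := by
      have hle : φ.ker ≤ S01.comap φ := fun x hx => by
        rw [mem_comap, (MonoidHom.mem_ker).1 hx]; exact one_mem _
      rw [Nat.card_congr (Subgroup.subgroupOfEquivOfLe hle).toEquiv, h.ker,
        Nat.card_congr (Subgroup.subgroupOfEquivOfLe (o2_le H)).toEquiv, hn]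
    rw [e1, ← e2, e3, e4]
    ring
  exact Cfsg.Agent.S0144.result 2 3 (n + 2) 1 Nat.prime_two Nat.prime_three h1

theorem self_cent [Finite G] (hc : IsCharacteristicTwoType G) (h : FiveConf M T H s φ e) :
    X1 φ ⊓ centralizer (o2 (X1 φ) : Set G) ≤ o2 (X1 φ) := by
  have h1 : o2 H ≤ o2 (X1 φ) := le_o2 (Q_le_X1 h) (isPGroup_o2 H) (X1_le.trans (le_normalizer_o2 H))
  rintro x ⟨hx, hxc⟩
  exact h1 (COneBase.self_cent hc h.conf ⟨X1_le hx, centralizer_le h1 hxc⟩)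

theorem cent_zc_le [Finite G] (hc : IsCharacteristicTwoType G) (h : FiveConf M T H s φ e) :
    X1 φ ⊓ centralizer (zc (T ⊓ X1 φ) : Set G) ≤ M := by
  have h1 : zc T ≤ zc (T ⊓ X1 φ) := by
    intro x hx
    have h2 : x ∈ bau T := zj_le_bau T (zc_le_zj T hx)
    refine mem_zc.2 ⟨⟨zc_le T hx, bau_le_X1 h h2⟩, fun b hb => zc_comm hx hb.1, zc_sq hx⟩
  exact inf_le_right.trans ((centralizer_le h1).trans (COneBase.cent_zc_le hc h.conf))

theorem not_X1_le (h : FiveConf M T H s φ e) : ¬ X1 φ ≤ M := by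
  intro hcon
  apply h.conf.notM
  have h1 : (((T ⊔ X1 φ).subgroupOf H)).map φ = ⊤ := by
    apply eq_top
    · intro σ hσ
      obtain ⟨g, rfl⟩ := h.surj σ
      exact ⟨g, mem_subgroupOf.2 (mem_sup_right (mem_X1.2 ⟨g.2, hσ⟩)), rfl⟩
    · obtain ⟨g, hg⟩ := h.surj (swap 0 2 * swap 1 3)
      rw [← hg]
      refine ⟨g, mem_subgroupOf.2 (mem_sup_left ((h.imT g).2 ?_)), rfl⟩
      rw [hg]
      exact subset_closure (Or.inr (Or.inr rfl))
  intro x hx
  obtain ⟨g, hg, hgx⟩ : φ ⟨x, hx⟩ ∈ ((T ⊔ X1 φ).subgroupOf H).map φ := by rw [h1]; exact mem_top _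
  have h2 : φ (g⁻¹ * ⟨x, hx⟩) = 1 := by rw [map_mul, map_inv, hgx, inv_mul_cancel]
  have h3 := Q_le_X1 h ((mem_ker h).1 h2)
  have h4 : T ⊔ X1 φ ≤ M := sup_le h.conf.cfg.TM hcon
  have e1 : x = (g : G) * ((g⁻¹ * ⟨x, hx⟩ : H) : G) := by
    rw [coe_mul, coe_inv]; group
  rw [e1]
  exact M.mul_mem (h4 hg) (hcon h3)

/-! ### The block -/

theorem exists_comm [Finite G] {V : Subgroup G} {y : G} (hV : ∀ a ∈ V, ∀ b ∈ V, a * b = b * a)
    (hn : ∀ v ∈ V, y * v * y⁻¹ ∈ V) (hf : ∀ v ∈ V, y * v * y⁻¹ = v → v = 1) {v : G} (hv : v ∈ V) :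
    ∃ w ∈ V, y * w * y⁻¹ * w⁻¹ = v := by
  let f : V → V := fun w => ⟨y * w * y⁻¹ * (w : G)⁻¹, V.mul_mem (hn w w.2) (V.inv_mem w.2)⟩
  have hf1 : Function.Injective f := by
    intro a b hab
    have h1 : y * (a : G) * y⁻¹ * (a : G)⁻¹ = y * (b : G) * y⁻¹ * (b : G)⁻¹ := congrArg Subtype.val hab
    have h2 := hf _ (V.mul_mem (V.inv_mem b.2) a.2) (by
      have h3 := hV _ (hn _ (V.inv_mem b.2)) _ (hn a a.2)
      have h4 := hV _ (hn b b.2) _ (V.inv_mem b.2)
      have h5 : y * (a : G) * y⁻¹ = y * (b : G) * y⁻¹ * (b : G)⁻¹ * a := by rw [← h1]; group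
      calc y * ((b : G)⁻¹ * a) * y⁻¹ = (y * (b : G)⁻¹ * y⁻¹) * (y * a * y⁻¹) := by group
        _ = (y * (b : G)⁻¹ * y⁻¹) * (y * (b : G) * y⁻¹ * (b : G)⁻¹ * a) := by rw [h5]
        _ = (b : G)⁻¹ * a := by group)
    exact Subtype.ext (inv_mul_eq_one.1 h2).symm
  obtain ⟨w, hw⟩ := (Finite.injective_iff_surjective.1 hf1) ⟨v, hv⟩
  exact ⟨w, w.2, congrArg Subtype.val hw⟩

section block

variable {L : Subgroup G} {k : ℕ}

theorem vl_eq [Finite G] (h : FiveConf M T H s φ e) (d : IsDBlk (bau T) L k) (hL : L ≤ X1 φ) :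
    vl (bau T) L = E1 h := by
  obtain ⟨y, hyL, hy3, -, -, hfix, -⟩ := d.dih
  have hLH : L ≤ H := hL.trans X1_le
  have hyH := hLH hyL
  have hvlc : ∀ a ∈ vl (bau T) L, ∀ b ∈ vl (bau T) L, a * b = b * a := fun a ha b hb =>
    d.zl_comm a (vl_le_zl _ _ ha) b (vl_le_zl _ _ hb)
  have hn : ∀ v ∈ vl (bau T) L, y * v * y⁻¹ ∈ vl (bau T) L := fun v hv =>
    (mem_normalizer_iff.1 (le_normalizer_vl (bau T) L hyL) v).1 hv
  have hzl : zl (bau T) L ≤ zj (o2 H) := by
    refine zl_le ?_ (hLH.trans ((le_normalizer_o2 H).trans (normalizer_le_normalizer_zj (o2 H))))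
    rw [zc_bau]
    exact zj_le_zj h
  have hW : vl (bau T) L ≤ zl T H := by
    intro v hv
    obtain ⟨w, hw, rfl⟩ := exists_comm hvlc hn hfix hv
    exact (mem_PP h hyH hy3).2 w (hzl (vl_le_zl _ _ hw))
  have hyS : φ ⟨y, hyH⟩ ∈ S01 := by
    obtain ⟨_, h1⟩ := mem_X1.1 (hL hyL)
    exact h1
  have hfx := fix_of_odd hyS (k := k) (by
    rw [← map_pow]
    have : (⟨y, hyH⟩ : H) ^ 3 ^ k = 1 := Subtype.ext hy3
    rw [this, map_one])
  have hle : vl (bau T) L ≤ E1 h := by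
    intro v hv
    obtain ⟨w, hw, rfl⟩ := exists_comm hvlc hn hfix hv
    exact comm_W h hyS hfx.1 hfx.2 (hW hw)
  exact eq_of_le_of_card_ge hle (by rw [d.card_vl]; exact card_E1 h)

/-- conjugation by an element `t` of `T` -/
theorem conj_T (h : FiveConf M T H s φ e) {t : G} (ht : t ∈ T) : ∃ σ : Perm (Fin 5),
    (∀ i j, t * e i j * t⁻¹ = e (σ i) (σ j)) ∧ ((∀ i, col (σ i) = col i) ∨ (∀ i, col (σ i) = sw (col i))) := by
  have htH := h.conf.le ht
  exact ⟨φ ⟨t, htH⟩, fun i j => h.conj ⟨t, htH⟩ i j, closure_le_D8 ((h.imT ⟨t, htH⟩).1 ht)⟩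

theorem T_norm_zc (T : Subgroup G) : T ≤ normalizer (zc (bau T) : Set G) :=
  (le_normalizer_bau T).trans (normalizer_le_normalizer_zc (bau T))

theorem goodBlk [Finite G] (h : FiveConf M T H s φ e) (d : IsDBlk (bau T) L k) (hL : L ≤ X1 φ) (hM : ¬ L ≤ M) :
    GoodBlk M T L k := by
  have hvl := vl_eq h d hL
  have hE : E1 h ≤ zl (bau T) L := by rw [← hvl]; exact vl_le_zl _ _
  have hdec : ∀ v ∈ zl (bau T) L, ∃ r ∈ zc (bau T), ∃ w ∈ E1 h, v = r * w := by
    intro v hv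
    rw [← d.sup_eq, hvl] at hv
    have hn : rl (bau T) L ≤ normalizer (E1 h : Set G) :=
      le_normalizer_of_comm fun x hx y hy => d.zl_comm x (rl_le_zl _ _ hx) y (hE hy)
    obtain ⟨r, hr, w, hw, he⟩ := exists_mul_of_mem_sup hn hv
    exact ⟨r, rl_le_zc _ _ hr, w, hw, he⟩
  have hzc : ∀ t ∈ T, ∀ r ∈ zc (bau T), t * r * t⁻¹ ∈ zc (bau T) := fun t ht r hr =>
    (mem_normalizer_iff.1 (T_norm_zc T ht) r).1 hr
  have hlz : ∀ l ∈ L, ∀ v ∈ zl (bau T) L, l * v * l⁻¹ ∈ zl (bau T) L := fun l hl v hv =>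
    (mem_normalizer_iff.1 (le_normalizer_zl (bau T) L hl) v).1 hv
  refine ⟨d, hM, ?_, ?_⟩
  · intro t ht l hl v hv
    obtain ⟨r, hr, w, hw, rfl⟩ := hdec v hv
    have h5 : l * (t * (r * w) * t⁻¹) * l⁻¹ = (l * (t * r * t⁻¹) * l⁻¹) * (l * (t * w * t⁻¹) * l⁻¹) := by group
    rw [h5]
    refine mul_mem (mem_sup_left (hlz l hl _ (zc_le_zl (hzc t ht r hr)))) ?_
    obtain ⟨σ, hσ, hcase⟩ := conj_T h ht
    obtain ⟨hlH, hlS⟩ := mem_X1.1 (hL hl)
    obtain ⟨i, j, hi, hj, rfl⟩ := exists_of_mem_E1 h hw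
    rw [hσ]
    have h6 := h.conj ⟨l, hlH⟩ (σ i) (σ j)
    have h7 : l * e (σ i) (σ j) * l⁻¹ = e (φ ⟨l, hlH⟩ (σ i)) (φ ⟨l, hlH⟩ (σ j)) := h6
    rw [h7]
    rcases hcase with hc | hc
    · refine mem_sup_left (hE (mem_E1_of h ?_ ?_))
      · rw [Ne, hlS, hc]; exact hi
      · rw [Ne, hlS, hc]; exact hj
    · -- every `e a b` lies in the sum
      have key : ∀ a, e a 4 ∈ zl (bau T) L ⊔ (zl (bau T) L).map (MulAut.conj t).toMonoidHom := by
        intro a
        by_cases ha : col a = 0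
        · refine mem_sup_right ⟨e (σ.symm a) 4, hE (mem_E1_of h ?_ (by decide)), ?_⟩
          · intro h8
            have h9 := hc (σ.symm a)
            rw [Equiv.apply_symm_apply, ha, h8] at h9
            exact absurd h9 (by decide)
          · change t * e (σ.symm a) 4 * t⁻¹ = e a 4
            rw [hσ, Equiv.apply_symm_apply, fix_of_col_two (σ 4) (by rw [hc]; rfl)]
        · exact mem_sup_left (hE (mem_E1_of h ha (by decide)))
      rw [← h.mul _ 4 _, h.symm 4]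
      exact mul_mem (key _) (key _)
  · intro t ht z hzv hzz hz1 htz v hv
    obtain ⟨r, hr, w, hw, rfl⟩ := hdec v hv
    have h5 : t * (r * w) * t⁻¹ = (t * r * t⁻¹) * (t * w * t⁻¹) := by group
    rw [h5]
    refine mul_mem (zc_le_zl (hzc t ht r hr)) ?_
    obtain ⟨σ, hσ, hcase⟩ := conj_T h ht
    rcases hcase with hc | hc
    · obtain ⟨i, j, hi, hj, rfl⟩ := exists_of_mem_E1 h hw
      rw [hσ]
      refine hE (mem_E1_of h ?_ ?_)
      · rw [hc]; exact hi
      · rw [hc]; exact hj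
    · exfalso
      rw [hvl] at hzv
      obtain ⟨i, j, hi, hj, rfl⟩ := exists_of_mem_E1 h hzv
      rw [hσ] at htz
      have hij : i ≠ j := by
        rintro rfl
        exact hz1 (h.self i)
      have hsij : σ i ≠ σ j := fun h0 => hij (σ.injective h0)
      have key : ∀ a : Fin 5, col a ≠ 0 → a ≠ 4 → col (σ a) = 0 := by
        intro a ha ha4
        rw [hc]
        revert a; decide
      -- one of `σ i`, `σ j` lies in `{0, 1}`
      by_cases hi4 : i = 4
      · have hj4 : j ≠ 4 := fun h0 => hij (hi4.trans h0.symm)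
        have h8 := key j hj hj4
        rw [h.symm (σ i) (σ j)] at htz
        rcases mem_of_eq h hsij.symm htz with h9 | h9
        · rw [h9] at h8; exact hi h8
        · rw [h9] at h8; exact hj h8
      · have h8 := key i hi hi4
        rcases mem_of_eq h hsij htz with h9 | h9
        · rw [h9] at h8; exact hi h8
        · rw [h9] at h8; exact hj h8

end block

theorem exists_goodBlk [Finite G] (hc : IsCharacteristicTwoType G) (h : FiveConf M T H s φ e) :
    ∃ (L : Subgroup G) (k : ℕ), GoodBlk M T L k := by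
  have hodd : ¬ 2 ∣ (T ⊓ X1 φ).relIndex (X1 φ) := by rw [relIndex_eq h]; decide
  obtain ⟨L, k, d, -, hLX, hLM⟩ := Cfsg.Agent.MinSimple.DBlkExist.exists_dblk (X := X1 φ) (T := T ⊓ X1 φ) (M := M)
    (solvable h) (self_cent hc h) (h.conf.cfg.two.to_le inf_le_left) inf_le_right hodd (cent_zc_le hc h)
    (by rw [bau_eq h]; exact inf_le_right.trans (COneBase.normalizer_bau_le h.conf)) (not_X1_le h)
  rw [bau_eq h] at d
  exact ⟨L, k, goodBlk h d hLX hLM⟩

/-- **The case `H / O₂(H) = S₅`.** -/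
theorem result [Finite G] (hc : IsCharacteristicTwoType G) (hidx : ∀ N : Subgroup G, N.Normal → N.index ≠ 2)
    (h : FiveConf M T H s φ e) : PRankLE 2 2 G := by
  obtain ⟨L, k, hk⟩ := exists_goodBlk hc h
  exact COneKey.result hc hidx h.conf.cfg hk

end Cfsg.Agent.OddCyclic.COneFive
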