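import Cfsg.Agent.OddCyclic.COneCent
import Cfsg.Agent.OddCyclic.FFSl2
import Cfsg.Agent.OddCyclic.L2Borel

/-!
# S0342 (D): the case `H / C_H(W) = SL₂(q).2ᵃ`, first facts

`LinIn`: the data on `W = zl T H` provided by the offender theorem.
-/

set_option autoImplicit false

namespace Cfsg.Agent.OddCyclic.COneLin

open Subgroup Cfsg Cfsg.Agent.ZN
open Cfsg.Agent.MinSimple
open Cfsg.Agent.OddCyclic.T1Defs Cfsg.Agent.OddCyclic.COneDefs Cfsg.Agent.OddCyclic.COneBase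
open Matrix (SpecialLinearGroup)
open scoped commutatorElement

universe u

variable {G : Type u} [Group G] {M T H N : Subgroup G} {s : G}

/-- The output of the offender theorem in the case `SL₂(q)`, `q ≥ 4`: `N / C_H(W) = SL₂(q)`. -/
structure LinIn (T H N : Subgroup G) (F : Type) [Field F] [Fintype F] [CharP F 2]
    (ψ : N →* SpecialLinearGroup (Fin 2) F) : Prop where
  le : N ≤ H
  norm : H ≤ normalizer (N : Set G)
  cent_le : H ⊓ centralizer (zl T H : Set G) ≤ N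
  four : 4 ≤ Fintype.card F
  surj : Function.Surjective ψ
  ker : ∀ n : N, ψ n = 1 ↔ (n : G) ∈ centralizer (zl T H : Set G)
  inN : ∀ A, IsMaxIn T A → ¬ A ≤ centralizer (zl T H : Set G) → A ≤ N
  cardA : ∀ A, IsMaxIn T A → ¬ A ≤ centralizer (zl T H : Set G) →
    Nat.card ((A.subgroupOf N).map ψ) = Fintype.card F
  idx : ∀ A, IsMaxIn T A → ¬ A ≤ centralizer (zl T H : Set G) →
    (zl T H ⊓ centralizer (A : Set G)).relIndex (zl T H) = Fintype.card F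
  fix : ∀ a (ha : a ∈ N), a ∈ T → ψ ⟨a, ha⟩ ≠ 1 → ∀ w ∈ zl T H, a * w = w * a →
    ∀ b ∈ T ⊓ N, b * w = w * b
  top : (zl T H ⊓ centralizer (N : Set G)).relIndex (zl T H) = Fintype.card F ^ 2
  fpf : ∀ x (hx : x ∈ N) (m : ℕ), Odd m → ψ ⟨x, hx⟩ ^ m = 1 → ψ ⟨x, hx⟩ ≠ 1 → ∀ w ∈ zl T H, x * w = w * x →
    ∀ n ∈ N, n * w = w * n

variable {F : Type} [Field F] [Fintype F] [CharP F 2] {ψ : N →* SpecialLinearGroup (Fin 2) F}

theorem jj_le_N (hl : LinIn T H N F ψ) (h : Conf M T H s) : jj T ≤ N := by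
  refine jj_le_of_forall fun A hA => ?_
  by_cases hc : A ≤ centralizer (zl T H : Set G)
  · exact (le_inf (hA.1.trans h.le) hc).trans hl.cent_le
  · exact hl.inN A hA hc

theorem not_le_M [Finite G] (hl : LinIn T H N F ψ) (h : Conf M T H s) : ¬ N ≤ M :=
  not_le_of_jj h hl.norm (jj_le_N hl h)

theorem sup_T [Finite G] (hl : LinIn T H N F ψ) (h : Conf M T H s) : N ⊔ T = H :=
  sup_eq h hl.le (not_le_M hl h)

theorem commutator_top (F : Type) [Field F] [Fintype F] [CharP F 2] (h4 : 4 ≤ Fintype.card F) :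
    ⁅(⊤ : Subgroup (SpecialLinearGroup (Fin 2) F)), (⊤ : Subgroup (SpecialLinearGroup (Fin 2) F))⁆ = ⊤ := by
  have hs := FFBasic.isSimpleGroup_sl2 (F := F) h4
  have h1 : (⁅(⊤ : Subgroup (SpecialLinearGroup (Fin 2) F)), (⊤ : Subgroup (SpecialLinearGroup (Fin 2) F))⁆).Normal :=
    inferInstance
  refine (h1.eq_bot_or_eq_top).resolve_left fun hb => ?_
  have h2 : Subgroup.center (SpecialLinearGroup (Fin 2) F) = ⊤ := by
    rw [eq_top_iff]
    intro x _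
    rw [mem_center_iff]
    intro y
    have h3 : ⁅y, x⁆ ∈ (⁅(⊤ : Subgroup (SpecialLinearGroup (Fin 2) F)), (⊤ : Subgroup (SpecialLinearGroup (Fin 2) F))⁆ :
        Subgroup (SpecialLinearGroup (Fin 2) F)) := commutator_mem_commutator (mem_top y) (mem_top x)
    rw [hb, mem_bot, commutatorElement_eq_one_iff_mul_comm] at h3
    exact h3
  rw [FFBasic.center_sl2] at h2
  have h3 := hs.toNontrivial
  exact bot_ne_top h2

/-- `N` is perfect modulo `C_H(W)`. -/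
theorem perf (hl : LinIn T H N F ψ) : N ≤ ⁅N, N⁆ ⊔ (H ⊓ centralizer (zl T H : Set G)) := by
  have h1 : (⁅(⊤ : Subgroup N), (⊤ : Subgroup N)⁆).map ψ = ⊤ := by
    rw [map_commutator, ← MonoidHom.range_eq_map, MonoidHom.range_eq_top.2 hl.surj,
      commutator_top F hl.four]
  have h2 : (⁅(⊤ : Subgroup N), (⊤ : Subgroup N)⁆).map N.subtype = ⁅N, N⁆ := by
    rw [map_commutator, ← MonoidHom.range_eq_map, N.range_subtype]
  intro n hn
  obtain ⟨m, hm, hmn⟩ : ψ ⟨n, hn⟩ ∈ (⁅(⊤ : Subgroup N), (⊤ : Subgroup N)⁆).map ψ := by rw [h1]; exact mem_top _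
  have h3 : ψ (m⁻¹ * ⟨n, hn⟩) = 1 := by rw [map_mul, map_inv, hmn, inv_mul_cancel]
  have h4 := (hl.ker _).1 h3
  have h5 : n = (m : G) * ((m⁻¹ * ⟨n, hn⟩ : N) : G) := by
    rw [coe_mul, coe_inv]; group
  rw [h5]
  refine mul_mem (mem_sup_left ?_) (mem_sup_right ⟨hl.le (m⁻¹ * ⟨n, hn⟩ : N).2, h4⟩)
  rw [← h2]
  exact ⟨m, hm, rfl⟩

theorem cent_eq [Finite G] (hcyc : OddCyc G) (hc : IsCharacteristicTwoType G) (hl : LinIn T H N F ψ)
    (h : Conf M T H s) : H ⊓ centralizer (zl T H : Set G) = o2 H :=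
  COneCent.cent_eq hcyc hc h hl.le hl.norm (not_le_M hl h) (perf hl)

/-- The standing data. -/
structure LinD (M T H N : Subgroup G) (s : G) (F : Type) [Field F] [Fintype F] [CharP F 2]
    (ψ : N →* SpecialLinearGroup (Fin 2) F) : Prop where
  conf : Conf M T H s
  lin : LinIn T H N F ψ
  cyc : OddCyc G
  char2 : IsCharacteristicTwoType G

namespace LinD

variable (d : LinD M T H N s F ψ)

include d

theorem NH : N ≤ H := d.lin.le

theorem TH : T ≤ H := d.conf.le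

theorem cent [Finite G] : H ⊓ centralizer (zl T H : Set G) = o2 H := cent_eq d.cyc d.char2 d.lin d.conf

theorem Q_le_N [Finite G] : o2 H ≤ N := by rw [← d.cent]; exact d.lin.cent_le

theorem Q_le_T [Finite G] : o2 H ≤ T := o2_le_T d.conf

theorem Q_cent [Finite G] {x w : G} (hx : x ∈ o2 H) (hw : w ∈ zl T H) : x * w = w * x := by
  rw [← d.cent] at hx
  exact (mem_centralizer_iff.1 hx.2 w hw).symm

theorem mem_Q [Finite G] {x : G} (hx : x ∈ H) (hw : ∀ w ∈ zl T H, x * w = w * x) : x ∈ o2 H := by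
  rw [← d.cent]
  exact ⟨hx, mem_centralizer_iff.2 fun w hw' => (hw w hw').symm⟩

theorem ker [Finite G] {n : G} (hn : n ∈ N) : ψ ⟨n, hn⟩ = 1 ↔ n ∈ o2 H := by
  rw [d.lin.ker, ← d.cent]
  exact ⟨fun h => ⟨d.NH hn, h⟩, fun h => h.2⟩

theorem W_le_Q [Finite G] : zl T H ≤ o2 H := zl_le_o2 d.char2 d.conf

theorem W_comm [Finite G] {x y : G} (hx : x ∈ zl T H) (hy : y ∈ zl T H) : x * y = y * x :=
  zl_comm d.char2 d.conf x hx y hy

theorem W_sq [Finite G] {x : G} (hx : x ∈ zl T H) : x * x = 1 := zl_sq d.char2 d.conf x hx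

theorem W_norm : H ≤ normalizer (zl T H : Set G) := le_normalizer_zl T H

theorem W_conj {g w : G} (hg : g ∈ H) (hw : w ∈ zl T H) : g * w * g⁻¹ ∈ zl T H :=
  (mem_normalizer_iff.1 (d.W_norm hg) w).1 hw

theorem Q_conj {g x : G} (hg : g ∈ H) (hx : x ∈ o2 H) : g * x * g⁻¹ ∈ o2 H :=
  (mem_normalizer_iff.1 (le_normalizer_o2 H hg) x).1 hx

theorem N_conj {g x : G} (hg : g ∈ H) (hx : x ∈ N) : g * x * g⁻¹ ∈ N :=
  (mem_normalizer_iff.1 (d.lin.norm hg) x).1 hx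

theorem N_sup_T [Finite G] : N ⊔ T = H := sup_T d.lin d.conf

theorem jj_le_N : jj T ≤ N := COneLin.jj_le_N d.lin d.conf

/-- some largest elementary abelian subgroup is not in `Q` -/
theorem exists_A [Finite G] : ∃ A, IsMaxIn T A ∧ ¬ A ≤ centralizer (zl T H : Set G) := by
  by_contra hcon
  push Not at hcon
  exact not_jj_le_cent d.char2 d.conf (jj_le_of_forall fun A hA => hcon A hA)

/-- the image of `T ∩ N` is a Sylow 2-subgroup, equal to the image of every `A`. -/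
theorem exists_U [Finite G] : ∃ U : Sylow 2 (SpecialLinearGroup (Fin 2) F),
    ((T ⊓ N).subgroupOf N).map ψ = (U : Subgroup (SpecialLinearGroup (Fin 2) F)) ∧
    ∀ A, IsMaxIn T A → ¬ A ≤ centralizer (zl T H : Set G) →
      (A.subgroupOf N).map ψ = (U : Subgroup (SpecialLinearGroup (Fin 2) F)) := by
  have h2p : Fact (Nat.Prime 2) := ⟨Nat.prime_two⟩
  have h1 : IsPGroup 2 (((T ⊓ N).subgroupOf N).map ψ) :=
    ((d.conf.cfg.two.to_le inf_le_left).comap_of_injective _ N.subtype_injective).map ψ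
  obtain ⟨U, hU⟩ := h1.exists_le_sylow
  have h2 : ∀ A, IsMaxIn T A → ¬ A ≤ centralizer (zl T H : Set G) →
      (A.subgroupOf N).map ψ = (U : Subgroup (SpecialLinearGroup (Fin 2) F)) := by
    intro A hA hA1
    have h0 : A.subgroupOf N ≤ (T ⊓ N).subgroupOf N := fun x hx => ⟨hA.1 hx, x.2⟩
    have h3 : (A.subgroupOf N).map ψ ≤ U := (Subgroup.map_mono h0).trans hU
    apply Subgroup.eq_of_le_of_card_ge h3
    rw [d.lin.cardA A hA hA1]
    exact (T1Sl2.card_sylow U).le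
  obtain ⟨A, hA, hA1⟩ := d.exists_A
  refine ⟨U, le_antisymm hU ?_, h2⟩
  rw [← h2 A hA hA1]
  exact Subgroup.map_mono fun x hx => ⟨hA.1 hx, x.2⟩

/-- `T ∩ N = A Q`. -/
theorem exists_mul [Finite G] {A : Subgroup G} (hA : IsMaxIn T A) (hA1 : ¬ A ≤ centralizer (zl T H : Set G))
    {t : G} (htT : t ∈ T) (htN : t ∈ N) : ∃ a ∈ A, ∃ x ∈ o2 H, t = a * x := by
  obtain ⟨U, hU, hUA⟩ := d.exists_U
  have h1 : ψ ⟨t, htN⟩ ∈ (A.subgroupOf N).map ψ := by
    rw [hUA A hA hA1, ← hU]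
    exact ⟨⟨t, htN⟩, ⟨htT, htN⟩, rfl⟩
  obtain ⟨a, ha, hat⟩ := h1
  have h2 : ψ (a⁻¹ * ⟨t, htN⟩) = 1 := by rw [map_mul, map_inv, hat, inv_mul_cancel]
  have h3 := (d.ker (a⁻¹ * ⟨t, htN⟩ : N).2).1 h2
  refine ⟨a, ha, _, h3, ?_⟩
  rw [coe_mul, coe_inv]; group

/-- `C_W(A) = C_W(T ∩ N)`. -/
theorem cent_TN [Finite G] {A : Subgroup G} (hA : IsMaxIn T A) (hA1 : ¬ A ≤ centralizer (zl T H : Set G))
    {w : G} (hw : w ∈ zl T H) (hwA : ∀ a ∈ A, a * w = w * a) : ∀ t ∈ T ⊓ N, t * w = w * t := by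
  rintro t ⟨htT, htN⟩
  obtain ⟨a, ha, x, hx, rfl⟩ := d.exists_mul hA hA1 htT htN
  calc a * x * w = a * (x * w) := by group
    _ = (a * w) * x := by rw [d.Q_cent hx hw]; group
    _ = w * (a * x) := by rw [hwA a ha]; group

/-- `W ∩ Z_J = C_W(T ∩ N)`. -/
theorem mem_zj_iff [Finite G] {w : G} (hw : w ∈ zl T H) : w ∈ zj T ↔ ∀ t ∈ T ⊓ N, t * w = w * t := by
  constructor
  · intro h1
    obtain ⟨A, hA, hA1⟩ := d.exists_A
    exact d.cent_TN hA hA1 hw fun a ha => (mem_zj.1 h1).2.1 a (hA.le_jj ha)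
  · intro h1
    refine mem_zj_of_comm (d.Q_le_T (d.W_le_Q hw)) (by rw [pow_two]; exact d.W_sq hw) fun b hb => ?_
    exact h1 b ⟨jj_le T hb, d.jj_le_N hb⟩

theorem inf_zj [Finite G] {A : Subgroup G} (hA : IsMaxIn T A) (hA1 : ¬ A ≤ centralizer (zl T H : Set G)) :
    zl T H ⊓ zj T = zl T H ⊓ centralizer (A : Set G) := by
  ext w
  constructor
  · rintro ⟨hw, hwz⟩
    exact ⟨hw, mem_centralizer_iff.2 fun a ha => (mem_zj.1 hwz).2.1 a (hA.le_jj ha)⟩
  · rintro ⟨hw, hwA⟩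
    exact ⟨hw, (d.mem_zj_iff hw).2 (d.cent_TN hA hA1 hw fun a ha => mem_centralizer_iff.1 hwA a ha)⟩

/-- `|W : W ∩ Z_J| = q`. -/
theorem relIndex_inf_zj [Finite G] : (zl T H ⊓ zj T).relIndex (zl T H) = Fintype.card F := by
  obtain ⟨A, hA, hA1⟩ := d.exists_A
  rw [d.inf_zj hA hA1]
  exact d.lin.idx A hA hA1

theorem W_le_T [Finite G] : zl T H ≤ T := d.W_le_Q.trans d.Q_le_T

end LinD

end Cfsg.Agent.OddCyclic.COneLin
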