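import Cfsg.Agent.OddCyclic.COneLinB

/-!
# S0342 (D): the case `H / C_H(W) = SL₂(q).2ᵃ`: the Baumann subgroup lies in `N`
-/

set_option autoImplicit false

namespace Cfsg.Agent.OddCyclic.COneLinC

open Subgroup Cfsg Cfsg.Agent.ZN
open Cfsg.Agent.MinSimple
open Cfsg.Agent.OddCyclic.T1Defs Cfsg.Agent.OddCyclic.COneDefs Cfsg.Agent.OddCyclic.COneBase
open Cfsg.Agent.OddCyclic.COneLin Cfsg.Agent.OddCyclic.COneLinB
open Matrix (SpecialLinearGroup)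
open scoped commutatorElement

local notation "UI" => Cfsg.Agent.OddCyclic.T1Sl2.UI
local notation "tu" => Cfsg.Agent.OddCyclic.T1Sl2.up
local notation "td" => Cfsg.Agent.OddCyclic.T1Sl2.dg

universe u

variable {G : Type u} [Group G]
variable {M T H N : Subgroup G} {s : G}
variable {F : Type} [Field F] [Fintype F] [CharP F 2] {ψ : N →* SpecialLinearGroup (Fin 2) F}

/-- `ψ` may be replaced by a conjugate -/
theorem LinIn.conj (hl : LinIn T H N F ψ) (g : SpecialLinearGroup (Fin 2) F) :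
    LinIn T H N F ((MulAut.conj g).toMonoidHom.comp ψ) where
  le := hl.le
  norm := hl.norm
  cent_le := hl.cent_le
  four := hl.four
  surj := (MulAut.conj g).surjective.comp hl.surj
  ker := fun n => by
    rw [← hl.ker n, MonoidHom.comp_apply]
    exact map_eq_one_iff (MulAut.conj g) (MulAut.conj g).injective
  inN := hl.inN
  cardA := fun A hA hA1 => by
    rw [← hl.cardA A hA hA1, ← Subgroup.map_map]
    exact Subgroup.card_map_of_injective (MulAut.conj g).injective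
  idx := hl.idx
  fix := fun a ha haT h1 => hl.fix a ha haT fun h2 => h1 (by
    rw [MonoidHom.comp_apply, h2, map_one])
  top := hl.top
  fpf := fun x hx m hm h1 h2 => by
    refine hl.fpf x hx m hm ?_ fun h3 => h2 (by rw [MonoidHom.comp_apply, h3, map_one])
    rw [MonoidHom.comp_apply, ← map_pow] at h1
    exact (map_eq_one_iff (MulAut.conj g) (MulAut.conj g).injective).1 h1

theorem LinD.conj (d : LinD M T H N s F ψ) (g : SpecialLinearGroup (Fin 2) F) :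
    LinD M T H N s F ((MulAut.conj g).toMonoidHom.comp ψ) :=
  ⟨d.conf, LinIn.conj d.lin g, d.cyc, d.char2⟩

/-- `ψ` standardised: the image of `T ∩ N` is the upper unitriangular group. -/
structure LinS (M T H N : Subgroup G) (s : G) (F : Type) [Field F] [Fintype F] [CharP F 2]
    (ψ : N →* SpecialLinearGroup (Fin 2) F) : Prop where
  dat : LinD M T H N s F ψ
  std : ∀ n (hn : n ∈ N), n ∈ T ↔ ψ ⟨n, hn⟩ ∈ UI F

theorem exists_std [Finite G] (d : LinD M T H N s F ψ) :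
    ∃ ψ' : N →* SpecialLinearGroup (Fin 2) F, LinS M T H N s F ψ' := by
  obtain ⟨U, hU, -⟩ := d.exists_U
  obtain ⟨g, hg⟩ := MulAction.exists_smul_eq (SpecialLinearGroup (Fin 2) F) U (T1Sl2.SU F)
  refine ⟨_, LinD.conj d g, fun n hn => ?_⟩
  have hgU : ∀ x, g * x * g⁻¹ ∈ UI F ↔ x ∈ (U : Subgroup (SpecialLinearGroup (Fin 2) F)) := by
    intro x
    rw [← T1Sl2.coe_SU, ← hg, Sylow.coe_subgroup_smul]
    constructor
    · rintro ⟨y, hy, hyx⟩
      have : y = x := (MulAut.conj g).injective hyx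
      rwa [← this]
    · intro hx
      exact ⟨x, hx, rfl⟩
  have h1 : (((MulAut.conj g).toMonoidHom.comp ψ) ⟨n, hn⟩ : SpecialLinearGroup (Fin 2) F) =
    g * ψ ⟨n, hn⟩ * g⁻¹ := rfl
  rw [h1, hgU, ← hU]
  constructor
  · intro hnT
    exact ⟨⟨n, hn⟩, ⟨hnT, hn⟩, rfl⟩
  · rintro ⟨m, hm, hmn⟩
    have h3 : ψ (m⁻¹ * ⟨n, hn⟩) = 1 := by rw [map_mul, map_inv, hmn, inv_mul_cancel]
    have h4 := (d.ker (m⁻¹ * ⟨n, hn⟩ : N).2).1 h3
    have h5 : n = (m : G) * ((m⁻¹ * ⟨n, hn⟩ : N) : G) := by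
      rw [coe_mul, coe_inv]; group
    rw [h5]
    exact mul_mem hm.1 (d.Q_le_T h4)

variable (d : LinS M T H N s F ψ)

include d

/-- `W₀ = W ∩ Z_J` is centralised by no torus element. -/
theorem torus [Finite G] {n : G} (hn : n ∈ N) (hc : ∀ w ∈ zl T H, w ∈ zj T → n * w = w * n) {r : Fˣ}
    (hr : ψ ⟨n, hn⟩ = td r) : r = 1 := by
  by_contra hr1
  have h1 : (td r : SpecialLinearGroup (Fin 2) F) ≠ 1 := by
    intro h2
    apply hr1
    have : T1Sl2.dgHom r = T1Sl2.dgHom (F := F) 1 := by rw [map_one]; exact h2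
    exact T1Sl2.dgHom_injective this
  obtain ⟨k, hk, hq⟩ := T1Sl2.card_pow F
  have hodd : Odd (Fintype.card F - 1) := by
    rw [hq]
    obtain ⟨m, rfl⟩ := Nat.exists_eq_succ_of_ne_zero hk.ne'
    refine ⟨2 ^ m - 1, ?_⟩
    rw [pow_succ]
    have : 1 ≤ 2 ^ m := Nat.one_le_two_pow
    omega
  have h2 : (td r : SpecialLinearGroup (Fin 2) F) ^ (Fintype.card F - 1) = 1 := by
    have h3 : r ^ (Fintype.card F - 1) = 1 := by
      classical
      have := pow_card_eq_one (x := r)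
      rwa [Fintype.card_units] at this
    have h4 : T1Sl2.dgHom (r ^ (Fintype.card F - 1)) = 1 := by rw [h3, map_one]
    rw [map_pow] at h4
    exact h4
  have h3 : zl T H ⊓ zj T ≤ zl T H ⊓ centralizer (N : Set G) := by
    rintro w ⟨hw, hwz⟩
    refine ⟨hw, mem_centralizer_iff.2 fun m hm => ?_⟩
    exact d.dat.lin.fpf n hn _ hodd (by rw [hr]; exact h2) (by rw [hr]; exact h1) w hw (hc w hw hwz) m hm
  have h4 := Subgroup.relIndex_le_of_le_left (L := zl T H) h3 (relIndex_pos _ _)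
  rw [d.dat.lin.top, d.dat.relIndex_inf_zj] at h4
  have h5 := d.dat.lin.four
  nlinarith

/-- the automorphism of `SL₂(q)` induced by `g ∈ H` -/
theorem exists_aut [Finite G] {g : G} (hg : g ∈ H) : ∃ α : MulAut (SpecialLinearGroup (Fin 2) F),
    ∀ n (hn : n ∈ N), ψ ⟨g * n * g⁻¹, d.dat.N_conj hg hn⟩ = α (ψ ⟨n, hn⟩) := by
  let c : N →* N :=
    { toFun := fun n => ⟨g * n * g⁻¹, d.dat.N_conj hg n.2⟩
      map_one' := by apply Subtype.ext; simp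
      map_mul' := fun a b => by
        apply Subtype.ext
        change g * ((a : G) * (b : G)) * g⁻¹ = (g * a * g⁻¹) * (g * b * g⁻¹)
        group }
  have hker : ψ.ker ≤ (ψ.comp c).ker := by
    intro n hn
    rw [MonoidHom.mem_ker] at hn ⊢
    have h1 : (n : G) ∈ o2 H := (d.dat.ker n.2).1 hn
    exact (d.dat.ker (c n).2).2 (d.dat.Q_conj hg h1)
  let a : SpecialLinearGroup (Fin 2) F →* SpecialLinearGroup (Fin 2) F :=
    ψ.liftOfSurjective d.dat.lin.surj ⟨ψ.comp c, hker⟩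
  have ha : ∀ n, a (ψ n) = ψ (c n) := fun n => by
    have := ψ.liftOfRightInverse_comp_apply _ (Function.rightInverse_surjInv d.dat.lin.surj) ⟨ψ.comp c, hker⟩ n
    exact this
  have hcs : Function.Surjective c := by
    intro n
    have h1 : g⁻¹ * (n : G) * g ∈ N := by
      have := d.dat.N_conj (inv_mem hg) n.2
      rwa [inv_inv] at this
    refine ⟨⟨_, h1⟩, ?_⟩
    apply Subtype.ext
    change g * (g⁻¹ * (n : G) * g) * g⁻¹ = n
    group
  have has : Function.Surjective a := by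
    intro x
    obtain ⟨n, rfl⟩ := d.dat.lin.surj x
    obtain ⟨m, rfl⟩ := hcs n
    exact ⟨ψ m, ha m⟩
  have hab : Function.Bijective a := ⟨Finite.injective_iff_surjective.2 has, has⟩
  exact ⟨MulEquiv.ofBijective a hab, fun n hn => (ha ⟨n, hn⟩).symm⟩

omit d in
theorem conj_UI (r : Fˣ) {x : SpecialLinearGroup (Fin 2) F} (hx : x ∈ UI F) : td r * x * (td r)⁻¹ ∈ UI F := by
  rw [T1Sl2.eq_up hx, L2Borel.td_conj_tu]
  exact T1Sl2.up_mem _

/-- a torus element normalises `W₀ = W ∩ Z_J` -/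
theorem W0_conj [Finite G] {n w : G} (hn : n ∈ N) {r : Fˣ} (hr : ψ ⟨n, hn⟩ = td r) (hw : w ∈ zl T H)
    (hwz : w ∈ zj T) : n⁻¹ * w * n ∈ zl T H ∧ n⁻¹ * w * n ∈ zj T := by
  have h1 : n⁻¹ * w * n ∈ zl T H := by
    have := d.dat.W_conj (inv_mem (d.dat.NH hn)) hw
    rwa [inv_inv] at this
  refine ⟨h1, (d.dat.mem_zj_iff h1).2 ?_⟩
  rintro b ⟨hbT, hbN⟩
  have h2 : n * b * n⁻¹ ∈ N := mul_mem (mul_mem hn hbN) (inv_mem hn)
  have h3 : n * b * n⁻¹ ∈ T := by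
    rw [d.std _ h2]
    have h4 := (d.std b hbN).1 hbT
    have h5 : ψ ⟨n * b * n⁻¹, h2⟩ = td r * ψ ⟨b, hbN⟩ * (td r)⁻¹ := by
      rw [← hr, ← map_inv, ← map_mul, ← map_mul]
      rfl
    rw [h5]
    exact conj_UI r h4
  have h6 := (d.dat.mem_zj_iff hw).1 hwz _ ⟨h3, h2⟩
  calc b * (n⁻¹ * w * n) = n⁻¹ * ((n * b * n⁻¹) * w) * n := by group
    _ = n⁻¹ * (w * (n * b * n⁻¹)) * n := by rw [h6]
    _ = n⁻¹ * w * n * b := by group

/-- the normal 2-subgroup of the elements of `H` acting trivially on `N / Q` is `Q` -/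
theorem mem_Q_of_comm [Finite G] {x : G} (hx : x ∈ H) (hc : ∀ n ∈ N, x * n * x⁻¹ * n⁻¹ ∈ o2 H) : x ∈ o2 H := by
  have h2p : Fact (Nat.Prime 2) := ⟨Nat.prime_two⟩
  let D : Subgroup G :=
    { carrier := {x | x ∈ H ∧ ∀ n ∈ N, x * n * x⁻¹ * n⁻¹ ∈ o2 H}
      one_mem' := ⟨one_mem _, fun n _ => by simp⟩
      mul_mem' := by
        rintro a b ⟨ha, ha'⟩ ⟨hb, hb'⟩
        refine ⟨H.mul_mem ha hb, fun n hn => ?_⟩
        have h1 := ha' (b * n * b⁻¹) (d.dat.N_conj hb hn)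
        have e : a * b * n * (a * b)⁻¹ * n⁻¹ = (a * (b * n * b⁻¹) * a⁻¹ * (b * n * b⁻¹)⁻¹) * (b * n * b⁻¹ * n⁻¹) := by
          group
        rw [e]
        exact mul_mem h1 (hb' n hn)
      inv_mem' := by
        rintro a ⟨ha, ha'⟩
        refine ⟨H.inv_mem ha, fun n hn => ?_⟩
        have h1 : a⁻¹ * n * a ∈ N := by
          have := d.dat.N_conj (inv_mem ha) hn
          rwa [inv_inv] at this
        have h2 := inv_mem (ha' _ h1)
        have e : (a * (a⁻¹ * n * a) * a⁻¹ * (a⁻¹ * n * a)⁻¹)⁻¹ = a⁻¹ * n * a⁻¹⁻¹ * n⁻¹ := by group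
        rwa [e] at h2 }
  have hDH : D ≤ H := fun x hx => hx.1
  have hHD : H ≤ normalizer (D : Set G) := by
    rw [le_normalizer_iff]
    rintro g hg x ⟨hxH, hx⟩
    refine ⟨H.mul_mem (H.mul_mem hg hxH) (H.inv_mem hg), fun n hn => ?_⟩
    have h1 : g⁻¹ * n * g ∈ N := by
      have := d.dat.N_conj (inv_mem hg) hn
      rwa [inv_inv] at this
    have h2 := d.dat.Q_conj hg (hx _ h1)
    have e : g * (x * (g⁻¹ * n * g) * x⁻¹ * (g⁻¹ * n * g)⁻¹) * g⁻¹ = g * x * g⁻¹ * n * (g * x * g⁻¹)⁻¹ * n⁻¹ := by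
      group
    rwa [e] at h2
  -- `D ∩ N ≤ Q`
  have hDN : ∀ x ∈ D, x ∈ N → x ∈ o2 H := by
    rintro x ⟨hxH, hx⟩ hxN
    rw [← d.dat.ker hxN]
    have h1 : ψ ⟨x, hxN⟩ ∈ Subgroup.center (SpecialLinearGroup (Fin 2) F) := by
      rw [mem_center_iff]
      intro y
      obtain ⟨n, rfl⟩ := d.dat.lin.surj y
      have h2 := hx n n.2
      have h3 : x * (n : G) * x⁻¹ * (n : G)⁻¹ ∈ N :=
        mul_mem (mul_mem (mul_mem hxN n.2) (inv_mem hxN)) (inv_mem n.2)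
      have h4 := (d.dat.ker h3).2 h2
      have h5 : ψ ⟨x, hxN⟩ * ψ n * (ψ ⟨x, hxN⟩)⁻¹ * (ψ n)⁻¹ = 1 := by
        rw [← h4, ← map_inv, ← map_inv, ← map_mul, ← map_mul, ← map_mul]
        rfl
      have h6 : ψ ⟨x, hxN⟩ * ψ n = ψ n * ψ ⟨x, hxN⟩ := by
        calc ψ ⟨x, hxN⟩ * ψ n = (ψ ⟨x, hxN⟩ * ψ n * (ψ ⟨x, hxN⟩)⁻¹ * (ψ n)⁻¹) * (ψ n * ψ ⟨x, hxN⟩) := by group
          _ = ψ n * ψ ⟨x, hxN⟩ := by rw [h5, one_mul]
      exact h6.symm
    rw [FFBasic.center_sl2] at h1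
    exact mem_bot.1 h1
  -- powers
  have hpow : ∀ y ∈ H, ∃ k : ℕ, y ^ 2 ^ k ∈ N := by
    intro y hy
    have h1 : y ∈ N ⊔ T := d.dat.N_sup_T.ge hy
    obtain ⟨t, ht, n, hn, rfl⟩ := exists_mul_of_mem_sup (d.dat.TH.trans d.dat.lin.norm)
      (by rw [sup_comm]; exact h1 : y ∈ T ⊔ N)
    have h2 : ∀ m : ℕ, ∃ n' ∈ N, (t * n) ^ m = t ^ m * n' := by
      intro m
      induction m with
      | zero => exact ⟨1, one_mem _, by simp⟩
      | succ m ih =>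
        obtain ⟨n', hn', h3⟩ := ih
        have h4 : t⁻¹ * n' * t ∈ N := by
          have := d.dat.N_conj (inv_mem (d.dat.TH ht)) hn'
          rwa [inv_inv] at this
        refine ⟨(t⁻¹ * n' * t) * n, mul_mem h4 hn, ?_⟩
        rw [pow_succ, h3, pow_succ]
        group
    obtain ⟨k, hk⟩ := d.dat.conf.cfg.two ⟨t, ht⟩
    have hk' : t ^ 2 ^ k = 1 := by
      have := congrArg Subtype.val hk
      simpa using this
    obtain ⟨n', hn', h3⟩ := h2 (2 ^ k)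
    refine ⟨k, ?_⟩
    rw [h3, hk', one_mul]
    exact hn'
  have hD2 : IsPGroup 2 D := by
    intro y
    obtain ⟨k, hk⟩ := hpow y (hDH y.2)
    have h1 : (y : G) ^ 2 ^ k ∈ o2 H := hDN _ (pow_mem y.2 _) hk
    obtain ⟨j, hj⟩ := (isPGroup_o2 H) ⟨_, h1⟩
    refine ⟨k + j, ?_⟩
    apply Subtype.ext
    have := congrArg Subtype.val hj
    rw [pow_add, pow_mul]
    simpa using this
  exact (le_o2 hDH hD2 hHD) ⟨hx, hc⟩

/-- an element of `T` centralising `W₀` lies in `N` -/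
theorem mem_N_of_cent [Finite G] {t : G} (ht : t ∈ T) (hc : ∀ w ∈ zl T H, w ∈ zj T → t * w = w * t) : t ∈ N := by
  have htH : t ∈ H := d.dat.TH ht
  obtain ⟨α, hα⟩ := exists_aut d htH
  have hUI : ∀ x ∈ UI F, α x ∈ UI F := by
    intro x hx
    obtain ⟨n, rfl⟩ := d.dat.lin.surj x
    have h1 := hα n n.2
    rw [← h1, ← d.std]
    have h2 : (n : G) ∈ T := (d.std n n.2).2 hx
    exact mul_mem (mul_mem ht h2) (inv_mem ht)
  obtain ⟨a, c, hform⟩ := L2Borel.exists_form_UI hUI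
  set σ := Cfsg.Agent.Classification.QDW.TypeHom.typ α with hσ
  -- `σ = 1`
  have hσr : ∀ r : Fˣ, Units.map σ.toMonoidHom r = r := by
    intro r
    obtain ⟨m, hm⟩ := d.dat.lin.surj (td r)
    have hm' : ψ ⟨m, m.2⟩ = td r := hm
    -- `y = [t, m]`
    have hyN : t * (m : G) * t⁻¹ * (m : G)⁻¹ ∈ N := mul_mem (d.dat.N_conj htH m.2) (inv_mem m.2)
    have hyc : ∀ w ∈ zl T H, w ∈ zj T → (t * (m : G) * t⁻¹ * (m : G)⁻¹) * w = w * (t * (m : G) * t⁻¹ * (m : G)⁻¹) := by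
      intro w hw hwz
      obtain ⟨h1, h2⟩ := W0_conj d m.2 hm' hw hwz
      have h3 := hc w hw hwz
      have h4 := hc _ h1 h2
      have h5 : t⁻¹ * ((m : G)⁻¹ * w * m) = ((m : G)⁻¹ * w * m) * t⁻¹ := by
        calc t⁻¹ * ((m : G)⁻¹ * w * m) = t⁻¹ * (((m : G)⁻¹ * w * m) * t) * t⁻¹ := by group
          _ = t⁻¹ * (t * ((m : G)⁻¹ * w * m)) * t⁻¹ := by rw [h4]
          _ = ((m : G)⁻¹ * w * m) * t⁻¹ := by group
      calc (t * (m : G) * t⁻¹ * (m : G)⁻¹) * w = t * m * (t⁻¹ * ((m : G)⁻¹ * w * m)) * (m : G)⁻¹ := by group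
        _ = t * m * (((m : G)⁻¹ * w * m) * t⁻¹) * (m : G)⁻¹ := by rw [h5]
        _ = (t * w) * (m * t⁻¹ * (m : G)⁻¹) := by group
        _ = w * (t * (m : G) * t⁻¹ * (m : G)⁻¹) := by rw [h3]; group
    have hψ : ψ ⟨_, hyN⟩ = (tu a * td c * td (Units.map σ.toMonoidHom r) * (tu a * td c)⁻¹) * (td r)⁻¹ := by
      have h1 : ψ ⟨t * (m : G) * t⁻¹ * (m : G)⁻¹, hyN⟩ = ψ ⟨t * (m : G) * t⁻¹, d.dat.N_conj htH m.2⟩ * (ψ m)⁻¹ := by
        rw [← map_inv, ← map_mul]; rfl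
      rw [h1, hα m m.2, hm, hform, MulAut.mul_apply, MulAut.conj_apply]
      rw [L2Borel.fieldAut_td]
    set ρ := Units.map σ.toMonoidHom r with hρ
    have hψ2 : ψ ⟨_, hyN⟩ = tu (a + (ρ : F) * (ρ : F) * a) * td (ρ * r⁻¹) := by
      rw [hψ, mul_inv_rev]
      have e1 : (tu a * td c * td ρ * ((td c)⁻¹ * (tu a)⁻¹)) * (td r)⁻¹ =
          tu a * (td c * td ρ * (td c)⁻¹) * (tu a)⁻¹ * (td r)⁻¹ := by group
      have e2 : (td c * td ρ * (td c)⁻¹ : SpecialLinearGroup (Fin 2) F) = td ρ := by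
        rw [L2Borel.td_mul, mul_comm, ← L2Borel.td_mul, mul_inv_cancel_right]
      have e3 : ((td r)⁻¹ : SpecialLinearGroup (Fin 2) F) = td r⁻¹ := by
        rw [inv_eq_iff_mul_eq_one, L2Borel.td_mul, mul_inv_cancel]
        exact map_one T1Sl2.dgHom
      have e4 : (tu a * td ρ * (tu a)⁻¹ * td r⁻¹ : SpecialLinearGroup (Fin 2) F) =
          tu a * (td ρ * (tu a)⁻¹ * (td ρ)⁻¹) * (td ρ * td r⁻¹) := by group
      rw [e1, e2, e3, e4, L2Borel.tu_inv, L2Borel.td_conj_tu, T1Sl2.up_mul, L2Borel.td_mul]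
    -- remove the unipotent part
    obtain ⟨u, hu⟩ := d.dat.lin.surj (tu (a + (ρ : F) * (ρ : F) * a))
    have huT : (u : G) ∈ T := by
      rw [d.std u u.2]
      change ψ u ∈ UI F
      rw [hu]; exact T1Sl2.up_mem _
    have hxN : (u : G)⁻¹ * (t * (m : G) * t⁻¹ * (m : G)⁻¹) ∈ N := mul_mem (inv_mem u.2) hyN
    have hxc : ∀ w ∈ zl T H, w ∈ zj T → ((u : G)⁻¹ * (t * (m : G) * t⁻¹ * (m : G)⁻¹)) * w =
        w * ((u : G)⁻¹ * (t * (m : G) * t⁻¹ * (m : G)⁻¹)) := by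
      intro w hw hwz
      have h1 := hyc w hw hwz
      have h2 := (d.dat.mem_zj_iff hw).1 hwz _ ⟨T.inv_mem huT, N.inv_mem u.2⟩
      rw [mul_assoc, h1, ← mul_assoc, h2, mul_assoc]
    have h7 : ψ ⟨_, hxN⟩ = td (ρ * r⁻¹) := by
      have h8 : ψ ⟨_, hxN⟩ = (ψ u)⁻¹ * ψ ⟨_, hyN⟩ := by rw [← map_inv, ← map_mul]; rfl
      rw [h8, hu, hψ2, inv_mul_cancel_left]
    have h9 := torus d hxN hxc h7
    rw [mul_inv_eq_one] at h9
    exact h9
  have hσ1 : σ = 1 := by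
    ext x
    by_cases hx : x = 0
    · rw [hx]; simp
    · have := congrArg Units.val (hσr (Units.mk0 x hx))
      exact this
  -- `α` is inner
  obtain ⟨m, hm⟩ := d.dat.lin.surj (tu a * td c)
  have hx : t * (m : G)⁻¹ ∈ o2 H := by
    refine mem_Q_of_comm d (H.mul_mem htH (H.inv_mem (d.dat.NH m.2))) fun n hn => ?_
    have h1 : (m : G)⁻¹ * n * m ∈ N := mul_mem (mul_mem (inv_mem m.2) hn) m.2
    have h2 : t * (m : G)⁻¹ * n * (t * (m : G)⁻¹)⁻¹ ∈ N :=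
      d.dat.N_conj (H.mul_mem htH (H.inv_mem (d.dat.NH m.2))) hn
    have h3 : t * (m : G)⁻¹ * n * (t * (m : G)⁻¹)⁻¹ * n⁻¹ ∈ N := mul_mem h2 (inv_mem hn)
    rw [← d.dat.ker h3]
    have h4 : ψ ⟨t * (m : G)⁻¹ * n * (t * (m : G)⁻¹)⁻¹, h2⟩ = ψ ⟨n, hn⟩ := by
      have h5 := hα _ h1
      have h6 : (⟨t * (m : G)⁻¹ * n * (t * (m : G)⁻¹)⁻¹, h2⟩ : N) =
          ⟨t * ((m : G)⁻¹ * n * m) * t⁻¹, d.dat.N_conj htH h1⟩ := by
        apply Subtype.ext
        change t * (m : G)⁻¹ * n * (t * (m : G)⁻¹)⁻¹ = t * ((m : G)⁻¹ * n * m) * t⁻¹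
        group
      rw [h6, h5, hform, hσ1]
      have h7 : ψ ⟨(m : G)⁻¹ * n * m, h1⟩ = (ψ m)⁻¹ * ψ ⟨n, hn⟩ * ψ m := by
        rw [← map_inv, ← map_mul, ← map_mul]; rfl
      rw [h7, hm, MulAut.mul_apply, MulAut.conj_apply, map_one, MulAut.one_apply]
      group
    have h8 : ψ ⟨t * (m : G)⁻¹ * n * (t * (m : G)⁻¹)⁻¹ * n⁻¹, h3⟩ =
        ψ ⟨t * (m : G)⁻¹ * n * (t * (m : G)⁻¹)⁻¹, h2⟩ * (ψ ⟨n, hn⟩)⁻¹ := by
      rw [← map_inv, ← map_mul]; rfl
    rw [h8, h4, mul_inv_cancel]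
  have h9 : t = t * (m : G)⁻¹ * m := by group
  rw [h9]
  exact mul_mem (d.dat.Q_le_N hx) m.2

/-- `B(T) ≤ N`. -/
theorem bau_le_N [Finite G] : bau T ≤ N := fun _ hb =>
  mem_N_of_cent d (bau_le T hb) fun _ _ hwz => (mem_centralizer_iff.1 hb.2 _ hwz).symm

end Cfsg.Agent.OddCyclic.COneLinC
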