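import Cfsg.Agent.OddCyclic.COneLinC

/-!
# S0342 (D): the case `H / C_H(W) = SL₂(q).2ᵃ`: the block `L = ⟨B, B ^ h⟩`
-/

set_option autoImplicit false

namespace Cfsg.Agent.OddCyclic.COneLinD

open Subgroup Cfsg Cfsg.Agent.ZN
open Cfsg.Agent.MinSimple
open Cfsg.Agent.OddCyclic.T1Defs Cfsg.Agent.OddCyclic.COneDefs Cfsg.Agent.OddCyclic.COneBase
open Cfsg.Agent.OddCyclic.COneLin Cfsg.Agent.OddCyclic.COneLinB Cfsg.Agent.OddCyclic.COneLinC
open Matrix (SpecialLinearGroup)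
open scoped commutatorElement

local notation "UI" => Cfsg.Agent.OddCyclic.T1Sl2.UI

universe u

variable {G : Type u} [Group G]
variable {M T H N : Subgroup G} {s : G}
variable {F : Type} [Field F] [Fintype F] [CharP F 2] {ψ : N →* SpecialLinearGroup (Fin 2) F}

/-- the conjugate `X ^ (h⁻¹) = h X h⁻¹` -/
def cjn (h : G) (X : Subgroup G) : Subgroup G := X.comap (MulAut.conj h⁻¹).toMonoidHom

theorem mem_cjn {h x : G} {X : Subgroup G} : x ∈ cjn h X ↔ h⁻¹ * x * h ∈ X := by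
  have : (MulAut.conj h⁻¹).toMonoidHom x = h⁻¹ * x * h := by simp
  rw [cjn, mem_comap, this]

theorem relIndex_cjn {h : G} {X Y : Subgroup G} (hY : h ∈ normalizer (Y : Set G)) :
    (cjn h X).relIndex Y = X.relIndex Y := by
  rw [cjn, Subgroup.relIndex_comap]
  congr 1
  ext x
  constructor
  · rintro ⟨y, hy, rfl⟩
    exact (mem_normalizer_iff.1 (inv_mem hY) y).1 hy
  · intro hx
    refine ⟨h * x * h⁻¹, (mem_normalizer_iff.1 hY x).1 hx, ?_⟩
    simp only [MulEquiv.coe_toMonoidHom, MulAut.conj_apply]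
    group

variable (d : LinS M T H N s F ψ)

/-- the data with a Weyl element -/
structure LinH (M T H N : Subgroup G) (s : G) (F : Type) [Field F] [Fintype F] [CharP F 2]
    (ψ : N →* SpecialLinearGroup (Fin 2) F) (h : G) : Prop where
  std : LinS M T H N s F ψ
  mem : h ∈ N
  ww : ψ ⟨h, mem⟩ = T1Sl2.ww F

theorem exists_h (d : LinS M T H N s F ψ) : ∃ h : G, LinH M T H N s F ψ h := by
  obtain ⟨m, hm⟩ := d.dat.lin.surj (T1Sl2.ww F)
  exact ⟨m, d, m.2, hm⟩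

namespace LinH

variable {h : G} (e : LinH M T H N s F ψ h)

include e

theorem dat : LinD M T H N s F ψ := e.std.dat

theorem gen [Finite G] {K : Subgroup G} (h1 : T ⊓ N ≤ K) (h2 : ∀ n ∈ T ⊓ N, h * n * h⁻¹ ∈ K) : N ≤ K := by
  have htop : (K.subgroupOf N).map ψ = ⊤ := by
    apply T1Sl2.sup_std
    · intro x hx
      obtain ⟨m, rfl⟩ := e.dat.lin.surj x
      exact ⟨m, h1 ⟨(e.std.std m m.2).2 hx, m.2⟩, rfl⟩
    · intro x hx
      obtain ⟨m, rfl⟩ := e.dat.lin.surj x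
      have h3 : (T1Sl2.ww F)⁻¹ * ψ m * T1Sl2.ww F ∈ T1Sl2.SU F := T1Sl2.mem_smul.1 hx
      have h4 : h⁻¹ * (m : G) * h ∈ N := mul_mem (mul_mem (inv_mem e.mem) m.2) e.mem
      have h5 : ψ ⟨h⁻¹ * (m : G) * h, h4⟩ = (T1Sl2.ww F)⁻¹ * ψ m * T1Sl2.ww F := by
        rw [← e.ww, ← map_inv, ← map_mul, ← map_mul]; rfl
      have h6 : h⁻¹ * (m : G) * h ∈ T := by
        rw [e.std.std _ h4, h5]
        exact h3
      have h7 := h2 _ ⟨h6, h4⟩
      have h8 : h * (h⁻¹ * (m : G) * h) * h⁻¹ = m := by group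
      rw [h8] at h7
      exact ⟨m, h7, rfl⟩
  intro n hn
  obtain ⟨m, hm, hmn⟩ : ψ ⟨n, hn⟩ ∈ (K.subgroupOf N).map ψ := by rw [htop]; exact mem_top _
  have h3 : ψ (m⁻¹ * ⟨n, hn⟩) = 1 := by rw [map_mul, map_inv, hmn, inv_mul_cancel]
  have h4 := (e.dat.ker (m⁻¹ * ⟨n, hn⟩ : N).2).1 h3
  have h5 : n = (m : G) * ((m⁻¹ * ⟨n, hn⟩ : N) : G) := by
    rw [coe_mul, coe_inv]; group
  rw [h5]
  exact mul_mem hm (h1 ⟨e.dat.Q_le_T h4, (m⁻¹ * ⟨n, hn⟩ : N).2⟩)

theorem hH : h ∈ H := e.dat.NH e.mem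

omit e in
/-- `Z₀ = Z_J ∩ Z_J ^ h` -/
def Z0 (T : Subgroup G) (h : G) : Subgroup G := zj T ⊓ cjn h (zj T)

omit e in
/-- `L = ⟨B, B ^ h⟩` -/
def LL (T : Subgroup G) (h : G) : Subgroup G := bau T ⊔ cjn h (bau T)

theorem relIndex_cjn_zj [Finite G] : (cjn h (zj T)).relIndex (zl T H ⊔ zj T) = Fintype.card F := by
  rw [relIndex_cjn (norm_W1 e.dat e.hH), relIndex_zj e.dat]

theorem relIndex_Z0_le [Finite G] : (Z0 T h).relIndex (zl T H ⊔ zj T) ≤ Fintype.card F ^ 2 := by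
  refine (Subgroup.relIndex_inf_le).trans ?_
  rw [relIndex_zj e.dat, relIndex_cjn_zj e, pow_two]

theorem N_comm_of_mem [Finite G] {w : G} (hw : w ∈ zl T H) (hz : w ∈ Z0 T h) : ∀ n ∈ N, n * w = w * n := by
  have h1 : N ≤ centralizer ({w} : Set G) := by
    apply e.gen
    · intro n hn
      rw [mem_centralizer_singleton_iff]
      exact (e.dat.mem_zj_iff hw).1 hz.1 n hn
    · intro n hn
      rw [mem_centralizer_singleton_iff]
      have hw' : h⁻¹ * w * h ∈ zl T H := by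
        have := e.dat.W_conj (inv_mem e.hH) hw
        rwa [inv_inv] at this
      have h2 := (e.dat.mem_zj_iff hw').1 (mem_cjn.1 hz.2) n hn
      calc h * n * h⁻¹ * w = h * (n * (h⁻¹ * w * h)) * h⁻¹ := by group
        _ = h * ((h⁻¹ * w * h) * n) * h⁻¹ := by rw [h2]
        _ = w * (h * n * h⁻¹) := by group
  intro n hn
  exact mem_centralizer_singleton_iff.1 (h1 hn)

theorem mem_Z0_of_comm [Finite G] {w : G} (hw : w ∈ zl T H) (hc : ∀ n ∈ N, n * w = w * n) : w ∈ Z0 T h := by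
  have h1 : w ∈ zj T := (e.dat.mem_zj_iff hw).2 fun t ht => hc t ht.2
  refine ⟨h1, mem_cjn.2 ?_⟩
  have h2 : h⁻¹ * w * h = w := by
    rw [mul_assoc, ← hc h e.mem]; group
  rwa [h2]

theorem inf_Z0 [Finite G] : zl T H ⊓ Z0 T h = zl T H ⊓ centralizer (N : Set G) := by
  ext w
  constructor
  · rintro ⟨hw, hz⟩
    exact ⟨hw, mem_centralizer_iff.2 fun n hn => e.N_comm_of_mem hw hz n hn⟩
  · rintro ⟨hw, hz⟩
    exact ⟨hw, e.mem_Z0_of_comm hw fun n hn => mem_centralizer_iff.1 hz n hn⟩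

theorem W_norm_Z0 [Finite G] : zl T H ≤ normalizer (Z0 T h : Set G) :=
  le_normalizer_of_comm fun x hx y hy => W1_comm e.dat (mem_sup_left hx) (mem_sup_right hy.1)

theorem relIndex_Z0_W [Finite G] : (Z0 T h).relIndex (zl T H) = Fintype.card F ^ 2 := by
  rw [← Subgroup.inf_relIndex_right, inf_comm, e.inf_Z0]
  exact e.dat.lin.top

/-- `W Z₀ = W Z_J`. -/
theorem sup_Z0 [Finite G] : zl T H ⊔ Z0 T h = zl T H ⊔ zj T := by
  have h1 : zl T H ⊔ Z0 T h ≤ zl T H ⊔ zj T := sup_le_sup_left inf_le_left _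
  apply Subgroup.eq_of_le_of_card_ge h1
  have h2 := card_mul_relIndex (le_sup_right : Z0 T h ≤ zl T H ⊔ Z0 T h)
  have h3 := card_mul_relIndex (inf_le_left.trans le_sup_right : Z0 T h ≤ zl T H ⊔ zj T)
  rw [relIndex_sup_of_le_normalizer e.W_norm_Z0, e.relIndex_Z0_W] at h2
  rw [← h2, ← h3]
  exact Nat.mul_le_mul_left _ e.relIndex_Z0_le

theorem exists_Z0_mul [Finite G] {x : G} (hx : x ∈ zl T H ⊔ zj T) : ∃ w ∈ zl T H, ∃ z ∈ Z0 T h, x = w * z := by
  rw [← e.sup_Z0] at hx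
  exact exists_mul_of_mem_sup e.W_norm_Z0 hx

theorem relIndex_Z0 [Finite G] : (Z0 T h).relIndex (zl T H ⊔ zj T) = Fintype.card F ^ 2 := by
  rw [← e.sup_Z0, relIndex_sup_of_le_normalizer e.W_norm_Z0, e.relIndex_Z0_W]

theorem relIndex_Z0_zj [Finite G] : (Z0 T h).relIndex (zj T) = Fintype.card F := by
  have h1 := relIndex_mul_relIndex (Z0 T h) (zj T) (zl T H ⊔ zj T) inf_le_left le_sup_right
  rw [relIndex_zj e.dat, e.relIndex_Z0, pow_two] at h1
  have h2 := e.dat.lin.four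
  exact Nat.eq_of_mul_eq_mul_right (by omega) h1

/-! ### the group `L` -/

theorem B_le_N [Finite G] : bau T ≤ N := bau_le_N e.std

omit e in
theorem B_le_L : bau T ≤ LL T h := le_sup_left

theorem L_le_N [Finite G] : LL T h ≤ N := by
  refine sup_le e.B_le_N fun x hx => ?_
  have h1 := e.B_le_N (mem_cjn.1 hx)
  have h2 : x = h * (h⁻¹ * x * h) * h⁻¹ := by group
  rw [h2]
  exact mul_mem (mul_mem e.mem h1) (inv_mem e.mem)

theorem L_le_H [Finite G] : LL T h ≤ H := e.L_le_N.trans e.dat.NH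

omit e in
theorem L_comm {l z : G} (hl : l ∈ LL T h) (hz : z ∈ Z0 T h) : l * z = z * l := by
  have h1 : LL T h ≤ centralizer ({z} : Set G) := by
    refine sup_le (fun b hb => ?_) fun b hb => ?_
    · rw [mem_centralizer_singleton_iff]
      exact (mem_centralizer_iff.1 hb.2 z hz.1).symm
    · rw [mem_centralizer_singleton_iff]
      have h2 := (mem_centralizer_iff.1 (mem_cjn.1 hb).2 _ (mem_cjn.1 hz.2)).symm
      calc b * z = h * ((h⁻¹ * b * h) * (h⁻¹ * z * h)) * h⁻¹ := by group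
        _ = h * ((h⁻¹ * z * h) * (h⁻¹ * b * h)) * h⁻¹ := by rw [h2]
        _ = z * b := by group
  exact mem_centralizer_singleton_iff.1 (h1 hl)

theorem conj_Q [Finite G] {x : G} (hx : x ∈ o2 H) : h⁻¹ * x * h ∈ o2 H := by
  have := e.dat.Q_conj (inv_mem e.hH) hx
  rwa [inv_inv] at this

theorem TN_le [Finite G] {t : G} (htT : t ∈ T) (htN : t ∈ N) : ∃ b ∈ bau T, ∃ x ∈ o2 H, t = b * x := by
  obtain ⟨A, hA, hA1⟩ := e.dat.exists_A
  obtain ⟨a, ha, x, hx, rfl⟩ := e.dat.exists_mul hA hA1 htT htN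
  exact ⟨a, jj_le_bau T (hA.le_jj ha), x, hx, rfl⟩

/-- `N = L Q` -/
theorem N_le [Finite G] : N ≤ LL T h ⊔ o2 H := by
  apply e.gen
  · rintro n ⟨hnT, hnN⟩
    obtain ⟨b, hb, x, hx, rfl⟩ := e.TN_le hnT hnN
    exact mul_mem (mem_sup_left (B_le_L hb)) (mem_sup_right hx)
  · rintro n ⟨hnT, hnN⟩
    obtain ⟨b, hb, x, hx, rfl⟩ := e.TN_le hnT hnN
    have h1 : h * (b * x) * h⁻¹ = (h * b * h⁻¹) * (h * x * h⁻¹) := by group
    rw [h1]
    refine mul_mem (mem_sup_left ((le_sup_right : cjn h (bau T) ≤ LL T h) (mem_cjn.2 ?_)))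
      (mem_sup_right (e.dat.Q_conj e.hH hx))
    have h2 : h⁻¹ * (h * b * h⁻¹) * h = b := by group
    rwa [h2]

theorem Q_norm_L [Finite G] : o2 H ≤ normalizer (LL T h : Set G) := by
  have hB : ∀ x ∈ o2 H, ∀ b ∈ bau T, x * b * x⁻¹ ∈ bau T := fun x hx b hb =>
    (mem_normalizer_iff.1 (le_normalizer_bau T (e.dat.Q_le_T hx)) b).1 hb
  rw [le_normalizer_iff]
  intro x hx y hy
  have h1 : LL T h ≤ (LL T h).comap (MulAut.conj x).toMonoidHom := by
    refine sup_le (fun b hb => ?_) fun b hb => ?_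
    · exact B_le_L (hB x hx b hb)
    · change x * b * x⁻¹ ∈ LL T h
      refine (le_sup_right : cjn h (bau T) ≤ LL T h) (mem_cjn.2 ?_)
      have h2 := hB _ (e.conj_Q hx) _ (mem_cjn.1 hb)
      have h3 : h⁻¹ * (x * b * x⁻¹) * h = (h⁻¹ * x * h) * (h⁻¹ * b * h) * (h⁻¹ * x * h)⁻¹ := by group
      rwa [h3]
  exact h1 hy

theorem N_norm_L [Finite G] : N ≤ normalizer (LL T h : Set G) :=
  e.N_le.trans (sup_le le_normalizer e.Q_norm_L)

theorem T_norm_L [Finite G] : T ≤ normalizer (LL T h : Set G) := by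
  have hB : ∀ x ∈ T, ∀ b ∈ bau T, x * b * x⁻¹ ∈ bau T := fun x hx b hb =>
    (mem_normalizer_iff.1 (le_normalizer_bau T hx) b).1 hb
  rw [le_normalizer_iff]
  intro t ht y hy
  have h1 : LL T h ≤ (LL T h).comap (MulAut.conj t).toMonoidHom := by
    refine sup_le (fun b hb => ?_) fun b hb => ?_
    · exact B_le_L (hB t ht b hb)
    · change t * b * t⁻¹ ∈ LL T h
      have h2 := hB t ht _ (mem_cjn.1 hb)
      have h3 : t * h * t⁻¹ ∈ normalizer (LL T h : Set G) :=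
        e.N_norm_L (e.dat.N_conj (e.dat.TH ht) e.mem)
      have h4 := (mem_normalizer_iff.1 h3 _).1 (B_le_L (h := h) h2)
      have h5 : t * h * t⁻¹ * (t * (h⁻¹ * b * h) * t⁻¹) * (t * h * t⁻¹)⁻¹ = t * b * t⁻¹ := by group
      rwa [h5] at h4
  exact h1 hy

theorem sup_T [Finite G] : H = LL T h ⊔ T := by
  apply le_antisymm
  · rw [← e.dat.N_sup_T]
    exact sup_le (e.N_le.trans (sup_le_sup_left e.dat.Q_le_T _)) le_sup_right
  · exact sup_le e.L_le_H e.dat.TH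

theorem norm_L [Finite G] : H ≤ normalizer (LL T h : Set G) := by
  conv_lhs => rw [e.sup_T]
  exact sup_le le_normalizer e.T_norm_L

/-- `B ∩ Q = L ∩ Q`. -/
theorem inf_Q [Finite G] : LL T h ⊓ o2 H = bau T ⊓ o2 H := by
  apply le_antisymm
  · rintro x ⟨hxL, hxQ⟩
    refine ⟨⟨e.dat.Q_le_T hxQ, mem_centralizer_iff.2 fun z hz => ?_⟩, hxQ⟩
    obtain ⟨w, hw, z₀, hz₀, rfl⟩ := e.exists_Z0_mul (mem_sup_right hz : z ∈ zl T H ⊔ zj T)
    have e1 := e.dat.Q_cent hxQ hw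
    have e2 := L_comm hxL hz₀
    calc w * z₀ * x = w * (x * z₀) := by rw [e2]; group
      _ = (x * w) * z₀ := by rw [e1]; group
      _ = x * (w * z₀) := by group
  · exact inf_le_inf_right _ B_le_L

theorem o2_LL [Finite G] : o2 (LL T h) = bau T ⊓ o2 H := by
  rw [← e.inf_Q]
  apply le_antisymm
  · refine le_inf (o2_le _) ?_
    have h1 : H ≤ normalizer (o2 (LL T h) : Set G) := e.norm_L.trans (normalizer_le_normalizer_o2 _)
    exact le_o2 ((o2_le _).trans e.L_le_H) (isPGroup_o2 _) h1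
  · refine le_o2 inf_le_left ((isPGroup_o2 H).to_le inf_le_right) ?_
    exact (le_inf le_normalizer (e.L_le_H.trans (le_normalizer_o2 H))).trans inf_normalizer_le_normalizer_inf

theorem zl_LL [Finite G] : zl (bau T) (LL T h) = zl T H ⊔ zj T := by
  apply le_antisymm
  · rw [FinalBridge.zl_le_iff]
    intro y hy x hx
    rw [zc_bau] at hx
    exact (mem_normalizer_iff.1 (norm_W1 e.dat (e.L_le_H hy)) x).1 (mem_sup_right hx)
  · have h1 : zj T ≤ zl (bau T) (LL T h) := by rw [← zc_bau]; exact zc_le_zl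
    refine sup_le ?_ h1
    have h2 : H ≤ normalizer (zl (bau T) (LL T h) : Set G) := by
      conv_lhs => rw [e.sup_T]
      refine sup_le (le_normalizer_zl _ _) ?_
      rw [le_normalizer_iff]
      intro t ht x hx
      exact FinalBridge.zl_conj (le_normalizer_bau T ht) (e.T_norm_L ht) hx
    rw [FinalBridge.zl_le_iff]
    intro y hy x hx
    exact (mem_normalizer_iff.1 (h2 hy) x).1 (h1 (zc_le_zj T hx))

end LinH

end Cfsg.Agent.OddCyclic.COneLinD
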