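import Cfsg.Agent.OddCyclic.COneLinD

/-!
# S0342 (D): the case `H / C_H(W) = SL₂(q).2ᵃ`: `LBlk (bau T) L q`
-/

set_option autoImplicit false

namespace Cfsg.Agent.OddCyclic.COneLinE

open Subgroup Cfsg Cfsg.Agent.ZN
open Cfsg.Agent.MinSimple
open Cfsg.Agent.PLocal.ThompsonJ
open Cfsg.Agent.OddCyclic.T1Defs Cfsg.Agent.OddCyclic.COneDefs Cfsg.Agent.OddCyclic.COneBase
open Cfsg.Agent.OddCyclic.COneLin Cfsg.Agent.OddCyclic.COneLinB Cfsg.Agent.OddCyclic.COneLinC
open Cfsg.Agent.OddCyclic.COneLinD Cfsg.Agent.OddCyclic.COneLinD.LinH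
open Matrix (SpecialLinearGroup)
open scoped commutatorElement

local notation "UI" => Cfsg.Agent.OddCyclic.T1Sl2.UI

universe u

variable {G : Type u} [Group G]
variable {M T H N : Subgroup G} {s : G}
variable {F : Type} [Field F] [Fintype F] [CharP F 2] {ψ : N →* SpecialLinearGroup (Fin 2) F}
variable {h : G} (e : LinH M T H N s F ψ h)

include e

theorem rl_LL [Finite G] : rl (bau T) (LL T h) = Z0 T h := by
  ext x
  constructor
  · rintro ⟨hx, hxL⟩
    rw [zc_bau] at hx
    refine ⟨hx, mem_cjn.2 ?_⟩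
    -- `h = l q`
    obtain ⟨q, hq, l, hl, hql⟩ := exists_mul_of_mem_sup e.Q_norm_L
      (by rw [sup_comm]; exact e.N_le e.mem : h ∈ o2 H ⊔ LL T h)
    have h1 : q⁻¹ * x * q ∈ zj T := by
      have := (mem_normalizer_iff.1 (le_normalizer_zj T (e.dat.Q_le_T (inv_mem hq))) x).1 hx
      rwa [inv_inv] at this
    have h2 : l * (q⁻¹ * x * q) = (q⁻¹ * x * q) * l := by
      have h3 : q * l * q⁻¹ ∈ LL T h := (mem_normalizer_iff.1 (e.Q_norm_L hq) l).1 hl
      have h4 := mem_centralizer_iff.1 hxL _ h3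
      calc l * (q⁻¹ * x * q) = q⁻¹ * ((q * l * q⁻¹) * x) * q := by group
        _ = q⁻¹ * (x * (q * l * q⁻¹)) * q := by rw [h4]
        _ = (q⁻¹ * x * q) * l := by group
    have h5 : h⁻¹ * x * h = q⁻¹ * x * q := by
      calc h⁻¹ * x * h = l⁻¹ * ((q⁻¹ * x * q) * l) := by rw [hql]; group
        _ = l⁻¹ * (l * (q⁻¹ * x * q)) := by rw [h2]
        _ = q⁻¹ * x * q := by group
    rw [h5]
    exact h1
  · intro hx
    refine ⟨by rw [zc_bau]; exact hx.1, mem_centralizer_iff.2 fun l hl => L_comm hl hx⟩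

theorem exists_pow [Finite G] {x : G} (hx : x ∈ o2 H) : ∃ k : ℕ, x ^ 2 ^ k = 1 := by
  obtain ⟨k, hk⟩ := isPGroup_o2 H ⟨x, hx⟩
  exact ⟨k, by have := congrArg Subtype.val hk; simpa using this⟩

theorem lblk [Finite G] : LBlk (bau T) (LL T h) (Fintype.card F) := by
  have hLN := e.L_le_N
  have hWc : ∀ x ∈ zl T H ⊔ zj T, ∀ y ∈ zl T H ⊔ zj T, x * y = y * x := fun x hx y hy => W1_comm e.dat hx hy
  have hnor := le_normalizer_of_comm (H := zl T H) (L := zj T) fun x hx y hy =>
    W1_comm e.dat (mem_sup_left hx) (mem_sup_right hy)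
  have hBH : bau T ≤ H := (bau_le T).trans e.dat.TH
  have hBnQ : ∀ b ∈ bau T, ∀ z ∈ zj T, b * z = z * b := fun b hb z hz => (mem_centralizer_iff.1 hb.2 z hz).symm
  exact
  { le := B_le_L
    two := isPGroup_bau e.dat.conf.cfg.two
    four := e.dat.lin.four
    iso := by
      refine ⟨F, inferInstance, inferInstance, inferInstance, ψ.comp (Subgroup.inclusion hLN), ?_, ?_, rfl⟩
      · intro x
        obtain ⟨n, rfl⟩ := e.dat.lin.surj x
        obtain ⟨q, hq, l, hl, hql⟩ := exists_mul_of_mem_sup e.Q_norm_L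
          (by rw [sup_comm]; exact e.N_le n.2 : (n : G) ∈ o2 H ⊔ LL T h)
        refine ⟨⟨l, hl⟩, ?_⟩
        change ψ ⟨l, hLN hl⟩ = ψ n
        have h1 : n = ⟨q, e.dat.Q_le_N hq⟩ * ⟨l, hLN hl⟩ := Subtype.ext hql
        rw [h1, map_mul, (e.dat.ker (e.dat.Q_le_N hq)).2 hq, one_mul]
      · ext l
        rw [MonoidHom.mem_ker, mem_subgroupOf, e.o2_LL]
        change ψ ⟨l, hLN l.2⟩ = 1 ↔ _
        rw [e.dat.ker (hLN l.2), ← e.inf_Q]
        exact ⟨fun h1 => ⟨l.2, h1⟩, fun h1 => h1.2⟩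
    o2_le := by rw [e.o2_LL]; exact inf_le_left
    o2_index := by
      rw [e.o2_LL]
      obtain ⟨U, hU, -⟩ := e.dat.exists_U
      have hker : ψ.ker = (o2 H).subgroupOf N := by
        ext n
        rw [MonoidHom.mem_ker, mem_subgroupOf]
        exact e.dat.ker n.2
      have h1 : Nat.card (((bau T).subgroupOf N).map ψ) = Fintype.card F := by
        rw [← T1Sl2.card_sylow U]
        have h2 : ((bau T).subgroupOf N).map ψ = (U : Subgroup (SpecialLinearGroup (Fin 2) F)) := by
          rw [← hU]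
          apply le_antisymm
          · exact Subgroup.map_mono fun x hx => ⟨bau_le T hx, x.2⟩
          · rintro _ ⟨t, ht, rfl⟩
            obtain ⟨b, hb, x, hx, hbx⟩ := e.TN_le ht.1 ht.2
            refine ⟨⟨b, e.B_le_N hb⟩, hb, ?_⟩
            have h3 : t = ⟨b, e.B_le_N hb⟩ * ⟨x, e.dat.Q_le_N hx⟩ := Subtype.ext hbx
            rw [h3, map_mul, (e.dat.ker (e.dat.Q_le_N hx)).2 hx, mul_one]
        rw [h2]
      rw [← Subgroup.relIndex_ker, hker, Subgroup.relIndex_subgroupOf e.B_le_N] at h1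
      rw [← h1, ← Subgroup.inf_relIndex_right (o2 H) (bau T), inf_comm]
    self_cent := by
      rintro x ⟨hxL, hxc⟩
      rw [e.o2_LL, ← e.inf_Q]
      refine ⟨hxL, e.dat.mem_Q (e.L_le_H hxL) fun w hw => ?_⟩
      have hw' : w ∈ o2 (LL T h) := by
        rw [e.o2_LL]
        exact ⟨⟨e.dat.W_le_T hw, mem_centralizer_iff.2 fun z hz =>
          hWc z (mem_sup_right hz) w (mem_sup_left hw)⟩, e.dat.W_le_Q hw⟩
      exact (mem_centralizer_iff.1 hxc w hw').symm
    zl_comm := by
      rw [e.zl_LL]; exact hWc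
    zl_sq := by
      rw [e.zl_LL]; intro x hx; exact W1_sq e.dat hx
    cent_zl := by
      rw [e.zl_LL, e.o2_LL]
      ext b
      constructor
      · rintro ⟨hb, hbc⟩
        exact ⟨hb, e.dat.mem_Q (hBH hb) fun w hw => (mem_centralizer_iff.1 hbc w (mem_sup_left hw)).symm⟩
      · rintro ⟨hb, hbQ⟩
        refine ⟨hb, mem_centralizer_iff.2 fun v hv => ?_⟩
        obtain ⟨w, hw, z, hz, rfl⟩ := exists_W_mul e.dat hv
        have e1 := e.dat.Q_cent hbQ hw
        have e2 := hBnQ b hb z hz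
        calc w * z * b = w * (b * z) := by rw [e2]; group
          _ = (b * w) * z := by rw [e1]; group
          _ = b * (w * z) := by group
    rl_index := by rw [rl_LL e, zc_bau, e.relIndex_Z0_zj]
    zl_index := by rw [e.zl_LL, zc_bau, relIndex_zj e.dat]
    comm := by
      intro b hb v hv
      rw [e.zl_LL] at hv
      rw [zc_bau]
      obtain ⟨w, hw, z, hz, rfl⟩ := exists_W_mul e.dat hv
      have e2 := hBnQ b hb z hz
      have e3 : b * (w * z) * b⁻¹ * (w * z)⁻¹ = b * w * b⁻¹ * w⁻¹ := by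
        calc b * (w * z) * b⁻¹ * (w * z)⁻¹ = b * w * (z * b⁻¹) * z⁻¹ * w⁻¹ := by group
          _ = b * w * (b⁻¹ * z) * z⁻¹ * w⁻¹ := by
            have : z * b⁻¹ = b⁻¹ * z := by
              calc z * b⁻¹ = b⁻¹ * (b * z) * b⁻¹ := by group
                _ = b⁻¹ * (z * b) * b⁻¹ := by rw [e2]
                _ = b⁻¹ * z := by group
            rw [this]
          _ = b * w * b⁻¹ * w⁻¹ := by group
      rw [e3]
      -- replace `b` by an element of `A`
      obtain ⟨A, hA, hA1⟩ := e.dat.exists_A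
      obtain ⟨a, ha, x, hx, rfl⟩ := e.dat.exists_mul hA hA1 (bau_le T hb) (e.B_le_N hb)
      have e4 := e.dat.Q_cent hx hw
      have e5 : a * x * w * (a * x)⁻¹ * w⁻¹ = a * w * a⁻¹ * w⁻¹ := by
        calc a * x * w * (a * x)⁻¹ * w⁻¹ = a * (x * w) * x⁻¹ * a⁻¹ * w⁻¹ := by group
          _ = a * w * a⁻¹ * w⁻¹ := by rw [e4]; group
      rw [e5]
      have haN := e.dat.lin.inN A hA hA1 ha
      have haH := e.dat.NH haN
      have hcW : a * w * a⁻¹ * w⁻¹ ∈ zl T H := mul_mem (e.dat.W_conj haH hw) (inv_mem hw)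
      by_cases h1 : ψ ⟨a, haN⟩ = 1
      · have h2 := e.dat.Q_cent ((e.dat.ker haN).1 h1) hw
        have h3 : a * w * a⁻¹ * w⁻¹ = 1 := by rw [h2]; group
        rw [h3]
        exact one_mem _
      · rw [e.dat.mem_zj_iff hcW]
        refine e.dat.lin.fix a haN (hA.1 ha) h1 _ hcW ?_
        have ha2 : a * a = 1 := by
          have := (isElementaryAbelian_iff.1 hA.2.1).2 a ha
          rwa [pow_two] at this
        have ha3 : a⁻¹ = a := inv_eq_of_mul_eq_one_left ha2
        have hw2 : w⁻¹ = w := inv_eq_of_mul_eq_one_left (e.dat.W_sq hw)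
        have h4 : a * w * a⁻¹ ∈ zl T H := e.dat.W_conj haH hw
        have h5 := e.dat.W_comm h4 hw
        rw [ha3, hw2]
        rw [ha3] at h5
        calc a * (a * w * a * w) = (a * a) * w * a * w := by group
          _ = w * a * w := by rw [ha2, one_mul]
          _ = (w * (a * w * a)) * a⁻¹ := by
            have : w * a * w = w * (a * w * a) * a⁻¹ := by group
            exact this
          _ = ((a * w * a) * w) * a⁻¹ := by rw [h5]
          _ = a * w * a * w * a := by rw [ha3]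
    cent := by
      intro b hb hbQ v hv hbv
      rw [e.zl_LL] at hv
      rw [zc_bau]
      obtain ⟨w, hw, z, hz, rfl⟩ := exists_W_mul e.dat hv
      have e2 := hBnQ b hb z hz
      have e3 : b * w = w * b := by
        calc b * w = (b * (w * z)) * z⁻¹ := by group
          _ = (w * z * b) * z⁻¹ := by rw [hbv]
          _ = w * (z * b) * z⁻¹ := by group
          _ = w * (b * z) * z⁻¹ := by rw [e2]
          _ = w * b := by group
      refine mul_mem ((e.dat.mem_zj_iff hw).2 (e.dat.lin.fix b (e.B_le_N hb) (bau_le T hb) ?_ w hw e3)) hz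
      intro h1
      apply hbQ
      rw [e.o2_LL]
      exact ⟨hb, (e.dat.ker (e.B_le_N hb)).1 h1⟩
    fpf := by
      intro x hx hx3 v hv hxv
      rw [e.zl_LL] at hv
      rw [rl_LL e]
      obtain ⟨w, hw, z, hz, rfl⟩ := e.exists_Z0_mul hv
      have e2 := L_comm hx hz
      have e3 : x * w = w * x := by
        calc x * w = (x * (w * z)) * z⁻¹ := by group
          _ = (w * z * x) * z⁻¹ := by rw [hxv]
          _ = w * (z * x) * z⁻¹ := by group
          _ = w * (x * z) * z⁻¹ := by rw [e2]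
          _ = w * x := by group
      refine mul_mem (e.mem_Z0_of_comm hw (e.dat.lin.fpf x (hLN hx) 3 (by decide) ?_ ?_ w hw e3)) hz
      · rw [← map_pow]
        have h1 : (⟨x, hLN hx⟩ : N) ^ 3 = 1 := by
          apply Subtype.ext
          have := pow_orderOf_eq_one x
          rw [hx3] at this
          simpa using this
        rw [h1, map_one]
      · intro h1
        obtain ⟨k, hk⟩ := exists_pow e ((e.dat.ker (hLN hx)).1 h1)
        have h2 := orderOf_dvd_of_pow_eq_one hk
        rw [hx3] at h2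
        have h3 := (Nat.Prime.dvd_of_dvd_pow (by norm_num) h2 : 3 ∣ 2)
        omega }

/-- **The configuration `LConf`.** -/
theorem lconf [Finite G] : LConf M T H (LL T h) s (Fintype.card F) where
  conf := e.dat.conf
  blk := lblk e
  norm := e.norm_L
  sup := e.sup_T

end Cfsg.Agent.OddCyclic.COneLinE

namespace Cfsg.Agent.OddCyclic.COneLin

open Subgroup Cfsg Cfsg.Agent.ZN
open Cfsg.Agent.OddCyclic.COneDefs
open Matrix (SpecialLinearGroup)

universe u

variable {G : Type u} [Group G] {M T H N : Subgroup G} {s : G}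
variable {F : Type} [Field F] [Fintype F] [CharP F 2] {ψ : N →* SpecialLinearGroup (Fin 2) F}

theorem LinD.exists_lconf [Finite G] (d : LinD M T H N s F ψ) : ∃ L q, LConf M T H L s q := by
  obtain ⟨ψ', d'⟩ := COneLinC.exists_std d
  obtain ⟨h, e⟩ := COneLinD.exists_h d'
  exact ⟨_, _, COneLinE.lconf e⟩

end Cfsg.Agent.OddCyclic.COneLin
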