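import Mathlib
import Cfsg.Agent.MinSimple.PushUp
import Cfsg.Agent.OddCyclic.T1Defs
import Cfsg.Agent.OddCyclic.CompBasic

/-!
# Pushing up for `SL₂(q)`-blocks: the graph argument in word form

`T` has index at most two in the group `A`, `B` is normal in `A`, `L` is a "block" over `B`
(`L/Q ≅ SL₂(q)`, `V` is an abelian normal subgroup of `L` contained in `Z(Q)`, `V/Z` is the natural module up to a
trivial quotient, `Z = C_V(B)`).  If no nontrivial subgroup of `B` is normalised by `L` and by `A`, and if there is a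
torus element `k` of odd prime order in a group with cyclic odd Sylow subgroups, then `V` does not commute with its
conjugate under the elements of `A ∖ T`.

(1.1 of blueprints/S0342-A1-helper199.md; the graph argument is that of `MinSimple.PushUp`.)
-/

set_option autoImplicit false

namespace Cfsg.Agent.OddCyclic.PushQ

open Cfsg.Agent.MinSimple.PushUp
open Cfsg.Agent.OddCyclic.T1Defs
open Cfsg.Agent.OddCyclic.CompBasic

variable {G : Type*} [Group G]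

/-- The hypotheses of the pushing up theorem. -/
structure Data (A T L B Q V Z : Subgroup G) : Prop where
  TA : T ≤ A
  idx : ∀ a ∈ A, ∀ b ∈ A, a ∉ T → b ∉ T → a⁻¹ * b ∈ T
  BT : B ≤ T
  BL : B ≤ L
  QB : Q ≤ B
  VQ : V ≤ Q
  ZV : Z ≤ V
  AnB : ∀ a ∈ A, ∀ b ∈ B, a * b * a⁻¹ ∈ B
  TnV : ∀ t ∈ T, ∀ v ∈ V, t * v * t⁻¹ ∈ V
  LnQ : ∀ l ∈ L, ∀ q ∈ Q, l * q * l⁻¹ ∈ Q
  LnV : ∀ l ∈ L, ∀ v ∈ V, l * v * l⁻¹ ∈ V
  BcZ : ∀ b ∈ B, ∀ y ∈ Z, b * y = y * b
  VcQ : ∀ q ∈ Q, ∀ v ∈ V, q * v = v * q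
  QcV : ∀ b ∈ B, (∀ v ∈ V, b * v = v * b) → b ∈ Q
  comm : ∀ v ∈ V, ∀ b ∈ B, v * b * v⁻¹ * b⁻¹ ∈ Z
  ncomm : ∀ v ∈ V, v ∉ Z → ∀ b ∈ B, b ∉ Q → v * b ≠ b * v
  card : Q.relIndex B ≤ Z.relIndex V
  gen : ∀ u ∈ B, u ∉ Q → ∀ l ∈ L, (∃ b ∈ B, l * b * l⁻¹ ∉ B) →
    ∀ H : Subgroup G, u ∈ H → (∀ b ∈ B, l * b * l⁻¹ ∈ H) → L ≤ H
  moves : ∃ l ∈ L, ∃ b ∈ B, l * b * l⁻¹ ∉ B
  Vne : V ≠ ⊥
  core : ∀ R : Subgroup G, R ≤ B → (∀ l ∈ L, ∀ r ∈ R, l * r * l⁻¹ ∈ R) →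
    (∀ a ∈ A, ∀ r ∈ R, a * r * a⁻¹ ∈ R) → R = ⊥

variable {A T L B Q V Z : Subgroup G}

/-- closure under conjugation can be checked on generators -/
theorem closure_conj {S : Set G} {R : Subgroup G} {g : G} (hg : ∀ x ∈ S, cj g x ∈ R) :
    ∀ x ∈ Subgroup.closure S, cj g x ∈ R := by
  intro x hx
  have : Subgroup.closure S ≤ R.comap (MulAut.conj g).toMonoidHom := by
    rw [Subgroup.closure_le]
    intro y hy
    have := hg y hy
    simpa [cj] using this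
  have := this hx
  simpa [cj] using this

namespace Data

variable (h : Data A T L B Q V Z)

include h

theorem VB : V ≤ B := h.VQ.trans h.QB

theorem BA : B ≤ A := h.BT.trans h.TA

theorem cjB {a b : G} (ha : a ∈ A) (hb : b ∈ B) : cj a b ∈ B := h.AnB a ha b hb

theorem cjQ {l b : G} (hl : l ∈ L) (hb : b ∈ Q) : cj l b ∈ Q := h.LnQ l hl b hb

theorem cjV {l b : G} (hl : l ∈ L) (hb : b ∈ V) : cj l b ∈ V := h.LnV l hl b hb

theorem cjVT {t b : G} (ht : t ∈ T) (hb : b ∈ V) : cj t b ∈ V := h.TnV t ht b hb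

/-- one noncommuting conjugate is enough -/
theorem com_A {s : G} (hs : s ∈ A) (hsT : s ∉ T) (hcom : Com V s) : ∀ a ∈ A, Com V a := by
  intro a ha v hv u hu
  by_cases haT : a ∈ T
  · exact h.VcQ v (h.VQ hv) _ (h.cjVT haT hu)
  · have h1 : s⁻¹ * a ∈ T := h.idx s hs a ha hsT haT
    have h2 := hcom v hv _ (h.cjVT h1 hu)
    rw [← cj_mul, mul_inv_cancel_left] at h2
    exact h2

section

variable {n : ℕ} (hc : ∀ m < n, ∀ w ∈ W A L m, Com V w)

include hc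

theorem memB {m : ℕ} (hm : m ≤ n) {w : G} (hw : w ∈ W A L m) {v : G} (hv : v ∈ V) :
    cj w⁻¹ v ∈ B := by
  induction m generalizing w with
  | zero => exact h.cjB (A.inv_mem hw) (h.VB hv)
  | succ m ih =>
    obtain ⟨w', hw', l, hl, a, ha, rfl⟩ := hw
    have h1 := ih (by omega) hw'
    have h2 : cj w'⁻¹ v ∈ Q := by
      apply h.QcV _ h1
      intro u hu
      have := (hc m (by omega) w' hw').inv u hu v hv
      exact this.symm
    have h3 : cj l⁻¹ (cj w'⁻¹ v) ∈ Q := h.cjQ (L.inv_mem hl) h2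
    have h4 : cj a⁻¹ (cj l⁻¹ (cj w'⁻¹ v)) ∈ B := h.cjB (A.inv_mem ha) (h.QB h3)
    have e : (w' * l * a)⁻¹ = a⁻¹ * (l⁻¹ * w'⁻¹) := by simp [mul_assoc]
    rw [e, cj_mul, cj_mul]
    exact h4

theorem memB' {m : ℕ} (hm : m ≤ n) {w : G} (hw : w ∈ W A L m) {v : G} (hv : v ∈ V) :
    cj w v ∈ B := by
  have := h.memB hc hm (W_inv hw) hv
  simpa using this

/-- in a critical pair there is an element of `V` which acts nontrivially -/
theorem crit_elt {w : G} (hw : w ∈ W A L n) (hnc : ¬ Com V w) :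
    ∃ v ∈ V, cj w v ∈ B ∧ cj w v ∉ Q := by
  simp only [Com] at hnc
  push Not at hnc
  obtain ⟨v, hv, u, hu, hne⟩ := hnc
  exact ⟨u, hu, h.memB' hc le_rfl hw hu, fun hq => hne (h.VcQ _ hq v hv).symm⟩

/-- `B = V^(w⁻¹) Q` for critical `w` -/
theorem cover [Finite G] {w : G} (hw : w ∈ W A L n) (hnc : ¬ Com V w) :
    ∀ b ∈ B, ∃ v ∈ V, ∃ q ∈ Q, b = cj w⁻¹ v * q := by
  obtain ⟨u₀, hu₀, huB, huQ⟩ := h.crit_elt hc hw hnc
  have hkey : ∀ v ∈ V, cj w⁻¹ v ∈ Q → v ∈ Z := by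
    intro v hv hq
    by_contra hvZ
    apply h.ncomm v hv hvZ _ huB huQ
    have h1 := h.VcQ _ hq u₀ hu₀
    have h2 := (cj_comm (g := w)).2 h1
    rwa [cj_cj_inv] at h2
  have hnorm : (Q.subgroupOf B).Normal := ⟨fun q hq b => by
    rw [Subgroup.mem_subgroupOf] at hq ⊢
    exact h.LnQ _ (h.BL b.2) _ hq⟩
  let g : V →* B :=
    { toFun := fun v => ⟨cj w⁻¹ v, h.memB hc le_rfl hw v.2⟩
      map_one' := by
        apply Subtype.ext
        simp [cj]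
      map_mul' := fun x y => by
        apply Subtype.ext
        exact cj_prod _ _ _ }
  let f : V →* B ⧸ Q.subgroupOf B := (QuotientGroup.mk' (Q.subgroupOf B)).comp g
  have hker : f.ker ≤ Z.subgroupOf V := by
    intro v hv
    rw [MonoidHom.mem_ker] at hv
    have h1 : g v ∈ Q.subgroupOf B := by
      rw [← QuotientGroup.eq_one_iff]
      exact hv
    rw [Subgroup.mem_subgroupOf] at h1 ⊢
    exact hkey v v.2 h1
  have h1 : (Z.subgroupOf V).index ≤ f.ker.index := by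
    apply Nat.le_of_dvd
    · exact Nat.pos_of_ne_zero Subgroup.index_ne_zero_of_finite
    · exact Subgroup.index_dvd_of_le hker
  have h2 : Nat.card (B ⧸ Q.subgroupOf B) ≤ Nat.card f.range := by
    rw [← Subgroup.index_ker]
    refine le_trans ?_ h1
    exact h.card
  have h3 : f.range = ⊤ := Subgroup.eq_top_of_le_card _ h2
  intro b hb
  have h4 : (QuotientGroup.mk' (Q.subgroupOf B) ⟨b, hb⟩) ∈ f.range := by
    rw [h3]; exact Subgroup.mem_top _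
  obtain ⟨v, hv⟩ := h4
  have h5 : (g v)⁻¹ * ⟨b, hb⟩ ∈ Q.subgroupOf B := by
    rw [← QuotientGroup.eq]
    exact hv
  rw [Subgroup.mem_subgroupOf] at h5
  refine ⟨v, v.2, _, h5, ?_⟩
  show b = cj w⁻¹ v * ((cj w⁻¹ v)⁻¹ * b)
  rw [mul_inv_cancel_left]

end

/-- existence of a critical word -/
theorem exists_crit : ∃ n, ∃ w ∈ W A L n, ¬ Com V w := by
  by_contra hall
  push Not at hall
  -- the normal closure
  let R : Subgroup G := Subgroup.closure {x | ∃ n, ∃ w ∈ W A L n, ∃ v ∈ V, x = cj w v}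
  have hRB : R ≤ B := by
    rw [Subgroup.closure_le]
    rintro x ⟨n, w, hw, v, hv, rfl⟩
    exact h.memB' (n := n) (fun m _ w hw => hall m w hw) le_rfl hw hv
  have h1 : R = ⊥ := by
    apply h.core R hRB
    · intro l hl
      apply closure_conj
      rintro x ⟨n, w, hw, v, hv, rfl⟩
      rw [← cj_mul]
      refine Subgroup.subset_closure ⟨n + 1, l * w, ?_, v, hv, rfl⟩
      have := W_cons hw hl A.one_mem
      rwa [one_mul] at this
    · intro a ha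
      apply closure_conj
      rintro x ⟨n, w, hw, v, hv, rfl⟩
      rw [← cj_mul]
      exact Subgroup.subset_closure ⟨n, a * w, W_mul_left hw ha, v, hv, rfl⟩
  apply h.Vne
  rw [eq_bot_iff, ← h1]
  intro v hv
  refine Subgroup.subset_closure ⟨0, 1, A.one_mem, v, hv, ?_⟩
  rw [cj_one]

/-- Case (i): the conjugates of `V` under `A` are normalised by `L`. -/
theorem case_one [Finite G] {n : ℕ} (hc : ∀ m < n + 1, ∀ w ∈ W A L m, Com V w) {s : G} (hs : s ∈ A) (hsT : s ∉ T)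
    {w₁ l₁ a₁ : G} (hw₁ : w₁ ∈ W A L n) (hl₁ : l₁ ∈ L) (ha₁ : a₁ ∈ A) (hnc : ¬ Com V (w₁ * l₁ * a₁))
    {l : G} (hl : l ∈ L) (hlB : ∃ b ∈ B, l * b * l⁻¹ ∉ B) (hcom : Com V (s⁻¹ * l⁻¹ * w₁)) : False := by
  have hw : w₁ * l₁ * a₁ ∈ W A L (n + 1) := ⟨w₁, hw₁, l₁, hl₁, a₁, ha₁, rfl⟩
  set w := w₁ * l₁ * a₁ with hwdef
  have hw₂ : s⁻¹ * l⁻¹ * w₁ ∈ W A L (n + 1) := W_cons hw₁ (L.inv_mem hl) (A.inv_mem hs)
  obtain ⟨u₀, hu₀, huB, huQ⟩ := h.crit_elt hc hw hnc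
  have hcov := h.cover hc hw hnc
  -- the conjugates `V^(l s)` lie in `B^w`
  have hmem : ∀ x ∈ V, cj w⁻¹ (cj (l * s) x) ∈ B := by
    intro x hx
    have h1 : cj w₁⁻¹ (cj (l * s) x) ∈ B := by
      have := h.memB hc le_rfl hw₂ hx
      have e : (s⁻¹ * l⁻¹ * w₁)⁻¹ = w₁⁻¹ * (l * s) := by simp [mul_assoc]
      rwa [e, cj_mul] at this
    have h2 : cj w₁⁻¹ (cj (l * s) x) ∈ Q := by
      apply h.QcV _ h1
      intro v hv
      have h3 := hcom.inv v hv x hx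
      have e : (s⁻¹ * l⁻¹ * w₁)⁻¹ = w₁⁻¹ * (l * s) := by simp [mul_assoc]
      rw [e, cj_mul] at h3
      exact h3.symm
    have e : w⁻¹ = a₁⁻¹ * (l₁⁻¹ * w₁⁻¹) := by rw [hwdef]; simp [mul_assoc]
    rw [e, cj_mul, cj_mul]
    exact h.cjB (A.inv_mem ha₁) (h.QB (h.cjQ (L.inv_mem hl₁) h2))
  set u := cj w u₀ with hudef
  -- commutators with `u` lie in `V`
  have hucomm : ∀ x ∈ V, u * cj (l * s) x * u⁻¹ * (cj (l * s) x)⁻¹ ∈ V := by
    intro x hx
    obtain ⟨v, hv, q, hq, he⟩ := hcov _ (hmem x hx)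
    have h1 : cj (l * s) x = v * cj w q := by
      have := congrArg (cj w) he
      rwa [cj_cj_inv, cj_prod, cj_cj_inv] at this
    have h2 : cj w q * u = u * cj w q := by
      rw [hudef]
      exact cj_comm.2 (h.VcQ q hq u₀ hu₀)
    have h3 : u * cj (l * s) x * u⁻¹ * (cj (l * s) x)⁻¹ = (u * v * u⁻¹) * v⁻¹ := by
      rw [h1]
      calc u * (v * cj w q) * u⁻¹ * (v * cj w q)⁻¹
          = u * v * (cj w q * u⁻¹) * (cj w q)⁻¹ * v⁻¹ := by simp [mul_assoc]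
        _ = u * v * (u⁻¹ * cj w q) * (cj w q)⁻¹ * v⁻¹ := by
            rw [((show Commute (cj w q) u from h2).inv_right).eq]
        _ = (u * v * u⁻¹) * v⁻¹ := by simp [mul_assoc]
    rw [h3]
    exact V.mul_mem (h.LnV u (h.BL huB) v hv) (V.inv_mem hv)
  -- the group generated by the conjugates
  let R₀ : Subgroup G := Subgroup.closure {x | ∃ a ∈ A, ∃ v ∈ V, x = cj a v}
  let R₁ : Subgroup G := Subgroup.closure {x | ∃ a ∈ A, ∃ v ∈ V, x = cj (l * a) v}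
  have hVR₁ : V ≤ R₁ := by
    intro v hv
    refine Subgroup.subset_closure ⟨1, A.one_mem, cj l⁻¹ v, h.cjV (L.inv_mem hl) hv, ?_⟩
    rw [mul_one, cj_cj_inv]
  have hLR₁ : L ≤ Subgroup.normalizer (R₁ : Set G) := by
    apply h.gen u huB huQ l hl hlB
    · apply Subgroup.mem_normalizer_fintype
      apply closure_conj
      rintro x ⟨a, ha, v, hv, rfl⟩
      by_cases haT : a ∈ T
      · apply hVR₁
        apply h.cjV (h.BL huB)
        rw [cj_mul]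
        exact h.cjV hl (h.cjVT haT hv)
      · have h1 : s⁻¹ * a ∈ T := h.idx s hs a ha hsT haT
        have h2 : cj (l * a) v = cj (l * s) (cj (s⁻¹ * a) v) := by
          rw [← cj_mul]; simp [mul_assoc]
        have h3 := hucomm _ (h.cjVT h1 hv)
        rw [← h2] at h3
        have h4 : cj u (cj (l * a) v) = (u * cj (l * a) v * u⁻¹ * (cj (l * a) v)⁻¹) * cj (l * a) v := by
          simp [cj, mul_assoc]
        rw [h4]
        exact R₁.mul_mem (hVR₁ h3) (Subgroup.subset_closure ⟨a, ha, v, hv, rfl⟩)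
    · intro b hb
      apply Subgroup.mem_normalizer_fintype
      apply closure_conj
      rintro x ⟨a, ha, v, hv, rfl⟩
      refine Subgroup.subset_closure ⟨b * a, A.mul_mem (h.BA hb) ha, v, hv, ?_⟩
      simp [cj, mul_assoc]
  have hR₀₁ : ∀ x, x ∈ R₀ → cj l x ∈ R₁ := by
    apply closure_conj
    rintro x ⟨a, ha, v, hv, rfl⟩
    refine Subgroup.subset_closure ⟨a, ha, v, hv, ?_⟩
    rw [cj_mul]
  have hR₁₀ : ∀ x, x ∈ R₁ → cj l⁻¹ x ∈ R₀ := by
    apply closure_conj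
    rintro x ⟨a, ha, v, hv, rfl⟩
    refine Subgroup.subset_closure ⟨a, ha, v, hv, ?_⟩
    rw [cj_mul, cj_inv_cj]
  have hLn : ∀ k ∈ L, ∀ x ∈ R₁, cj k x ∈ R₁ := by
    intro k hk x hx
    exact (Subgroup.mem_normalizer_iff.mp (hLR₁ hk) x).mp hx
  have hbot : R₀ = ⊥ := by
    apply h.core
    · rw [Subgroup.closure_le]
      rintro x ⟨a, ha, v, hv, rfl⟩
      exact h.cjB ha (h.VB hv)
    · intro k hk r hr
      have h1 := hR₀₁ r hr
      have h2 := hLn (l * k * l⁻¹) (L.mul_mem (L.mul_mem hl hk) (L.inv_mem hl)) _ h1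
      have h3 := hR₁₀ _ h2
      have e : cj l⁻¹ (cj (l * k * l⁻¹) (cj l r)) = k * r * k⁻¹ := by
        simp [cj, mul_assoc]
      rwa [e] at h3
    · intro a ha
      apply closure_conj
      rintro x ⟨a', ha', v, hv, rfl⟩
      rw [← cj_mul]
      exact Subgroup.subset_closure ⟨a * a', A.mul_mem ha ha', v, hv, rfl⟩
  apply h.Vne
  rw [eq_bot_iff, ← hbot]
  intro v hv
  refine Subgroup.subset_closure ⟨1, A.one_mem, v, hv, ?_⟩
  rw [cj_one]

/-- Case (ii): `L` centralises the conjugate of `[V, B]` under `s`. -/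
theorem case_two [Finite G] {n : ℕ} (hc : ∀ m < n + 1, ∀ w ∈ W A L m, Com V w) {s : G} (hs : s ∈ A)
    {w₁ l₁ a₁ : G} (hw₁ : w₁ ∈ W A L n) (hl₁ : l₁ ∈ L) (ha₁ : a₁ ∈ A) (hnc : ¬ Com V (w₁ * l₁ * a₁))
    {l : G} (hl : l ∈ L) (hlB : ∃ b ∈ B, l * b * l⁻¹ ∉ B) (hnc₂ : ¬ Com V (s⁻¹ * l⁻¹ * w₁)) :
    ∀ k ∈ L, ∀ v ∈ V, ∀ b ∈ B, Commute k (cj s (v * b * v⁻¹ * b⁻¹)) := by
  have hw : w₁ * l₁ * a₁ ∈ W A L (n + 1) := ⟨w₁, hw₁, l₁, hl₁, a₁, ha₁, rfl⟩
  have hw₂ : s⁻¹ * l⁻¹ * w₁ ∈ W A L (n + 1) := W_cons hw₁ (L.inv_mem hl) (A.inv_mem hs)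
  set w₂ := s⁻¹ * l⁻¹ * w₁ with hw₂def
  obtain ⟨u₀, hu₀, huB, huQ⟩ := h.crit_elt hc hw hnc
  have hcov := h.cover hc (W_inv hw₂) (fun hcm => hnc₂ hcm.of_inv)
  rw [inv_inv] at hcov
  intro k hk v hv b hb
  set c := v * b * v⁻¹ * b⁻¹ with hcdef
  have hcZ : c ∈ Z := h.comm v hv b hb
  -- `c` lies in the conjugate of `V`
  have hcV : cj w₂⁻¹ c ∈ V := by
    obtain ⟨v', hv', q, hq, he⟩ := hcov b hb
    have h1 : q * v⁻¹ = v⁻¹ * q := h.VcQ q hq _ (V.inv_mem hv)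
    have h2 : c = v * cj w₂ v' * v⁻¹ * (cj w₂ v')⁻¹ := by
      rw [hcdef, he]
      calc v * (cj w₂ v' * q) * v⁻¹ * (cj w₂ v' * q)⁻¹
          = v * cj w₂ v' * (q * v⁻¹) * q⁻¹ * (cj w₂ v')⁻¹ := by simp [mul_assoc]
        _ = v * cj w₂ v' * (v⁻¹ * q) * q⁻¹ * (cj w₂ v')⁻¹ := by rw [h1]
        _ = _ := by simp [mul_assoc]
    have h3 : cj w₂⁻¹ c = (cj w₂⁻¹ v * v' * (cj w₂⁻¹ v)⁻¹) * v'⁻¹ := by
      rw [h2, cj_prod, cj_prod, cj_prod, cj_inv_cj, cj_inv, cj_inv, cj_inv_cj]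
    rw [h3]
    exact V.mul_mem (h.LnV _ (h.BL (h.memB hc le_rfl hw₂ hv)) _ hv') (V.inv_mem hv')
  have hls : cj (l * s) c = cj w₁ (cj w₂⁻¹ c) := by
    rw [← cj_mul, hw₂def]
    congr 1
    simp [mul_assoc]
  have hcent : L ≤ Subgroup.centralizer {cj (l * s) c} := by
    apply h.gen _ huB huQ l hl hlB
    · rw [Subgroup.mem_centralizer_singleton_iff]
      rw [hls, cj_mul, cj_mul]
      apply cj_comm.2
      have h1 := h.cjV (L.inv_mem hl₁) hcV
      have h2 := hc 0 (Nat.succ_pos n) a₁ ha₁ _ h1 u₀ hu₀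
      have h3 := (cj_comm (g := l₁)).2 h2
      rw [cj_cj_inv] at h3
      exact h3.symm
    · intro b' hb'
      rw [Subgroup.mem_centralizer_singleton_iff]
      have h1 : cj s⁻¹ b' * c = c * cj s⁻¹ b' := h.BcZ _ (h.cjB (A.inv_mem hs) hb') _ hcZ
      have h2 := (cj_comm (g := l * s)).2 h1
      have e : cj (l * s) (cj s⁻¹ b') = l * b' * l⁻¹ := by simp [cj, mul_assoc]
      rw [e] at h2
      exact h2
  have hall : ∀ x ∈ L, Commute x (cj (l * s) c) := by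
    intro x hx
    have := hcent hx
    rw [Subgroup.mem_centralizer_singleton_iff] at this
    exact this
  have hsc : cj s c = cj (l * s) c := by
    have h1 : cj l⁻¹ (cj (l * s) c) = cj (l * s) c := cj_eq_self.2 (hall l⁻¹ (L.inv_mem hl)).eq
    rw [cj_mul, cj_inv_cj] at h1
    rw [cj_mul]; exact h1
  rw [hsc]
  exact hall k hk

/-- the torus argument -/
theorem torus [Finite G] (hG : OddCyc G) {s : G} {r : ℕ} (hr : r.Prime) (hr2 : r ≠ 2) {k : G} (hkL : k ∈ L)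
    (hkr : orderOf k = r) (hkB : ∀ b ∈ B, k * b * k⁻¹ ∈ B)
    (hk : ∃ v ∈ V, ∃ b ∈ B, ¬ Commute k (v * b * v⁻¹ * b⁻¹))
    (hcent : ∀ v ∈ V, ∀ b ∈ B, Commute k (cj s (v * b * v⁻¹ * b⁻¹))) : False := by
  let S : Subgroup G := Subgroup.closure {x | ∃ v ∈ V, ∃ b ∈ B, x = cj s (v * b * v⁻¹ * b⁻¹)}
  have hk1 : k ∈ Subgroup.centralizer (S : Set G) := by
    rw [Subgroup.mem_centralizer_iff]
    have h1 : S ≤ Subgroup.centralizer {k} := by
      rw [Subgroup.closure_le]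
      rintro x ⟨v, hv, b, hb, rfl⟩
      rw [SetLike.mem_coe, Subgroup.mem_centralizer_singleton_iff]
      exact (hcent v hv b hb).eq.symm
    intro x hx
    have := h1 hx
    rwa [Subgroup.mem_centralizer_singleton_iff] at this
  have hk2 : s * k * s⁻¹ ∈ Subgroup.normalizer (S : Set G) := by
    apply Subgroup.mem_normalizer_fintype
    apply closure_conj
    rintro x ⟨v, hv, b, hb, rfl⟩
    refine Subgroup.subset_closure ⟨k * v * k⁻¹, h.LnV k hkL v hv, k * b * k⁻¹, hkB b hb, ?_⟩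
    simp [cj, mul_assoc]
  have hcn : Subgroup.centralizer (S : Set G) ≤ Subgroup.normalizer (S : Set G) :=
    Subgroup.centralizer_le_normalizer _
  let N : Subgroup (Subgroup.normalizer (S : Set G)) := (Subgroup.centralizer (S : Set G)).subgroupOf _
  have hN : N.Normal := ⟨fun c hc g => by
    rw [Subgroup.mem_subgroupOf, Subgroup.mem_centralizer_iff] at hc ⊢
    intro x hx
    have h1 : (g : G)⁻¹ * x * g ∈ S := by
      have := (Subgroup.mem_normalizer_iff.mp ((Subgroup.normalizer (S : Set G)).inv_mem g.2) x).mp hx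
      simpa using this
    have h2 := hc _ h1
    have h3 := (cj_comm (g := (g : G))).2 h2
    have e : cj (g : G) ((g : G)⁻¹ * x * g) = x := by simp [cj, mul_assoc]
    rw [e] at h3
    simpa [cj, mul_assoc] using h3⟩
  have hrN : r ∣ Nat.card N := by
    have h1 : (⟨k, hcn hk1⟩ : Subgroup.normalizer (S : Set G)) ∈ N := by
      rw [Subgroup.mem_subgroupOf]; exact hk1
    have h2 : orderOf (⟨⟨k, hcn hk1⟩, h1⟩ : N) = r := by
      rw [Subgroup.orderOf_mk, Subgroup.orderOf_mk, hkr]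
    rw [← h2]
    exact orderOf_dvd_natCard _
  have hord : orderOf (⟨s * k * s⁻¹, hk2⟩ : Subgroup.normalizer (S : Set G)) = r := by
    rw [Subgroup.orderOf_mk, ← hkr, ← MulAut.conj_apply]
    exact orderOf_injective (MulAut.conj s).toMonoidHom (MulAut.conj s).injective k
  have hmem := mem_of_orderOf (oddCyc_subgroup hG _) hr hr2 hN hrN hord
  rw [Subgroup.mem_subgroupOf, Subgroup.mem_centralizer_iff] at hmem
  obtain ⟨v, hv, b, hb, hne⟩ := hk
  apply hne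
  have h1 := hmem _ (Subgroup.subset_closure ⟨v, hv, b, hb, rfl⟩)
  have h2 := (cj_comm (g := s) (x := v * b * v⁻¹ * b⁻¹) (y := k)).1 h1
  exact h2.symm

/-- **Pushing up for `SL₂(q)`-blocks.** -/
theorem exists_noncommuting [Finite G] (hG : OddCyc G) {s : G} (hs : s ∈ A) (hsT : s ∉ T) {r : ℕ}
    (hr : r.Prime) (hr2 : r ≠ 2) {k : G} (hkL : k ∈ L) (hkr : orderOf k = r)
    (hkB : ∀ b ∈ B, k * b * k⁻¹ ∈ B) (hk : ∃ v ∈ V, ∃ b ∈ B, ¬ Commute k (v * b * v⁻¹ * b⁻¹)) :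
    ∃ v ∈ V, ∃ u ∈ V, v * (s * u * s⁻¹) ≠ (s * u * s⁻¹) * v := by
  classical
  by_contra hcon
  push Not at hcon
  have hcomA : ∀ a ∈ A, Com V a := h.com_A hs hsT hcon
  have hex := h.exists_crit
  obtain ⟨w, hw, hnc⟩ := Nat.find_spec hex
  have hmin : ∀ m < Nat.find hex, ∀ w ∈ W A L m, Com V w := by
    intro m hm w hw
    by_contra hcw
    exact Nat.find_min hex hm ⟨w, hw, hcw⟩
  rcases hn : Nat.find hex with _ | n
  · rw [hn] at hw
    exact hnc (hcomA w hw)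
  · rw [hn] at hw hmin
    obtain ⟨w₁, hw₁, l₁, hl₁, a₁, ha₁, rfl⟩ := hw
    obtain ⟨l, hl, hlB⟩ := h.moves
    by_cases hcom : Com V (s⁻¹ * l⁻¹ * w₁)
    · exact h.case_one hmin hs hsT hw₁ hl₁ ha₁ hnc hl hlB hcom
    · exact h.torus hG hr hr2 hkL hkr hkB hk
        (fun v hv b hb => h.case_two hmin hs hw₁ hl₁ ha₁ hnc hl hlB hcom k hkL v hv b hb)

end Data

end Cfsg.Agent.OddCyclic.PushQ
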