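import Cfsg.Agent.OddCyclic.COneMid
import Cfsg.Agent.OddCyclic.COneEndF
import Cfsg.Agent.OddCyclic.PushQ
import Cfsg.Agent.OddCyclic.COneBase

/-!
# S0342 (D): pushing up in the configuration `LConf`; the configuration does not occur
-/

set_option autoImplicit false

namespace Cfsg.Agent.OddCyclic.COneNc

open Subgroup Cfsg Cfsg.Agent.ZN
open Cfsg.Agent.MinSimple
open Cfsg.Agent.MinSimple.CaseOneCfg (Cfg)
open Cfsg.Agent.OddCyclic.T1Defs Cfsg.Agent.OddCyclic.COneDefs Cfsg.Agent.OddCyclic.COneBlk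
open Cfsg.Agent.OddCyclic.COneMid
open Cfsg.Agent.OddCyclic.T1Local (SL)

universe u

variable {G : Type u} [Group G] {M T H L B : Subgroup G} {s : G} {q : ℕ}

/-- a subgroup containing an element of `B ∖ Q` and `B ^ l ≠ B` is everything -/
theorem gen [Finite G] (h : LBlk B L q) {u : G} (hu : u ∈ B) (huQ : u ∉ o2 L) {l : G} (hl : l ∈ L)
    (hlB : ∃ b ∈ B, l * b * l⁻¹ ∉ B) {K : Subgroup G} (huK : u ∈ K) (hK : ∀ b ∈ B, l * b * l⁻¹ ∈ K) : L ≤ K := by
  have _ : Fact (Nat.Prime 2) := ⟨Nat.prime_two⟩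
  -- `K' = (K ∩ L) ^ l`
  let K' : Subgroup G := (K ⊓ L).comap (MulAut.conj l).toMonoidHom
  have hmem : ∀ x, x ∈ K' ↔ l * x * l⁻¹ ∈ K ∧ l * x * l⁻¹ ∈ L := fun x => Iff.rfl
  have h1 : B ≤ K' := fun b hb => (hmem b).2 ⟨hK b hb, L.mul_mem (L.mul_mem hl (h.le hb)) (L.inv_mem hl)⟩
  have h2 : K' ≤ L := by
    intro x hx
    have h3 := ((hmem x).1 hx).2
    have h4 : x = l⁻¹ * (l * x * l⁻¹) * l := by group
    rw [h4]
    exact L.mul_mem (L.mul_mem (L.inv_mem hl) h3) hl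
  rcases normalizes_or h h1 h2 with h3 | h3
  · exfalso
    -- `u ^ l` normalises `B`, so lies in `B`, and `u ∈ B ∩ B ^ l`
    obtain ⟨u', hu'⟩ : ∃ u', u' = l⁻¹ * u * l := ⟨_, rfl⟩
    have hlu : l * u' * l⁻¹ = u := by rw [hu']; group
    have h4 : u' ∈ K' := by
      rw [hmem, hlu]
      exact ⟨huK, h.le hu⟩
    have h5 := h3 u' h4
    have h6 : u' ∈ L := h2 h4
    obtain ⟨F, _, _, _, ⟨D⟩⟩ := exists_dat h
    have h7 : D.φ ⟨u', h6⟩ • D.U = D.U := (D.smul_iff _).2 h5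
    have hlu' : D.φ ⟨l, hl⟩ * D.φ ⟨u', h6⟩ * (D.φ ⟨l, hl⟩)⁻¹ = D.φ ⟨u, h.le hu⟩ := by
      rw [← map_inv, ← map_mul, ← map_mul]
      congr 1
      exact Subtype.ext hlu
    have hu3 : D.φ ⟨u', h6⟩ ∈ (D.U : Subgroup (SL F)) := by
      have h8 : D.φ ⟨u', h6⟩ ∈ Subgroup.normalizer ((D.U : Subgroup (SL F)) : Set (SL F)) :=
        Sylow.smul_eq_iff_mem_normalizer.1 h7
      have h9 : IsPGroup 2 (Subgroup.zpowers (D.φ ⟨u', h6⟩)) := by
        have h10 : IsPGroup 2 (Subgroup.zpowers (D.φ ⟨u, h.le hu⟩)) :=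
          D.U.isPGroup'.to_le (Subgroup.zpowers_le.2 ((D.memU _).2 hu))
        have h11 : (Subgroup.zpowers (D.φ ⟨u', h6⟩)).map (MulAut.conj (D.φ ⟨l, hl⟩)).toMonoidHom =
            Subgroup.zpowers (D.φ ⟨u, h.le hu⟩) := by
          rw [MonoidHom.map_zpowers]
          congr 1
        rw [← h11] at h10
        exact h10.of_equiv ((Subgroup.zpowers (D.φ ⟨u', h6⟩)).equivMapOfInjective
          (MulAut.conj (D.φ ⟨l, hl⟩)).toMonoidHom (MulAut.conj (D.φ ⟨l, hl⟩)).injective).symm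
      have h10 := IsPGroup.inf_normalizer_sylow h9 D.U
      have h11 : D.φ ⟨u', h6⟩ ∈ Subgroup.zpowers (D.φ ⟨u', h6⟩) ⊓ (D.U : Subgroup (SL F)) := by
        rw [← h10]
        exact ⟨Subgroup.mem_zpowers _, h8⟩
      exact h11.2
    have h8 : D.φ ⟨u, h.le hu⟩ ∈ D.φ ⟨l, hl⟩ • D.U := by
      rw [← hlu']
      exact T1Sl2.conj_mem_smul hu3
    have h9 : D.U ≠ D.φ ⟨l, hl⟩ • D.U := by
      intro h10
      obtain ⟨b, hb, hlb⟩ := hlB
      exact hlb ((D.smul_iff ⟨l, hl⟩).1 h10.symm b hb)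
    exact huQ ((D.ker _).1 (T1Sl2.sylow_ti h9 ((D.memU _).2 hu) h8))
  · intro x hx
    have h4 : l⁻¹ * x * l ∈ K' := by
      rw [h3]
      exact L.mul_mem (L.mul_mem (L.inv_mem hl) hx) hl
    have h5 := ((hmem _).1 h4).1
    have h6 : l * (l⁻¹ * x * l) * l⁻¹ = x := by group
    rwa [h6] at h5

theorem zl_ne_bot (h : LBlk B L q) : zl B L ≠ ⊥ := by
  intro h0
  have h1 := h.zl_index
  rw [h0, Subgroup.relIndex_bot_right] at h1
  have := h.four
  omega

/-- the data for pushing up -/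
theorem data [Finite G] (h : LConf M T H L s q) :
    PushQ.Data (T ⊔ zpowers s) T L (bau T) (o2 L) (zl (bau T) L) (zc (bau T)) where
  TA := le_sup_left
  idx := fun a ha b hb haT hbT => h.conf.cfg.idx ha hb haT hbT
  BT := bau_le T
  BL := h.blk.le
  QB := h.blk.o2_le
  VQ := COnePair.zl_le_o2 h.blk
  ZV := zc_le_zl _ _
  AnB := fun a ha b hb =>
    (mem_normalizer_iff.1 (normalizer_le_normalizer_bau T (h.conf.cfg.A_norm ha)) b).1 hb
  TnV := fun t ht v hv => (mem_normalizer_iff.1 (T_le_normV h ht) v).1 hv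
  LnQ := fun l hl x hx => (mem_normalizer_iff.1 (le_normalizer_o2 L hl) x).1 hx
  LnV := fun l hl v hv => zl_conj hl hv
  BcZ := fun b hb y hy => zc_comm hb hy
  VcQ := fun x hx v hv => by
    rw [← h.blk.cent_zl] at hx
    exact (mem_centralizer_iff.1 hx.2 v hv).symm
  QcV := fun b hb hc => by
    rw [← h.blk.cent_zl]
    exact ⟨hb, mem_centralizer_iff.2 fun v hv => (hc v hv).symm⟩
  comm := fun v hv b hb => by
    have h1 := inv_mem (h.blk.comm b hb v hv)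
    have h2 : (b * v * b⁻¹ * v⁻¹)⁻¹ = v * b * v⁻¹ * b⁻¹ := by group
    rwa [h2] at h1
  ncomm := fun v hv hvZ b hb hbQ hc => hvZ (h.blk.cent b hb hbQ v hv hc.symm)
  card := by rw [h.blk.o2_index, h.blk.zl_index]
  gen := fun u hu huQ l hl hlB K huK hK => gen h.blk hu huQ hl hlB huK hK
  moves := not_normal h.blk
  Vne := zl_ne_bot h.blk
  core := fun R hRB h1 h2 => by
    by_contra hne
    have h3 : L ≤ M := (le_normalizer_iff.2 h1).trans
      (h.conf.cfg.normalizer_le (h.blk.two.to_le hRB) hne (le_normalizer_iff.2 h2))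
    exact COneMid.not_le h h3

/-- `[V, B] ≰ R`, and no element of odd order `≠ 1` centralises `[V, B]` -/
theorem exists_not_commute [Finite G] (h : LBlk B L q) {k : G} (hk : k ∈ L) (ho : Odd (orderOf k)) (hk1 : k ≠ 1) :
    ∃ v ∈ zl B L, ∃ b ∈ B, ¬ Commute k (v * b * v⁻¹ * b⁻¹) := by
  by_contra hcon
  push Not at hcon
  have hR : ∀ v ∈ zl B L, ∀ b ∈ B, b * v * b⁻¹ * v⁻¹ ∈ rl B L := by
    intro v hv b hb
    have h1 := (hcon v hv b hb).inv_right.eq
    have h2 : (v * b * v⁻¹ * b⁻¹)⁻¹ = b * v * b⁻¹ * v⁻¹ := by group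
    rw [h2] at h1
    have h3 := h.comm b hb v hv
    refine fpf_odd h hk ho hk1 (zc_le_zl _ _ h3) ?_
    rw [h1]
    have h4 : b * v * b⁻¹ * v⁻¹ * k * k⁻¹ * (b * v * b⁻¹ * v⁻¹)⁻¹ = 1 := by group
    rw [h4]
    exact one_mem _
  -- the elements of `L` acting trivially on `V / R`
  let K : Subgroup G :=
    { carrier := {l | l ∈ L ∧ ∀ v ∈ zl B L, l * v * l⁻¹ * v⁻¹ ∈ rl B L}
      one_mem' := ⟨one_mem _, fun v _ => by simp⟩
      mul_mem' := by
        rintro a b ⟨ha, ha'⟩ ⟨hb, hb'⟩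
        refine ⟨L.mul_mem ha hb, fun v hv => ?_⟩
        have e : a * b * v * (a * b)⁻¹ * v⁻¹ = (a * (b * v * b⁻¹) * a⁻¹ * (b * v * b⁻¹)⁻¹) * (b * v * b⁻¹ * v⁻¹) := by
          group
        rw [e]
        exact mul_mem (ha' _ (zl_conj hb hv)) (hb' v hv)
      inv_mem' := by
        rintro a ⟨ha, ha'⟩
        refine ⟨L.inv_mem ha, fun v hv => ?_⟩
        have h1 : a⁻¹ * v * a ∈ zl B L := by
          have := zl_conj (L.inv_mem ha) hv
          rwa [inv_inv] at this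
        have h2 := inv_mem (ha' _ h1)
        have e : (a * (a⁻¹ * v * a) * a⁻¹ * (a⁻¹ * v * a)⁻¹)⁻¹ = a⁻¹ * v * a⁻¹⁻¹ * v⁻¹ := by group
        rwa [e] at h2 }
  have hKB : ∀ l ∈ L, ∀ b ∈ B, l * b * l⁻¹ ∈ K := by
    intro l hl b hb
    refine ⟨L.mul_mem (L.mul_mem hl (h.le hb)) (L.inv_mem hl), fun v hv => ?_⟩
    have h1 : l⁻¹ * v * l ∈ zl B L := by
      have := zl_conj (L.inv_mem hl) hv
      rwa [inv_inv] at this
    have h2 := hR _ h1 b hb
    have h3 := rl_comm h2 hl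
    have h4 : l * (b * (l⁻¹ * v * l) * b⁻¹ * (l⁻¹ * v * l)⁻¹) * l⁻¹ = l * b * l⁻¹ * v * (l * b * l⁻¹)⁻¹ * v⁻¹ := by
      group
    rw [← h4, h3, mul_inv_cancel_right]
    exact h2
  obtain ⟨l, hl, b, hb, hlb⟩ := not_normal h
  obtain ⟨u, hu, huQ⟩ := exists_not_mem h
  have hLK : L ≤ K := gen h hu huQ hl ⟨b, hb, hlb⟩ (by simpa using hKB 1 (one_mem _) u hu) (hKB l hl)
  have h5 : zl B L ≤ rl B L := fun v hv => fpf_odd h hk ho hk1 hv ((hLK hk).2 v hv)
  have h6 := card_quot h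
  rw [relIndex_eq_one.2 h5] at h6
  have := h.four
  nlinarith

/-- **Pushing up.** -/
theorem nc [Finite G] (hG : OddCyc G) (h : LConf M T H L s q) : Nc T L s := by
  obtain ⟨K, hKL, -, hcard, hKB, -, -⟩ := exists_torus h.blk
  have h4 := h.blk.four
  obtain ⟨n, hn, hqn⟩ := pow h.blk
  obtain ⟨r, hr, hrd⟩ := Nat.exists_prime_and_dvd (show q - 1 ≠ 1 by omega)
  have hodd : Odd (q - 1) := by
    rw [hqn]
    obtain ⟨m, rfl⟩ := Nat.exists_eq_add_of_le' (show 1 ≤ n by omega)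
    rw [pow_succ]
    have : 0 < 2 ^ m := by positivity
    exact ⟨2 ^ m - 1, by omega⟩
  have hr2 : r ≠ 2 := by
    rintro rfl
    rcases hodd with ⟨m, hm⟩
    omega
  have _ : Fact r.Prime := ⟨hr⟩
  obtain ⟨k, hk⟩ := exists_prime_orderOf_dvd_card' (G := K) r (by rw [hcard]; exact hrd)
  have hk' : orderOf (k : G) = r := by rw [Subgroup.orderOf_coe, hk]
  have hk1 : (k : G) ≠ 1 := by
    intro h0
    rw [h0, orderOf_one] at hk'
    exact hr.one_lt.ne hk'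
  have ho : Odd (orderOf (k : G)) := by rw [hk']; exact hr.odd_of_ne_two hr2
  exact (data h).exists_noncommuting hG (mem_sup_right (mem_zpowers s)) h.conf.cfg.sT hr hr2 (hKL k.2) hk'
    (hKB k k.2) (exists_not_commute h.blk (hKL k.2) ho hk1)

/-- **The configuration `LConf` does not occur.** -/
theorem false_of_lconf [Finite G] (hs : IsSimpleGroup G) (hG : OddCyc G) (hc : IsCharacteristicTwoType G)
    (hM : IsTwoLocal M) (h6 : ∃ g : G, orderOf g = 6) (h : LConf M T H L s q) : False := by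
  obtain ⟨S, V, W, Z, x, hf⟩ := exists_four hG hc hM h (nc hG h)
  exact COneEnd.Four.false_of_four hf hs h6

end Cfsg.Agent.OddCyclic.COneNc
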