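import Cfsg.Agent.OddCyclic.COneFFS
import Cfsg.Agent.OddCyclic.COneFFL
import Cfsg.Agent.OddCyclic.COneFFV
import Cfsg.Agent.OddCyclic.COneNc
import Cfsg.Agent.OddCyclic.COneFive
import Cfsg.Agent.OddCyclic.COneSeven
import Cfsg.Agent.OddCyclic.FFSec

/-!
# S0342 (D) = C1: a Sylow 2-subgroup in a unique maximal 2-local subgroup
-/

set_option autoImplicit false
set_option linter.unusedSectionVars false

namespace Cfsg.Agent.OddCyclic.COneMain

open Subgroup Cfsg Cfsg.Agent.ZN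
open Cfsg.Agent.MinSimple
open Cfsg.Agent.MinSimple.Choice97 (Loc2)
open Cfsg.Agent.MinSimple.CaseOneCfg (Cfg)
open Cfsg.Agent.OddCyclic.T1Defs Cfsg.Agent.OddCyclic.COneDefs Cfsg.Agent.OddCyclic.COneBase
open Cfsg.Agent.OddCyclic.COneFF Cfsg.Agent.OddCyclic.CompStart

universe u

variable {G : Type u} [Group G] {M T H : Subgroup G} {s : G}

theorem not_isPGroup [Finite G] (h6 : ∃ g : G, orderOf g = 6) : ¬ IsPGroup 2 G := by
  intro h
  obtain ⟨g, hg⟩ := h6
  obtain ⟨k, hk⟩ := h g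
  have h1 := orderOf_dvd_of_pow_eq_one hk
  rw [hg] at h1
  have h2 : 3 ∣ 2 ^ k := (by norm_num : (3 : ℕ) ∣ 6).trans h1
  have h3 := Nat.Prime.dvd_of_dvd_pow (by norm_num) h2
  omega

theorem ne_top [Finite G] (hs : IsSimpleGroup G) (h6 : ∃ g : G, orderOf g = 6) (hH : Loc2 H) : H ≠ ⊤ := by
  rintro rfl
  obtain ⟨R, hR, hR1, hn⟩ := hH
  have hRn : R.Normal := normalizer_eq_top_iff.1 (top_le_iff.1 hn)
  rcases hs.eq_bot_or_eq_top_of_normal R hRn with h1 | h1
  · exact hR1 h1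
  · apply not_isPGroup h6
    rw [h1] at hR
    exact hR.of_equiv Subgroup.topEquiv

theorem index_ne_two [Finite G] (hs : IsSimpleGroup G) (h6 : ∃ g : G, orderOf g = 6) (N : Subgroup G) (hN : N.Normal) :
    N.index ≠ 2 := by
  intro h2
  rcases hs.eq_bot_or_eq_top_of_normal N hN with h1 | h1
  · rw [h1, Subgroup.index_bot] at h2
    obtain ⟨g, hg⟩ := h6
    have h3 := orderOf_dvd_natCard g
    rw [hg, h2] at h3
    omega
  · rw [h1, Subgroup.index_top] at h2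
    omega

theorem pCore_eq_bot [Finite G] (hs : IsSimpleGroup G) (h6 : ∃ g : G, orderOf g = 6) : pCore 2 G = ⊥ := by
  have hf : Fact (Nat.Prime 2) := ⟨Nat.prime_two⟩
  have hn : (pCore 2 G).Normal := inferInstance
  rcases hs.eq_bot_or_eq_top_of_normal _ hn with h1 | h1
  · exact h1
  · exfalso
    exact not_isPGroup h6 ((Cfsg.Agent.Lib.Cores.pCore_eq_top_iff 2).1 h1)

/-- **The configuration does not occur.** -/
theorem false_of_conf [Finite G] (hs : IsSimpleGroup G) (hcyc : OddCyc G) (hz : SecZero G)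
    (hc : IsCharacteristicTwoType G) (hr : ¬ PRankLE 2 2 G) (h6 : ∃ g : G, orderOf g = 6) (hM : IsTwoLocal M)
    (h : Conf M T H s) : False := by
  obtain ⟨X, W, _, _, _, _, ρ, π, ι, d⟩ := exists_ad hc h
  obtain ⟨S, hS⟩ := d.exists_sylow h
  have hx := d.xm hc h hS
  have hffc : RedFFDefs.FFC X := FFSec.ffc hcyc hz (ne_top hs h6 h.loc) π d.surj
  have hidx := index_ne_two hs h6
  obtain ⟨A, hA, hAc⟩ : ∃ A, IsMaxIn T A ∧ ¬ A ≤ centralizer (zl T H : Set G) := by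
    by_contra hcon
    push Not at hcon
    exact not_jj_le_cent hc h (jj_le_of_forall fun A hA => hcon A hA)
  have hbo := d.bo hc h hA
  have hne := d.map_ne_bot (hA.1.trans h.le) hAc
  have hAS : (A.subgroupOf H).map π ≤ S := by
    rw [hS]
    exact Subgroup.map_mono (Subgroup.comap_mono hA.1)
  rcases hffc W d.sq ρ d.inj hx.core _ hbo hne with h1 | h1 | h1 | h1
  · exact hr (COneFFS.result hc hidx h (COneFFS.solvable_of hcyc hc h d (COneXA.solvable_of_s3 hx hAS h1)))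
  · obtain ⟨L, hL, F, _, _, hchar, h4, ⟨e⟩, hiL, hfpf, -, hall⟩ := COneXL.lin_case hx hffc hbo hne hAS h1
    have hlin := COneFFL.lin hc h d hS hL h4 e hiL hfpf hall
    have hd : COneLin.LinD M T H _ s F (COneFFL.psi e) := ⟨h, hlin, hcyc, hc⟩
    obtain ⟨L', q, hL'⟩ := hd.exists_lconf
    exact COneNc.false_of_lconf hs hcyc hc hM h6 hL'
  · obtain ⟨e, h2, hT, hall⟩ := COneXF.five_case hx hffc h1
    obtain ⟨φ, ev, hf⟩ := COneFFV.five hcyc hc h d hS e h2 hT hall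
    exact hr (COneFive.result hc hidx hf)
  · exact COneSeven.false_of_seven hx hbo hne hAS h1

/-- a `T`-minimal local subgroup -/
theorem exists_conf [Finite G] (h : Cfg M T s) : ∃ H, Conf M T H s := by
  obtain ⟨X, hX, hXM, hTX⟩ := h.exists_local
  obtain ⟨H, hH, hmin⟩ := Set.exists_min_image {Y : Subgroup G | Loc2 Y ∧ T ≤ Y ∧ ¬ Y ≤ M} (fun Y => Nat.card Y)
    (Set.toFinite _) ⟨X, Loc2.of_isTwoLocal hX, hTX, hXM⟩
  refine ⟨H, h, hH.2.1, hH.1, hH.2.2, fun Y hTY hYH => ?_⟩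
  by_contra hYM
  have h1 := hmin Y ⟨hH.1.mono hYH.le, hTY, hYM⟩
  exact absurd (Subgroup.eq_of_le_of_card_ge hYH.le h1) hYH.ne

/-- **C1.** -/
theorem false_of_unique [Finite G] (hs : IsSimpleGroup G) (hcyc : OddCyc G) (hz : SecZero G)
    (hc : IsCharacteristicTwoType G) (hr : ¬ PRankLE 2 2 G) (h6 : ∃ g : G, orderOf g = 6)
    (hse : ∀ K : Subgroup G, ¬ IsStronglyEmbedded K) (S : Sylow 2 G) (hM : IsTwoLocal M)
    (hSM : (S : Subgroup G) ≤ M) (hall : ∀ X : Subgroup G, IsTwoLocal X → (S : Subgroup G) ≤ X → X ≤ M) : False := by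
  obtain ⟨T, s, h⟩ := CaseOneCfg.exists_cfg hc (pCore_eq_bot hs h6) hse S hM hSM hall
  obtain ⟨H, hH⟩ := exists_conf h
  exact false_of_conf hs hcyc hz hc hr h6 hM hH

end Cfsg.Agent.OddCyclic.COneMain
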