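import Cfsg.Agent.OddCyclic.COneX
import Cfsg.Agent.Schreier.Tools

/-!
# S0342 (D): `X = H / C_H(W)`: general facts and the case `S₃`
-/

set_option autoImplicit false
set_option linter.unusedSectionVars false

namespace Cfsg.Agent.OddCyclic.COneXA

open Subgroup
open Cfsg.Agent.OddCyclic.T1Module Cfsg.Agent.OddCyclic.FFBasic Cfsg.Agent.OddCyclic.FFRed
open Cfsg.Agent.OddCyclic.RedFFDefs Cfsg.Agent.OddCyclic.COneX

variable {X : Type*} [Group X] {V : Type*} [CommGroup V] {ρ : X →* MulAut V} {T : Sylow 2 X} {Mb : Subgroup X}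

def Inv (ρ : X →* MulAut V) (C : Subgroup V) : Prop := ∀ x, ∀ c ∈ C, ρ x c ∈ C

theorem conj_apply (x b : X) (c : V) : ρ b (ρ x c) = ρ x (ρ (x⁻¹ * b * x) c) := by
  rw [← MulAut.mul_apply, ← MulAut.mul_apply, ← map_mul, ← map_mul]
  congr 2
  group

theorem inv_CS {L : Subgroup X} (hL : L.Normal) : Inv ρ (CS ρ L) := by
  intro x c hc b hb
  have h1 : x⁻¹ * b * x ∈ L := by
    have := hL.conj_mem b hb x⁻¹
    rwa [inv_inv] at this
  rw [conj_apply, hc _ h1]

theorem inv_fx {y : X} (hy : (zpowers y).Normal) : Inv ρ (fx ρ y) := by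
  intro x c hc
  have h1 : x⁻¹ * y * x ∈ zpowers y := by
    have := hy.conj_mem y (mem_zpowers y) x⁻¹
    rwa [inv_inv] at this
  have h2 : ρ (x⁻¹ * y * x) c = c := by
    obtain ⟨n, hn⟩ := mem_zpowers_iff.1 h1
    rw [← hn]
    obtain ⟨m, rfl | rfl⟩ := n.eq_nat_or_neg
    · rw [zpow_natCast]; exact fx_pow ρ hc m
    · rw [zpow_neg, zpow_natCast]; exact fx_inv ρ (fx_pow ρ hc m)
  change ρ y (ρ x c) = ρ x c
  rw [conj_apply, h2]

/-- the elements acting trivially on `V / C` -/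
def KQ (ρ : X →* MulAut V) (C : Subgroup V) (hC : Inv ρ C) : Subgroup X where
  carrier := {x | ∀ v, ρ x v * v⁻¹ ∈ C}
  one_mem' := fun v => by
    rw [map_one]
    change v * v⁻¹ ∈ C
    rw [mul_inv_cancel]; exact one_mem _
  mul_mem' := by
    intro x y hx hy v
    rw [map_mul, MulAut.mul_apply]
    have e : ρ x (ρ y v) * v⁻¹ = (ρ x (ρ y v) * (ρ y v)⁻¹) * (ρ y v * v⁻¹) := by group
    rw [e]
    exact mul_mem (hx _) (hy _)
  inv_mem' := by
    intro x hx v
    have h1 := hx (ρ x⁻¹ v)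
    have h2 : ρ x (ρ x⁻¹ v) = v := by
      rw [← MulAut.mul_apply, ← map_mul, mul_inv_cancel, map_one]; rfl
    rw [h2] at h1
    have h3 := inv_mem h1
    have e : (v * (ρ x⁻¹ v)⁻¹)⁻¹ = ρ x⁻¹ v * v⁻¹ := by group
    rwa [e] at h3

theorem mem_KQ {C : Subgroup V} (hC : Inv ρ C) {x : X} : x ∈ KQ ρ C hC ↔ ∀ v, ρ x v * v⁻¹ ∈ C := Iff.rfl

theorem KQ_normal {C : Subgroup V} (hC : Inv ρ C) : (KQ ρ C hC).Normal := by
  refine ⟨fun x hx g v => ?_⟩
  have h1 := hC g _ (hx (ρ g⁻¹ v))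
  have h2 : ρ g (ρ g⁻¹ v) = v := by
    rw [← MulAut.mul_apply, ← map_mul, mul_inv_cancel, map_one]; rfl
  rw [map_mul (ρ g), map_inv (ρ g), h2] at h1
  rwa [map_mul ρ, map_mul ρ, MulAut.mul_apply, MulAut.mul_apply]

/-- the elements acting trivially on `C` -/
def KF (ρ : X →* MulAut V) (C : Subgroup V) : Subgroup X where
  carrier := {x | ∀ c ∈ C, ρ x c = c}
  one_mem' := fun c _ => by rw [map_one]; rfl
  mul_mem' := by
    intro x y hx hy c hc
    rw [map_mul, MulAut.mul_apply, hy c hc, hx c hc]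
  inv_mem' := by
    intro x hx c hc
    have h1 := hx c hc
    have h2 : ρ x⁻¹ (ρ x c) = c := by
      rw [← MulAut.mul_apply, ← map_mul, inv_mul_cancel, map_one]; rfl
    rwa [h1] at h2

theorem mem_KF {C : Subgroup V} {x : X} : x ∈ KF ρ C ↔ ∀ c ∈ C, ρ x c = c := Iff.rfl

theorem KF_normal {C : Subgroup V} (hC : Inv ρ C) : (KF ρ C).Normal := by
  refine ⟨fun x hx g c hc => ?_⟩
  rw [mul_assoc, map_mul, MulAut.mul_apply, map_mul, MulAut.mul_apply, hx _ (hC g⁻¹ c hc)]
  rw [← MulAut.mul_apply, ← map_mul, mul_inv_cancel, map_one]; rfl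

/-- `C_X(C) ∩ C_X(V/C) = 1` -/
theorem KQ_inf_KF (h : XM ρ T Mb) {C : Subgroup V} (hC : Inv ρ C) : KQ ρ C hC ⊓ KF ρ C = ⊥ := by
  have := KQ_normal hC
  have := KF_normal (ρ := ρ) hC
  refine h.core _ inferInstance ?_
  rintro ⟨x, hx1, hx2⟩
  refine ⟨1, ?_⟩
  apply Subtype.ext
  change x ^ 2 ^ 1 = 1
  rw [pow_one]
  apply h.inj
  rw [map_one]
  ext v
  have h1 := hx1 v
  have h2 := hx2 _ h1
  rw [pow_two, map_mul, MulAut.mul_apply]
  rw [map_mul, map_inv] at h2
  -- `ρ x (ρ x v) * (ρ x v)⁻¹ = ρ x v * v⁻¹`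
  have h3 : ρ x (ρ x v) = (ρ x v * v⁻¹) * ρ x v := by rw [← h2]; group
  rw [h3]
  change ρ x v * v⁻¹ * ρ x v = v
  have h4 := h.sq (ρ x v * v⁻¹)
  calc ρ x v * v⁻¹ * ρ x v = (ρ x v * v⁻¹) * (ρ x v * v⁻¹) * v := by group
    _ = v := by rw [h4, one_mul]

/-- the action on `V / C` -/
theorem exists_hom {C : Subgroup V} (hC : Inv ρ C) :
    ∃ f : X →* Equiv.Perm (V ⧸ C), ∀ x, f x = 1 → x ∈ KQ ρ C hC := by
  let g : X → Equiv.Perm (V ⧸ C) := fun x =>
    { toFun := Quotient.map' (fun v => ρ x v) (by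
        intro a b hab
        rw [QuotientGroup.leftRel_apply] at hab ⊢
        rw [← map_inv, ← map_mul]
        exact hC x _ hab)
      invFun := Quotient.map' (fun v => ρ x⁻¹ v) (by
        intro a b hab
        rw [QuotientGroup.leftRel_apply] at hab ⊢
        rw [← map_inv, ← map_mul]
        exact hC x⁻¹ _ hab)
      left_inv := by
        intro w
        induction w using QuotientGroup.induction_on with | _ v => ?_
        change (QuotientGroup.mk (ρ x⁻¹ (ρ x v)) : V ⧸ C) = QuotientGroup.mk v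
        rw [← MulAut.mul_apply, ← map_mul, inv_mul_cancel, map_one]; rfl
      right_inv := by
        intro w
        induction w using QuotientGroup.induction_on with | _ v => ?_
        change (QuotientGroup.mk (ρ x (ρ x⁻¹ v)) : V ⧸ C) = QuotientGroup.mk v
        rw [← MulAut.mul_apply, ← map_mul, mul_inv_cancel, map_one]; rfl }
  have hg : ∀ x v, g x (QuotientGroup.mk v) = QuotientGroup.mk (ρ x v) := fun x v => rfl
  refine ⟨{ toFun := g, map_one' := ?_, map_mul' := ?_ }, ?_⟩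
  · ext w
    induction w using QuotientGroup.induction_on with | _ v => ?_
    rw [hg, map_one]; rfl
  · intro a b
    ext w
    induction w using QuotientGroup.induction_on with | _ v => ?_
    rw [hg, Equiv.Perm.mul_apply, hg, hg, map_mul, MulAut.mul_apply]
  · intro x hx v
    have h1 : g x (QuotientGroup.mk v) = QuotientGroup.mk v := by
      change g x = 1 at hx
      rw [hx]; rfl
    rw [hg, QuotientGroup.eq] at h1
    have h2 := inv_mem h1
    have e : ((ρ x v)⁻¹ * v)⁻¹ = ρ x v * v⁻¹ := by rw [mul_inv_rev, inv_inv, mul_comm]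
    rwa [e] at h2

/-- `X` is solvable if a normal solvable subgroup covers `X / T` -/
theorem solvable_of_sup [Finite X] {D : Subgroup X} [D.Normal] (hD : Group.IsSolvable D)
    (hs : D ⊔ (T : Subgroup X) = ⊤) : Group.IsSolvable X := by
  have hf : Fact (Nat.Prime 2) := ⟨Nat.prime_two⟩
  rw [Group.isSolvable_iff_subgroup_quotient D]
  refine ⟨hD, ?_⟩
  let f : (T : Subgroup X) →* X ⧸ D := (QuotientGroup.mk' D).comp (T : Subgroup X).subtype
  have hf : Function.Surjective f := by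
    intro w
    obtain ⟨x, rfl⟩ := QuotientGroup.mk'_surjective D w
    have h1 : x ∈ D ⊔ (T : Subgroup X) := by rw [hs]; exact mem_top x
    rw [mem_sup_of_normal_left] at h1
    obtain ⟨d, hd, t, ht, rfl⟩ := h1
    refine ⟨⟨t, ht⟩, ?_⟩
    change QuotientGroup.mk' D t = QuotientGroup.mk' D (d * t)
    rw [map_mul]
    have : QuotientGroup.mk' D d = 1 := (QuotientGroup.eq_one_iff d).2 hd
    rw [this, one_mul]
  have hT : Group.IsSolvable (T : Subgroup X) := by
    have : Group.IsNilpotent (T : Subgroup X) := T.isPGroup'.isNilpotent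
    infer_instance
  exact Group.isSolvable_of_surjective hf

theorem eq_or_of_card_two {A : Subgroup X} (hA : Nat.card A = 2) {a b : X} (ha : a ∈ A) (ha1 : a ≠ 1) (hb : b ∈ A) :
    b = 1 ∨ b = a := by
  by_cases hb1 : b = 1
  · exact Or.inl hb1
  · right
    obtain ⟨c, -, hc⟩ := (Nat.card_eq_two_iff' (1 : A)).1 hA
    have h1 := hc ⟨a, ha⟩ (fun h => ha1 (congrArg Subtype.val h))
    have h2 := hc ⟨b, hb⟩ (fun h => hb1 (congrArg Subtype.val h))
    exact congrArg Subtype.val (h2.trans h1.symm)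

/-- **the case `S₃`** -/
theorem solvable_of_s3 [Finite X] [Finite V] (h : XM ρ T Mb) {A : Subgroup X} (hAT : A ≤ T) (hA : OutS3 ρ A) :
    Group.IsSolvable X := by
  obtain ⟨y, hy3, hyn, hA2, hinv, hCA, hfy⟩ := hA
  have hodd : Odd (orderOf y) := by rw [hy3]; decide
  have hC : Inv ρ (fx ρ y) := inv_fx hyn
  have hn1 := KQ_normal hC
  have hn2 := KF_normal (ρ := ρ) hC
  have hA1 : A ≠ ⊥ := by
    rintro rfl
    rw [Subgroup.card_bot] at hA2
    omega
  -- `A ≤ C_X(C_V(y))`
  have hAF : A ≤ KF ρ (fx ρ y) := by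
    intro a ha
    by_cases ha1 : a = 1
    · rw [ha1]; exact one_mem _
    -- `fx a = CS A`
    have hfa : fx ρ a = CS ρ A := by
      apply le_antisymm
      · intro v hv b hb
        have h1 : b = 1 ∨ b = a := eq_or_of_card_two hA2 ha ha1 hb
        rcases h1 with rfl | rfl
        · rw [map_one]; rfl
        · exact hv
      · exact fun v hv => hv a ha
    by_contra hcon
    rw [mem_KF] at hcon
    push Not at hcon
    obtain ⟨r, hr, har⟩ := hcon
    have hr' : r ∉ fx ρ a := har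
    -- `a` acts trivially on `V / C_V(y)`
    have haQ : a ∈ KQ ρ (fx ρ y) hC := by
      intro v
      have h1 : v ∈ fx ρ a ∨ v * r ∈ fx ρ a := by
        by_cases hv : v ∈ fx ρ a
        · exact Or.inl hv
        · right
          have h2 : (fx ρ a).index = 2 := by rw [hfa]; exact hCA
          exact ((Subgroup.mul_mem_iff_of_index_two h2).2 (by simp [hv, hr']))
      rcases h1 with h1 | h1
      · have : ρ a v = v := h1
        rw [this, mul_inv_cancel]; exact one_mem _
      · have h2 : ρ a (v * r) = v * r := h1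
        rw [map_mul] at h2
        have h3 : ρ a v * v⁻¹ = r * (ρ a r)⁻¹ := by
          calc ρ a v * v⁻¹ = (ρ a v * ρ a r) * (ρ a r)⁻¹ * v⁻¹ := by group
            _ = v * r * (ρ a r)⁻¹ * v⁻¹ := by rw [h2]
            _ = v * (r * (ρ a r)⁻¹) * v⁻¹ := by group
            _ = r * (ρ a r)⁻¹ := by rw [mul_comm v, mul_inv_cancel_right]
        rw [h3]
        exact mul_mem hr (inv_mem (hC a r hr))
    have hyQ : y * y ∈ KQ ρ (fx ρ y) hC := by
      have h1 := mul_mem (hn1.conj_mem a haQ y) (inv_mem haQ)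
      have h2 := hinv a ha ha1
      have h3 : y * a * y⁻¹ * a⁻¹ = y * (a * y⁻¹ * a⁻¹) := by group
      have h4 : a * y⁻¹ * a⁻¹ = y := by
        calc a * y⁻¹ * a⁻¹ = (a * y * a⁻¹)⁻¹ := by group
          _ = y := by rw [h2, inv_inv]
      rwa [h3, h4] at h1
    have htop : fx ρ y = ⊤ := by
      rw [eq_top_iff]
      intro v _
      apply fx_of_sq ρ hodd
      have h1 := hyQ v
      have h2 : Odd (orderOf (y * y)) := by
        rw [← pow_two]
        have h3 := orderOf_pow_dvd (x := y) 2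
        exact Odd.of_dvd_nat hodd h3
      have h3 : ρ (y * y) (ρ (y * y) v * v⁻¹) = ρ (y * y) v * v⁻¹ := by
        exact fx_mul ρ h1 h1
      have h4 := eq_one_of_fix h.sq h2 ⟨v, rfl⟩ h3
      change ρ (y * y) v = v
      rw [cm_apply, mul_inv_eq_one] at h4
      exact h4
    rw [htop, Subgroup.index_top] at hfy
    omega
  -- `D = C_X(C_V(y))` acts faithfully on `V / C_V(y)`
  have hsup := h.sup_eq hn2 (fun h0 => hA1 (le_bot_iff.1 (h0 ▸ le_inf hAF hAT)))
  obtain ⟨f, hf⟩ := exists_hom hC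
  have hsol : Group.IsSolvable (Equiv.Perm (V ⧸ fx ρ y)) := by
    apply Schreier.Tools.isSolvable_perm_of_card_le_four
    exact hfy.le
  have hinj : Function.Injective (f.comp (KF ρ (fx ρ y)).subtype) := by
    rw [injective_iff_map_eq_one]
    rintro ⟨x, hx⟩ hx1
    have h1 : x ∈ KQ ρ (fx ρ y) hC ⊓ KF ρ (fx ρ y) := ⟨hf x hx1, hx⟩
    rw [KQ_inf_KF h hC, mem_bot] at h1
    exact Subtype.ext h1
  have hD : Group.IsSolvable (KF ρ (fx ρ y)) := Group.isSolvable_of_isSolvable_injective hinj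
  exact solvable_of_sup hD hsup

end Cfsg.Agent.OddCyclic.COneXA
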