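import Cfsg.Agent.OddCyclic.COneXA

/-!
# S0342 (D): `X = H / C_H(W)`: simple normal subgroups, odd elements on natural modules
-/

set_option autoImplicit false
set_option linter.unusedSectionVars false

namespace Cfsg.Agent.OddCyclic.COneXB

open Subgroup
open Cfsg.Agent.OddCyclic.T1Module Cfsg.Agent.OddCyclic.FFBasic Cfsg.Agent.OddCyclic.FFRed Cfsg.Agent.OddCyclic.FFSl2
open Cfsg.Agent.OddCyclic.RedFFDefs Cfsg.Agent.OddCyclic.COneX Cfsg.Agent.OddCyclic.COneXA
open Matrix (SpecialLinearGroup)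

variable {X : Type*} [Group X] {V : Type*} [CommGroup V] {ρ : X →* MulAut V} {T : Sylow 2 X} {Mb : Subgroup X}

theorem simple_inf {L N : Subgroup X} (hL : IsSimpleGroup L) (hN : N.Normal) : N ⊓ L = ⊥ ∨ L ≤ N := by
  have h1 : (N.subgroupOf L).Normal := hN.subgroupOf L
  rcases hL.eq_bot_or_eq_top_of_normal _ h1 with h2 | h2
  · left
    rw [← subgroupOf_map_subtype, h2, Subgroup.map_bot]
  · right
    exact subgroupOf_eq_top.1 h2

theorem inf_ne_bot [Finite X] {N : Subgroup X} (hN : N.Normal) (h2 : 2 ∣ Nat.card N) : N ⊓ (T : Subgroup X) ≠ ⊥ := by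
  have hf : Fact (Nat.Prime 2) := ⟨Nat.prime_two⟩
  intro h0
  apply Cfsg.Agent.Lib.SylowNormalInf.not_dvd_relIndex T N
  rw [← Subgroup.inf_relIndex_right, inf_comm, h0, Subgroup.relIndex_bot_left]
  exact h2

/-- every element of `X` has a 2-power in `N` -/
theorem pow_mem [Finite X] {N : Subgroup X} (hN : N.Normal) (hs : N ⊔ (T : Subgroup X) = ⊤) (x : X) :
    ∃ k : ℕ, x ^ 2 ^ k ∈ N := by
  have h1 : x ∈ N ⊔ (T : Subgroup X) := by rw [hs]; exact mem_top x
  rw [mem_sup_of_normal_left] at h1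
  obtain ⟨d, hd, t, ht, rfl⟩ := h1
  obtain ⟨k, hk⟩ := T.isPGroup' ⟨t, ht⟩
  have hk' : t ^ 2 ^ k = 1 := congrArg Subtype.val hk
  refine ⟨k, ?_⟩
  have h2 : QuotientGroup.mk' N ((d * t) ^ 2 ^ k) = 1 := by
    rw [map_pow, map_mul]
    have h3 : QuotientGroup.mk' N d = 1 := (QuotientGroup.eq_one_iff d).2 hd
    rw [h3, one_mul, ← map_pow, hk', map_one]
  exact (QuotientGroup.eq_one_iff _).1 h2

theorem odd_mem [Finite X] {N : Subgroup X} (hN : N.Normal) (hs : N ⊔ (T : Subgroup X) = ⊤) {x : X}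
    (hx : Odd (orderOf x)) : x ∈ N := by
  obtain ⟨k, hk⟩ := pow_mem hN hs x
  have h1 : (orderOf x).Coprime (2 ^ k) := Nat.Coprime.pow_right k (Nat.coprime_two_right.2 hx)
  have h2 : x ∈ zpowers (x ^ 2 ^ k) := by
    have h3 : zpowers (x ^ 2 ^ k) = zpowers x := by
      apply Subgroup.eq_of_le_of_card_ge (zpowers_le.2 (Subgroup.pow_mem _ (mem_zpowers x) _))
      rw [Nat.card_zpowers, Nat.card_zpowers, Nat.Coprime.orderOf_pow h1]
    rw [h3]; exact mem_zpowers x
  exact (zpowers_le.2 hk) h2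

/-- a normal subgroup meeting `L` trivially is trivial -/
theorem eq_bot_of_inf [Finite X] (h : XM ρ T Mb) {L N : Subgroup X} (hL : L.Normal) (hs : L ⊔ (T : Subgroup X) = ⊤)
    (hN : N.Normal) (hi : N ⊓ L = ⊥) : N = ⊥ := by
  refine h.core N hN ?_
  rintro ⟨x, hx⟩
  obtain ⟨k, hk⟩ := pow_mem hL hs x
  refine ⟨k, Subtype.ext ?_⟩
  have h1 : x ^ 2 ^ k ∈ N ⊓ L := ⟨N.pow_mem hx _, hk⟩
  rw [hi, mem_bot] at h1
  exact h1

theorem cent_eq_bot [Finite X] (h : XM ρ T Mb) {L : Subgroup X} (hL : L.Normal) (hs : L ⊔ (T : Subgroup X) = ⊤)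
    (hLs : IsSimpleGroup L) (hna : ∃ x y : L, x * y ≠ y * x) : centralizer (L : Set X) = ⊥ := by
  refine eq_bot_of_inf h hL hs inferInstance ?_
  rcases simple_inf hLs (inferInstance : (centralizer (L : Set X)).Normal) with h1 | h1
  · exact h1
  · obtain ⟨x, y, hxy⟩ := hna
    exact absurd (Subtype.ext (mem_centralizer_iff.1 (h1 y.2) x x.2)) hxy

theorem eq_of_simple [Finite X] (h : XM ρ T Mb) {L N : Subgroup X} (hL : L.Normal) (hs : L ⊔ (T : Subgroup X) = ⊤)
    (hLs : IsSimpleGroup L) (hN : N.Normal) (hNs : IsSimpleGroup N) : N = L := by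
  have hNe : N ≠ ⊥ := by
    rintro rfl
    have := hNs.toNontrivial
    exact not_nontrivial _ this
  rcases simple_inf hNs hL with h1 | h1
  · rw [inf_comm] at h1
    exact absurd (eq_bot_of_inf h hL hs hN h1) hNe
  · rcases simple_inf hLs hN with h2 | h2
    · rw [inf_eq_left.2 h1] at h2
      exact absurd h2 hNe
    · exact le_antisymm h1 h2

theorem not_normal_odd [Finite X] {L : Subgroup X} (hL : L.Normal) (hs : L ⊔ (T : Subgroup X) = ⊤)
    (hLs : IsSimpleGroup L) (h2 : 2 ∣ Nat.card L) {y : X} (hy : Odd (orderOf y)) (hy1 : y ≠ 1)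
    (hyn : (zpowers y).Normal) : False := by
  have hyL := odd_mem hL hs hy
  rcases simple_inf hLs hyn with h1 | h1
  · apply hy1
    have h3 : y ∈ zpowers y ⊓ L := ⟨mem_zpowers y, hyL⟩
    rw [h1, mem_bot] at h3
    exact h3
  · have h3 := Subgroup.card_dvd_of_le h1
    rw [Nat.card_zpowers] at h3
    have h4 := h2.trans h3
    rcases hy with ⟨m, hm⟩
    omega

/-- elements acting trivially on `V / C_V(L)` centralise `L` -/
theorem cent_of_KQ [Finite X] (h : XM ρ T Mb) {L : Subgroup X} (hL : L.Normal) (hLs : IsSimpleGroup L)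
    (hna : ∃ x y : L, x * y ≠ y * x) {t : X} (ht : t ∈ KQ ρ (CS ρ L) (inv_CS hL)) :
    t ∈ centralizer (L : Set X) := by
  have hn := KQ_normal (inv_CS (ρ := ρ) hL)
  rcases simple_inf hLs hn with h1 | h1
  · rw [mem_centralizer_iff]
    intro l hl
    have h2 : l * t * l⁻¹ * t⁻¹ ∈ KQ ρ (CS ρ L) (inv_CS hL) ⊓ L := by
      refine ⟨Subgroup.mul_mem _ (hn.conj_mem t ht l) (Subgroup.inv_mem _ ht), ?_⟩
      have e : l * t * l⁻¹ * t⁻¹ = l * (t * l⁻¹ * t⁻¹) := by group
      rw [e]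
      exact mul_mem hl (hL.conj_mem _ (inv_mem hl) t)
    rw [h1, mem_bot] at h2
    calc l * t = (l * t * l⁻¹ * t⁻¹) * (t * l) := by group
      _ = t * l := by rw [h2, one_mul]
  · exfalso
    obtain ⟨x, y, hxy⟩ := hna
    apply hxy
    apply Subtype.ext
    change (x : X) * y = y * x
    have key : ∀ a ∈ L, ∀ b ∈ L, ∀ v, ρ (a * b) v = (ρ a v * v⁻¹) * (ρ b v * v⁻¹) * v := by
      intro a ha b hb v
      have h3 : ρ a (ρ b v * v⁻¹) = ρ b v * v⁻¹ := h1 hb v a ha
      rw [map_mul (ρ a), map_inv (ρ a)] at h3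
      rw [map_mul, MulAut.mul_apply]
      calc ρ a (ρ b v) = (ρ a (ρ b v) * (ρ a v)⁻¹) * ρ a v := by group
        _ = (ρ b v * v⁻¹) * ρ a v := by rw [h3]
        _ = (ρ b v * v⁻¹) * (ρ a v * v⁻¹) * v := by group
        _ = (ρ a v * v⁻¹) * (ρ b v * v⁻¹) * v := by rw [mul_comm (ρ b v * v⁻¹)]
    apply h.inj
    ext v
    rw [key x x.2 y y.2 v, key y y.2 x x.2 v, mul_comm (ρ (x : X) v * v⁻¹)]

/-! ### natural modules -/

section nat

variable {F : Type*} [Field F] [Fintype F] [CharP F 2] {W : Type*} [CommGroup W] [Finite W]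
  {σ : SpecialLinearGroup (Fin 2) F →* MulAut W}

open Cfsg.Agent.OddCyclic.T1Sl2

theorem conj_up_mem {x : SpecialLinearGroup (Fin 2) F} (h10 : x 1 0 ≠ 0) (htr : x 0 0 + x 1 1 ≠ 0) :
    ∃ t : SpecialLinearGroup (Fin 2) F, t * t = 1 ∧ t ≠ 1 ∧ t * x * t⁻¹ = x⁻¹ := by
  have h2 : (2 : F) = 0 := CharTwo.two_eq_zero
  set b := (x 0 0 + x 1 1) / x 1 0 with hb
  have hb' : b * x 1 0 = x 0 0 + x 1 1 := by rw [hb]; field_simp
  have hb0 : b ≠ 0 := div_ne_zero htr h10
  have ht : up b * up b = 1 := by rw [up_mul, CharTwo.add_self_eq_zero, up_zero]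
  refine ⟨up b, ht, ?_, ?_⟩
  · intro h
    apply hb0
    have := congrArg (fun g : SpecialLinearGroup (Fin 2) F => g 0 1) h
    simpa using this
  · have hinv : (up b)⁻¹ = up b := inv_eq_of_mul_eq_one_left ht
    rw [hinv]
    apply ext2
    · rw [mul00, mul00, mul01, inv00]; simp; linear_combination hb' + (x 0 0) * h2
    · rw [mul01, mul00, mul01, inv01]; simp
      linear_combination b * hb' + (x 0 1 + b * x 0 0 + b * x 1 1) * h2
    · rw [mul10, mul10, mul11, inv10]; simp; linear_combination (x 1 0) * h2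
    · rw [mul11, mul10, mul11, inv11]; simp; linear_combination hb' + (x 1 1) * h2

theorem sq_of_trace {x : SpecialLinearGroup (Fin 2) F} (h0 : x 0 0 + x 1 1 = 0) : x * x = 1 := by
  have h2 : (2 : F) = 0 := CharTwo.two_eq_zero
  have hd := T1Sl2.det x
  have h5 : x 1 1 = - x 0 0 := by linear_combination h0
  apply ext2
  · rw [mul00, one00]; rw [h5] at hd; linear_combination -hd + (-1 : F) * h2
  · rw [mul01, one01, h5]; ring
  · rw [mul10, one10, h5]; ring
  · rw [mul11, one11]; rw [h5] at hd ⊢; linear_combination -hd + (-1 : F) * h2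

/-- every nontrivial element of odd order is inverted by an involution -/
theorem exists_inv {x : SpecialLinearGroup (Fin 2) F} (hx : Odd (orderOf x)) (hx1 : x ≠ 1) :
    ∃ t : SpecialLinearGroup (Fin 2) F, t * t = 1 ∧ t ≠ 1 ∧ t * x * t⁻¹ = x⁻¹ := by
  have hne : ∀ y : SpecialLinearGroup (Fin 2) F, Odd (orderOf y) → y ≠ 1 → y 0 0 + y 1 1 ≠ 0 := by
    intro y hy hy1 h0
    have h1 := sq_of_trace h0
    have h2 : orderOf y ∣ 2 := orderOf_dvd_of_pow_eq_one (by rw [pow_two, h1])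
    rcases (Nat.dvd_prime Nat.prime_two).1 h2 with h3 | h3
    · exact hy1 (orderOf_eq_one_iff.1 h3)
    · rw [h3] at hy; exact absurd hy (by decide)
  by_cases h10 : x 1 0 = 0
  · by_cases h01 : x 0 1 = 0
    · -- diagonal
      refine ⟨ww F, ww_sq, ?_, ?_⟩
      · intro h
        have := congrArg (fun g : SpecialLinearGroup (Fin 2) F => g 0 0) h
        simp at this
      · have hinv : (ww F)⁻¹ = ww F := inv_eq_of_mul_eq_one_left ww_sq
        rw [hinv]
        apply ext2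
        · rw [mul00, mul00, mul01, inv00]; simp
        · rw [mul01, mul00, mul01, inv01]; simp [h10, h01]
        · rw [mul10, mul10, mul11, inv10]; simp [h10, h01]
        · rw [mul11, mul10, mul11, inv11]; simp
    · -- conjugate by `ww`
      set y := ww F * x * (ww F)⁻¹ with hy
      have hinv : (ww F)⁻¹ = ww F := inv_eq_of_mul_eq_one_left ww_sq
      have hy10 : y 1 0 ≠ 0 := by
        rw [hy, hinv, mul10, mul10, mul11]; simpa using h01
      have hyo : orderOf y = orderOf x := orderOf_conj' _ _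
      have hy1 : y ≠ 1 := by
        intro h
        rw [h, orderOf_one] at hyo
        exact hx1 (orderOf_eq_one_iff.1 hyo.symm)
      obtain ⟨t, ht, ht1, hty⟩ := conj_up_mem hy10 (hne y (by rw [hyo]; exact hx) hy1)
      refine ⟨(ww F)⁻¹ * t * ww F, ?_, ?_, ?_⟩
      · calc (ww F)⁻¹ * t * ww F * ((ww F)⁻¹ * t * ww F) = (ww F)⁻¹ * (t * t) * ww F := by group
          _ = 1 := by rw [ht]; group
      · intro h
        apply ht1
        calc t = ww F * ((ww F)⁻¹ * t * ww F) * (ww F)⁻¹ := by group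
          _ = 1 := by rw [h]; group
      · calc (ww F)⁻¹ * t * ww F * x * ((ww F)⁻¹ * t * ww F)⁻¹ = (ww F)⁻¹ * (t * y * t⁻¹) * ww F := by rw [hy]; group
          _ = x⁻¹ := by rw [hty, hy]; group
  · exact conj_up_mem h10 (hne x hx hx1)

/-- elements of odd order are fixed point free on `W / C_W(L)` -/
theorem fx_le (hn : IsNat σ) {x : SpecialLinearGroup (Fin 2) F} (hx : Odd (orderOf x)) (hx1 : x ≠ 1) :
    fx σ x ≤ CS σ ⊤ := by
  obtain ⟨t, ht, ht1, htx⟩ := exists_inv hx hx1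
  -- two involutions with product of odd order `≠ 1` lie in different Sylow subgroups
  obtain ⟨t', ht'⟩ : ∃ t', t' = t * x := ⟨_, rfl⟩
  have hinv : t⁻¹ = t := inv_eq_of_mul_eq_one_left ht
  have ht'2 : t' * t' = 1 := by
    rw [ht']
    calc t * x * (t * x) = (t * x * t) * x := by group
      _ = (t * x * t⁻¹) * x := by rw [hinv]
      _ = 1 := by rw [htx, inv_mul_cancel]
  have hx' : x = t * t' := by rw [ht', ← mul_assoc, ht, one_mul]
  have hxx : x * x ≠ 1 := by
    intro h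
    have h2 : orderOf x ∣ 2 := orderOf_dvd_of_pow_eq_one (by rw [pow_two, h])
    rcases (Nat.dvd_prime Nat.prime_two).1 h2 with h3 | h3
    · exact hx1 (orderOf_eq_one_iff.1 h3)
    · rw [h3] at hx; exact absurd hx (by decide)
  have ht'1 : t' ≠ 1 := by
    rintro rfl
    rw [mul_one] at hx'
    exact hxx (by rw [hx', ht])
  obtain ⟨U, hU⟩ := exists_sylow_mem ht
  obtain ⟨U', hU'⟩ := exists_sylow_mem ht'2
  have hUU : U ≠ U' := by
    rintro rfl
    apply hxx
    rw [hx']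
    exact sylow_elem U _ (mul_mem hU hU')
  have htop : ∀ v, v ∈ fx σ t → v ∈ fx σ t' → v ∈ CS σ ⊤ := by
    intro v h1 h2
    rw [hn.fix U t hU ht1] at h1
    rw [hn.fix U' t' hU' ht'1] at h2
    rw [← sylow_sup hUU, CS_sup]
    exact ⟨h1, h2⟩
  have hfx' : ∀ v, v ∈ fx σ x → v ∈ fx σ t → v ∈ fx σ t' := by
    intro v h1 h2
    rw [ht']
    exact fx_mul σ h2 h1
  intro v hv
  obtain ⟨Y, hY⟩ := hn.cover v
  -- `v * t v`
  have hxt : ∀ w, w ∈ fx σ x → σ t w ∈ fx σ x := by
    intro w hw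
    change σ x (σ t w) = σ t w
    rw [conj_apply]
    have h1 : t⁻¹ * x * t = x⁻¹ := by rw [hinv]; rw [hinv] at htx; exact htx
    rw [h1, fx_inv σ hw]
  have hw1 : v * σ t v ∈ CS σ ⊤ := by
    apply htop
    · change σ t (v * σ t v) = v * σ t v
      rw [map_mul, ← MulAut.mul_apply, ← map_mul, ht, map_one]
      exact mul_comm _ _
    · apply hfx' _ (mul_mem hv (hxt v hv))
      change σ t (v * σ t v) = v * σ t v
      rw [map_mul, ← MulAut.mul_apply, ← map_mul, ht, map_one]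
      exact mul_comm _ _
  have hC : CS σ ⊤ ≤ CS σ ((t • Y : Sylow 2 (SpecialLinearGroup (Fin 2) F)) : Subgroup _) := CS_anti le_top
  have h3 : v ∈ CS σ ((t • Y : Sylow 2 (SpecialLinearGroup (Fin 2) F)) : Subgroup _) := by
    have h4 := smul_mem_CS σ Y t hY
    have h5 : v = (v * σ t v) * (σ t v)⁻¹ := by group
    rw [h5]
    exact mul_mem (hC hw1) (inv_mem h4)
  by_cases hYt : t • Y = Y
  · -- then `t ∈ Y`
    have h6 : t ∈ Y := by
      have hf : Fact (Nat.Prime 2) := ⟨Nat.prime_two⟩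
      have h7 : t ∈ normalizer ((Y : Subgroup (SpecialLinearGroup (Fin 2) F)) : Set _) :=
        Sylow.smul_eq_iff_mem_normalizer.1 hYt
      have h8 : IsPGroup 2 (zpowers t) := U.isPGroup'.to_le (zpowers_le.2 hU)
      have h9 := IsPGroup.inf_normalizer_sylow h8 Y
      have h10 : t ∈ zpowers t ⊓ (Y : Subgroup (SpecialLinearGroup (Fin 2) F)) := by
        rw [← h9]; exact ⟨mem_zpowers t, h7⟩
      exact h10.2
    have h7 : v ∈ fx σ t := hY t h6
    exact htop v h7 (hfx' v hv h7)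
  · rw [← sylow_sup hYt, CS_sup]
    exact ⟨h3, hY⟩

end nat

end Cfsg.Agent.OddCyclic.COneXB
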