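import Cfsg.Agent.OddCyclic.CaseAFour

/-!
# S0342, component type, case A: A4 (ii), the number of members of `Δ`

`Delta R V` has `q` members, or `2q - 1` members and `|R| = 2`. The group `H` acts semiregularly on
`Δ - {R}`.
-/

set_option autoImplicit false

namespace Cfsg.Agent.OddCyclic.CaseADelta

open Subgroup
open Cfsg.Agent.LieExceptional Cfsg.Agent.LieExceptional.CITDefs
open Cfsg.Agent.LieExceptional.CITBasic
open Cfsg.Agent.OddCyclic.T1Tools
open Cfsg.Agent.OddCyclic.CompBasic Cfsg.Agent.OddCyclic.CompStandard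
open Cfsg.Agent.OddCyclic.CaseADefs Cfsg.Agent.OddCyclic.CaseABase
open Cfsg.Agent.OddCyclic.CaseACount Cfsg.Agent.OddCyclic.CaseAFour

variable {G : Type*} [Group G] [Finite G] {p : ℕ} {K R E H : Subgroup G} {q : ℕ}

/-- a free action -/
theorem card_of_free {A X : Type*} [Group A] [Finite A] [Finite X] [MulAction A X]
    (h : ∀ (a : A) (x : X), a • x = x → a = 1) : ∃ j : ℕ, Nat.card X = j * Nat.card A := by
  have h1 : ∀ x : X, MulAction.stabilizer A x = ⊥ := by
    intro x
    rw [eq_bot_iff]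
    intro a ha
    rw [Subgroup.mem_bot]
    exact h a x (MulAction.mem_stabilizer_iff.mp ha)
  have h2 := Nat.card_congr (MulAction.selfEquivOrbitsQuotientProd h1)
  rw [Nat.card_prod] at h2
  exact ⟨_, h2⟩

omit [Finite G] in
/-- elements of `H` commuting with a nontrivial element outside `R` of `V` are trivial -/
theorem H_comm (b : Beta K R E H q) {x v : G} (hx : x ∈ H) (hv : v ∈ R ⊔ E) (hvR : v ∉ R)
    (hc : x * v = v * x) : x = 1 := by
  obtain ⟨r, hr, e, he, rfl⟩ := b.mem_V.mp hv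
  have he1 : e ≠ 1 := by
    rintro rfl
    rw [mul_one] at hvR
    exact hvR hr
  have hxr : x * r = r * x := comm_KY x (b.bor.leH hx) r (b.sylR.le hr)
  have h1 : x * e = e * x := by
    have h2 : r * (x * e) = r * (e * x) := by
      calc r * (x * e) = (r * x) * e := by group
        _ = (x * r) * e := by rw [hxr]
        _ = x * (r * e) := by group
        _ = r * e * x := hc
        _ = r * (e * x) := by group
    exact mul_left_cancel h2
  exact H_inf b.l2 b.bor hx (b.bor.cent e he he1 x (b.bor.leH hx) h1)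

/-- `H` acts semiregularly on `Δ - {R}`. -/
theorem H_free (h : Std p K) (b : Beta K R E H q) {X : Subgroup G}
    (hX : X ∈ Delta R (R ⊔ E)) (hne : X ≠ R) {x : G} (hx : x ∈ H) (hxX : cj x X = X) : x = 1 := by
  obtain ⟨n, hn, rfl⟩ := hX
  by_contra hx1
  -- pass to an element of prime order
  set m := orderOf x with hm
  have hm1 : m ≠ 1 := fun hh => hx1 (orderOf_eq_one_iff.mp hh)
  obtain ⟨r, hr, hrm⟩ := Nat.exists_prime_and_dvd hm1
  have hmpos : 0 < m := orderOf_pos x
  set z := x ^ (m / r) with hz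
  have hzr : orderOf z = r := orderOf_pow_orderOf_div hmpos.ne' hrm
  have hzH : z ∈ H := H.pow_mem hx _
  have hzN : ∀ k : ℕ, cj (x ^ k) (cj n R) = cj n R := by
    intro k
    induction k with
    | zero => rw [pow_zero, cj_one]
    | succ k ih => rw [pow_succ, cj_mul, hxX, ih]
  have hzX : cj z (cj n R) = cj n R := hzN _
  have hH : Nat.card H = q - 1 := b.bor.cardH
  have hrH : r ∣ q - 1 := by
    rw [← hH, ← hzr]; exact H.orderOf_dvd_natCard hzH
  have hr2 : r ≠ 2 := by
    rintro rfl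
    exact (Nat.not_even_iff_odd.mpr (odd_card_H b.l2)) (even_iff_two_dvd.mpr hrH)
  have hrK : r ∣ Nat.card K := by
    rw [← hzr]; exact K.orderOf_dvd_natCard (b.bor.leH hzH)
  -- `z ∈ M^n`
  have hz1 : n⁻¹ * (z * n) ∈ normalizer (K : Set G) := by
    have hzn : z * n ∈ normalizer ((R ⊔ E : Subgroup G) : Set G) :=
      Subgroup.mul_mem _ (H_le_N b hzH) hn
    rw [← cj_eq_cj_iff h b hn hzn, cj_mul, hzX]
  have hz2 : z ∈ cj n (normalizer (K : Set G)) := by
    rw [mem_cj, mul_assoc]; exact hz1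
  have hzc : ∀ y ∈ cj n R, z * y = y * z := fun y hy =>
    h.commute_of_dvd n hr hr2 hrK hz2 hzr (cj_mono b.sylR.le hy)
  apply hne
  apply Subgroup.eq_of_le_of_card_ge
  · intro y hy
    by_contra hyR
    have hyV : y ∈ R ⊔ E := le_of_mem_delta ⟨n, hn, rfl⟩ hy
    have h3 := H_comm b hzH hyV hyR (hzc y hy)
    rw [h3, orderOf_one] at hzr
    exact hr.one_lt.ne hzr
  · rw [card_cj]

/-- `|Δ| ≡ 1 mod q - 1` -/
theorem card_mod (h : Std p K) (b : Beta K R E H q) :
    ∃ j : ℕ, Nat.card (Delta R (R ⊔ E)) = 1 + j * (q - 1) := by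
  classical
  let X' : Type _ := {X : Subgroup G // X ∈ Delta R (R ⊔ E) ∧ X ≠ R}
  let act : MulAction H X' :=
    { smul := fun x X => ⟨cj (x : G) X.1, cj_mem_delta X.2.1 (H_le_N b x.2), fun hh => X.2.2 (by
        have h1 : cj (x : G)⁻¹ R = R := cj_R b (Subgroup.inv_mem _ (H_le_N b x.2))
          (Subgroup.inv_mem _ (Subgroup.le_normalizer (b.bor.leH x.2)))
        rw [← cj_inv_cj (x : G) X.1, hh, h1])⟩
      one_smul := fun X => Subtype.ext (cj_one X.1)
      mul_smul := fun x y X => Subtype.ext (cj_mul (x : G) (y : G) X.1) }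
  have h4 := b.l2.four
  have hfH : Finite H := Nat.finite_of_card_ne_zero (by rw [b.bor.cardH]; omega)
  obtain ⟨j, hj⟩ := card_of_free (A := H) (X := X') (fun x X hxX => by
    have h1 : cj (x : G) X.1 = X.1 := congrArg Subtype.val hxX
    exact Subtype.ext (H_free h b X.2.1 X.2.2 x.2 h1))
  rw [b.bor.cardH] at hj
  refine ⟨j, ?_⟩
  rw [← hj]
  have h1 := Nat.card_congr (Equiv.sumCompl (fun X : Delta R (R ⊔ E) => (X : Subgroup G) = R))
  rw [Nat.card_sum] at h1
  rw [← h1]
  congr 1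
  · rw [Nat.card_eq_one_iff_unique]
    exact ⟨⟨fun a b => Subtype.ext (Subtype.ext (a.2.trans b.2.symm))⟩, ⟨⟨⟨R, R_mem_delta⟩, rfl⟩⟩⟩
  · exact Nat.card_congr
      { toFun := fun X => ⟨X.1.1, X.1.2, X.2⟩
        invFun := fun X => ⟨⟨X.1, X.2.1⟩, X.2.2⟩
        left_inv := fun _ => rfl
        right_inv := fun _ => rfl }

theorem card_delta_le (h : Std p K) (b : Beta K R E H q) :
    Nat.card (Delta R (R ⊔ E)) * (Nat.card R - 1) ≤ Nat.card R * q - 1 := by
  classical
  have hf : Fintype (Delta R (R ⊔ E)) := Fintype.ofFinite _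
  have h1 := sum_card_le (fun X : Delta R (R ⊔ E) => (X : Subgroup G)) (R ⊔ E)
    (fun X => le_of_mem_delta X.2) (fun X X' hne s hs hs' => by
      by_contra hs1
      exact hne (Subtype.ext (delta_ti h b X.2 X'.2 hs1 hs hs')))
  rw [Finset.sum_congr rfl (fun X _ => by rw [card_of_mem_delta X.2]), Finset.sum_const,
    smul_eq_mul, Finset.card_univ, ← Nat.card_eq_fintype_card, b.card_V] at h1
  exact h1

/-- **(ii)** -/
theorem card_delta (h : Std p K) (b : Beta K R E H q) :
    Nat.card (Delta R (R ⊔ E)) = q ∨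
      (Nat.card (Delta R (R ⊔ E)) = 2 * q - 1 ∧ Nat.card R = 2) := by
  obtain ⟨j, hj⟩ := card_mod h b
  have h1 := card_delta_le h b
  have h4 := b.l2.four
  have h2 := card_R_two h b
  have hj1 : 1 ≤ j := by
    by_contra hj0
    have hj0' : j = 0 := by omega
    rw [hj0', zero_mul, add_zero] at hj
    obtain ⟨n, hn, hnM⟩ := exists_n h b
    obtain ⟨hs, -⟩ := Nat.card_eq_one_iff_unique.mp hj
    have h3 : (⟨cj n R, n, hn, rfl⟩ : Delta R (R ⊔ E)) = ⟨R, R_mem_delta⟩ := Subsingleton.elim _ _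
    exact hnM ((cj_eq_R_iff h b hn).mp (congrArg Subtype.val h3))
  rw [hj] at h1 ⊢
  set r := Nat.card R with hr
  obtain ⟨s, rfl⟩ : ∃ s, q = s + 1 := ⟨q - 1, by omega⟩
  obtain ⟨t, ht⟩ : ∃ t, r = t + 1 := ⟨r - 1, by omega⟩
  rw [ht] at h1 h2 ⊢
  simp only [Nat.add_sub_cancel] at h1 ⊢
  have h5 : (t + 1) * (s + 1) - 1 = t * s + t + s := by
    have : (t + 1) * (s + 1) = t * s + t + s + 1 := by ring
    omega
  rw [h5] at h1
  have h6 : (1 + j * s) * t = t + j * s * t := by ring
  rw [h6] at h1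
  have h7 : s * (j * t) ≤ s * (t + 1) := by nlinarith
  have h8 : j * t ≤ t + 1 := Nat.le_of_mul_le_mul_left h7 (by omega)
  have h9 : j ≤ 2 := by
    by_contra hc
    have : 3 * t ≤ j * t := Nat.mul_le_mul_right _ (by omega)
    omega
  interval_cases j
  · left; omega
  · right
    constructor
    · omega
    · omega

/-- index -/
theorem card_orbit (h : Std p K) (b : Beta K R E H q) {L : Subgroup G}
    (hL : L ≤ normalizer ((R ⊔ E : Subgroup G) : Set G)) :
    Nat.card {X : Subgroup G | ∃ n ∈ L, X = cj n R} *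
      Nat.card (L ⊓ normalizer (K : Set G) : Subgroup G) = Nat.card L := by
  classical
  set W : Subgroup L := (normalizer (K : Set G)).subgroupOf L with hW
  let f : L ⧸ W → {X : Subgroup G | ∃ n ∈ L, X = cj n R} :=
    Quotient.lift (fun n : L => (⟨cj (n : G) R, n, n.2, rfl⟩ :
      {X : Subgroup G | ∃ n ∈ L, X = cj n R})) (by
      intro a c hac
      have h1 : a⁻¹ * c ∈ W := QuotientGroup.leftRel_apply.mp hac
      exact Subtype.ext ((cj_eq_cj_iff h b (hL a.2) (hL c.2)).mpr h1))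
  have hf : Function.Bijective f := by
    constructor
    · intro a c
      refine Quotient.inductionOn₂ a c ?_
      intro a c hac
      have h1 : cj (a : G) R = cj (c : G) R := congrArg Subtype.val hac
      have h2 := (cj_eq_cj_iff h b (hL a.2) (hL c.2)).mp h1
      exact Quotient.sound (QuotientGroup.leftRel_apply.mpr h2)
    · rintro ⟨X, n, hn, rfl⟩
      exact ⟨Quotient.mk _ ⟨n, hn⟩, rfl⟩
  rw [← Nat.card_eq_of_bijective f hf]
  have h1 := Subgroup.card_eq_card_quotient_mul_card_subgroup W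
  have h2 : Nat.card W = Nat.card (L ⊓ normalizer (K : Set G) : Subgroup G) := by
    rw [hW, ← Subgroup.inf_subgroupOf_left]
    exact card_subgroupOf inf_le_left
  rw [h1, h2]

/-- `|N| = |Δ| |N ∩ M|` -/
theorem card_N (h : Std p K) (b : Beta K R E H q) :
    Nat.card (Delta R (R ⊔ E)) *
      Nat.card (normalizer ((R ⊔ E : Subgroup G) : Set G) ⊓ normalizer (K : Set G) :
        Subgroup G) = Nat.card (normalizer ((R ⊔ E : Subgroup G) : Set G)) :=
  card_orbit h b le_rfl

/-- a power of 2 dividing the order of `M` is at most the order of a Sylow 2-subgroup -/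
theorem pow_le_of_dvd {M S : Subgroup G} (hS : IsSyl2 M S) {a : ℕ} (h : 2 ^ a ∣ Nat.card M) :
    2 ^ a ≤ Nat.card S := by
  have hpf : Fact (Nat.Prime 2) := ⟨Nat.prime_two⟩
  obtain ⟨W, hW⟩ := Sylow.exists_subgroup_card_pow_prime (G := M) 2 h
  have h1 : Nat.card (W.map M.subtype) = 2 ^ a := by
    rw [Subgroup.card_map_of_injective M.subtype_injective, hW]
  rw [← h1]
  refine card_le_of_isSyl2 hS (Subgroup.map_subtype_le W) ?_
  exact IsPGroup.of_card h1

/-- If `V` is normalized by a 2-group larger than a Sylow 2-subgroup of `M` then `|Δ| = q`. -/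
theorem card_delta_of_lt (h : Std p K) (b : Beta K R E H q) {S W : Subgroup G}
    (hS : IsSyl2 (normalizer (K : Set G)) S)
    (hW : W ≤ normalizer ((R ⊔ E : Subgroup G) : Set G)) (hW2 : IsPGroup 2 W)
    (hlt : Nat.card S < Nat.card W) : Nat.card (Delta R (R ⊔ E)) = q := by
  have hpf : Fact (Nat.Prime 2) := ⟨Nat.prime_two⟩
  rcases card_delta h b with h1 | ⟨h1, h2⟩
  · exact h1
  · exfalso
    have h3 := card_N h b
    obtain ⟨a, ha⟩ := IsPGroup.iff_card.mp hW2
    have h4 : 2 ^ a ∣ Nat.card (Delta R (R ⊔ E)) *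
      Nat.card (normalizer ((R ⊔ E : Subgroup G) : Set G) ⊓ normalizer (K : Set G) :
        Subgroup G) := by
      rw [h3, ← ha]; exact Subgroup.card_dvd_of_le hW
    have h5 : Nat.Coprime (2 ^ a) (Nat.card (Delta R (R ⊔ E))) := by
      refine Nat.Coprime.pow_left a ?_
      rw [Nat.coprime_two_left, h1]
      have := b.l2.four
      exact ⟨q - 1, by omega⟩
    have h6 := (h5.dvd_of_dvd_mul_left h4).trans (Subgroup.card_dvd_of_le
      (inf_le_right : normalizer ((R ⊔ E : Subgroup G) : Set G) ⊓ normalizer (K : Set G) ≤ _))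
    have h7 := pow_le_of_dvd hS h6
    omega

/-- If `S ≤ N` is a Sylow 2-subgroup of `G` then `|Δ| = 2q - 1` and `|R| = 2`. -/
theorem card_delta_of_sylow (h : Std p K) (b : Beta K R E H q) {S : Subgroup G}
    (hS : IsSyl2 (normalizer (K : Set G)) S) (hV : R ⊔ E ≤ S) (hST : IsSyl2 ⊤ S) :
    Nat.card (Delta R (R ⊔ E)) = 2 * q - 1 ∧ Nat.card R = 2 := by
  have hpf : Fact (Nat.Prime 2) := ⟨Nat.prime_two⟩
  rcases card_delta h b with h1 | h1
  · exfalso
    have h3 := card_N h b
    obtain ⟨a, ha⟩ := IsPGroup.iff_card.mp hS.two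
    have h4 : S ≤ normalizer ((R ⊔ E : Subgroup G) : Set G) ⊓ normalizer (K : Set G) :=
      le_inf (S_le_N b hS hV) hS.le
    have h5 : 2 ^ (a + 1) ∣ Nat.card (⊤ : Subgroup G) := by
      refine dvd_trans ?_ (Subgroup.card_dvd_of_le
        (le_top : normalizer ((R ⊔ E : Subgroup G) : Set G) ≤ ⊤))
      rw [← h3, pow_succ, mul_comm]
      refine mul_dvd_mul ?_ (by rw [← ha]; exact Subgroup.card_dvd_of_le h4)
      rw [h1]
      exact even_iff_two_dvd.mp (even_q b.l2)
    have h6 := pow_le_of_dvd hST h5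
    rw [ha, pow_succ] at h6
    have : 0 < 2 ^ a := by positivity
    omega
  · exact h1

end Cfsg.Agent.OddCyclic.CaseADelta
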