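import Mathlib

/-!
# S0342, component type, case A: the layer lemma, for groups with operators

`L φ R E`: the 2-group `P` is acted on by the abelian group `H` of odd order, `C_P(h) = R` for `h ∈ H#`, `R`, `E` are elementary
abelian, `E` is central in `P`, `H` is transitive on `E#`, `C_P(t) = R × E` for `t ∈ R#`.
-/

set_option autoImplicit false
set_option linter.unusedSectionVars false

namespace Cfsg.Agent.OddCyclic.CaseALayerT

open Subgroup

universe u v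

structure L {P : Type u} {H : Type v} [Group P] [CommGroup H] (φ : H →* MulAut P) (R E : Subgroup P) : Prop where
  two : IsPGroup 2 P
  elemR : ∀ r ∈ R, r * r = 1
  elemE : ∀ e ∈ E, e * e = 1
  cen : ∀ e ∈ E, ∀ x : P, e * x = x * e
  disj : ∀ x ∈ R, x ∈ E → x = 1
  neR : ∃ t ∈ R, t ≠ 1
  four : 4 ≤ Nat.card E
  invE : ∀ h : H, ∀ e ∈ E, φ h e ∈ E
  fixR : ∀ h : H, ∀ r ∈ R, φ h r = r
  fpf : ∀ h : H, h ≠ 1 → ∀ x : P, φ h x = x → x ∈ R
  trans : ∀ e ∈ E, e ≠ 1 → ∀ e' ∈ E, e' ≠ 1 → ∃ h : H, φ h e = e'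
  odd : Odd (Nat.card H)
  cent : ∀ t ∈ R, t ≠ 1 → ∀ x : P, x * t = t * x → ∃ r ∈ R, ∃ e ∈ E, x = r * e

variable {P : Type u} {H : Type v} [Group P] [CommGroup H] {φ : H →* MulAut P} {R E : Subgroup P}

theorem exists_ne_one {A : Subgroup P} (h : 2 ≤ Nat.card A) : ∃ x ∈ A, x ≠ 1 := by
  by_contra hno
  push Not at hno
  have : A = ⊥ := by
    rw [eq_bot_iff]
    intro x hx
    exact Subgroup.mem_bot.mpr (hno x hx)
  rw [this, Subgroup.card_bot] at h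
  omega

namespace L

/-- A `h`-invariant set whose size is a power of 2 contains an element of `R`. -/
theorem exists_mem_R [Finite P] [Finite H] (l : L φ R E) {h : H} (hh : h ≠ 1) (C : Set P)
    (hC : ∀ x ∈ C, φ h x ∈ C) (hcard : ∃ n, Nat.card C = 2 ^ n) : ∃ x ∈ C, x ∈ R := by
  classical
  have ho : orderOf h ≠ 1 := fun h1 => hh (orderOf_eq_one_iff.mp h1)
  obtain ⟨r, hr, k, hk⟩ := Nat.exists_prime_and_dvd ho
  have hrp : Fact r.Prime := ⟨hr⟩
  have hpos : 0 < orderOf h := orderOf_pos h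
  have hr2 : r ≠ 2 := by
    rintro rfl
    have h1 : (2 : ℕ) ∣ Nat.card H := (hk ▸ dvd_mul_right 2 k : 2 ∣ orderOf h).trans (orderOf_dvd_natCard h)
    exact (Nat.not_even_iff_odd.mpr l.odd) (even_iff_two_dvd.mpr h1)
  have hpow : (h ^ k) ^ r = 1 := by
    rw [← pow_mul, mul_comm, ← hk, pow_orderOf_eq_one]
  have hk1 : h ^ k ≠ 1 := by
    intro h1
    have h2 : orderOf h ∣ k := orderOf_dvd_of_pow_eq_one h1
    have h3 : 0 < k := by
      rcases Nat.eq_zero_or_pos k with h4 | h4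
      · rw [h4] at hk; omega
      · exact h4
    have h5 := Nat.le_of_dvd h3 h2
    rw [hk] at h5
    have h6 := hr.two_le
    nlinarith
  have hCk : ∀ n : ℕ, ∀ x ∈ C, φ (h ^ n) x ∈ C := by
    intro n
    induction n with
    | zero => intro x hx; simpa using hx
    | succ n ih =>
      intro x hx
      rw [pow_succ, map_mul, MulAut.mul_apply]
      exact ih _ (hC x hx)
  let f : Function.End C := fun x => ⟨φ (h ^ k) x, hCk k _ x.2⟩
  have hfn : ∀ n : ℕ, ∀ x : C, ((f ^ n) x : P) = φ ((h ^ k) ^ n) x := by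
    intro n
    induction n with
    | zero =>
      intro x
      rw [pow_zero, pow_zero, map_one]
      rfl
    | succ n ih =>
      intro x
      rw [pow_succ]
      have : ((f ^ n * f) x : P) = ((f ^ n) (f x) : P) := rfl
      rw [this, ih, pow_succ, map_mul, MulAut.mul_apply]
  have hf : f ^ r ^ 1 = 1 := by
    rw [pow_one]
    funext x
    apply Subtype.ext
    rw [hfn, hpow, map_one]
    rfl
  have hfin : Fintype C := Fintype.ofFinite C
  have key := Equiv.Perm.card_fixedPoints_modEq (p := r) (n := 1) hf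
  obtain ⟨n, hn⟩ := hcard
  rw [Nat.card_eq_fintype_card] at hn
  rw [hn] at key
  have hne : Fintype.card f.fixedPoints ≠ 0 := by
    intro h0
    rw [h0] at key
    have h1 : r ∣ 2 ^ n := (Nat.modEq_zero_iff_dvd).mp key
    have h2 := (Nat.prime_dvd_prime_iff_eq hr Nat.prime_two).mp (hr.dvd_of_dvd_pow h1)
    exact hr2 h2
  obtain ⟨⟨x, hx⟩⟩ := Fintype.card_pos_iff.mp (Nat.pos_of_ne_zero hne)
  refine ⟨x, x.2, l.fpf _ hk1 _ ?_⟩
  exact congrArg Subtype.val hx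

/-- cosets -/
theorem exists_mem_coset [Finite P] [Finite H] (l : L φ R E) {h : H} (hh : h ≠ 1) (D : Subgroup P)
    (hD : ∀ x ∈ D, φ h x ∈ D) (x : P) (hx : x⁻¹ * φ h x ∈ D) : ∃ r ∈ R, x⁻¹ * r ∈ D := by
  have hinv : ∀ y ∈ {y : P | x⁻¹ * y ∈ D}, φ h y ∈ {y : P | x⁻¹ * y ∈ D} := by
    intro y hy
    have h1 : x⁻¹ * φ h y = (x⁻¹ * φ h x) * φ h (x⁻¹ * y) := by
      rw [map_mul, map_inv]; group
    show x⁻¹ * φ h y ∈ D
    rw [h1]
    exact D.mul_mem hx (hD _ hy)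
  have hcard : ∃ n, Nat.card {y : P | x⁻¹ * y ∈ D} = 2 ^ n := by
    obtain ⟨n, hn⟩ := IsPGroup.iff_card.mp (l.two.to_subgroup D)
    refine ⟨n, ?_⟩
    rw [← hn]
    refine Nat.card_congr
      { toFun := fun y => ⟨x⁻¹ * y, y.2⟩
        invFun := fun d => ⟨x * d, by
          show x⁻¹ * (x * d) ∈ D
          rw [inv_mul_cancel_left]; exact d.2⟩
        left_inv := fun y => by simp
        right_inv := fun d => by simp }
  obtain ⟨r, hr, hrR⟩ := l.exists_mem_R hh {y : P | x⁻¹ * y ∈ D} hinv hcard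
  exact ⟨r, hrR, hr⟩

theorem comm_R (l : L φ R E) {x y : P} (hx : x ∈ R) (hy : y ∈ R) : x * y = y * x := by
  have h1 := l.elemR _ (R.mul_mem hx hy)
  have hx' : x⁻¹ = x := inv_eq_of_mul_eq_one_left (l.elemR x hx)
  have hy' : y⁻¹ = y := inv_eq_of_mul_eq_one_left (l.elemR y hy)
  have h2 : x * y = (x * y)⁻¹ := eq_inv_of_mul_eq_one_left h1
  rw [h2, mul_inv_rev, hx', hy']

theorem inv_R (l : L φ R E) {x : P} (hx : x ∈ R) : x⁻¹ = x := inv_eq_of_mul_eq_one_left (l.elemR x hx)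
theorem inv_E (l : L φ R E) {x : P} (hx : x ∈ E) : x⁻¹ = x := inv_eq_of_mul_eq_one_left (l.elemE x hx)

/-- `x ∈ V = R E` -/
def V (R E : Subgroup P) : Set P := {x | ∃ r ∈ R, ∃ e ∈ E, x = r * e}

theorem mem_V_R {r : P} (hr : r ∈ R) : r ∈ V R E := ⟨r, hr, 1, E.one_mem, (mul_one r).symm⟩
theorem mem_V_E {e : P} (he : e ∈ E) : e ∈ V R E := ⟨1, R.one_mem, e, he, (one_mul e).symm⟩

theorem V_comm_R (l : L φ R E) {x t : P} (hx : x ∈ V R E) (ht : t ∈ R) : x * t = t * x := by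
  obtain ⟨r, hr, e, he, rfl⟩ := hx
  rw [mul_assoc, l.cen e he t, ← mul_assoc, l.comm_R hr ht, mul_assoc]

theorem V_mul (l : L φ R E) {x y : P} (hx : x ∈ V R E) (hy : y ∈ V R E) : x * y ∈ V R E := by
  obtain ⟨r, hr, e, he, rfl⟩ := hx
  obtain ⟨s, hs, f, hf, rfl⟩ := hy
  refine ⟨r * s, R.mul_mem hr hs, e * f, E.mul_mem he hf, ?_⟩
  calc r * e * (s * f) = r * (e * s) * f := by group
    _ = r * (s * e) * f := by rw [l.cen e he s]
    _ = r * s * (e * f) := by group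

theorem V_inv (l : L φ R E) {x : P} (hx : x ∈ V R E) : x⁻¹ ∈ V R E := by
  obtain ⟨r, hr, e, he, rfl⟩ := hx
  refine ⟨r⁻¹, R.inv_mem hr, e⁻¹, E.inv_mem he, ?_⟩
  rw [mul_inv_rev, l.cen _ (E.inv_mem he)]

/-- the subgroup `V = R E` -/
def Vs (l : L φ R E) : Subgroup P where
  carrier := V R E
  one_mem' := mem_V_R R.one_mem
  mul_mem' := l.V_mul
  inv_mem' := l.V_inv

theorem mem_Vs (l : L φ R E) {x : P} : x ∈ l.Vs ↔ ∃ r ∈ R, ∃ e ∈ E, x = r * e := Iff.rfl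

/-- `S₁ = {x : [x, R] ≤ E}` -/
def S1 (l : L φ R E) : Subgroup P where
  carrier := {x | ∀ t ∈ R, x * t * x⁻¹ * t⁻¹ ∈ E}
  one_mem' := fun t _ => by simp
  mul_mem' := by
    intro x y hx hy t ht
    have h1 := hx t ht
    have h2 := hy t ht
    have h3 : x * y * t * (x * y)⁻¹ * t⁻¹ = x * (y * t * y⁻¹ * t⁻¹) * x⁻¹ * (x * t * x⁻¹ * t⁻¹) := by group
    rw [h3, ← l.cen _ h2 x]
    have h4 : y * t * y⁻¹ * t⁻¹ * x * x⁻¹ * (x * t * x⁻¹ * t⁻¹) =
      (y * t * y⁻¹ * t⁻¹) * (x * t * x⁻¹ * t⁻¹) := by group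
    rw [h4]
    exact E.mul_mem h2 h1
  inv_mem' := by
    intro x hx t ht
    have h1 := hx t ht
    have h2 : x⁻¹ * t * x⁻¹⁻¹ * t⁻¹ = x⁻¹ * (x * t * x⁻¹ * t⁻¹)⁻¹ * x := by group
    rw [h2, ← l.cen _ (E.inv_mem h1) x⁻¹]
    have h3 : (x * t * x⁻¹ * t⁻¹)⁻¹ * x⁻¹ * x = (x * t * x⁻¹ * t⁻¹)⁻¹ := by group
    rw [h3]
    exact E.inv_mem h1

theorem mem_S1 (l : L φ R E) {x : P} : x ∈ l.S1 ↔ ∀ t ∈ R, x * t * x⁻¹ * t⁻¹ ∈ E := Iff.rfl

theorem V_le_S1 (l : L φ R E) {x : P} (hx : x ∈ V R E) : x ∈ l.S1 := by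
  intro t ht
  rw [l.V_comm_R hx ht]
  have : t * x * x⁻¹ * t⁻¹ = 1 := by group
  rw [this]; exact E.one_mem

theorem E_le_S1 (l : L φ R E) {x : P} (hx : x ∈ E) : x ∈ l.S1 := l.V_le_S1 (mem_V_E hx)
theorem R_le_S1 (l : L φ R E) {x : P} (hx : x ∈ R) : x ∈ l.S1 := l.V_le_S1 (mem_V_R hx)

theorem S1_inv (l : L φ R E) (h : H) {x : P} (hx : x ∈ l.S1) : φ h x ∈ l.S1 := by
  intro t ht
  have h1 := l.invE h _ (hx t ht)
  rw [map_mul, map_mul, map_mul, map_inv, map_inv, l.fixR h t ht] at h1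
  exact h1

/-- (e) -/
theorem mem_S1_of_norm [Finite P] [Finite H] (l : L φ R E) {x : P}
    (hx : ∀ s ∈ R, x * s * x⁻¹ ∈ V R E) {h : H} (hh : h ≠ 1) : x ∈ l.S1 := by
  have key : x⁻¹ * φ h x ∈ l.S1 := by
    intro s hs
    obtain ⟨r, hr, e, he, hre⟩ := hx s hs
    have h1 : φ h x * s * (φ h x)⁻¹ = r * φ h e := by
      have h2 := congrArg (φ h) hre
      rw [map_mul, map_mul, map_mul, map_inv, l.fixR h s hs, l.fixR h r hr] at h2
      exact h2
    have h3 : x⁻¹ * r * x = s * e⁻¹ := by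
      have h4 : r = x * s * x⁻¹ * e⁻¹ := by rw [hre]; group
      rw [h4]
      calc x⁻¹ * (x * s * x⁻¹ * e⁻¹) * x = s * x⁻¹ * (e⁻¹ * x) := by group
        _ = s * x⁻¹ * (x * e⁻¹) := by rw [l.cen _ (E.inv_mem he) x]
        _ = s * e⁻¹ := by group
    have h5 : x⁻¹ * φ h x * s * (x⁻¹ * φ h x)⁻¹ * s⁻¹ = φ h e * e⁻¹ := by
      calc x⁻¹ * φ h x * s * (x⁻¹ * φ h x)⁻¹ * s⁻¹ = x⁻¹ * (φ h x * s * (φ h x)⁻¹) * x * s⁻¹ := by group
        _ = x⁻¹ * r * (φ h e * x) * s⁻¹ := by rw [h1]; group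
        _ = x⁻¹ * r * (x * φ h e) * s⁻¹ := by rw [l.cen _ (l.invE h e he) x]
        _ = (x⁻¹ * r * x) * φ h e * s⁻¹ := by group
        _ = s * e⁻¹ * (φ h e * s⁻¹) := by rw [h3]; group
        _ = s * e⁻¹ * (s⁻¹ * φ h e) := by rw [l.cen _ (l.invE h e he) s⁻¹]
        _ = s * (e⁻¹ * s⁻¹) * φ h e := by group
        _ = s * (s⁻¹ * e⁻¹) * φ h e := by rw [l.cen _ (E.inv_mem he) s⁻¹]
        _ = e⁻¹ * φ h e := by group
        _ = φ h e * e⁻¹ := l.cen _ (E.inv_mem he) _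
    rw [h5]
    exact E.mul_mem (l.invE h e he) (E.inv_mem he)
  obtain ⟨r, hr, hrx⟩ := l.exists_mem_coset hh l.S1 (fun y hy => l.S1_inv h hy) x key
  have h1 : x = r * (x⁻¹ * r)⁻¹ := by group
  rw [h1]
  exact l.S1.mul_mem (l.R_le_S1 hr) (l.S1.inv_mem hrx)

/-- (d) -/
theorem mem_S1_of_comm [Finite P] [Finite H] (l : L φ R E) {x t : P} (ht : t ∈ R) (ht1 : t ≠ 1)
    (hx : x * t * x⁻¹ * t⁻¹ ∈ E) {h : H} (hh : h ≠ 1) : x ∈ l.S1 := by
  refine l.mem_S1_of_norm (fun s hs => ?_) hh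
  set e := x * t * x⁻¹ * t⁻¹ with he
  have h1 : x * t * x⁻¹ = e * t := by rw [he]; group
  refine l.cent t ht ht1 _ ?_
  have h2 : (x * s * x⁻¹) * (e * t) = (e * t) * (x * s * x⁻¹) := by
    rw [← h1]
    calc x * s * x⁻¹ * (x * t * x⁻¹) = x * (s * t) * x⁻¹ := by group
      _ = x * (t * s) * x⁻¹ := by rw [l.comm_R hs ht]
      _ = x * t * x⁻¹ * (x * s * x⁻¹) := by group
  have h3 : e * ((x * s * x⁻¹) * t) = e * (t * (x * s * x⁻¹)) := by
    calc e * ((x * s * x⁻¹) * t) = (e * (x * s * x⁻¹)) * t := by group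
      _ = ((x * s * x⁻¹) * e) * t := by rw [l.cen e hx]
      _ = (x * s * x⁻¹) * (e * t) := by group
      _ = (e * t) * (x * s * x⁻¹) := h2
      _ = e * (t * (x * s * x⁻¹)) := by group
  exact mul_left_cancel h3

/-- (b) -/
theorem sq_mem (l : L φ R E) {x : P} (hx : x ∈ l.S1) : x * x ∈ E := by
  obtain ⟨t, ht, ht1⟩ := l.neR
  set e := x * t * x⁻¹ * t⁻¹ with he
  have heE : e ∈ E := hx t ht
  have h1 : x * t = e * t * x := by rw [he]; group
  have h2 : x * x * t = t * (x * x) := by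
    calc x * x * t = x * (x * t) := by group
      _ = x * (e * t * x) := by rw [h1]
      _ = (x * e) * (t * x) := by group
      _ = (e * x) * (t * x) := by rw [l.cen e heE x]
      _ = e * (x * t) * x := by group
      _ = e * (e * t * x) * x := by rw [h1]
      _ = (e * e) * (t * (x * x)) := by group
      _ = t * (x * x) := by rw [l.elemE e heE, one_mul]
  obtain ⟨r, hr, f, hf, hrf⟩ := l.cent t ht ht1 _ h2
  by_cases hr1 : r = 1
  · rw [hrf, hr1, one_mul]; exact hf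
  · have h3 : x * r = r * x := by
      have h4 : x * (x * x) = (x * x) * x := by group
      rw [hrf] at h4
      have h5 : (x * r) * f = (r * x) * f := by
        calc x * r * f = x * (r * f) := by group
          _ = r * f * x := h4
          _ = r * (f * x) := by group
          _ = r * (x * f) := by rw [l.cen f hf x]
          _ = r * x * f := by group
      exact mul_right_cancel h5
    obtain ⟨r', hr', e', he', hre'⟩ := l.cent r hr hr1 x h3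
    have h6 : x * x = 1 := by
      rw [hre']
      calc r' * e' * (r' * e') = r' * (e' * r') * e' := by group
        _ = r' * (r' * e') * e' := by rw [l.cen e' he' r']
        _ = (r' * r') * (e' * e') := by group
        _ = 1 := by rw [l.elemR r' hr', l.elemE e' he', one_mul]
    rw [h6]; exact E.one_mem

/-- (c) -/
theorem comm_mem (l : L φ R E) {x y : P} (hx : x ∈ l.S1) (hy : y ∈ l.S1) : x * y * x⁻¹ * y⁻¹ ∈ E := by
  have h1 := l.sq_mem hx
  have h2 := l.sq_mem hy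
  have h3 := l.sq_mem (l.S1.mul_mem hx hy)
  have h4 : x * y * x⁻¹ * y⁻¹ = (x * y * (x * y)) * (y⁻¹ * (x * x)⁻¹ * y) * (y * y)⁻¹ := by group
  have h5 : y⁻¹ * (x * x)⁻¹ * y = (x * x)⁻¹ := by
    rw [← l.cen _ (E.inv_mem h1) y⁻¹]; group
  rw [h4, h5]
  exact E.mul_mem (E.mul_mem h3 (E.inv_mem h1)) (E.inv_mem h2)

/-- `F₁` -/
def F1 (l : L φ R E) (h : H) : Subgroup P where
  carrier := {x | ∃ y ∈ l.S1, ∃ e ∈ E, x = y⁻¹ * φ h y * e}
  one_mem' := ⟨1, l.S1.one_mem, 1, E.one_mem, by simp⟩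
  mul_mem' := by
    rintro _ _ ⟨y, hy, e, he, rfl⟩ ⟨z, hz, f, hf, rfl⟩
    have hyz := l.comm_mem (l.S1.mul_mem (l.S1.inv_mem hy) (l.S1_inv h hy)) (l.S1.inv_mem hz)
    set c := (y⁻¹ * φ h y) * z⁻¹ * (y⁻¹ * φ h y)⁻¹ * z⁻¹⁻¹ with hc
    refine ⟨y * z, l.S1.mul_mem hy hz, c * e * f, E.mul_mem (E.mul_mem hyz he) hf, ?_⟩
    have h1 : (y⁻¹ * φ h y) * z⁻¹ = c * z⁻¹ * (y⁻¹ * φ h y) := by rw [hc]; group
    calc y⁻¹ * φ h y * e * (z⁻¹ * φ h z * f) = y⁻¹ * φ h y * (e * (z⁻¹ * φ h z)) * f := by group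
      _ = y⁻¹ * φ h y * ((z⁻¹ * φ h z) * e) * f := by rw [l.cen e he]
      _ = ((y⁻¹ * φ h y) * z⁻¹) * φ h z * e * f := by group
      _ = (c * z⁻¹ * (y⁻¹ * φ h y)) * φ h z * e * f := by rw [h1]
      _ = c * ((z⁻¹ * y⁻¹ * (φ h y * φ h z)) * (e * f)) := by group
      _ = (z⁻¹ * y⁻¹ * (φ h y * φ h z)) * (e * f) * c := l.cen c hyz _
      _ = (y * z)⁻¹ * φ h (y * z) * (e * f) * c := by rw [map_mul]; group
      _ = (y * z)⁻¹ * φ h (y * z) * ((e * f) * c) := by group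
      _ = (y * z)⁻¹ * φ h (y * z) * (c * (e * f)) := by rw [l.cen c hyz (e * f)]
      _ = (y * z)⁻¹ * φ h (y * z) * (c * e * f) := by group
  inv_mem' := by
    rintro _ ⟨y, hy, e, he, rfl⟩
    have hyz := l.comm_mem (l.S1.inv_mem (l.S1_inv h hy)) hy
    set c := (φ h y)⁻¹ * y * (φ h y)⁻¹⁻¹ * y⁻¹ with hc
    refine ⟨y⁻¹, l.S1.inv_mem hy, c * e⁻¹, E.mul_mem hyz (E.inv_mem he), ?_⟩
    have h1 : (φ h y)⁻¹ * y = c * y * (φ h y)⁻¹ := by rw [hc]; group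
    calc (y⁻¹ * φ h y * e)⁻¹ = e⁻¹ * ((φ h y)⁻¹ * y) := by group
      _ = ((φ h y)⁻¹ * y) * e⁻¹ := l.cen _ (E.inv_mem he) _
      _ = c * (y * (φ h y)⁻¹ * e⁻¹) := by rw [h1]; group
      _ = (y * (φ h y)⁻¹ * e⁻¹) * c := l.cen c hyz _
      _ = y * (φ h y)⁻¹ * (e⁻¹ * c) := by group
      _ = y * (φ h y)⁻¹ * (c * e⁻¹) := by rw [l.cen c hyz e⁻¹]
      _ = y⁻¹⁻¹ * φ h y⁻¹ * (c * e⁻¹) := by rw [map_inv, inv_inv]

theorem mem_F1 (l : L φ R E) {h : H} {x : P} : x ∈ l.F1 h ↔ ∃ y ∈ l.S1, ∃ e ∈ E, x = y⁻¹ * φ h y * e := Iff.rfl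

theorem E_le_F1 (l : L φ R E) {h : H} {e : P} (he : e ∈ E) : e ∈ l.F1 h :=
  ⟨1, l.S1.one_mem, e, he, by simp⟩

theorem F1_le_S1 (l : L φ R E) {h : H} {x : P} (hx : x ∈ l.F1 h) : x ∈ l.S1 := by
  obtain ⟨y, hy, e, he, rfl⟩ := hx
  exact l.S1.mul_mem (l.S1.mul_mem (l.S1.inv_mem hy) (l.S1_inv h hy)) (l.E_le_S1 he)

theorem F1_inv (l : L φ R E) {h : H} (k : H) {x : P} (hx : x ∈ l.F1 h) : φ k x ∈ l.F1 h := by
  obtain ⟨y, hy, e, he, rfl⟩ := hx
  refine ⟨φ k y, l.S1_inv k hy, φ k e, l.invE k e he, ?_⟩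
  have h1 : φ k (φ h y) = φ h (φ k y) := by
    rw [← MulAut.mul_apply, ← MulAut.mul_apply, ← map_mul, ← map_mul, mul_comm]
  rw [map_mul, map_mul, map_inv, h1]

/-- (f2) -/
theorem F1_inf [Finite H] (l : L φ R E) {h : H} {x : P} (hx : x ∈ l.F1 h) (hV : x ∈ V R E) : x ∈ E := by
  obtain ⟨y, hy, e, he, rfl⟩ := hx
  obtain ⟨r, hr, f, hf, hrf⟩ := hV
  have h1 : φ h y = y * (r * (f * e⁻¹)) := by
    have : φ h y = y * (y⁻¹ * φ h y * e) * e⁻¹ := by group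
    rw [this, hrf]; group
  have hg : f * e⁻¹ ∈ E := E.mul_mem hf (E.inv_mem he)
  set g := f * e⁻¹ with hgdef
  have key : ∀ n : ℕ, ∃ e' ∈ E, φ (h ^ n) y = y * r ^ n * e' := by
    intro n
    induction n with
    | zero => exact ⟨1, E.one_mem, by simp⟩
    | succ n ih =>
      obtain ⟨e', he', hn⟩ := ih
      refine ⟨g * φ h e', E.mul_mem hg (l.invE h e' he'), ?_⟩
      rw [pow_succ', map_mul, MulAut.mul_apply, hn, map_mul, map_mul, map_pow, l.fixR h r hr, h1]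
      calc y * (r * g) * r ^ n * φ h e' = y * r * (g * r ^ n) * φ h e' := by group
        _ = y * r * (r ^ n * g) * φ h e' := by rw [l.cen g hg]
        _ = y * r ^ (n + 1) * (g * φ h e') := by rw [pow_succ']; group
  obtain ⟨e', he', hn⟩ := key (orderOf h)
  rw [pow_orderOf_eq_one, map_one, MulAut.one_apply] at hn
  have h2 : r ^ orderOf h = e'⁻¹ := by
    have : y * (r ^ orderOf h * e') = y * 1 := by rw [mul_one, ← mul_assoc, ← hn]
    exact eq_inv_of_mul_eq_one_left (mul_left_cancel this)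
  have hodd : Odd (orderOf h) := Odd.of_dvd_nat l.odd (orderOf_dvd_natCard h)
  obtain ⟨m, hm⟩ := hodd
  have h3 : r ^ orderOf h = r := by
    rw [hm, pow_succ, pow_mul, pow_two, l.elemR r hr, one_pow, one_mul]
  rw [h3] at h2
  have h4 : r = 1 := l.disj r hr (h2 ▸ E.inv_mem he')
  rw [hrf, h4, one_mul]; exact hf

/-- (g) -/
theorem exists_RF [Finite P] [Finite H] (l : L φ R E) {h : H} (hh : h ≠ 1) {x : P} (hx : x ∈ l.S1) :
    ∃ r ∈ R, ∃ f ∈ l.F1 h, x = r * f := by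
  obtain ⟨r, hr, hrx⟩ := l.exists_mem_coset hh (l.F1 h) (fun y hy => l.F1_inv h hy) x
    ⟨x, hx, 1, E.one_mem, (mul_one _).symm⟩
  refine ⟨r, hr, (x⁻¹ * r)⁻¹, (l.F1 h).inv_mem hrx, by group⟩

theorem fix_E (l : L φ R E) {h : H} (hh : h ≠ 1) {e : P} (he : e ∈ E) (hf : φ h e = e) : e = 1 :=
  l.disj e (l.fpf h hh e hf) he

theorem exists_h [Finite P] (l : L φ R E) : ∃ h : H, h ≠ 1 := by
  by_contra hno
  push Not at hno
  obtain ⟨e, he, he1⟩ := exists_ne_one (A := E) (by have := l.four; omega)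
  have : E ≤ zpowers e := by
    intro x hx
    by_cases hx1 : x = 1
    · rw [hx1]; exact one_mem _
    · obtain ⟨h, hh⟩ := l.trans e he he1 x hx hx1
      rw [hno h, map_one, MulAut.one_apply] at hh
      rw [← hh]; exact mem_zpowers e
  have h1 := Subgroup.card_le_of_le this
  rw [Nat.card_zpowers] at h1
  have h2 : orderOf e ≤ 2 := orderOf_le_of_pow_eq_one (by norm_num) (by rw [pow_two]; exact l.elemE e he)
  have := l.four
  omega

/-- (h) -/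
theorem exists_F1 [Finite P] [Finite H] (l : L φ R E) {h : H} (hh : h ≠ 1) (hV : ∃ x : P, x ∉ V R E) :
    ∃ x ∈ l.F1 h, x ∉ E := by
  have hlt : l.Vs < ⊤ := by
    rw [lt_top_iff_ne_top]
    intro htop
    obtain ⟨x, hx⟩ := hV
    apply hx
    have : x ∈ l.Vs := by rw [htop]; exact mem_top x
    exact this
  have hnil : Group.IsNilpotent P := l.two.isNilpotent
  have hnc := Group.normalizerCondition_of_isNilpotent (G := P) _ hlt
  obtain ⟨x, hxn, hxV⟩ := SetLike.exists_of_lt hnc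
  have hxS : x ∈ l.S1 := by
    refine l.mem_S1_of_norm (fun s hs => ?_) hh
    have : x * s * x⁻¹ ∈ l.Vs := (mem_normalizer_iff.mp hxn s).mp (mem_V_R hs)
    exact this
  obtain ⟨r, hr, f, hf, hrf⟩ := l.exists_RF hh hxS
  refine ⟨f, hf, fun hfE => hxV ?_⟩
  exact ⟨r, hr, f, hfE, hrf⟩

theorem ne_one_of_F1 [Finite H] (l : L φ R E) {h : H} {x t : P} (hx : x ∈ l.F1 h) (hxE : x ∉ E)
    (ht : t ∈ R) (ht1 : t ≠ 1) : x * t * x⁻¹ * t⁻¹ ≠ 1 := by
  intro h1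
  apply hxE
  apply l.F1_inf hx
  apply l.cent t ht ht1
  have : x * t = (x * t * x⁻¹ * t⁻¹) * (t * x) := by group
  rw [this, h1, one_mul]

/-- elements of `F₁` with the same commutator with `t` agree modulo `E` -/
theorem eq_of_comm [Finite H] (l : L φ R E) {h : H} {x y t : P} (hx : x ∈ l.F1 h) (hy : y ∈ l.F1 h)
    (ht : t ∈ R) (ht1 : t ≠ 1) (hxy : x * t * x⁻¹ * t⁻¹ = y * t * y⁻¹ * t⁻¹) : ∃ e ∈ E, y = x * e := by
  refine ⟨x⁻¹ * y, ?_, by group⟩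
  apply l.F1_inf ((l.F1 h).mul_mem ((l.F1 h).inv_mem hx) hy)
  apply l.cent t ht ht1
  have h1 : x * t * x⁻¹ = y * t * y⁻¹ := mul_right_cancel hxy
  calc x⁻¹ * y * t = x⁻¹ * (y * t * y⁻¹) * y := by group
    _ = x⁻¹ * (x * t * x⁻¹) * y := by rw [h1]
    _ = t * (x⁻¹ * y) := by group

theorem map_comm (l : L φ R E) (k : H) {x t : P} (ht : t ∈ R) :
    φ k x * t * (φ k x)⁻¹ * t⁻¹ = φ k (x * t * x⁻¹ * t⁻¹) := by
  rw [map_mul, map_mul, map_mul, map_inv, map_inv, l.fixR k t ht]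

/-- (i) -/
theorem trans_F1 [Finite H] (l : L φ R E) {h : H} {x y : P} (hx : x ∈ l.F1 h) (hxE : x ∉ E)
    (hy : y ∈ l.F1 h) (hyE : y ∉ E) : ∃ k : H, ∃ e ∈ E, y = φ k x * e := by
  obtain ⟨t, ht, ht1⟩ := l.neR
  obtain ⟨k, hk⟩ := l.trans _ (l.F1_le_S1 hx t ht) (l.ne_one_of_F1 hx hxE ht ht1)
    _ (l.F1_le_S1 hy t ht) (l.ne_one_of_F1 hy hyE ht ht1)
  refine ⟨k, l.eq_of_comm (l.F1_inv k hx) hy ht ht1 ?_⟩
  rw [l.map_comm k ht, hk]

/-! ### the first layer is abelian -/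

theorem cc_inv (l : L φ R E) {x y : P} (hx : x ∈ l.S1) (hy : y ∈ l.S1) :
    x * y * x⁻¹ * y⁻¹ = y * x * y⁻¹ * x⁻¹ := by
  have h1 := l.comm_mem hy hx
  have h2 : x * y * x⁻¹ * y⁻¹ = (y * x * y⁻¹ * x⁻¹)⁻¹ := by group
  rw [h2, l.inv_E h1]

theorem cc_mul (l : L φ R E) {x y z : P} (hx : x ∈ l.S1) (_hy : y ∈ l.S1) (hz : z ∈ l.S1) :
    x * (y * z) * x⁻¹ * (y * z)⁻¹ = (x * y * x⁻¹ * y⁻¹) * (x * z * x⁻¹ * z⁻¹) := by
  have h1 := l.comm_mem hx hz
  calc x * (y * z) * x⁻¹ * (y * z)⁻¹ = (x * y * x⁻¹) * (x * z * x⁻¹ * z⁻¹) * y⁻¹ := by group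
    _ = (x * z * x⁻¹ * z⁻¹) * (x * y * x⁻¹) * y⁻¹ := by rw [l.cen _ h1 (x * y * x⁻¹)]
    _ = (x * z * x⁻¹ * z⁻¹) * (x * y * x⁻¹ * y⁻¹) := by group
    _ = (x * y * x⁻¹ * y⁻¹) * (x * z * x⁻¹ * z⁻¹) := l.cen _ h1 _

theorem cc_E (l : L φ R E) {x y e : P} (he : e ∈ E) : x * (y * e) * x⁻¹ * (y * e)⁻¹ = x * y * x⁻¹ * y⁻¹ := by
  calc x * (y * e) * x⁻¹ * (y * e)⁻¹ = x * y * (e * x⁻¹) * e⁻¹ * y⁻¹ := by group
    _ = x * y * (x⁻¹ * e) * e⁻¹ * y⁻¹ := by rw [l.cen e he]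
    _ = x * y * x⁻¹ * y⁻¹ := by group

theorem map_cc (k : H) (x y : P) : φ k (x * y * x⁻¹ * y⁻¹) = φ k x * φ k y * (φ k x)⁻¹ * (φ k y)⁻¹ := by
  rw [map_mul, map_mul, map_mul, map_inv, map_inv]

/-- the first layer is abelian (field-free form of "the alternating `H`-maps `E × E → E` vanish") -/
theorem F1_comm [Finite P] [Finite H] (l : L φ R E) {h₀ : H} {x y : P} (hx : x ∈ l.F1 h₀)
    (hy : y ∈ l.F1 h₀) : x * y = y * x := by
  by_cases hxE : x ∈ E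
  · exact l.cen x hxE y
  by_cases hyE : y ∈ E
  · exact (l.cen y hyE x).symm
  obtain ⟨t, ht, ht1⟩ := l.neR
  obtain ⟨e₀, he₀⟩ : ∃ e₀ : P, e₀ = x * t * x⁻¹ * t⁻¹ := ⟨_, rfl⟩
  have he₀E : e₀ ∈ E := by rw [he₀]; exact l.F1_le_S1 hx t ht
  have he₀1 : e₀ ≠ 1 := by rw [he₀]; exact l.ne_one_of_F1 hx hxE ht ht1
  have hk : ∀ k : H, φ k x ∈ l.F1 h₀ := fun k => l.F1_inv k hx
  have hkS : ∀ k : H, φ k x ∈ l.S1 := fun k => l.F1_le_S1 (hk k)
  have hxS : x ∈ l.S1 := l.F1_le_S1 hx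
  have hτ : ∀ k : H, φ k x * t * (φ k x)⁻¹ * t⁻¹ = φ k e₀ := fun k => by rw [he₀]; exact l.map_comm k ht
  have hmul : ∀ a b : P, b ∈ l.S1 → (a * b) * t * (a * b)⁻¹ * t⁻¹ =
      (a * t * a⁻¹ * t⁻¹) * (b * t * b⁻¹ * t⁻¹) := by
    intro a b hb
    have h1 := hb t ht
    calc (a * b) * t * (a * b)⁻¹ * t⁻¹ = a * (b * t * b⁻¹ * t⁻¹) * (t * a⁻¹ * t⁻¹) := by group
      _ = (b * t * b⁻¹ * t⁻¹) * a * (t * a⁻¹ * t⁻¹) := by rw [l.cen _ h1 a]
      _ = (b * t * b⁻¹ * t⁻¹) * (a * t * a⁻¹ * t⁻¹) := by group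
      _ = _ := l.cen _ h1 _
  -- the function `g`
  let g : H → P := fun k => x * φ k x * x⁻¹ * (φ k x)⁻¹
  have hgE : ∀ k, g k ∈ E := fun k => l.comm_mem hxS (hkS k)
  have hg1 : g 1 = 1 := by
    show x * φ 1 x * x⁻¹ * (φ 1 x)⁻¹ = 1
    rw [map_one, MulAut.one_apply]; group
  -- if `a b ∈ φ_k x E` then `g k = [x,a][x,b]`
  have hgk : ∀ (k : H) (a b : P), a ∈ l.F1 h₀ → b ∈ l.F1 h₀ →
      (a * t * a⁻¹ * t⁻¹) * (b * t * b⁻¹ * t⁻¹) = φ k e₀ →
      g k = (x * a * x⁻¹ * a⁻¹) * (x * b * x⁻¹ * b⁻¹) := by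
    intro k a b ha hb hab
    obtain ⟨e, he, hke⟩ := l.eq_of_comm ((l.F1 h₀).mul_mem ha hb) (hk k) ht ht1 (by
      rw [hτ, ← hab, hmul a b (l.F1_le_S1 hb)])
    show x * φ k x * x⁻¹ * (φ k x)⁻¹ = _
    rw [hke, l.cc_E he, l.cc_mul hxS (l.F1_le_S1 ha) (l.F1_le_S1 hb)]
  have hsymm : ∀ k : H, g k = φ k (g k⁻¹) := by
    intro k
    show x * φ k x * x⁻¹ * (φ k x)⁻¹ = φ k (x * φ k⁻¹ x * x⁻¹ * (φ k⁻¹ x)⁻¹)
    rw [map_cc, ← MulAut.mul_apply, ← map_mul, mul_inv_cancel, map_one, MulAut.one_apply]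
    exact l.cc_inv hxS (hkS k)
  have hsq : ∀ k : H, g (k * k) = 1 := by
    intro h
    by_cases hh : h = 1
    · rw [hh, mul_one]; exact hg1
    -- `k = 1 + h`
    have hne : e₀ * φ h e₀ ≠ 1 := by
      intro h1
      have h2 : φ h e₀ = e₀ := by
        rw [← l.inv_E he₀E]
        exact (eq_inv_of_mul_eq_one_right (by rw [l.inv_E he₀E]; exact h1))
      exact he₀1 (l.fix_E hh he₀E h2)
    obtain ⟨k, hke⟩ := l.trans e₀ he₀E he₀1 (e₀ * φ h e₀) (E.mul_mem he₀E (l.invE h _ he₀E)) hne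
    -- (1)
    have h1 : g k = g h := by
      have := hgk k x (φ h x) hx (hk h) (by rw [hτ h, hke, he₀])
      rw [this]
      show x * x * x⁻¹ * x⁻¹ * (x * φ h x * x⁻¹ * (φ h x)⁻¹) = x * φ h x * x⁻¹ * (φ h x)⁻¹
      group
    -- (3)
    have h3 : φ h⁻¹ e₀ * φ k⁻¹ e₀ = φ (h * k)⁻¹ e₀ := by
      have h4 : e₀ = φ k e₀ * φ h e₀ := by
        rw [hke, mul_assoc, l.elemE _ (l.invE h _ he₀E), mul_one]
      have h5 : φ (h * k)⁻¹ e₀ = φ (h * k)⁻¹ (φ k e₀ * φ h e₀) := by rw [← h4]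
      rw [h5, map_mul, ← MulAut.mul_apply, ← MulAut.mul_apply, ← map_mul, ← map_mul]
      have h6 : (h * k)⁻¹ * k = h⁻¹ := by rw [mul_inv, inv_mul_cancel_right]
      have h7 : (h * k)⁻¹ * h = k⁻¹ := by rw [mul_comm h k, mul_inv, inv_mul_cancel_right]
      rw [h6, h7]
    have h4 : g (h * k)⁻¹ = g h⁻¹ * g k⁻¹ :=
      hgk _ (φ h⁻¹ x) (φ k⁻¹ x) (hk _) (hk _) (by rw [hτ, hτ, h3])
    -- (4)
    have hlin : ∀ v ∈ E, φ k v * φ h v = v := by
      intro v hv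
      by_cases hv1 : v = 1
      · rw [hv1, map_one, map_one, one_mul]
      · obtain ⟨m, hm⟩ := l.trans e₀ he₀E he₀1 v hv hv1
        have h8 : φ k e₀ * φ h e₀ = e₀ := by
          rw [hke, mul_assoc, l.elemE _ (l.invE h _ he₀E), mul_one]
        have h9 : φ k v = φ m (φ k e₀) := by
          rw [← hm, ← MulAut.mul_apply, ← MulAut.mul_apply, ← map_mul, ← map_mul, mul_comm]
        have h10 : φ h v = φ m (φ h e₀) := by
          rw [← hm, ← MulAut.mul_apply, ← MulAut.mul_apply, ← map_mul, ← map_mul, mul_comm]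
        rw [h9, h10, ← map_mul, h8, hm]
    have h5 : g (h * k) = g h := by
      rw [hsymm (h * k), h4, map_mul]
      have h6 : φ (h * k) (g h⁻¹) = φ k (g h) := by
        rw [hsymm h, ← MulAut.mul_apply, ← map_mul, mul_comm]
      have h7 : φ (h * k) (g k⁻¹) = φ h (g h) := by
        rw [← h1, hsymm k, ← MulAut.mul_apply, ← map_mul]
      rw [h6, h7]
      exact hlin _ (hgE h)
    -- (5)
    have h6 : g (h * k) = g h * g (h * h) :=
      hgk _ (φ h x) (φ (h * h) x) (hk _) (hk _) (by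
        rw [hτ, hτ, map_mul φ h k, map_mul φ h h, MulAut.mul_apply, MulAut.mul_apply, hke, map_mul])
    rw [h5] at h6
    exact left_eq_mul.mp h6
  have hall : ∀ k : H, g k = 1 := by
    intro k
    obtain ⟨m, hm⟩ : Odd (orderOf k) := Odd.of_dvd_nat l.odd (orderOf_dvd_natCard k)
    have h1 : k = k ^ (m + 1) * k ^ (m + 1) := by
      rw [← pow_add]
      have : m + 1 + (m + 1) = orderOf k + 1 := by omega
      rw [this, pow_succ, pow_orderOf_eq_one, one_mul]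
    rw [h1]; exact hsq _
  obtain ⟨k, e, he, hye⟩ := l.trans_F1 hx hxE hy hyE
  have h1 : x * y * x⁻¹ * y⁻¹ = 1 := by
    rw [hye, l.cc_E he]; exact hall k
  have h2 : x * y = (x * y * x⁻¹ * y⁻¹) * (y * x) := by group
  rw [h2, h1, one_mul]

/-! ### `F₁` is central modulo `E` -/

theorem normalE (l : L φ R E) : E.Normal := ⟨fun e he x => by
  rw [← l.cen e he x, mul_assoc, mul_inv_cancel, mul_one]; exact he⟩

/-- the elements that are central modulo `E` -/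
def Z2 (l : L φ R E) : Subgroup P where
  carrier := {x | ∀ y : P, x * y * x⁻¹ * y⁻¹ ∈ E}
  one_mem' := fun y => by simp
  mul_mem' := by
    intro a b ha hb y
    have h1 := ha y
    have h2 := hb y
    have h3 : a * b * y * (a * b)⁻¹ * y⁻¹ = a * (b * y * b⁻¹ * y⁻¹) * a⁻¹ * (a * y * a⁻¹ * y⁻¹) := by group
    rw [h3, ← l.cen _ h2 a]
    have h4 : b * y * b⁻¹ * y⁻¹ * a * a⁻¹ * (a * y * a⁻¹ * y⁻¹) =
      (b * y * b⁻¹ * y⁻¹) * (a * y * a⁻¹ * y⁻¹) := by group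
    rw [h4]
    exact E.mul_mem h2 h1
  inv_mem' := by
    intro x hx t
    have h1 := hx t
    have h2 : x⁻¹ * t * x⁻¹⁻¹ * t⁻¹ = x⁻¹ * (x * t * x⁻¹ * t⁻¹)⁻¹ * x := by group
    rw [h2, ← l.cen _ (E.inv_mem h1) x⁻¹]
    have h3 : (x * t * x⁻¹ * t⁻¹)⁻¹ * x⁻¹ * x = (x * t * x⁻¹ * t⁻¹)⁻¹ := by group
    rw [h3]
    exact E.inv_mem h1

theorem Z2_inv (l : L φ R E) (k : H) {x : P} (hx : x ∈ l.Z2) : φ k x ∈ l.Z2 := by
  intro y
  have h1 := l.invE k _ (hx (φ k⁻¹ y))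
  rw [map_cc, ← MulAut.mul_apply, ← map_mul, mul_inv_cancel, map_one, MulAut.one_apply] at h1
  exact h1

theorem E_le_Z2 (l : L φ R E) {e : P} (he : e ∈ E) : e ∈ l.Z2 := by
  intro y
  rw [l.cen e he y]
  have : y * e * e⁻¹ * y⁻¹ = 1 := by group
  rw [this]; exact E.one_mem

/-- (k) -/
theorem F1_le_Z2 [Finite P] [Finite H] (l : L φ R E) {h : H} (hh : h ≠ 1) {x : P}
    (hx : x ∈ l.F1 h) : x ∈ l.Z2 := by
  by_cases hV : ∃ x : P, x ∉ V R E
  swap
  · push Not at hV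
    exact l.E_le_Z2 (l.F1_inf hx (hV x))
  have hpf : Fact (Nat.Prime 2) := ⟨Nat.prime_two⟩
  have hn := l.normalE
  obtain ⟨f₁, hf₁, hf₁E⟩ := l.exists_F1 hh hV
  have hnt : Nontrivial (P ⧸ E) := by
    refine ⟨⟨(f₁ : P ⧸ E), 1, ?_⟩⟩
    rw [Ne, QuotientGroup.eq_one_iff]
    exact hf₁E
  have hc := (l.two.to_quotient E).center_nontrivial
  obtain ⟨⟨c, hc'⟩, hc1⟩ := exists_ne (1 : center (P ⧸ E))
  obtain ⟨z, rfl⟩ := QuotientGroup.mk_surjective c
  have hzE : z ∉ E := by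
    intro hz
    apply hc1
    apply Subtype.ext
    exact (QuotientGroup.eq_one_iff z).mpr hz
  have hzZ : z ∈ l.Z2 := by
    intro y
    rw [← QuotientGroup.eq_one_iff, QuotientGroup.mk_mul, QuotientGroup.mk_mul, QuotientGroup.mk_mul,
      QuotientGroup.mk_inv, QuotientGroup.mk_inv, ← mem_center_iff.mp hc' (y : P ⧸ E)]
    group
  have hzS : z ∈ l.S1 := fun t _ => hzZ t
  obtain ⟨r, hr, f, hf, hrf⟩ := l.exists_RF hh hzS
  by_cases hfE : f ∈ E
  · -- `r` is central modulo `E`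
    have hr1 : r ≠ 1 := by
      rintro rfl
      rw [one_mul] at hrf
      exact hzE (hrf ▸ hfE)
    have hrZ : r ∈ l.Z2 := by
      have : r = z * f⁻¹ := by rw [hrf]; group
      rw [this]
      exact l.Z2.mul_mem hzZ (l.Z2.inv_mem (l.E_le_Z2 hfE))
    have hall : ∀ y : P, y ∈ l.S1 := by
      intro y
      refine l.mem_S1_of_comm hr hr1 ?_ hh
      have h1 := E.inv_mem (hrZ y)
      have h2 : (r * y * r⁻¹ * y⁻¹)⁻¹ = y * r * y⁻¹ * r⁻¹ := by group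
      rwa [h2] at h1
    intro y
    exact l.comm_mem (l.F1_le_S1 hx) (hall y)
  · set f' := f⁻¹ * φ h f with hf'
    have hf'F : f' ∈ l.F1 h := (l.F1 h).mul_mem ((l.F1 h).inv_mem hf) (l.F1_inv h hf)
    have hf'Z : f' ∈ l.Z2 := by
      have h1 : f' = z⁻¹ * φ h z := by
        rw [hrf, map_mul, l.fixR h r hr, hf']; group
      rw [h1]
      exact l.Z2.mul_mem (l.Z2.inv_mem hzZ) (l.Z2_inv h hzZ)
    have hf'E : f' ∉ E := by
      intro hE
      obtain ⟨s, hs, hsE⟩ := l.exists_mem_coset hh E (fun y hy => l.invE h y hy) f hE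
      apply hfE
      apply l.F1_inf hf
      refine ⟨s, hs, (f⁻¹ * s)⁻¹, E.inv_mem hsE, by group⟩
    by_cases hxE : x ∈ E
    · exact l.E_le_Z2 hxE
    · obtain ⟨k, e, he, hxe⟩ := l.trans_F1 hf'F hf'E hx hxE
      rw [hxe]
      exact l.Z2.mul_mem (l.Z2_inv k hf'Z) (l.E_le_Z2 he)

/-- (j) -/
theorem card_F1 [Finite P] [Finite H] (l : L φ R E) {h : H} (hh : h ≠ 1) (hV : ∃ x : P, x ∉ V R E) :
    Nat.card (l.F1 h) = Nat.card E * Nat.card E := by
  obtain ⟨t, ht, ht1⟩ := l.neR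
  obtain ⟨f, hf, hfE⟩ := l.exists_F1 hh hV
  let τ : l.F1 h →* E :=
    { toFun := fun x => ⟨(x : P) * t * (x : P)⁻¹ * t⁻¹, l.F1_le_S1 x.2 t ht⟩
      map_one' := by apply Subtype.ext; simp
      map_mul' := by
        intro a b
        apply Subtype.ext
        show ((a : P) * b) * t * ((a : P) * b)⁻¹ * t⁻¹ =
          ((a : P) * t * (a : P)⁻¹ * t⁻¹) * ((b : P) * t * (b : P)⁻¹ * t⁻¹)
        have h1 := l.F1_le_S1 b.2 t ht
        calc ((a : P) * b) * t * ((a : P) * b)⁻¹ * t⁻¹ =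
            a * ((b : P) * t * (b : P)⁻¹ * t⁻¹) * (t * (a : P)⁻¹ * t⁻¹) := by group
          _ = ((b : P) * t * (b : P)⁻¹ * t⁻¹) * a * (t * (a : P)⁻¹ * t⁻¹) := by rw [l.cen _ h1 a]
          _ = ((b : P) * t * (b : P)⁻¹ * t⁻¹) * ((a : P) * t * (a : P)⁻¹ * t⁻¹) := by group
          _ = _ := l.cen _ h1 _ }
  have hτ : ∀ x : l.F1 h, (τ x : P) = (x : P) * t * (x : P)⁻¹ * t⁻¹ := fun x => rfl
  have hker : τ.ker = E.subgroupOf (l.F1 h) := by
    ext x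
    rw [MonoidHom.mem_ker, mem_subgroupOf]
    constructor
    · intro h1
      have h2 := congrArg Subtype.val h1
      rw [hτ] at h2
      by_contra hxE
      exact l.ne_one_of_F1 x.2 hxE ht ht1 h2
    · intro hxE
      apply Subtype.ext
      rw [hτ, l.cen _ hxE t]
      show t * (x : P) * (x : P)⁻¹ * t⁻¹ = 1
      group
  have hsurj : Function.Surjective τ := by
    intro e
    by_cases he1 : (e : P) = 1
    · exact ⟨1, by rw [map_one]; exact Subtype.ext he1.symm⟩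
    · obtain ⟨k, hk⟩ := l.trans _ (l.F1_le_S1 hf t ht) (l.ne_one_of_F1 hf hfE ht ht1) e e.2 he1
      refine ⟨⟨φ k f, l.F1_inv k hf⟩, Subtype.ext ?_⟩
      rw [hτ]
      show φ k f * t * (φ k f)⁻¹ * t⁻¹ = e
      rw [l.map_comm k ht, hk]
  have h1 := Subgroup.card_mul_index τ.ker
  have h2 : τ.ker.index = Nat.card E := by
    rw [Subgroup.index_ker, MonoidHom.range_eq_top.mpr hsurj, Subgroup.card_top]
  have h3 : Nat.card τ.ker = Nat.card E := by
    rw [hker]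
    exact Nat.card_congr (Subgroup.subgroupOfEquivOfLe (fun e he => l.E_le_F1 he)).toEquiv
  rw [← h1, h2, h3]

end L

/-! ### the quotient by `E` -/

/-- the induced action on `P/N` -/
def quo (φ : H →* MulAut P) (N : Subgroup P) [N.Normal] (hN : ∀ h : H, ∀ x ∈ N, φ h x ∈ N) :
    H →* MulAut (P ⧸ N) where
  toFun h := QuotientGroup.congr N N (φ h) (by
    apply le_antisymm
    · rintro _ ⟨x, hx, rfl⟩
      exact hN h x hx
    · intro x hx
      refine ⟨φ h⁻¹ x, hN _ x hx, ?_⟩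
      show φ h (φ h⁻¹ x) = x
      rw [← MulAut.mul_apply, ← map_mul, mul_inv_cancel, map_one, MulAut.one_apply])
  map_one' := by
    ext x
    obtain ⟨x, rfl⟩ := QuotientGroup.mk_surjective x
    rw [QuotientGroup.congr_mk, map_one, MulAut.one_apply, MulAut.one_apply]
  map_mul' h k := by
    ext x
    obtain ⟨x, rfl⟩ := QuotientGroup.mk_surjective x
    rw [MulAut.mul_apply, QuotientGroup.congr_mk, QuotientGroup.congr_mk, QuotientGroup.congr_mk, map_mul,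
      MulAut.mul_apply]

theorem card_map_mk (N : Subgroup P) [N.Normal] {A : Subgroup P} (h : N ≤ A) :
    Nat.card (A.map (QuotientGroup.mk' N)) * Nat.card N = Nat.card A := by
  rw [← Subgroup.relIndex_ker, QuotientGroup.ker_mk', mul_comm]
  have h1 := Subgroup.card_mul_index (N.subgroupOf A)
  rw [← h1, Nat.card_congr (Subgroup.subgroupOfEquivOfLe h).toEquiv]
  rfl

theorem quo_mk (φ : H →* MulAut P) (N : Subgroup P) [N.Normal] (hN : ∀ h : H, ∀ x ∈ N, φ h x ∈ N) (h : H) (x : P) :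
    quo φ N hN h (x : P ⧸ N) = ((φ h x : P) : P ⧸ N) := rfl

/-- `[P, H]` -/
def Fc (φ : H →* MulAut P) : Subgroup P := closure {z : P | ∃ (x : P) (h : H), z = x⁻¹ * φ h x}

theorem mem_Fc (φ : H →* MulAut P) (x : P) (h : H) : x⁻¹ * φ h x ∈ Fc φ := subset_closure ⟨x, h, rfl⟩

theorem Fc_map (φ : H →* MulAut P) (N : Subgroup P) [N.Normal] (hN : ∀ h : H, ∀ x ∈ N, φ h x ∈ N) :
    (Fc φ).map (QuotientGroup.mk' N) = Fc (quo φ N hN) := by
  rw [Fc, MonoidHom.map_closure, Fc]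
  congr 1
  ext z
  constructor
  · rintro ⟨_, ⟨x, h, rfl⟩, rfl⟩
    exact ⟨(x : P ⧸ N), h, rfl⟩
  · rintro ⟨x, h, rfl⟩
    obtain ⟨x, rfl⟩ := QuotientGroup.mk_surjective x
    exact ⟨x⁻¹ * φ h x, ⟨x, h, rfl⟩, rfl⟩

theorem Fc_conj (φ : H →* MulAut P) {z : P} (hz : z ∈ Fc φ) (y : P) : y * z * y⁻¹ ∈ Fc φ := by
  refine closure_induction (p := fun z _ => y * z * y⁻¹ ∈ Fc φ) ?_ ?_ ?_ ?_ hz
  · rintro _ ⟨x, h, rfl⟩
    have h1 : y * (x⁻¹ * φ h x) * y⁻¹ = ((x * y⁻¹)⁻¹ * φ h (x * y⁻¹)) * (y⁻¹⁻¹ * φ h y⁻¹)⁻¹ := by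
      rw [map_mul, map_inv]; group
    rw [h1]
    exact (Fc φ).mul_mem (mem_Fc φ _ _) ((Fc φ).inv_mem (mem_Fc φ _ _))
  · rw [mul_one, mul_inv_cancel]; exact (Fc φ).one_mem
  · intro a b _ _ ha hb
    have h1 : y * (a * b) * y⁻¹ = (y * a * y⁻¹) * (y * b * y⁻¹) := by group
    rw [h1]; exact (Fc φ).mul_mem ha hb
  · intro a _ ha
    have h1 : y * a⁻¹ * y⁻¹ = (y * a * y⁻¹)⁻¹ := by group
    rw [h1]; exact (Fc φ).inv_mem ha

theorem Fc_inv (φ : H →* MulAut P) {z : P} (hz : z ∈ Fc φ) (k : H) : φ k z ∈ Fc φ := by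
  refine closure_induction (p := fun z _ => φ k z ∈ Fc φ) ?_ ?_ ?_ ?_ hz
  · rintro _ ⟨x, h, rfl⟩
    have h1 : φ k (x⁻¹ * φ h x) = (φ k x)⁻¹ * φ h (φ k x) := by
      rw [map_mul, map_inv, ← MulAut.mul_apply, ← MulAut.mul_apply, ← map_mul, ← map_mul, mul_comm]
    rw [h1]; exact mem_Fc φ _ _
  · rw [map_one]; exact (Fc φ).one_mem
  · intro a b _ _ ha hb
    rw [map_mul]; exact (Fc φ).mul_mem ha hb
  · intro a _ ha
    rw [map_inv]; exact (Fc φ).inv_mem ha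

namespace L

theorem exists_third [Finite P] (l : L φ R E) (e : P) :
    ∃ f ∈ E, f ≠ 1 ∧ f * e ≠ 1 ∧ f ≠ e := by
  by_contra hno
  push Not at hno
  have : (E : Set P) ⊆ {1, e, e⁻¹} := by
    intro f hf
    by_cases h1 : f = 1
    · simp [h1]
    by_cases h2 : f * e = 1
    · rw [eq_inv_of_mul_eq_one_left h2]; simp
    · rw [hno f hf h1 h2]; simp
  have h1 := Set.ncard_le_ncard this (Set.toFinite _)
  have h2 : ({1, e, e⁻¹} : Set P).ncard ≤ 3 := (Set.ncard_insert_le _ _).trans (by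
    have := Set.ncard_insert_le e ({e⁻¹} : Set P)
    rw [Set.ncard_singleton] at this
    omega)
  have h3 : (E : Set P).ncard = Nat.card E := rfl
  have := l.four
  omega

theorem E_le_Fc [Finite P] (l : L φ R E) : E ≤ Fc φ := by
  intro e he
  by_cases he1 : e = 1
  · rw [he1]; exact one_mem _
  obtain ⟨f, hf, hf1, hfe, -⟩ := l.exists_third e
  obtain ⟨h, hh⟩ := l.trans f hf hf1 (f * e) (E.mul_mem hf he) hfe
  have h1 : e = f⁻¹ * φ h f := by rw [hh]; group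
  rw [h1]; exact mem_Fc φ f h

theorem quoL [Finite P] [Finite H] (l : L φ R E) [E.Normal] {h : H} (hh : h ≠ 1)
    (hV : ∃ x : P, x ∉ V R E) : L (quo φ E l.invE) (R.map (QuotientGroup.mk' E))
      ((l.F1 h).map (QuotientGroup.mk' E)) := by
  have hS : ∀ {x t : P}, t ∈ R → t ≠ 1 → ((x : P ⧸ E) * (t : P ⧸ E) = (t : P ⧸ E) * (x : P ⧸ E)) →
      x ∈ l.S1 := by
    intro x t ht ht1 hx
    refine l.mem_S1_of_comm ht ht1 ?_ hh
    rw [← QuotientGroup.eq_one_iff, QuotientGroup.mk_mul, QuotientGroup.mk_mul, QuotientGroup.mk_mul,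
      QuotientGroup.mk_inv, QuotientGroup.mk_inv, hx]
    group
  refine
    { two := l.two.to_quotient E
      elemR := ?_, elemE := ?_, cen := ?_, disj := ?_, neR := ?_, four := ?_, invE := ?_, fixR := ?_
      fpf := ?_, trans := ?_, odd := l.odd, cent := ?_ }
  · rintro _ ⟨r, hr, rfl⟩
    show ((r : P) : P ⧸ E) * ((r : P) : P ⧸ E) = 1
    rw [← QuotientGroup.mk_mul, l.elemR r hr, QuotientGroup.mk_one]
  · rintro _ ⟨f, hf, rfl⟩
    show ((f : P) : P ⧸ E) * ((f : P) : P ⧸ E) = 1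
    rw [← QuotientGroup.mk_mul, QuotientGroup.eq_one_iff]
    exact l.sq_mem (l.F1_le_S1 hf)
  · rintro _ ⟨f, hf, rfl⟩ x
    obtain ⟨x, rfl⟩ := QuotientGroup.mk_surjective x
    have h1 := l.F1_le_Z2 hh hf x
    rw [← QuotientGroup.eq_one_iff, QuotientGroup.mk_mul, QuotientGroup.mk_mul, QuotientGroup.mk_mul,
      QuotientGroup.mk_inv, QuotientGroup.mk_inv] at h1
    show (f : P ⧸ E) * (x : P ⧸ E) = (x : P ⧸ E) * (f : P ⧸ E)
    exact mul_inv_eq_iff_eq_mul.mp (mul_inv_eq_one.mp h1)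
  · rintro _ ⟨r, hr, rfl⟩ ⟨f, hf, hfr⟩
    have h1 : f⁻¹ * r ∈ E := QuotientGroup.eq.mp hfr
    have h2 : f ∈ E := by
      apply l.F1_inf hf
      exact ⟨r, hr, (f⁻¹ * r)⁻¹, E.inv_mem h1, by group⟩
    rw [← hfr]
    exact (QuotientGroup.eq_one_iff f).mpr h2
  · obtain ⟨t, ht, ht1⟩ := l.neR
    refine ⟨(t : P ⧸ E), ⟨t, ht, rfl⟩, ?_⟩
    rw [Ne, QuotientGroup.eq_one_iff]
    exact fun h1 => ht1 (l.disj t ht h1)
  · have h1 := l.card_F1 hh hV
    have h2 : Nat.card ((l.F1 h).map (QuotientGroup.mk' E)) * Nat.card E = Nat.card (l.F1 h) :=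
      card_map_mk E fun e he => l.E_le_F1 he
    have h3 := l.four
    have h4 : 0 < Nat.card E := by omega
    have h5 : Nat.card ((l.F1 h).map (QuotientGroup.mk' E)) = Nat.card E := by
      rw [h1] at h2
      exact Nat.eq_of_mul_eq_mul_right h4 h2
    rw [h5]; exact h3
  · rintro k _ ⟨f, hf, rfl⟩
    exact ⟨φ k f, l.F1_inv k hf, rfl⟩
  · rintro k _ ⟨r, hr, rfl⟩
    show quo φ E l.invE k (r : P ⧸ E) = (r : P ⧸ E)
    rw [quo_mk, l.fixR k r hr]
  · intro k hk x hx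
    obtain ⟨x, rfl⟩ := QuotientGroup.mk_surjective x
    rw [quo_mk] at hx
    obtain ⟨r, hr, hrE⟩ := l.exists_mem_coset hk E (fun y hy => l.invE k y hy) x (QuotientGroup.eq.mp hx.symm)
    exact ⟨r, hr, (QuotientGroup.eq.mpr hrE).symm⟩
  · rintro _ ⟨x, hx, rfl⟩ hx1 _ ⟨y, hy, rfl⟩ hy1
    have hxE : x ∉ E := fun h1 => hx1 ((QuotientGroup.eq_one_iff x).mpr h1)
    have hyE : y ∉ E := fun h1 => hy1 ((QuotientGroup.eq_one_iff y).mpr h1)
    obtain ⟨k, e, he, hye⟩ := l.trans_F1 hx hxE hy hyE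
    refine ⟨k, ?_⟩
    show quo φ E l.invE k (x : P ⧸ E) = (y : P ⧸ E)
    rw [quo_mk, hye, QuotientGroup.mk_mul, (QuotientGroup.eq_one_iff e).mpr he, mul_one]
  · rintro _ ⟨t, ht, rfl⟩ ht1 x hx
    obtain ⟨x, rfl⟩ := QuotientGroup.mk_surjective x
    have ht' : t ≠ 1 := by
      rintro rfl
      exact ht1 (map_one _)
    obtain ⟨r, hr, f, hf, hrf⟩ := l.exists_RF hh (hS ht ht' hx)
    exact ⟨(r : P ⧸ E), ⟨r, hr, rfl⟩, (f : P ⧸ E), ⟨f, hf, rfl⟩, by rw [hrf]; rfl⟩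

theorem Fc_eq_E [Finite P] (l : L φ R E) (hV : ∀ x : P, x ∈ V R E) : Fc φ = E := by
  apply le_antisymm _ l.E_le_Fc
  rw [Fc, closure_le]
  rintro _ ⟨x, h, rfl⟩
  obtain ⟨r, hr, e, he, rfl⟩ := hV x
  have h1 : (r * e)⁻¹ * φ h (r * e) = e⁻¹ * φ h e := by
    rw [map_mul, l.fixR h r hr]; group
  show (r * e)⁻¹ * φ h (r * e) ∈ E
  rw [h1]
  exact E.mul_mem (E.inv_mem he) (l.invE h e he)

/-- `F = [P, H]` -/
theorem main (n : ℕ) : ∀ {P : Type u} {H : Type v} [Group P] [CommGroup H] [Finite P] [Finite H]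
    {φ : H →* MulAut P} {R E : Subgroup P}, L φ R E → Nat.card P ≤ n →
    (∀ x ∈ R, x ∈ Fc φ → x = 1) ∧
      ∃ m, 1 ≤ m ∧ Nat.card (Fc φ) = Nat.card E ^ m ∧ ((∃ x, x ∉ V R E) → 2 ≤ m) := by
  induction n with
  | zero =>
    intro P H _ _ _ _ φ R E l hn
    have := Nat.card_pos (α := P)
    omega
  | succ n ih =>
    intro P H _ _ _ _ φ R E l hn
    by_cases hV : ∃ x, x ∉ V R E
    swap
    · push Not at hV
      rw [l.Fc_eq_E hV]
      exact ⟨l.disj, 1, le_rfl, (pow_one _).symm, fun ⟨x, hx⟩ => absurd (hV x) hx⟩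
    have hn' := l.normalE
    obtain ⟨h, hh⟩ := l.exists_h
    have l' := l.quoL hh hV
    have hc : Nat.card (P ⧸ E) ≤ n := by
      have h1 := Subgroup.card_eq_card_quotient_mul_card_subgroup E
      have h2 := l.four
      have h3 := Nat.card_pos (α := P ⧸ E)
      nlinarith
    obtain ⟨h1, m, hm1, hm, -⟩ := ih l' hc
    rw [← Fc_map φ E l.invE] at h1 hm
    have h2 : Nat.card ((l.F1 h).map (QuotientGroup.mk' E)) = Nat.card E := by
      have h3 := card_map_mk E (A := l.F1 h) fun e he => l.E_le_F1 he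
      rw [l.card_F1 hh hV] at h3
      have h4 := l.four
      exact Nat.eq_of_mul_eq_mul_right (by omega) h3
    refine ⟨fun x hx hxF => ?_, m + 1, by omega, ?_, fun _ => by omega⟩
    · have h3 := h1 (x : P ⧸ E) ⟨x, hx, rfl⟩ ⟨x, hxF, rfl⟩
      exact l.disj x hx ((QuotientGroup.eq_one_iff x).mp h3)
    · rw [← card_map_mk E l.E_le_Fc, hm, h2, pow_succ]

theorem inf [Finite P] [Finite H] (l : L φ R E) : ∀ x ∈ R, x ∈ Fc φ → x = 1 := (main _ l le_rfl).1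

theorem card_Fc [Finite P] [Finite H] (l : L φ R E) :
    ∃ m, 1 ≤ m ∧ Nat.card (Fc φ) = Nat.card E ^ m ∧ ((∃ x, x ∉ V R E) → 2 ≤ m) := (main _ l le_rfl).2

theorem exists_FR [Finite P] [Finite H] (l : L φ R E) (x : P) : ∃ y ∈ Fc φ, ∃ r ∈ R, x = y * r := by
  obtain ⟨h, hh⟩ := l.exists_h
  obtain ⟨r, hr, hrx⟩ := l.exists_mem_coset hh (Fc φ) (fun y hy => Fc_inv φ hy h) x (mem_Fc φ x h)
  refine ⟨x * (x⁻¹ * r)⁻¹ * x⁻¹, Fc_conj φ ((Fc φ).inv_mem hrx) x, r, hr, by group⟩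

theorem centF [Finite P] [Finite H] (l : L φ R E) {t : P} (ht : t ∈ R) (ht1 : t ≠ 1) {y : P} (hy : y ∈ Fc φ)
    (hyt : y * t = t * y) : y ∈ E := by
  obtain ⟨r, hr, e, he, hre⟩ := l.cent t ht ht1 y hyt
  have h1 : r ∈ Fc φ := by
    have : r = y * e⁻¹ := by rw [hre]; group
    rw [this]
    exact (Fc φ).mul_mem hy ((Fc φ).inv_mem (l.E_le_Fc he))
  rw [hre, l.inf r hr h1, one_mul]; exact he

theorem centV (l : L φ R E) {x v : P} (hx : x ∉ V R E) (hv : v ∈ V R E) (h : x * v = v * x) : v ∈ E := by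
  obtain ⟨r, hr, e, he, rfl⟩ := hv
  have h1 : x * r = r * x := by
    have h2 : (x * r) * e = (r * x) * e := by
      calc x * r * e = x * (r * e) := by group
        _ = r * e * x := h
        _ = r * (e * x) := by group
        _ = r * (x * e) := by rw [l.cen e he]
        _ = r * x * e := by group
    exact mul_right_cancel h2
  by_cases hr1 : r = 1
  · rw [hr1, one_mul]; exact he
  · exact absurd (l.cent r hr hr1 x h1) hx

theorem center (l : L φ R E) (hV : ∃ x : P, x ∉ V R E) {z : P} (hz : ∀ x : P, x * z = z * x) : z ∈ E := by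
  obtain ⟨t, ht, ht1⟩ := l.neR
  obtain ⟨x, hx⟩ := hV
  exact l.centV hx (l.cent t ht ht1 z (hz t).symm) (hz x)

omit [CommGroup H] in
theorem comm_eq_sq {a r : P} (ha : a * a = 1) (hr : r * r = 1) :
    (a * r⁻¹) * r * (a * r⁻¹)⁻¹ * r⁻¹ = (a * r⁻¹) * (a * r⁻¹) := by
  have ha' : a⁻¹ = a := inv_eq_of_mul_eq_one_left ha
  have hr' : r⁻¹ = r := inv_eq_of_mul_eq_one_left hr
  rw [mul_inv_rev, inv_inv, ha', hr']
  calc a * r * r * (r * a) * r = a * (r * r) * (r * a * r) := by group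
    _ = a * r * (a * r) := by rw [hr]; group

/-- (viii) if `|R| ≥ 4` there are only two layers -/
theorem all_S1 [Finite P] [Finite H] (l : L φ R E) {t s : P} (ht : t ∈ R) (hs : s ∈ R) (ht1 : t ≠ 1)
    (hs1 : s ≠ 1) (hst : s ≠ t) (x : P) : x ∈ l.S1 := by
  by_contra hx
  have hV : ∃ x : P, x ∉ V R E := ⟨x, fun h => hx (l.V_le_S1 h)⟩
  have hn := l.normalE
  obtain ⟨h, hh⟩ := l.exists_h
  have l' := l.quoL hh hV
  have hV' : ∃ y : P ⧸ E, y ∉ V (R.map (QuotientGroup.mk' E)) ((l.F1 h).map (QuotientGroup.mk' E)) := by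
    refine ⟨(x : P ⧸ E), ?_⟩
    rintro ⟨_, ⟨r, hr, rfl⟩, _, ⟨f, hf, rfl⟩, hrf⟩
    apply hx
    have h1 : (r * f)⁻¹ * x ∈ E := by
      apply QuotientGroup.eq.mp
      rw [hrf]; rfl
    have h2 : x = r * f * ((r * f)⁻¹ * x) := by group
    rw [h2]
    exact l.S1.mul_mem (l.S1.mul_mem (l.R_le_S1 hr) (l.F1_le_S1 hf)) (l.E_le_S1 h1)
  obtain ⟨y', hy', hyE⟩ := l'.exists_F1 hh hV'
  obtain ⟨y, rfl⟩ := QuotientGroup.mk_surjective y'
  -- `[y, R] ≤ F₁`
  have hyF : ∀ r ∈ R, y * r * y⁻¹ * r⁻¹ ∈ l.F1 h := by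
    intro r hr
    obtain ⟨f, hf, hfy⟩ := l'.F1_le_S1 hy' (r : P ⧸ E) ⟨r, hr, rfl⟩
    have h1 : f⁻¹ * (y * r * y⁻¹ * r⁻¹) ∈ E := QuotientGroup.eq.mp hfy
    have h2 : y * r * y⁻¹ * r⁻¹ = f * (f⁻¹ * (y * r * y⁻¹ * r⁻¹)) := by group
    rw [h2]
    exact (l.F1 h).mul_mem hf (l.E_le_F1 h1)
  have hyS : y ∉ l.S1 := by
    intro hyS
    apply hyE
    apply l'.F1_inf hy'
    obtain ⟨r, hr, f, hf, hrf⟩ := l.exists_RF hh hyS
    exact ⟨(r : P ⧸ E), ⟨r, hr, rfl⟩, (f : P ⧸ E), ⟨f, hf, rfl⟩, by rw [hrf]; rfl⟩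
  have hyE' : ∀ r ∈ R, r ≠ 1 → y * r * y⁻¹ * r⁻¹ ∉ E := fun r hr hr1 h1 =>
    hyS (l.mem_S1_of_comm hr hr1 h1 hh)
  -- `[z, r] = z²` for `z = [y, r]`
  have hsq : ∀ r ∈ R, (y * r * y⁻¹ * r⁻¹) * r * (y * r * y⁻¹ * r⁻¹)⁻¹ * r⁻¹ =
      (y * r * y⁻¹ * r⁻¹) * (y * r * y⁻¹ * r⁻¹) := by
    intro r hr
    have h1 : y * r * y⁻¹ * (y * r * y⁻¹) = 1 := by
      calc y * r * y⁻¹ * (y * r * y⁻¹) = y * (r * r) * y⁻¹ := by group
        _ = 1 := by rw [l.elemR r hr]; group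
    exact comm_eq_sq h1 (l.elemR r hr)
  obtain ⟨k, e, he, hke⟩ := l.trans_F1 (hyF t ht) (hyE' t ht ht1) (hyF s hs) (hyE' s hs hs1)
  have hzt := hsq t ht
  have hwF := hyF s hs
  have h2 := hsq s hs
  have hwE := hyE' s hs hs1
  obtain ⟨z, hz⟩ : ∃ z : P, z = y * t * y⁻¹ * t⁻¹ := ⟨_, rfl⟩
  obtain ⟨w, hw⟩ : ∃ w : P, w = y * s * y⁻¹ * s⁻¹ := ⟨_, rfl⟩
  rw [← hz] at hke hzt
  rw [← hw] at hke hwF h2 hwE
  have hww : w * w = φ k (z * z) := by
    rw [hke, map_mul]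
    calc φ k z * e * (φ k z * e) = φ k z * (e * φ k z) * e := by group
      _ = φ k z * (φ k z * e) * e := by rw [l.cen e he]
      _ = φ k z * φ k z * (e * e) := by group
      _ = φ k z * φ k z := by rw [l.elemE e he, mul_one]
  have h1 : w * t * w⁻¹ * t⁻¹ = w * w := by
    rw [hww, ← hzt, ← l.map_comm k ht, hke]
    calc φ k z * e * t * (φ k z * e)⁻¹ * t⁻¹ = φ k z * (e * t) * e⁻¹ * (φ k z)⁻¹ * t⁻¹ := by group
      _ = φ k z * (t * e) * e⁻¹ * (φ k z)⁻¹ * t⁻¹ := by rw [l.cen e he]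
      _ = φ k z * t * (φ k z)⁻¹ * t⁻¹ := by group
  have hwwE : w * w ∈ E := l.sq_mem (l.F1_le_S1 hwF)
  have h3 : w * (s * t) = (s * t) * w := by
    have h4 : w * t * w⁻¹ = w * w * t := by rw [← h1]; group
    have h5 : w * s * w⁻¹ = w * w * s := by rw [← h2]; group
    have h6 : w * (s * t) * w⁻¹ = s * t := by
      calc w * (s * t) * w⁻¹ = (w * s * w⁻¹) * (w * t * w⁻¹) := by group
        _ = (w * w * s) * (w * w * t) := by rw [h4, h5]
        _ = (w * w) * (s * (w * w)) * t := by group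
        _ = (w * w) * ((w * w) * s) * t := by rw [l.cen _ hwwE s]
        _ = ((w * w) * (w * w)) * (s * t) := by group
        _ = s * t := by rw [l.elemE _ hwwE, one_mul]
    calc w * (s * t) = (w * (s * t) * w⁻¹) * w := by group
      _ = s * t * w := by rw [h6]
  have hst1 : s * t ≠ 1 := by
    intro h4
    apply hst
    rw [eq_inv_of_mul_eq_one_left h4, l.inv_R ht]
  exact hwE (l.F1_inf hwF (l.cent _ (R.mul_mem hs ht) hst1 w h3))

theorem F1_le_Fc [Finite P] (l : L φ R E) {h : H} : l.F1 h ≤ Fc φ := by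
  rintro _ ⟨y, _, e, he, rfl⟩
  exact (Fc φ).mul_mem (mem_Fc φ y h) (l.E_le_Fc he)

/-- if `P = S₁` then `F = F₁` -/
theorem Fc_eq [Finite P] [Finite H] (l : L φ R E) {h : H} (hh : h ≠ 1) (hS : ∀ x : P, x ∈ l.S1) :
    Fc φ = l.F1 h := by
  apply le_antisymm _ l.F1_le_Fc
  intro x hx
  obtain ⟨r, hr, f, hf, rfl⟩ := l.exists_RF hh (hS x)
  have h1 : r ∈ Fc φ := by
    have : r = r * f * f⁻¹ := by group
    rw [this]
    exact (Fc φ).mul_mem hx ((Fc φ).inv_mem (l.F1_le_Fc hf))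
  rw [l.inf r hr h1, one_mul]; exact hf

end L

/-! ### the coset argument -/

theorem Fc_normal (φ : H →* MulAut P) : (Fc φ).Normal := ⟨fun _ hz y => Fc_conj φ hz y⟩

/-- `[F, P]` -/
def Dc (φ : H →* MulAut P) : Subgroup P := ⁅Fc φ, (⊤ : Subgroup P)⁆

theorem Dc_normal (φ : H →* MulAut P) : (Dc φ).Normal := by
  have := Fc_normal φ
  exact Subgroup.commutator_normal _ _

theorem Dc_le (φ : H →* MulAut P) : Dc φ ≤ Fc φ := by
  have := Fc_normal φ
  exact Subgroup.commutator_le_left _ _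

theorem Dc_inv (φ : H →* MulAut P) (k : H) {z : P} (hz : z ∈ Dc φ) : φ k z ∈ Dc φ := by
  have h1 : (Dc φ).map (φ k).toMonoidHom ≤ Dc φ := by
    rw [Dc, Subgroup.map_commutator]
    refine Subgroup.commutator_mono ?_ le_top
    rintro _ ⟨y, hy, rfl⟩
    exact Fc_inv φ hy k
  exact h1 ⟨z, hz, rfl⟩

theorem Dc_lt [Finite P] (hP : IsPGroup 2 P) (h1 : Fc φ ≠ ⊥) : Dc φ ≠ Fc φ := by
  intro h
  have : Group.IsNilpotent P := hP.isNilpotent
  obtain ⟨n, hn⟩ := Subgroup.nilpotent_iff_lowerCentralSeries.mp this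
  have h2 : ∀ n, Fc φ ≤ (⊤ : Subgroup P).lowerCentralSeries n := by
    intro n
    induction n with
    | zero => exact le_top
    | succ n ih =>
      rw [← h, Dc]
      exact Subgroup.commutator_mono ih le_rfl
  exact h1 (le_bot_iff.mp (hn ▸ h2 n))

namespace L

theorem card_P [Finite P] [Finite H] (l : L φ R E) : Nat.card (Fc φ) * Nat.card R = Nat.card P := by
  apply Subgroup.IsComplement'.card_mul_card
  apply Subgroup.isComplement'_of_disjoint_and_mul_eq_univ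
  · rw [Subgroup.disjoint_def]
    intro x hx hx'
    exact l.inf x hx' hx
  · rw [Set.eq_univ_iff_forall]
    intro x
    obtain ⟨y, hy, r, hr, rfl⟩ := l.exists_FR x
    exact Set.mul_mem_mul hy hr

/-- (ix) -/
theorem elem_of_coset [Finite P] [Finite H] (l : L φ R E) (hH : Nat.card H + 1 = Nat.card E) (hR : Nat.card R = 2)
    {w : P} (hw : w ∈ Fc φ) (hw1 : w ≠ 1) (hww : w * w = 1)
    (hC : Nat.card (centralizer ({w} : Set P)) ≤ 2 * Nat.card E) : ∀ x ∈ Fc φ, x * x = 1 := by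
  classical
  have hn := Dc_normal φ
  have hF1 : Fc φ ≠ ⊥ := by
    intro h
    rw [h, mem_bot] at hw
    exact hw1 hw
  have hlt := Dc_lt l.two hF1
  set D := Dc φ with hD
  set F := Fc φ with hF
  have hDF : D ≤ F := Dc_le φ
  -- semiregularity
  have hsr : ∀ x ∈ F, x ∉ D → ∀ h k : H, (φ h x)⁻¹ * φ k x ∈ D → h = k := by
    intro x hx hxD h k hhk
    by_contra hne
    have h1 : k * h⁻¹ ≠ 1 := by
      intro h2
      exact hne (mul_inv_eq_one.mp h2).symm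
    have h2 : (φ h x)⁻¹ * φ (k * h⁻¹) (φ h x) ∈ D := by
      rw [← MulAut.mul_apply, ← map_mul, inv_mul_cancel_right]
      exact hhk
    obtain ⟨r, hr, hrD⟩ := l.exists_mem_coset h1 D (fun y hy => Dc_inv φ _ hy) _ h2
    have h3 : r ∈ F := by
      have : r = φ h x * ((φ h x)⁻¹ * r) := by group
      rw [this]
      exact F.mul_mem (Fc_inv φ hx h) (hDF hrD)
    have h4 := l.inf r hr h3
    rw [h4, mul_one] at hrD
    have h5 : φ h x ∈ D := by simpa using D.inv_mem hrD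
    have h6 := Dc_inv φ h⁻¹ h5
    rw [← MulAut.mul_apply, ← map_mul, inv_mul_cancel, map_one, MulAut.one_apply] at h6
    exact hxD h6
  -- the map
  have hinj : ∀ x ∈ F, x ∉ D → ∀ (hx : x ∈ F), Function.Injective
      (fun o : Option H => (o.elim 1 (fun h => ((⟨φ h x, Fc_inv φ hx h⟩ : F) : F ⧸ D.subgroupOf F)))) := by
    intro x hx hxD _
    have hne : ∀ h : H, φ h x ∉ D := by
      intro h h5
      have h6 := Dc_inv φ h⁻¹ h5
      rw [← MulAut.mul_apply, ← map_mul, inv_mul_cancel, map_one, MulAut.one_apply] at h6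
      exact hxD h6
    rintro (_ | h) (_ | k) hhk
    · rfl
    · exfalso
      have h1 : ((1 : F) : F ⧸ D.subgroupOf F) = ((⟨φ k x, Fc_inv φ hx k⟩ : F) : F ⧸ D.subgroupOf F) := hhk
      rw [QuotientGroup.eq, mem_subgroupOf] at h1
      apply hne k
      simpa using h1
    · exfalso
      have h1 : ((1 : F) : F ⧸ D.subgroupOf F) = ((⟨φ h x, Fc_inv φ hx h⟩ : F) : F ⧸ D.subgroupOf F) := hhk.symm
      rw [QuotientGroup.eq, mem_subgroupOf] at h1
      apply hne h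
      simpa using h1
    · have h1 : ((⟨φ h x, Fc_inv φ hx h⟩ : F) : F ⧸ D.subgroupOf F) =
        ((⟨φ k x, Fc_inv φ hx k⟩ : F) : F ⧸ D.subgroupOf F) := hhk
      rw [QuotientGroup.eq, mem_subgroupOf] at h1
      rw [hsr x hx hxD h k h1]
  have hcF : Nat.card (F ⧸ D.subgroupOf F) * Nat.card D = Nat.card F := by
    rw [Subgroup.card_eq_card_quotient_mul_card_subgroup (D.subgroupOf F),
      Nat.card_congr (Subgroup.subgroupOfEquivOfLe hDF).toEquiv]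
  have hO : Nat.card (Option H) = Nat.card E := by
    rw [← hH, Finite.card_option]
  have hge : Nat.card E ≤ Nat.card (F ⧸ D.subgroupOf F) := by
    obtain ⟨x, hx, hxD⟩ : ∃ x ∈ F, x ∉ D := by
      by_contra hno
      push Not at hno
      exact hlt (le_antisymm hDF hno)
    rw [← hO]
    exact Nat.card_le_card_of_injective _ (hinj x hx hxD hx)
  -- the class of `w`
  have hcl : ∀ x : P, x * w * x⁻¹ * w⁻¹ ∈ D := by
    intro x
    have h1 : w * x * w⁻¹ * x⁻¹ ∈ D := Subgroup.commutator_mem_commutator hw (mem_top x)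
    have h2 : x * w * x⁻¹ * w⁻¹ = (w * x * w⁻¹ * x⁻¹)⁻¹ := by group
    rw [h2]; exact D.inv_mem h1
  let f : P ⧸ centralizer ({w} : Set P) → D := Quotient.lift (fun x : P => (⟨x * w * x⁻¹ * w⁻¹, hcl x⟩ : D)) (by
    intro x y hxy
    have h1 : x⁻¹ * y ∈ centralizer ({w} : Set P) := QuotientGroup.leftRel_apply.mp hxy
    rw [mem_centralizer_singleton_iff] at h1
    apply Subtype.ext
    show x * w * x⁻¹ * w⁻¹ = y * w * y⁻¹ * w⁻¹
    have h2 : y * w * y⁻¹ = x * w * x⁻¹ := by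
      calc y * w * y⁻¹ = x * ((x⁻¹ * y) * w) * y⁻¹ := by group
        _ = x * (w * (x⁻¹ * y)) * y⁻¹ := by rw [h1]
        _ = x * w * x⁻¹ := by group
    rw [h2])
  have hfi : Function.Injective f := by
    intro a b hab
    obtain ⟨x, rfl⟩ := QuotientGroup.mk_surjective a
    obtain ⟨y, rfl⟩ := QuotientGroup.mk_surjective b
    have h1 : x * w * x⁻¹ * w⁻¹ = y * w * y⁻¹ * w⁻¹ := congrArg Subtype.val hab
    have h2 : x * w * x⁻¹ = y * w * y⁻¹ := mul_right_cancel h1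
    rw [QuotientGroup.eq, mem_centralizer_singleton_iff]
    calc x⁻¹ * y * w = x⁻¹ * (y * w * y⁻¹) * y := by group
      _ = x⁻¹ * (x * w * x⁻¹) * y := by rw [h2]
      _ = w * (x⁻¹ * y) := by group
  have h1 := Nat.card_le_card_of_injective f hfi
  have h2 := Subgroup.card_eq_card_quotient_mul_card_subgroup (centralizer ({w} : Set P))
  have h3 := l.card_P
  rw [hR, ← hcF, h2] at h3
  have hpD := Nat.card_pos (α := D)
  have hpE := Nat.card_pos (α := E)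
  have hpQ := Nat.card_pos (α := P ⧸ centralizer ({w} : Set P))
  have h4 : Nat.card (F ⧸ D.subgroupOf F) * Nat.card D ≤ Nat.card (P ⧸ centralizer ({w} : Set P)) * Nat.card E := by
    nlinarith
  have h5 : Nat.card (P ⧸ centralizer ({w} : Set P)) = Nat.card D := by
    apply le_antisymm h1
    have : Nat.card E * Nat.card D ≤ Nat.card (P ⧸ centralizer ({w} : Set P)) * Nat.card E :=
      (Nat.mul_le_mul_right _ hge).trans h4
    rw [mul_comm] at this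
    exact Nat.le_of_mul_le_mul_right this hpE
  have h6 : Nat.card (F ⧸ D.subgroupOf F) = Nat.card E := by
    apply le_antisymm _ hge
    rw [h5, mul_comm (Nat.card D)] at h4
    exact Nat.le_of_mul_le_mul_right h4 hpD
  have hfs : Function.Surjective f := (Nat.bijective_iff_injective_and_card f).mpr ⟨hfi, h5⟩ |>.2
  -- the coset `D w`
  have hDw : ∀ d ∈ D, (d * w) * (d * w) = 1 := by
    intro d hd
    obtain ⟨a, ha⟩ := hfs ⟨d, hd⟩
    obtain ⟨x, rfl⟩ := QuotientGroup.mk_surjective a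
    have h7 : x * w * x⁻¹ * w⁻¹ = d := congrArg Subtype.val ha
    have h8 : d * w = x * w * x⁻¹ := by rw [← h7]; group
    rw [h8]
    calc x * w * x⁻¹ * (x * w * x⁻¹) = x * (w * w) * x⁻¹ := by group
      _ = 1 := by rw [hww]; group
  have hwD : w ∉ D := by
    intro hwD
    obtain ⟨a, ha⟩ := hfs ⟨w⁻¹, D.inv_mem hwD⟩
    obtain ⟨x, rfl⟩ := QuotientGroup.mk_surjective a
    have h7 : x * w * x⁻¹ * w⁻¹ = w⁻¹ := congrArg Subtype.val ha
    apply hw1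
    calc w = x⁻¹ * (x * w * x⁻¹ * w⁻¹) * w * x := by group
      _ = 1 := by rw [h7]; group
  have hgs : Function.Surjective
      (fun o : Option H => (o.elim 1 (fun h => ((⟨φ h w, Fc_inv φ hw h⟩ : F) : F ⧸ D.subgroupOf F)))) :=
    ((Nat.bijective_iff_injective_and_card _).mpr ⟨hinj w hw hwD hw, by rw [hO, h6]⟩).2
  have hinv : ∀ x ∈ F, x ∉ D → x * x = 1 := by
    intro x hx hxD
    obtain ⟨o, ho⟩ := hgs ((⟨x, hx⟩ : F) : F ⧸ D.subgroupOf F)
    rcases o with _ | h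
    · exfalso
      have h7 : ((1 : F) : F ⧸ D.subgroupOf F) = ((⟨x, hx⟩ : F) : F ⧸ D.subgroupOf F) := ho
      rw [QuotientGroup.eq, mem_subgroupOf] at h7
      apply hxD
      simpa using h7
    · have h7 : ((⟨φ h w, Fc_inv φ hw h⟩ : F) : F ⧸ D.subgroupOf F) = ((⟨x, hx⟩ : F) : F ⧸ D.subgroupOf F) := ho
      rw [QuotientGroup.eq, mem_subgroupOf] at h7
      have h8 : (φ h w)⁻¹ * x ∈ D := by simpa using h7
      have h9 : x * (φ h w)⁻¹ ∈ D := by
        have := hn.conj_mem _ h8 (φ h w)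
        have h10 : φ h w * ((φ h w)⁻¹ * x) * (φ h w)⁻¹ = x * (φ h w)⁻¹ := by group
        rwa [h10] at this
      obtain ⟨d, hd, hxd⟩ : ∃ d ∈ D, x = φ h (d * w) := by
        refine ⟨φ h⁻¹ (x * (φ h w)⁻¹), Dc_inv φ _ h9, ?_⟩
        rw [map_mul, ← MulAut.mul_apply, ← map_mul, mul_inv_cancel, map_one, MulAut.one_apply]
        group
      rw [hxd, ← map_mul, hDw d hd, map_one]
  intro d hd
  by_cases hdD : d ∈ D
  swap
  · exact hinv d hd hdD
  have hI : ∀ x ∈ F, x ∉ D → x * d * x⁻¹ = d⁻¹ := by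
    intro x hx hxD
    have h7 : x * d ∉ D := fun h => hxD (by
      have := D.mul_mem h (D.inv_mem hdD)
      simpa using this)
    have h8 := hinv _ (F.mul_mem hx hd) h7
    have h9 := hinv x hx hxD
    have h10 : x⁻¹ = x := inv_eq_of_mul_eq_one_left h9
    rw [h10]
    apply eq_inv_of_mul_eq_one_left
    rw [← h8]; group
  -- two elements
  obtain ⟨y, hy, hyD, hwy⟩ : ∃ y ∈ F, y ∉ D ∧ w * y ∉ D := by
    by_contra hno
    push Not at hno
    have h7 : ∀ a : F ⧸ D.subgroupOf F, a = 1 ∨ a = ((⟨w⁻¹, F.inv_mem hw⟩ : F) : F ⧸ D.subgroupOf F) := by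
      intro a
      obtain ⟨⟨y, hy⟩, rfl⟩ := QuotientGroup.mk_surjective a
      by_cases hyD : y ∈ D
      · left
        have : ((1 : F) : F ⧸ D.subgroupOf F) = ((⟨y, hy⟩ : F) : F ⧸ D.subgroupOf F) := by
          rw [QuotientGroup.eq, mem_subgroupOf]
          simpa using hyD
        exact this.symm
      · right
        symm
        rw [QuotientGroup.eq, mem_subgroupOf]
        simpa using hno y hy hyD
    have h8 : Nat.card (F ⧸ D.subgroupOf F) ≤ 2 := by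
      let g : F ⧸ D.subgroupOf F → Bool := fun a => decide (a = 1)
      have hg : Function.Injective g := by
        intro a b hab
        by_cases ha : a = 1
        · have : g a = true := decide_eq_true ha
          rw [this] at hab
          rw [ha, of_decide_eq_true hab.symm]
        · have : g a = false := decide_eq_false ha
          rw [this] at hab
          have hb : ¬ b = 1 := of_decide_eq_false hab.symm
          rw [(h7 a).resolve_left ha, (h7 b).resolve_left hb]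
      have := Nat.card_le_card_of_injective g hg
      simpa using this
    have := l.four
    omega
  have h7 := hI w hw hwD
  have h8 := hI y hy hyD
  have h9 := hI _ (F.mul_mem hw hy) hwy
  have h10 : d⁻¹ = d := by
    calc d⁻¹ = w * y * d * (w * y)⁻¹ := h9.symm
      _ = w * (y * d * y⁻¹) * w⁻¹ := by group
      _ = w * d⁻¹ * w⁻¹ := by rw [h8]
      _ = (w * d * w⁻¹)⁻¹ := by group
      _ = d := by rw [h7, inv_inv]
  calc d * d = d⁻¹ * d := by rw [h10]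
    _ = 1 := inv_mul_cancel d

end L

end Cfsg.Agent.OddCyclic.CaseALayerT
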