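import Cfsg.Agent.OddCyclic.CaseALayDefs
import Cfsg.Agent.OddCyclic.CaseALayerT

/-!
# S0342, component type, case A: the layer lemma

`layer`, `big`, `comm1`, `elem_of_coset` for `Lay P R E H q` (`CaseALayDefs`), from the version for groups with operators
(`CaseALayerT`).
-/

set_option autoImplicit false
set_option linter.unusedSectionVars false
set_option linter.style.haveILetI false

namespace Cfsg.Agent.OddCyclic.CaseALayer

open Subgroup
open Cfsg.Agent.LieExceptional Cfsg.Agent.LieExceptional.CITDefs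
open Cfsg.Agent.OddCyclic.CaseALayDefs
open Cfsg.Agent.OddCyclic.CaseALayerT (Fc Fc_conj Fc_inv mem_Fc)

variable {G : Type*} [Group G] {P R E H : Subgroup G} {q : ℕ}

/-- `H` is commutative -/
abbrev cg (l : Lay P R E H q) : CommGroup ↥H :=
  { (inferInstance : Group ↥H) with mul_comm := fun a b => Subtype.ext (l.commH a a.2 b b.2) }

/-- the action of `H` on `P` -/
def phi (l : Lay P R E H q) : letI := cg l; ↥H →* MulAut ↥P :=
  letI := cg l
  { toFun := fun h =>
      { toFun := fun x => ⟨(h : G) * x * (h : G)⁻¹, l.normP h h.2 x x.2⟩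
        invFun := fun x => ⟨(h : G)⁻¹ * x * (h : G)⁻¹⁻¹, l.normP _ (H.inv_mem h.2) x x.2⟩
        left_inv := fun x => Subtype.ext (by
          show (h : G)⁻¹ * ((h : G) * x * (h : G)⁻¹) * (h : G)⁻¹⁻¹ = x
          group)
        right_inv := fun x => Subtype.ext (by
          show (h : G) * ((h : G)⁻¹ * x * (h : G)⁻¹⁻¹) * (h : G)⁻¹ = x
          group)
        map_mul' := fun x y => Subtype.ext (by
          show (h : G) * (x * y) * (h : G)⁻¹ = (h : G) * x * (h : G)⁻¹ * ((h : G) * y * (h : G)⁻¹)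
          group) }
    map_one' := by
      ext x
      show (1 : G) * x * (1 : G)⁻¹ = x
      group
    map_mul' := by
      intro a b
      ext x
      show (a * b : G) * x * (a * b : G)⁻¹ = a * (b * x * (b : G)⁻¹) * (a : G)⁻¹
      group }

theorem phi_coe (l : Lay P R E H q) (h : ↥H) (x : ↥P) :
    letI := cg l; ((phi l h x : ↥P) : G) = (h : G) * x * (h : G)⁻¹ := rfl

theorem mem_sup_iff (l : Lay P R E H q) {x : G} : x ∈ R ⊔ E ↔ ∃ r ∈ R, ∃ e ∈ E, x = r * e := by
  constructor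
  · intro hx
    let W : Subgroup G :=
      { carrier := {x | ∃ r ∈ R, ∃ e ∈ E, x = r * e}
        one_mem' := ⟨1, R.one_mem, 1, E.one_mem, (mul_one 1).symm⟩
        mul_mem' := by
          rintro _ _ ⟨r, hr, e, he, rfl⟩ ⟨s, hs, f, hf, rfl⟩
          refine ⟨r * s, R.mul_mem hr hs, e * f, E.mul_mem he hf, ?_⟩
          calc r * e * (s * f) = r * (e * s) * f := by group
            _ = r * (s * e) * f := by rw [l.cen e he s (l.leR hs)]
            _ = r * s * (e * f) := by group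
        inv_mem' := by
          rintro _ ⟨r, hr, e, he, rfl⟩
          refine ⟨r⁻¹, R.inv_mem hr, e⁻¹, E.inv_mem he, ?_⟩
          rw [mul_inv_rev]
          exact l.cen _ (E.inv_mem he) _ (P.inv_mem (l.leR hr)) }
    have h1 : R ⊔ E ≤ W := by
      apply sup_le
      · intro r hr; exact ⟨r, hr, 1, E.one_mem, (mul_one r).symm⟩
      · intro e he; exact ⟨1, R.one_mem, e, he, (one_mul e).symm⟩
    exact h1 hx
  · rintro ⟨r, hr, e, he, rfl⟩
    exact mul_mem (mem_sup_left hr) (mem_sup_right he)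

theorem sup_le_P (l : Lay P R E H q) : R ⊔ E ≤ P := sup_le l.leR l.leE

theorem mem_V (l : Lay P R E H q) (x : ↥P) :
    x ∈ CaseALayerT.L.V (R.subgroupOf P) (E.subgroupOf P) ↔ (x : G) ∈ R ⊔ E := by
  rw [mem_sup_iff l]
  constructor
  · rintro ⟨r, hr, e, he, h⟩
    exact ⟨r, mem_subgroupOf.mp hr, e, mem_subgroupOf.mp he, congrArg Subtype.val h⟩
  · rintro ⟨r, hr, e, he, h⟩
    exact ⟨⟨r, l.leR hr⟩, mem_subgroupOf.mpr hr, ⟨e, l.leE he⟩, mem_subgroupOf.mpr he, Subtype.ext h⟩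

theorem card_subgroupOf {A B : Subgroup G} (h : A ≤ B) : Nat.card (A.subgroupOf B) = Nat.card A :=
  Nat.card_congr (Subgroup.subgroupOfEquivOfLe h).toEquiv

theorem evenE [Finite G] (l : Lay P R E H q) : Even q := by
  have hE : IsPGroup 2 E := l.two.to_le l.leE
  obtain ⟨k, hk⟩ := IsPGroup.iff_card.mp hE
  rw [l.cardE] at hk
  have h4 := l.four
  rcases k with _ | k
  · rw [pow_zero] at hk; omega
  · rw [hk, pow_succ]; exact even_two.mul_left _

theorem toL [Finite G] (l : Lay P R E H q) :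
    letI := cg l; CaseALayerT.L (phi l) (R.subgroupOf P) (E.subgroupOf P) := by
  letI := cg l
  have hfix : ∀ h : ↥H, h ≠ 1 → ∀ x : ↥P, phi l h x = x → (x : G) ∈ R := by
    intro h hh x hx
    refine l.fpf h h.2 (fun h1 => hh (Subtype.ext h1)) x x.2 ?_
    have h1 := congrArg Subtype.val hx
    rw [phi_coe] at h1
    calc (h : G) * x = (h : G) * x * (h : G)⁻¹ * h := by group
      _ = x * h := by rw [h1]
  refine
    { two := l.two
      elemR := ?_, elemE := ?_, cen := ?_, disj := ?_, neR := ?_, four := ?_, invE := ?_, fixR := ?_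
      fpf := ?_, trans := ?_, odd := ?_, cent := ?_ }
  · intro r hr
    exact Subtype.ext (l.elemR r hr)
  · intro r hr
    exact Subtype.ext (l.elemE r hr)
  · intro e he x
    exact Subtype.ext (l.cen e he x x.2)
  · intro x hx hx'
    apply Subtype.ext
    have h1 : (x : G) ∈ R ⊓ E := ⟨hx, hx'⟩
    rw [l.disj] at h1
    exact mem_bot.mp h1
  · obtain ⟨t, ht1⟩ := (Subgroup.ne_bot_iff_exists_ne_one).mp l.neR
    exact ⟨⟨t, l.leR t.2⟩, mem_subgroupOf.mpr t.2,
      fun h => ht1 (Subtype.ext (congrArg Subtype.val h : ((t : G) = 1)))⟩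
  · rw [card_subgroupOf l.leE, l.cardE]; exact l.four
  · intro h e he
    exact l.normE h h.2 e he
  · intro h r hr
    apply Subtype.ext
    rw [phi_coe, l.fixR h h.2 r hr]
    group
  · intro h hh x hx
    exact hfix h hh x hx
  · intro e he he1 e' he' he'1
    have heE : (e : G) ∈ E := he
    have he1' : (e : G) ≠ 1 := fun h => he1 (Subtype.ext h)
    have hinj : Function.Injective
        (fun o : Option ↥H => (o.elim 1 (fun h => (⟨(h : G) * e * (h : G)⁻¹, l.normE h h.2 e heE⟩ : ↥E)))) := by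
      have h0 : ∀ h : ↥H, (1 : ↥E) ≠ ⟨(h : G) * e * (h : G)⁻¹, l.normE h h.2 e heE⟩ := by
        intro h h1
        have h2 : (1 : G) = (h : G) * e * (h : G)⁻¹ := congrArg Subtype.val h1
        apply he1'
        calc (e : G) = (h : G)⁻¹ * ((h : G) * e * (h : G)⁻¹) * h := by group
          _ = 1 := by rw [← h2]; group
      rintro (_ | h) (_ | k) hhk
      · rfl
      · exact absurd hhk (h0 k)
      · exact absurd hhk.symm (h0 h)
      · have h2 : (h : G) * e * (h : G)⁻¹ = (k : G) * e * (k : G)⁻¹ := congrArg Subtype.val hhk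
        by_contra hne
        have h3 : ((k : G)⁻¹ * h) * e = e * ((k : G)⁻¹ * h) := by
          calc ((k : G)⁻¹ * h) * e = (k : G)⁻¹ * ((h : G) * e * (h : G)⁻¹) * h := by group
            _ = (k : G)⁻¹ * ((k : G) * e * (k : G)⁻¹) * h := by rw [h2]
            _ = e * ((k : G)⁻¹ * h) := by group
        have h4 := l.fpf _ (H.mul_mem (H.inv_mem k.2) h.2) (fun h5 => hne (by
          rw [Subtype.ext (inv_mul_eq_one.mp h5)])) e e.2 h3
        have h5 : (e : G) ∈ R ⊓ E := ⟨h4, heE⟩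
        rw [l.disj] at h5
        exact he1' (mem_bot.mp h5)
    have hcard : Nat.card (Option ↥H) = Nat.card ↥E := by
      rw [Finite.card_option, l.cardH, l.cardE]
      have := l.four
      omega
    obtain ⟨o, ho⟩ := ((Nat.bijective_iff_injective_and_card _).mpr ⟨hinj, hcard⟩).2 ⟨e', he'⟩
    rcases o with _ | h
    · have h1 : (1 : ↥E) = ⟨e', he'⟩ := ho
      have h2 : (1 : G) = e' := congrArg Subtype.val h1
      exact absurd (Subtype.ext h2.symm) he'1
    · have h1 : (⟨(h : G) * e * (h : G)⁻¹, l.normE h h.2 e heE⟩ : ↥E) = ⟨e', he'⟩ := ho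
      have h2 : (h : G) * e * (h : G)⁻¹ = e' := congrArg Subtype.val h1
      exact ⟨h, Subtype.ext h2⟩
  · rw [l.cardH]
    have h1 := l.four
    exact Nat.Even.sub_odd (by omega) (evenE l) odd_one
  · intro t ht ht1 x hx
    have h1 := l.cent t ht (fun h => ht1 (Subtype.ext h)) x x.2 (congrArg Subtype.val hx)
    obtain ⟨r, hr, e, he, h⟩ := (mem_sup_iff l).mp h1
    exact ⟨⟨r, l.leR hr⟩, mem_subgroupOf.mpr hr, ⟨e, l.leE he⟩, mem_subgroupOf.mpr he, Subtype.ext h⟩

/-- `F = [P, H]` -/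
def FF (l : Lay P R E H q) : Subgroup G := letI := cg l; (Fc (phi l)).map P.subtype

theorem mem_FF (l : Lay P R E H q) {x : G} :
    letI := cg l; x ∈ FF l ↔ ∃ y ∈ Fc (phi l), (y : G) = x := Subgroup.mem_map

theorem mem_FF' (l : Lay P R E H q) (x : ↥P) :
    letI := cg l; (x : G) ∈ FF l ↔ x ∈ Fc (phi l) := by
  rw [mem_FF l]
  constructor
  · rintro ⟨y, hy, hyx⟩
    rwa [← Subtype.ext hyx]
  · intro h; exact ⟨x, h, rfl⟩

theorem FF_gen (l : Lay P R E H q) :
    FF l = closure {z : G | ∃ x ∈ P, ∃ h ∈ H, z = x⁻¹ * (h * x * h⁻¹)} := by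
  letI := cg l
  show ((closure _ : Subgroup ↥P)).map P.subtype = _
  rw [MonoidHom.map_closure]
  congr 1
  ext z
  constructor
  · rintro ⟨_, ⟨x, h, rfl⟩, rfl⟩
    exact ⟨x, x.2, h, h.2, rfl⟩
  · rintro ⟨x, hx, h, hh, rfl⟩
    exact ⟨_, ⟨⟨x, hx⟩, ⟨h, hh⟩, rfl⟩, rfl⟩

theorem eq_FF (l : Lay P R E H q) {F : Subgroup G} (f : LayF P R E H q F) : F = FF l := by
  rw [f.gen, FF_gen l]

theorem card_FF (l : Lay P R E H q) : letI := cg l; Nat.card (FF l) = Nat.card (Fc (phi l)) :=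
  Subgroup.card_map_of_injective P.subtype_injective

/-- the layer lemma -/
theorem layF [Finite G] (l : Lay P R E H q) : LayF P R E H q (FF l) := by
  letI := cg l
  have t := toL l
  have hV : P ≠ R ⊔ E → ∃ x : ↥P, x ∉ CaseALayerT.L.V (R.subgroupOf P) (E.subgroupOf P) := by
    intro hne
    by_contra hno
    push Not at hno
    exact hne (le_antisymm (fun x hx => (mem_V l ⟨x, hx⟩).mp (hno _)) (sup_le_P l))
  refine
    { leF := Subgroup.map_subtype_le _
      leE := ?_, normF := ?_, HF := ?_, gen := FF_gen l, inf := ?_, sup := ?_, card := ?_, centF := ?_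
      center := ?_, centV := ?_ }
  · intro e he
    exact (mem_FF' l ⟨e, l.leE he⟩).mpr (t.E_le_Fc he)
  · intro x hx y hy
    obtain ⟨y, hy', rfl⟩ := (mem_FF l).mp hy
    exact (mem_FF' l (⟨x, hx⟩ * y * (⟨x, hx⟩ : ↥P)⁻¹)).mpr (Fc_conj (phi l) hy' ⟨x, hx⟩)
  · intro h hh y hy
    obtain ⟨y, hy', rfl⟩ := (mem_FF l).mp hy
    exact (mem_FF' l (phi l ⟨h, hh⟩ y)).mpr (Fc_inv (phi l) hy' ⟨h, hh⟩)
  · rw [eq_bot_iff]
    rintro x ⟨hx, hx'⟩
    obtain ⟨y, hy, rfl⟩ := (mem_FF l).mp hx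
    rw [mem_bot, t.inf y hx' hy]
    rfl
  · intro x hx
    obtain ⟨y, hy, r, hr, h⟩ := t.exists_FR ⟨x, hx⟩
    exact ⟨y, (mem_FF' l y).mpr hy, r, hr, congrArg Subtype.val h⟩
  · obtain ⟨m, hm, hc, hm2⟩ := t.card_Fc
    refine ⟨m, hm, ?_, fun hne => hm2 (hV hne)⟩
    rw [card_FF l, hc, card_subgroupOf l.leE, l.cardE]
  · intro t' ht' ht1 y hy hyt
    obtain ⟨y, hy', rfl⟩ := (mem_FF l).mp hy
    exact t.centF (t := ⟨t', l.leR ht'⟩) ht' (fun h => ht1 (congrArg Subtype.val h)) hy' (Subtype.ext hyt)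
  · intro hne z hz hzx
    exact t.center (hV hne) (z := ⟨z, hz⟩) fun x => Subtype.ext (hzx x x.2)
  · intro x hx hxV v hv hxv
    have hv' := sup_le_P l hv
    exact t.centV (x := ⟨x, hx⟩) (v := ⟨v, hv'⟩) (fun h => hxV ((mem_V l _).mp h)) ((mem_V l _).mpr hv)
      (Subtype.ext hxv)

theorem layer [Finite G] (l : Lay P R E H q) : ∃ F, LayF P R E H q F := ⟨_, layF l⟩

/-- the first layer is abelian -/
theorem comm1 [Finite G] (l : Lay P R E H q) {F : Subgroup G} (f : LayF P R E H q F) {x y : G} (hx : x ∈ F)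
    (hy : y ∈ F) (hxR : ∀ t ∈ R, x * t * x⁻¹ * t⁻¹ ∈ E) (hyR : ∀ t ∈ R, y * t * y⁻¹ * t⁻¹ ∈ E) :
    x * y = y * x := by
  letI := cg l
  have t := toL l
  rw [eq_FF l f] at hx hy
  obtain ⟨h, hh⟩ := t.exists_h
  have key : ∀ z : ↥P, z ∈ Fc (phi l) → (∀ t ∈ R, (z : G) * t * (z : G)⁻¹ * t⁻¹ ∈ E) → z ∈ t.F1 h := by
    intro z hz hzR
    obtain ⟨r, hr, f, hf, rfl⟩ := t.exists_RF hh (x := z) (fun t' ht' => hzR t' ht')
    have h1 : r ∈ Fc (phi l) := by
      have : r = r * f * f⁻¹ := by group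
      rw [this]
      exact (Fc (phi l)).mul_mem hz ((Fc (phi l)).inv_mem (t.F1_le_Fc hf))
    rw [t.inf r hr h1, one_mul]; exact hf
  obtain ⟨x, hx', rfl⟩ := (mem_FF l).mp hx
  obtain ⟨y, hy', rfl⟩ := (mem_FF l).mp hy
  exact congrArg Subtype.val (t.F1_comm (key x hx' hxR) (key y hy' hyR))

/-- `|R| ≥ 4` -/
theorem big [Finite G] (l : Lay P R E H q) {F : Subgroup G} (f : LayF P R E H q F) (hR : 4 ≤ Nat.card R)
    (hne : P ≠ R ⊔ E) : LayBig P R E H q F := by
  letI := cg l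
  have t := toL l
  obtain ⟨h, hh⟩ := t.exists_h
  have hV : ∃ x : ↥P, x ∉ CaseALayerT.L.V (R.subgroupOf P) (E.subgroupOf P) := by
    by_contra hno
    push Not at hno
    exact hne (le_antisymm (fun x hx => (mem_V l ⟨x, hx⟩).mp (hno _)) (sup_le_P l))
  -- two involutions of `R`
  obtain ⟨a, ha, ha1, b, hb, hb1, hba⟩ : ∃ a ∈ R.subgroupOf P, a ≠ 1 ∧ ∃ b ∈ R.subgroupOf P, b ≠ 1 ∧ b ≠ a := by
    obtain ⟨a, ha, ha1⟩ := t.neR
    refine ⟨a, ha, ha1, ?_⟩
    by_contra hno
    push Not at hno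
    have h1 : ((R.subgroupOf P : Subgroup ↥P) : Set ↥P) ⊆ {1, a} := by
      intro b hb
      by_cases hb1 : b = 1
      · simp [hb1]
      · simp [hno b hb hb1]
    have h2 := Set.ncard_le_ncard h1 (Set.toFinite _)
    have h3 : ({1, a} : Set ↥P).ncard ≤ 2 := by
      have := Set.ncard_insert_le (1 : ↥P) {a}
      rw [Set.ncard_singleton] at this
      exact this
    have h4 : ((R.subgroupOf P : Subgroup ↥P) : Set ↥P).ncard = Nat.card (R.subgroupOf P) := rfl
    rw [h4, card_subgroupOf l.leR] at h2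
    omega
  have hS : ∀ x : ↥P, x ∈ t.S1 := t.all_S1 ha hb ha1 hb1 hba
  have hF := t.Fc_eq hh hS
  have hmem : ∀ x : G, x ∈ F → ∃ y : ↥P, y ∈ t.F1 h ∧ (y : G) = x := by
    intro x hx
    rw [eq_FF l f] at hx
    obtain ⟨y, hy, hyx⟩ := (mem_FF l).mp hx
    exact ⟨y, hF ▸ hy, hyx⟩
  refine ⟨?_, ?_, ?_, ?_, ?_⟩
  · rw [eq_FF l f, card_FF l, hF, t.card_F1 hh hV, card_subgroupOf l.leE, l.cardE, sq]
  · intro x hx y hy
    obtain ⟨x, hx', rfl⟩ := hmem x hx
    obtain ⟨y, hy', rfl⟩ := hmem y hy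
    exact congrArg Subtype.val (t.F1_comm hx' hy')
  · intro x hx
    exact t.sq_mem (hS ⟨x, hx⟩)
  · intro x hx y hy
    exact t.comm_mem (hS ⟨x, hx⟩) (hS ⟨y, hy⟩)
  · intro x hx hxE y hy hyE
    obtain ⟨x, hx', rfl⟩ := hmem x hx
    obtain ⟨y, hy', rfl⟩ := hmem y hy
    obtain ⟨k, e, he, h⟩ := t.trans_F1 hx' (fun h => hxE h) hy' (fun h => hyE h)
    exact ⟨k, k.2, e, he, congrArg Subtype.val h⟩

/-- (ix) the coset lemma, `|R| = 2` -/
theorem elem_of_coset [Finite G] (l : Lay P R E H q) {F : Subgroup G} (f : LayF P R E H q F)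
    (hR : Nat.card R = 2) {w : G} (hw : w ∈ F) (ho : orderOf w = 2)
    (hC : Nat.card (P ⊓ centralizer ({w} : Set G) : Subgroup G) ≤ 2 * q) : Elem F := by
  letI := cg l
  have t := toL l
  rw [eq_FF l f] at hw ⊢
  obtain ⟨w, hw', rfl⟩ := (mem_FF l).mp hw
  have h1 : ∀ x ∈ Fc (phi l), x * x = 1 := by
    refine t.elem_of_coset ?_ ?_ hw' ?_ ?_ ?_
    · rw [l.cardH, card_subgroupOf l.leE, l.cardE]
      have := l.four
      omega
    · rw [card_subgroupOf l.leR, hR]
    · rintro rfl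
      rw [OneMemClass.coe_one, orderOf_one] at ho
      omega
    · apply Subtype.ext
      have h2 := pow_orderOf_eq_one (w : G)
      rw [ho, sq] at h2
      exact h2
    · rw [card_subgroupOf l.leE, l.cardE]
      refine le_trans (le_of_eq ?_) hC
      have h3 : centralizer ({w} : Set ↥P) = (centralizer ({(w : G)} : Set G)).subgroupOf P := by
        ext x
        rw [mem_centralizer_singleton_iff, mem_subgroupOf, mem_centralizer_singleton_iff]
        exact ⟨fun h => congrArg Subtype.val h, fun h => Subtype.ext h⟩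
      rw [h3, inf_comm, ← Subgroup.inf_subgroupOf_right, card_subgroupOf inf_le_right]
  intro x hx
  obtain ⟨x, hx', rfl⟩ := (mem_FF l).mp hx
  exact congrArg Subtype.val (h1 x hx')

end Cfsg.Agent.OddCyclic.CaseALayer
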