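import Cfsg.Agent.OddCyclic.CaseATools
import Cfsg.Prelude.Def_TwoFusion

/-!
# S0342, component case A, step A4(x): no field automorphisms

blueprints/S0342-caseA.md, A4(x). The Sylow 2-subgroup `T` of `G` is `F : R`.
-/

set_option autoImplicit false
set_option linter.unusedSectionVars false

namespace Cfsg.Agent.OddCyclic.CaseAZero

open Subgroup
open Cfsg.Agent.LieExceptional.CITDefs
open Cfsg.Agent.OddCyclic.CompStandard
open Cfsg.Agent.OddCyclic.CaseATools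

variable {G : Type*} [Group G]

/-- `T = F : R`, `E = C_F(r)` for `1 ≠ r ∈ R`, no element of `R` is conjugate into `F`. -/
structure Zero (T : Sylow 2 G) (F R E : Subgroup G) : Prop where
  four : 4 ≤ Nat.card E
  FT : F ≤ (T : Subgroup G)
  RT : R ≤ (T : Subgroup G)
  EF : E ≤ F
  Fn : ∀ x ∈ (T : Subgroup G), ∀ f ∈ F, x * f * x⁻¹ ∈ F
  gen : ∀ x ∈ (T : Subgroup G), ∃ f ∈ F, ∃ r ∈ R, x = f * r
  elemR : Elem R
  elemE : Elem E
  neR : R ≠ ⊥
  cent : ∀ r ∈ R, r ≠ 1 → ∀ f ∈ F, r * f = f * r → f ∈ E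
  TE : ∀ x ∈ (T : Subgroup G), ∀ e ∈ E, x * e = e * x
  notype : ∀ r ∈ R, r ≠ 1 → ∀ g : G, g * r * g⁻¹ ∉ F

/-- The case `|R| ≥ 4`. -/
structure ZeroBig (T : Sylow 2 G) (F R E H : Subgroup G) : Prop extends Zero T F R E where
  ex : ∀ r ∈ R, ∃ s ∈ R, s ≠ 1 ∧ s ≠ r
  abF : ∀ x ∈ F, ∀ y ∈ F, x * y = y * x
  sq : ∀ x ∈ F, x * x ∈ E
  comm : ∀ x ∈ F, ∀ r ∈ R, x * r * x⁻¹ * r⁻¹ ∈ E
  card : Nat.card F = Nat.card E * Nat.card E
  HR : ∀ h ∈ H, ∀ r ∈ R, h * r * h⁻¹ = r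
  HF : ∀ h ∈ H, ∀ f ∈ F, h * f * h⁻¹ ∈ F
  trans : ∀ e ∈ E, e ≠ 1 → ∀ f ∈ E, f ≠ 1 → ∃ h ∈ H, h * e * h⁻¹ = f
  three : ∀ x z : G, orderOf x = 3 → orderOf z = 2 → x * z = z * x → ∃ g, g * z * g⁻¹ ∈ R

section

variable [Finite G] {T : Sylow 2 G} {F R E H : Subgroup G}

theorem Zero.inf (h : Zero T F R E) {r : G} (hr : r ∈ R) (hrF : r ∈ F) : r = 1 := by
  by_contra h1
  exact h.notype r hr h1 1 (by simpa using hrF)

/-- `|R| = 2` -/
theorem Zero.false_two (h : Zero T F R E) (hG : _root_.commutator G = ⊤) {t : G} (htR : t ∈ R)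
    (ht1 : t ≠ 1) (hR : ∀ r ∈ R, r = 1 ∨ r = t) : False := by
  have htF : t ∉ F := fun h1 => ht1 (h.inf htR h1)
  have hidx : F.relIndex (T : Subgroup G) = 2 := by
    refine relIndex_eq_two (h.RT htR) htF fun b hb hbF => ?_
    obtain ⟨f, hf, r, hr, rfl⟩ := h.gen b hb
    rcases hR r hr with rfl | rfl
    · rw [mul_one] at hbF; exact absurd hf hbF
    · rw [mul_assoc, h.elemR _ hr, mul_one]; exact hf
  obtain ⟨a, ha⟩ := CaseATransfer.exists_conj_of_min hG T F h.FT hidx (h.RT htR) htF (by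
    intro x hx hx1
    rw [orderOf_eq_two (h.elemR t htR) ht1]
    have h1 : x ≠ 1 := fun h2 => hx1 (h2 ▸ one_mem _)
    have h2 : orderOf x ≠ 1 := fun h3 => h1 (orderOf_eq_one_iff.mp h3)
    have h3 := orderOf_pos x
    omega)
  exact h.notype t htR ht1 a ha

theorem Zero.nonab (h : Zero T F R E) (hne : ∃ f ∈ F, f ∉ E) :
    ¬ ∀ x ∈ (T : Subgroup G), ∀ y ∈ (T : Subgroup G), x * y = y * x := by
  intro hab
  obtain ⟨f, hf, hfE⟩ := hne
  obtain ⟨⟨r, hr⟩, hr1⟩ := Subgroup.ne_bot_iff_exists_ne_one.mp h.neR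
  exact hfE (h.cent r hr (fun h1 => hr1 (Subtype.ext h1)) f hf (hab r (h.RT hr) f (h.FT hf)))

namespace ZeroBig

theorem exists_r (h : ZeroBig T F R E H) : ∃ r ∈ R, r ≠ 1 := by
  obtain ⟨s, hs, hs1, -⟩ := h.ex 1 R.one_mem
  exact ⟨s, hs, hs1⟩

/-- `x ↦ [x, r]` -/
def cHom (h : ZeroBig T F R E H) {r : G} (hr : r ∈ R) : F →* E where
  toFun x := ⟨x.1 * r * x.1⁻¹ * r⁻¹, h.comm x.1 x.2 r hr⟩
  map_one' := by ext; simp
  map_mul' x y := by
    apply Subtype.ext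
    show x.1 * y.1 * r * (x.1 * y.1)⁻¹ * r⁻¹ =
      x.1 * r * x.1⁻¹ * r⁻¹ * (y.1 * r * y.1⁻¹ * r⁻¹)
    have h1 := h.TE x.1 (h.FT x.2) _ (h.comm y.1 y.2 r hr)
    have h2 := h.TE _ (h.FT (h.EF (h.comm x.1 x.2 r hr))) _ (h.comm y.1 y.2 r hr)
    calc x.1 * y.1 * r * (x.1 * y.1)⁻¹ * r⁻¹
        = x.1 * (y.1 * r * y.1⁻¹ * r⁻¹) * (r * x.1⁻¹ * r⁻¹) := by group
      _ = (y.1 * r * y.1⁻¹ * r⁻¹) * x.1 * (r * x.1⁻¹ * r⁻¹) := by rw [h1]
      _ = (y.1 * r * y.1⁻¹ * r⁻¹) * (x.1 * r * x.1⁻¹ * r⁻¹) := by group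
      _ = _ := h2.symm

theorem mem_ker_cHom (h : ZeroBig T F R E H) {r : G} (hr : r ∈ R) (hr1 : r ≠ 1) (x : F) :
    x ∈ (h.cHom hr).ker ↔ x.1 ∈ E := by
  rw [MonoidHom.mem_ker, Subtype.ext_iff]
  show x.1 * r * x.1⁻¹ * r⁻¹ = 1 ↔ _
  constructor
  · intro h1
    refine h.cent r hr hr1 x.1 x.2 ?_
    have h2 : x.1 * r * x.1⁻¹ = r := mul_inv_eq_one.mp h1
    exact (mul_inv_eq_iff_eq_mul.mp h2).symm
  · intro h1
    have h2 := h.TE r (h.RT hr) x.1 h1
    rw [← h2]; group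

/-- `[F, r] = E` -/
theorem exists_comm (h : ZeroBig T F R E H) {r : G} (hr : r ∈ R) (hr1 : r ≠ 1) {e : G}
    (he : e ∈ E) : ∃ f ∈ F, f * r * f⁻¹ = e * r := by
  have hker : Nat.card (h.cHom hr).ker = Nat.card E := by
    have h1 : (h.cHom hr).ker = E.subgroupOf F := by
      ext x; rw [h.mem_ker_cHom hr hr1, mem_subgroupOf]
    rw [h1]
    exact Nat.card_congr (Subgroup.subgroupOfEquivOfLe h.EF).toEquiv
  have h1 := Subgroup.card_eq_card_quotient_mul_card_subgroup (h.cHom hr).ker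
  rw [Nat.card_congr (QuotientGroup.quotientKerEquivRange (h.cHom hr)).toEquiv, hker, h.card] at h1
  have h2 : Nat.card (h.cHom hr).range = Nat.card E :=
    (Nat.eq_of_mul_eq_mul_right Nat.card_pos h1).symm
  have h3 : (h.cHom hr).range = ⊤ := Subgroup.eq_top_of_card_eq _ h2
  have h4 : (⟨e, he⟩ : E) ∈ (h.cHom hr).range := by rw [h3]; exact mem_top _
  obtain ⟨x, hx⟩ := h4
  have h5 : x.1 * r * x.1⁻¹ * r⁻¹ = e := congrArg Subtype.val hx
  exact ⟨x.1, x.2, by rw [← h5]; group⟩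

/-- `H` is transitive on the nontrivial elements of `F/E`. -/
theorem exists_h (h : ZeroBig T F R E H) {x y : G} (hx : x ∈ F) (hxE : x ∉ E) (hy : y ∈ F)
    (hyE : y ∉ E) : ∃ k ∈ H, ∃ e ∈ E, y = k * x * k⁻¹ * e := by
  obtain ⟨r, hr, hr1⟩ := h.exists_r
  have hx1 : x * r * x⁻¹ * r⁻¹ ≠ 1 := by
    intro h1
    exact hxE ((h.mem_ker_cHom hr hr1 ⟨x, hx⟩).mp (Subtype.ext h1))
  have hy1 : y * r * y⁻¹ * r⁻¹ ≠ 1 := by
    intro h1
    exact hyE ((h.mem_ker_cHom hr hr1 ⟨y, hy⟩).mp (Subtype.ext h1))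
  obtain ⟨k, hk, hk1⟩ := h.trans _ (h.comm x hx r hr) hx1 _ (h.comm y hy r hr) hy1
  have hkx : k * x * k⁻¹ ∈ F := h.HF k hk x hx
  have h2 : (⟨k * x * k⁻¹, hkx⟩ : F)⁻¹ * ⟨y, hy⟩ ∈ (h.cHom hr).ker := by
    rw [MonoidHom.mem_ker, map_mul, map_inv, inv_mul_eq_one]
    apply Subtype.ext
    show k * x * k⁻¹ * r * (k * x * k⁻¹)⁻¹ * r⁻¹ = y * r * y⁻¹ * r⁻¹
    rw [← hk1]
    have h3 : k⁻¹ * r * k = r := by
      have := h.HR k⁻¹
      have h4 : k * r * k⁻¹ = r := h.HR k hk r hr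
      calc k⁻¹ * r * k = k⁻¹ * (k * r * k⁻¹) * k := by rw [h4]
        _ = r := by group
    have h4 : k * r⁻¹ * k⁻¹ = r⁻¹ := by
      have h5 : k * r * k⁻¹ = r := h.HR k hk r hr
      calc k * r⁻¹ * k⁻¹ = (k * r * k⁻¹)⁻¹ := by group
        _ = r⁻¹ := by rw [h5]
    calc k * x * k⁻¹ * r * (k * x * k⁻¹)⁻¹ * r⁻¹ = k * x * (k⁻¹ * r * k) * x⁻¹ * k⁻¹ * r⁻¹ := by
          group
      _ = k * x * r * x⁻¹ * k⁻¹ * r⁻¹ := by rw [h3]
      _ = k * x * r * x⁻¹ * k⁻¹ * (k * r⁻¹ * k⁻¹) := by rw [h4]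
      _ = _ := by group
  rw [h.mem_ker_cHom hr hr1] at h2
  have h3 : (k * x * k⁻¹)⁻¹ * y ∈ E := h2
  exact ⟨k, hk, _, h3, by group⟩

theorem sq_mul (h : ZeroBig T F R E H) {x e : G} (hx : x ∈ F) (he : e ∈ E) :
    x * e * (x * e) = x * x := by
  have h1 := h.TE x (h.FT hx) e he
  calc x * e * (x * e) = x * (e * x) * e := by group
    _ = x * (x * e) * e := by rw [h1]
    _ = x * x * (e * e) := by group
    _ = x * x := by rw [h.elemE e he, mul_one]

/-- `F` is elementary abelian or `Ω₁(F) = E` -/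
theorem dich (h : ZeroBig T F R E H) :
    (∀ x ∈ F, x * x = 1) ∨ (∀ x ∈ F, x * x = 1 → x ∈ E) := by
  by_cases hex : ∃ x ∈ F, x * x = 1 ∧ x ∉ E
  · left
    obtain ⟨x, hx, hx2, hxE⟩ := hex
    intro y hy
    by_cases hyE : y ∈ E
    · exact h.elemE y hyE
    · obtain ⟨k, hk, e, he, rfl⟩ := h.exists_h hx hxE hy hyE
      rw [h.sq_mul (h.HF k hk x hx) he]
      calc k * x * k⁻¹ * (k * x * k⁻¹) = k * (x * x) * k⁻¹ := by group
        _ = 1 := by rw [hx2]; group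
  · right
    intro x hx hx2
    by_contra hxE
    exact hex ⟨x, hx, hx2, hxE⟩

/-- elements `er`, `e ∈ E`, are conjugate to `r` -/
theorem conj_er (h : ZeroBig T F R E H) {r : G} (hr : r ∈ R) (hr1 : r ≠ 1) {e : G} (he : e ∈ E)
    (g : G) : g * (e * r) * g⁻¹ ∉ F := by
  obtain ⟨f, hf, hfr⟩ := h.exists_comm hr hr1 he
  intro h1
  apply h.notype r hr hr1 (g * f)
  have : g * f * r * (g * f)⁻¹ = g * (f * r * f⁻¹) * g⁻¹ := by group
  rw [this, hfr]
  exact h1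

/-- The form of Goldschmidt's theorem (S1169) used here. -/
def Gold (T : Sylow 2 G) : Prop := ∀ A : Subgroup G, A ≠ ⊥ → IsMulCommutative A →
  Cfsg.IsStronglyClosed A (T : Subgroup G) →
  IsMulCommutative (T : Subgroup G) ∨ ∃ H : Subgroup G, Cfsg.IsStronglyEmbedded H

theorem false_of_closed (h : ZeroBig T F R E H) (hGold : Gold T)
    (hSE : ¬ ∃ H : Subgroup G, Cfsg.IsStronglyEmbedded H) {A : Subgroup G} (hA : A ≠ ⊥)
    (hab : ∀ x ∈ A, ∀ y ∈ A, x * y = y * x) (hAT : A ≤ (T : Subgroup G))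
    (hcl : ∀ x ∈ A, ∀ g : G, g * x * g⁻¹ ∈ (T : Subgroup G) → g * x * g⁻¹ ∈ A) : False := by
  have hc : IsMulCommutative A := ⟨⟨fun a b => Subtype.ext (hab a.1 a.2 b.1 b.2)⟩⟩
  rcases hGold A hA hc ⟨hAT, hcl⟩ with h1 | h1
  · refine h.nonab ?_ fun x hx y hy => ?_
    · by_contra hno
      push Not at hno
      have h2 : Nat.card F ≤ Nat.card E := Subgroup.card_le_of_le hno
      rw [h.card] at h2
      have h3 := h.four
      nlinarith
    · have := h1.is_comm.comm ⟨x, hx⟩ ⟨y, hy⟩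
      exact congrArg Subtype.val this
  · exact hSE h1

theorem rconj (h : ZeroBig T F R E H) {y r : G} (hr : r ∈ R) (h1 : y * r * (y * r) = 1) :
    r * y * r⁻¹ = y⁻¹ := by
  have h2 := h.elemR r hr
  have h3 : r⁻¹ = r := inv_eq_self h2
  apply eq_inv_of_mul_eq_one_right
  rw [h3]
  calc y * (r * y * r) = y * r * (y * r) := by group
    _ = 1 := h1

theorem T_mul (h : ZeroBig T F R E H) {e x : G} (he : e ∈ E) (hx : x ∈ (T : Subgroup G)) :
    x * e = e * x := h.TE x hx e he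

/-- `F` elementary abelian -/
theorem false_elem (h : ZeroBig T F R E H) (hGold : Gold T)
    (hSE : ¬ ∃ H : Subgroup G, Cfsg.IsStronglyEmbedded H) (hel : ∀ x ∈ F, x * x = 1) : False := by
  refine h.false_of_closed hGold hSE (A := F) ?_ h.abF h.FT ?_
  · intro hb
    have h1 : Nat.card F = 1 := by rw [hb, Subgroup.card_bot]
    have h2 := h.card
    have h3 := h.four
    nlinarith
  · intro x hx g hg
    obtain ⟨y, hy, r, hr, hyr⟩ := h.gen _ hg
    by_cases hr1 : r = 1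
    · rw [hyr, hr1, mul_one]; exact hy
    · exfalso
      have h1 : y * r * (y * r) = 1 := by
        rw [← hyr]
        calc g * x * g⁻¹ * (g * x * g⁻¹) = g * (x * x) * g⁻¹ := by group
          _ = 1 := by rw [hel x hx]; group
      have h2 := h.rconj hr h1
      rw [inv_eq_self (hel y hy)] at h2
      have hyE : y ∈ E := h.cent r hr hr1 y hy (mul_inv_eq_iff_eq_mul.mp h2)
      apply h.conj_er hr hr1 hyE g⁻¹
      rw [← hyr]
      have : g⁻¹ * (g * x * g⁻¹) * g⁻¹⁻¹ = x := by group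
      rw [this]; exact hx

/-- an element of `R` inverting an element of `F - E` inverts `F` -/
theorem inverts (h : ZeroBig T F R E H) {x r : G} (hx : x ∈ F) (hxE : x ∉ E) (hr : r ∈ R)
    (hxr : r * x * r⁻¹ = x⁻¹) {y : G} (hy : y ∈ F) : r * y * r⁻¹ = y⁻¹ := by
  by_cases hyE : y ∈ E
  · rw [inv_eq_self (h.elemE y hyE), conj_eq_iff_comm]
    exact h.TE r (h.RT hr) y hyE
  · obtain ⟨k, hk, e, he, rfl⟩ := h.exists_h hx hxE hy hyE
    have h1 : k * r * k⁻¹ = r := h.HR k hk r hr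
    have h2 : k⁻¹ * r * k = r := by
      calc k⁻¹ * r * k = k⁻¹ * (k * r * k⁻¹) * k := by rw [h1]
        _ = r := by group
    have h3 : r * e * r⁻¹ = e := conj_eq_iff_comm.mpr (h.TE r (h.RT hr) e he)
    have h4 : k * r⁻¹ * k⁻¹ = r⁻¹ := by
      calc k * r⁻¹ * k⁻¹ = (k * r * k⁻¹)⁻¹ := by group
        _ = r⁻¹ := by rw [h1]
    have h5 : r * (k * x * k⁻¹) * r⁻¹ = (k * x * k⁻¹)⁻¹ := by
      calc r * (k * x * k⁻¹) * r⁻¹ = r * k * x * k⁻¹ * r⁻¹ := by group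
        _ = (k * r * k⁻¹) * k * x * k⁻¹ * (k * r⁻¹ * k⁻¹) := by rw [h1, h4]
        _ = k * (r * x * r⁻¹) * k⁻¹ := by group
        _ = (k * x * k⁻¹)⁻¹ := by rw [hxr]; group
    calc r * (k * x * k⁻¹ * e) * r⁻¹ = (r * (k * x * k⁻¹) * r⁻¹) * (r * e * r⁻¹) := by group
      _ = (k * x * k⁻¹)⁻¹ * e := by rw [h5, h3]
      _ = (k * x * k⁻¹)⁻¹ * e⁻¹ := by rw [inv_eq_self (h.elemE e he)]
      _ = e⁻¹ * (k * x * k⁻¹)⁻¹ :=
        h.TE _ (h.FT (F.inv_mem (h.HF k hk x hx))) _ (E.inv_mem he)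
      _ = (k * x * k⁻¹ * e)⁻¹ := by group

theorem uniq_inv (h : ZeroBig T F R E H) {x r s : G} (hx : x ∈ F) (hxE : x ∉ E) (hr : r ∈ R)
    (hs : s ∈ R) (hxr : r * x * r⁻¹ = x⁻¹) (hxs : s * x * s⁻¹ = x⁻¹) : r = s := by
  by_contra hne
  have h1 : r * s ≠ 1 := by
    intro h2
    apply hne
    rw [← inv_eq_self (h.elemR s hs)]
    exact eq_inv_of_mul_eq_one_left h2
  apply hxE
  refine h.cent (r * s) (R.mul_mem hr hs) h1 x hx ?_
  rw [← conj_eq_iff_comm]
  have h3 : r * x⁻¹ * r⁻¹ = x := by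
    calc r * x⁻¹ * r⁻¹ = (r * x * r⁻¹)⁻¹ := by group
      _ = x := by rw [hxr, inv_inv]
  calc r * s * x * (r * s)⁻¹ = r * (s * x * s⁻¹) * r⁻¹ := by group
    _ = x := by rw [hxs, h3]

/-- involutions of `T - E` -/
theorem inv_T (h : ZeroBig T F R E H) (hho : ∀ x ∈ F, x * x = 1 → x ∈ E) {w : G}
    (hw : w ∈ (T : Subgroup G)) (hw2 : w * w = 1) (hwE : w ∉ E) :
    ∃ y ∈ F, ∃ r ∈ R, w = y * r ∧ r ≠ 1 ∧ r * y * r⁻¹ = y⁻¹ := by
  obtain ⟨y, hy, r, hr, rfl⟩ := h.gen w hw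
  have h1 : r ≠ 1 := by
    rintro rfl
    rw [mul_one] at hw2 hwE
    exact hwE (hho y hy hw2)
  exact ⟨y, hy, r, hr, rfl, h1, h.rconj hr hw2⟩

/-- squares are surjective -/
theorem exists_sq (h : ZeroBig T F R E H) (hho : ∀ x ∈ F, x * x = 1 → x ∈ E) {e : G}
    (he : e ∈ E) : ∃ f ∈ F, f * f = e := by
  let σ : F →* E :=
    { toFun := fun x => ⟨x.1 * x.1, h.sq x.1 x.2⟩
      map_one' := by ext; simp
      map_mul' := by
        intro x y
        apply Subtype.ext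
        show x.1 * y.1 * (x.1 * y.1) = x.1 * x.1 * (y.1 * y.1)
        have := h.abF x.1 x.2 y.1 y.2
        calc x.1 * y.1 * (x.1 * y.1) = x.1 * (y.1 * x.1) * y.1 := by group
          _ = x.1 * (x.1 * y.1) * y.1 := by rw [this]
          _ = _ := by group }
  have hker : Nat.card σ.ker = Nat.card E := by
    have h1 : σ.ker = E.subgroupOf F := by
      ext x
      rw [MonoidHom.mem_ker, mem_subgroupOf, Subtype.ext_iff]
      exact ⟨fun h1 => hho x.1 x.2 h1, fun h1 => h.elemE _ h1⟩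
    rw [h1]
    exact Nat.card_congr (Subgroup.subgroupOfEquivOfLe h.EF).toEquiv
  have h1 := Subgroup.card_eq_card_quotient_mul_card_subgroup σ.ker
  rw [Nat.card_congr (QuotientGroup.quotientKerEquivRange σ).toEquiv, hker, h.card] at h1
  have h2 : Nat.card σ.range = Nat.card E := (Nat.eq_of_mul_eq_mul_right Nat.card_pos h1).symm
  have h3 : σ.range = ⊤ := Subgroup.eq_top_of_card_eq _ h2
  have h4 : (⟨e, he⟩ : E) ∈ σ.range := by rw [h3]; exact mem_top _
  obtain ⟨x, hx⟩ := h4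
  exact ⟨x.1, x.2, congrArg Subtype.val hx⟩

/-- conjugation by `y ∈ F` of `xt`, `t` inverting `F` -/
theorem conj_xt (h : ZeroBig T F R E H) {t x y : G} (hy : y ∈ F) (hx : x ∈ F)
    (ht : t * y * t⁻¹ = y⁻¹) : y * (x * t) * y⁻¹ = y * y * (x * t) := by
  have h1 : t * y⁻¹ * t⁻¹ = y := by
    calc t * y⁻¹ * t⁻¹ = (t * y * t⁻¹)⁻¹ := by group
      _ = y := by rw [ht, inv_inv]
  have h2 := h.abF y hy x hx
  calc y * (x * t) * y⁻¹ = y * x * (t * y⁻¹ * t⁻¹) * t := by group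
    _ = y * (x * y) * t := by rw [h1]; group
    _ = y * y * (x * t) := by rw [← h2]; group

/-- `Ω₁(F) = E`: `E` is strongly closed in `T` -/
theorem closed (h : ZeroBig T F R E H) (hho : ∀ x ∈ F, x * x = 1 → x ∈ E) {e g : G} (he : e ∈ E)
    (hg : g * e * g⁻¹ ∈ (T : Subgroup G)) : g * e * g⁻¹ ∈ E := by
  by_contra hvE
  set v := g * e * g⁻¹ with hv
  have hv2 : v * v = 1 := by
    rw [hv]
    calc g * e * g⁻¹ * (g * e * g⁻¹) = g * (e * e) * g⁻¹ := by group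
      _ = 1 := by rw [h.elemE e he]; group
  obtain ⟨x, hx, t, ht, hxt, ht1, htx⟩ := h.inv_T hho hg hv2 hvE
  have hxE : x ∉ E := by
    intro h1
    apply h.conj_er ht ht1 h1 g⁻¹
    rw [← hxt, hv]
    have : g⁻¹ * (g * e * g⁻¹) * g⁻¹⁻¹ = e := by group
    rw [this]; exact h.EF he
  have htF : ∀ y ∈ F, t * y * t⁻¹ = y⁻¹ := fun y hy => h.inverts hx hxE ht htx hy
  -- the centralizer of `v` in `T`
  obtain ⟨g', hg'v, hg'T⟩ := exists_conj_le T (e := e) (v := v) (g := g)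
    (fun y hy => h.TE y hy e he) hv.symm (Q := (T : Subgroup G) ⊓ centralizer ({v} : Set G))
    (T.isPGroup'.to_le inf_le_left) (fun y hy => mem_centralizer_singleton_iff.mp hy.2)
  -- an element of order 4 centralising `v`
  obtain ⟨z, hzT, hzv, hz2⟩ : ∃ z ∈ (T : Subgroup G), z * v = v * z ∧ z * z ≠ 1 := by
    obtain ⟨s, hs, hs1, hst⟩ := h.ex t ht
    obtain ⟨y, hy, hyy⟩ := h.exists_sq hho (h.comm x hx s hs)
    have hy4 : y * y * (y * y) = 1 := h.elemE _ (h.sq y hy)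
    have hsx : s * x * s⁻¹ = y * y * x := by
      have h1 : (y * y)⁻¹ = y * y := inv_eq_self hy4
      rw [← h1, hyy]
      group
    have hyE : y ∉ E := by
      intro h1
      rw [h.elemE y h1] at hyy
      apply hxE
      refine h.cent s hs hs1 x hx ?_
      have h2 : x * s * x⁻¹ = s := mul_inv_eq_one.mp hyy.symm
      exact (mul_inv_eq_iff_eq_mul.mp h2).symm
    refine ⟨y * s, mul_mem (h.FT hy) (h.RT hs), ?_, ?_⟩
    · have hts : s * t = t * s := h.elemR.comm hs ht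
      have h1 : y * (y * y * x) = x * y⁻¹ := by
        have h2 := h.abF y hy x hx
        have h3 : y * (y * y) = y⁻¹ := by
          apply eq_inv_of_mul_eq_one_left
          calc y * (y * y) * y = y * y * (y * y) := by group
            _ = 1 := hy4
        have h4 := h.abF y⁻¹ (F.inv_mem hy) x hx
        rw [← h4, ← h3]
        group
      rw [hxt]
      calc y * s * (x * t) = y * (s * x * s⁻¹) * (s * t) := by group
        _ = y * (y * y * x) * (t * s) := by rw [hsx, hts]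
        _ = x * y⁻¹ * t * s := by rw [h1]; group
        _ = x * (t * y * t⁻¹) * t * s := by rw [htF y hy]
        _ = x * t * (y * s) := by group
    · intro h1
      exact hst (h.uniq_inv hy hyE hs ht (h.rconj hs h1) (htF y hy))
  -- the group `Q₁ = E⟨v⟩`
  have hvT : v ∈ (T : Subgroup G) := hg
  have hvn : ∀ f ∈ E, v * f * v⁻¹ ∈ E := fun f hf => by
    rw [conj_eq_iff_comm.mpr (h.TE v hvT f hf)]; exact hf
  have hmem : ∀ w, w ∈ E ⊔ zpowers v ↔ w ∈ E ∨ ∃ f ∈ E, w = f * v := by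
    intro w
    rw [mem_sup_zpowers_iff hvn]
    constructor
    · rintro ⟨f, hf, j, rfl⟩
      rcases Int.even_or_odd' j with ⟨n, hn | hn⟩
      · left
        rw [hn, zpow_mul, zpow_ofNat, pow_two, hv2, one_zpow, mul_one]; exact hf
      · right
        refine ⟨f, hf, ?_⟩
        rw [hn, zpow_add, zpow_mul, zpow_ofNat, pow_two, hv2, one_zpow, one_mul, zpow_one]
    · rintro (hw | ⟨f, hf, rfl⟩)
      · exact ⟨w, hw, 0, by simp⟩
      · exact ⟨f, hf, 1, by simp⟩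
  have hQT : ∀ w ∈ E ⊔ zpowers v, w ∈ (T : Subgroup G) ∧ w * v = v * w ∧ w * w = 1 ∧
      z * w = w * z := by
    intro w hw
    rcases (hmem w).mp hw with h1 | ⟨f, hf, rfl⟩
    · exact ⟨h.FT (h.EF h1), (h.TE v hvT w h1).symm, h.elemE w h1, h.TE z hzT w h1⟩
    · have h2 := h.TE v hvT f hf
      have h3 := h.TE z hzT f hf
      refine ⟨mul_mem (h.FT (h.EF hf)) hvT, ?_, ?_, ?_⟩
      · calc f * v * v = (f * v) * v := by group
          _ = v * f * v := by rw [h2]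
          _ = v * (f * v) := by group
      · calc f * v * (f * v) = f * (v * f) * v := by group
          _ = (f * f) * (v * v) := by rw [h2]; group
          _ = 1 := by rw [h.elemE f hf, hv2, one_mul]
      · calc z * (f * v) = (z * f) * v := by group
          _ = f * (z * v) := by rw [h3]; group
          _ = f * v * z := by rw [hzv]; group
  have hcardQ : Nat.card (E ⊔ zpowers v : Subgroup G) = 2 * Nat.card E := by
    have h1 : E.relIndex (E ⊔ zpowers v) = 2 := by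
      refine relIndex_eq_two (mem_sup_right (mem_zpowers v)) hvE fun b hb hbE => ?_
      rcases (hmem b).mp hb with h1 | ⟨f, hf, rfl⟩
      · exact absurd h1 hbE
      · rw [mul_assoc, hv2, mul_one]; exact hf
    have h2 := card_mul_relIndex (H := E) (K := E ⊔ zpowers v) le_sup_left
    rw [h1] at h2
    rw [← h2, mul_comm]
  -- conjugates of elements of `Q₁`
  have hz' : g'⁻¹ * z * g' ∈ (T : Subgroup G) :=
    hg'T z ⟨hzT, mem_centralizer_singleton_iff.mpr hzv⟩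
  have hA : ∀ w ∈ E ⊔ zpowers v, g'⁻¹ * w * g' ∉ E → ∃ y ∈ F, g'⁻¹ * w * g' = y * t := by
    intro w hw hwE
    obtain ⟨h1, h2, h3, h4⟩ := hQT w hw
    have h5 : g'⁻¹ * w * g' ∈ (T : Subgroup G) := hg'T w ⟨h1, mem_centralizer_singleton_iff.mpr h2⟩
    have h6 : g'⁻¹ * w * g' * (g'⁻¹ * w * g') = 1 := by
      calc g'⁻¹ * w * g' * (g'⁻¹ * w * g') = g'⁻¹ * (w * w) * g' := by group
        _ = 1 := by rw [h3]; group
    obtain ⟨y, hy, r, hr, hyr, hr1, hry⟩ := h.inv_T hho h5 h6 hwE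
    by_cases hyE : y ∈ E
    · exfalso
      apply hz2
      obtain ⟨y', hy', s, hs, hys⟩ := h.gen _ hz'
      have h7 : (g'⁻¹ * z * g') * (g'⁻¹ * w * g') = (g'⁻¹ * w * g') * (g'⁻¹ * z * g') := by
        calc (g'⁻¹ * z * g') * (g'⁻¹ * w * g') = g'⁻¹ * (z * w) * g' := by group
          _ = g'⁻¹ * (w * z) * g' := by rw [h4]
          _ = _ := by group
      rw [hyr, hys] at h7
      have h8 := h.TE _ (mul_mem (h.FT hy') (h.RT hs)) y hyE
      have h9 : r * y' = y' * r := by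
        have h10 : y * (y' * s * r) = y * (r * (y' * s)) := by
          calc y * (y' * s * r) = (y * (y' * s)) * r := by group
            _ = y' * s * y * r := by rw [← h8]
            _ = y' * s * (y * r) := by group
            _ = y * r * (y' * s) := h7
            _ = _ := by group
        have h11 := mul_left_cancel h10
        have h12 : s * r = r * s := h.elemR.comm hs hr
        have h13 : y' * r * s = r * y' * s := by
          calc y' * r * s = y' * (r * s) := by group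
            _ = y' * s * r := by rw [← h12]; group
            _ = r * (y' * s) := h11
            _ = r * y' * s := by group
        exact (mul_right_cancel h13).symm
      have hy'E := h.cent r hr hr1 y' hy' h9
      have h14 : g'⁻¹ * z * g' * (g'⁻¹ * z * g') = 1 := by
        rw [hys]
        have h15 := h.TE s (h.RT hs) y' hy'E
        calc y' * s * (y' * s) = y' * (s * y') * s := by group
          _ = (y' * y') * (s * s) := by rw [h15]; group
          _ = 1 := by rw [h.elemE y' hy'E, h.elemR s hs, one_mul]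
      calc z * z = g' * (g'⁻¹ * z * g' * (g'⁻¹ * z * g')) * g'⁻¹ := by group
        _ = 1 := by rw [h14]; group
    · refine ⟨y, hy, ?_⟩
      rw [hyr, h.uniq_inv hy hyE hr ht hry (htF y hy)]
  -- `E_v = g' E g'⁻¹ ≤ Q₁`
  have hEv : ∀ f ∈ E, g' * f * g'⁻¹ ∈ E ⊔ zpowers v := by
    have h1 : Nat.card (cj g'⁻¹ (E ⊔ zpowers v)) ≤
        2 * Nat.card (cj g'⁻¹ (E ⊔ zpowers v) ⊓ E : Subgroup G) := by
      refine card_le_two_mul fun w₁ hw₁ w₂ hw₂ h1 h2 => ?_
      rw [mem_cj, inv_inv] at hw₁ hw₂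
      have e₁ : g'⁻¹ * (g' * w₁ * g'⁻¹) * g' = w₁ := by group
      have e₂ : g'⁻¹ * (g' * w₂ * g'⁻¹) * g' = w₂ := by group
      obtain ⟨y₁, hy₁, hw₁'⟩ := hA _ hw₁ (by rw [e₁]; exact h1)
      obtain ⟨y₂, hy₂, hw₂'⟩ := hA _ hw₂ (by rw [e₂]; exact h2)
      rw [e₁] at hw₁'
      rw [e₂] at hw₂'
      have h3 : w₁ * w₂ ∈ F := by
        have htt := h.elemR t ht
        have h4 : t⁻¹ = t := inv_eq_self htt
        have h5 := htF y₂ hy₂
        rw [h4] at h5
        rw [hw₁', hw₂']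
        have h6 : y₁ * t * (y₂ * t) = y₁ * (t * y₂ * t) := by group
        rw [h6, h5]
        exact F.mul_mem hy₁ (F.inv_mem hy₂)
      refine hho _ h3 ?_
      have h4 := (hQT _ (mul_mem hw₁ hw₂)).2.2.1
      calc w₁ * w₂ * (w₁ * w₂) = g'⁻¹ * (g' * w₁ * g'⁻¹ * (g' * w₂ * g'⁻¹) *
            (g' * w₁ * g'⁻¹ * (g' * w₂ * g'⁻¹))) * g' := by group
        _ = 1 := by rw [h4]; group
    rw [card_cj, hcardQ] at h1
    have h2 : cj g'⁻¹ (E ⊔ zpowers v) ⊓ E = E :=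
      Subgroup.eq_of_le_of_card_ge inf_le_right (by omega)
    intro f hf
    rw [← h2] at hf
    have := mem_cj.mp hf.1
    rwa [inv_inv] at this
  -- `w ∈ E - E_v`
  have hvEv : v ∈ cj g' E := by rw [← hg'v]; exact conj_mem_cj he
  obtain ⟨w, hwE, hwEv⟩ : ∃ w ∈ E, w ∉ cj g' E := by
    by_contra hno
    push Not at hno
    have h1 : E = cj g' E := Subgroup.eq_of_le_of_card_ge hno (by rw [card_cj])
    exact hvE (h1 ▸ hvEv)
  obtain ⟨y₁, hy₁, hw'⟩ := hA w (mem_sup_left hwE) (fun h1 => hwEv (mem_cj.mpr h1))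
  obtain ⟨b', hb', hbb'⟩ := h.exists_sq hho he
  obtain ⟨a, ha, haa⟩ := h.exists_sq hho hwE
  set b := g' * b' * g'⁻¹ with hb
  have hbw : b * w * b⁻¹ = v * w := by
    have h1 := h.conj_xt hb' hy₁ (htF b' hb')
    rw [hbb', ← hw'] at h1
    calc b * w * b⁻¹ = g' * (b' * (g'⁻¹ * w * g') * b'⁻¹) * g'⁻¹ := by rw [hb]; group
      _ = g' * (e * (g'⁻¹ * w * g')) * g'⁻¹ := by rw [h1]
      _ = (g' * e * g'⁻¹) * w := by group
      _ = v * w := by rw [hg'v]
  have hbE : ∀ d ∈ cj g' E, b * d * b⁻¹ = d := by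
    intro d hd
    have h1 := mem_cj.mp hd
    have h2 := h.TE b' (h.FT hb') _ h1
    calc b * d * b⁻¹ = g' * (b' * (g'⁻¹ * d * g')) * b'⁻¹ * g'⁻¹ := by rw [hb]; group
      _ = g' * ((g'⁻¹ * d * g') * b') * b'⁻¹ * g'⁻¹ := by rw [h2]
      _ = d := by group
  have hav : a * v * a⁻¹ = w * v := by
    have h1 := h.conj_xt ha hx (htF a ha)
    rw [← hxt, haa] at h1
    exact h1
  have haE : ∀ d ∈ E, a * d * a⁻¹ = d := fun d hd => conj_eq_iff_comm.mpr (h.TE a (h.FT ha) d hd)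
  set c := a * b with hc
  have hcv : c * v * c⁻¹ = w * v := by
    calc c * v * c⁻¹ = a * (b * v * b⁻¹) * a⁻¹ := by rw [hc]; group
      _ = w * v := by rw [hbE v hvEv, hav]
  have hvw : v * w = w * v := h.TE v hvT w hwE
  have hcw : c * w * c⁻¹ = v := by
    calc c * w * c⁻¹ = a * (b * w * b⁻¹) * a⁻¹ := by rw [hc]; group
      _ = (a * v * a⁻¹) * (a * w * a⁻¹) := by rw [hbw]; group
      _ = w * v * w := by rw [hav, haE w hwE]
      _ = (w * w) * v := by rw [mul_assoc, hvw]; group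
      _ = v := by rw [h.elemE w hwE, one_mul]
  -- a fixed point
  obtain ⟨d, hdE, hdEv, hd1⟩ : ∃ d ∈ E, d ∈ cj g' E ∧ d ≠ 1 := by
    have h1 : Nat.card (cj g' E) ≤ 2 * Nat.card (cj g' E ⊓ E : Subgroup G) := by
      refine card_le_two_mul fun w₁ hw₁ w₂ hw₂ h1 h2 => ?_
      have h3 : w₁ ∈ E ⊔ zpowers v := by
        have := hEv _ (mem_cj.mp hw₁)
        have e₁ : g' * (g'⁻¹ * w₁ * g') * g'⁻¹ = w₁ := by group
        rwa [e₁] at this
      have h4 : w₂ ∈ E ⊔ zpowers v := by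
        have := hEv _ (mem_cj.mp hw₂)
        have e₁ : g' * (g'⁻¹ * w₂ * g') * g'⁻¹ = w₂ := by group
        rwa [e₁] at this
      rcases (hmem w₁).mp h3 with h5 | ⟨f₁, hf₁, rfl⟩
      · exact absurd h5 h1
      rcases (hmem w₂).mp h4 with h5 | ⟨f₂, hf₂, rfl⟩
      · exact absurd h5 h2
      have h5 := h.TE v hvT f₂ hf₂
      have h6 : f₁ * v * (f₂ * v) = f₁ * f₂ := by
        calc f₁ * v * (f₂ * v) = f₁ * (v * f₂) * v := by group
          _ = f₁ * f₂ * (v * v) := by rw [h5]; group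
          _ = f₁ * f₂ := by rw [hv2, mul_one]
      rw [h6]
      exact E.mul_mem hf₁ hf₂
    rw [card_cj] at h1
    have h2 := h.four
    have h3 : 1 < Nat.card (cj g' E ⊓ E : Subgroup G) := by omega
    have h4 : (cj g' E ⊓ E : Subgroup G) ≠ ⊥ := by
      intro h5
      rw [h5, Subgroup.card_bot] at h3
      omega
    obtain ⟨⟨d, hd⟩, hd1⟩ := Subgroup.ne_bot_iff_exists_ne_one.mp h4
    exact ⟨d, hd.2, hd.1, fun h5 => hd1 (Subtype.ext h5)⟩
  have hcd : c * d = d * c := by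
    rw [← conj_eq_iff_comm]
    calc c * d * c⁻¹ = a * (b * d * b⁻¹) * a⁻¹ := by rw [hc]; group
      _ = d := by rw [hbE d hdEv, haE d hdE]
  -- an element of order 3
  have h3n : 3 ∣ orderOf c := by
    by_contra hno
    have hcop : (orderOf c).Coprime 3 := (Nat.Coprime.symm ((Nat.Prime.coprime_iff_not_dvd
      Nat.prime_three).mpr hno))
    have h1 : c ^ 3 * v = v * c ^ 3 := by
      rw [← conj_eq_iff_comm]
      have h0 : c ^ 3 = c * c * c := by rw [pow_succ, pow_two]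
      calc c ^ 3 * v * (c ^ 3)⁻¹ = c * (c * (c * v * c⁻¹) * c⁻¹) * c⁻¹ := by rw [h0]; group
        _ = c * (c * (w * v) * c⁻¹) * c⁻¹ := by rw [hcv]
        _ = c * ((c * w * c⁻¹) * (c * v * c⁻¹)) * c⁻¹ := by group
        _ = c * (v * (w * v)) * c⁻¹ := by rw [hcw, hcv]
        _ = c * w * c⁻¹ := by
          have : v * (w * v) = w := by
            rw [← mul_assoc, hvw, mul_assoc, hv2, mul_one]
          rw [this]
        _ = v := hcw
    have h2 : c ∈ zpowers (c ^ 3) := by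
      obtain ⟨m, hm⟩ := exists_pow_eq_self_of_coprime hcop.symm
      exact ⟨m, by
        show (c ^ 3) ^ (m : ℤ) = c
        rw [zpow_natCast]; exact hm⟩
    obtain ⟨m, hm⟩ := h2
    have h4 : Commute (c ^ 3) v := h1
    have h5 : Commute ((c ^ 3) ^ m) v := h4.zpow_left m
    have h6 : c * v = v * c := by
      have h7 : (c ^ 3) ^ m = c := hm
      rw [h7] at h5
      exact h5
    rw [conj_eq_iff_comm.mpr h6] at hcv
    have h7 : w = 1 := by
      have : 1 * v = w * v := by rw [one_mul]; exact hcv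
      exact (mul_right_cancel this).symm
    exact hwEv (h7 ▸ one_mem _)
  have hn0 : orderOf c ≠ 0 := (orderOf_pos c).ne'
  obtain ⟨n, hn⟩ := h3n
  have hn1 : n ≠ 0 := by rintro rfl; omega
  have hord : orderOf (c ^ n) = 3 := by
    rw [orderOf_pow' c hn1, hn, Nat.gcd_mul_left_left, Nat.mul_div_cancel _ (Nat.pos_of_ne_zero hn1)]
  have hcomm : c ^ n * d = d * c ^ n := (show Commute c d from hcd).pow_left n
  obtain ⟨g₁, hg₁⟩ := h.three (c ^ n) d hord (orderOf_eq_two (h.elemE d hdE) hd1) hcomm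
  refine h.notype _ hg₁ ?_ g₁⁻¹ ?_
  · intro h1
    apply hd1
    calc d = g₁⁻¹ * (g₁ * d * g₁⁻¹) * g₁ := by group
      _ = 1 := by rw [h1]; group
  · have : g₁⁻¹ * (g₁ * d * g₁⁻¹) * g₁⁻¹⁻¹ = d := by group
    rw [this]; exact h.EF hdE

/-- A4(x), `|R| ≥ 4` -/
theorem false (h : ZeroBig T F R E H) (hGold : Gold T)
    (hSE : ¬ ∃ H : Subgroup G, Cfsg.IsStronglyEmbedded H) : False := by
  rcases h.dich with h1 | h1
  · exact h.false_elem hGold hSE h1
  · refine h.false_of_closed hGold hSE (A := E) ?_ (fun x hx y hy => h.elemE.comm hx hy)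
      (h.EF.trans h.FT) (fun x hx g hg => h.closed h1 hx hg)
    intro hb
    have h2 := h.four
    rw [hb, Subgroup.card_bot] at h2
    omega

end ZeroBig

end

end Cfsg.Agent.OddCyclic.CaseAZero
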