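import Cfsg.Agent.OddCyclic.CaseATS
import Cfsg.Agent.OddCyclic.CaseANine
import Cfsg.Agent.OddCyclic.CaseALayer
import Cfsg.Agent.OddCyclic.CaseATE
import Cfsg.Agent.OddCyclic.CaseAType
import Cfsg.Agent.OddCyclic.CaseAZero

/-!
# S0342, component type, case A: the case that a Sylow 2-subgroup `S` of `M` is not Sylow in `G`
-/

set_option autoImplicit false

namespace Cfsg.Agent.OddCyclic.CaseAGrow

open Subgroup
open Cfsg.Agent.LieExceptional Cfsg.Agent.LieExceptional.CITDefs
open Cfsg.Agent.LieExceptional.CITBasic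
open Cfsg.Agent.OddCyclic.CompBasic Cfsg.Agent.OddCyclic.CompStandard
open Cfsg.Agent.OddCyclic.CaseADefs Cfsg.Agent.OddCyclic.CaseABase
open Cfsg.Agent.OddCyclic.CaseAFour Cfsg.Agent.OddCyclic.CaseAInv
open Cfsg.Agent.OddCyclic.CaseAFive Cfsg.Agent.OddCyclic.CaseASix
open Cfsg.Agent.OddCyclic.CaseALayDefs Cfsg.Agent.OddCyclic.CaseANine
open Cfsg.Agent.OddCyclic.CaseATypes
open Cfsg.Agent.OddCyclic.CaseATS

variable {G : Type*} [Group G] [Finite G] {p : ℕ} {K R E H S : Subgroup G} {q : ℕ}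

/-- no field types if `x ∉ M` normalizes `S` -/
theorem inner_of_norm (h : Std p K) (pr : Pre K R E H S q) (hTF : TF K) {x : G}
    (hxM : x ∉ normalizer (K : Set G)) (hxS : cj x S = S) :
    ∀ a ∈ cj x (centralizer (K : Set G)) ⊓ normalizer (K : Set G), orderOf a = 2 →
      a ∈ K ⊔ centralizer (K : Set G) := by
  intro a ha ha2
  by_contra haK
  have hall := fun (b : G) (hb : b ∈ cj x (centralizer (K : Set G))) (hb2 : orderOf b = 2) =>
    field_all h pr.l2 hTF hxM ha.1 ha.2 ha2 haK hb hb2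
  obtain ⟨a₀, ha₀, ha₀2⟩ := exists_involution_of_ne_bot pr.sylR.two (sylR_ne_bot h pr.sylR)
  have ha₁ : x * a₀ * x⁻¹ ∈ cj x (centralizer (K : Set G)) := conj_mem_cj (pr.sylR.le ha₀)
  have ha₁2 : orderOf (x * a₀ * x⁻¹) = 2 := by rw [orderOf_conj, ha₀2]
  have ha₁S : x * a₀ * x⁻¹ ∈ S := by rw [← hxS]; exact conj_mem_cj (pr.leR ha₀)
  set a₁ := x * a₀ * x⁻¹ with ha₁def
  have hSM : S ≤ cj x (normalizer (K : Set G)) := by
    rw [← hxS]; exact cj_mono pr.sylS.le
  have hcomm : ∀ e ∈ E, a₁ * e = e * a₁ := by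
    intro e he
    have h1 : a₁ * e * a₁⁻¹ * e⁻¹ ∈ E := E.mul_mem (pr.norm_E a₁ ha₁S e he) (E.inv_mem he)
    have h2 : a₁ * e * a₁⁻¹ * e⁻¹ ∈ cj x (centralizer (K : Set G)) := by
      have h3 := normal_cj_cent x K e (hSM (pr.leE he)) a₁⁻¹ (Subgroup.inv_mem _ ha₁)
      have e1 : a₁ * e * a₁⁻¹ * e⁻¹ = a₁ * (e * a₁⁻¹ * e⁻¹) := by group
      rw [e1]
      exact Subgroup.mul_mem _ ha₁ h3
    have h3 : a₁ * e * a₁⁻¹ * e⁻¹ = 1 := by
      by_contra hne
      exact hall _ h2 (CaseABase.orderOf_eq_two hne (pr.bor.elem _ h1))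
        (mem_sup_left (pr.sylE.le h1))
    exact mul_inv_eq_iff_eq_mul.mp (mul_inv_eq_one.mp h3)
  obtain ⟨y, hy, e, he, hye⟩ := pr.l2.centE E pr.sylE a₁ (pr.sylS.le ha₁S) hcomm
  refine hall a₁ ha₁ ha₁2 ?_
  rw [hye]
  exact Subgroup.mul_mem _ (mem_sup_right hy) (mem_sup_left (pr.sylE.le he))

omit [Finite G] in
/-- all 2-elements are inner if `q < 16` -/
theorem inner_of_small (pr : Pre K R E H S q) (h16 : ¬ 16 ≤ q) {a : G}
    (ha : a ∈ normalizer (K : Set G)) (ha2 : orderOf a = 2) : a ∈ K ⊔ centralizer (K : Set G) := by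
  rcases pr.big with h1 | h1
  · exact absurd h1 h16
  · exact h1 a ha ⟨1, by rw [pow_one, ← ha2]; exact pow_orderOf_eq_one a⟩

theorem beta_of_norm (h : Std p K) (pr : Pre K R E H S q) (hTF : 16 ≤ q → TF K) {x : G}
    (hxM : x ∉ normalizer (K : Set G)) (hxS : cj x S = S) : Beta K R E H q := by
  have hev : Even (Nat.card (cj x (centralizer (K : Set G)) ⊓ normalizer (K : Set G) :
      Subgroup G)) := by
    obtain ⟨a₀, ha₀, ha₀2⟩ := exists_involution_of_ne_bot pr.sylR.two (sylR_ne_bot h pr.sylR)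
    refine even_of_mem (x := x * a₀ * x⁻¹) ⟨conj_mem_cj (pr.sylR.le ha₀), pr.sylS.le ?_⟩
      (by rw [orderOf_conj, ha₀2])
    rw [← hxS]; exact conj_mem_cj (pr.leR ha₀)
  have hin : ∀ x : G, x ∉ normalizer (K : Set G) → cj x S = S →
      ∀ a ∈ cj x (centralizer (K : Set G)) ⊓ normalizer (K : Set G), orderOf a = 2 →
      a ∈ K ⊔ centralizer (K : Set G) := by
    intro x hxM hxS a ha ha2
    by_cases h16 : 16 ≤ q
    · exact inner_of_norm h pr (hTF h16) hxM hxS a ha ha2
    · exact inner_of_small pr h16 ha.2 ha2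
  refine CaseACount.beta h pr.l2 pr.big hxM hev (hin x hxM hxS) ?_ pr.sylR pr.sylE pr.bor
  intro a ha ha2
  rw [mem_cj]
  refine hin x⁻¹ (fun h1 => hxM (by simpa using inv_mem h1)) ?_ _ ⟨?_, mem_cj.mp ha.2⟩ ?_
  · calc cj x⁻¹ S = cj x⁻¹ (cj x S) := by rw [hxS]
      _ = S := cj_inv_cj x S
  · refine mem_cj.mpr ?_
    have e1 : x⁻¹⁻¹ * (x⁻¹ * a * x) * x⁻¹ = a := by group
    rw [e1]; exact ha.1
  · have := orderOf_conj x⁻¹ a
    rw [inv_inv] at this
    rw [this, ha2]

theorem exists_norm (pr : Pre K R E H S q) {T : Subgroup G} (hT : IsPGroup 2 T) (hlt : S < T) :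
    ∃ x ∈ T, x ∉ normalizer (K : Set G) ∧ cj x S = S := by
  have hpf : Fact (Nat.Prime 2) := ⟨Nat.prime_two⟩
  by_contra hno
  push Not at hno
  refine hlt.ne (Cfsg.Agent.Blocks.SylowIn.eq_of_normalizer_inf_le (p := 2) hT hlt.le ?_).symm
  intro x hx
  have h1 : cj x S = S := cj_eq_iff.mpr hx.1
  have h2 : x ∈ normalizer (K : Set G) := by
    by_contra h3
    exact hno x hx.2 h3 h1
  exact mem_isSyl2 pr.sylS h2 (mem_of_pow_two hT hx.2) fun s hs => by
    rw [← h1]; exact conj_mem_cj hs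

/-- The data for `T > S`. -/
structure Grow (p : ℕ) (K R E H S P F : Subgroup G) (q : ℕ) : Prop where
  std : Std p K
  pre : Pre K R E H S q
  beta : Beta K R E H q
  four : Four K R E H q
  five : Five K R E H q S P
  lay : Lay P R E H q
  layF : LayF P R E H q F
  layB : 4 ≤ Nat.card R → LayBig P R E H q F
  ne : P ≠ R ⊔ E
  /-- `|N_G(E)|_2 |V| = |P| |S|` -/
  syl : ∀ W : Subgroup G, IsSyl2 (normalizer (E : Set G)) W →
    Nat.card W * Nat.card (R ⊔ E : Subgroup G) = Nat.card P * Nat.card S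

theorem exists_grow [IsSimpleGroup G] (h : Std p K) (pr : Pre K R E H S q)
    (hTF : 16 ≤ q → TF K) (hsec : SecKZ G)
    (h8 : q = 8 → normalizer (K : Set G) ≤ K ⊔ centralizer (K : Set G)) {T : Subgroup G}
    (hT : IsPGroup 2 T) (hlt : S < T) : ∃ P F : Subgroup G, Grow p K R E H S P F q := by
  have hpf : Fact (Nat.Prime 2) := ⟨Nat.prime_two⟩
  obtain ⟨x, hxT, hxM, hxS⟩ := exists_norm pr hT hlt
  have b := beta_of_norm h pr hTF hxM hxS
  have hV : R ⊔ E ≤ S := sup_le pr.leR pr.leE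
  have f4 := four_of_lt h b pr.sylS hV hT hlt
  obtain ⟨P, f5⟩ := exists_five h b pr.sylS hV
  have l := lay h b f5
  obtain ⟨F, lf⟩ := CaseALayer.layer l
  have hne : P ≠ R ⊔ E := by
    -- `W = N_T(S)`
    set W : Subgroup G := normalizer (S : Set G) ⊓ T with hW
    have hxW : x ∈ W := ⟨cj_eq_iff.mp hxS, hxT⟩
    have hSW : S ≤ W := le_inf Subgroup.le_normalizer hlt.le
    have hlt' : Nat.card S < Nat.card W := by
      refine lt_of_le_of_ne (Subgroup.card_le_of_le hSW) fun hh => hxM ?_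
      rw [← Subgroup.eq_of_le_of_card_ge hSW hh.ge] at hxW
      exact pr.sylS.le hxW
    have hWN : W ≤ normalizer (E : Set G) := by
      intro w hw
      apply f4.N_le
      rw [← cj_eq_iff]
      refine unique_V b pr.sylS hV ?_ (elem_cj b.elemV) (by rw [card_cj, b.card_V])
      rw [← cj_eq_iff.mpr hw.1]
      exact cj_mono hV
    have := card_lt h b hsec h8 pr.sylS hV f5.syl hWN (hT.to_le inf_le_right) hlt'
    intro hP
    rw [hP] at this
    exact lt_irrefl _ this
  exact ⟨P, F, h, pr, b, f4, f5, l, lf, fun h4 => CaseALayer.big l lf h4 hne, hne,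
    fun W hW => card_syl h b hsec h8 pr.sylS hV f5.syl hW⟩

namespace Grow

variable {P F : Subgroup G}

omit [Finite G] in
theorem VS (g : Grow p K R E H S P F q) : R ⊔ E ≤ S := sup_le g.pre.leR g.pre.leE

theorem sit (g : Grow p K R E H S P F q) (hinv : ∀ s ∈ S, s * s = 1 → s ∈ R ⊔ E) :
    CaseATE.Sit p K R E H q S P F where
  std := g.std
  beta := g.beta
  four := g.four
  sylS := g.pre.sylS
  VS := g.VS
  five := g.five
  lf := g.layF
  ne := g.ne
  split := fun s hs => by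
    obtain ⟨e, he, s₁, hs₁, h1, h2⟩ := g.pre.split hs
    exact ⟨e, he, s₁, ⟨hs₁, mem_normalizer_of_forall h2⟩, h1⟩
  card := g.syl
  inv := hinv

theorem elem (g : Grow p K R E H S P F q) : Nat.card R = 2 → ∀ w ∈ F, orderOf w = 2 →
    Nat.card (P ⊓ centralizer ({w} : Set G) : Subgroup G) ≤ 2 * q → Elem F :=
  fun hR _ hw hw2 hC => CaseALayer.elem_of_coset g.lay g.layF hR hw hw2 hC

/-- the 2-elements of `M` commuting with an element of `K` of order 3 lie in `Y`, if `S = V` -/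
theorem mem_Y (g : Grow p K R E H S P F q) (hSV : S = R ⊔ E) {x : G} (hxK : x ∈ K)
    (hx3 : orderOf x = 3) : ∀ s ∈ normalizer (K : Set G), (∃ n : ℕ, s ^ 2 ^ n = 1) →
      s * x = x * s → s ∈ centralizer (K : Set G) := by
  intro s hs hs2 hsx
  -- `s ∈ K ⊔ Y`
  have hsKY : s ∈ K ⊔ centralizer (K : Set G) := by
    obtain ⟨S₁, hS₁, hsS₁⟩ := exists_isSyl2 (normalizer (K : Set G)) (zpowers s)
      (zpowers_le.mpr hs) (isPGroup_zpowers_of_pow hs2)
    obtain ⟨m, hm, hmS⟩ := isSyl2_conj g.pre.sylS hS₁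
    have h1 : s ∈ cj m S := by rw [← hmS]; exact hsS₁ (mem_zpowers s)
    have h2 : m⁻¹ * s * m ∈ K ⊔ centralizer (K : Set G) := by
      have h3 := mem_cj.mp h1
      have h4 : m⁻¹ * s * m ∈ R ⊔ E := by rw [← hSV]; exact h3
      exact g.pre.V_le_KY h4
    obtain ⟨k, hk, y, hy, hky⟩ := mem_KY.mp h2
    have h3 : s = (m * k * m⁻¹) * (m * y * m⁻¹) := by
      calc s = m * (m⁻¹ * s * m) * m⁻¹ := by group
        _ = _ := by rw [hky]; group
    rw [h3]
    exact Subgroup.mul_mem _ (mem_sup_left (forall_of_mem_normalizer hm k hk))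
      (mem_sup_right (normal_cent K m hm y hy))
  obtain ⟨k, hk, y, hy, hky⟩ := mem_KY.mp hsKY
  obtain ⟨n, hn⟩ := hs2
  have hn' : (k * y) ^ 2 ^ n = 1 := by rw [← hky]; exact hn
  obtain ⟨hk2, -⟩ := pow_eq_one_KY g.pre.l2.inf hk hy hn'
  have hyx : x * y = y * x := comm_KY x hxK y hy
  have hkx : x * k = k * x := by
    have h1 : k * y * x = x * (k * y) := by rw [← hky]; exact hsx
    have h2 : x * k * y = k * x * y := by
      calc x * k * y = x * (k * y) := by group
        _ = k * y * x := h1.symm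
        _ = k * (y * x) := by group
        _ = k * (x * y) := by rw [hyx]
        _ = k * x * y := by group
    exact mul_right_cancel h2
  have hk1 : k = 1 := by
    by_contra hk1
    obtain ⟨E₁, hE₁, hkE₁⟩ := exists_isSyl2 K (zpowers k) (zpowers_le.mpr hk)
      (isPGroup_zpowers_of_pow ⟨n, hk2⟩)
    obtain ⟨H₁, hB₁⟩ := g.pre.l2.borel E₁ hE₁
    have h1 := hB₁.cent k (hkE₁ (mem_zpowers k)) hk1 x hxK hkx
    have h2 := hB₁.elem x h1
    have h3 : orderOf x ∣ 2 := orderOf_dvd_of_pow_eq_one (by rw [pow_two]; exact h2)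
    rw [hx3] at h3
    omega
  rw [hky, hk1, one_mul]; exact hy

theorem three (g : Grow 3 K R E H S P F q) (hSV : S = R ⊔ E) (x z : G) (hx : orderOf x = 3)
    (hz : orderOf z = 2) (hxz : x * z = z * x) : ∃ u, u * z * u⁻¹ ∈ R := by
  have h3f : Fact (Nat.Prime 3) := ⟨Nat.prime_three⟩
  obtain ⟨⟨y, hyK⟩, hy⟩ := exists_prime_orderOf_dvd_card' (G := K) 3 g.std.dvd
  rw [Subgroup.orderOf_mk] at hy
  exact CaseAType.ttype g.std g.pre.sylR Nat.prime_three (by norm_num) hyK hy
    (g.mem_Y hSV hyK hy) hx hz hxz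

/-- `S = V`: (x) -/
theorem false_zero [IsSimpleGroup G] (g : Grow 3 K R E H S P F q) (hSV : S = R ⊔ E)
    (hGold : ∀ T : Sylow 2 G, CaseAZero.ZeroBig.Gold T)
    (hSE : ¬ ∃ H : Subgroup G, IsStronglyEmbedded H) : False := by
  have s := g.sit fun s hs _ => by rw [← hSV]; exact hs
  obtain ⟨T, hT⟩ := s.exists_T
  have hShP : CaseATE.Sh S H ≤ P := fun x hx => g.five.V_le (by rw [← hSV]; exact hx.1)
  rw [sup_of_le_left hShP] at hT
  have hmem : ∀ x, x ∈ (T : Subgroup G) ↔ x ∈ P := fun x => by rw [hT]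
  have hz : CaseAZero.Zero T F R E :=
    { four := by rw [g.beta.bor.cardE]; exact g.beta.l2.four
      FT := by rw [hT]; exact g.layF.leF
      RT := by rw [hT]; exact g.lay.leR
      EF := g.layF.leE
      Fn := fun x hx => g.layF.normF x ((hmem x).mp hx)
      gen := fun x hx => g.layF.sup x ((hmem x).mp hx)
      elemR := g.beta.elemR
      elemE := g.beta.bor.elem
      neR := g.lay.neR
      cent := fun r hr hr1 f hf hc => g.layF.centF r hr hr1 f hf hc.symm
      TE := fun x hx e he => (g.lay.cen e he x ((hmem x).mp hx)).symm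
      notype := fun r hr hr1 u => s.notype g.elem g.layB hr hr1 u }
  have hcomm := CaseATS.commutator_eq_top g.std
  by_cases h2 : Nat.card R = 2
  · obtain ⟨t, htR, ht1, -, hor⟩ := CaseATS.exists_t h2
    exact hz.false_two hcomm htR ht1 hor
  · have h4 : 4 ≤ Nat.card R := by
      have hpf : Fact (Nat.Prime 2) := ⟨Nat.prime_two⟩
      have hc2 := card_R_two g.std g.beta
      obtain ⟨n, hn⟩ := IsPGroup.iff_card.mp (CaseABase.isPGroup_of_elem g.beta.elemR)
      rcases n with _ | _ | n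
      · rw [hn] at hc2; norm_num at hc2
      · rw [hn] at h2; norm_num at h2
      · rw [hn, pow_add]
        have : 1 ≤ 2 ^ n := Nat.one_le_two_pow
        omega
    have lb := g.layB h4
    have hzb : CaseAZero.ZeroBig T F R E H :=
      { toZero := hz
        ex := by
          intro r hr
          by_contra hno
          push Not at hno
          have h5 : R ≤ zpowers r := by
            intro s hs
            by_cases hs1 : s = 1
            · rw [hs1]; exact one_mem _
            · rw [hno s hs hs1]; exact mem_zpowers r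
          have h6 := Subgroup.card_le_of_le h5
          rw [Nat.card_zpowers] at h6
          have h7 : orderOf r ≤ 2 := orderOf_le_of_pow_eq_one (by norm_num)
            (by rw [pow_two]; exact g.beta.elemR r hr)
          omega
        abF := lb.comm
        sq := fun x hx => lb.sq x (g.layF.leF hx)
        comm := fun x hx r hr => lb.commP x (g.layF.leF hx) r (g.lay.leR hr)
        card := by rw [lb.card, g.beta.bor.cardE, pow_two]
        HR := fun x hx r hr => by
          rw [g.lay.fixR x hx r hr, mul_inv_cancel_right]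
        HF := g.layF.HF
        trans := fun e he he1 f hf hf1 => g.pre.trans he he1 hf hf1
        three := g.three hSV }
    exact hzb.false (hGold T) hSE

/-- (xi), given step (1) -/
theorem false_pos [IsSimpleGroup G] (g : Grow p K R E H S P F q) (hSV : S ≠ R ⊔ E)
    (hinv : ∀ s ∈ S, s * s = 1 → s ∈ R ⊔ E) {C : Type*} [Group C] [Finite C]
    {ψ : normalizer (K : Set G) →* C} (hψ : Typ K C ψ) : False := by
  have := hψ.cyc
  exact (g.sit hinv).false (CaseATS.commutator_eq_top g.std) ψ hψ.ker hSV g.elem g.layB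

end Grow

end Cfsg.Agent.OddCyclic.CaseAGrow
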