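import Cfsg.Agent.OddCyclic.CaseAKer

/-!
# S0342, component type, case A: A4 (iv) and the summary of A4 (i)-(iv)

`V - ⋃Δ = E - {1}`, `N_G(V) ≤ N_G(E)`, `N_Y(R) = C_Y(R)`.
-/

set_option autoImplicit false

namespace Cfsg.Agent.OddCyclic.CaseAInv

open Subgroup
open Cfsg.Agent.LieExceptional Cfsg.Agent.LieExceptional.CITDefs
open Cfsg.Agent.LieExceptional.CITBasic
open Cfsg.Agent.OddCyclic.T1Tools
open Cfsg.Agent.OddCyclic.CompBasic Cfsg.Agent.OddCyclic.CompStandard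
open Cfsg.Agent.OddCyclic.CaseADefs Cfsg.Agent.OddCyclic.CaseABase
open Cfsg.Agent.OddCyclic.CaseACount Cfsg.Agent.OddCyclic.CaseAFour
open Cfsg.Agent.OddCyclic.CaseADelta Cfsg.Agent.OddCyclic.CaseAKer

variable {G : Type*} [Group G] [Finite G] {p : ℕ} {K R E H : Subgroup G} {q : ℕ}

/-- A central involution modulo a normal subgroup of a 2-group. -/
theorem exists_central {V W : Subgroup G} (hW : IsPGroup 2 W) (hVW : V ≤ W) (hne : V ≠ W)
    (hn : ∀ w ∈ W, ∀ v ∈ V, w * v * w⁻¹ ∈ V) :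
    ∃ z ∈ W, z ∉ V ∧ z * z ∈ V ∧ ∀ s ∈ W, z⁻¹ * s⁻¹ * z * s ∈ V := by
  have hpf : Fact (Nat.Prime 2) := ⟨Nat.prime_two⟩
  have hnor : (V.subgroupOf W).Normal := by
    refine Subgroup.normal_subgroupOf_of_le_normalizer fun w hw => ?_
    exact mem_normalizer_of_forall (hn w hw)
  set Q := W ⧸ V.subgroupOf W with hQ
  have hQ2 : IsPGroup 2 Q := hW.to_quotient _
  have hQn : Nontrivial Q := by
    by_contra hnt
    rw [not_nontrivial_iff_subsingleton] at hnt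
    have h1 : V.subgroupOf W = ⊤ := QuotientGroup.subsingleton_iff.mp hnt
    exact hne (le_antisymm hVW (Subgroup.subgroupOf_eq_top.mp h1))
  have hc := hQ2.center_nontrivial
  obtain ⟨c, hc', hc2⟩ := exists_involution_of_ne_bot (hQ2.to_subgroup (center Q))
    ((Subgroup.nontrivial_iff_ne_bot _).mp hc)
  obtain ⟨z, rfl⟩ := QuotientGroup.mk_surjective c
  refine ⟨z, z.2, ?_, ?_, ?_⟩
  · intro hz
    apply ne_one_of_orderOf hc2
    rw [QuotientGroup.eq_one_iff]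
    exact Subgroup.mem_subgroupOf.mpr hz
  · have h1 := sq_of_orderOf hc2
    have h2 : ((z * z : W) : Q) = 1 := h1
    rw [QuotientGroup.eq_one_iff] at h2
    exact Subgroup.mem_subgroupOf.mp h2
  · intro s hs
    have h1 := Subgroup.mem_center_iff.mp hc' ((⟨s, hs⟩ : W) : Q)
    have h2 : ((z⁻¹ * (⟨s, hs⟩ : W)⁻¹ * z * ⟨s, hs⟩ : W) : Q) = 1 := by
      have h3 : ((z⁻¹ * (⟨s, hs⟩ : W)⁻¹ * z * ⟨s, hs⟩ : W) : Q) =
          (z : Q)⁻¹ * ((⟨s, hs⟩ : W) : Q)⁻¹ * ((z : Q) * ((⟨s, hs⟩ : W) : Q)) := by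
        simp only [QuotientGroup.mk_mul, QuotientGroup.mk_inv, mul_assoc]
      rw [h3, ← h1]
      group
    rw [QuotientGroup.eq_one_iff] at h2
    exact Subgroup.mem_subgroupOf.mp h2

/-- an element `z` of `N` moving all members of `Δ`, with `z² ∈ V` -/
theorem exists_z (h : Std p K) (b : Beta K R E H q) (hD : Nat.card (Delta R (R ⊔ E)) = q) :
    ∃ z ∈ normalizer ((R ⊔ E : Subgroup G) : Set G), z * z ∈ R ⊔ E ∧
      ∀ X ∈ Delta R (R ⊔ E), cj z X ≠ X := by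
  obtain ⟨W, hW, hVW⟩ := exists_isSyl2 (normalizer ((R ⊔ E : Subgroup G) : Set G)) (R ⊔ E)
    Subgroup.le_normalizer (isPGroup_of_elem b.elemV)
  have hne : R ⊔ E ≠ W := by
    intro hVW'
    obtain ⟨X, hX, hXR⟩ := exists_ne_R h b
    obtain ⟨s, hs, hXs⟩ := trans_W h b hD hW hX
    apply hXR
    rw [hXs]
    rw [← hVW'] at hs
    exact V_fix b R_mem_delta hs
  obtain ⟨z, hzW, hzV, hz2, hzc⟩ := exists_central hW.two hVW hne
    (fun w hw => forall_of_mem_normalizer (hW.le hw))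
  refine ⟨z, hW.le hzW, hz2, fun X hX hfix => hzV ?_⟩
  have hkey : ∀ X ∈ Delta R (R ⊔ E), cj z X = X → cj z R = R := by
    intro X hX hfix
    obtain ⟨s, hs, rfl⟩ := trans_W h b hD hW hX
    -- `z s⁻¹ = s⁻¹ z v`
    have h1 : z⁻¹ * (s⁻¹)⁻¹ * z * s⁻¹ ∈ R ⊔ E := hzc _ (W.inv_mem hs)
    have e1 : z * (s⁻¹ * s) = s⁻¹ * z * (z⁻¹ * (s⁻¹)⁻¹ * z * s⁻¹) * s := by group
    calc cj z R = cj (z * (s⁻¹ * s)) R := by rw [inv_mul_cancel, mul_one]
      _ = cj (s⁻¹ * z * (z⁻¹ * (s⁻¹)⁻¹ * z * s⁻¹) * s) R := by rw [e1]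
      _ = cj s⁻¹ (cj z (cj (z⁻¹ * (s⁻¹)⁻¹ * z * s⁻¹) (cj s R))) := by
          rw [cj_mul, cj_mul, cj_mul]
      _ = cj s⁻¹ (cj z (cj s R)) := by rw [V_fix b hX h1]
      _ = R := by rw [hfix, cj_inv_cj]
  have hR := hkey X hX hfix
  refine ker h b (hW.le hzW) (mem_of_pow_two hW.two hzW) fun X' hX' => ?_
  obtain ⟨s, hs, rfl⟩ := trans_W h b hD hW hX'
  have h1 : z⁻¹ * s⁻¹ * z * s ∈ R ⊔ E := hzc _ hs
  have e1 : z * s = s * z * (z⁻¹ * s⁻¹ * z * s) := by group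
  calc cj z (cj s R) = cj (z * s) R := by rw [cj_mul]
    _ = cj (s * z * (z⁻¹ * s⁻¹ * z * s)) R := by rw [← e1]
    _ = cj s (cj z (cj (z⁻¹ * s⁻¹ * z * s) R)) := by rw [cj_mul, cj_mul]
    _ = cj s R := by rw [V_fix b R_mem_delta h1, hR]

/-- the elements of `V` outside the members of `Δ` -/
def Out (R V : Subgroup G) (x : G) : Prop := x ∈ V ∧ ¬ ∃ X ∈ Delta R V, x ∈ X

omit [Finite G] in
theorem Out.ne_one {V : Subgroup G} {x : G} (hx : Out R V x) : x ≠ 1 := by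
  rintro rfl
  exact hx.2 ⟨R, ⟨1, Subgroup.one_mem _, (cj_one R).symm⟩, R.one_mem⟩

omit [Finite G] in
theorem Out.conj {V : Subgroup G} {x : G} (hx : Out R V x) {n : G}
    (hn : n ∈ normalizer (V : Set G)) : Out R V (n * x * n⁻¹) := by
  refine ⟨forall_of_mem_normalizer hn x hx.1, ?_⟩
  rintro ⟨X, hX, hxX⟩
  refine hx.2 ⟨cj n⁻¹ X, cj_mem_delta hX (Subgroup.inv_mem _ hn), ?_⟩
  rw [mem_cj, inv_inv]
  exact hxX

theorem card_out (h : Std p K) (b : Beta K R E H q) (hD : Nat.card (Delta R (R ⊔ E)) = q) :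
    Nat.card {x : G // Out R (R ⊔ E) x} = q - 1 := by
  classical
  have hf : Fintype (Delta R (R ⊔ E)) := Fintype.ofFinite _
  have h1 := card_union (fun X : Delta R (R ⊔ E) => (X : Subgroup G))
    (fun X X' hne s hs hs' => by
      by_contra hs1
      exact hne (Subtype.ext (delta_ti h b X.2 X'.2 hs1 hs hs')))
  rw [Finset.sum_congr rfl (fun X _ => by rw [card_of_mem_delta X.2]), Finset.sum_const,
    smul_eq_mul, Finset.card_univ, ← Nat.card_eq_fintype_card, hD] at h1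
  have h2 := Nat.card_congr (Equiv.sumCompl
    (fun x : {x : (R ⊔ E : Subgroup G) // x ≠ 1} => ∃ X ∈ Delta R (R ⊔ E), (x : G) ∈ X))
  rw [Nat.card_sum, card_ne_one, b.card_V] at h2
  have h3 : Nat.card {x : {x : (R ⊔ E : Subgroup G) // x ≠ 1} //
      ∃ X ∈ Delta R (R ⊔ E), ((x : (R ⊔ E : Subgroup G)) : G) ∈ X} =
      Nat.card {x : G // x ≠ 1 ∧ ∃ X : Delta R (R ⊔ E), x ∈ (X : Subgroup G)} := Nat.card_congr
    { toFun := fun x => ⟨((x : {x : (R ⊔ E : Subgroup G) // x ≠ 1}) : (R ⊔ E : Subgroup G)),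
        fun hh => x.1.2 (Subtype.ext hh), by
          obtain ⟨X, hX, hx⟩ := x.2
          exact ⟨⟨X, hX⟩, hx⟩⟩
      invFun := fun x => ⟨⟨⟨x.1, by
          obtain ⟨X, hX⟩ := x.2.2
          exact le_of_mem_delta X.2 hX⟩, fun hh => x.2.1 (congrArg Subtype.val hh)⟩, by
          obtain ⟨X, hX⟩ := x.2.2
          exact ⟨X.1, X.2, hX⟩⟩
      left_inv := fun _ => rfl
      right_inv := fun _ => rfl }
  have h4 : Nat.card {x : {x : (R ⊔ E : Subgroup G) // x ≠ 1} //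
      ¬ ∃ X ∈ Delta R (R ⊔ E), ((x : (R ⊔ E : Subgroup G)) : G) ∈ X} =
      Nat.card {x : G // Out R (R ⊔ E) x} := Nat.card_congr
    { toFun := fun x => ⟨((x : {x : (R ⊔ E : Subgroup G) // x ≠ 1}) : (R ⊔ E : Subgroup G)),
        x.1.1.2, x.2⟩
      invFun := fun x => ⟨⟨⟨x.1, x.2.1⟩, fun hh =>
          x.2.ne_one (congrArg Subtype.val hh)⟩, x.2.2⟩
      left_inv := fun _ => rfl
      right_inv := fun _ => rfl }
  rw [h3, h4, h1] at h2
  have h5 := card_R_two h b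
  have h6 := b.l2.four
  set r := Nat.card R with hr
  obtain ⟨s, rfl⟩ : ∃ s, q = s + 1 := ⟨q - 1, by omega⟩
  obtain ⟨t, ht⟩ : ∃ t, r = t + 1 := ⟨r - 1, by omega⟩
  rw [ht] at h2
  simp only [Nat.add_sub_cancel] at h2 ⊢
  have h7 : (t + 1) * (s + 1) - 1 = (s + 1) * t + s := by
    have : (t + 1) * (s + 1) = (s + 1) * t + s + 1 := by ring
    omega
  omega

/-- `V - ⋃Δ` is one orbit of `H` -/
theorem out_orbit (h : Std p K) (b : Beta K R E H q) (hD : Nat.card (Delta R (R ⊔ E)) = q)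
    {c c' : G} (hc : Out R (R ⊔ E) c) (hc' : Out R (R ⊔ E) c') : ∃ x ∈ H, x * c * x⁻¹ = c' := by
  have hcR : c ∉ R := fun hh => hc.2 ⟨R, R_mem_delta, hh⟩
  have hinj : Function.Injective (fun x : H => (⟨(x : G) * c * (x : G)⁻¹,
      hc.conj (H_le_N b x.2)⟩ : {y : G // Out R (R ⊔ E) y})) := by
    intro x y hxy
    have h1 : (x : G) * c * (x : G)⁻¹ = (y : G) * c * (y : G)⁻¹ := congrArg Subtype.val hxy
    have h2 : ((y : G)⁻¹ * x) * c = c * ((y : G)⁻¹ * x) := by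
      calc ((y : G)⁻¹ * x) * c = (y : G)⁻¹ * ((x : G) * c * (x : G)⁻¹) * x := by group
        _ = (y : G)⁻¹ * ((y : G) * c * (y : G)⁻¹) * x := by rw [h1]
        _ = c * ((y : G)⁻¹ * x) := by group
    have h3 := H_comm b (H.mul_mem (H.inv_mem y.2) x.2) hc.1 hcR h2
    exact Subtype.ext (inv_mul_eq_one.mp h3).symm
  have hbij := hinj.bijective_of_nat_card_le (by rw [card_out h b hD, b.bor.cardH])
  obtain ⟨x, hx⟩ := hbij.2 ⟨c', hc'⟩
  exact ⟨x, x.2, congrArg Subtype.val hx⟩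

/-- `V - ⋃Δ = r₀ (E - {1})` -/
theorem exists_r0 (h : Std p K) (b : Beta K R E H q) (hD : Nat.card (Delta R (R ⊔ E)) = q) :
    ∃ r₀ ∈ R, ∀ x, Out R (R ⊔ E) x ↔ ∃ e ∈ E, e ≠ 1 ∧ x = r₀ * e := by
  have h4 := b.l2.four
  obtain ⟨⟨c, hc⟩⟩ : Nonempty {x : G // Out R (R ⊔ E) x} := by
    by_contra hne
    rw [not_nonempty_iff] at hne
    have h1 := card_out h b hD
    rw [Nat.card_eq_zero.mpr (Or.inl hne)] at h1
    omega
  obtain ⟨r₀, hr₀, e₀, he₀, hce⟩ := b.mem_V.mp hc.1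
  have he₀1 : e₀ ≠ 1 := by
    rintro rfl
    rw [mul_one] at hce
    exact hc.2 ⟨R, R_mem_delta, by rw [hce]; exact hr₀⟩
  have hconj : ∀ x ∈ H, x * c * x⁻¹ = r₀ * (x * e₀ * x⁻¹) := by
    intro x hx
    have h1 : x * r₀ = r₀ * x := comm_KY x (b.bor.leH hx) r₀ (b.sylR.le hr₀)
    calc x * c * x⁻¹ = (x * r₀) * e₀ * x⁻¹ := by rw [hce]; group
      _ = (r₀ * x) * e₀ * x⁻¹ := by rw [h1]
      _ = r₀ * (x * e₀ * x⁻¹) := by group
  refine ⟨r₀, hr₀, fun x => ⟨fun hx => ?_, ?_⟩⟩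
  · obtain ⟨y, hy, hyx⟩ := out_orbit h b hD hc hx
    refine ⟨y * e₀ * y⁻¹, b.bor.norm y hy e₀ he₀, fun hh => he₀1 ?_, ?_⟩
    · have : e₀ = y⁻¹ * (y * e₀ * y⁻¹) * y := by group
      rw [this, hh]; group
    · rw [← hyx, hconj y hy]
  · rintro ⟨e, he, he1, rfl⟩
    obtain ⟨y, hy, hye⟩ := H_trans_E b he₀ he₀1 he he1
    rw [← hye, ← hconj y hy]
    exact hc.conj (H_le_N b hy)

omit [Finite G] in
theorem inv_of_sq {x : G} (h : x * x = 1) : x⁻¹ = x := inv_eq_of_mul_eq_one_left h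

/-- **(iv)** `V - ⋃Δ = E - {1}` -/
theorem out_iff (h : Std p K) (b : Beta K R E H q) (hD : Nat.card (Delta R (R ⊔ E)) = q)
    {x : G} : Out R (R ⊔ E) x ↔ x ∈ E ∧ x ≠ 1 := by
  obtain ⟨r₀, hr₀, hout⟩ := exists_r0 h b hD
  suffices hr1 : r₀ = 1 by
    rw [hout, hr1]
    constructor
    · rintro ⟨e, he, he1, rfl⟩
      rw [one_mul]
      exact ⟨he, he1⟩
    · rintro ⟨he, he1⟩
      exact ⟨x, he, he1, (one_mul x).symm⟩
  by_contra hr1
  have h2R := card_R_two h b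
  rcases Nat.lt_or_ge 2 (Nat.card R) with h3 | h3
  · -- `|R| ≥ 3`
    obtain ⟨z, hz, hz2, hmove⟩ := exists_z h b hD
    -- nonidentity elements of `C_V(z)` are outside
    have hCout : ∀ v ∈ R ⊔ E, v ≠ 1 → z * v * z⁻¹ = v → Out R (R ⊔ E) v := by
      intro v hv hv1 hzv
      refine ⟨hv, ?_⟩
      rintro ⟨X, hX, hvX⟩
      refine hmove X hX ?_
      have h1 : v ∈ cj z X := by rw [← hzv]; exact conj_mem_cj hvX
      exact delta_ti h b (cj_mem_delta hX hz) hX hv1 h1 hvX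
    have hfz : ∀ r ∈ R, r * (z * r * z⁻¹) ∈ R ⊔ E ∧
        z * (r * (z * r * z⁻¹)) * z⁻¹ = r * (z * r * z⁻¹) := by
      intro r hr
      have hrV : r ∈ R ⊔ E := mem_sup_left hr
      have h1 : z * r * z⁻¹ ∈ R ⊔ E := forall_of_mem_normalizer hz r hrV
      refine ⟨Subgroup.mul_mem _ hrV h1, ?_⟩
      have h5 : (z * z) * r = r * (z * z) := b.elemV.comm hz2 hrV
      calc z * (r * (z * r * z⁻¹)) * z⁻¹ = (z * r * z⁻¹) * ((z * z) * r * (z * z)⁻¹) := by group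
        _ = (z * r * z⁻¹) * r := by rw [h5, mul_inv_cancel_right]
        _ = r * (z * r * z⁻¹) := b.elemV.comm h1 hrV
    have hfz1 : ∀ r ∈ R, r ≠ 1 → r * (z * r * z⁻¹) ≠ 1 := by
      intro r hr hr1 hh
      have h5 : z * r * z⁻¹ = r := by
        have h6 := eq_inv_of_mul_eq_one_right hh
        rw [h6, inv_of_sq (b.elemR r hr)]
      exact (hCout r (mem_sup_left hr) hr1 h5).2 ⟨R, R_mem_delta, hr⟩
    obtain ⟨r₁, hr₁, hr₁1, r₂, hr₂, hr₂1, h12⟩ : ∃ r₁ ∈ R, r₁ ≠ 1 ∧ ∃ r₂ ∈ R, r₂ ≠ 1 ∧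
        r₁ ≠ r₂ := by
      by_contra hno
      push Not at hno
      have h5 : Nat.card {x : R // x ≠ 1} ≤ 1 := by
        rw [Finite.card_le_one_iff_subsingleton]
        constructor
        rintro ⟨⟨x, hx⟩, hx1⟩ ⟨⟨y, hy⟩, hy1⟩
        have := hno x hx (fun hh => hx1 (Subtype.ext hh)) y hy (fun hh => hy1 (Subtype.ext hh))
        exact Subtype.ext (Subtype.ext this)
      rw [card_ne_one] at h5
      omega
    obtain ⟨hc1, hc1z⟩ := hfz r₁ hr₁
    obtain ⟨hc2, hc2z⟩ := hfz r₂ hr₂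
    obtain ⟨e₁, he₁, he₁1, hce₁⟩ := (hout _).mp (hCout _ hc1 (hfz1 r₁ hr₁ hr₁1) hc1z)
    obtain ⟨e₂, he₂, he₂1, hce₂⟩ := (hout _).mp (hCout _ hc2 (hfz1 r₂ hr₂ hr₂1) hc2z)
    -- the product
    have hprod : r₁ * (z * r₁ * z⁻¹) * (r₂ * (z * r₂ * z⁻¹)) = e₁ * e₂ := by
      rw [hce₁, hce₂]
      calc r₀ * e₁ * (r₀ * e₂) = r₀ * (e₁ * r₀) * e₂ := by group
        _ = r₀ * (r₀ * e₁) * e₂ := by rw [b.comm r₀ hr₀ e₁ he₁]
        _ = (r₀ * r₀) * (e₁ * e₂) := by group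
        _ = e₁ * e₂ := by rw [b.elemR r₀ hr₀, one_mul]
    have hprod1 : r₁ * (z * r₁ * z⁻¹) * (r₂ * (z * r₂ * z⁻¹)) =
        (r₁ * r₂) * (z * (r₁ * r₂) * z⁻¹) := by
      have h5 : z * r₁ * z⁻¹ ∈ R ⊔ E := forall_of_mem_normalizer hz r₁ (mem_sup_left hr₁)
      have h6 : (z * r₁ * z⁻¹) * r₂ = r₂ * (z * r₁ * z⁻¹) :=
        b.elemV.comm h5 (mem_sup_left hr₂)
      calc r₁ * (z * r₁ * z⁻¹) * (r₂ * (z * r₂ * z⁻¹))
          = r₁ * ((z * r₁ * z⁻¹) * r₂) * (z * r₂ * z⁻¹) := by group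
        _ = r₁ * (r₂ * (z * r₁ * z⁻¹)) * (z * r₂ * z⁻¹) := by rw [h6]
        _ = (r₁ * r₂) * (z * (r₁ * r₂) * z⁻¹) := by group
    have hr12 : r₁ * r₂ ∈ R := R.mul_mem hr₁ hr₂
    have hr121 : r₁ * r₂ ≠ 1 := by
      intro hh
      apply h12
      rw [eq_inv_of_mul_eq_one_left hh, inv_of_sq (b.elemR r₂ hr₂)]
    obtain ⟨hc3, hc3z⟩ := hfz _ hr12
    obtain ⟨e₃, he₃, -, hce₃⟩ := (hout _).mp (hCout _ hc3 (hfz1 _ hr12 hr121) hc3z)
    apply hr1
    refine b.inf hr₀ ?_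
    have h7 : r₀ = (e₁ * e₂) * e₃⁻¹ := by
      rw [← hprod, hprod1, hce₃]; group
    rw [h7]
    exact E.mul_mem (E.mul_mem he₁ he₂) (E.inv_mem he₃)
  · -- `|R| = 2`
    have hR2 : Nat.card R = 2 := le_antisymm h3 h2R
    have h4 := b.l2.four
    have honly : ∀ r ∈ R, r ≠ 1 → r = r₀ := by
      intro r hr hr1'
      obtain ⟨u, hu, huu⟩ := (Nat.card_eq_two_iff' (1 : R)).mp hR2
      have h5 : (⟨r, hr⟩ : R) = u := huu _ (fun hh => hr1' (congrArg Subtype.val hh))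
      have h6 : (⟨r₀, hr₀⟩ : R) = u := huu _ (fun hh => hr1 (congrArg Subtype.val hh))
      exact congrArg Subtype.val (h5.trans h6.symm)
    obtain ⟨e₁, he₁, he₁1, e₂, he₂, he₂1, h12⟩ : ∃ e₁ ∈ E, e₁ ≠ 1 ∧ ∃ e₂ ∈ E, e₂ ≠ 1 ∧
        e₁ ≠ e₂ := by
      by_contra hno
      push Not at hno
      have h5 : Nat.card {x : E // x ≠ 1} ≤ 1 := by
        rw [Finite.card_le_one_iff_subsingleton]
        constructor
        rintro ⟨⟨x, hx⟩, hx1⟩ ⟨⟨y, hy⟩, hy1⟩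
        have := hno x hx (fun hh => hx1 (Subtype.ext hh)) y hy (fun hh => hy1 (Subtype.ext hh))
        exact Subtype.ext (Subtype.ext this)
      rw [card_ne_one, b.bor.cardE] at h5
      omega
    -- elements of `E` are not outside
    have hEin : ∀ e ∈ E, ∃ X ∈ Delta R (R ⊔ E), e ∈ X := by
      intro e he
      by_contra hno
      obtain ⟨e', he', -, hee'⟩ := (hout e).mp ⟨mem_sup_right he, hno⟩
      apply hr1
      refine b.inf hr₀ ?_
      have : r₀ = e * e'⁻¹ := by rw [hee']; group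
      rw [this]
      exact E.mul_mem he (E.inv_mem he')
    obtain ⟨X₁, ⟨n, hn, rfl⟩, heX₁⟩ := hEin e₁ he₁
    obtain ⟨X₂, hX₂, heX₂⟩ := hEin e₂ he₂
    obtain ⟨X₃, hX₃, heX₃⟩ := hEin _ (E.mul_mem he₁ he₂)
    have hn' := Subgroup.inv_mem _ hn
    have hin : ∀ (e : G) (X : Subgroup G), X ∈ Delta R (R ⊔ E) → e ∈ X →
        ∃ X' ∈ Delta R (R ⊔ E), n⁻¹ * e * n ∈ X' := by
      intro e X hX heX
      refine ⟨cj n⁻¹ X, cj_mem_delta hX hn', ?_⟩
      have := conj_mem_cj (g := n⁻¹) heX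
      rwa [inv_inv] at this
    have h5 : n⁻¹ * e₁ * n = r₀ := by
      refine honly _ (mem_cj.mp heX₁) fun hh => he₁1 ?_
      have : e₁ = n * (n⁻¹ * e₁ * n) * n⁻¹ := by group
      rw [this, hh]; group
    have h6 : n⁻¹ * e₂ * n ∈ R ⊔ E := by
      have := forall_of_mem_normalizer hn' e₂ (mem_sup_right he₂)
      rwa [inv_inv] at this
    obtain ⟨r, hr, e, he, hre⟩ := b.mem_V.mp h6
    have hr' : r = 1 := by
      by_contra hr1'
      have hrr := honly r hr hr1'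
      rw [hrr] at hre
      by_cases he1 : e = 1
      · rw [he1, mul_one] at hre
        apply h12
        have h7 : e₁ = n * (n⁻¹ * e₁ * n) * n⁻¹ := by group
        have h8 : e₂ = n * (n⁻¹ * e₂ * n) * n⁻¹ := by group
        rw [h7, h8, h5, hre]
      · have h7 := (hout _).mpr ⟨e, he, he1, hre⟩
        exact h7.2 (hin e₂ X₂ hX₂ heX₂)
    rw [hr', one_mul] at hre
    have he1 : e ≠ 1 := by
      intro he1
      apply he₂1
      have h8 : e₂ = n * (n⁻¹ * e₂ * n) * n⁻¹ := by group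
      rw [h8, hre, he1]; group
    have h7 : n⁻¹ * (e₁ * e₂) * n = r₀ * e := by
      rw [← h5, ← hre]; group
    have h8 := (hout _).mpr ⟨e, he, he1, h7⟩
    exact h8.2 (hin _ X₃ hX₃ heX₃)

/-- `N_G(V) ≤ N_G(E)` -/
theorem N_le (h : Std p K) (b : Beta K R E H q) (hD : Nat.card (Delta R (R ⊔ E)) = q) :
    normalizer ((R ⊔ E : Subgroup G) : Set G) ≤ normalizer (E : Set G) := by
  intro n hn
  refine mem_normalizer_of_forall fun e he => ?_
  by_cases he1 : e = 1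
  · rw [he1, mul_one, mul_inv_cancel]; exact E.one_mem
  · exact ((out_iff h b hD).mp (((out_iff h b hD).mpr ⟨he, he1⟩).conj hn)).1

theorem inf_E (h : Std p K) (b : Beta K R E H q) (hD : Nat.card (Delta R (R ⊔ E)) = q)
    {X : Subgroup G} (hX : X ∈ Delta R (R ⊔ E)) {e : G} (he : e ∈ E) (heX : e ∈ X) : e = 1 := by
  by_contra he1
  exact ((out_iff h b hD).mpr ⟨he, he1⟩).2 ⟨X, hX, heX⟩

/-- `N_Y(R)` fixes all members of `Δ` -/
theorem Y_fix (h : Std p K) (b : Beta K R E H q) (hD : Nat.card (Delta R (R ⊔ E)) = q) {y : G}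
    (hy : y ∈ centralizer (K : Set G)) (hyR : y ∈ normalizer (R : Set G)) :
    y ∈ normalizer ((R ⊔ E : Subgroup G) : Set G) ∧ ∀ X ∈ Delta R (R ⊔ E), cj y X = X := by
  have hyM : y ∈ normalizer (K : Set G) := centralizer_le_normalizer _ hy
  have hyN : y ∈ normalizer ((R ⊔ E : Subgroup G) : Set G) := by
    refine mem_normalizer_of_forall fun v hv => ?_
    obtain ⟨r, hr, e, he, rfl⟩ := b.mem_V.mp hv
    have h1 : e * y = y * e := comm_KY e (b.sylE.le he) y hy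
    have e1 : y * (r * e) * y⁻¹ = (y * r * y⁻¹) * e := by
      calc y * (r * e) * y⁻¹ = y * r * y⁻¹ * ((y * e) * y⁻¹) := by group
        _ = y * r * y⁻¹ * ((e * y) * y⁻¹) := by rw [h1]
        _ = (y * r * y⁻¹) * e := by group
    rw [e1]
    exact Subgroup.mul_mem _ (mem_sup_left (forall_of_mem_normalizer hyR r hr)) (mem_sup_right he)
  refine ⟨hyN, fun X hX => ?_⟩
  by_cases hXR : X = R
  · rw [hXR]; exact cj_eq_iff.mpr hyR
  obtain ⟨x, hx, hxX⟩ := H_trans h b hD hX hXR (cj_mem_delta hX hyN) (cj_ne_R b hXR hyN hyM)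
  have hxy : x * y = y * x := comm_KY x (b.bor.leH hx) y hy
  have hpow : ∀ k : ℕ, cj (y ^ k) X = cj (x ^ k) X := by
    intro k
    induction k with
    | zero => rw [pow_zero, pow_zero]
    | succ k ih =>
      have h1 : y * x ^ k = x ^ k * y := ((show Commute x y from hxy).pow_left k).symm
      rw [pow_succ', cj_mul, ih, ← cj_mul, h1, cj_mul, ← hxX, ← cj_mul, ← pow_succ]
  have h1 := hpow (Nat.card (centralizer (K : Set G)))
  have h2 : y ^ Nat.card (centralizer (K : Set G)) = 1 := by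
    have := pow_card_eq_one' (x := (⟨y, hy⟩ : centralizer (K : Set G)))
    exact congrArg Subtype.val this
  rw [h2, cj_one] at h1
  have h3 := H_free h b hX hXR (H.pow_mem hx _) h1.symm
  have hx1 : x = 1 := by
    by_contra hx1
    obtain ⟨r, hr, hrx⟩ := Nat.exists_prime_and_dvd (fun hh => hx1 (orderOf_eq_one_iff.mp hh))
    have h4 : r ∣ Nat.card (centralizer (K : Set G)) := hrx.trans (orderOf_dvd_of_pow_eq_one h3)
    have h5 : r ∣ Nat.card K := hrx.trans (K.orderOf_dvd_natCard (b.bor.leH hx))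
    have h6 : r ∣ q - 1 := by
      rw [← b.bor.cardH]; exact hrx.trans (H.orderOf_dvd_natCard hx)
    have h7 : r ≠ 2 := by
      rintro rfl
      exact (Nat.not_even_iff_odd.mpr (odd_card_H b.l2)) (even_iff_two_dvd.mpr h6)
    exact h.not_dvd hr h7 h5 h4
  rw [← hxX, hx1, cj_one]

/-- **(iii)** `N_Y(R) = C_Y(R)` -/
theorem centR (h : Std p K) (b : Beta K R E H q) (hD : Nat.card (Delta R (R ⊔ E)) = q) {y : G}
    (hy : y ∈ centralizer (K : Set G)) (hyR : y ∈ normalizer (R : Set G)) {r : G} (hr : r ∈ R) :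
    y * r = r * y := by
  obtain ⟨hyN, hfix⟩ := Y_fix h b hD hy hyR
  obtain ⟨X, hX, hXR⟩ := exists_ne_R h b
  -- the projection `X → R` is surjective
  have hex : ∀ v : X, ∃ r : R, ∃ e ∈ E, (v : G) = r * e := by
    intro v
    obtain ⟨r, hr, e, he, hre⟩ := b.mem_V.mp (le_of_mem_delta hX v.2)
    exact ⟨⟨r, hr⟩, e, he, hre⟩
  choose f e he hf using hex
  have hinj : Function.Injective f := by
    intro v v' hvv
    have h1 : (v : G)⁻¹ * v' = (e v)⁻¹ * e v' := by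
      rw [hf v, hf v', hvv]; group
    have h2 := inf_E h b hD hX (e := (v : G)⁻¹ * v')
      (by rw [h1]; exact E.mul_mem (E.inv_mem (he v)) (he v')) (X.mul_mem (X.inv_mem v.2) v'.2)
    exact Subtype.ext (inv_mul_eq_one.mp h2)
  have hbij := hinj.bijective_of_nat_card_le (by rw [card_of_mem_delta hX])
  obtain ⟨v, hv⟩ := hbij.2 ⟨r, hr⟩
  have hve : (v : G) = r * e v := by
    have := hf v
    rw [hv] at this
    exact this
  have h1 : y * (v : G) * y⁻¹ ∈ X := by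
    have h2 : y * (v : G) * y⁻¹ ∈ cj y X := conj_mem_cj v.2
    rwa [hfix X hX] at h2
  have h2 : y * (v : G) * y⁻¹ * (v : G)⁻¹ = y * r * y⁻¹ * r⁻¹ := by
    have h3 : e v * y = y * e v := comm_KY _ (b.sylE.le (he v)) y hy
    rw [hve]
    calc y * (r * e v) * y⁻¹ * (r * e v)⁻¹ = y * r * y⁻¹ * ((y * e v) * y⁻¹ * (e v)⁻¹) * r⁻¹ := by
          group
      _ = y * r * y⁻¹ * ((e v * y) * y⁻¹ * (e v)⁻¹) * r⁻¹ := by rw [h3]
      _ = y * r * y⁻¹ * r⁻¹ := by group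
  have h3 : y * r * y⁻¹ * r⁻¹ ∈ X := by
    rw [← h2]; exact X.mul_mem h1 (X.inv_mem v.2)
  have h4 : y * r * y⁻¹ * r⁻¹ ∈ R :=
    R.mul_mem (forall_of_mem_normalizer hyR r hr) (R.inv_mem hr)
  have h5 : y * r * y⁻¹ * r⁻¹ = 1 := by
    by_contra hne
    exact hXR (delta_ti h b hX R_mem_delta hne h3 h4)
  exact mul_inv_eq_iff_eq_mul.mp (mul_inv_eq_one.mp h5)

/-- The results of A4 (i)-(iv). -/
structure Four (K R E H : Subgroup G) (q : ℕ) : Prop where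
  beta : Beta K R E H q
  ex : ∃ n ∈ normalizer ((R ⊔ E : Subgroup G) : Set G), n ∉ normalizer (K : Set G)
  card : Nat.card (Delta R (R ⊔ E)) = q
  /-- `V - ⋃Δ = E - {1}` -/
  mem_iff : ∀ v ∈ R ⊔ E, (∃ n ∈ normalizer ((R ⊔ E : Subgroup G) : Set G), v ∈ cj n R) ↔
    (v = 1 ∨ v ∉ E)
  N_le : normalizer ((R ⊔ E : Subgroup G) : Set G) ≤ normalizer (E : Set G)
  /-- `N_Y(R) = C_Y(R)` -/
  centR : ∀ y ∈ centralizer (K : Set G), y ∈ normalizer (R : Set G) → ∀ r ∈ R, y * r = r * y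
  ker : ∀ z ∈ normalizer ((R ⊔ E : Subgroup G) : Set G), (∃ n : ℕ, z ^ 2 ^ n = 1) →
    (∀ n ∈ normalizer ((R ⊔ E : Subgroup G) : Set G), cj z (cj n R) = cj n R) → z ∈ R ⊔ E
  /-- a Sylow 2-subgroup of `N` is transitive on `Δ` -/
  trans : ∀ W : Subgroup G, IsSyl2 (normalizer ((R ⊔ E : Subgroup G) : Set G)) W →
    ∀ n ∈ normalizer ((R ⊔ E : Subgroup G) : Set G), ∃ s ∈ W, cj n R = cj s R

/-- **A4 (i)-(iv)** -/
theorem four (h : Std p K) (b : Beta K R E H q) (hD : Nat.card (Delta R (R ⊔ E)) = q) :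
    Four K R E H q := by
  refine ⟨b, exists_n h b, hD, fun v hv => ?_, N_le h b hD, fun y hy hyR r hr =>
    centR h b hD hy hyR hr, fun z hz h2 hfix => ker h b hz h2 ?_, fun W hW n hn =>
    trans_W h b hD hW ⟨n, hn, rfl⟩⟩
  · constructor
    · rintro ⟨n, hn, hvn⟩
      by_contra hcon
      push Not at hcon
      exact ((out_iff h b hD).mpr ⟨hcon.2, hcon.1⟩).2 ⟨cj n R, ⟨n, hn, rfl⟩, hvn⟩
    · intro hor
      by_contra hno
      have hout : Out R (R ⊔ E) v := by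
        refine ⟨hv, ?_⟩
        rintro ⟨X, ⟨n, hn, rfl⟩, hvX⟩
        exact hno ⟨n, hn, hvX⟩
      have h1 := (out_iff h b hD).mp hout
      rcases hor with h2 | h2
      · exact h1.2 h2
      · exact h2 h1.1
  · rintro X ⟨n, hn, rfl⟩
    exact hfix n hn

/-- the case `T > S`: a 2-group larger than a Sylow 2-subgroup of `M` normalizes `S` -/
theorem four_of_lt (h : Std p K) (b : Beta K R E H q) {S W : Subgroup G}
    (hS : IsSyl2 (normalizer (K : Set G)) S) (hV : R ⊔ E ≤ S) (hW2 : IsPGroup 2 W)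
    (hlt : S < W) : Four K R E H q := by
  have hpf : Fact (Nat.Prime 2) := ⟨Nat.prime_two⟩
  -- `N_W(S) > S` normalizes `V`
  set W₁ : Subgroup G := normalizer (S : Set G) ⊓ W with hW₁
  have h1 : S < W₁ := by
    rw [lt_iff_le_and_ne]
    refine ⟨le_inf Subgroup.le_normalizer hlt.le, fun hh => hlt.ne ?_⟩
    exact (Cfsg.Agent.Blocks.SylowIn.eq_of_normalizer_inf_le (p := 2) hW2 hlt.le hh.ge).symm
  have h2 : W₁ ≤ normalizer ((R ⊔ E : Subgroup G) : Set G) := by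
    intro x hx
    rw [← cj_eq_iff]
    refine unique_V b hS hV ?_ (elem_cj b.elemV) (by rw [card_cj, b.card_V])
    have h3 : cj x S = S := cj_eq_iff.mpr hx.1
    rw [← h3]
    exact cj_mono hV
  exact four h b (card_delta_of_lt h b hS h2 (hW2.to_le inf_le_right)
    (by
      have h3 := Subgroup.card_le_of_le h1.le
      refine lt_of_le_of_ne h3 fun hh => h1.ne ?_
      exact Subgroup.eq_of_le_of_card_ge h1.le hh.ge))

end Cfsg.Agent.OddCyclic.CaseAInv
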