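import Cfsg.Agent.OddCyclic.CaseATools

/-!
# S0342, component case A, step A3: a Sylow 2-subgroup of `N(K)` is not Sylow in `G` (abstract forms)

blueprints/S0342-caseA.md, A3. `T` is a Sylow 2-subgroup of `G`.
-/

set_option autoImplicit false
set_option linter.unusedSectionVars false

namespace Cfsg.Agent.OddCyclic.CaseAThree

open Subgroup
open scoped commutatorElement
open Cfsg.Agent.LieExceptional.CITDefs
open Cfsg.Agent.OddCyclic.CompStandard
open Cfsg.Agent.OddCyclic.CaseATools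

variable {G : Type*} [Group G]

/-- Case (beta): all involutions of `E` are conjugate to `t`. -/
theorem false_beta [Finite G] (T : Sylow 2 G)
    (hnab : ¬ ∀ x ∈ (T : Subgroup G), ∀ y ∈ (T : Subgroup G), x * y = y * x)
    {E : Subgroup G} {t : G} (htc : ∀ x ∈ (T : Subgroup G), x * t = t * x) (htE : t ∉ E)
    (hTE : ⁅(T : Subgroup G), (T : Subgroup G)⁆ ≤ E)
    (hconj : ∀ e ∈ E, e ≠ 1 → ∃ g, g * e * g⁻¹ = t) : False := by
  obtain ⟨e, he, he1, -, hec⟩ := exists_comm_center T.isPGroup' hnab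
  obtain ⟨g, hg⟩ := hconj e (hTE he) he1
  exact htE (hTE (mem_comm_of_conj T hec htc hg he))

/-- The situation of (alpha): `T = ⟨t⟩ × E⟨φ⟩`. -/
structure Alpha (T : Sylow 2 G) (E : Subgroup G) (t φ : G) (k : ℕ) : Prop where
  pos : 1 ≤ k
  leT : E ≤ (T : Subgroup G)
  elem : Elem E
  big : 16 ≤ Nat.card E
  norm : ∀ x ∈ (T : Subgroup G), ∀ e ∈ E, x * e * x⁻¹ ∈ E
  tT : t ∈ (T : Subgroup G)
  t2 : orderOf t = 2
  tc : ∀ x ∈ (T : Subgroup G), x * t = t * x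
  tE : t ∉ E
  φT : φ ∈ (T : Subgroup G)
  φk : φ ^ 2 ^ k = 1
  φd : ∀ j : ℤ, ∀ e ∈ E, ∀ i : ℤ, φ ^ j = e * t ^ i → (2 ^ k : ℤ) ∣ j
  gen : ∀ x ∈ (T : Subgroup G), ∃ e ∈ E, ∃ i j : ℤ, x = e * t ^ i * φ ^ j
  trans : ∀ e ∈ E, e ≠ 1 → ∀ f ∈ E, f ≠ 1 → ∃ h : G, h * e * h⁻¹ = f ∧ h * t * h⁻¹ = t ∧
    ∀ e ∈ E, h * e * h⁻¹ ∈ E
  field : ∀ x ∈ (T : Subgroup G), (∀ e ∈ E, ∀ i : ℤ, x ≠ e * t ^ i) →
    Nat.card (E ⊓ centralizer ({x} : Set G) : Subgroup G) ^ 2 ≤ Nat.card E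

namespace Alpha

variable [Finite G] {T : Sylow 2 G} {E : Subgroup G} {t φ : G} {k : ℕ}

omit [Finite G] in
theorem tt (h : Alpha T E t φ k) : t * t = 1 := sq_of_orderOf h.t2

omit [Finite G] in
theorem tpow (h : Alpha T E t φ k) (i : ℤ) : t ^ i = 1 ∨ t ^ i = t := by
  rcases Int.even_or_odd' i with ⟨n, hn | hn⟩
  · left; rw [hn, zpow_mul, zpow_ofNat, pow_two, h.tt, one_zpow]
  · right; rw [hn, zpow_add, zpow_mul, zpow_ofNat, pow_two, h.tt, one_zpow, one_mul, zpow_one]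

omit [Finite G] in
theorem tz (h : Alpha T E t φ k) {x : G} (hx : x ∈ (T : Subgroup G)) (i : ℤ) :
    x * t ^ i = t ^ i * x := (Commute.zpow_right (h.tc x hx) i)

omit [Finite G] in
/-- products in coordinates -/
theorem mul (h : Alpha T E t φ k) {e f : G} (he : e ∈ E) (hf : f ∈ E) (i j l m : ℤ) :
    ∃ e' ∈ E, e * t ^ i * φ ^ j * (f * t ^ l * φ ^ m) = e' * t ^ (i + l) * φ ^ (j + m) := by
  have hφ : φ ^ j ∈ (T : Subgroup G) := zpow_mem h.φT j
  refine ⟨e * (φ ^ j * f * (φ ^ j)⁻¹), E.mul_mem he (h.norm _ hφ f hf), ?_⟩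
  have h1 := h.tz hφ l
  have h2 := h.tz (mul_mem (mul_mem hφ (h.leT hf)) (inv_mem hφ)) i
  rw [zpow_add, zpow_add]
  calc e * t ^ i * φ ^ j * (f * t ^ l * φ ^ m)
      = e * (t ^ i * (φ ^ j * f * (φ ^ j)⁻¹)) * (φ ^ j * t ^ l) * φ ^ m := by group
    _ = e * ((φ ^ j * f * (φ ^ j)⁻¹) * t ^ i) * (t ^ l * φ ^ j) * φ ^ m := by rw [h1, ← h2]
    _ = _ := by group

omit [Finite G] in
theorem pow (h : Alpha T E t φ k) {e : G} (he : e ∈ E) (i j : ℤ) (n : ℕ) :
    ∃ e' ∈ E, (e * t ^ i * φ ^ j) ^ n = e' * t ^ (n * i) * φ ^ (n * j) := by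
  induction n with
  | zero => exact ⟨1, E.one_mem, by simp⟩
  | succ n ih =>
    obtain ⟨e', he', h1⟩ := ih
    obtain ⟨e'', he'', h2⟩ := h.mul he' he (n * i) (n * j) i j
    refine ⟨e'', he'', ?_⟩
    rw [pow_succ, h1, h2]
    push_cast
    rw [add_mul, add_mul, one_mul, one_mul]

omit [Finite G] in
theorem φz (h : Alpha T E t φ k) {j : ℤ} (hj : (2 ^ k : ℤ) ∣ j) : φ ^ j = 1 := by
  obtain ⟨n, rfl⟩ := hj
  rw [zpow_mul]
  have : φ ^ (2 ^ k : ℤ) = φ ^ (2 ^ k : ℕ) := by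
    rw [← zpow_natCast]; push_cast; rfl
  rw [this, h.φk, one_zpow]

omit [Finite G] in
/-- uniqueness of coordinates -/
theorem uniq (h : Alpha T E t φ k) {e : G} (he : e ∈ E) {i j : ℤ}
    (h1 : e * t ^ i * φ ^ j = 1) : e = 1 ∧ Even i ∧ (2 ^ k : ℤ) ∣ j := by
  have h2 : φ ^ j = e⁻¹ * t ^ (-i) := by
    have h3 : φ ^ j = (e * t ^ i)⁻¹ := (eq_inv_of_mul_eq_one_right h1)
    rw [h3, mul_inv_rev, zpow_neg, ← zpow_neg, ← h.tz (inv_mem (h.leT he)), zpow_neg]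
  have h3 := h.φd j _ (E.inv_mem he) _ h2
  rw [h.φz h3, mul_one] at h1
  have h4 : Even i := by
    by_contra hi
    rw [Int.not_even_iff_odd] at hi
    obtain ⟨n, hn⟩ := hi
    rw [hn, zpow_add, zpow_mul, zpow_ofNat, pow_two, h.tt, one_zpow, one_mul, zpow_one] at h1
    apply h.tE
    have : t = e⁻¹ := (eq_inv_of_mul_eq_one_right h1)
    rw [this]
    exact E.inv_mem he
  refine ⟨?_, h4, h3⟩
  obtain ⟨n, hn⟩ := h4
  rwa [hn, ← two_mul, zpow_mul, zpow_ofNat, pow_two, h.tt, one_zpow, mul_one] at h1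

omit [Finite G] in
theorem comm_le (h : Alpha T E t φ k) : ⁅(T : Subgroup G), (T : Subgroup G)⁆ ≤ E := by
  rw [Subgroup.commutator_le]
  intro x hx y hy
  obtain ⟨e, he, i, j, rfl⟩ := h.gen x hx
  obtain ⟨f, hf, l, m, rfl⟩ := h.gen y hy
  obtain ⟨e', he', h1⟩ := h.mul he hf i j l m
  obtain ⟨f', hf', h2⟩ := h.mul hf he l m i j
  have h3 : ⁅e * t ^ i * φ ^ j, f * t ^ l * φ ^ m⁆ =
      (e * t ^ i * φ ^ j * (f * t ^ l * φ ^ m)) * (f * t ^ l * φ ^ m * (e * t ^ i * φ ^ j))⁻¹ := by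
    rw [commutatorElement_def]; group
  rw [h3, h1, h2, add_comm l i, add_comm m j]
  have h4 : e' * t ^ (i + l) * φ ^ (j + m) * (f' * t ^ (i + l) * φ ^ (j + m))⁻¹ = e' * f'⁻¹ := by
    group
  rw [h4]
  exact E.mul_mem he' (E.inv_mem hf')

omit [Finite G] in
theorem φ_ne (h : Alpha T E t φ k) : ∀ e ∈ E, ∀ i : ℤ, φ ≠ e * t ^ i := by
  intro e he i h1
  have h2 := h.φd 1 e he i (by rw [zpow_one]; exact h1)
  have h3 : (2 : ℤ) ∣ 2 ^ k := dvd_pow_self 2 (by have := h.pos; omega)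
  have := h3.trans h2
  omega

theorem nonab (h : Alpha T E t φ k) :
    ¬ ∀ x ∈ (T : Subgroup G), ∀ y ∈ (T : Subgroup G), x * y = y * x := by
  intro hab
  have h1 := h.field φ h.φT h.φ_ne
  have h2 : E ⊓ centralizer ({φ} : Set G) = E := by
    rw [inf_eq_left]
    intro e he
    rw [mem_centralizer_singleton_iff]
    exact hab e (h.leT he) φ h.φT
  rw [h2, pow_two] at h1
  have h3 := h.big
  nlinarith

/-- the involutions of `E` are not conjugate to `t` -/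
theorem not_conj (h : Alpha T E t φ k) {e : G} (he : e ∈ E) (he1 : e ≠ 1) {g : G}
    (hg : g * t * g⁻¹ = e) : False := by
  refine false_beta T h.nonab h.tc h.tE h.comm_le fun f hf hf1 => ?_
  obtain ⟨x, hx, -, -⟩ := h.trans e he he1 f hf hf1
  refine ⟨(x * g)⁻¹, ?_⟩
  rw [← hx, ← hg]
  group

theorem exists_e0 (h : Alpha T E t φ k) :
    ∃ e ∈ E, e ≠ 1 ∧ ∀ y ∈ (T : Subgroup G), y * e = e * y := by
  obtain ⟨e, he, he1, -, hec⟩ := exists_comm_center T.isPGroup' h.nonab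
  exact ⟨e, h.comm_le he, he1, hec⟩

theorem mem_V (h : Alpha T E t φ k) {x : G} :
    x ∈ E ⊔ zpowers t ↔ ∃ e ∈ E, ∃ i : ℤ, x = e * t ^ i :=
  mem_sup_zpowers_iff (h.norm t h.tT)

theorem V_le (h : Alpha T E t φ k) : E ⊔ zpowers t ≤ (T : Subgroup G) :=
  sup_le h.leT (zpowers_le.mpr h.tT)

theorem V_elem (h : Alpha T E t φ k) : Elem (E ⊔ zpowers t) := by
  intro x hx
  obtain ⟨e, he, i, rfl⟩ := h.mem_V.mp hx
  have h1 := h.tz (h.leT he) i
  have h2 : t ^ i * t ^ i = 1 := by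
    rcases h.tpow i with h3 | h3 <;> rw [h3]
    · simp
    · exact h.tt
  calc e * t ^ i * (e * t ^ i) = e * (t ^ i * e) * t ^ i := by group
    _ = (e * e) * (t ^ i * t ^ i) := by rw [← h1]; group
    _ = 1 := by rw [h.elem e he, h2, one_mul]

theorem card_V (h : Alpha T E t φ k) :
    Nat.card (E ⊔ zpowers t : Subgroup G) = 2 * Nat.card E := by
  have h1 : E.relIndex (E ⊔ zpowers t) = 2 := by
    refine relIndex_eq_two (mem_sup_right (mem_zpowers t)) h.tE ?_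
    intro b hb hbE
    obtain ⟨e, he, i, rfl⟩ := h.mem_V.mp hb
    rcases h.tpow i with h3 | h3
    · rw [h3, mul_one] at hbE
      exact absurd he hbE
    · rw [h3, mul_assoc, h.tt, mul_one]
      exact he
  have h2 := card_mul_relIndex (H := E) (K := E ⊔ zpowers t) le_sup_left
  rw [h1] at h2
  rw [← h2, mul_comm]

/-- involutions of `T` in coordinates -/
theorem inv_dvd (h : Alpha T E t φ k) {e : G} (he : e ∈ E) {i j : ℤ}
    (h1 : e * t ^ i * φ ^ j * (e * t ^ i * φ ^ j) = 1) : (2 ^ k : ℤ) ∣ 2 * j := by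
  obtain ⟨e', he', h2⟩ := h.mul he he i j i j
  rw [h1] at h2
  have := (h.uniq he' h2.symm).2.2
  rwa [two_mul]

theorem inv_cases (h : Alpha T E t φ k) {e : G} (he : e ∈ E) {i j : ℤ}
    (h1 : e * t ^ i * φ ^ j * (e * t ^ i * φ ^ j) = 1) :
    φ ^ j = 1 ∨ φ ^ j = φ ^ 2 ^ (k - 1) := by
  obtain ⟨n, hn⟩ := h.inv_dvd he h1
  have hk : (2 : ℤ) ^ k = 2 * 2 ^ (k - 1) := by
    rw [← pow_succ']
    congr 1
    have := h.pos
    omega
  rw [hk, mul_assoc] at hn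
  have hj : j = 2 ^ (k - 1) * n := by
    have : (2 : ℤ) ≠ 0 := by norm_num
    exact mul_left_cancel₀ this hn
  have h3 : φ ^ (2 ^ (k - 1) : ℤ) = φ ^ 2 ^ (k - 1) := by
    rw [← zpow_natCast]; push_cast; rfl
  rcases Int.even_or_odd' n with ⟨m, hm | hm⟩
  · left
    apply h.φz
    rw [hj, hm, hk]
    exact ⟨m, by ring⟩
  · right
    have h4 : j = 2 ^ k * m + 2 ^ (k - 1) := by rw [hj, hm, hk]; ring
    rw [h4, zpow_add, h.φz ⟨m, rfl⟩, one_mul, h3]

theorem s0_sq (h : Alpha T E t φ k) : φ ^ 2 ^ (k - 1) * φ ^ 2 ^ (k - 1) = 1 := by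
  rw [← pow_add, ← two_mul, ← pow_succ']
  have : k - 1 + 1 = k := by have := h.pos; omega
  rw [this, h.φk]

theorem s0_ne (h : Alpha T E t φ k) : ∀ e ∈ E, ∀ i : ℤ, φ ^ 2 ^ (k - 1) ≠ e * t ^ i := by
  intro e he i h1
  have h2 := h.φd (2 ^ (k - 1) : ℤ) e he i (by
    have h3 : φ ^ (2 ^ (k - 1) : ℤ) = φ ^ 2 ^ (k - 1) := by
      rw [← zpow_natCast]; push_cast; rfl
    rw [h3]; exact h1)
  have h3 : (2 : ℤ) ^ k = 2 * 2 ^ (k - 1) := by
    rw [← pow_succ']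
    congr 1
    have := h.pos
    omega
  have h4 := Int.le_of_dvd (by positivity) h2
  have h5 : (0 : ℤ) < 2 ^ (k - 1) := by positivity
  omega

/-- `V` is the only elementary abelian subgroup of its order in `T`. -/
theorem le_V (h : Alpha T E t φ k) {D : Subgroup G} (hD : D ≤ (T : Subgroup G)) (hDe : Elem D)
    (hDc : Nat.card D = Nat.card (E ⊔ zpowers t : Subgroup G)) : D ≤ E ⊔ zpowers t := by
  by_contra hno
  obtain ⟨x, hxD, hxV⟩ := SetLike.not_le_iff_exists.mp hno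
  have h1 : Nat.card D ≤ 2 * Nat.card (D ⊓ (E ⊔ zpowers t) : Subgroup G) := by
    refine card_le_two_mul fun y hy z hz hyV hzV => ?_
    obtain ⟨e, he, i, j, rfl⟩ := h.gen y (hD hy)
    obtain ⟨f, hf, l, m, rfl⟩ := h.gen z (hD hz)
    have h2 := h.inv_cases he (hDe _ hy)
    have h3 := h.inv_cases hf (hDe _ hz)
    rcases h2 with h2 | h2
    · rw [h2, mul_one] at hyV
      exact absurd (h.mem_V.mpr ⟨e, he, i, rfl⟩) hyV
    rcases h3 with h3 | h3
    · rw [h3, mul_one] at hzV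
      exact absurd (h.mem_V.mpr ⟨f, hf, l, rfl⟩) hzV
    obtain ⟨e', he', h4⟩ := h.mul he hf i j l m
    rw [h4, zpow_add φ, h2, h3, h.s0_sq, mul_one]
    exact h.mem_V.mpr ⟨e', he', _, rfl⟩
  have h2 : Nat.card (D ⊓ (E ⊔ zpowers t) : Subgroup G) ≤
      2 * Nat.card (D ⊓ (E ⊔ zpowers t) ⊓ E : Subgroup G) := by
    refine card_le_two_mul fun y hy z hz hyE hzE => ?_
    obtain ⟨e, he, i, rfl⟩ := h.mem_V.mp hy.2
    obtain ⟨f, hf, l, rfl⟩ := h.mem_V.mp hz.2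
    rcases h.tpow i with h3 | h3
    · rw [h3, mul_one] at hyE; exact absurd he hyE
    rcases h.tpow l with h4 | h4
    · rw [h4, mul_one] at hzE; exact absurd hf hzE
    rw [h3, h4]
    have h5 := h.tc f (h.leT hf)
    have h6 : e * t * (f * t) = e * f * (t * t) := by
      calc e * t * (f * t) = e * t * (t * f) := by rw [h5]
        _ = e * (t * t) * f := by group
        _ = e * f * (t * t) := by rw [h.tt]; group
    rw [h6, h.tt, mul_one]
    exact E.mul_mem he hf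
  have h3 : Nat.card (D ⊓ (E ⊔ zpowers t) ⊓ E : Subgroup G) ≤
      Nat.card (E ⊓ centralizer ({x} : Set G) : Subgroup G) := by
    apply Subgroup.card_le_of_le
    intro y hy
    rw [mem_inf_cent]
    exact ⟨hy.2, hDe.comm hxD hy.1.1⟩
  have h4 := h.field x (hD hxD) fun e he i hx => hxV (h.mem_V.mpr ⟨e, he, i, hx⟩)
  rw [h.card_V] at hDc
  have h5 := h.big
  set c := Nat.card (E ⊓ centralizer ({x} : Set G) : Subgroup G)
  have h6 : Nat.card E ≤ 2 * c := by omega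
  nlinarith

/-- `t^G ∩ V = {t}` -/
theorem not_conj_mul (h : Alpha T E t φ k) {e : G} (he : e ∈ E) (he1 : e ≠ 1) {g : G}
    (hg : g * t * g⁻¹ = e * t) : False := by
  have hpf : Fact (Nat.Prime 2) := ⟨Nat.prime_two⟩
  obtain ⟨e0, he0, he01, he0c⟩ := h.exists_e0
  obtain ⟨x, hx, hxt, -⟩ := h.trans e he he1 e0 he0 he01
  have h1 : (x * g) * t * (x * g)⁻¹ = e0 * t := by
    calc (x * g) * t * (x * g)⁻¹ = x * (g * t * g⁻¹) * x⁻¹ := by group
      _ = (x * e * x⁻¹) * (x * t * x⁻¹) := by rw [hg]; group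
      _ = e0 * t := by rw [hx, hxt]
  obtain ⟨n, hn, hn'⟩ := T.conj_eq_normalizer_conj_of_mem_centralizer t (x * g)⁻¹
    (mem_centralizer_iff.mpr h.tc) (mem_centralizer_iff.mpr (by
      rw [inv_inv, h1]
      intro y hy
      have h2 := he0c y hy
      have h3 := h.tc y hy
      rw [← mul_assoc, h2, mul_assoc, h3, mul_assoc]))
  rw [inv_inv, h1] at hn'
  -- `n` normalises `V`
  have hnV : n⁻¹ ∈ normalizer ((E ⊔ zpowers t : Subgroup G) : Set G) := by
    rw [← cj_eq_iff]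
    have h3 : cj n⁻¹ (E ⊔ zpowers t) ≤ (T : Subgroup G) := by
      have h4 : cj n⁻¹ (T : Subgroup G) = T := cj_eq_iff.mpr (inv_mem hn)
      rw [← h4]
      exact cj_mono h.V_le
    have h4 : Elem (cj n⁻¹ (E ⊔ zpowers t)) := by
      rintro _ ⟨y, hy, rfl⟩
      rw [← map_mul, h.V_elem y hy, map_one]
    exact Subgroup.eq_of_le_of_card_ge (h.le_V h3 h4 (card_cj _ _)) (by rw [card_cj])
  have hTV : (T : Subgroup G) ≤ normalizer ((E ⊔ zpowers t : Subgroup G) : Set G) := by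
    intro y hy
    refine mem_normalizer_of_forall fun v hv => ?_
    obtain ⟨f, hf, i, rfl⟩ := h.mem_V.mp hv
    refine h.mem_V.mpr ⟨_, h.norm y hy f hf, i, ?_⟩
    have h3 := h.tz hy i
    calc y * (f * t ^ i) * y⁻¹ = (y * f * y⁻¹) * (y * t ^ i * y⁻¹) := by group
      _ = (y * f * y⁻¹) * t ^ i := by rw [h3]; group
  have hodd := odd_orbit T hTV h.tc
  have h5 : {x : G | ∃ n ∈ normalizer ((E ⊔ zpowers t : Subgroup G) : Set G), x = n * t * n⁻¹} =
      (fun e => e * t) '' (E : Set G) := by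
    ext y
    constructor
    · rintro ⟨m, hm, rfl⟩
      have h6 := forall_of_mem_normalizer hm t (mem_sup_right (mem_zpowers t))
      obtain ⟨f, hf, i, hfi⟩ := h.mem_V.mp h6
      rcases h.tpow i with h7 | h7
      · exfalso
        rw [h7, mul_one] at hfi
        refine h.not_conj hf ?_ hfi
        rintro rfl
        have h8 : t = 1 := by
          have := mul_inv_eq_one.mp hfi
          exact (mul_eq_left.mp this)
        have h9 := h.t2
        rw [h8, orderOf_one] at h9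
        omega
      · rw [h7] at hfi
        exact ⟨f, hf, hfi.symm⟩
    · rintro ⟨f, hf, rfl⟩
      by_cases hf1 : f = 1
      · refine ⟨1, one_mem _, ?_⟩
        simp [hf1]
      · obtain ⟨y, hy, hyt, hyE⟩ := h.trans e0 he0 he01 f hf hf1
        refine ⟨y * n⁻¹, mul_mem ?_ hnV, ?_⟩
        · refine mem_normalizer_of_forall fun v hv => ?_
          obtain ⟨f, hf, i, rfl⟩ := h.mem_V.mp hv
          refine h.mem_V.mpr ⟨_, hyE f hf, i, ?_⟩
          calc y * (f * t ^ i) * y⁻¹ = (y * f * y⁻¹) * (y * t * y⁻¹) ^ i := by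
                rw [conj_zpow]; group
            _ = (y * f * y⁻¹) * t ^ i := by rw [hyt]
        · show f * t = y * n⁻¹ * t * (y * n⁻¹)⁻¹
          calc f * t = (y * e0 * y⁻¹) * (y * t * y⁻¹) := by rw [hy, hyt]
            _ = y * (e0 * t) * y⁻¹ := by group
            _ = y * (n⁻¹ * t * n) * y⁻¹ := by rw [hn']
            _ = _ := by group
  rw [h5, Set.ncard_image_of_injective _ (mul_left_injective t)] at hodd
  -- `|E|` is even
  have h6 : Even (Nat.card E) := by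
    have h7 : IsPGroup 2 E := T.isPGroup'.to_le h.leT
    obtain ⟨m, hm⟩ := IsPGroup.iff_card.mp h7
    rw [hm]
    have h8 := h.big
    rw [hm] at h8
    rcases Nat.eq_zero_or_pos m with h9 | h9
    · rw [h9] at h8; norm_num at h8
    · exact Nat.even_pow.mpr ⟨even_two, h9.ne'⟩
  rw [← Nat.card_coe_set_eq, ← Nat.not_even_iff_odd] at hodd
  exact hodd h6

/-- `E⟨ψ⟩` for `ψ = t^c φ` -/
theorem mem_Eψ (h : Alpha T E t φ k) (c : ℤ) {x : G} :
    x ∈ E ⊔ zpowers (t ^ c * φ) ↔ ∃ e ∈ E, ∃ j : ℤ, x = e * t ^ (c * j) * φ ^ j := by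
  have hψ : t ^ c * φ ∈ (T : Subgroup G) := mul_mem (zpow_mem h.tT c) h.φT
  have hcomm : Commute (t ^ c) φ := (h.tz h.φT c).symm
  rw [mem_sup_zpowers_iff (h.norm _ hψ)]
  constructor
  · rintro ⟨e, he, j, rfl⟩
    refine ⟨e, he, j, ?_⟩
    rw [hcomm.mul_zpow, zpow_mul, mul_assoc]
  · rintro ⟨e, he, j, rfl⟩
    refine ⟨e, he, j, ?_⟩
    rw [hcomm.mul_zpow, zpow_mul, mul_assoc]

/-- Thompson transfer: `t` is conjugate to the involution of `⟨t^c φ⟩`, for `c = 0` or `k = 1` -/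
theorem exists_conj_s (h : Alpha T E t φ k) (hG : _root_.commutator G = ⊤) (c : ℤ)
    (hc : c = 0 ∨ k = 1) : ∃ g, g * t * g⁻¹ = t ^ c * φ ^ 2 ^ (k - 1) := by
  have hT₁ : E ⊔ zpowers (t ^ c * φ) ≤ (T : Subgroup G) :=
    sup_le h.leT (zpowers_le.mpr (mul_mem (zpow_mem h.tT c) h.φT))
  -- membership criterion
  have hmem : ∀ e ∈ E, ∀ i j : ℤ, e * t ^ i * φ ^ j ∈ E ⊔ zpowers (t ^ c * φ) →
      Even (i - c * j) := by
    intro e he i j hx
    obtain ⟨f, hf, m, hm⟩ := (h.mem_Eψ c).mp hx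
    have h1 : f⁻¹ * e * t ^ (i - c * m) * φ ^ (j - m) = 1 := by
      have h2 := h.tz (mul_mem (h.leT hf) (zpow_mem h.φT m)) (c * m)
      have h3 := h.tz (mul_mem (zpow_mem h.φT j) (inv_mem (zpow_mem h.φT m))) (-(c * m))
      calc f⁻¹ * e * t ^ (i - c * m) * φ ^ (j - m)
          = f⁻¹ * (e * t ^ i * (t ^ (-(c * m)) * (φ ^ j * (φ ^ m)⁻¹))) := by group
        _ = f⁻¹ * (e * t ^ i * ((φ ^ j * (φ ^ m)⁻¹) * t ^ (-(c * m)))) := by rw [h3]
        _ = f⁻¹ * ((e * t ^ i * φ ^ j) * (φ ^ m)⁻¹ * t ^ (-(c * m))) := by group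
        _ = f⁻¹ * ((f * t ^ (c * m) * φ ^ m) * (φ ^ m)⁻¹ * t ^ (-(c * m))) := by rw [hm]
        _ = 1 := by group
    obtain ⟨h2, h3, h4⟩ := h.uniq (E.mul_mem (E.inv_mem hf) he) h1
    rcases hc with rfl | hk
    · simpa using h3
    · rw [hk, pow_one] at h4
      obtain ⟨a, ha⟩ := h3
      obtain ⟨b, hb⟩ := h4
      refine ⟨a - c * b, ?_⟩
      have : j = m + 2 * b := by omega
      rw [this]
      linear_combination ha
  have hmem' : ∀ e ∈ E, ∀ i j : ℤ, Even (i - c * j) →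
      e * t ^ i * φ ^ j ∈ E ⊔ zpowers (t ^ c * φ) := by
    intro e he i j hx
    refine (h.mem_Eψ c).mpr ⟨e, he, j, ?_⟩
    obtain ⟨n, hn⟩ := hx
    have h1 : i = c * j + 2 * n := by omega
    rw [h1, zpow_add, zpow_mul _ 2 n, zpow_ofNat, pow_two, h.tt, one_zpow, mul_one]
  have htT₁ : t ∉ E ⊔ zpowers (t ^ c * φ) := by
    intro ht
    have h1 := hmem 1 E.one_mem 1 0 (by simpa using ht)
    simp at h1
  have hidx : (E ⊔ zpowers (t ^ c * φ)).relIndex (T : Subgroup G) = 2 := by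
    refine relIndex_eq_two h.tT htT₁ ?_
    intro b hb hb1
    obtain ⟨e, he, i, j, rfl⟩ := h.gen b hb
    have h1 : e * t ^ i * φ ^ j * t = e * t ^ (i + 1) * φ ^ j := by
      have h2 := h.tc _ (zpow_mem h.φT j)
      rw [zpow_add, zpow_one]
      calc e * t ^ i * φ ^ j * t = e * t ^ i * (φ ^ j * t) := by group
        _ = e * t ^ i * (t * φ ^ j) := by rw [h2]
        _ = _ := by group
    rw [h1]
    apply hmem' e he
    have h2 : ¬ Even (i - c * j) := fun h3 => hb1 (hmem' e he i j h3)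
    rw [Int.not_even_iff_odd] at h2
    have h3 : i + 1 - c * j = (i - c * j) + 1 := by ring
    rw [h3]
    exact h2.add_one
  obtain ⟨a, ha⟩ := CaseATransfer.exists_conj_of_min hG T _ hT₁ hidx h.tT htT₁ (by
    intro x hx hx1
    rw [h.t2]
    have h1 : x ≠ 1 := fun h2 => hx1 (h2 ▸ one_mem _)
    have h2 : orderOf x ≠ 1 := fun h3 => h1 (orderOf_eq_one_iff.mp h3)
    have h3 := orderOf_pos x
    omega)
  obtain ⟨e, he, j, hj⟩ := (h.mem_Eψ c).mp ha
  have hsq : e * t ^ (c * j) * φ ^ j * (e * t ^ (c * j) * φ ^ j) = 1 := by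
    rw [← hj]
    calc a * t * a⁻¹ * (a * t * a⁻¹) = a * (t * t) * a⁻¹ := by group
      _ = 1 := by rw [h.tt]; group
  have hne : a * t * a⁻¹ ≠ 1 := by
    intro h1
    have h2 : t = 1 := by
      calc t = a⁻¹ * (a * t * a⁻¹) * a := by group
        _ = 1 := by rw [h1]; group
    have h3 := h.t2
    rw [h2, orderOf_one] at h3
    omega
  -- the exponent
  have hkey : (t ^ (c * j) * φ ^ j = 1) ∨
      (t ^ (c * j) * φ ^ j = t ^ c * φ ^ 2 ^ (k - 1)) := by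
    rcases hc with rfl | hk
    · simp only [zero_mul, zpow_zero, one_mul]
      exact h.inv_cases he hsq
    · rcases Int.even_or_odd' j with ⟨n, hn | hn⟩
      · left
        have h1 : φ ^ j = 1 := h.φz (by rw [hk, pow_one]; exact ⟨n, hn⟩)
        rw [h1, mul_one, hn]
        have : c * (2 * n) = 2 * (c * n) := by ring
        rw [this, zpow_mul, zpow_ofNat, pow_two, h.tt, one_zpow]
      · right
        have h1 : φ ^ j = φ := by
          rw [hn, zpow_add, zpow_one, h.φz (by rw [hk, pow_one]; exact ⟨n, rfl⟩), one_mul]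
        have h2 : t ^ (c * j) = t ^ c := by
          have : c * j = 2 * (c * n) + c := by rw [hn]; ring
          rw [this, zpow_add, zpow_mul, zpow_ofNat, pow_two, h.tt, one_zpow, one_mul]
        rw [h1, h2, hk]
        simp
  have hass : e * t ^ (c * j) * φ ^ j = e * (t ^ (c * j) * φ ^ j) := mul_assoc _ _ _
  rw [hass] at hj hsq
  rcases hkey with hkey | hkey
  · exfalso
    rw [hkey, mul_one] at hj
    exact h.not_conj he (fun h1 => hne (by rw [hj, h1])) hj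
  · rw [hkey] at hj hsq
    set s := t ^ c * φ ^ 2 ^ (k - 1) with hs
    have hsT : s ∈ (T : Subgroup G) := mul_mem (zpow_mem h.tT _) (pow_mem h.φT _)
    have hs2 : s * s = 1 := by
      have h1 : Commute (t ^ c) (φ ^ 2 ^ (k - 1)) := (h.tz (pow_mem h.φT _) c).symm
      rw [hs, h1.symm.mul_mul_mul_comm, h.s0_sq, mul_one, ← zpow_add, ← two_mul, zpow_mul,
        zpow_ofNat, pow_two, h.tt, one_zpow]
    have hsf : ∀ e ∈ E, ∀ i : ℤ, s ≠ e * t ^ i := by
      intro e he i h1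
      refine h.s0_ne e he (i - c) ?_
      have h2 : φ ^ 2 ^ (k - 1) = t ^ (-c) * s := by rw [hs]; group
      rw [h2, h1, ← mul_assoc, ← h.tz (h.leT he)]
      group
    obtain ⟨f, hf, hfs⟩ := exists_conj_mul h.elem (h.norm s hsT) hs2 (h.field s hsT hsf) he hsq
    refine ⟨f⁻¹ * a, ?_⟩
    calc f⁻¹ * a * t * (f⁻¹ * a)⁻¹ = f⁻¹ * (a * t * a⁻¹) * f := by group
      _ = f⁻¹ * (f * s * f⁻¹) * f := by rw [hj, hfs]
      _ = s := by group

/-- A3, (alpha). -/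
theorem false (h : Alpha T E t φ k) (hG : _root_.commutator G = ⊤)
    (hα : ∀ a ∈ (T : Subgroup G), (∀ e ∈ E, ∀ i : ℤ, a ≠ e * t ^ i) →
      (∃ g, g * t * g⁻¹ = a) → (∃ g, g * t * g⁻¹ = t * a) → False) : False := by
  by_cases hk : k = 1
  · obtain ⟨g, hg⟩ := h.exists_conj_s hG 0 (Or.inl rfl)
    obtain ⟨g', hg'⟩ := h.exists_conj_s hG 1 (Or.inr hk)
    rw [zpow_zero, one_mul] at hg
    rw [zpow_one] at hg'
    exact hα _ (pow_mem h.φT _) h.s0_ne ⟨g, hg⟩ ⟨g', hg'⟩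
  · have hk2 : 2 ≤ k := by have := h.pos; omega
    obtain ⟨g, hg⟩ := h.exists_conj_s hG 0 (Or.inl rfl)
    rw [zpow_zero, one_mul] at hg
    -- the subgroup `V⟨φ²⟩`
    have hVn : ∀ v ∈ E ⊔ zpowers t, φ ^ 2 * v * (φ ^ 2)⁻¹ ∈ E ⊔ zpowers t := by
      intro v hv
      obtain ⟨f, hf, i, rfl⟩ := h.mem_V.mp hv
      have h2 : φ ^ 2 ∈ (T : Subgroup G) := pow_mem h.φT 2
      refine h.mem_V.mpr ⟨_, h.norm _ h2 f hf, i, ?_⟩
      have h3 := h.tz h2 i
      calc φ ^ 2 * (f * t ^ i) * (φ ^ 2)⁻¹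
          = (φ ^ 2 * f * (φ ^ 2)⁻¹) * (φ ^ 2 * t ^ i * (φ ^ 2)⁻¹) := by group
        _ = (φ ^ 2 * f * (φ ^ 2)⁻¹) * t ^ i := by rw [h3]; group
    have hmem : ∀ x, x ∈ E ⊔ zpowers t ⊔ zpowers (φ ^ 2) ↔
        ∃ e ∈ E, ∃ i j : ℤ, x = e * t ^ i * φ ^ (2 * j) := by
      intro x
      rw [mem_sup_zpowers_iff hVn]
      constructor
      · rintro ⟨v, hv, j, rfl⟩
        obtain ⟨f, hf, i, rfl⟩ := h.mem_V.mp hv
        exact ⟨f, hf, i, j, by rw [zpow_mul, zpow_ofNat]⟩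
      · rintro ⟨e, he, i, j, rfl⟩
        exact ⟨_, h.mem_V.mpr ⟨e, he, i, rfl⟩, j, by rw [zpow_mul, zpow_ofNat]⟩
    have hT₁ : E ⊔ zpowers t ⊔ zpowers (φ ^ 2) ≤ (T : Subgroup G) :=
      sup_le h.V_le (zpowers_le.mpr (pow_mem h.φT 2))
    have hodd : ∀ e ∈ E, ∀ i j : ℤ, e * t ^ i * φ ^ j ∉ E ⊔ zpowers t ⊔ zpowers (φ ^ 2) →
        Odd j := by
      intro e he i j h1
      by_contra h2
      rw [Int.not_odd_iff_even] at h2
      obtain ⟨n, hn⟩ := h2
      exact h1 ((hmem _).mpr ⟨e, he, i, n, by rw [hn, two_mul]⟩)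
    have hφ : φ ∉ E ⊔ zpowers t ⊔ zpowers (φ ^ 2) := by
      intro h1
      obtain ⟨e, he, i, j, h2⟩ := (hmem _).mp h1
      have h3 : φ ^ (1 - 2 * j) = e * t ^ i := by
        rw [zpow_sub, zpow_one]
        nth_rewrite 1 [h2]
        group
      have h4 := h.φd _ e he i h3
      have h5 : (2 : ℤ) ∣ 2 ^ k := dvd_pow_self 2 (by omega)
      have := h5.trans h4
      omega
    have hidx : (E ⊔ zpowers t ⊔ zpowers (φ ^ 2)).relIndex (T : Subgroup G) = 2 := by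
      refine relIndex_eq_two h.φT hφ ?_
      intro b hb hb1
      obtain ⟨e, he, i, j, rfl⟩ := h.gen b hb
      obtain ⟨n, hn⟩ := hodd e he i j hb1
      refine (hmem _).mpr ⟨e, he, i, n + 1, ?_⟩
      have h1 : 2 * (n + 1) = j + 1 := by omega
      rw [h1, zpow_add, zpow_one, ← mul_assoc]
    have hord : orderOf φ = 2 ^ k := by
      rw [orderOf_eq_iff (by positivity)]
      refine ⟨h.φk, fun m hm hm0 h1 => ?_⟩
      have h2 := h.φd m 1 E.one_mem 0 (by rw [zpow_natCast, h1]; simp)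
      have h3 : (2 ^ k : ℕ) ∣ m := by exact_mod_cast h2
      exact absurd (Nat.le_of_dvd hm0 h3) (by omega)
    obtain ⟨a, ha⟩ := CaseATransfer.exists_conj_of_min hG T _ hT₁ hidx h.φT hφ (by
      intro x hx hx1
      obtain ⟨e, he, i, j, rfl⟩ := h.gen x hx
      have h1 := hodd e he i j hx1
      rw [hord]
      obtain ⟨e', he', h2⟩ := h.pow he i j (orderOf (e * t ^ i * φ ^ j))
      rw [pow_orderOf_eq_one] at h2
      have h3 := (h.uniq he' h2.symm).2.2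
      have h4 : IsCoprime (2 ^ k : ℤ) j := by
        apply IsCoprime.pow_left
        rw [Int.isCoprime_iff_gcd_eq_one, Int.gcd_eq_natAbs]
        exact (Nat.coprime_two_left).2 (Int.natAbs_odd.2 h1)
      have h5 := h4.dvd_of_dvd_mul_right h3
      have h6 : (2 ^ k : ℕ) ∣ orderOf (e * t ^ i * φ ^ j) := by exact_mod_cast h5
      exact Nat.le_of_dvd (orderOf_pos _) h6)
    obtain ⟨e, he, i, j, hj⟩ := (hmem _).mp ha
    obtain ⟨e', he', h1⟩ := h.pow he i (2 * j) (2 ^ (k - 1))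
    have h2 : (((2 : ℕ) ^ (k - 1) : ℕ) : ℤ) = 2 * 2 ^ (k - 2) := by
      push_cast
      rw [← pow_succ']
      congr 1
      omega
    have h3 : t ^ ((((2 : ℕ) ^ (k - 1) : ℕ) : ℤ) * i) = 1 := by
      rw [h2, mul_assoc, zpow_mul, zpow_ofNat, pow_two, h.tt, one_zpow]
    have h4 : φ ^ ((((2 : ℕ) ^ (k - 1) : ℕ) : ℤ) * (2 * j)) = 1 := by
      apply h.φz
      refine ⟨j, ?_⟩
      have h5 : (2 : ℤ) ^ k = 2 * (2 * 2 ^ (k - 2)) := by
        rw [← pow_succ', ← pow_succ']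
        congr 1
        omega
      rw [h2, h5]
      ring
    rw [h3, h4, mul_one, mul_one, ← hj, conj_pow] at h1
    have h5 : e' ≠ 1 := by
      rintro rfl
      have h6 : φ ^ 2 ^ (k - 1) = 1 := by
        calc φ ^ 2 ^ (k - 1) = a⁻¹ * (a * φ ^ 2 ^ (k - 1) * a⁻¹) * a := by group
          _ = 1 := by rw [h1]; group
      exact h.s0_ne 1 E.one_mem 0 (by rw [h6]; simp)
    refine h.not_conj he' h5 (g := a * g) ?_
    calc a * g * t * (a * g)⁻¹ = a * (g * t * g⁻¹) * a⁻¹ := by group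
      _ = e' := by rw [hg, h1]

end Alpha

end Cfsg.Agent.OddCyclic.CaseAThree
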