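import Cfsg.Agent.OddCyclic.CaseAInv
import Cfsg.Agent.OddCyclic.CaseAThree
import Cfsg.Agent.OddCyclic.CaseAField
import Cfsg.Agent.OddCyclic.CaseAAlpha

/-!
# S0342, component type, case A: the case that a Sylow 2-subgroup `S` of `M` is Sylow in `G`
-/

set_option autoImplicit false

namespace Cfsg.Agent.OddCyclic.CaseATS

open Subgroup
open scoped commutatorElement
open Cfsg.Agent.LieExceptional Cfsg.Agent.LieExceptional.CITDefs
open Cfsg.Agent.LieExceptional.CITBasic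
open Cfsg.Agent.OddCyclic.T1Tools
open Cfsg.Agent.OddCyclic.CompBasic Cfsg.Agent.OddCyclic.CompStandard
open Cfsg.Agent.OddCyclic.CaseADefs Cfsg.Agent.OddCyclic.CaseABase
open Cfsg.Agent.OddCyclic.CaseACount Cfsg.Agent.OddCyclic.CaseAFour
open Cfsg.Agent.OddCyclic.CaseADelta Cfsg.Agent.OddCyclic.CaseAKer
open Cfsg.Agent.OddCyclic.CaseAThree Cfsg.Agent.OddCyclic.CaseAField
open Cfsg.Agent.OddCyclic.CaseAAlpha

variable {G : Type*} [Group G] {p : ℕ} {K R E H S : Subgroup G} {q : ℕ}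

/-- Data without A1. -/
structure Pre (K R E H S : Subgroup G) (q : ℕ) : Prop where
  l2 : L2K K q
  l3 : L2K3 K q
  big : Big K q
  sylR : IsSyl2 (centralizer (K : Set G)) R
  sylE : IsSyl2 K E
  bor : Borel K E H q
  sylS : IsSyl2 (normalizer (K : Set G)) S
  leR : R ≤ S
  leE : E ≤ S

/-- the homomorphism `M → Out K` -/
structure Typ (K : Subgroup G) (C : Type*) [Group C] (ψ : normalizer (K : Set G) →* C) : Prop where
  cyc : IsCyclic C
  ker : ∀ x, ψ x = 1 ↔ (x : G) ∈ K ⊔ centralizer (K : Set G)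

namespace Pre

theorem comm (b : Pre K R E H S q) : ∀ r ∈ R, ∀ e ∈ E, r * e = e * r :=
  fun r hr e he => (comm_KY e (b.sylE.le he) r (b.sylR.le hr)).symm

theorem inf (b : Pre K R E H S q) {x : G} (hR : x ∈ R) (hE : x ∈ E) : x = 1 := by
  have h1 : x ∈ K ⊓ centralizer (K : Set G) := ⟨b.sylE.le hE, b.sylR.le hR⟩
  rwa [b.l2.inf, mem_bot] at h1

theorem mem_V (b : Pre K R E H S q) {v : G} :
    v ∈ R ⊔ E ↔ ∃ r ∈ R, ∃ e ∈ E, v = r * e := mem_sup_comm b.comm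

theorem S_inf_Y (b : Pre K R E H S q) : S ⊓ centralizer (K : Set G) = R :=
  b.sylR.max _ inf_le_right (b.sylS.two.to_le inf_le_left) (le_inf b.leR b.sylR.le)

theorem S_inf_K (b : Pre K R E H S q) : S ⊓ K = E :=
  b.sylE.max _ inf_le_right (b.sylS.two.to_le inf_le_left) (le_inf b.leE b.sylE.le)

theorem norm_E (b : Pre K R E H S q) : ∀ s ∈ S, ∀ e ∈ E, s * e * s⁻¹ ∈ E := by
  intro s hs e he
  rw [← b.S_inf_K]
  exact Subgroup.mem_inf.mpr ⟨Subgroup.mul_mem _ (Subgroup.mul_mem _ hs (b.leE he))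
    (Subgroup.inv_mem _ hs), forall_of_mem_normalizer (b.sylS.le hs) e (b.sylE.le he)⟩

theorem norm_R (b : Pre K R E H S q) : ∀ s ∈ S, ∀ e ∈ R, s * e * s⁻¹ ∈ R := by
  intro s hs e he
  rw [← b.S_inf_Y]
  exact Subgroup.mem_inf.mpr ⟨Subgroup.mul_mem _ (Subgroup.mul_mem _ hs (b.leR he))
    (Subgroup.inv_mem _ hs), normal_cent K s (b.sylS.le hs) e (b.sylR.le he)⟩

/-- `S ∩ YK = R × E` -/
theorem S_inf_KY [Finite G] (b : Pre K R E H S q) {x : G} (hx : x ∈ S)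
    (hxKY : x ∈ K ⊔ centralizer (K : Set G)) : x ∈ R ⊔ E := by
  obtain ⟨k, hk, y, hy, hxk⟩ := mem_KY.mp hxKY
  obtain ⟨n, hn⟩ := mem_of_pow_two b.sylS.two hx
  have hn' : (k * y) ^ 2 ^ n = 1 := by rw [← hxk]; exact hn
  obtain ⟨hk2, -⟩ := pow_eq_one_KY b.l2.inf hk hy hn'
  have hkE : k ∈ E := by
    refine mem_isSyl2 b.sylE hk ⟨n, hk2⟩ fun e he => ?_
    have h3 := b.norm_E x hx e he
    have h4 : y * e = e * y := (comm_KY e (b.sylE.le he) y hy).symm
    have e1 : x * e * x⁻¹ = k * e * k⁻¹ := by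
      rw [hxk]
      calc k * y * e * (k * y)⁻¹ = k * (y * e) * y⁻¹ * k⁻¹ := by group
        _ = k * (e * y) * y⁻¹ * k⁻¹ := by rw [h4]
        _ = k * e * k⁻¹ := by group
    rwa [e1] at h3
  have hyR : y ∈ R := by
    rw [← b.S_inf_Y]
    refine ⟨?_, hy⟩
    have e1 : y = k⁻¹ * x := by rw [hxk]; group
    rw [e1]
    exact S.mul_mem (S.inv_mem (b.leE hkE)) hx
  rw [hxk]
  exact Subgroup.mul_mem _ (mem_sup_right hkE) (mem_sup_left hyR)

theorem V_le_KY (b : Pre K R E H S q) : R ⊔ E ≤ K ⊔ centralizer (K : Set G) :=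
  sup_le (b.sylR.le.trans le_sup_right) (b.sylE.le.trans le_sup_left)

theorem exists_H_ne (b : Pre K R E H S q) : ∃ x ∈ H, x ≠ 1 := by
  by_contra hno
  push Not at hno
  have h1 : H = ⊥ := (eq_bot_iff).mpr fun e he => by rw [Subgroup.mem_bot]; exact hno e he
  have h2 := b.bor.cardH
  have h4 := b.l2.four
  rw [h1, Subgroup.card_bot] at h2
  omega

/-- `N_E(H) = 1` -/
theorem E_norm_H (b : Pre K R E H S q) {e : G} (he : e ∈ E)
    (hn : ∀ x ∈ H, e * x * e⁻¹ ∈ H) : e = 1 := by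
  obtain ⟨x, hx, hx1⟩ := b.exists_H_ne
  have h1 : e * x * e⁻¹ * x⁻¹ = 1 := by
    refine H_inf b.l2 b.bor (H.mul_mem (hn x hx) (H.inv_mem hx)) ?_
    have e1 : e * x * e⁻¹ * x⁻¹ = e * (x * e⁻¹ * x⁻¹) := by group
    rw [e1]
    exact E.mul_mem he (b.bor.norm x hx _ (E.inv_mem he))
  by_contra he1
  have h2 : x * e = e * x := (mul_inv_eq_iff_eq_mul.mp (mul_inv_eq_one.mp h1)).symm
  exact hx1 (H_inf b.l2 b.bor hx (b.bor.cent e he he1 x (b.bor.leH hx) h2))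

/-- `H` is transitive on `E - {1}` -/
theorem trans [Finite G] (b : Pre K R E H S q) {e e' : G} (he : e ∈ E) (he1 : e ≠ 1)
    (he' : e' ∈ E) (he1' : e' ≠ 1) : ∃ x ∈ H, x * e * x⁻¹ = e' := by
  have hinj : Function.Injective (fun x : H => (⟨⟨(x : G) * e * (x : G)⁻¹,
      b.bor.norm x x.2 e he⟩, fun hh => he1 (by
        have h1 : (x : G) * e * (x : G)⁻¹ = 1 := congrArg Subtype.val hh
        have : e = (x : G)⁻¹ * ((x : G) * e * (x : G)⁻¹) * x := by group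
        rw [this, h1]; group)⟩ : {y : E // y ≠ 1})) := by
    intro x y hxy
    have h1 : (x : G) * e * (x : G)⁻¹ = (y : G) * e * (y : G)⁻¹ :=
      congrArg (fun z : {y : E // y ≠ 1} => ((z : E) : G)) hxy
    have h2 : ((y : G)⁻¹ * x) * e = e * ((y : G)⁻¹ * x) := by
      calc ((y : G)⁻¹ * x) * e = (y : G)⁻¹ * ((x : G) * e * (x : G)⁻¹) * x := by group
        _ = (y : G)⁻¹ * ((y : G) * e * (y : G)⁻¹) * x := by rw [h1]
        _ = e * ((y : G)⁻¹ * x) := by group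
    have h3 := H_inf b.l2 b.bor (H.mul_mem (H.inv_mem y.2) x.2)
      (b.bor.cent e he he1 _ (b.bor.leH (H.mul_mem (H.inv_mem y.2) x.2)) h2)
    exact Subtype.ext (inv_mul_eq_one.mp h3).symm
  have hbij := hinj.bijective_of_nat_card_le (by
    rw [card_ne_one, b.bor.cardE, b.bor.cardH])
  obtain ⟨x, hx⟩ := hbij.2 ⟨⟨e', he'⟩, fun hh => he1' (congrArg Subtype.val hh)⟩
  exact ⟨x, x.2, congrArg (fun z : {y : E // y ≠ 1} => ((z : E) : G)) hx⟩

/-- `S = E (S ∩ N(H))` -/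
theorem split (b : Pre K R E H S q) {s : G} (hs : s ∈ S) :
    ∃ e ∈ E, ∃ s₁ ∈ S, s = e * s₁ ∧ ∀ x ∈ H, s₁ * x * s₁⁻¹ ∈ H := by
  obtain ⟨e, he, s₁, hs₁, h1, -, h2⟩ := b.l3.split E H b.sylE b.bor s (b.sylS.le hs)
    (b.norm_E s hs)
  refine ⟨e, he, s₁, ?_, h1, h2⟩
  have : s₁ = e⁻¹ * s := by rw [h1]; group
  rw [this]
  exact S.mul_mem (S.inv_mem (b.leE he)) hs

/-- `V ∩ N(H) = R` -/
theorem V_norm_H (b : Pre K R E H S q) {v : G} (hv : v ∈ R ⊔ E)
    (hn : ∀ x ∈ H, v * x * v⁻¹ ∈ H) : v ∈ R := by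
  obtain ⟨r, hr, e, he, rfl⟩ := b.mem_V.mp hv
  have h1 : e = 1 := by
    refine b.E_norm_H he fun x hx => ?_
    have h2 := hn x hx
    have h3 : r * e = e * r := b.comm r hr e he
    have h4 : x * r = r * x := comm_KY x (b.bor.leH hx) r (b.sylR.le hr)
    have e1 : r * e * x * (r * e)⁻¹ = e * x * e⁻¹ := by
      rw [h3]
      calc e * r * x * (e * r)⁻¹ = e * (r * x) * r⁻¹ * e⁻¹ := by group
        _ = e * (x * r) * r⁻¹ * e⁻¹ := by rw [h4]
        _ = e * x * e⁻¹ := by group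
    rwa [e1] at h2
  rw [h1, mul_one]; exact hr

/-- A generator of `S` modulo `V`. -/
theorem exists_phi [Finite G] (b : Pre K R E H S q) {C : Type*} [Group C]
    {ψ : normalizer (K : Set G) →* C} (hψ : Typ K C ψ) :
    ∃ φ ∈ S, (∀ x ∈ H, φ * x * φ⁻¹ ∈ H) ∧ (∀ s ∈ S, ∃ e ∈ E, ∃ r ∈ R, ∃ j : ℤ,
      s = e * r * φ ^ j) := by
  have hcyc := hψ.cyc
  set W : Subgroup G := S ⊓ normalizer (H : Set G) with hW
  set W' : Subgroup C := (W.subgroupOf (normalizer (K : Set G))).map ψ with hW'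
  obtain ⟨⟨w, hw⟩, hwgen⟩ := IsCyclic.exists_generator (α := W')
  obtain ⟨φ, hφ, hφw⟩ := hw
  have hφW : (φ : G) ∈ W := Subgroup.mem_subgroupOf.mp hφ
  refine ⟨φ, hφW.1, forall_of_mem_normalizer hφW.2, fun s hs => ?_⟩
  obtain ⟨e, he, s₁, hs₁, hse, hsn⟩ := b.split hs
  have hs₁W : s₁ ∈ W := ⟨hs₁, mem_normalizer_of_forall hsn⟩
  have h1 : ψ ⟨s₁, b.sylS.le hs₁⟩ ∈ W' := ⟨⟨s₁, b.sylS.le hs₁⟩, hs₁W, rfl⟩
  obtain ⟨j, hj⟩ := hwgen ⟨_, h1⟩
  have h2 : w ^ j = ψ ⟨s₁, b.sylS.le hs₁⟩ := congrArg Subtype.val hj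
  have h3 : s₁ * (φ : G) ^ (-j) ∈ R := by
    refine b.V_norm_H (b.S_inf_KY (S.mul_mem hs₁ (S.zpow_mem hφW.1 _)) ?_) ?_
    · have h4 : ψ (⟨s₁, b.sylS.le hs₁⟩ * φ ^ (-j)) = 1 := by
        rw [map_mul, map_zpow, hφw, ← h2, zpow_neg, mul_inv_cancel]
      exact (hψ.ker _).mp h4
    · exact forall_of_mem_normalizer (Subgroup.mul_mem _ hs₁W.2 (Subgroup.zpow_mem _ hφW.2 _))
  refine ⟨e, he, _, h3, j, ?_⟩
  rw [hse]
  group

end Pre

variable [Finite G] {C : Type*} [Group C] {ψ : normalizer (K : Set G) →* C}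

omit [Finite G] in
theorem commutator_eq_top [IsSimpleGroup G] (h : Std p K) : _root_.commutator G = ⊤ := by
  rcases (inferInstance : (_root_.commutator G).Normal).eq_bot_or_eq_top with h1 | h1
  · exfalso
    have h2 := commutator_eq_bot_iff_le_centralizer.mp h1
    refine Cfsg.Agent.SignalizersComponents.Components.quasisimple_not_isMulCommutative h.quasi
      ⟨⟨fun a b => Subtype.ext ?_⟩⟩
    exact (mem_centralizer_iff.mp (h2 (mem_top (b : G))) a (mem_top _))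
  · exact h1

omit [Finite G] in
theorem exists_t (hR2 : Nat.card R = 2) : ∃ t ∈ R, t ≠ 1 ∧ t * t = 1 ∧
    ∀ r ∈ R, r = 1 ∨ r = t := by
  obtain ⟨⟨t, htR⟩, ht, htu⟩ := (Nat.card_eq_two_iff' (1 : R)).mp hR2
  have ht1 : t ≠ 1 := fun hh => ht (Subtype.ext hh)
  have hor : ∀ r ∈ R, r = 1 ∨ r = t := by
    intro r hr
    by_cases hr1 : r = 1
    · exact Or.inl hr1
    · exact Or.inr (congrArg Subtype.val (htu ⟨r, hr⟩ fun hh => hr1 (congrArg Subtype.val hh)))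
  refine ⟨t, htR, ht1, ?_, hor⟩
  rcases hor _ (R.mul_mem htR htR) with h1 | h1
  · exact h1
  · exfalso
    apply ht1
    have : t * t = t * 1 := by rw [h1, mul_one]
    exact mul_left_cancel this

omit [Finite G] in
theorem t_central (b : Pre K R E H S q) {t : G} (htR : t ∈ R) (ht1 : t ≠ 1)
    (hor : ∀ r ∈ R, r = 1 ∨ r = t) {x : G} (hx : x ∈ S) : x * t = t * x := by
  rcases hor _ (b.norm_R x hx t htR) with h1 | h1
  · exfalso
    apply ht1
    have : t = x⁻¹ * (x * t * x⁻¹) * x := by group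
    rw [this, h1]; group
  · exact mul_inv_eq_iff_eq_mul.mp h1

/-- `IsSyl2 ⊤` and `Sylow 2` -/
def toSyl {S : Subgroup G} (hS : IsSyl2 (⊤ : Subgroup G) S) : Sylow 2 G where
  toSubgroup := S
  isPGroup' := hS.two
  is_maximal' := fun hQ hle => hS.max _ le_top hQ hle

/-- **T = S, (beta)** -/
theorem false_beta_end (h : Std p K) (b : Beta K R E H q) (pr : Pre K R E H S q)
    (hψ : Typ K C ψ) (hST : IsSyl2 (⊤ : Subgroup G) S)
    (hnab : ¬ ∀ x ∈ S, ∀ y ∈ S, x * y = y * x) : False := by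
  have hVS : R ⊔ E ≤ S := sup_le pr.leR pr.leE
  obtain ⟨hcD, hR2⟩ := card_delta_of_sylow h b pr.sylS hVS hST
  obtain ⟨t, htR, ht1, htt, hor⟩ := exists_t hR2
  have htc : ∀ x ∈ S, x * t = t * x := fun x hx => t_central pr htR ht1 hor hx
  obtain ⟨φ, hφS, -, hgen⟩ := pr.exists_phi hψ
  refine false_beta (toSyl hST) hnab (E := E) (t := t) htc (fun hh => ht1 (pr.inf htR hh)) ?_ ?_
  · rw [Subgroup.commutator_le]
    intro x hx y hy
    obtain ⟨e₁, he₁, r₁, hr₁, j, hxe⟩ := hgen x hx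
    obtain ⟨e₂, he₂, r₂, hr₂, l, hye⟩ := hgen y hy
    set u := r₁ * φ ^ j with hu
    set v := r₂ * φ ^ l with hv
    have hRc : ∀ r ∈ R, ∀ s ∈ S, s * r = r * s := by
      intro r hr s hs
      rcases hor r hr with h1 | h1
      · rw [h1, mul_one, one_mul]
      · rw [h1]; exact htc s hs
    have huv : u * v = v * u := by
      have h1 : φ ^ j * r₂ = r₂ * φ ^ j := hRc r₂ hr₂ _ (S.zpow_mem hφS j)
      have h2 : φ ^ l * r₁ = r₁ * φ ^ l := hRc r₁ hr₁ _ (S.zpow_mem hφS l)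
      have h3 : r₁ * r₂ = r₂ * r₁ := hRc r₂ hr₂ _ (pr.leR hr₁)
      have h4 : φ ^ j * φ ^ l = φ ^ l * φ ^ j := by rw [← zpow_add, ← zpow_add, add_comm]
      calc r₁ * φ ^ j * (r₂ * φ ^ l) = r₁ * (φ ^ j * r₂) * φ ^ l := by group
        _ = r₁ * (r₂ * φ ^ j) * φ ^ l := by rw [h1]
        _ = (r₁ * r₂) * (φ ^ j * φ ^ l) := by group
        _ = (r₂ * r₁) * (φ ^ l * φ ^ j) := by rw [h3, h4]
        _ = r₂ * (r₁ * φ ^ l) * φ ^ j := by group
        _ = r₂ * (φ ^ l * r₁) * φ ^ j := by rw [h2]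
        _ = r₂ * φ ^ l * (r₁ * φ ^ j) := by group
    have huS : u ∈ S := S.mul_mem (pr.leR hr₁) (S.zpow_mem hφS j)
    have hvS : v ∈ S := S.mul_mem (pr.leR hr₂) (S.zpow_mem hφS l)
    have e1 : ⁅x, y⁆ = e₁ * (u * e₂ * u⁻¹) * (v * e₁⁻¹ * v⁻¹) * e₂⁻¹ := by
      rw [commutatorElement_def, hxe, hye]
      have e2 : e₁ * r₁ * φ ^ j = e₁ * u := by rw [hu]; group
      have e3 : e₂ * r₂ * φ ^ l = e₂ * v := by rw [hv]; group
      rw [e2, e3]
      calc e₁ * u * (e₂ * v) * (e₁ * u)⁻¹ * (e₂ * v)⁻¹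
          = e₁ * (u * e₂ * u⁻¹) * ((u * v) * u⁻¹ * e₁⁻¹ * v⁻¹) * e₂⁻¹ := by group
        _ = e₁ * (u * e₂ * u⁻¹) * ((v * u) * u⁻¹ * e₁⁻¹ * v⁻¹) * e₂⁻¹ := by rw [huv]
        _ = e₁ * (u * e₂ * u⁻¹) * (v * e₁⁻¹ * v⁻¹) * e₂⁻¹ := by group
    rw [e1]
    exact E.mul_mem (E.mul_mem (E.mul_mem he₁ (pr.norm_E u huS e₂ he₂))
      (pr.norm_E v hvS _ (E.inv_mem he₁))) (E.inv_mem he₂)
  · intro e he he1
    classical
    have hf : Fintype (Delta R (R ⊔ E)) := Fintype.ofFinite _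
    have h1 := card_union (fun X : Delta R (R ⊔ E) => (X : Subgroup G))
      (fun X X' hne s hs hs' => by
        by_contra hs1
        exact hne (Subtype.ext (delta_ti h b X.2 X'.2 hs1 hs hs')))
    rw [Finset.sum_congr rfl (fun X _ => by rw [card_of_mem_delta X.2]), Finset.sum_const,
      smul_eq_mul, Finset.card_univ, ← Nat.card_eq_fintype_card, hcD, hR2] at h1
    have hinj : Function.Injective (fun x : {x : G // x ≠ 1 ∧ ∃ X : Delta R (R ⊔ E),
        x ∈ (X : Subgroup G)} => (⟨⟨x.1, by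
          obtain ⟨X, hX⟩ := x.2.2
          exact le_of_mem_delta X.2 hX⟩, fun hh => x.2.1 (congrArg Subtype.val hh)⟩ :
          {x : (R ⊔ E : Subgroup G) // x ≠ 1})) := by
      intro x y hxy
      exact Subtype.ext (congrArg (fun z : {x : (R ⊔ E : Subgroup G) // x ≠ 1} =>
        ((z : (R ⊔ E : Subgroup G)) : G)) hxy)
    have hbij := hinj.bijective_of_nat_card_le (by
      rw [card_ne_one, b.card_V, h1, hR2]; omega)
    obtain ⟨⟨y, hy1, ⟨X, hX⟩, hyX⟩, hye⟩ := hbij.2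
      ⟨⟨e, mem_sup_right he⟩, fun hh => he1 (congrArg Subtype.val hh)⟩
    have hye' : y = e := congrArg (fun z : {x : (R ⊔ E : Subgroup G) // x ≠ 1} =>
        ((z : (R ⊔ E : Subgroup G)) : G)) hye
    subst hye'
    obtain ⟨n, hn, rfl⟩ := hX
    have h2 : n⁻¹ * y * n ∈ R := mem_cj.mp hyX
    refine ⟨n⁻¹, ?_⟩
    rw [inv_inv]
    rcases hor _ h2 with h3 | h3
    · exfalso
      apply hy1
      have : y = n * (n⁻¹ * y * n) * n⁻¹ := by group
      rw [this, h3]; group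
    · exact h3

/-- **T = S, (alpha)** -/
theorem false_alpha_end [IsSimpleGroup G] (h : Std p K) (pr : Pre K R E H S q) (hTA : TA K)
    (hψ : Typ K C ψ) (hST : IsSyl2 (⊤ : Subgroup G) S) {g a : G}
    (hg : g ∉ normalizer (K : Set G)) (haY : a ∈ cj g (centralizer (K : Set G)))
    (haM : a ∈ normalizer (K : Set G)) (ha2 : orderOf a = 2)
    (haK : a ∉ K ⊔ centralizer (K : Set G)) : False := by
  have hR2 : Nat.card R = 2 := (alpha h pr.l2 hTA hg haY haM ha2 haK).1 R pr.sylR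
  obtain ⟨t, htR, ht1, htt, hor⟩ := exists_t hR2
  have htc : ∀ x ∈ S, x * t = t * x := fun x hx => t_central pr htR ht1 hor hx
  have htY := pr.sylR.le htR
  have ht2 : orderOf t = 2 := orderOf_eq_two ht1 htt
  -- a field type involution in `S`
  obtain ⟨a', ha'S, ha'a, ha'K⟩ : ∃ a' ∈ S, a' * a' = 1 ∧ a' ∉ K ⊔ centralizer (K : Set G) := by
    obtain ⟨S₁, hS₁, haS₁⟩ := exists_isSyl2 (normalizer (K : Set G)) (zpowers a)
      (zpowers_le.mpr haM) (isPGroup_zpowers ha2)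
    obtain ⟨m, hm, hmS⟩ := isSyl2_conj hS₁ pr.sylS
    refine ⟨m * a * m⁻¹, ?_, ?_, ?_⟩
    · rw [hmS]; exact conj_mem_cj (haS₁ (mem_zpowers a))
    · have := sq_of_orderOf ha2
      calc m * a * m⁻¹ * (m * a * m⁻¹) = m * (a * a) * m⁻¹ := by group
        _ = 1 := by rw [this]; group
    · intro hh
      apply haK
      have h1 := (hψ.ker (⟨m, hm⟩ * ⟨a, haM⟩ * ⟨m, hm⟩⁻¹)).mpr hh
      refine (hψ.ker ⟨a, haM⟩).mp ?_
      rw [map_mul, map_mul, map_inv] at h1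
      have h2 : ψ ⟨m, hm⟩ * ψ ⟨a, haM⟩ = ψ ⟨m, hm⟩ * 1 := by
        rw [mul_one]; exact mul_inv_eq_one.mp h1
      exact mul_left_cancel h2
  have hbig : 16 ≤ q := by
    rcases pr.big with h1 | h1
    · exact h1
    · exact absurd (h1 a' (pr.sylS.le ha'S) (mem_of_pow_two pr.sylS.two ha'S)) ha'K
  obtain ⟨φ, hφS, hφH, hgen⟩ := pr.exists_phi hψ
  have hφM := pr.sylS.le hφS
  obtain ⟨n, hn⟩ := mem_of_pow_two pr.sylS.two hφS
  obtain ⟨k, -, hk⟩ : ∃ k, k ≤ n ∧ orderOf (ψ ⟨φ, hφM⟩) = 2 ^ k := by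
    refine (Nat.dvd_prime_pow Nat.prime_two).mp (orderOf_dvd_of_pow_eq_one ?_)
    rw [← map_pow]
    have : (⟨φ, hφM⟩ : normalizer (K : Set G)) ^ 2 ^ n = 1 := Subtype.ext hn
    rw [this, map_one]
  -- elements of `S ∩ N(H)` are `t^i φ^j`
  have hgen' : ∀ s ∈ S, ∃ e ∈ E, ∃ i j : ℤ, s = e * t ^ i * φ ^ j := by
    intro s hs
    obtain ⟨e, he, r, hr, j, hse⟩ := hgen s hs
    rcases hor r hr with h1 | h1
    · exact ⟨e, he, 0, j, by rw [hse, h1, zpow_zero]⟩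
    · exact ⟨e, he, 1, j, by rw [hse, h1, zpow_one]⟩
  have htH : ∀ x ∈ H, t * x = x * t := fun x hx =>
    (comm_KY x (pr.bor.leH hx) t htY).symm
  -- kernel
  have hψV : ∀ e ∈ E, ∀ i : ℤ, e * t ^ i ∈ K ⊔ centralizer (K : Set G) := fun e he i =>
    Subgroup.mul_mem _ (mem_sup_left (pr.sylE.le he)) (Subgroup.zpow_mem _ (mem_sup_right htY) _)
  have hφker : ∀ j : ℤ, φ ^ j ∈ K ⊔ centralizer (K : Set G) → (2 ^ k : ℤ) ∣ j := by
    intro j hj
    have h1 : ψ ⟨φ, hφM⟩ ^ j = 1 := by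
      rw [← map_zpow]; exact (hψ.ker _).mpr hj
    have h2 := orderOf_dvd_iff_zpow_eq_one.mpr h1
    rw [hk] at h2
    exact_mod_cast h2
  have hφpow : φ ^ 2 ^ k ∈ R := by
    refine pr.V_norm_H (pr.S_inf_KY (S.pow_mem hφS _) ?_) ?_
    · refine (hψ.ker (⟨φ, hφM⟩ ^ 2 ^ k)).mp ?_
      rw [map_pow, ← hk, pow_orderOf_eq_one]
    · exact forall_of_mem_normalizer (Subgroup.pow_mem _ (mem_normalizer_of_forall hφH) _)
  -- an involution of field type in `S ∩ N(H)`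
  obtain ⟨e₁, he₁, hn₁⟩ := pr.l3.torus E H pr.sylE pr.bor a' (pr.sylS.le ha'S)
    (pr.norm_E a' ha'S) (by rw [ha'a]; exact Subgroup.one_mem _) ha'K
  set a₀ := e₁ * a' * e₁⁻¹ with ha₀
  have ha₀S : a₀ ∈ S := S.mul_mem (S.mul_mem (pr.leE he₁) ha'S) (S.inv_mem (pr.leE he₁))
  have ha₀a : a₀ * a₀ = 1 := by
    calc e₁ * a' * e₁⁻¹ * (e₁ * a' * e₁⁻¹) = e₁ * (a' * a') * e₁⁻¹ := by group
      _ = 1 := by rw [ha'a]; group
  have ha₀K : a₀ ∉ K ⊔ centralizer (K : Set G) := by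
    intro hh
    apply ha'K
    have : a' = e₁⁻¹ * a₀ * e₁ := by rw [ha₀]; group
    rw [this]
    exact Subgroup.mul_mem _ (Subgroup.mul_mem _ (Subgroup.inv_mem _
      (mem_sup_left (pr.sylE.le he₁))) hh) (mem_sup_left (pr.sylE.le he₁))
  obtain ⟨e₂, he₂, i, j, hae⟩ := hgen' a₀ ha₀S
  have he₂1 : e₂ = 1 := by
    refine pr.E_norm_H he₂ fun x hx => ?_
    -- `e₂ = a₀ (t^i φ^j)⁻¹` normalizes `H`
    have h1 : a₀ ∈ normalizer (H : Set G) := mem_normalizer_of_forall hn₁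
    have h2 : φ ∈ normalizer (H : Set G) := mem_normalizer_of_forall hφH
    have h3 : t ∈ normalizer (H : Set G) := mem_normalizer_of_forall fun x hx => by
      rw [htH x hx, mul_inv_cancel_right]; exact hx
    have h4 : e₂ = a₀ * (t ^ i * φ ^ j)⁻¹ := by rw [hae]; group
    have h5 : e₂ ∈ normalizer (H : Set G) := by
      rw [h4]
      exact Subgroup.mul_mem _ h1 (Subgroup.inv_mem _ (Subgroup.mul_mem _
        (Subgroup.zpow_mem _ h3 _) (Subgroup.zpow_mem _ h2 _)))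
    exact forall_of_mem_normalizer h5 x hx
  rw [he₂1, one_mul] at hae
  have htz : ∀ x ∈ S, ∀ i : ℤ, x * t ^ i = t ^ i * x := fun x hx i =>
    ((show Commute x t from htc x hx).zpow_right i)
  have hk1 : 1 ≤ k := by
    by_contra hk0
    have hk0' : k = 0 := by omega
    rw [hk0', pow_zero, orderOf_eq_one_iff] at hk
    apply ha₀K
    rw [hae]
    refine Subgroup.mul_mem _ (Subgroup.zpow_mem _ (mem_sup_right htY) _)
      (Subgroup.zpow_mem _ ((hψ.ker _).mp hk) _)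
  have hφk : φ ^ 2 ^ k = 1 := by
    rcases hor _ hφpow with h1 | h1
    · exact h1
    · exfalso
      have h2 : orderOf φ = 2 ^ (k + 1) := by
        refine orderOf_eq_prime_pow ?_ ?_
        · rw [h1]; exact ht1
        · rw [pow_succ, pow_mul, h1, pow_two, htt]
      have h3 : φ ^ (2 * j) = 1 := by
        have h4 := htz (φ ^ j) (S.zpow_mem hφS j) i
        have h5 : a₀ * a₀ = (t ^ i * t ^ i) * (φ ^ j * φ ^ j) := by
          rw [hae]
          calc t ^ i * φ ^ j * (t ^ i * φ ^ j) = t ^ i * (φ ^ j * t ^ i) * φ ^ j := by group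
            _ = t ^ i * (t ^ i * φ ^ j) * φ ^ j := by rw [h4]
            _ = _ := by group
        have h6 : t ^ i * t ^ i = 1 := by
          rw [← zpow_add, ← two_mul, zpow_mul, zpow_ofNat, pow_two, htt, one_zpow]
        rw [ha₀a, h6, one_mul, ← zpow_add, ← two_mul] at h5
        exact h5.symm
      have h4 := orderOf_dvd_iff_zpow_eq_one.mpr h3
      rw [h2, pow_succ] at h4
      push_cast at h4
      rw [mul_comm (2 ^ k : ℤ)] at h4
      have h5 : (2 ^ k : ℤ) ∣ j := Int.dvd_of_mul_dvd_mul_left (by norm_num) h4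
      apply ha₀K
      rw [hae]
      refine Subgroup.mul_mem _ (Subgroup.zpow_mem _ (mem_sup_right htY) _) ?_
      obtain ⟨l, rfl⟩ := h5
      rw [zpow_mul]
      refine Subgroup.zpow_mem _ ?_ _
      have h6 : φ ^ (2 ^ k : ℤ) = φ ^ 2 ^ k := by
        rw [← zpow_natCast]; push_cast; rfl
      rw [h6]
      exact mem_sup_right (pr.sylR.le hφpow)
  have hA : Alpha (toSyl hST) E t φ k :=
    { pos := hk1
      leT := pr.leE
      elem := pr.bor.elem
      big := by rw [pr.bor.cardE]; exact hbig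
      norm := pr.norm_E
      tT := pr.leR htR
      t2 := ht2
      tc := htc
      tE := fun hh => ht1 (pr.inf htR hh)
      φT := hφS
      φk := hφk
      φd := fun j e he i hj => hφker j (by rw [hj]; exact hψV e he i)
      gen := hgen'
      trans := by
        intro e he he1 f hf hf1
        obtain ⟨x, hx, hxe⟩ := pr.trans he he1 hf hf1
        refine ⟨x, hxe, ?_, fun e he => pr.bor.norm x hx e he⟩
        rw [← htH x hx, mul_inv_cancel_right]
      field := by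
        intro x hx hne
        rw [pr.bor.cardE]
        rcases pr.l2.field E pr.sylE x (pr.sylS.le hx) (pr.norm_E x hx)
          (mem_of_pow_two pr.sylS.two hx) with h1 | h1
        · exfalso
          obtain ⟨y, hy, e, he, hye⟩ := h1
          have hxV : x ∈ R ⊔ E := pr.S_inf_KY hx (by
            rw [hye]
            exact Subgroup.mul_mem _ (mem_sup_right hy) (mem_sup_left (pr.sylE.le he)))
          obtain ⟨r, hr, e', he', hre⟩ := pr.mem_V.mp hxV
          rw [pr.comm r hr e' he'] at hre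
          rcases hor r hr with h2 | h2
          · exact hne e' he' 0 (by rw [hre, h2, zpow_zero])
          · exact hne e' he' 1 (by rw [hre, h2, zpow_one])
        · exact h1 }
  refine hA.false (commutator_eq_top h) ?_
  rintro x hx hne ⟨u, hu⟩ ⟨v, hv⟩
  have hxK : x ∉ K ⊔ centralizer (K : Set G) := by
    intro hh
    obtain ⟨r, hr, e', he', hre⟩ := pr.mem_V.mp (pr.S_inf_KY hx hh)
    rw [pr.comm r hr e' he'] at hre
    rcases hor r hr with h2 | h2
    · exact hne e' he' 0 (by rw [hre, h2, zpow_zero])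
    · exact hne e' he' 1 (by rw [hre, h2, zpow_one])
  have huM : u ∉ normalizer (K : Set G) := by
    intro huM
    apply hxK
    rw [← hu]
    exact mem_sup_right (normal_cent K u huM t htY)
  have h1 := (alpha h pr.l2 hTA huM (a := x) (by rw [← hu]; exact conj_mem_cj htY)
    (pr.sylS.le hx) (by rw [← hu, orderOf_conj, ht2]) hxK).2.2.1 t htY ht2 (htc x hx) v
  exact h1 hv

end Cfsg.Agent.OddCyclic.CaseATS
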