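import Cfsg.Agent.OddCyclic.CaseECovE
import Cfsg.Agent.OddCyclic.CompMain

/-!
# S0342, component type, case E: proper covers of `Sz(8)`

`caseE8`: the hypothesis `CaseE8` of the assembly `CompMain.false_of_cases`.
-/

set_option autoImplicit false

namespace Cfsg.Agent.OddCyclic.CaseECov

open Subgroup Cfsg
open Cfsg.Agent.OddCyclic.CompStandard Cfsg.Agent.OddCyclic.CompStart

universe u

variable {G : Type u} [Group G] [Finite G]

/-- **Case E, covers.** -/
theorem caseE8 [IsSimpleGroup G] (hcrit : Crit G)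
    (hSE : ¬ ∃ H : Subgroup G, IsStronglyEmbedded H) : CompMain.CaseE8 G := by
  rintro - K h hne ⟨F, i1, i2, hF, ⟨e⟩⟩
  obtain ⟨g, hg, hev⟩ := h.exists_even hcrit hSE
  exact CaseECovE.false_of_cover h hF e hne hg hev

end Cfsg.Agent.OddCyclic.CaseECov
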