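import Cfsg.Agent.StdSz.CoverC

/-!
# S0342, component type, case E: covers of Suzuki groups (the exceptional case `K / Z(K) ≅ Sz(8)`)

`Ext C T π`: `π : A → S` is a perfect central extension by a 2-group of a group with coordinates
(`StdSz.BorelCoord.Data`), `T` the unipotent subgroup. `Ext.quot`: the commutator form modulo suitable subgroups of the
kernel, from helper475's theorem `CoverA.Cov.main`.
-/

set_option autoImplicit false
set_option linter.unusedSectionVars false

namespace Cfsg.Agent.OddCyclic.CaseECovA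

open Subgroup
open scoped commutatorElement
open Cfsg.Agent.StdSz Cfsg.Agent.StdSz.BorelCoord Cfsg.Agent.StdSz.CoverA

variable {m : ℕ} {F : Type*} [Field F] {S : Type*} [Group S] {A : Type*} [Group A]

/-- a perfect central extension by a 2-group of a group with Suzuki coordinates -/
structure Ext (C : Data m F S) (T : Subgroup S) (π : A →* S) : Prop where
  surj : Function.Surjective π
  cen : ∀ x, π x = 1 → ∀ y, x * y = y * x
  two : ∀ x, π x = 1 → ∃ k : ℕ, x ^ 2 ^ k = 1
  memT : ∀ x, x ∈ T ↔ ∃ a b, x = C.p a b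
  isP : IsPGroup 2 T
  oddT : Odd T.index
  perf : commutator A = ⊤

variable {C : Data m F S} {T : Subgroup S} {π : A →* S}

/-- the commutator form modulo a suitable subgroup `N₁` of the kernel -/
theorem Ext.quot [Finite A] [Fintype F] [CharP F 2] (h : Ext C T π) (hm : 1 ≤ m)
    (hF : Fintype.card F = 2 ^ (2 * m + 1)) {I : Subgroup A} (hI : ∀ x ∈ I, π x = 1) {c : A}
    (hc : π c = 1) (hc2 : c * c = 1) (hcI : c ∉ I) :
    ∃ N₁ : Subgroup A, I ≤ N₁ ∧ (∀ x ∈ N₁, π x = 1) ∧ c ∉ N₁ ∧
      (∀ e e' : A, (∃ b, π e = C.p 0 b) → (∃ b, π e' = C.p 0 b) → ⁅e, e'⁆ ∈ N₁) ∧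
      ∀ x a b, π x = C.p a b → a ≠ 0 → ∃ e, (∃ b', π e = C.p 0 b') ∧ ⁅x, e⁆ ∉ N₁ := by
  classical
  -- a maximal subgroup
  obtain ⟨N, hNmem, hNmax⟩ := Set.exists_max_image
    {N : Subgroup A | I ≤ N ∧ (∀ x ∈ N, π x = 1) ∧ c ∉ N} (fun N => Nat.card N) (Set.toFinite _)
    ⟨I, le_rfl, hI, hcI⟩
  obtain ⟨hIN, hNπ, hcN⟩ := hNmem
  have hNn : N.Normal := ⟨fun n hn g => by
    rw [← h.cen n (hNπ n hn) g, mul_inv_cancel_right]; exact hn⟩
  let π₁ : A ⧸ N →* S := QuotientGroup.lift N π hNπ
  have hπ₁ : ∀ x : A, π₁ (QuotientGroup.mk' N x) = π x := fun x => rfl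
  have hmk : ∀ y : A ⧸ N, ∃ x : A, QuotientGroup.mk' N x = y := QuotientGroup.mk'_surjective N
  have hmk1 : ∀ x : A, QuotientGroup.mk' N x = 1 ↔ x ∈ N := fun x => by
    rw [← MonoidHom.mem_ker, QuotientGroup.ker_mk']
  have hsurj : Function.Surjective π₁ := fun s => by
    obtain ⟨x, rfl⟩ := h.surj s
    exact ⟨QuotientGroup.mk' N x, rfl⟩
  let P : Subgroup (A ⧸ N) := T.comap π₁
  have hP : ∀ x, x ∈ P ↔ π₁ x ∈ T := fun x => Iff.rfl
  have hTnorm : ∀ (l : Fˣ) (x : S), x ∈ T → C.h l * x * (C.h l)⁻¹ ∈ T := by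
    intro l x hx
    obtain ⟨a, b, rfl⟩ := (h.memT x).1 hx
    rw [C.h_p]
    exact (h.memT _).2 ⟨_, _, rfl⟩
  have hcov : Cov C π₁ P (QuotientGroup.mk' N c) :=
    { cen := by
        intro x hx y
        obtain ⟨x, rfl⟩ := hmk x
        obtain ⟨y, rfl⟩ := hmk y
        rw [← map_mul, ← map_mul, h.cen x hx y]
      to_p := fun x hx => (h.memT _).1 hx
      from_p := by
        intro a b
        obtain ⟨x, hx⟩ := hsurj (C.p a b)
        exact ⟨x, by rw [hP, hx]; exact (h.memT _).2 ⟨a, b, rfl⟩, hx⟩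
      tor := fun l => hsurj _
      tor_P := by
        intro g l hg x hx
        rw [hP, map_mul, map_mul, map_inv, hg]
        exact hTnorm l _ hx
      t_mem := by rw [hP, hπ₁, hc]; exact one_mem T
      t_one := fun h1 => hcN ((hmk1 c).1 h1)
      t_sq := by rw [← map_mul, hc2, map_one]
      t_ker := by rw [hπ₁, hc]
      uniq := by
        intro x _ hx1 hx2
        obtain ⟨x, rfl⟩ := hmk x
        rw [hπ₁] at hx1
        rw [← map_mul, hmk1] at hx2
        by_cases hxN : x ∈ N
        · exact Or.inl ((hmk1 x).2 hxN)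
        right
        -- `N ⟨x⟩` contains `c`
        set L : Subgroup A := N ⊔ zpowers x with hL
        have hLmem : ∀ y ∈ L, y ∈ N ∨ x⁻¹ * y ∈ N := by
          intro y hy
          rw [hL, ← SetLike.mem_coe, Subgroup.normal_mul] at hy
          obtain ⟨n, hn, _, ⟨i, rfl⟩, rfl⟩ := hy
          rcases Int.even_or_odd' i with ⟨j, rfl | rfl⟩
          · left
            refine N.mul_mem hn ?_
            have : x ^ (2 * j) = (x * x) ^ j := by
              rw [zpow_mul]; congr 1; rw [zpow_ofNat, sq]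
            simp only [this]
            exact N.zpow_mem hx2 j
          · right
            have e1 : x ^ (2 * j + 1) = (x * x) ^ j * x := by
              rw [zpow_add, zpow_one, zpow_mul]; congr 2; rw [zpow_ofNat, sq]
            simp only [e1]
            have e2 : x⁻¹ * (n * ((x * x) ^ j * x)) = x⁻¹ * (n * (x * x) ^ j) * x⁻¹⁻¹ := by group
            rw [e2]
            exact hNn.conj_mem _ (N.mul_mem hn (N.zpow_mem hx2 j)) _
        have hcL : c ∈ L := by
          by_contra hcL
          have h1 := hNmax L ⟨hIN.trans le_sup_left, fun y hy => by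
            rcases hLmem y hy with h2 | h2
            · exact hNπ y h2
            · have h3 := hNπ _ h2
              rw [map_mul, map_inv, hx1, inv_one, one_mul] at h3
              exact h3, hcL⟩
          have h2 : N = L := Subgroup.eq_of_le_of_card_ge le_sup_left h1
          exact hxN (by rw [h2]; exact Subgroup.mem_sup_right (mem_zpowers x))
        rcases hLmem c hcL with h1 | h1
        · exact absurd h1 hcN
        · have h2 := (hmk1 _).2 h1
          rw [map_mul, map_inv, inv_mul_eq_one] at h2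
          exact h2 }
  have hodd : Odd P.index := by
    have : P.index = T.index := Subgroup.index_comap_of_surjective _ hsurj
    rw [this]; exact h.oddT
  have hperf : commutator (A ⧸ N) = ⊤ := by
    have h1 := Subgroup.map_commutator (⊤ : Subgroup A) ⊤ (QuotientGroup.mk' N)
    rw [← commutator_def, h.perf, Subgroup.map_top_of_surjective _ (QuotientGroup.mk'_surjective N)]
      at h1
    exact h1.symm
  have hcom : (⟨QuotientGroup.mk' N c, hcov.t_mem⟩ : P) ∈ commutator P :=
    mem_commutator_of_central P hodd _ hcov.t_mem (fun g => hcov.cen _ hcov.t_ker g) hcov.t_sq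
      (by rw [hperf]; exact Subgroup.mem_top _)
  obtain ⟨zh, Z, -, hleft, -⟩ := hcov.main hm hF hcom
  refine ⟨N, hIN, hNπ, hcN, ?_, ?_⟩
  · rintro e e' ⟨b, hb⟩ ⟨b', hb'⟩
    have h1 := hcov.comm_z hm hF (x := QuotientGroup.mk' N e) (y := QuotientGroup.mk' N e')
      (b := b) (c := b') (by rw [hP, hπ₁, hb]; exact (h.memT _).2 ⟨0, b, rfl⟩)
      (by rw [hP, hπ₁, hb']; exact (h.memT _).2 ⟨0, b', rfl⟩) (by rw [hπ₁, hb]) (by rw [hπ₁, hb'])
    rw [← hmk1, map_commutatorElement]
    exact h1
  · intro x a b hx ha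
    obtain ⟨b', hb'⟩ := hleft (QuotientGroup.mk' N x)
      (by rw [hP, hπ₁, hx]; exact (h.memT _).2 ⟨a, b, rfl⟩) a b (by rw [hπ₁, hx]) ha
    obtain ⟨e, he⟩ := hmk (zh b')
    refine ⟨e, ⟨b', ?_⟩, ?_⟩
    · rw [← hπ₁, he, Z.pi]
    · rw [← hmk1, map_commutatorElement, he, hb']
      exact hcov.t_one

end Cfsg.Agent.OddCyclic.CaseECovA
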