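import Cfsg.Agent.OddCyclic.CaseECovA
import Cfsg.Agent.OddCyclic.CaseESz
import Cfsg.Agent.StdSz.CoverD

/-!
# S0342, case E, covers: the coordinates of `Sz(q)` and the commutator form of the cover

`SFacts`: facts on `Sz(q)` in the coordinates of `StdSz.BorelCoord`. `Ext.comm_E`, `Ext.exists_ne`,
`Ext.false_of_eight` (at least three central involutions, `q = 8`), `Ext.alpha` (one central involution).
-/

set_option autoImplicit false
set_option linter.unusedSectionVars false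

namespace Cfsg.Agent.OddCyclic.CaseECovB

open Subgroup
open scoped commutatorElement
open Cfsg.Agent.StdSz Cfsg.Agent.StdSz.BorelCoord Cfsg.Agent.StdSz.CoverA
open Cfsg.Agent.OddCyclic.CaseECovA
open Cfsg.Agent.LieRecognition Cfsg.Agent.ThreePrime Cfsg.Agent.OddCyclic

/-- facts on a group with Suzuki coordinates -/
structure SFacts {m : ℕ} {F : Type*} [Field F] {S : Type*} [Group S] (C : Data m F S)
    (T : Subgroup S) (q : ℕ) : Prop where
  memT : ∀ x, x ∈ T ↔ ∃ a b, x = C.p a b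
  two : IsPGroup 2 T
  odd : Odd T.index
  cent : ∀ s b, b ≠ 0 → s * C.p 0 b = C.p 0 b * s → s ∈ T
  conj : ∀ s, s * s = 1 → ∃ g b, g * s * g⁻¹ = C.p 0 b
  comm : ∀ a b c d, a ≠ 0 → C.p a b * C.p c d = C.p c d * C.p a b → c = 0 ∨ c = a
  root : ∀ b, ∃ a, C.p a 0 * C.p a 0 = C.p 0 b
  cardT : Nat.card T = q ^ 2

section rel

variable {J : Type*} [Group J] {F : Type*} [Field F] (R : SzRel.Rel J F)

theorem cent_T {x k : J} (hx : x ∈ R.T) (hx1 : x ≠ 1) (h : k * x = x * k) : k ∈ R.T := by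
  have h1 : k * x * k⁻¹ = x := by rw [h, mul_inv_cancel_right]
  obtain ⟨a, b, l, hkl⟩ := R.exists_ud hx hx1 (by rw [h1]; exact hx)
  rw [hkl] at h1
  have hl : l = 1 := by
    obtain ⟨c, e, rfl⟩ := hx
    have h2 : R.u a b * R.d l * R.u c e * (R.u a b * R.d l)⁻¹ =
        R.u a b * (R.d l * R.u c e * (R.d l)⁻¹) * (R.u a b)⁻¹ := by group
    rw [h2, R.conj_d, R.conj_u] at h1
    obtain ⟨h3, h4⟩ := R.u_inj h1
    rcases R.fpf (k := l) (a := c) (b := 0) (by rw [R.conj_d, h3, zero_mul]) with h5 | h5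
    · exact h5
    · have hc := h5.1
      rw [hc, zero_mul, zero_mul, map_zero, mul_zero, zero_mul, add_zero, add_zero] at h4
      rcases R.fpf (k := l) (a := 0) (b := e) (by
        rw [R.conj_d, zero_mul, zero_mul, h4]) with h6 | h6
      · exact h6
      · exfalso
        apply hx1
        rw [hc, h6.2, R.u_zero]
  rw [hkl, hl, R.d_one, mul_one]
  exact R.u_mem a b

theorem eq_of_comm {a b c e : F} (ha : a ≠ 0) (h : R.u c e * R.u a b = R.u a b * R.u c e) :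
    c = 0 ∨ c = a := by
  rw [R.comm_iff] at h
  have ht : R.θ a ≠ 0 := fun h' => ha ((map_eq_zero R.θ).mp h')
  have h3 : R.θ (c / a) = c / a := by
    rw [map_div₀, div_eq_div_iff ht ha]
    linear_combination -h
  rcases R.fix_theta h3 with h4 | h4
  · left
    exact (div_eq_zero_iff.mp h4).resolve_right ha
  · right
    exact (div_eq_one_iff_eq ha).mp h4

end rel

/-- the facts hold for `Sz(q)` -/
theorem szFacts {F : Type*} [Field F] [Fintype F] {m : ℕ} (hm : 1 ≤ m)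
    (hF : Fintype.card F = 2 ^ (2 * m + 1)) :
    SFacts (szData hF) (SzRel.ofGood (SzMatrix.good hF)).T (Fintype.card F) := by
  have : Fact (Nat.Prime 2) := ⟨Nat.prime_two⟩
  haveI := EquivMaps.charP_two hF
  set C : Data m F ↥(Cfsg.Lie.Sz F (2 ^ (m + 1))) := szData hF with hC
  set R : SzRel.Rel ↥(Cfsg.Lie.Sz F (2 ^ (m + 1))) F := SzRel.ofGood (SzMatrix.good hF) with hR
  have hp : ∀ a b, C.p a b = R.u a (b + a * SzMatrix.theta hF a) := fun a b => rfl
  have hp0 : ∀ b, C.p 0 b = R.u 0 b := fun b => by rw [hp, zero_mul, add_zero]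
  have hu : ∀ a b, R.u a b = C.p a (b + a * SzMatrix.theta hF a) := by
    intro a b
    rw [hp, add_assoc, CharTwo.add_self_eq_zero, add_zero]
  have hT0 : ∀ x, x ∈ R.T ↔ ∃ a b, x = C.p a b := by
    intro x
    constructor
    · rintro ⟨a, b, rfl⟩
      exact ⟨a, _, hu a b⟩
    · rintro ⟨a, b, rfl⟩
      exact ⟨a, _, hp a b⟩
  obtain ⟨Sy, hSy⟩ := R.exists_sylow_eq hm hF
  refine ⟨hT0, R.isPGroup, ?_, ?_, ?_, ?_, ?_, ?_⟩
  · rw [← hSy, ← Nat.not_even_iff_odd, even_iff_two_dvd]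
    exact Sy.not_dvd_index
  · intro s b hb h
    rw [hp0] at h
    exact cent_T R (R.u_mem 0 b) (R.u_ne_one hb) h
  · intro s hs
    have h1 : IsPGroup 2 (zpowers s) := CoverB.isPGroup_zpowers (k := 1) (by rw [pow_one, sq, hs])
    obtain ⟨P, hP⟩ := h1.exists_le_sylow
    obtain ⟨g, hg⟩ := MulAction.exists_smul_eq ↥(Cfsg.Lie.Sz F (2 ^ (m + 1))) P Sy
    have h2 : g * s * g⁻¹ ∈ R.T := by
      rw [← hSy, ← hg]
      rw [Sylow.coe_subgroup_smul]
      exact Subgroup.smul_mem_pointwise_smul _ _ _ (hP (mem_zpowers s))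
    obtain ⟨a, b, hab⟩ := h2
    have h3 : R.u a b * R.u a b = 1 := by
      rw [← hab]
      calc g * s * g⁻¹ * (g * s * g⁻¹) = g * (s * s) * g⁻¹ := by group
        _ = 1 := by rw [hs]; group
    rw [R.u_sq_iff] at h3
    exact ⟨g, b, by rw [hab, h3, hp0]⟩
  · intro a b c d ha h
    rw [hp, hp] at h
    exact eq_of_comm R ha h.symm
  · intro b
    by_cases hb : b = 0
    · refine ⟨0, ?_⟩
      rw [C.p_sq, hb]
      congr 1
      exact zero_pow (by positivity)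
    · obtain ⟨k, hk⟩ := R.exists_mul_theta (Units.mk0 b hb)
      refine ⟨k, ?_⟩
      rw [hp, R.u_mul_self, hk, hp0, Units.val_mk0]
  · rw [T1SzFacts.card_T, Nat.card_eq_fintype_card]

variable {m : ℕ} {F : Type*} [Field F] [Fintype F] [CharP F 2] {S : Type*} [Group S] {A : Type*}
  [Group A] [Finite A] {C : Data m F S} {T : Subgroup S} {π : A →* S}

omit [Fintype F] [Finite A] in
theorem comm_ker (h : Ext C T π) {x y x' y' : A} (hx : π x = π x') (hy : π y = π y') :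
    ⁅x, y⁆ = ⁅x', y'⁆ := by
  have hkx : π (x * x'⁻¹) = 1 := by rw [map_mul, map_inv, hx, mul_inv_cancel]
  have hky : π (y * y'⁻¹) = 1 := by rw [map_mul, map_inv, hy, mul_inv_cancel]
  obtain ⟨n, hn⟩ : ∃ n, n = x * x'⁻¹ := ⟨_, rfl⟩
  obtain ⟨k, hk⟩ : ∃ k, k = y * y'⁻¹ := ⟨_, rfl⟩
  have ex : x = n * x' := by rw [hn]; group
  have ey : y = k * y' := by rw [hk]; group
  have cn : ∀ z, n * z = z * n := h.cen n (by rw [hn, hkx])
  have ck : ∀ z, k * z = z * k := h.cen k (by rw [hk, hky])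
  rw [ex, ey, commutatorElement_def, commutatorElement_def]
  calc n * x' * (k * y') * (n * x')⁻¹ * (k * y')⁻¹
      = n * x' * (k * y') * x'⁻¹ * (n⁻¹ * (y'⁻¹ * k⁻¹)) := by group
    _ = n * (x' * k) * y' * x'⁻¹ * (n⁻¹ * (y'⁻¹ * k⁻¹)) := by group
    _ = n * (k * x') * y' * x'⁻¹ * (n⁻¹ * (y'⁻¹ * k⁻¹)) := by rw [ck x']
    _ = n * (k * (x' * y' * x'⁻¹ * (n⁻¹ * y'⁻¹))) * k⁻¹ := by group
    _ = n * ((x' * y' * x'⁻¹ * (n⁻¹ * y'⁻¹)) * k) * k⁻¹ := by rw [ck]
    _ = (n * (x' * y' * x'⁻¹)) * n⁻¹ * y'⁻¹ := by group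
    _ = ((x' * y' * x'⁻¹) * n) * n⁻¹ * y'⁻¹ := by rw [cn]
    _ = x' * y' * x'⁻¹ * y'⁻¹ := by group

omit [Fintype F] [Finite A] in
theorem comm_mul_left (h : Ext C T π) {x y e : A} (hy : π ⁅y, e⁆ = 1) :
    ⁅x * y, e⁆ = ⁅x, e⁆ * ⁅y, e⁆ := by
  have h1 : ⁅x * y, e⁆ = x * ⁅y, e⁆ * x⁻¹ * ⁅x, e⁆ := by
    simp only [commutatorElement_def]; group
  rw [h1, ← h.cen _ hy x, mul_inv_cancel_right, h.cen _ hy]

omit [Fintype F] [Finite A] in
theorem comm_mul_right (h : Ext C T π) {x e e' : A} (hy : π ⁅x, e'⁆ = 1) :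
    ⁅x, e * e'⁆ = ⁅x, e⁆ * ⁅x, e'⁆ := by
  have h1 : ⁅x, e * e'⁆ = ⁅x, e⁆ * (e * ⁅x, e'⁆ * e⁻¹) := by
    simp only [commutatorElement_def]; group
  rw [h1, ← h.cen _ hy e, mul_inv_cancel_right]

omit [Fintype F] [Finite A] in
theorem pi_comm {x e : A} {a b c : F} (hx : π x = C.p a b) (he : π e = C.p 0 c) :
    π ⁅x, e⁆ = 1 := by
  rw [map_commutatorElement, hx, he, commutatorElement_eq_one_iff_mul_comm, C.comm_zero]

omit [Fintype F] [Finite A] in
theorem comm_sq (h : Ext C T π) {x e : A} {a b c : F} (hx : π x = C.p a b) (he : π e = C.p 0 c) :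
    ⁅x, e⁆ * ⁅x, e⁆ = 1 := by
  rw [← comm_mul_right h (pi_comm hx he)]
  have h1 : π (e * e) = 1 := by
    rw [map_mul, he, C.p_sq, zero_pow (by positivity), C.p_zero]
  rw [commutatorElement_eq_one_iff_mul_comm]
  exact (h.cen _ h1 x).symm

/-- `E^` is abelian -/
theorem comm_E (h : Ext C T π) (hm : 1 ≤ m) (hF : Fintype.card F = 2 ^ (2 * m + 1)) {e e' : A}
    {b b' : F} (he : π e = C.p 0 b) (he' : π e' = C.p 0 b') : ⁅e, e'⁆ = 1 := by
  by_contra hne
  obtain ⟨N, -, -, hcN, h1, -⟩ := h.quot hm hF (I := ⊥) (fun x hx => by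
    rw [Subgroup.mem_bot] at hx; rw [hx, map_one]) (pi_comm he he') (comm_sq h he he')
    (by rw [Subgroup.mem_bot]; exact hne)
  exact hcN (h1 e e' ⟨b, he⟩ ⟨b', he'⟩)

/-- elements outside `E^` act nontrivially on `E^` -/
theorem exists_ne (h : Ext C T π) (hm : 1 ≤ m) (hF : Fintype.card F = 2 ^ (2 * m + 1)) {c : A}
    (hc : π c = 1) (hc2 : c * c = 1) (hc1 : c ≠ 1) {x : A} {a b : F} (hx : π x = C.p a b)
    (ha : a ≠ 0) : ∃ e, (∃ b', π e = C.p 0 b') ∧ ⁅x, e⁆ ≠ 1 := by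
  obtain ⟨N, -, -, -, -, h1⟩ := h.quot hm hF (I := ⊥) (fun x hx => by
    rw [Subgroup.mem_bot] at hx; rw [hx, map_one]) hc hc2 (by rw [Subgroup.mem_bot]; exact hc1)
  obtain ⟨e, he, hne⟩ := h1 x a b hx ha
  exact ⟨e, he, fun h2 => hne (by rw [h2]; exact one_mem N)⟩

/-- `q = 8` and at least three central involutions: an element outside `E^` commutes with at most one coset
`≠ Z` of `Z` in `E^`. -/
theorem false_of_eight (h : Ext C T π) (hm : 1 ≤ m) (hF : Fintype.card F = 2 ^ (2 * m + 1))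
    (h8 : Fintype.card F = 8) {c c' : A} (hc : π c = 1) (hc2 : c * c = 1) (hc1 : c ≠ 1)
    (hc' : π c' = 1) (hc2' : c' * c' = 1) (hc1' : c' ≠ 1) (hcc : c ≠ c') {x : A} {a b : F}
    (hx : π x = C.p a b) (ha : a ≠ 0) {e e' : A} {b₁ b₂ : F} (he : π e = C.p 0 b₁)
    (he' : π e' = C.p 0 b₂) (hb₁ : b₁ ≠ 0) (hb₂ : b₂ ≠ 0) (hb : b₁ ≠ b₂) (hxe : ⁅x, e⁆ = 1)
    (hxe' : ⁅x, e'⁆ = 1) : False := by
  classical
  choose l hl using fun b => h.surj (C.p 0 b)
  have hadd : ∀ u v, ⁅x, l (u + v)⁆ = ⁅x, l u⁆ * ⁅x, l v⁆ := by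
    intro u v
    rw [← comm_mul_right h (pi_comm hx (hl v))]
    exact comm_ker h rfl (by rw [map_mul, hl, hl, hl, C.p_zero_mul])
  have hval : ∀ (w : A) (u : F), π w = C.p 0 u → ⁅x, w⁆ = ⁅x, l u⁆ := fun w u hw =>
    comm_ker h rfl (by rw [hw, hl])
  have hsq : ∀ u, ⁅x, l u⁆ * ⁅x, l u⁆ = 1 := fun u => comm_sq h hx (hl u)
  have h1 : ⁅x, l b₁⁆ = 1 := by rw [← hval e b₁ he, hxe]
  have h2 : ⁅x, l b₂⁆ = 1 := by rw [← hval e' b₂ he', hxe']
  -- the values
  have key : ∀ u v, ⁅x, l u⁆ ≠ 1 → ⁅x, l v⁆ ≠ 1 → ⁅x, l u⁆ = ⁅x, l v⁆ := by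
    intro u v hu hv
    by_contra hne
    -- the four cosets of `{0, b₁, b₂, b₁ + b₂}` containing `0, u, v, u + v`
    have hinj : Function.Injective (fun i : Fin 3 × Bool × Bool =>
        (if i.1 = 0 then 0 else if i.1 = 1 then u else v) + (if i.2.1 then b₁ else 0) +
          (if i.2.2 then b₂ else 0)) := by
      have hc3 : ∀ w : F, ∀ i j : Bool, ⁅x, l (w + (if i then b₁ else 0) +
          (if j then b₂ else 0))⁆ = ⁅x, l w⁆ := by
        intro w i j
        have h0 : ⁅x, l 0⁆ = 1 := by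
          have := hadd 0 0
          rw [add_zero] at this
          exact mul_eq_left.mp this.symm
        rw [hadd, hadd]
        have e1 : ⁅x, l (if i then b₁ else 0)⁆ = 1 := by
          cases i
          · simpa using h0
          · simpa using h1
        have e2 : ⁅x, l (if j then b₂ else 0)⁆ = 1 := by
          cases j
          · simpa using h0
          · simpa using h2
        rw [e1, e2, mul_one, mul_one]
      rintro ⟨i, i₁, i₂⟩ ⟨j, j₁, j₂⟩ hij
      simp only at hij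
      have h3 := congrArg (fun w => ⁅x, l w⁆) hij
      simp only [hc3] at h3
      have h0 : ⁅x, l 0⁆ = 1 := by
        have := hadd 0 0
        rw [add_zero] at this
        exact mul_eq_left.mp this.symm
      have hij1 : i = j := by
        fin_cases i <;> fin_cases j <;>
          simp_all [Ne.symm hne, eq_comm]
      subst hij1
      have h4 : (if i₁ then b₁ else 0) + (if i₂ then b₂ else 0) =
          (if j₁ then b₁ else 0) + (if j₂ then b₂ else 0) := by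
        rw [add_assoc, add_assoc] at hij
        exact add_left_cancel hij
      have h5 : i₁ = j₁ ∧ i₂ = j₂ := by
        have hb12 : b₁ + b₂ ≠ 0 := fun h => hb (CharTwo.add_eq_zero.mp h)
        revert h4
        cases i₁ <;> cases i₂ <;> cases j₁ <;> cases j₂ <;>
          simp [hb₁, hb₂, hb, Ne.symm hb, hb12, Ne.symm hb₁, Ne.symm hb₂, Ne.symm hb12]
      rw [h5.1, h5.2]
    have h6 := Fintype.card_le_of_injective _ hinj
    rw [h8] at h6
    simp at h6
  -- an involution outside the image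
  obtain ⟨d, hd, hd2, hd1, hdn⟩ : ∃ d, π d = 1 ∧ d * d = 1 ∧ d ≠ 1 ∧ ∀ u, ⁅x, l u⁆ ≠ d := by
    by_cases h3 : ∃ u, ⁅x, l u⁆ = c
    · refine ⟨c', hc', hc2', hc1', fun v hv => hcc ?_⟩
      obtain ⟨u, hu⟩ := h3
      rw [← hu, ← hv]
      exact key u v (by rw [hu]; exact hc1) (by rw [hv]; exact hc1')
    · push Not at h3
      exact ⟨c, hc, hc2, hc1, h3⟩
  -- the image is contained in a subgroup `I` without `d`
  let I : Subgroup A :=
    { carrier := {y | ∃ u, y = ⁅x, l u⁆}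
      mul_mem' := by
        rintro _ _ ⟨u, rfl⟩ ⟨v, rfl⟩
        exact ⟨u + v, (hadd u v).symm⟩
      one_mem' := ⟨b₁, h1.symm⟩
      inv_mem' := by
        rintro _ ⟨u, rfl⟩
        exact ⟨u, inv_eq_of_mul_eq_one_right (hsq u)⟩ }
  obtain ⟨N, hIN, -, -, -, h5⟩ := h.quot hm hF (I := I) (by
    rintro _ ⟨u, rfl⟩
    exact pi_comm hx (hl u)) hd hd2 (by rintro ⟨u, hu⟩; exact hdn u hu.symm)
  obtain ⟨w, ⟨b', hw⟩, hwN⟩ := h5 x a b hx ha
  exact hwN (hIN ⟨b', hval w b' hw⟩)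

/-- one central involution `z` -/
structure Alpha (C : Data m F S) (π : A →* S) (z : A) : Prop where
  val : ∀ x e a b c, π x = C.p a b → π e = C.p 0 c → ⁅x, e⁆ = 1 ∨ ⁅x, e⁆ = z
  right : ∀ e c, π e = C.p 0 c → c ≠ 0 → ∃ x a b, π x = C.p a b ∧ ⁅x, e⁆ = z
  /-- `C_E(C_Q(k)) = Z ∪ Zk` -/
  two : ∀ e k c c', π e = C.p 0 c → π k = C.p 0 c' → c' ≠ 0 →
    (∀ x a b, π x = C.p a b → ⁅x, k⁆ = 1 → ⁅x, e⁆ = 1) → c = 0 ∨ c = c'

theorem alpha (h : Ext C T π) (hm : 1 ≤ m) (hF : Fintype.card F = 2 ^ (2 * m + 1)) {z : A}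
    (hz : π z = 1) (hz2 : z * z = 1) (hz1 : z ≠ 1) (hu : ∀ x, π x = 1 → x * x = 1 → x = 1 ∨ x = z) :
    Alpha C π z := by
  let P : Subgroup A := T.comap π
  have hP : ∀ x, x ∈ P ↔ π x ∈ T := fun x => Iff.rfl
  have hcov : Cov C π P z :=
    { cen := h.cen
      to_p := fun x hx => (h.memT _).1 hx
      from_p := by
        intro a b
        obtain ⟨x, hx⟩ := h.surj (C.p a b)
        exact ⟨x, by rw [hP, hx]; exact (h.memT _).2 ⟨a, b, rfl⟩, hx⟩
      tor := fun l => h.surj _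
      tor_P := by
        intro g l hg x hx
        rw [hP, map_mul, map_mul, map_inv, hg]
        obtain ⟨a, b, hab⟩ := (h.memT _).1 hx
        rw [hab, C.h_p]
        exact (h.memT _).2 ⟨_, _, rfl⟩
      t_mem := by rw [hP, hz]; exact one_mem T
      t_one := hz1
      t_sq := hz2
      t_ker := hz
      uniq := fun x _ hx1 hx2 => hu x hx1 hx2 }
  have hodd : Odd P.index := by
    have : P.index = T.index := Subgroup.index_comap_of_surjective _ h.surj
    rw [this]; exact h.oddT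
  have hcom : (⟨z, hcov.t_mem⟩ : P) ∈ commutator P :=
    mem_commutator_of_central P hodd _ hcov.t_mem (fun g => hcov.cen _ hcov.t_ker g) hcov.t_sq
      (by rw [h.perf]; exact Subgroup.mem_top _)
  obtain ⟨zh, Z, hval, hleft, hright⟩ := hcov.main hm hF hcom
  have hmem : ∀ x a b, π x = C.p a b → x ∈ P := fun x a b hx => by
    rw [hP, hx]; exact (h.memT _).2 ⟨a, b, rfl⟩
  have hR : ∀ e c, π e = C.p 0 c → c ≠ 0 → ∃ x a b, π x = C.p a b ∧ ⁅x, e⁆ = z := by
    intro e c he hc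
    obtain ⟨x, hx, hxz⟩ := hright c hc
    obtain ⟨a, b, hab⟩ := hcov.to_p x hx
    exact ⟨x, a, b, hab, by rw [← hxz]; exact comm_ker h rfl (by rw [he, Z.pi])⟩
  have hV : ∀ x e a b c, π x = C.p a b → π e = C.p 0 c → ⁅x, e⁆ = 1 ∨ ⁅x, e⁆ = z := by
    intro x e a b c hx he
    have h1 := hval x (hmem x a b hx) c
    rwa [comm_ker h (x' := x) (y' := zh c) (x := x) (y := e) rfl (by rw [he, Z.pi])]
  refine ⟨hV, hR, ?_⟩
  intro e k c c' he hk hc' hall
  by_contra hcon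
  push Not at hcon
  obtain ⟨hc, hcc⟩ := hcon
  obtain ⟨x₁, a₁, b₁, hx₁, h1⟩ := hR e c he hc
  have h2 : ⁅x₁, k⁆ = z := by
    rcases hV x₁ k a₁ b₁ c' hx₁ hk with h3 | h3
    · have := hall x₁ a₁ b₁ hx₁ h3
      rw [h1] at this
      exact absurd this hz1
    · exact h3
  -- `[x, e] = [x, k]` for all `x`
  have h3 : ∀ x a b, π x = C.p a b → ⁅x, e⁆ = ⁅x, k⁆ := by
    intro x a b hx
    rcases hV x k a b c' hx hk with h4 | h4
    · rw [h4, hall x a b hx h4]
    · -- `x = x₁ (x₁⁻¹ x)`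
      obtain ⟨y, hy⟩ : ∃ y, y = x₁⁻¹ * x := ⟨_, rfl⟩
      have hxy : x = x₁ * y := by rw [hy]; group
      obtain ⟨a', b', hy'⟩ : ∃ a' b', π y = C.p a' b' := by
        apply (h.memT _).1
        rw [hy, map_mul, map_inv]
        exact mul_mem (inv_mem ((h.memT _).2 ⟨a₁, b₁, hx₁⟩)) ((h.memT _).2 ⟨a, b, hx⟩)
      have h5 : ⁅y, k⁆ = 1 := by
        have h6 := comm_mul_left h (x := x₁) (pi_comm hy' hk)
        rw [← hxy, h4, h2] at h6
        exact (mul_eq_left.mp h6.symm)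
      have h7 := comm_mul_left h (x := x₁) (pi_comm hy' he)
      rw [← hxy, h1, hall y a' b' hy' h5, mul_one] at h7
      rw [h7, h4]
  have he' : π (e * k) = C.p 0 (c + c') := by rw [map_mul, he, hk, C.p_zero_mul]
  have hne : c + c' ≠ 0 := fun h0 => hcc (CharTwo.add_eq_zero.mp h0)
  obtain ⟨x, a, b, hx, hxz⟩ := hR (e * k) _ he' hne
  have h8 := comm_mul_right h (e := e) (pi_comm hx hk)
  rw [h3 x a b hx, comm_sq h hx hk, hxz] at h8
  exact hz1 h8

end Cfsg.Agent.OddCyclic.CaseECovB
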