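import Cfsg.Agent.OddCyclic.CaseABase

/-!
# S0342, component type, case E, covers: the group `G`

`K` a standard component of `G` with `Z(K) ≠ 1`, `K / Z(K) ≅ Sz(q)`. `CQ K Q E q`: the facts on `K`; `Q` a Sylow
2-subgroup of `K`, `E / Z(K) = Z(Q / Z(K))`. `setup`: a conjugate `g z g⁻¹ = k c`, `k ∈ E`, `c ∈ C(K)` of a central
involution `z` of `K`. `false_of_beta`: `Z(K)` contains only one involution (`q = 8`).
-/

set_option autoImplicit false

namespace Cfsg.Agent.OddCyclic.CaseECovC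

open Subgroup
open scoped commutatorElement
open Cfsg.Agent.LieExceptional.CITDefs
open Cfsg.Agent.OddCyclic.CompStandard Cfsg.Agent.OddCyclic.CaseABase

variable {G : Type*} [Group G]

/-- facts on a cover `K` of `Sz(q)`; `Q`, `E` are the preimages of a Sylow 2-subgroup and its centre -/
structure CQ (K Q E : Subgroup G) (q : ℕ) : Prop where
  leK : Q ≤ K
  leQ : E ≤ Q
  two : IsPGroup 2 Q
  cenE : ∀ x ∈ K, x ∈ centralizer (K : Set G) → x ∈ E
  cent : ∀ x ∈ K, ∀ e ∈ E, e ∉ centralizer (K : Set G) → ⁅x, e⁆ ∈ centralizer (K : Set G) → x ∈ Q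
  sqE : ∀ x ∈ Q, (x ∈ E ↔ x * x ∈ centralizer (K : Set G))
  comE : ∀ e ∈ E, ∀ e' ∈ E, e * e' = e' * e
  comQ : ∀ x ∈ Q, ∀ e ∈ E, ⁅x, e⁆ ∈ centralizer (K : Set G)
  root : ∀ e ∈ E, ∃ x ∈ Q, e⁻¹ * (x * x) ∈ centralizer (K : Set G)
  out : ∀ x ∈ Q, (∀ e ∈ E, x * e = e * x) → x ∈ E
  big : ∀ a ∈ Q, a ∉ E → ∀ x ∈ Q, ⁅a, x⁆ ∈ centralizer (K : Set G) → x ∈ E ∨ a⁻¹ * x ∈ E
  conj : ∀ k ∈ K, k * k ∈ centralizer (K : Set G) → ∃ g ∈ K, g * k * g⁻¹ ∈ E
  cardE : Nat.card E = q * Nat.card (K ⊓ centralizer (K : Set G) : Subgroup G)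
  cardQ : Nat.card Q = q ^ 2 * Nat.card (K ⊓ centralizer (K : Set G) : Subgroup G)
  inner : ∀ x ∈ normalizer (K : Set G), (∃ n : ℕ, x ^ 2 ^ n = 1) →
    ∃ k ∈ K, ∃ c ∈ centralizer (K : Set G), x = k * c

/-- `|Z(K)|` has at least three involutions: an element outside `E` commutes with at most one coset `≠ Z` of `E` -/
def CBeta (K Q E : Subgroup G) : Prop :=
  ∀ x ∈ Q, x ∉ E → ∀ e ∈ E, ∀ e' ∈ E, e ∉ centralizer (K : Set G) → e' ∉ centralizer (K : Set G) →
    e⁻¹ * e' ∉ centralizer (K : Set G) → x * e = e * x → x * e' = e' * x → False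

section

variable [Finite G] {p q : ℕ} {K Q E : Subgroup G}

omit [Finite G] in
theorem CQ.cen_two (cq : CQ K Q E q) {x : G} (hK : x ∈ K) (hC : x ∈ centralizer (K : Set G)) :
    ∃ n : ℕ, x ^ 2 ^ n = 1 := mem_of_pow_two cq.two (cq.leQ (cq.cenE x hK hC))

omit [Finite G] in
theorem cen_comm {K : Subgroup G} {x y : G} (hK : x ∈ K) (hC : x ∈ centralizer (K : Set G))
    (hy : ∃ k ∈ K, ∃ c ∈ centralizer (K : Set G), y = k * c) : x * y = y * x := by
  obtain ⟨k, hk, c, hc, rfl⟩ := hy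
  have h1 := centralizer_comm hC hk
  have h2 := centralizer_comm hc hK
  calc x * (k * c) = (k * x) * c := by rw [h1]; group
    _ = k * (c * x) := by rw [mul_assoc, h2]
    _ = k * c * x := by group

/-- a conjugate of a central involution of `K` -/
theorem setup (h : Std p K) (cq : CQ K Q E q) {z : G} (hzK : z ∈ K)
    (hzC : z ∈ centralizer (K : Set G)) (hz2 : orderOf z = 2) {g : G}
    (hg : g ∉ normalizer (K : Set G))
    (hev : Even (Nat.card (cj g (centralizer (K : Set G)) ⊓ normalizer (K : Set G) : Subgroup G))) :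
    ∃ g : G, g ∉ normalizer (K : Set G) ∧
      (∀ n ∈ K, n ∈ centralizer (K : Set G) → n ∈ cj g (normalizer (K : Set G))) ∧
      (∀ n ∈ K, n ∈ centralizer (K : Set G) → g * n * g⁻¹ ∈ normalizer (K : Set G)) ∧
      (∀ n ∈ K, n ∈ centralizer (K : Set G) → ∀ n' ∈ K, n' ∈ centralizer (K : Set G) →
        n * (g * n' * g⁻¹) = (g * n' * g⁻¹) * n) ∧
      ∃ k ∈ E, k ∉ centralizer (K : Set G) ∧ ∃ c ∈ centralizer (K : Set G), g * z * g⁻¹ = k * c := by
  obtain ⟨v, ⟨hvY, hvM⟩, hv2⟩ := exists_involution hev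
  -- `Z(K) ≤ M^g`
  have h1 : ∀ n ∈ K, n ∈ centralizer (K : Set G) → n ∈ cj g (normalizer (K : Set G)) := by
    intro n hnK hnC
    apply h.centralizer_le_cj hv2 hvY
    rw [mem_centralizer_singleton_iff]
    exact cen_comm hnK hnC (cq.inner v hvM ⟨1, by rw [pow_one, pow_two, sq_of_orderOf hv2]⟩)
  -- `[Z(K), Z(K)^g] = 1`
  have h2 : ∀ n ∈ K, n ∈ centralizer (K : Set G) → ∀ n' ∈ K, n' ∈ centralizer (K : Set G) →
      n * (g * n' * g⁻¹) = (g * n' * g⁻¹) * n := by
    intro n hnK hnC n' hnK' hnC'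
    obtain ⟨i, hi⟩ := cq.cen_two hnK hnC
    have h3 := cen_comm hnK' hnC' (cq.inner (g⁻¹ * n * g) (mem_cj.mp (h1 n hnK hnC)) ⟨i, by
      have e : g⁻¹ * n * g = g⁻¹ * n * g⁻¹⁻¹ := by group
      rw [e, conj_pow, hi]; group⟩)
    calc n * (g * n' * g⁻¹) = g * ((g⁻¹ * n * g) * n') * g⁻¹ := by group
      _ = g * (n' * (g⁻¹ * n * g)) * g⁻¹ := by rw [h3]
      _ = g * n' * g⁻¹ * n := by group
  -- `Z(K)^g ≤ M`
  have h3 : ∀ n ∈ K, n ∈ centralizer (K : Set G) → g * n * g⁻¹ ∈ normalizer (K : Set G) := by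
    intro n hnK hnC
    apply h.le_normalizer hz2 hzC
    rw [mem_centralizer_singleton_iff]
    exact (h2 z hzK hzC n hnK hnC).symm
  -- the conjugate
  have hw2 : orderOf (g * z * g⁻¹) = 2 := by rw [CompStandard.orderOf_conj, hz2]
  obtain ⟨k, hk, c, hc, hkc⟩ := cq.inner (g * z * g⁻¹) (h3 z hzK hzC)
    ⟨1, by rw [pow_one, pow_two, sq_of_orderOf hw2]⟩
  have hkk : k * k ∈ centralizer (K : Set G) := by
    have h4 := sq_of_orderOf hw2
    rw [hkc] at h4
    have h5 := centralizer_comm hc hk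
    have h6 : k * k = (c * c)⁻¹ := by
      rw [eq_inv_iff_mul_eq_one]
      calc k * k * (c * c) = k * (k * c) * c := by group
        _ = k * (c * k) * c := by rw [h5]
        _ = k * c * (k * c) := by group
        _ = 1 := h4
    rw [h6]
    exact inv_mem (mul_mem hc hc)
  obtain ⟨g₁, hg₁, hk₁⟩ := cq.conj k hk hkk
  have hg₁M : g₁ ∈ normalizer (K : Set G) := Subgroup.le_normalizer hg₁
  have hfix : ∀ n ∈ K, n ∈ centralizer (K : Set G) → g₁ * n * g₁⁻¹ = n := by
    intro n _ hnC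
    rw [centralizer_comm hnC hg₁, mul_inv_cancel_right]
  have hkC : k ∉ centralizer (K : Set G) := by
    intro hkC
    apply hg
    refine h.mem_of_involution hw2 (by rw [hkc]; exact mul_mem hkC hc) ?_
    exact conj_mem_cj hzC
  refine ⟨g₁ * g, fun hgg => hg ?_, ?_, ?_, ?_, g₁ * k * g₁⁻¹, hk₁, ?_, g₁ * c * g₁⁻¹, ?_, ?_⟩
  · have := mul_mem (inv_mem hg₁M) hgg
    rwa [inv_mul_cancel_left] at this
  · intro n hnK hnC
    rw [cj_mul]
    have := conj_mem_cj (g := g₁) (h1 n hnK hnC)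
    rwa [hfix n hnK hnC] at this
  · intro n hnK hnC
    have e : g₁ * g * n * (g₁ * g)⁻¹ = g₁ * (g * n * g⁻¹) * g₁⁻¹ := by group
    rw [e]
    exact mul_mem (mul_mem hg₁M (h3 n hnK hnC)) (inv_mem hg₁M)
  · intro n hnK hnC n' hnK' hnC'
    have e : g₁ * g * n' * (g₁ * g)⁻¹ = g₁ * (g * n' * g⁻¹) * g₁⁻¹ := by group
    rw [e]
    have h4 := h2 n hnK hnC n' hnK' hnC'
    have h5 := hfix n hnK hnC
    calc n * (g₁ * (g * n' * g⁻¹) * g₁⁻¹)
        = (g₁ * n * g₁⁻¹) * (g₁ * (g * n' * g⁻¹) * g₁⁻¹) := by rw [h5]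
      _ = g₁ * (n * (g * n' * g⁻¹)) * g₁⁻¹ := by group
      _ = g₁ * ((g * n' * g⁻¹) * n) * g₁⁻¹ := by rw [h4]
      _ = (g₁ * (g * n' * g⁻¹) * g₁⁻¹) * (g₁ * n * g₁⁻¹) := by group
      _ = _ := by rw [h5]
  · intro h4
    apply hkC
    have h5 := normal_cent K g₁⁻¹ (inv_mem hg₁M) _ h4
    have e : g₁⁻¹ * (g₁ * k * g₁⁻¹) * g₁⁻¹⁻¹ = k := by group
    rwa [e] at h5
  · exact normal_cent K g₁ hg₁M c hc
  · have e : g₁ * g * z * (g₁ * g)⁻¹ = g₁ * (g * z * g⁻¹) * g₁⁻¹ := by group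
    rw [e, hkc]; group

omit [Finite G] in
theorem comm_mem_of_comm {k k' c c' : G} (hk : k ∈ K) (hk' : k' ∈ K)
    (hc : c ∈ centralizer (K : Set G)) (hc' : c' ∈ centralizer (K : Set G))
    (h : (k * c) * (k' * c') = (k' * c') * (k * c)) : ⁅k, k'⁆ ∈ centralizer (K : Set G) := by
  have h1 := centralizer_comm hc hk'
  have h2 := centralizer_comm hc' hk
  have h3 : k * k' * (c * c') = k' * k * (c' * c) := by
    calc k * k' * (c * c') = k * (k' * c) * c' := by group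
      _ = k * (c * k') * c' := by rw [h1]
      _ = (k * c) * (k' * c') := by group
      _ = (k' * c') * (k * c) := h
      _ = k' * (c' * k) * c := by group
      _ = k' * (k * c') * c := by rw [h2]
      _ = _ := by group
  have hmem : c' * c * (c * c')⁻¹ ∈ centralizer (K : Set G) :=
    mul_mem (mul_mem hc' hc) (inv_mem (mul_mem hc hc'))
  have h4 : k * k' = (k' * k) * (c' * c * (c * c')⁻¹) := by
    calc k * k' = k * k' * (c * c') * (c * c')⁻¹ := by group
      _ = _ := by rw [h3]; group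
  have h5 := centralizer_comm hmem (mul_mem hk' hk)
  rw [commutatorElement_def]
  have h6 : k * k' * k⁻¹ * k'⁻¹ = c' * c * (c * c')⁻¹ := by
    calc k * k' * k⁻¹ * k'⁻¹ = (k * k') * (k' * k)⁻¹ := by group
      _ = ((k' * k) * (c' * c * (c * c')⁻¹)) * (k' * k)⁻¹ := by rw [h4]
      _ = _ := by rw [h5]; group
  rw [h6]
  exact hmem

/-- `Z(K)` contains only one involution -/
theorem false_of_beta (h : Std p K) (cq : CQ K Q E q) (hb : CBeta K Q E) {z z' : G} (hzK : z ∈ K)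
    (hzC : z ∈ centralizer (K : Set G)) (hz2 : orderOf z = 2) (hzK' : z' ∈ K)
    (hzC' : z' ∈ centralizer (K : Set G)) (hz2' : orderOf z' = 2) (hne : z ≠ z') {g : G}
    (hg : g ∉ normalizer (K : Set G))
    (hev : Even (Nat.card (cj g (centralizer (K : Set G)) ⊓ normalizer (K : Set G) : Subgroup G))) :
    False := by
  obtain ⟨g, hg, h1, h2, h3, k, hk, hkC, c, hc, hkc⟩ := setup h cq hzK hzC hz2 hg hev
  have hkK : k ∈ K := cq.leK (cq.leQ hk)
  obtain ⟨x, hx, hxk⟩ := cq.root k hk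
  have hxK : x ∈ K := cq.leK hx
  have hxE : x ∉ E := by
    intro hxE
    apply hkC
    have h4 := (cq.sqE x hx).1 hxE
    have h5 : k = (x * x) * (k⁻¹ * (x * x))⁻¹ := by group
    rw [h5]
    exact mul_mem h4 (inv_mem hxk)
  -- `x` commutes with `k`
  have hxk' : x * k = k * x := by
    have h5 : k = (x * x) * (k⁻¹ * (x * x))⁻¹ := by group
    have h6 := centralizer_comm (inv_mem hxk) hxK
    calc x * k = x * ((x * x) * (k⁻¹ * (x * x))⁻¹) := by rw [← h5]
      _ = (x * x) * (x * (k⁻¹ * (x * x))⁻¹) := by group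
      _ = (x * x) * ((k⁻¹ * (x * x))⁻¹ * x) := by rw [h6]
      _ = ((x * x) * (k⁻¹ * (x * x))⁻¹) * x := by group
      _ = k * x := by rw [← h5]
  -- `x ∈ C_G(w) ≤ M^g`
  have hw2 : orderOf (g * z * g⁻¹) = 2 := by rw [CompStandard.orderOf_conj, hz2]
  have hwY : g * z * g⁻¹ ∈ cj g (centralizer (K : Set G)) := conj_mem_cj hzC
  have hxw : x * (g * z * g⁻¹) = (g * z * g⁻¹) * x := by
    rw [hkc]
    have h4 := centralizer_comm hc hxK
    calc x * (k * c) = (x * k) * c := by group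
      _ = k * (x * c) := by rw [hxk']; group
      _ = k * c * x := by rw [h4]; group
  have hxM : x ∈ cj g (normalizer (K : Set G)) :=
    h.centralizer_le_cj hw2 hwY (mem_centralizer_singleton_iff.mpr hxw)
  obtain ⟨i, hi⟩ := mem_of_pow_two cq.two hx
  -- `x` commutes with `w' = g z' g⁻¹`
  have hxw' : x * (g * z' * g⁻¹) = (g * z' * g⁻¹) * x := by
    have h4 := cen_comm hzK' hzC' (cq.inner (g⁻¹ * x * g) (mem_cj.mp hxM) ⟨i, by
      have e : g⁻¹ * x * g = g⁻¹ * x * g⁻¹⁻¹ := by group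
      rw [e, conj_pow, hi]; group⟩)
    calc x * (g * z' * g⁻¹) = g * ((g⁻¹ * x * g) * z') * g⁻¹ := by group
      _ = g * (z' * (g⁻¹ * x * g)) * g⁻¹ := by rw [h4]
      _ = g * z' * g⁻¹ * x := by group
  have hw2' : orderOf (g * z' * g⁻¹) = 2 := by rw [CompStandard.orderOf_conj, hz2']
  obtain ⟨k', hk', c', hc', hkc'⟩ := cq.inner (g * z' * g⁻¹) (h2 z' hzK' hzC')
    ⟨1, by rw [pow_one, pow_two, sq_of_orderOf hw2']⟩
  have hkk' : k' * k' ∈ centralizer (K : Set G) := by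
    have h4 := sq_of_orderOf hw2'
    rw [hkc'] at h4
    have h5 := centralizer_comm hc' hk'
    have h6 : k' * k' = (c' * c')⁻¹ := by
      rw [eq_inv_iff_mul_eq_one]
      calc k' * k' * (c' * c') = k' * (k' * c') * c' := by group
        _ = k' * (c' * k') * c' := by rw [h5]
        _ = k' * c' * (k' * c') := by group
        _ = 1 := h4
    rw [h6]
    exact inv_mem (mul_mem hc' hc')
  -- `w` and `w'` commute
  have hzz : z * z' = z' * z := centralizer_comm hzC' hzK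
  have hww : (k' * c') * (k * c) = (k * c) * (k' * c') := by
    rw [← hkc, ← hkc']
    calc g * z' * g⁻¹ * (g * z * g⁻¹) = g * (z' * z) * g⁻¹ := by group
      _ = g * (z * z') * g⁻¹ := by rw [hzz]
      _ = _ := by group
  have hk'Q : k' ∈ Q := cq.cent k' hk' k hk hkC (comm_mem_of_comm hk' hkK hc' hc hww)
  have hk'E : k' ∈ E := (cq.sqE k' hk'Q).2 hkk'
  have hk'C : k' ∉ centralizer (K : Set G) := by
    intro h4
    apply hg
    refine h.mem_of_involution hw2' (by rw [hkc']; exact mul_mem h4 hc') ?_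
    exact conj_mem_cj hzC'
  have hkk'C : k⁻¹ * k' ∉ centralizer (K : Set G) := by
    intro h4
    apply hg
    have h5 : g * (z⁻¹ * z') * g⁻¹ = (k⁻¹ * k') * (c⁻¹ * c') := by
      have h6 := centralizer_comm (inv_mem hc) (mul_mem (inv_mem hkK) hk')
      calc g * (z⁻¹ * z') * g⁻¹ = (g * z * g⁻¹)⁻¹ * (g * z' * g⁻¹) := by group
        _ = c⁻¹ * (k⁻¹ * k') * c' := by rw [hkc, hkc']; group
        _ = (k⁻¹ * k') * c⁻¹ * c' := by rw [h6]
        _ = _ := by group
    have h7 : orderOf (z⁻¹ * z') = 2 := by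
      apply orderOf_eq_two
      · rw [ne_eq, inv_mul_eq_one]; exact hne
      · have e1 := sq_of_orderOf hz2
        have e2 := sq_of_orderOf hz2'
        have e3 : z⁻¹ = z := inv_eq_of_mul_eq_one_right e1
        rw [e3]
        calc z * z' * (z * z') = z * (z' * z) * z' := by group
          _ = z * (z * z') * z' := by rw [hzz]
          _ = (z * z) * (z' * z') := by group
          _ = 1 := by rw [e1, e2, one_mul]
    refine h.mem_of_involution (s := g * (z⁻¹ * z') * g⁻¹)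
      (by rw [CompStandard.orderOf_conj, h7]) ?_ ?_
    · rw [h5]
      exact mul_mem h4 (mul_mem (inv_mem hc) hc')
    · exact conj_mem_cj (mul_mem (inv_mem hzC) hzC')
  -- `x` commutes with `k'`
  have hxk'' : x * k' = k' * x := by
    rw [hkc'] at hxw'
    have h4 := centralizer_comm hc' hxK
    have h5 : x * k' * c' = k' * x * c' := by
      calc x * k' * c' = x * (k' * c') := by group
        _ = k' * c' * x := hxw'
        _ = k' * (c' * x) := by group
        _ = k' * (x * c') := by rw [h4]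
        _ = _ := by group
    exact mul_right_cancel h5
  exact hb x hx hxE k hk k' hk'E hkC hk'C hkk'C hxk' hxk''

end

end Cfsg.Agent.OddCyclic.CaseECovC
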