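import Cfsg.Agent.OddCyclic.CaseECovC

/-!
# S0342, component type, case E, covers: `|R| = 2`

If `z` is the only involution of `Z(K)` then the Sylow 2-subgroups of `C(K)` have order 2.
-/

set_option autoImplicit false

namespace Cfsg.Agent.OddCyclic.CaseECovD

open Subgroup
open scoped commutatorElement
open Cfsg.Agent.LieExceptional.CITDefs Cfsg.Agent.LieExceptional.CITBasic
open Cfsg.Agent.OddCyclic.CompStandard Cfsg.Agent.OddCyclic.CaseABase
open Cfsg.Agent.OddCyclic.CaseECovC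

variable {G : Type*} [Group G]

section count

variable [Finite G]

/-- a covering count -/
theorem card_cover (H Y N : Subgroup G) (V : Set G) (hN : N ≤ Y)
    (hVN : ∀ v ∈ V, ∀ n ∈ N, v * n ∈ V) (hcov : ∀ h ∈ H, ∃ v ∈ V, v⁻¹ * h ∈ Y) :
    Nat.card H * Nat.card N ≤ Nat.card V * Nat.card (H ⊓ Y : Subgroup G) := by
  classical
  choose v hvV hvY using fun h : H => hcov h h.2
  let f : H × N → V := fun x => ⟨v x.1 * x.2, hVN _ (hvV _) _ x.2.2⟩
  have hf : ∀ x : H × N, ((f x : V) : G) = v x.1 * x.2 := fun _ => rfl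
  -- representatives
  have hrep : ∀ u : V, ∃ h₀ : H, ∀ x : H × N, f x = u → ((h₀ : G))⁻¹ * x.1 ∈ Y := by
    intro u
    by_cases hu : ∃ x, f x = u
    · obtain ⟨x₀, hx₀⟩ := hu
      refine ⟨x₀.1, fun x hx => ?_⟩
      have h1 : v x₀.1 * x₀.2 = v x.1 * x.2 := by rw [← hf, ← hf, hx₀, hx]
      have h2 : ((x₀.1 : H) : G)⁻¹ * x.1 =
          ((v x₀.1)⁻¹ * x₀.1)⁻¹ * ((v x₀.1)⁻¹ * (v x.1)) * ((v x.1)⁻¹ * x.1) := by group
      have h3 : (v x₀.1)⁻¹ * (v x.1) = x₀.2 * (x.2 : G)⁻¹ := by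
        rw [inv_mul_eq_iff_eq_mul, ← mul_assoc, h1]
        group
      rw [h2, h3]
      exact mul_mem (mul_mem (inv_mem (hvY _)) (mul_mem (hN x₀.2.2) (inv_mem (hN x.2.2)))) (hvY _)
    · exact ⟨1, fun x hx => absurd ⟨x, hx⟩ hu⟩
  choose r hr using hrep
  let F : H × N → V × (H ⊓ Y : Subgroup G) := fun x =>
    (f x, ⟨(r (f x) : G)⁻¹ * x.1, Subgroup.mem_inf.mpr
      ⟨H.mul_mem (H.inv_mem (r (f x)).2) x.1.2, hr (f x) x rfl⟩⟩)
  have hF : Function.Injective F := by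
    intro x y hxy
    have h1 : f x = f y := congrArg Prod.fst hxy
    have h2 : (r (f x) : G)⁻¹ * x.1 = (r (f y) : G)⁻¹ * y.1 :=
      congrArg Subtype.val (congrArg Prod.snd hxy)
    rw [h1] at h2
    have h3 : x.1 = y.1 := Subtype.ext (mul_left_cancel h2)
    have h4 : v x.1 * x.2 = v y.1 * y.2 := by rw [← hf, ← hf, h1]
    rw [h3] at h4
    have h5 : x.2 = y.2 := Subtype.ext (mul_left_cancel h4)
    exact Prod.ext h3 h5
  have := Nat.card_le_card_of_injective F hF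
  rwa [Nat.card_prod, Nat.card_prod] at this

theorem card_le_two_mul {D Q : Subgroup G} (h : ∀ x ∈ Q, x ∉ D → ∀ y ∈ Q, y ∉ D → x⁻¹ * y ∈ D) :
    Nat.card Q ≤ 2 * Nat.card D := by
  classical
  by_cases hex : ∃ x ∈ Q, x ∉ D
  · obtain ⟨x₀, hx₀, hx₀D⟩ := hex
    let f : Q → D × Bool := fun x => if hx : (x : G) ∈ D then (⟨x, hx⟩, false) else
      (⟨x₀⁻¹ * x, h x₀ hx₀ hx₀D x x.2 hx⟩, true)
    have hf : Function.Injective f := by
      intro x y hxy
      by_cases hx : (x : G) ∈ D <;> by_cases hy : (y : G) ∈ D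
      · simp only [f, hx, hy, dif_pos] at hxy
        exact Subtype.ext (Subtype.mk.inj (congrArg Prod.fst hxy))
      · simp only [f, hx, hy, dif_pos] at hxy
        exact absurd (congrArg Prod.snd hxy) (by simp)
      · simp only [f, hx, hy, dif_pos] at hxy
        exact absurd (congrArg Prod.snd hxy) (by simp)
      · simp only [f, hx, hy] at hxy
        exact Subtype.ext (mul_left_cancel (congrArg Subtype.val (congrArg Prod.fst hxy)))
    have := Nat.card_le_card_of_injective f hf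
    rw [Nat.card_prod, Nat.card_eq_fintype_card (α := Bool), Fintype.card_bool] at this
    omega
  · push Not at hex
    have h1 : Nat.card Q ≤ Nat.card D := Subgroup.card_le_of_le hex
    omega

theorem card_le_two {B : Subgroup G} (h : ∀ b ∈ B, b ≠ 1 → ∀ b' ∈ B, b' ≠ 1 → b = b') :
    Nat.card B ≤ 2 := by
  have h1 := card_le_two_mul (D := ⊥) (Q := B) (fun x hx hx1 y hy hy1 => by
    rw [Subgroup.mem_bot] at hx1 hy1 ⊢
    rw [h x hx hx1 y hy hy1, inv_mul_cancel])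
  rwa [Subgroup.card_bot, mul_one] at h1

end count

/-- `z` is the only involution of `Z(K)` -/
structure CAlpha (K Q E : Subgroup G) (z : G) : Prop where
  zK : z ∈ K
  zC : z ∈ centralizer (K : Set G)
  z2 : orderOf z = 2
  val : ∀ x ∈ Q, ∀ e ∈ E, ⁅x, e⁆ = 1 ∨ ⁅x, e⁆ = z
  right : ∀ e ∈ E, e ∉ centralizer (K : Set G) → ∃ x ∈ Q, ⁅x, e⁆ = z
  two : ∀ e ∈ E, ∀ k ∈ E, k ∉ centralizer (K : Set G) → (∀ x ∈ Q, ⁅x, k⁆ = 1 → ⁅x, e⁆ = 1) →
    e ∈ centralizer (K : Set G) ∨ k⁻¹ * e ∈ centralizer (K : Set G)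

variable [Finite G] {p q : ℕ} {K Q E : Subgroup G}

omit [Finite G] in
theorem comm_iff {a b : G} : ⁅a, b⁆ = 1 ↔ a * b = b * a := commutatorElement_eq_one_iff_mul_comm

/-- the configuration -/
structure Cfg (K Q E : Subgroup G) (z w k c ρ : G) (U : Subgroup G) : Prop where
  kE : k ∈ E
  kC : k ∉ centralizer (K : Set G)
  cC : c ∈ centralizer (K : Set G)
  eq : w = k * c
  comm : z * w = w * z
  syl : IsSyl2 (centralizer {z} ⊓ centralizer {w}) U
  nU : cj ρ U = U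
  nM : ρ ∉ normalizer (K : Set G)

theorem exists_cfg (h : Std p K) (cq : CQ K Q E q) {z : G} (ha : CAlpha K Q E z) {g : G}
    (hg : g ∉ normalizer (K : Set G))
    (hev : Even (Nat.card (cj g (centralizer (K : Set G)) ⊓ normalizer (K : Set G) : Subgroup G))) :
    ∃ w k c ρ U, Cfg K Q E z w k c ρ U ∧ orderOf w = 2 := by
  have hpf : Fact (Nat.Prime 2) := ⟨Nat.prime_two⟩
  obtain ⟨g, hg, h1, h2, h3, k, hk, hkC, c, hc, hkc⟩ := setup h cq ha.zK ha.zC ha.z2 hg hev
  have hw2 : orderOf (g * z * g⁻¹) = 2 := by rw [CompStandard.orderOf_conj, ha.z2]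
  obtain ⟨w, hw⟩ : ∃ w, w = g * z * g⁻¹ := ⟨_, rfl⟩
  have hzz := sq_of_orderOf ha.z2
  have hww : w * w = 1 := by rw [hw]; exact sq_of_orderOf hw2
  have hzi : z⁻¹ = z := inv_eq_of_mul_eq_one_right hzz
  have hkc' : w = k * c := by rw [hw, hkc]
  have hzw : z * w = w * z := by rw [hw]; exact h3 z ha.zK ha.zC z ha.zK ha.zC
  -- `x₁`
  obtain ⟨x₁, hx₁, hx₁k⟩ := ha.right k hk hkC
  have hx₁K := cq.leK hx₁
  have hx₁w : x₁ * w * x₁⁻¹ = z * w := by
    have h4 := centralizer_comm hc hx₁K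
    have h5 : x₁ * k * x₁⁻¹ = z * k := by
      rw [← hx₁k, commutatorElement_def]; group
    calc x₁ * w * x₁⁻¹ = x₁ * k * (c * x₁⁻¹) := by rw [hkc']; group
      _ = x₁ * k * (x₁⁻¹ * (x₁ * c) * x₁⁻¹) := by group
      _ = x₁ * k * (x₁⁻¹ * (c * x₁) * x₁⁻¹) := by rw [h4]
      _ = (x₁ * k * x₁⁻¹) * c := by group
      _ = z * w := by rw [h5, hkc']; group
  have hx₁z : x₁ * z = z * x₁ := centralizer_comm ha.zC hx₁K
  have hx₁w' : x₁⁻¹ * w * x₁ = z * w := by
    have h5 : x₁⁻¹ * (z * w) * x₁ = w := by rw [← hx₁w]; group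
    have h6 : x₁⁻¹ * z = z * x₁⁻¹ := by
      rw [inv_mul_eq_iff_eq_mul, ← mul_assoc, hx₁z, mul_inv_cancel_right]
    have h7 : z * (x₁⁻¹ * w * x₁) = w := by
      calc z * (x₁⁻¹ * w * x₁) = (z * x₁⁻¹) * w * x₁ := by group
        _ = x₁⁻¹ * (z * w) * x₁ := by rw [← h6]; group
        _ = w := h5
    calc x₁⁻¹ * w * x₁ = (z * z) * (x₁⁻¹ * w * x₁) := by rw [hzz, one_mul]
      _ = z * (z * (x₁⁻¹ * w * x₁)) := by group
      _ = z * w := by rw [h7]
  -- `x₂`
  obtain ⟨x₂, hx₂z, hx₂w⟩ : ∃ x₂ : G, x₂ * z * x₂⁻¹ = w * z ∧ x₂ * w * x₂⁻¹ = w := by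
    have h4 := mem_cj.mp (h1 z ha.zK ha.zC)
    have h5 : orderOf (g⁻¹ * z * g) = 2 := by
      have := CompStandard.orderOf_conj g⁻¹ z
      rw [inv_inv] at this
      rw [this, ha.z2]
    obtain ⟨k', hk', c', hc', hkc2⟩ := cq.inner (g⁻¹ * z * g) h4
      ⟨1, by rw [pow_one, pow_two, sq_of_orderOf h5]⟩
    have hkk : k' * k' ∈ centralizer (K : Set G) := by
      have h6 := sq_of_orderOf h5
      rw [hkc2] at h6
      have h7 := centralizer_comm hc' hk'
      have h8 : k' * k' = (c' * c')⁻¹ := by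
        rw [eq_inv_iff_mul_eq_one]
        calc k' * k' * (c' * c') = k' * (k' * c') * c' := by group
          _ = k' * (c' * k') * c' := by rw [h7]
          _ = k' * c' * (k' * c') := by group
          _ = 1 := h6
      rw [h8]
      exact inv_mem (mul_mem hc' hc')
    have hk'C : k' ∉ centralizer (K : Set G) := by
      intro h6
      apply hg
      have h7 : g⁻¹ * z * g ∈ centralizer (K : Set G) := by rw [hkc2]; exact mul_mem h6 hc'
      refine h.mem_of_involution ha.z2 ha.zC ?_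
      rw [mem_cj]
      exact h7
    obtain ⟨g₂, hg₂, hk₂⟩ := cq.conj k' hk' hkk
    have hg₂M : g₂ ∈ normalizer (K : Set G) := Subgroup.le_normalizer hg₂
    have hk₂C : g₂ * k' * g₂⁻¹ ∉ centralizer (K : Set G) := by
      intro h6
      apply hk'C
      have h7 := normal_cent K g₂⁻¹ (inv_mem hg₂M) _ h6
      have e : g₂⁻¹ * (g₂ * k' * g₂⁻¹) * g₂⁻¹⁻¹ = k' := by group
      rwa [e] at h7
    obtain ⟨x', hx', hx'z⟩ := ha.right _ hk₂ hk₂C
    have hxK : g₂⁻¹ * x' * g₂ ∈ K := mul_mem (mul_mem (inv_mem hg₂) (cq.leK hx')) hg₂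
    have h6 : ⁅g₂⁻¹ * x' * g₂, k'⁆ = z := by
      have e : ⁅g₂⁻¹ * x' * g₂, k'⁆ = g₂⁻¹ * ⁅x', g₂ * k' * g₂⁻¹⁆ * g₂ := by
        simp only [commutatorElement_def]; group
      rw [e, hx'z, mul_assoc, ← centralizer_comm ha.zC hg₂]
      group
    obtain ⟨x, hx⟩ : ∃ x, x = g₂⁻¹ * x' * g₂ := ⟨_, rfl⟩
    rw [← hx] at h6 hxK
    have h7 : x * (g⁻¹ * z * g) * x⁻¹ = z * (g⁻¹ * z * g) := by
      have h8 := centralizer_comm hc' hxK
      have h9 : x * k' * x⁻¹ = z * k' := by rw [← h6, commutatorElement_def]; group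
      rw [hkc2]
      calc x * (k' * c') * x⁻¹ = x * k' * (x⁻¹ * (x * c') * x⁻¹) := by group
        _ = x * k' * (x⁻¹ * (c' * x) * x⁻¹) := by rw [h8]
        _ = (x * k' * x⁻¹) * c' := by group
        _ = _ := by rw [h9]; group
    refine ⟨g * x * g⁻¹, ?_, ?_⟩
    · calc g * x * g⁻¹ * z * (g * x * g⁻¹)⁻¹ = g * (x * (g⁻¹ * z * g) * x⁻¹) * g⁻¹ := by group
        _ = g * (z * (g⁻¹ * z * g)) * g⁻¹ := by rw [h7]
        _ = w * z := by rw [hw]; group
    · have h8 := centralizer_comm ha.zC hxK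
      rw [hw]
      calc g * x * g⁻¹ * (g * z * g⁻¹) * (g * x * g⁻¹)⁻¹ = g * (x * z) * x⁻¹ * g⁻¹ := by group
        _ = g * (z * x) * x⁻¹ * g⁻¹ := by rw [h8]
        _ = g * z * g⁻¹ := by group
  -- `n₀`
  obtain ⟨n₀, hn₀⟩ : ∃ n₀, n₀ = x₁⁻¹ * x₂ := ⟨_, rfl⟩
  have hx₁z' : x₁⁻¹ * z * x₁ = z := by rw [mul_assoc, ← hx₁z]; group
  have hn₀z : n₀ * z * n₀⁻¹ = w := by
    calc n₀ * z * n₀⁻¹ = x₁⁻¹ * (x₂ * z * x₂⁻¹) * x₁ := by rw [hn₀]; group
      _ = (x₁⁻¹ * w * x₁) * (x₁⁻¹ * z * x₁) := by rw [hx₂z]; group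
      _ = z * w * z := by rw [hx₁w', hx₁z']
      _ = w * (z * z) := by rw [hzw]; group
      _ = w := by rw [hzz, mul_one]
  have hn₀w : n₀ * w * n₀⁻¹ = z * w := by
    calc n₀ * w * n₀⁻¹ = x₁⁻¹ * (x₂ * w * x₂⁻¹) * x₁ := by rw [hn₀]; group
      _ = z * w := by rw [hx₂w, hx₁w']
  obtain ⟨X, hX⟩ : ∃ X : Subgroup G, X = centralizer {z} ⊓ centralizer {w} := ⟨_, rfl⟩
  have memX : ∀ x, x ∈ X ↔ x * z = z * x ∧ x * w = w * x := by
    intro x
    rw [hX, Subgroup.mem_inf, mem_centralizer_singleton_iff, mem_centralizer_singleton_iff]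
  have hXn : cj n₀ X = X := by
    apply Subgroup.eq_of_le_of_card_ge
    · rintro _ ⟨x, hx, rfl⟩
      obtain ⟨hxz, hxw⟩ := (memX x).1 hx
      simp only [MulEquiv.coe_toMonoidHom, MulAut.conj_apply]
      have e1 : (n₀ * x * n₀⁻¹) * w = w * (n₀ * x * n₀⁻¹) := by
        calc (n₀ * x * n₀⁻¹) * w = (n₀ * x * n₀⁻¹) * (n₀ * z * n₀⁻¹) := by rw [hn₀z]
          _ = n₀ * (x * z) * n₀⁻¹ := by group
          _ = n₀ * (z * x) * n₀⁻¹ := by rw [hxz]
          _ = (n₀ * z * n₀⁻¹) * (n₀ * x * n₀⁻¹) := by group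
          _ = _ := by rw [hn₀z]
      have e2 : (n₀ * x * n₀⁻¹) * (z * w) = (z * w) * (n₀ * x * n₀⁻¹) := by
        calc (n₀ * x * n₀⁻¹) * (z * w) = (n₀ * x * n₀⁻¹) * (n₀ * w * n₀⁻¹) := by rw [hn₀w]
          _ = n₀ * (x * w) * n₀⁻¹ := by group
          _ = n₀ * (w * x) * n₀⁻¹ := by rw [hxw]
          _ = (n₀ * w * n₀⁻¹) * (n₀ * x * n₀⁻¹) := by group
          _ = _ := by rw [hn₀w]
      refine (memX _).2 ⟨?_, e1⟩
      have e3 : z = (z * w) * w := by rw [mul_assoc, hww, mul_one]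
      calc (n₀ * x * n₀⁻¹) * z = (n₀ * x * n₀⁻¹) * (z * w * w) := by rw [← e3]
        _ = ((n₀ * x * n₀⁻¹) * (z * w)) * w := by group
        _ = (z * w) * ((n₀ * x * n₀⁻¹) * w) := by rw [e2]; group
        _ = (z * w) * (w * (n₀ * x * n₀⁻¹)) := by rw [e1]
        _ = (z * w * w) * (n₀ * x * n₀⁻¹) := by group
        _ = z * (n₀ * x * n₀⁻¹) := by rw [← e3]
    · rw [card_cj]
  obtain ⟨U, hU, -⟩ := exists_isSyl2 X ⊥ bot_le IsPGroup.of_bot
  have hU' : IsSyl2 X (cj n₀ U) := by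
    have := isSyl2_cj n₀ hU
    rwa [hXn] at this
  obtain ⟨m, hm, hmU⟩ := isSyl2_conj hU' hU
  have hmw : m * w * m⁻¹ = w := by rw [((memX m).1 hm).2, mul_inv_cancel_right]
  refine ⟨w, k, c, m * n₀, U, ⟨hk, hkC, hc, hkc', hzw, by rw [← hX]; exact hU, ?_, ?_⟩, by
    rw [hw]; exact hw2⟩
  · rw [cj_mul, ← hmU]
  · intro hρ
    -- `w = z^ρ ∈ C(K)`
    have h4 : (m * n₀) * z * (m * n₀)⁻¹ = w := by
      calc (m * n₀) * z * (m * n₀)⁻¹ = m * (n₀ * z * n₀⁻¹) * m⁻¹ := by group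
        _ = w := by rw [hn₀z, hmw]
    have h5 := normal_cent K _ hρ z ha.zC
    rw [h4, hkc'] at h5
    apply hkC
    have e : k = k * c * c⁻¹ := by group
    rw [e]
    exact mul_mem h5 (inv_mem hc)

section cfg

variable {z w k c ρ : G} {U : Subgroup G}

omit [Finite G] in
theorem Cfg.inv (C : Cfg K Q E z w k c ρ U) : Cfg K Q E z w k c ρ⁻¹ U :=
  { C with
    nU := by
      have := C.nU
      rw [← this, cj_inv_cj, this]
    nM := fun h => C.nM (by have := inv_mem h; rwa [inv_inv] at this) }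

/-- `U ≤ M` -/
theorem Cfg.le (C : Cfg K Q E z w k c ρ U) (h : Std p K) (ha : CAlpha K Q E z) {u : G}
    (hu : u ∈ U) : u ∈ normalizer (K : Set G) :=
  h.le_normalizer ha.z2 ha.zC (C.syl.le hu).1

omit [Finite G] in
theorem Cfg.comm_w (C : Cfg K Q E z w k c ρ U) {u : G} (hu : u ∈ U) : u * w = w * u :=
  mem_centralizer_singleton_iff.mp (C.syl.le hu).2

theorem Cfg.dec (C : Cfg K Q E z w k c ρ U) (h : Std p K) (cq : CQ K Q E q)
    (ha : CAlpha K Q E z) {u : G} (hu : u ∈ U) :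
    ∃ a ∈ Q, ∃ y ∈ centralizer (K : Set G), u = a * y := by
  obtain ⟨a, haK, y, hy, huy⟩ := cq.inner u (C.le h ha hu) (mem_of_pow_two C.syl.two hu)
  refine ⟨a, ?_, y, hy, huy⟩
  have h1 := C.comm_w hu
  rw [huy, C.eq] at h1
  exact cq.cent a haK k C.kE C.kC (comm_mem_of_comm haK (cq.leK (cq.leQ C.kE)) hy C.cC h1)

omit [Finite G] in
theorem Cfg.comm_k_iff (C : Cfg K Q E z w k c ρ U) {x : G} (hx : x ∈ K) :
    x * w = w * x ↔ x * k = k * x := by
  have h1 := centralizer_comm C.cC hx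
  rw [C.eq]
  constructor
  · intro h2
    have h3 : x * k * c = k * x * c := by
      calc x * k * c = x * (k * c) := by group
        _ = k * c * x := h2
        _ = k * (c * x) := by group
        _ = k * (x * c) := by rw [h1]
        _ = _ := by group
    exact mul_right_cancel h3
  · intro h2
    calc x * (k * c) = (x * k) * c := by group
      _ = k * (x * c) := by rw [h2]; group
      _ = k * c * x := by rw [h1]; group

omit [Finite G] in
theorem Cfg.mem_Q (C : Cfg K Q E z w k c ρ U) (cq : CQ K Q E q) {x : G} (hx : x ∈ K)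
    (hxw : x * w = w * x) : x ∈ Q := by
  refine cq.cent x hx k C.kE C.kC ?_
  rw [comm_iff.2 ((C.comm_k_iff hx).1 hxw)]
  exact one_mem _

theorem Cfg.D_le (C : Cfg K Q E z w k c ρ U) (h : Std p K) (cq : CQ K Q E q)
    (ha : CAlpha K Q E z) : K ⊓ centralizer {w} ≤ U := by
  refine le_isSyl2 C.syl ?_ ?_ ?_
  · intro x hx
    refine ⟨mem_centralizer_singleton_iff.mpr (centralizer_comm ha.zC hx.1), hx.2⟩
  · refine cq.two.to_le ?_
    intro x hx
    exact C.mem_Q cq hx.1 (mem_centralizer_singleton_iff.mp hx.2)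
  · intro s hs e he
    refine ⟨forall_of_mem_normalizer (C.le h ha hs) e he.1, ?_⟩
    exact (centralizer {w}).mul_mem ((centralizer {w}).mul_mem (C.syl.le hs).2 he.2)
      ((centralizer {w}).inv_mem (C.syl.le hs).2)

theorem Cfg.mem_U (C : Cfg K Q E z w k c ρ U) (h : Std p K) (cq : CQ K Q E q)
    (ha : CAlpha K Q E z) {x : G} (hx : x ∈ Q) (hxk : x * k = k * x) : x ∈ U :=
  C.D_le h cq ha ⟨cq.leK hx, mem_centralizer_singleton_iff.mpr
    ((C.comm_k_iff (cq.leK hx)).2 hxk)⟩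

theorem Cfg.E_le (C : Cfg K Q E z w k c ρ U) (h : Std p K) (cq : CQ K Q E q)
    (ha : CAlpha K Q E z) : E ≤ U := fun e he =>
  C.mem_U h cq ha (cq.leQ he) (cq.comE e he k C.kE)

/-- elements of `U ∩ C(K) ∩ C(K)^ρ` are trivial -/
theorem Cfg.triv (C : Cfg K Q E z w k c ρ U) (h : Std p K) {x : G} (hx : x ∈ U)
    (hx1 : x ∈ cj ρ (centralizer (K : Set G))) (hx2 : x ∈ centralizer (K : Set G)) : x = 1 := by
  have h1 := h.inf_eq_bot C.nM (A := U ⊓ cj ρ (centralizer (K : Set G)))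
    (C.syl.two.to_le inf_le_left) inf_le_right
  have h2 : x ∈ U ⊓ cj ρ (centralizer (K : Set G)) ⊓ centralizer (K : Set G) := ⟨⟨hx, hx1⟩, hx2⟩
  rwa [h1, mem_bot] at h2

theorem Cfg.comm_mem (C : Cfg K Q E z w k c ρ U) (h : Std p K) (ha : CAlpha K Q E z) {b u : G}
    (hb : b ∈ cj ρ (centralizer (K : Set G))) (hu : u ∈ U) :
    ⁅b, u⁆ ∈ cj ρ (centralizer (K : Set G)) := by
  have h1 : u ∈ cj ρ (normalizer (K : Set G)) := by
    rw [← C.nU] at hu
    exact cj_mono (fun x hx => C.le h ha hx) hu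
  have h2 := normal_cj_cent ρ K u h1 b⁻¹ (inv_mem hb)
  have e : ⁅b, u⁆ = b * (u * b⁻¹ * u⁻¹) := by rw [commutatorElement_def]; group
  rw [e]
  exact mul_mem hb h2

/-- `B = C_Q(k) ∩ C(K)^ρ` has order at most 2 -/
theorem Cfg.card_B (C : Cfg K Q E z w k c ρ U) (h : Std p K) (cq : CQ K Q E q)
    (ha : CAlpha K Q E z) :
    Nat.card ((K ⊓ centralizer {w}) ⊓ cj ρ (centralizer (K : Set G)) : Subgroup G) ≤ 2 := by
  have key : ∀ b ∈ (K ⊓ centralizer {w}) ⊓ cj ρ (centralizer (K : Set G)),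
      b ∈ centralizer (K : Set G) ∨ k⁻¹ * b ∈ centralizer (K : Set G) := by
    intro b hb
    have hbU : b ∈ U := C.D_le h cq ha hb.1
    have hbQ : b ∈ Q := C.mem_Q cq hb.1.1 (mem_centralizer_singleton_iff.mp hb.1.2)
    have htr : ∀ u ∈ U, ⁅b, u⁆ ∈ centralizer (K : Set G) → ⁅b, u⁆ = 1 := by
      intro u hu hc
      refine C.triv h ?_ (C.comm_mem h ha hb.2 hu) hc
      rw [commutatorElement_def]
      exact mul_mem (mul_mem (mul_mem hbU hu) (inv_mem hbU)) (inv_mem hu)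
    have hbE : b ∈ E := by
      apply cq.out b hbQ
      intro e he
      exact comm_iff.1 (htr e (C.E_le h cq ha he) (cq.comQ b hbQ e he))
    apply ha.two b hbE k C.kE C.kC
    intro x hx hxk
    have h1 : ⁅b, x⁆ = 1 := by
      apply htr x (C.mem_U h cq ha hx (comm_iff.1 hxk))
      have h2 := cq.comQ x hx b hbE
      rw [← commutatorElement_inv]
      exact inv_mem h2
    exact comm_iff.2 (comm_iff.1 h1).symm
  have hU : ∀ b ∈ (K ⊓ centralizer {w}) ⊓ cj ρ (centralizer (K : Set G)), b ∈ U :=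
    fun b hb => C.D_le h cq ha hb.1
  apply card_le_two
  intro b hb hb1 b' hb' hb1'
  have h1 := (key b hb).resolve_left (fun h2 => hb1 (C.triv h (hU b hb) hb.2 h2))
  have h1' := (key b' hb').resolve_left (fun h2 => hb1' (C.triv h (hU b' hb') hb'.2 h2))
  have h3 : b⁻¹ * b' ∈ centralizer (K : Set G) := by
    have e : b⁻¹ * b' = (k⁻¹ * b)⁻¹ * (k⁻¹ * b') := by group
    rw [e]
    exact mul_mem (inv_mem h1) h1'
  have h4 := C.triv h (mul_mem (inv_mem (hU b hb)) (hU b' hb')) (mul_mem (inv_mem hb.2) hb'.2) h3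
  exact inv_mul_eq_one.mp h4

/-- `|C_Q(k)| ≥ q²` -/
theorem Cfg.card_D (C : Cfg K Q E z w k c ρ U) (cq : CQ K Q E q) (ha : CAlpha K Q E z) :
    q ^ 2 ≤ Nat.card (K ⊓ centralizer {w} : Subgroup G) := by
  have h1 : Nat.card Q ≤ 2 * Nat.card (K ⊓ centralizer {w} : Subgroup G) := by
    apply card_le_two_mul
    have hmem : ∀ x ∈ Q, x ∉ K ⊓ centralizer {w} → ⁅x, k⁆ = z := by
      intro x hx hxD
      rcases ha.val x hx k C.kE with h2 | h2
      · exact absurd ⟨cq.leK hx, mem_centralizer_singleton_iff.mpr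
          ((C.comm_k_iff (cq.leK hx)).2 (comm_iff.1 h2))⟩ hxD
      · exact h2
    intro x hx hxD y hy hyD
    have h2 := hmem x hx hxD
    have h3 := hmem y hy hyD
    have hxyK : x⁻¹ * y ∈ K := mul_mem (inv_mem (cq.leK hx)) (cq.leK hy)
    refine ⟨hxyK, mem_centralizer_singleton_iff.mpr ((C.comm_k_iff hxyK).2 ?_)⟩
    have h4 : x * k * x⁻¹ = z * k := by rw [← h2, commutatorElement_def]; group
    have h5 : y * k * y⁻¹ = z * k := by rw [← h3, commutatorElement_def]; group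
    have h6 : (x⁻¹ * y) * k * (x⁻¹ * y)⁻¹ = k := by
      calc (x⁻¹ * y) * k * (x⁻¹ * y)⁻¹ = x⁻¹ * (y * k * y⁻¹) * x := by group
        _ = x⁻¹ * (x * k * x⁻¹) * x := by rw [h5, h4]
        _ = k := by group
    exact mul_inv_eq_iff_eq_mul.mp h6
  have h2 : 2 ≤ Nat.card (K ⊓ centralizer (K : Set G) : Subgroup G) := by
    have h3 : orderOf z ∣ Nat.card (K ⊓ centralizer (K : Set G) : Subgroup G) := by
      have := orderOf_dvd_natCard (⟨z, ha.zK, ha.zC⟩ : (K ⊓ centralizer (K : Set G) : Subgroup G))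
      rw [← Subgroup.orderOf_coe] at this
      exact this
    rw [ha.z2] at h3
    exact Nat.le_of_dvd Nat.card_pos h3
  rw [cq.cardQ] at h1
  nlinarith [sq_nonneg q]

/-- `U ∩ C(K)^ρ ≤ E C(K)` -/
theorem Cfg.mem_E (C : Cfg K Q E z w k c ρ U) (h : Std p K) (cq : CQ K Q E q)
    (ha : CAlpha K Q E z) (h8 : 8 ≤ q) {r a y : G} (_hr : r ∈ U)
    (hrY : r ∈ cj ρ (centralizer (K : Set G))) (haQ : a ∈ Q) (hy : y ∈ centralizer (K : Set G))
    (hay : r = a * y) : a ∈ E := by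
  classical
  by_contra haE
  obtain ⟨D, hD⟩ : ∃ D : Subgroup G, D = K ⊓ centralizer {w} := ⟨_, rfl⟩
  have hDU : cj ρ D ≤ U := by
    have h1 := cj_mono (g := ρ) (C.D_le h cq ha)
    rwa [C.nU, ← hD] at h1
  -- the intersection with `C(K)`
  have h1 : Nat.card (cj ρ D ⊓ centralizer (K : Set G) : Subgroup G) ≤ 2 := by
    have h2 := C.inv.card_B h cq ha
    have h3 : cj ρ D ⊓ centralizer (K : Set G) =
        cj ρ ((K ⊓ centralizer {w}) ⊓ cj ρ⁻¹ (centralizer (K : Set G))) := by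
      rw [cj_inf, cj_cj_inv, hD]
    rw [h3, card_cj]
    exact h2
  have h2 := C.card_D cq ha
  rw [← hD, ← card_cj ρ D] at h2
  -- the covering
  have h3 := card_cover (cj ρ D) (centralizer (K : Set G)) (K ⊓ centralizer (K : Set G))
    {x : G | x ∈ E ∨ a⁻¹ * x ∈ E} inf_le_right (by
      rintro v hv n hn
      have hnE := cq.cenE n hn.1 hn.2
      rcases hv with hv | hv
      · exact Or.inl (mul_mem hv hnE)
      · right
        rw [← mul_assoc]
        exact mul_mem hv hnE) (by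
      intro d hd
      obtain ⟨a', ha', y', hy', hd'⟩ := C.dec h cq ha (hDU hd)
      refine ⟨a', ?_, ?_⟩
      · -- `r` and `d` commute
        have h4 : r * d = d * r := by
          rw [hD] at hd
          have h5 := mem_cj.mp hd
          have h6 := mem_cj.mp hrY
          have h7 := centralizer_comm h6 h5.1
          calc r * d = ρ * ((ρ⁻¹ * r * ρ) * (ρ⁻¹ * d * ρ)) * ρ⁻¹ := by group
            _ = ρ * ((ρ⁻¹ * d * ρ) * (ρ⁻¹ * r * ρ)) * ρ⁻¹ := by rw [h7]
            _ = d * r := by group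
        rw [hay, hd'] at h4
        exact cq.big a haQ haE a' ha' (comm_mem_of_comm (cq.leK haQ) (cq.leK ha') hy hy' h4)
      · rw [hd']
        have : a'⁻¹ * (a' * y') = y' := by group
        rw [this]
        exact hy')
  -- the size of the covering set
  have h4 : Nat.card {x : G | x ∈ E ∨ a⁻¹ * x ∈ E} ≤ 2 * Nat.card E := by
    let f : {x : G | x ∈ E ∨ a⁻¹ * x ∈ E} → E × Bool := fun x =>
      if hx : (x : G) ∈ E then (⟨x, hx⟩, false) else (⟨a⁻¹ * x, x.2.resolve_left hx⟩, true)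
    have hf : Function.Injective f := by
      intro x y hxy
      by_cases hx : (x : G) ∈ E <;> by_cases hy : (y : G) ∈ E
      · simp only [f, hx, hy, dif_pos] at hxy
        exact Subtype.ext (Subtype.mk.inj (congrArg Prod.fst hxy))
      · simp only [f, hx, hy, dif_pos] at hxy
        exact absurd (congrArg Prod.snd hxy) (by simp)
      · simp only [f, hx, hy, dif_pos] at hxy
        exact absurd (congrArg Prod.snd hxy) (by simp)
      · simp only [f, hx, hy] at hxy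
        exact Subtype.ext (mul_left_cancel (congrArg Subtype.val (congrArg Prod.fst hxy)))
    have := Nat.card_le_card_of_injective f hf
    rw [Nat.card_prod, Nat.card_eq_fintype_card (α := Bool), Fintype.card_bool] at this
    omega
  rw [cq.cardE] at h4
  have hN : 0 < Nat.card (K ⊓ centralizer (K : Set G) : Subgroup G) := Nat.card_pos
  set n := Nat.card (K ⊓ centralizer (K : Set G) : Subgroup G) with hn
  set d := Nat.card (cj ρ D) with hd
  set s := Nat.card (cj ρ D ⊓ centralizer (K : Set G) : Subgroup G) with hs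
  set v := Nat.card {x : G | x ∈ E ∨ a⁻¹ * x ∈ E} with hv
  have h5 : d * n ≤ (2 * (q * n)) * 2 := h3.trans (Nat.mul_le_mul h4 h1)
  have h6 : d * n ≤ (4 * q) * n := by nlinarith
  have h7 : d ≤ 4 * q := Nat.le_of_mul_le_mul_right h6 hN
  nlinarith

/-- `|U ∩ C(K)| ≤ 2` -/
theorem Cfg.card_R (C : Cfg K Q E z w k c ρ U) (h : Std p K) (cq : CQ K Q E q)
    (ha : CAlpha K Q E z) (h8 : 8 ≤ q) :
    Nat.card (U ⊓ centralizer (K : Set G) : Subgroup G) ≤ 2 := by
  have h1 : Nat.card (U ⊓ centralizer (K : Set G) : Subgroup G) =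
      Nat.card (U ⊓ cj ρ (centralizer (K : Set G)) : Subgroup G) := by
    rw [← card_cj ρ (U ⊓ centralizer (K : Set G)), cj_inf, C.nU]
  rw [h1]
  have key : ∀ r ∈ U ⊓ cj ρ (centralizer (K : Set G)),
      r ∈ centralizer (K : Set G) ∨ k⁻¹ * r ∈ centralizer (K : Set G) := by
    intro r hr
    obtain ⟨a, haQ, y, hy, hay⟩ := C.dec h cq ha hr.1
    have haE := C.mem_E h cq ha h8 hr.1 hr.2 haQ hy hay
    have h2 := ha.two a haE k C.kE C.kC (by
      intro x hx hxk
      have hxU := C.mem_U h cq ha hx (comm_iff.1 hxk)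
      have h3 := C.comm_mem h ha hr.2 hxU
      have h4 : ⁅r, x⁆ = ⁅a, x⁆ := by
        have h5 := centralizer_comm hy (cq.leK hx)
        rw [hay, commutatorElement_def, commutatorElement_def]
        calc a * y * x * (a * y)⁻¹ * x⁻¹ = a * (y * x) * y⁻¹ * a⁻¹ * x⁻¹ := by group
          _ = a * (x * y) * y⁻¹ * a⁻¹ * x⁻¹ := by rw [h5]
          _ = a * x * a⁻¹ * x⁻¹ := by group
      have h5 : ⁅a, x⁆ ∈ centralizer (K : Set G) := by
        rw [← commutatorElement_inv]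
        exact inv_mem (cq.comQ x hx a haE)
      have h6 : ⁅r, x⁆ = 1 := by
        refine C.triv h ?_ h3 (by rw [h4]; exact h5)
        rw [commutatorElement_def]
        exact mul_mem (mul_mem (mul_mem hr.1 hxU) (inv_mem hr.1)) (inv_mem hxU)
      rw [h4] at h6
      exact comm_iff.2 (comm_iff.1 h6).symm)
    rcases h2 with h2 | h2
    · left
      rw [hay]
      exact mul_mem h2 hy
    · right
      rw [hay, ← mul_assoc]
      exact mul_mem h2 hy
  apply card_le_two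
  intro b hb hb1 b' hb' hb1'
  have h2 := (key b hb).resolve_left (fun h2 => hb1 (C.triv h hb.1 hb.2 h2))
  have h2' := (key b' hb').resolve_left (fun h2 => hb1' (C.triv h hb'.1 hb'.2 h2))
  have h3 : b⁻¹ * b' ∈ centralizer (K : Set G) := by
    have e : b⁻¹ * b' = (k⁻¹ * b)⁻¹ * (k⁻¹ * b') := by group
    rw [e]
    exact mul_mem (inv_mem h2) h2'
  have h4 := C.triv h (mul_mem (inv_mem hb.1) hb'.1) (mul_mem (inv_mem hb.2) hb'.2) h3
  exact inv_mul_eq_one.mp h4

end cfg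

/-- **The Sylow 2-subgroups of `C(K)` have order 2.** -/
theorem card_two (h : Std p K) (cq : CQ K Q E q) {z : G} (ha : CAlpha K Q E z) (h8 : 8 ≤ q) {g : G}
    (hg : g ∉ normalizer (K : Set G))
    (hev : Even (Nat.card (cj g (centralizer (K : Set G)) ⊓ normalizer (K : Set G) : Subgroup G)))
    {R : Subgroup G} (hR : IsSyl2 (centralizer (K : Set G)) R) : Nat.card R = 2 := by
  have hpf : Fact (Nat.Prime 2) := ⟨Nat.prime_two⟩
  obtain ⟨w, k, c, ρ, U, C, hw2⟩ := exists_cfg h cq ha hg hev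
  have h1 := C.card_R h cq ha h8
  obtain ⟨X, hX⟩ : ∃ X : Subgroup G, X = centralizer {z} ⊓ centralizer {w} := ⟨_, rfl⟩
  have hU : IsSyl2 X U := by rw [hX]; exact C.syl
  have memX : ∀ x, x ∈ X ↔ x * z = z * x ∧ x * w = w * x := by
    intro x
    rw [hX, Subgroup.mem_inf, mem_centralizer_singleton_iff, mem_centralizer_singleton_iff]
  have hXM : ∀ x ∈ X, x ∈ normalizer (K : Set G) := by
    intro x hx
    rw [hX] at hx
    exact h.le_normalizer ha.z2 ha.zC hx.1
  -- `z ∈ U`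
  have hzU : z ∈ U := by
    refine mem_isSyl2 hU ((memX z).2 ⟨rfl, C.comm⟩)
      ⟨1, by rw [pow_one, pow_two, sq_of_orderOf ha.z2]⟩ ?_
    intro s hs
    have h2 := ((memX s).1 (hU.le hs)).1
    rw [← h2, mul_inv_cancel_right]
    exact hs
  have hzne := ne_one_of_orderOf ha.z2
  -- `U ∩ C(K) = {1, z}`
  have h2 : ∀ x ∈ U, x ∈ centralizer (K : Set G) → x = 1 ∨ x = z := by
    intro x hx hxC
    by_contra hcon
    push Not at hcon
    have h3 : Function.Injective (fun i : Fin 3 =>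
        (if i = 0 then (1 : (U ⊓ centralizer (K : Set G) : Subgroup G)) else
          if i = 1 then ⟨z, hzU, ha.zC⟩ else ⟨x, hx, hxC⟩)) := by
      have e1 : (1 : (U ⊓ centralizer (K : Set G) : Subgroup G)) ≠ ⟨z, hzU, ha.zC⟩ :=
        fun h4 => hzne (congrArg Subtype.val h4).symm
      have e2 : (1 : (U ⊓ centralizer (K : Set G) : Subgroup G)) ≠ ⟨x, hx, hxC⟩ :=
        fun h4 => hcon.1 (congrArg Subtype.val h4).symm
      have e3 : (⟨z, hzU, ha.zC⟩ : (U ⊓ centralizer (K : Set G) : Subgroup G)) ≠ ⟨x, hx, hxC⟩ :=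
        fun h4 => hcon.2 (congrArg Subtype.val h4).symm
      intro i j hij
      fin_cases i <;> fin_cases j <;> simp_all
    have h4 := Nat.card_le_card_of_injective _ h3
    rw [Nat.card_eq_fintype_card, Fintype.card_fin] at h4
    omega
  -- `X ∩ C(K)`
  have hW : IsSyl2 (X ⊓ centralizer (K : Set G)) (U ⊓ (X ⊓ centralizer (K : Set G))) := by
    apply isSyl2_inf hU inf_le_left
    intro d hd x hx
    exact ⟨X.mul_mem (X.mul_mem hd hx.1) (X.inv_mem hd), normal_cent K d (hXM d hd) x hx.2⟩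
  have hkK : k ∈ K := cq.leK (cq.leQ C.kE)
  -- `c ∈ U`
  have hcX : c ∈ X := by
    refine (memX c).2 ⟨(centralizer_comm C.cC ha.zK).symm, ?_⟩
    have h3 := centralizer_comm C.cC hkK
    rw [C.eq]
    calc c * (k * c) = (c * k) * c := by group
      _ = k * c * c := by rw [h3]
  have hc2 : ∃ n : ℕ, c ^ 2 ^ n = 1 := by
    obtain ⟨n, hn⟩ := mem_of_pow_two cq.two (cq.leQ C.kE)
    have h3 : Commute k c := centralizer_comm C.cC hkK
    have hww := sq_of_orderOf hw2
    refine ⟨n + 1, ?_⟩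
    have h4 : w ^ 2 ^ (n + 1) = 1 := by
      rw [pow_succ', pow_mul, pow_two, hww, one_pow]
    rw [C.eq, h3.mul_pow] at h4
    have h5 : k ^ 2 ^ (n + 1) = 1 := by rw [pow_succ, pow_mul, hn, one_pow]
    rwa [h5, one_mul] at h4
  have hcU : c ∈ U := by
    have h3 : c ∈ U ⊓ (X ⊓ centralizer (K : Set G)) := by
      refine mem_isSyl2 hW ⟨hcX, C.cC⟩ hc2 ?_
      intro s hs
      -- `s` commutes with `c`
      have h4 := ((memX s).1 hs.2.1).2
      have h5 := centralizer_comm hs.2.2 hkK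
      rw [C.eq] at h4
      have h6 : s * c = c * s := by
        have h7 : k * (s * c) = k * (c * s) := by
          calc k * (s * c) = (k * s) * c := by group
            _ = s * (k * c) := by rw [h5]; group
            _ = k * c * s := h4
            _ = _ := by group
        exact mul_left_cancel h7
      rw [← h6, mul_inv_cancel_right]
      exact hs
    exact h3.1
  -- `X ∩ C(K) = C(K)`
  have hXC : X ⊓ centralizer (K : Set G) = centralizer (K : Set G) := by
    apply le_antisymm inf_le_right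
    intro y hy
    refine ⟨(memX y).2 ⟨(centralizer_comm hy ha.zK).symm, ?_⟩, hy⟩
    have h3 := centralizer_comm hy hkK
    have h4 : y * c = c * y := by
      rcases h2 c hcU C.cC with h5 | h5
      · rw [h5]; group
      · rw [h5]; exact (centralizer_comm hy ha.zK).symm
    rw [C.eq]
    calc y * (k * c) = (y * k) * c := by group
      _ = k * (y * c) := by rw [← h3]; group
      _ = k * c * y := by rw [h4]; group
  rw [hXC] at hW
  have h3 : Nat.card R = Nat.card (U ⊓ centralizer (K : Set G) : Subgroup G) := isSyl2_card hW hR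
  rw [h3]
  apply le_antisymm h1
  have h4 : orderOf z ∣ Nat.card (U ⊓ centralizer (K : Set G) : Subgroup G) := by
    have := orderOf_dvd_natCard (⟨z, hzU, ha.zC⟩ : (U ⊓ centralizer (K : Set G) : Subgroup G))
    rw [← Subgroup.orderOf_coe] at this
    exact this
  rw [ha.z2] at h4
  exact Nat.le_of_dvd Nat.card_pos h4

end Cfsg.Agent.OddCyclic.CaseECovD
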