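import Cfsg.Agent.OddCyclic.CaseECovB
import Cfsg.Agent.OddCyclic.CaseECovD
import Cfsg.Agent.StdSz.Reduce
import Cfsg.Agent.SignalizersComponents.PCompQuot

/-!
# S0342, component type, case E, covers: the end

`false_of_cover`: a standard component `K` with `K / Z(K) ≅ Sz(8)` has trivial centre.
-/

set_option autoImplicit false

namespace Cfsg.Agent.OddCyclic.CaseECovE

open Subgroup
open scoped commutatorElement
open Cfsg.Agent.LieExceptional.CITDefs Cfsg.Agent.LieExceptional.CITBasic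
open Cfsg.Agent.StdSz Cfsg.Agent.StdSz.BorelCoord
open Cfsg.Agent.OddCyclic.CompStandard Cfsg.Agent.OddCyclic.CaseABase
open Cfsg.Agent.OddCyclic.CaseECovA Cfsg.Agent.OddCyclic.CaseECovB
open Cfsg.Agent.OddCyclic.CaseECovC Cfsg.Agent.OddCyclic.CaseECovD

/-- the order of the preimage of a subgroup -/
theorem card_comap {A S : Type*} [Group A] [Finite A] [Group S] (f : A →* S)
    (hf : Function.Surjective f) (H : Subgroup S) :
    Nat.card (H.comap f) = Nat.card H * Nat.card f.ker := by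
  have : Finite S := Finite.of_surjective f hf
  have h1 : (H.comap f).index = H.index := Subgroup.index_comap_of_surjective _ hf
  have h2 := (H.comap f).card_mul_index
  have h3 := H.card_mul_index
  have h4 := f.ker.card_mul_index
  have h5 : f.ker.index = Nat.card S := by
    rw [Subgroup.index_ker, MonoidHom.range_eq_top.mpr hf, Subgroup.card_top]
  rw [h1] at h2
  have h6 : 0 < H.index := Nat.pos_of_ne_zero Subgroup.index_ne_zero_of_finite
  apply Nat.eq_of_mul_eq_mul_right h6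
  rw [h2, ← h4, h5, ← h3]
  ring

section transport

variable {m : ℕ} {F : Type*} [Field F] [Fintype F] [CharP F 2] {S : Type*} [Group S]
  {C : Data m F S} {T : Subgroup S}

/-- the centre of the unipotent subgroup -/
def cenT (C : Data m F S) : Subgroup S where
  carrier := {s | ∃ b, s = C.p 0 b}
  mul_mem' := by
    rintro _ _ ⟨b, rfl⟩ ⟨c, rfl⟩
    exact ⟨b + c, C.p_zero_mul b c⟩
  one_mem' := ⟨0, C.p_zero.symm⟩
  inv_mem' := by
    rintro _ ⟨b, rfl⟩
    refine ⟨b, ?_⟩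
    rw [C.p_inv, zero_pow (by positivity), add_zero]

theorem card_cenT (C : Data m F S) : Nat.card (cenT C) = Fintype.card F := by
  have h : Function.Bijective (fun b : F => (⟨C.p 0 b, b, rfl⟩ : cenT C)) := by
    constructor
    · intro b c h
      exact (C.p_inj _ _ _ _ (congrArg Subtype.val h)).2
    · rintro ⟨_, b, rfl⟩
      exact ⟨b, rfl⟩
  rw [← Nat.card_eq_fintype_card, Nat.card_congr (Equiv.ofBijective _ h)]

variable {G : Type*} [Group G] [Finite G] {K : Subgroup G} {π : ↥K →* S}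

/-- the preimage of the unipotent subgroup -/
def QQ (T : Subgroup S) (π : ↥K →* S) : Subgroup G := (T.comap π).map K.subtype

/-- the preimage of its centre -/
def EE (C : Data m F S) (π : ↥K →* S) : Subgroup G := ((cenT C).comap π).map K.subtype

omit [Finite G] in
theorem mem_QQ {x : G} : x ∈ QQ T π ↔ ∃ h : x ∈ K, π ⟨x, h⟩ ∈ T := CaseESz.mem_map_subtype

omit [Fintype F] [Finite G] in
theorem mem_EE {x : G} : x ∈ EE C π ↔ ∃ h : x ∈ K, ∃ b, π ⟨x, h⟩ = C.p 0 b :=
  CaseESz.mem_map_subtype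

omit [Fintype F] [CharP F 2] [Finite G] in
theorem pi_p_eq_one {a b : F} (h : C.p a b = 1) : a = 0 ∧ b = 0 := by
  rw [← C.p_zero] at h
  exact C.p_inj _ _ _ _ h

theorem cq_of (hE : Ext C T π) (sf : SFacts C T (Fintype.card F)) (hm : 1 ≤ m)
    (hF : Fintype.card F = 2 ^ (2 * m + 1))
    (hker : ∀ x : K, π x = 1 ↔ (x : G) ∈ centralizer (K : Set G))
    {z : K} (hz : π z = 1) (hz2 : z * z = 1) (hz1 : z ≠ 1)
    (hinner : ∀ x ∈ normalizer (K : Set G), (∃ n : ℕ, x ^ 2 ^ n = 1) →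
      ∃ k ∈ K, ∃ c ∈ centralizer (K : Set G), x = k * c) :
    CQ K (QQ T π) (EE C π) (Fintype.card F) := by
  have hpf : Fact (Nat.Prime 2) := ⟨Nat.prime_two⟩
  have hEQ : EE C π ≤ QQ T π := by
    intro x hx
    obtain ⟨h, b, hb⟩ := mem_EE.1 hx
    exact mem_QQ.2 ⟨h, by rw [hb]; exact (sf.memT _).2 ⟨0, b, rfl⟩⟩
  have hcoord : ∀ x (hx : x ∈ QQ T π), ∃ h : x ∈ K, ∃ a b, π ⟨x, h⟩ = C.p a b := by
    intro x hx
    obtain ⟨h, hT⟩ := mem_QQ.1 hx
    exact ⟨h, (sf.memT _).1 hT⟩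
  have hcardN : Nat.card (K ⊓ centralizer (K : Set G) : Subgroup G) = Nat.card π.ker := by
    have : K ⊓ centralizer (K : Set G) = π.ker.map K.subtype := by
      ext x
      rw [CaseESz.mem_map_subtype]
      constructor
      · rintro ⟨h1, h2⟩
        exact ⟨h1, (hker ⟨x, h1⟩).2 h2⟩
      · rintro ⟨h1, h2⟩
        exact ⟨h1, (hker ⟨x, h1⟩).1 h2⟩
    rw [this, Subgroup.card_map_of_injective K.subtype_injective]
  refine
    { leK := Subgroup.map_subtype_le _
      leQ := hEQ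
      two := ?_
      cenE := ?_
      cent := ?_
      sqE := ?_
      comE := ?_
      comQ := ?_
      root := ?_
      out := ?_
      big := ?_
      conj := ?_
      cardE := ?_
      cardQ := ?_
      inner := hinner }
  · refine (sf.two.comap_of_ker_isPGroup π ?_).map _
    rintro ⟨x, hx⟩
    obtain ⟨k, hk⟩ := hE.two x hx
    exact ⟨k, Subtype.ext hk⟩
  · intro x hxK hxC
    exact mem_EE.2 ⟨hxK, 0, by rw [(hker ⟨x, hxK⟩).2 hxC, C.p_zero]⟩
  · intro x hxK e he heC hc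
    obtain ⟨heK, b, hb⟩ := mem_EE.1 he
    have hb0 : b ≠ 0 := by
      rintro rfl
      exact heC ((hker ⟨e, heK⟩).1 (by rw [hb, C.p_zero]))
    refine mem_QQ.2 ⟨hxK, sf.cent _ b hb0 ?_⟩
    have h1 : π ⁅(⟨x, hxK⟩ : K), ⟨e, heK⟩⁆ = 1 := (hker _).2 hc
    rw [map_commutatorElement, commutatorElement_eq_one_iff_mul_comm, hb] at h1
    exact h1
  · intro x hx
    obtain ⟨hxK, a, b, hab⟩ := hcoord x hx
    have h1 : π ((⟨x, hxK⟩ : K) * ⟨x, hxK⟩) = C.p 0 (a ^ (1 + 2 ^ (m + 1))) := by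
      rw [map_mul, hab, C.p_sq]
    constructor
    · intro hxE
      obtain ⟨_, b', hb'⟩ := mem_EE.1 hxE
      have h2 := (C.p_inj _ _ _ _ (hab.symm.trans hb')).1
      have h0 : π ((⟨x, hxK⟩ : K) * ⟨x, hxK⟩) = 1 := by
        rw [h1, h2, zero_pow (by positivity), C.p_zero]
      exact (hker _).1 h0
    · intro h2
      have h3 : π ((⟨x, hxK⟩ : K) * ⟨x, hxK⟩) = 1 := (hker _).2 h2
      rw [h1] at h3
      have h4 := (pi_p_eq_one h3).2
      have h5 : a = 0 := (pow_eq_zero_iff (by positivity)).mp h4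
      exact mem_EE.2 ⟨hxK, b, by rw [hab, h5]⟩
  · intro e he e' he'
    obtain ⟨h1, b, hb⟩ := mem_EE.1 he
    obtain ⟨h2, b', hb'⟩ := mem_EE.1 he'
    have h3 := comm_E hE hm hF hb hb'
    rw [commutatorElement_eq_one_iff_mul_comm] at h3
    exact congrArg Subtype.val h3
  · intro x hx e he
    obtain ⟨h1, a, b, hab⟩ := hcoord x hx
    obtain ⟨h2, b', hb'⟩ := mem_EE.1 he
    exact (hker ⁅(⟨x, h1⟩ : K), ⟨e, h2⟩⁆).1 (pi_comm hab hb')
  · intro e he
    obtain ⟨h1, b, hb⟩ := mem_EE.1 he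
    obtain ⟨a, ha⟩ := sf.root b
    obtain ⟨x, hx⟩ := hE.surj (C.p a 0)
    refine ⟨x, mem_QQ.2 ⟨x.2, by rw [Subtype.coe_eta, hx]; exact (sf.memT _).2 ⟨a, 0, rfl⟩⟩, ?_⟩
    have h2 : π ((⟨e, h1⟩ : K)⁻¹ * (x * x)) = 1 := by
      rw [map_mul, map_inv, map_mul, hx, ha, hb, inv_mul_cancel]
    exact (hker _).1 h2
  · intro x hx hall
    obtain ⟨h1, a, b, hab⟩ := hcoord x hx
    by_cases ha : a = 0
    · exact mem_EE.2 ⟨h1, b, by rw [hab, ha]⟩
    · exfalso
      obtain ⟨e, ⟨b', he⟩, hne⟩ := exists_ne hE hm hF hz hz2 hz1 hab ha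
      apply hne
      rw [commutatorElement_eq_one_iff_mul_comm]
      exact Subtype.ext (hall e (mem_EE.2 ⟨e.2, b', he⟩))
  · intro a haQ haE x hx hc
    obtain ⟨h1, a₀, b₀, hab⟩ := hcoord a haQ
    obtain ⟨h2, c, d, hcd⟩ := hcoord x hx
    have ha0 : a₀ ≠ 0 := by
      rintro rfl
      exact haE (mem_EE.2 ⟨h1, b₀, hab⟩)
    have h3 : π ⁅(⟨a, h1⟩ : K), ⟨x, h2⟩⁆ = 1 := (hker _).2 hc
    rw [map_commutatorElement, commutatorElement_eq_one_iff_mul_comm, hab, hcd] at h3
    rcases sf.comm _ _ _ _ ha0 h3 with h4 | h4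
    · left
      exact mem_EE.2 ⟨h2, d, by rw [hcd, h4]⟩
    · right
      refine mem_EE.2 ⟨K.mul_mem (K.inv_mem h1) h2, ?_⟩
      have h5 : π ((⟨a, h1⟩ : K)⁻¹ * ⟨x, h2⟩) = (C.p a₀ b₀)⁻¹ * C.p c d := by
        rw [map_mul, map_inv, hab, hcd]
      rw [h4, C.p_inv, C.p_mul, CharTwo.add_self_eq_zero] at h5
      exact ⟨_, h5⟩
  · intro k hk hkk
    have h1 : π ⟨k, hk⟩ * π ⟨k, hk⟩ = 1 := by
      rw [← map_mul]
      exact (hker _).2 hkk
    obtain ⟨s, b, hs⟩ := sf.conj _ h1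
    obtain ⟨g, hg⟩ := hE.surj s
    refine ⟨g, g.2, mem_EE.2 ⟨K.mul_mem (K.mul_mem g.2 hk) (K.inv_mem g.2), b, ?_⟩⟩
    have h2 : π (g * ⟨k, hk⟩ * g⁻¹) = C.p 0 b := by rw [map_mul, map_mul, map_inv, hg, hs]
    exact h2
  · rw [hcardN, EE, Subgroup.card_map_of_injective K.subtype_injective, card_comap π hE.surj,
      card_cenT]
  · rw [hcardN, QQ, Subgroup.card_map_of_injective K.subtype_injective, card_comap π hE.surj,
      sf.cardT]

theorem beta_of (hE : Ext C T π) (sf : SFacts C T (Fintype.card F)) (hm : 1 ≤ m)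
    (hF : Fintype.card F = 2 ^ (2 * m + 1)) (h8 : Fintype.card F = 8)
    (hker : ∀ x : K, π x = 1 ↔ (x : G) ∈ centralizer (K : Set G))
    {z z' : K} (hz : π z = 1) (hz2 : z * z = 1) (hz1 : z ≠ 1) (hz' : π z' = 1)
    (hz2' : z' * z' = 1) (hz1' : z' ≠ 1) (hne : z ≠ z') : CBeta K (QQ T π) (EE C π) := by
  intro x hx hxE e he e' he' heC heC' hee hxe hxe'
  obtain ⟨hxK, hxT⟩ := mem_QQ.1 hx
  obtain ⟨a, b, hab⟩ := (sf.memT _).1 hxT
  obtain ⟨h1, b₁, hb₁⟩ := mem_EE.1 he
  obtain ⟨h2, b₂, hb₂⟩ := mem_EE.1 he'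
  have ha : a ≠ 0 := by
    rintro rfl
    exact hxE (mem_EE.2 ⟨hxK, b, hab⟩)
  refine false_of_eight hE hm hF h8 hz hz2 hz1 hz' hz2' hz1' hne hab ha hb₁ hb₂ ?_ ?_ ?_ ?_ ?_
  · rintro rfl
    exact heC ((hker ⟨e, h1⟩).1 (by rw [hb₁, C.p_zero]))
  · rintro rfl
    exact heC' ((hker ⟨e', h2⟩).1 (by rw [hb₂, C.p_zero]))
  · rintro rfl
    apply hee
    refine (hker ((⟨e, h1⟩ : K)⁻¹ * ⟨e', h2⟩)).1 ?_
    rw [map_mul, map_inv, hb₁, hb₂, inv_mul_cancel]
  · rw [commutatorElement_eq_one_iff_mul_comm]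
    exact Subtype.ext hxe
  · rw [commutatorElement_eq_one_iff_mul_comm]
    exact Subtype.ext hxe'

theorem alpha_of (hE : Ext C T π) (sf : SFacts C T (Fintype.card F)) (hm : 1 ≤ m)
    (hF : Fintype.card F = 2 ^ (2 * m + 1))
    (hker : ∀ x : K, π x = 1 ↔ (x : G) ∈ centralizer (K : Set G))
    {z : K} (hz : π z = 1) (hz2 : z * z = 1) (hz1 : z ≠ 1)
    (hu : ∀ x, π x = 1 → x * x = 1 → x = 1 ∨ x = z) : CAlpha K (QQ T π) (EE C π) z := by
  have hA := alpha hE hm hF hz hz2 hz1 hu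
  have hcoord : ∀ x (hx : x ∈ QQ T π), ∃ h : x ∈ K, ∃ a b, π ⟨x, h⟩ = C.p a b := by
    intro x hx
    obtain ⟨h, hT⟩ := mem_QQ.1 hx
    exact ⟨h, (sf.memT _).1 hT⟩
  refine ⟨z.2, (hker z).1 hz, orderOf_eq_two (fun h => hz1 (Subtype.ext h))
    (congrArg Subtype.val hz2), ?_, ?_, ?_⟩
  · intro x hx e he
    obtain ⟨h1, a, b, hab⟩ := hcoord x hx
    obtain ⟨h2, c, hc⟩ := mem_EE.1 he
    rcases hA.val ⟨x, h1⟩ ⟨e, h2⟩ a b c hab hc with h3 | h3
    · exact Or.inl (congrArg Subtype.val h3)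
    · exact Or.inr (congrArg Subtype.val h3)
  · intro e he heC
    obtain ⟨h2, c, hc⟩ := mem_EE.1 he
    obtain ⟨x, a, b, hab, hxz⟩ := hA.right ⟨e, h2⟩ c hc (by
      rintro rfl
      exact heC ((hker ⟨e, h2⟩).1 (by rw [hc, C.p_zero])))
    exact ⟨x, mem_QQ.2 ⟨x.2, by rw [Subtype.coe_eta, hab]; exact (sf.memT _).2 ⟨a, b, rfl⟩⟩,
      congrArg Subtype.val hxz⟩
  · intro e he k hk hkC hall
    obtain ⟨h1, c, hc⟩ := mem_EE.1 he
    obtain ⟨h2, c', hc'⟩ := mem_EE.1 hk
    have h3 := hA.two ⟨e, h1⟩ ⟨k, h2⟩ c c' hc hc' (by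
      rintro rfl
      exact hkC ((hker ⟨k, h2⟩).1 (by rw [hc', C.p_zero]))) (by
      intro x a b hab hxk
      exact Subtype.ext (hall x (mem_QQ.2 ⟨x.2, by
        rw [Subtype.coe_eta, hab]; exact (sf.memT _).2 ⟨a, b, rfl⟩⟩) (congrArg Subtype.val hxk)))
    rcases h3 with h3 | h3
    · left
      exact (hker ⟨e, h1⟩).1 (by rw [hc, h3, C.p_zero])
    · right
      refine (hker ((⟨k, h2⟩ : K)⁻¹ * ⟨e, h1⟩)).1 ?_
      rw [map_mul, map_inv, hc, hc', h3, inv_mul_cancel]

end transport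

section simple

variable {G : Type*} [Group G] [Finite G] [IsSimpleGroup G]

/-- the situation of `StdSz.Reduce` -/
theorem reduce_simple {p : ℕ} {K : Subgroup G} (h : Std p K) : Reduce.Simple K := by
  have hpf : Fact (Nat.Prime 2) := ⟨Nat.prime_two⟩
  have hqs := h.quasi
  have hna : ∃ a b : G, a * b ≠ b * a := by
    by_contra hcon
    push Not at hcon
    exact Cfsg.Agent.SignalizersComponents.Components.quasisimple_not_isMulCommutative hqs
      ⟨⟨fun a b => Subtype.ext (hcon a b)⟩⟩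
  obtain ⟨a, b, hab⟩ := hna
  have hcen : center G = ⊥ := by
    rcases (inferInstance : (center G).Normal).eq_bot_or_eq_top with h1 | h1
    · exact h1
    · exact absurd (mem_center_iff.mp (h1 ▸ mem_top b : b ∈ center G) a) hab
  have hperf : Group.IsPerfect G := by
    constructor
    rcases (inferInstance : (commutator G).Normal).eq_bot_or_eq_top with h1 | h1
    · exfalso
      rw [commutator_def, Subgroup.commutator_eq_bot_iff_le_centralizer] at h1
      exact hab (mem_centralizer_iff.mp (h1 (mem_top a)) b (mem_top b)).symm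
    · exact h1
  have hq : Cfsg.IsQuasisimple G := by
    refine ⟨hperf, ?_⟩
    have e : G ≃* G ⧸ center G :=
      (QuotientGroup.quotientBot.symm).trans (QuotientGroup.quotientMulEquivOfEq hcen.symm)
    exact (MulEquiv.isSimpleGroup_congr e).1 inferInstance
  have hlay : Cfsg.layer G = ⊤ := by
    have h1 : Cfsg.IsComponent (⊤ : Subgroup G) := ⟨Subgroup.IsSubnormal.top,
      Cfsg.Agent.SignalizersComponents.PCompQuot.quasisimple_congr Subgroup.topEquiv.symm hq⟩
    exact eq_top_iff.mpr (le_sSup h1)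
  have hnK : ¬ K.Normal := by
    intro hn
    exact h.ne_top (Subgroup.normalizer_eq_top_iff.mpr hn)
  refine ⟨h.isStandard, hnK, CompBasic.oddCore_eq_bot h.cyc hperf, ?_, ?_, ?_, ?_, ?_⟩
  · have hn : (Cfsg.pCore 2 G).Normal := Cfsg.Agent.Lib.Cores.pCore_normal 2
    rcases hn.eq_bot_or_eq_top with h1 | h1
    · exact h1
    · exfalso
      have h2 : IsPGroup 2 (Cfsg.pCore 2 G) := Cfsg.Agent.Lib.Cores.pCore_isPGroup 2
      rw [h1] at h2
      have h3 : IsPGroup 2 K := h2.to_le le_top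
      obtain ⟨n, hn⟩ := IsPGroup.iff_card.mp h3
      have h4 := h.dvd
      rw [hn] at h4
      exact h.ne_two ((Nat.prime_dvd_prime_iff_eq h.prime Nat.prime_two).mp
        (h.prime.dvd_of_dvd_pow h4))
  · rw [hlay, Subgroup.coe_top, Subgroup.centralizer_univ, hcen]
  · rw [hlay]; exact le_top
  · rw [hlay]
    exact (MulEquiv.isSimpleGroup_congr (Subgroup.topEquiv (G := G))).2 inferInstance
  · rw [hlay]
    intro hc
    exact hab (congrArg Subtype.val
      (hc.is_comm.comm (⟨a, mem_top a⟩ : (⊤ : Subgroup G)) ⟨b, mem_top b⟩))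

/-- **Case E, covers**: a standard component `K` with `K / Z(K) ≅ Sz(8)` has trivial centre. -/
theorem false_of_cover {p : ℕ} {K : Subgroup G} (h : Std p K) {F : Type*} [Field F] [Fintype F]
    (hF8 : Fintype.card F = 8)
    (e : ↥K ⧸ Subgroup.center ↥K ≃* ↥(Cfsg.Lie.Sz F (2 ^ (1 + 1)))) (hne : center K ≠ ⊥) {g : G}
    (hg : g ∉ normalizer (K : Set G))
    (hev : Even (Nat.card (cj g (centralizer (K : Set G)) ⊓ normalizer (K : Set G) : Subgroup G))) :
    False := by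
  classical
  have hpf : Fact (Nat.Prime 2) := ⟨Nat.prime_two⟩
  have hm : 1 ≤ 1 := le_rfl
  have hF : Fintype.card F = 2 ^ (2 * 1 + 1) := by rw [hF8]; norm_num
  have := EquivMaps.charP_two hF
  have hqs := h.quasi
  have hperf : commutator K = ⊤ := hqs.1.commutator_eq_top
  let π : ↥K →* ↥(Cfsg.Lie.Sz F (2 ^ (1 + 1))) := e.toMonoidHom.comp (QuotientGroup.mk' _)
  have hπsurj : Function.Surjective π := e.surjective.comp (QuotientGroup.mk'_surjective _)
  have hπker : ∀ x : K, π x = 1 ↔ x ∈ Subgroup.center ↥K := by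
    intro x
    have h1 : π x = e (QuotientGroup.mk' (Subgroup.center ↥K) x) := rfl
    rw [h1, map_eq_one_iff e e.injective, ← MonoidHom.mem_ker, QuotientGroup.ker_mk']
  have hker : ∀ x : K, π x = 1 ↔ (x : G) ∈ centralizer (K : Set G) := by
    intro x
    rw [hπker, mem_center_iff, mem_centralizer_iff]
    constructor
    · intro h1 k hk
      exact congrArg Subtype.val (h1 ⟨k, hk⟩)
    · intro h1 k
      exact Subtype.ext (h1 k k.2)
  have hcen2 : ∀ x : K, π x = 1 → ∃ k : ℕ, x ^ 2 ^ k = 1 := by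
    intro x hx
    obtain ⟨k, m, hm, hkm⟩ := Nat.exists_eq_two_pow_mul_odd (orderOf_pos x).ne'
    refine ⟨k, ?_⟩
    apply CompBasic.eq_one_of_center (CompBasic.oddCyc_subgroup h.cyc K) hqs.1
      (Subgroup.pow_mem _ ((hπker x).1 hx) _)
    rw [orderOf_pow_of_dvd (by positivity) (by rw [hkm]; exact Dvd.intro m rfl), hkm,
      Nat.mul_div_cancel_left m (by positivity)]
    exact hm
  have sf := szFacts (F := F) hm hF
  have hE : Ext (szData hF) (ThreePrime.SzRel.ofGood (LieRecognition.SzMatrix.good hF)).T π :=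
    ⟨hπsurj, fun x hx y => (Subgroup.mem_center_iff.mp ((hπker x).mp hx) y).symm, hcen2, sf.memT,
      sf.two, sf.odd, hperf⟩
  have hinner : ∀ x ∈ normalizer (K : Set G), (∃ n : ℕ, x ^ 2 ^ n = 1) →
      ∃ k ∈ K, ∃ c ∈ centralizer (K : Set G), x = k * c := by
    rintro x hx ⟨n, hn⟩
    obtain ⟨a, ha⟩ := CoverD.exists_inner hperf hm hF e hx hn
    refine ⟨a, a.2, (a : G)⁻¹ * x, ?_, by group⟩
    rw [mem_centralizer_iff]
    exact fun k hk => (ha k hk).symm
  -- a central involution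
  obtain ⟨z, hz, hz2, hz1⟩ : ∃ z : K, π z = 1 ∧ z * z = 1 ∧ z ≠ 1 := by
    obtain ⟨⟨x, hx⟩, hx1'⟩ := Subgroup.ne_bot_iff_exists_ne_one.mp hne
    have hx1 : x ≠ 1 := fun h => hx1' (Subtype.ext h)
    obtain ⟨k, hk⟩ := hcen2 x ((hπker x).2 hx)
    have h1 : 2 ∣ orderOf x := by
      obtain ⟨i, -, hi⟩ := (Nat.dvd_prime_pow Nat.prime_two).1 (orderOf_dvd_of_pow_eq_one hk)
      rcases Nat.eq_zero_or_pos i with h0 | h0
      · exfalso
        rw [h0, pow_zero, orderOf_eq_one_iff] at hi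
        exact hx1 hi
      · rw [hi]
        exact dvd_pow_self 2 h0.ne'
    refine ⟨x ^ (orderOf x / 2), (hπker _).2 (pow_mem hx _), ?_, ?_⟩
    · rw [← pow_add, ← two_mul, Nat.mul_div_cancel' h1, pow_orderOf_eq_one]
    · intro h2
      have h3 := orderOf_dvd_of_pow_eq_one h2
      have h4 := orderOf_pos x
      have h5 : 0 < orderOf x / 2 := Nat.div_pos (Nat.le_of_dvd h4 h1) (by norm_num)
      have h6 := Nat.le_of_dvd h5 h3
      omega
  have hord : ∀ y : K, y * y = 1 → y ≠ 1 → orderOf (y : G) = 2 := fun y h1 h2 =>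
    orderOf_eq_two (fun h => h2 (Subtype.ext h)) (congrArg Subtype.val h1)
  have cq := cq_of hE sf hm hF hker hz hz2 hz1 hinner
  by_cases hu : ∀ x : K, π x = 1 → x * x = 1 → x = 1 ∨ x = z
  · -- one involution
    have ha := alpha_of hE sf hm hF hker hz hz2 hz1 hu
    have h8 : 8 ≤ Fintype.card F := hF8.ge
    have hR2 : ∀ R : Sylow 2 ↥(centralizer (K : Set G)),
        IsCyclic ↥(R : Subgroup ↥(centralizer (K : Set G))) := by
      intro R
      have h1 : IsSyl2 (centralizer (K : Set G))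
          ((R : Subgroup ↥(centralizer (K : Set G))).map (centralizer (K : Set G)).subtype) := by
        refine ⟨Subgroup.map_subtype_le _, R.isPGroup'.map _, fun Y hY hY2 hle => ?_⟩
        have h2 := R.is_maximal' (Q := Y.subgroupOf (centralizer (K : Set G)))
          hY2.comap_subtype (by
            intro x hx
            exact hle ⟨x, hx, rfl⟩)
        rw [← h2, Subgroup.subgroupOf_map_subtype, inf_eq_left.mpr hY]
      have h2 := card_two h cq ha h8 hg hev h1
      rw [Subgroup.card_map_of_injective (Subgroup.subtype_injective _)] at h2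
      exact isCyclic_of_prime_card (p := 2) h2
    have hodd := CoverD.odd_center (reduce_simple h) hm hF e hR2 (hord z hz2 hz1)
      ((hker z).1 hz)
    have h3 : orderOf z ∣ Nat.card (center K) := by
      have := orderOf_dvd_natCard (⟨z, (hπker z).1 hz⟩ : center K)
      rwa [Subgroup.orderOf_mk] at this
    have h4 : orderOf z = 2 := orderOf_eq_two hz1 hz2
    rw [h4] at h3
    exact (Nat.not_even_iff_odd.mpr hodd) (even_iff_two_dvd.mpr h3)
  · push Not at hu
    obtain ⟨z', hz', hz2', hz1', hne'⟩ := hu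
    have hb := beta_of hE sf hm hF hF8 hker hz hz2 hz1 hz' hz2' hz1' (Ne.symm hne')
    exact false_of_beta h cq hb z.2 ((hker z).1 hz) (hord z hz2 hz1) z'.2 ((hker z').1 hz')
      (hord z' hz2' hz1') (fun h1 => hne' (Subtype.ext h1).symm) hg hev

end simple

end Cfsg.Agent.OddCyclic.CaseECovE
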