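import Mathlib
import Cfsg.Agent.OddCyclic.CompStandard
import Cfsg.Agent.StdSz.Main
import Cfsg.Agent.PLocal.PConstrained

/-!
# S0342, component type, case E (`K / Z(K) ≅ Sz(q)`): the Sylow 2-subgroups of `C(K)` are not cyclic

A corollary of the theorem on standard subgroups of Suzuki type (S1772).
-/

set_option autoImplicit false

namespace Cfsg.Agent.OddCyclic.CompSzCyc

open Subgroup Cfsg
open Cfsg.Agent.OddCyclic.T1Defs Cfsg.Agent.OddCyclic.CompBasic
open Cfsg.Agent.OddCyclic.CompStandard
open Cfsg.Agent.LieExceptional Cfsg.Agent.LieExceptional.CITDefs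
open Cfsg.Agent.LieExceptional.CITBasic

universe u

/-- `A × A` is not simple. -/
theorem not_simple_prod {X A : Type*} [Group X] [Group A] [Nontrivial A] [IsSimpleGroup X]
    (e : X ≃* A × A) : False := by
  have hn : ((MonoidHom.fst A A).comp e.toMonoidHom).ker.Normal := inferInstance
  obtain ⟨a, ha⟩ := exists_ne (1 : A)
  rcases hn.eq_bot_or_eq_top with h | h
  · have h1 : e.symm (1, a) ∈ ((MonoidHom.fst A A).comp e.toMonoidHom).ker := by
      rw [MonoidHom.mem_ker]
      show (e (e.symm (1, a))).1 = 1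
      rw [MulEquiv.apply_symm_apply]
    rw [h, mem_bot] at h1
    have h2 := congrArg e h1
    rw [MulEquiv.apply_symm_apply, map_one] at h2
    exact ha (congrArg Prod.snd h2)
  · have h1 : e.symm (a, 1) ∈ ((MonoidHom.fst A A).comp e.toMonoidHom).ker := by
      rw [h]; exact mem_top _
    rw [MonoidHom.mem_ker] at h1
    have h2 : (e (e.symm (a, 1))).1 = 1 := h1
    rw [MulEquiv.apply_symm_apply] at h2
    exact ha h2

variable {G : Type u} [Group G] [Finite G] {p : ℕ} {K : Subgroup G}

theorem Std.odd_core [IsSimpleGroup G] (h : Std p K) : Cfsg.oddCore G = ⊥ := by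
  have hn : (Cfsg.pPrimeCore 2 G).Normal := inferInstance
  rcases hn.eq_bot_or_eq_top with h1 | h1
  · exact h1
  · exfalso
    obtain ⟨t, ht, -⟩ := h.ex
    have hpf : Fact (Nat.Prime 2) := ⟨Nat.prime_two⟩
    have h2 := Cfsg.Agent.PLocal.PConstrained.coprime_card_pPrimeCore (G := G) (p := 2)
    rw [h1, Subgroup.card_top] at h2
    have h3 : 2 ∣ Nat.card G := by rw [← ht]; exact orderOf_dvd_natCard t
    have h4 : 2 ∣ Nat.gcd (Nat.card G) 2 := Nat.dvd_gcd h3 (dvd_refl 2)
    rw [h2] at h4
    exact absurd h4 (by norm_num)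

/-- **Case E, cyclic `R`.** -/
theorem false_of_cyclic [IsSimpleGroup G] (h : Std p K)
    (hK : Cfsg.Lie.IsoSuzuki (K ⧸ center K))
    (gold : StdSz.EndClosed.Gold.{u}) (h1170 : StdSz.Out.S1170Stmt.{u})
    {R : Subgroup G} (hR : IsSyl2 (centralizer (K : Set G)) R) (hcyc : IsCyclic R) : False := by
  have hpf : Fact (Nat.Prime 2) := ⟨Nat.prime_two⟩
  obtain ⟨F, _, _, m, hm, hF, ⟨e⟩⟩ := hK
  have hstd := h.isStandard
  have hnn : ¬ K.Normal := fun hn => h.ne_top (Subgroup.normalizer_eq_top_iff.mpr hn)
  have hO := Std.odd_core h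
  obtain ⟨t, ht, hKt⟩ := h.ex
  have htK := mem_centralizer_of_cmp hKt
  have hRc : ∀ R : Sylow 2 ↥(centralizer (K : Set G)),
      IsCyclic ↥(R : Subgroup ↥(centralizer (K : Set G))) := by
    intro Q
    have h1 : IsSyl2 (centralizer (K : Set G))
        ((Q : Subgroup ↥(centralizer (K : Set G))).map (centralizer (K : Set G)).subtype) := by
      refine ⟨Subgroup.map_subtype_le _, Q.isPGroup'.map _, fun Y hY hY2 hle => ?_⟩
      have h1 : (Q : Subgroup _) ≤ Y.subgroupOf (centralizer (K : Set G)) := by
        intro x hx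
        exact Subgroup.mem_subgroupOf.mpr (hle ⟨x, hx, rfl⟩)
      have h2 : IsPGroup 2 (Y.subgroupOf (centralizer (K : Set G))) := hY2.comap_subtype
      have h3 := Q.is_maximal' h2 h1
      have h4 : (Y.subgroupOf (centralizer (K : Set G))).map (centralizer (K : Set G)).subtype = Y := by
        rw [Subgroup.subgroupOf_map_subtype, inf_eq_left.mpr hY]
      rw [← h4, h3]
    obtain ⟨g, -, hg⟩ := CITBasic.IsSyl2.conj hR h1
    have h2 : IsCyclic (R.map (MulAut.conj g).toMonoidHom) :=
      isCyclic_of_surjective ((MulAut.conj g).toMonoidHom.subgroupMap R)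
        ((MulAut.conj g).toMonoidHom.subgroupMap_surjective R)
    have h3 : IsCyclic ((Q : Subgroup ↥(centralizer (K : Set G))).map
        (centralizer (K : Set G)).subtype) := by rw [hg]; exact h2
    exact (Q : Subgroup ↥(centralizer (K : Set G))).equivMapOfInjective _
      (centralizer (K : Set G)).subtype_injective |>.isCyclic.mpr h3
  have hln : (Cfsg.layer G).Normal := Cfsg.Agent.SignalizersComponents.Components.layer_normal G
  have hKnt := Cfsg.Agent.SignalizersComponents.Components.quasisimple_nontrivial h.quasi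
  rcases StdSz.Reduce.prod_or_simple hstd hnn hO ht htK with ⟨⟨f⟩⟩ | S
  · rcases hln.eq_bot_or_eq_top with h1 | h1
    · obtain ⟨a, ha⟩ := exists_ne (1 : K)
      apply ha
      have h2 : f.symm (a, 1) = 1 := by
        apply Subtype.ext
        have h4 : ∀ x ∈ Cfsg.layer G, x = 1 := fun x hx => by rwa [h1, mem_bot] at hx
        exact h4 _ (f.symm (a, 1)).2
      have h3 := congrArg f h2
      rw [MulEquiv.apply_symm_apply, map_one] at h3
      exact congrArg Prod.fst h3
    · have e1 : G ≃* Cfsg.layer G := (Subgroup.topEquiv.symm).trans (MulEquiv.subgroupCongr h1.symm)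
      exact not_simple_prod (e1.trans f)
  · have h1 : Cfsg.layer G = ⊤ := by
      rcases hln.eq_bot_or_eq_top with h1 | h1
      · exfalso
        have h2 := S.le_layer
        rw [h1, le_bot_iff] at h2
        rw [Subgroup.nontrivial_iff_ne_bot] at hKnt
        exact hKnt h2
      · exact h1
    have h2 := (StdSz.Main.of_simple gold h1170 S hRc ht htK hm hF ⟨e⟩).1
    apply h2
    rw [h1]
    exact mem_top t

end Cfsg.Agent.OddCyclic.CompSzCyc
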