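import Cfsg.Agent.OddCyclic.CompStandard
import Cfsg.Agent.OddCyclic.CaseESz

/-!
# S0342, component type, case E: `K ≅ Sz(q)`, `C(K)` with noncyclic Sylow 2-subgroups: the situation
-/

set_option autoImplicit false

namespace Cfsg.Agent.OddCyclic.CompSzDefs

open Subgroup
open Cfsg.Agent.LieExceptional.CITDefs
open Cfsg.Agent.OddCyclic.CompStandard Cfsg.Agent.OddCyclic.CaseESz

/-- The situation of case E with noncyclic `R ∈ Syl₂(C(K))`: `K ≅ Sz(q)`, `Q ∈ Syl₂(K)`, `E = Z(Q)`, `H` a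
complement of `Q` in `N_K(Q)`, `S = RQ ∈ Syl₂(N(K))`. -/
structure Sit {G : Type*} [Group G] (p : ℕ) (K R Q E H S : Subgroup G) (q : ℕ) : Prop where
  std : Std p K
  sz : SzK K q
  szb : SzB K Q E H q
  sylQ : IsSyl2 K Q
  sylR : IsSyl2 (centralizer (K : Set G)) R
  sylS : IsSyl2 (normalizer (K : Set G)) S
  mem_S : ∀ x : G, x ∈ S ↔ ∃ r ∈ R, ∃ k ∈ Q, x = r * k
  elemR : ∀ r ∈ R, r * r = 1
  four : 4 ≤ Nat.card R
  move : ∃ n : G, (∀ s ∈ S, n * s * n⁻¹ ∈ S) ∧ n ∉ normalizer (K : Set G)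

end Cfsg.Agent.OddCyclic.CompSzDefs
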