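import Cfsg.Agent.RuD.Letters
import Cfsg.Agent.RuLat.Main
import Cfsg.Agent.OddCyclic.CompBasic

/-!
# The Sylow 3-subgroups of the Rudvalis group are not cyclic

Two commuting elements of order 3 of the automorphism group of the Rudvalis graph generating a noncyclic group; the
relations are evaluated in the kernel at the four base points.
-/

set_option autoImplicit false
set_option maxRecDepth 100000
set_option exponentiation.threshold 5000

namespace Cfsg.Agent.OddCyclic.RuNot

open Subgroup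
open Cfsg.Agent.Lib Cfsg.Agent.Lib.BitNet Cfsg.Agent.SporadicB Cfsg.Agent.SporadicB.RuData
open Cfsg.Agent.SporadicB.RuOrder
open Cfsg.Agent.RuD.Data Cfsg.Agent.RuD.Letters Cfsg.Agent.SporRec.TCUpperCert Cfsg.Agent.SporRec.R3.Kernel
open Cfsg.Agent.OddCyclic.T1Defs

/-- the word of a conjugate of `D` commuting with `D` -/
def wB : List ℕ := [3, 5, 0, 4, 1, 1, 7, 5, 7, 1, 3, 0, 4, 0, 7, 6, 3, 5, 3, 6, 6, 8, 0, 5, 7]

/-- the word of its inverse -/
def wC : List ℕ := [3, 5, 0, 4, 1, 1, 7, 5, 7, 1, 3, 0, 8, 0, 7, 6, 3, 5, 3, 6, 6, 8, 0, 5, 7]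

theorem chk : chkRel [[4, 4, 4], wB ++ (wB ++ wB), wB ++ wC, [4] ++ (wB ++ ([8] ++ wC))] = true := by
  decide +kernel

theorem ev1 : Nat.beq (evalK wB 0) 3755 = true := by decide +kernel
theorem ev2 : Nat.beq (evalK [4] 0) 3641 = true := by decide +kernel
theorem ev3 : Nat.beq (evalK [4, 4] 0) 395 = true := by decide +kernel

theorem lv4 : lv ml 4 = D := rfl
theorem lv8 : lv ml 8 = D⁻¹ := rfl

theorem wprod4 : wprod ml [4] = D := by rw [wprod_cons, wprod_nil, mul_one, lv4]
theorem wprod8 : wprod ml [8] = D⁻¹ := by rw [wprod_cons, wprod_nil, mul_one, lv8]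

theorem not_oddCyc_H : ¬ OddCyc RuOrder.H := by
  intro h
  have rel := rel_of_chk chk
  set B : RuOrder.H := wprod ml wB with hB
  have hD3 : D ^ 3 = 1 := by
    have h1 := rel [4, 4, 4] (by simp)
    rw [wprod_cons, wprod_cons, wprod4, lv4] at h1
    rw [pow_succ, pow_two, mul_assoc]
    exact h1
  have hB3 : B ^ 3 = 1 := by
    have h1 := rel (wB ++ (wB ++ wB)) (by simp)
    rw [wprod_append, wprod_append, ← hB] at h1
    rw [pow_succ, pow_two, mul_assoc]
    exact h1
  have hC : wprod ml wC = B⁻¹ := by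
    have h1 := rel (wB ++ wC) (by simp)
    rw [wprod_append, ← hB] at h1
    exact (inv_eq_of_mul_eq_one_right h1).symm
  have hcomm : Commute D B := by
    have h1 := rel ([4] ++ (wB ++ ([8] ++ wC))) (by simp)
    rw [wprod_append, wprod_append, wprod_append, wprod4, wprod8, hC, ← hB] at h1
    have h2 : D * B * (B * D)⁻¹ = 1 := by
      rw [mul_inv_rev, mul_assoc, h1]
    exact mul_inv_eq_one.mp h2
  have e0 : (((1 : RuOrder.H) : Equiv.Perm (Fin 4060)) b1 : ℕ) = 0 := rfl
  have eB : ((B : Equiv.Perm (Fin 4060)) b1 : ℕ) = 3755 := by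
    rw [hB, evalK_eq]; exact Nat.eq_of_beq_eq_true ev1
  have eD : ((D : Equiv.Perm (Fin 4060)) b1 : ℕ) = 3641 := by
    rw [← wprod4, evalK_eq]; exact Nat.eq_of_beq_eq_true ev2
  have eD2 : (((D ^ 2 : RuOrder.H) : Equiv.Perm (Fin 4060)) b1 : ℕ) = 395 := by
    have h1 : D ^ 2 = wprod ml [4, 4] := by rw [wprod_cons, wprod4, lv4, pow_two]
    rw [h1, evalK_eq]; exact Nat.eq_of_beq_eq_true ev3
  have hD1 : D ≠ 1 := by
    intro h1
    rw [h1, e0] at eD
    exact absurd eD (by norm_num)
  have hB1 : B ≠ 1 := by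
    intro h1
    rw [h1, e0] at eB
    exact absurd eB (by norm_num)
  have hoD : orderOf D = 3 := orderOf_eq_prime hD3 hD1
  have hoB : orderOf B = 3 := orderOf_eq_prime hB3 hB1
  have hz := CompBasic.zpowers_eq_of_commute h Nat.prime_three (by norm_num) hoD hoB hcomm
  have hmem : B ∈ zpowers D := hz ▸ mem_zpowers B
  rw [mem_zpowers_iff_mem_range_orderOf, hoD, Finset.mem_image] at hmem
  obtain ⟨k, hk, hkB⟩ := hmem
  rw [Finset.mem_range] at hk
  interval_cases k
  · exact hB1 (by rw [← hkB, pow_zero])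
  · rw [← hkB, pow_one, eD] at eB
    exact absurd eB (by norm_num)
  · rw [← hkB, eD2] at eB
    exact absurd eB (by norm_num)

/-- **The Rudvalis group has a noncyclic Sylow subgroup of odd order.** -/
theorem not_oddCyc_ru {G : Type*} [Group G] [Finite G] (h : Cfsg.Spor.IsoRu G) : ¬ OddCyc G := by
  obtain ⟨e⟩ := h
  intro hc
  have e' : RuOrder.H ≃* G := (RuLat.Main.equiv.symm).trans e.symm
  exact not_oddCyc_H (CompBasic.oddCyc_of_injective hc e'.toMonoidHom e'.injective)

end Cfsg.Agent.OddCyclic.RuNot
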