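import Cfsg.Agent.S1768
import Cfsg.Agent.OddCyclic.RuNot
import Cfsg.Agent.OddCyclic.CompSzCyc
import Cfsg.Agent.OddCyclic.CompSzDefs

/-!
# S0342, component type, case E: `K ≅ Sz(8)`, `C(K)` of 2-rank at least 2

* `hasStrongBProperty`: a finite group with cyclic odd Sylow subgroups has the strong B-property;
* `false_of_eight`: by S1768 the group would be the Rudvalis group, whose Sylow 3-subgroups are not cyclic.
-/

set_option autoImplicit false

namespace Cfsg.Agent.OddCyclic.CaseEEight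

open Subgroup Cfsg
open Cfsg.Agent.OddCyclic.T1Defs Cfsg.Agent.OddCyclic.CompBasic
open Cfsg.Agent.OddCyclic.CompStandard
open Cfsg.Agent.SignalizersComponents.Components

variable {G : Type*} [Group G] [Finite G]

/-- The odd core is a Z-group. -/
theorem isZGroup_oddCore (h : OddCyc G) : IsZGroup (oddCore G) := by
  have hodd : Odd (Nat.card (oddCore G)) :=
    Nat.coprime_two_right.mp (Cfsg.Agent.Lib.Cores.pPrimeCore_coprime 2)
  rw [isZGroup_iff]
  intro p hp P
  by_cases hp2 : p = 2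
  · subst hp2
    have hpf : Fact (Nat.Prime 2) := ⟨hp⟩
    have h1 : (P : Subgroup (oddCore G)) = ⊥ := by
      rw [← Subgroup.card_eq_one]
      obtain ⟨n, hn⟩ := IsPGroup.iff_card.mp P.isPGroup'
      have h3 : Odd (Nat.card P) := Odd.of_dvd_nat hodd (Subgroup.card_subgroup_dvd_card _)
      rw [hn] at h3 ⊢
      rcases Nat.eq_zero_or_pos n with h4 | h4
      · rw [h4, pow_zero]
      · exact absurd (Nat.even_pow.mpr ⟨even_two, h4.ne'⟩) (Nat.not_even_iff_odd.mpr h3)
    rw [h1]
    infer_instance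
  · exact oddCyc_subgroup h (oddCore G) p P hp hp2

theorem hasBProperty (h : OddCyc G) : HasBProperty G := by
  intro t _
  have hC := oddCyc_subgroup h (centralizer ({t} : Set G))
  have hz := isZGroup_oddCore hC
  have h1 : ⁅layer ↥(centralizer ({t} : Set G)), oddCore ↥(centralizer ({t} : Set G))⁆ = ⊥ := by
    apply layer_commutator_solvable
    · have hn : (oddCore ↥(centralizer ({t} : Set G))).Normal := inferInstance
      rw [Subgroup.normalizer_eq_top_iff.mpr hn]
      exact le_top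
    · infer_instance
  rw [pLayer_eq_layer hC, h1, Subgroup.map_bot]
  exact bot_le

/-- A finite group with cyclic odd Sylow subgroups has the strong B-property. -/
theorem hasStrongBProperty (h : OddCyc G) : HasStrongBProperty G :=
  fun H N _ => hasBProperty (oddCyc_quotient (oddCyc_subgroup h H) N)

theorem not_pRankLE {K R : Subgroup G} (hR : R ≤ centralizer (K : Set G)) (h2 : ∀ r ∈ R, r * r = 1)
    (h4 : 4 ≤ Nat.card R) : ¬ PRankLE 2 1 ↥(centralizer (K : Set G)) := by
  intro h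
  have h1 := h (R.subgroupOf (centralizer (K : Set G))) ?_ ?_
  · rw [Nat.card_congr (Subgroup.subgroupOfEquivOfLe hR).toEquiv] at h1
    omega
  · refine ⟨⟨?_⟩⟩
    rintro ⟨⟨a, haC⟩, haR⟩ ⟨⟨b, hbC⟩, hbR⟩
    apply Subtype.ext
    apply Subtype.ext
    change a * b = b * a
    have ha : a ∈ R := haR
    have hb : b ∈ R := hbR
    have h3 := h2 _ (mul_mem ha hb)
    have h5 : a⁻¹ = a := inv_eq_of_mul_eq_one_right (h2 a ha)
    have h6 : b⁻¹ = b := inv_eq_of_mul_eq_one_right (h2 b hb)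
    calc a * b = (a * b)⁻¹ := (inv_eq_of_mul_eq_one_right h3).symm
      _ = b * a := by rw [mul_inv_rev, h5, h6]
  · rintro ⟨a, haC⟩ haR
    apply Subtype.ext
    change a ^ 2 = 1
    rw [pow_two]
    exact h2 a haR

variable {p : ℕ} {K : Subgroup G}

/-- **Case E, `K ≅ Sz(8)`, `C(K)` of 2-rank at least 2.** -/
theorem false_of_eight [IsSimpleGroup G] (hG : OddCyc G) (h : Std p K) {F : Type*} [Field F]
    [Fintype F] (hF : Fintype.card F = 8) (e : Nonempty (↥K ≃* ↥(Cfsg.Lie.Sz F 4)))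
    (hR : ¬ PRankLE 2 1 ↥(centralizer (K : Set G))) : False := by
  rcases Cfsg.Agent.S1768.result (CompSzCyc.Std.odd_core h) (hasStrongBProperty hG) K
    h.isStandard hF e hR with h1 | h1
  · exact h.ne_top (Subgroup.normalizer_eq_top_iff.mpr h1)
  · exact RuNot.not_oddCyc_ru h1 (oddCyc_subgroup hG _)

/-- the same, `K` given as a Suzuki group of order 29120, with an elementary abelian 2-subgroup -/
theorem false_of_card [IsSimpleGroup G] (hG : OddCyc G) (h : Std p K) (hK : Cfsg.Lie.IsoSuzuki K)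
    (hc : Nat.card K = (8 ^ 2 + 1) * 8 ^ 2 * (8 - 1)) {R : Subgroup G}
    (hR : R ≤ centralizer (K : Set G)) (h2 : ∀ r ∈ R, r * r = 1) (h4 : 4 ≤ Nat.card R) : False := by
  obtain ⟨F, iF, iFin, m, hm, hF, ⟨e⟩⟩ := hK
  have h1 : Nat.card K = ((2 ^ (2 * m + 1)) ^ 2 + 1) * (2 ^ (2 * m + 1)) ^ 2 * (2 ^ (2 * m + 1) - 1) := by
    rw [Nat.card_congr e.toEquiv, (Cfsg.Agent.S1163.result hm hF).1]
    ring
  have h5 : m = 1 := by
    by_contra hne
    have h6 : 2 ≤ m := by omega
    have h7 : 32 ≤ 2 ^ (2 * m + 1) :=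
      le_trans (by norm_num) (Nat.pow_le_pow_right (by norm_num) (show 5 ≤ 2 * m + 1 by omega))
    rw [h1] at hc
    have h8 : (32 ^ 2 + 1) * 32 ^ 2 * (32 - 1) ≤
        ((2 ^ (2 * m + 1)) ^ 2 + 1) * (2 ^ (2 * m + 1)) ^ 2 * (2 ^ (2 * m + 1) - 1) := by
      gcongr
    rw [hc] at h8
    norm_num at h8
  subst h5
  exact false_of_eight hG h (F := F) (by rw [hF]; norm_num) ⟨e⟩ (not_pRankLE hR h2 h4)

/-- **Case E, `q = 8`.** -/
theorem false_of_sit [IsSimpleGroup G] (hG : OddCyc G) {R Q E H S : Subgroup G} {q : ℕ}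
    (s : CompSzDefs.Sit p K R Q E H S q) (hK : Cfsg.Lie.IsoSuzuki K) (hq : q = 8) : False := by
  subst hq
  exact false_of_card hG s.std hK s.sz.card s.sylR.1 s.elemR s.four

end Cfsg.Agent.OddCyclic.CaseEEight
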