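import Cfsg.Agent.OddCyclic.CompStandard

/-!
# S0342, component type, case E (`K` a Suzuki group): the layer theorem, statement

blueprints/S0342-caseE.md, sections 6 and 8. `T = C_G(E)`, `S = R × Q` with `Q` a Sylow 2-subgroup of `K ≅ Sz(q)`,
`E = Z(Q)`, `H` a complement of `Q` in `N_K(Q)`.
-/

set_option autoImplicit false

namespace Cfsg.Agent.OddCyclic.CaseELayDefs

open Subgroup
open Cfsg.Agent.LieExceptional Cfsg.Agent.LieExceptional.CITDefs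

variable {G : Type*} [Group G]

/-- the hypotheses of the layer theorem -/
structure LayE (T R Q E H : Subgroup G) (q : ℕ) : Prop where
  two : IsPGroup 2 T
  leR : R ≤ T
  leQ : Q ≤ T
  leE : E ≤ Q
  elemR : Elem R
  bigR : 4 ≤ Nat.card R
  big : 16 ≤ q
  cardE : Nat.card E = q
  cardH : Nat.card H = q - 1
  /-- `E` is central in `T` -/
  cen : ∀ e ∈ E, ∀ x ∈ T, e * x = x * e
  commRQ : ∀ r ∈ R, ∀ y ∈ Q, r * y = y * r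
  disj : R ⊓ Q = ⊥
  mem_E : ∀ x ∈ Q, x ∈ E ↔ x * x = 1
  sq_mem : ∀ x ∈ Q, x * x ∈ E
  sq_inj : ∀ x ∈ Q, ∀ y ∈ Q, x * x = y * y → x⁻¹ * y ∈ E
  sq_surj : ∀ e ∈ E, ∃ x ∈ Q, x * x = e
  /-- `C_Q(u) = ⟨u⟩E` for `u ∈ Q - E` -/
  centQ : ∀ u ∈ Q, u ∉ E → ∀ x ∈ Q, x * u = u * x → x ∈ E ∨ u⁻¹ * x ∈ E
  commH : ∀ h ∈ H, ∀ k ∈ H, h * k = k * h
  normT : ∀ h ∈ H, ∀ x ∈ T, h * x * h⁻¹ ∈ T
  normQ : ∀ h ∈ H, ∀ x ∈ Q, h * x * h⁻¹ ∈ Q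
  fixR : ∀ h ∈ H, ∀ r ∈ R, h * r = r * h
  fpf : ∀ h ∈ H, h ≠ 1 → ∀ x ∈ T, h * x = x * h → x ∈ R
  /-- `H` is transitive on `E#` -/
  trans : ∀ e ∈ E, ∀ f ∈ E, e ≠ 1 → f ≠ 1 → ∃ h ∈ H, h * e * h⁻¹ = f
  /-- `H` is transitive on `(Q/E)#` -/
  trans' : ∀ x ∈ Q, ∀ y ∈ Q, x ∉ E → y ∉ E → ∃ h ∈ H, ∃ e ∈ E, h * x * h⁻¹ = y * e
  /-- `C_T(t) = RQ` -/
  cent : ∀ t ∈ R, t ≠ 1 → ∀ x ∈ T, x * t = t * x → ∃ r ∈ R, ∃ y ∈ Q, x = r * y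

/-- the conclusion of the layer theorem -/
structure LayEFin (T R Q E : Subgroup G) (q : ℕ) : Prop where
  sq : ∀ x ∈ T, x * x ∈ E
  comm : ∀ x ∈ T, ∀ y ∈ T, x * y * x⁻¹ * y⁻¹ ∈ E
  card : Nat.card T = Nat.card R * q ^ 3

end Cfsg.Agent.OddCyclic.CaseELayDefs
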