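import Cfsg.Agent.OddCyclic.CaseELayDefs
import Cfsg.Agent.OddCyclic.CaseALayer
import Cfsg.Agent.OddCyclic.B2Tools

/-!
# S0342, component type, case E (`K` a Suzuki group): the layer theorem

blueprints/S0342-caseE.md, section 8.
-/

set_option autoImplicit false
set_option linter.unusedSectionVars false

namespace Cfsg.Agent.OddCyclic.CaseELayer

open Subgroup
open Cfsg.Agent.LieExceptional Cfsg.Agent.LieExceptional.CITDefs
open Cfsg.Agent.OddCyclic.CaseELayDefs Cfsg.Agent.OddCyclic.CaseALayDefs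

variable {G : Type*} [Group G] {T R Q E H : Subgroup G} {q : ℕ}

/-! ### general lemmas -/

/-- `h`-invariant subsets of size a power of 2 of a 2-group contain fixed points of `h`, `h` of odd order -/
theorem exists_fixed [Finite G] (hodd : Odd (Nat.card H)) (hfpf : ∀ h ∈ H, h ≠ 1 → ∀ x ∈ T, h * x = x * h → x ∈ R)
    {h : G} (hh : h ∈ H) (h1 : h ≠ 1) (C : Set G) (hCT : C ⊆ T) (hC : ∀ x ∈ C, h * x * h⁻¹ ∈ C)
    (hcard : ∃ n, Nat.card C = 2 ^ n) : ∃ x ∈ C, x ∈ R := by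
  classical
  have ho : orderOf h ≠ 1 := fun h1' => h1 (orderOf_eq_one_iff.mp h1')
  obtain ⟨r, hr, k, hk⟩ := Nat.exists_prime_and_dvd ho
  have hrp : Fact r.Prime := ⟨hr⟩
  have hpos : 0 < orderOf h := orderOf_pos h
  have hr2 : r ≠ 2 := by
    rintro rfl
    have h3 : orderOf h ∣ Nat.card H := H.orderOf_dvd_natCard hh
    exact (Nat.not_even_iff_odd.mpr hodd) (even_iff_two_dvd.mpr ((hk ▸ dvd_mul_right 2 k : 2 ∣ orderOf h).trans h3))
  have hpow : (h ^ k) ^ r = 1 := by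
    rw [← pow_mul, mul_comm, ← hk, pow_orderOf_eq_one]
  have hk1 : h ^ k ≠ 1 := by
    intro h2
    have h3 : orderOf h ∣ k := orderOf_dvd_of_pow_eq_one h2
    have h4 : 0 < k := by
      rcases Nat.eq_zero_or_pos k with h4 | h4
      · rw [h4] at hk; omega
      · exact h4
    have h5 := Nat.le_of_dvd h4 h3
    rw [hk] at h5
    have h6 := hr.two_le
    nlinarith
  have hCk : ∀ n : ℕ, ∀ x ∈ C, h ^ n * x * (h ^ n)⁻¹ ∈ C := by
    intro n
    induction n with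
    | zero => intro x hx; simpa using hx
    | succ n ih =>
      intro x hx
      have h3 : h ^ (n + 1) * x * (h ^ (n + 1))⁻¹ = h ^ n * (h * x * h⁻¹) * (h ^ n)⁻¹ := by
        rw [pow_succ]; group
      rw [h3]
      exact ih _ (hC x hx)
  let f : Function.End C := fun x => ⟨h ^ k * x * (h ^ k)⁻¹, hCk k _ x.2⟩
  have hfn : ∀ n : ℕ, ∀ x : C, ((f ^ n) x : G) = (h ^ k) ^ n * x * ((h ^ k) ^ n)⁻¹ := by
    intro n
    induction n with
    | zero =>
      intro x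
      rw [pow_zero, pow_zero, one_mul, inv_one, mul_one]
      rfl
    | succ n ih =>
      intro x
      rw [pow_succ]
      have : ((f ^ n * f) x : G) = ((f ^ n) (f x) : G) := rfl
      rw [this, ih, pow_succ]
      show (h ^ k) ^ n * (h ^ k * x * (h ^ k)⁻¹) * ((h ^ k) ^ n)⁻¹ = _
      group
  have hf : f ^ r ^ 1 = 1 := by
    rw [pow_one]
    funext x
    apply Subtype.ext
    rw [hfn, hpow, one_mul, inv_one, mul_one]
    rfl
  have hfinC : Finite C := Set.toFinite C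
  have hfin : Fintype C := Fintype.ofFinite C
  have key := Equiv.Perm.card_fixedPoints_modEq (p := r) (n := 1) hf
  obtain ⟨n, hn⟩ := hcard
  rw [Nat.card_eq_fintype_card] at hn
  rw [hn] at key
  have hne : Fintype.card f.fixedPoints ≠ 0 := by
    intro h0
    rw [h0] at key
    have h1 : r ∣ 2 ^ n := (Nat.modEq_zero_iff_dvd).mp key
    have h2 := (Nat.prime_dvd_prime_iff_eq hr Nat.prime_two).mp (hr.dvd_of_dvd_pow h1)
    exact hr2 h2
  obtain ⟨⟨x, hx⟩⟩ := Fintype.card_pos_iff.mp (Nat.pos_of_ne_zero hne)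
  refine ⟨x, x.2, hfpf (h ^ k) (H.pow_mem hh k) hk1 x (hCT x.2) ?_⟩
  have h2 : h ^ k * (x : G) * (h ^ k)⁻¹ = x := congrArg Subtype.val hx
  exact mul_inv_eq_iff_eq_mul.mp h2

/-- cosets -/
theorem exists_coset [Finite G] (hT : IsPGroup 2 T) (hodd : Odd (Nat.card H))
    (hfpf : ∀ h ∈ H, h ≠ 1 → ∀ x ∈ T, h * x = x * h → x ∈ R)
    {h : G} (hh : h ∈ H) (h1 : h ≠ 1) {D : Subgroup G} (hDT : D ≤ T) (hD : ∀ x ∈ D, h * x * h⁻¹ ∈ D) {x : G}
    (hxT : x ∈ T) (hx : x⁻¹ * (h * x * h⁻¹) ∈ D) : ∃ r ∈ R, x⁻¹ * r ∈ D := by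
  have hcard : ∃ n, Nat.card {y : G | x⁻¹ * y ∈ D} = 2 ^ n := by
    obtain ⟨n, hn⟩ := IsPGroup.iff_card.mp (hT.to_le hDT)
    refine ⟨n, ?_⟩
    rw [← hn]
    refine Nat.card_congr
      { toFun := fun y => ⟨x⁻¹ * y, y.2⟩
        invFun := fun d => ⟨x * d, by
          show x⁻¹ * (x * d) ∈ D
          rw [inv_mul_cancel_left]; exact d.2⟩
        left_inv := fun y => by simp
        right_inv := fun d => by simp }
  obtain ⟨r, hr, hrR⟩ := exists_fixed hodd hfpf hh h1 {y : G | x⁻¹ * y ∈ D} (fun y hy => by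
      have : y = x * (x⁻¹ * y) := by group
      rw [this]; exact T.mul_mem hxT (hDT hy)) (by
      intro y hy
      have h2 : x⁻¹ * (h * y * h⁻¹) = (x⁻¹ * (h * x * h⁻¹)) * (h * (x⁻¹ * y) * h⁻¹) := by group
      show x⁻¹ * (h * y * h⁻¹) ∈ D
      rw [h2]
      exact D.mul_mem hx (hD _ hy)) hcard
  exact ⟨r, hrR, hr⟩

/-- central elements modulo a normal subgroup -/
theorem exists_central_mod [Finite G] {P A N : Subgroup G} (hP : IsPGroup 2 P) (hAP : A ≤ P) (hNA : N ≤ A)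
    (hA : ∀ x ∈ P, ∀ a ∈ A, x * a * x⁻¹ ∈ A) (hN : ∀ x ∈ P, ∀ a ∈ N, x * a * x⁻¹ ∈ N)
    (hne : ∃ a ∈ A, a ∉ N) : ∃ a ∈ A, a ∉ N ∧ ∀ x ∈ P, x * a * x⁻¹ * a⁻¹ ∈ N := by
  have hpf : Fact (Nat.Prime 2) := ⟨Nat.prime_two⟩
  have hAn : (A.subgroupOf P).Normal := ⟨fun a ha x => by
    rw [mem_subgroupOf] at ha ⊢
    exact hA x x.2 a ha⟩
  have hNn : (N.subgroupOf P).Normal := ⟨fun a ha x => by
    rw [mem_subgroupOf] at ha ⊢
    exact hN x x.2 a ha⟩
  have hQ : IsPGroup 2 (P ⧸ N.subgroupOf P) := hP.to_quotient _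
  have hnil : Group.IsNilpotent (P ⧸ N.subgroupOf P) := hQ.isNilpotent
  have hAn' : ((A.subgroupOf P).map (QuotientGroup.mk' (N.subgroupOf P))).Normal :=
    hAn.map _ (QuotientGroup.mk'_surjective _)
  have h1 := Cfsg.Agent.Lib.NormalAbelian.normal_inf_center_ne_bot
    ((A.subgroupOf P).map (QuotientGroup.mk' (N.subgroupOf P))) (by
      intro hb
      obtain ⟨a, ha, haN⟩ := hne
      apply haN
      have h2 : QuotientGroup.mk' (N.subgroupOf P) ⟨a, hAP ha⟩ ∈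
          (A.subgroupOf P).map (QuotientGroup.mk' (N.subgroupOf P)) := ⟨⟨a, hAP ha⟩, ha, rfl⟩
      rw [hb, mem_bot] at h2
      exact (QuotientGroup.eq_one_iff (N := N.subgroupOf P) _).mp h2)
  obtain ⟨⟨z, hz⟩, hz1⟩ := Subgroup.ne_bot_iff_exists_ne_one.mp h1
  obtain ⟨⟨a, ha, rfl⟩, hzc⟩ := hz
  refine ⟨a, ha, ?_, ?_⟩
  · intro haN
    apply hz1
    apply Subtype.ext
    exact (QuotientGroup.eq_one_iff (N := N.subgroupOf P) _).mpr haN
  · intro x hx
    have h2 := mem_center_iff.mp hzc (QuotientGroup.mk' (N.subgroupOf P) ⟨x, hx⟩)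
    have h3 : ((⟨x, hx⟩ * a * (⟨x, hx⟩ : P)⁻¹ * a⁻¹ : P) : P ⧸ N.subgroupOf P) = 1 := by
      rw [QuotientGroup.mk_mul, QuotientGroup.mk_mul, QuotientGroup.mk_mul, QuotientGroup.mk_inv, QuotientGroup.mk_inv]
      have h4 : ((⟨x, hx⟩ : P) : P ⧸ N.subgroupOf P) * (a : P ⧸ N.subgroupOf P) =
        (a : P ⧸ N.subgroupOf P) * ((⟨x, hx⟩ : P) : P ⧸ N.subgroupOf P) := h2
      rw [h4]
      group
    exact (QuotientGroup.eq_one_iff (N := N.subgroupOf P) _).mp h3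

/-- elements outside given cosets -/
theorem exists_avoid [Finite G] {A D : Subgroup G} (L : Finset G) (hL : L.card * Nat.card D < Nat.card A) :
    ∃ x ∈ A, ∀ u ∈ L, u⁻¹ * x ∉ D := by
  classical
  by_contra hno
  push Not at hno
  have h1 : (A : Set G) ⊆ ⋃ u ∈ L, (fun d => u * d) '' (D : Set G) := by
    intro x hx
    obtain ⟨u, hu, hux⟩ := hno x hx
    simp only [Set.mem_iUnion]
    exact ⟨u, hu, u⁻¹ * x, hux, by group⟩
  have h2 := Set.ncard_le_ncard h1 (Set.toFinite _)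
  have h3 : (⋃ u ∈ L, (fun d => u * d) '' (D : Set G)).ncard ≤ L.card * Nat.card D := by
    refine (Finset.set_ncard_biUnion_le L _).trans ?_
    rw [Finset.card_eq_sum_ones, Finset.sum_mul, one_mul]
    refine Finset.sum_le_sum fun u _ => ?_
    exact (Set.ncard_image_le (Set.toFinite _)).trans le_rfl
  have h4 : (A : Set G).ncard = Nat.card A := rfl
  rw [h4] at h2
  omega

end Cfsg.Agent.OddCyclic.CaseELayer
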