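import Cfsg.Agent.OddCyclic.CaseELayer

/-!
# S0342, component type, case E: the layer theorem, the first layer

`S₁ = {x : [x, R] ≤ E}`: `S₁/E` is elementary abelian.
-/

set_option autoImplicit false
set_option linter.unusedSectionVars false

namespace Cfsg.Agent.OddCyclic.CaseELayDefs

open Subgroup
open Cfsg.Agent.LieExceptional Cfsg.Agent.LieExceptional.CITDefs
open Cfsg.Agent.OddCyclic.CaseELayer

variable {G : Type*} [Group G] {T R Q E H : Subgroup G} {q : ℕ}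

/-- the commutator -/
def cm (x y : G) : G := x * y * x⁻¹ * y⁻¹

theorem cm_eq_one {x y : G} : cm x y = 1 ↔ x * y = y * x := by
  unfold cm
  rw [mul_inv_eq_one, mul_inv_eq_iff_eq_mul]

theorem cm_conj (h x y : G) : h * cm x y * h⁻¹ = cm (h * x * h⁻¹) (h * y * h⁻¹) := by
  unfold cm; group

theorem cm_inv (x y : G) : (cm x y)⁻¹ = cm y x := by
  unfold cm; group

theorem conj_eq (x y : G) : x * y * x⁻¹ = cm x y * y := by
  unfold cm; group

namespace LayE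

variable (l : LayE T R Q E H q)
include l

theorem leET : E ≤ T := l.leE.trans l.leQ
theorem elemE : ∀ e ∈ E, e * e = 1 := fun e he => (l.mem_E e (l.leE he)).mp he
theorem inv_E {e : G} (he : e ∈ E) : e⁻¹ = e := inv_eq_of_mul_eq_one_left (l.elemE e he)
theorem inv_R {r : G} (hr : r ∈ R) : r⁻¹ = r := inv_eq_of_mul_eq_one_left (l.elemR r hr)
theorem commR {r s : G} (hr : r ∈ R) (hs : s ∈ R) : r * s = s * r := l.elemR.comm hr hs
theorem cenT {e x : G} (he : e ∈ E) (hx : x ∈ T) : e * x = x * e := l.cen e he x hx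

theorem disjR {x : G} (hx : x ∈ R) (hx' : x ∈ Q) : x = 1 := by
  have h1 : x ∈ R ⊓ Q := ⟨hx, hx'⟩
  rw [l.disj] at h1
  exact mem_bot.mp h1

theorem evenq [Finite G] : Even q := by
  obtain ⟨k, hk⟩ := IsPGroup.iff_card.mp (l.two.to_le l.leET)
  rw [l.cardE] at hk
  have h4 := l.big
  rcases k with _ | k
  · rw [pow_zero] at hk; omega
  · rw [hk, pow_succ]; exact even_two.mul_left _

theorem oddH [Finite G] : Odd (Nat.card H) := by
  rw [l.cardH]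
  have := l.big
  exact Nat.Even.sub_odd (by omega) l.evenq odd_one

theorem exists_h [Finite G] : ∃ h ∈ H, h ≠ 1 := by
  by_contra hno
  push Not at hno
  have : H = ⊥ := by
    rw [eq_bot_iff]; intro x hx; exact mem_bot.mpr (hno x hx)
  have h1 := l.cardH
  rw [this, Subgroup.card_bot] at h1
  have := l.big
  omega

theorem normE {h e : G} (hh : h ∈ H) (he : e ∈ E) : h * e * h⁻¹ ∈ E := by
  rw [l.mem_E _ (l.normQ h hh e (l.leE he))]
  calc h * e * h⁻¹ * (h * e * h⁻¹) = h * (e * e) * h⁻¹ := by group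
    _ = 1 := by rw [l.elemE e he]; group

theorem conjR {h r : G} (hh : h ∈ H) (hr : r ∈ R) : h * r * h⁻¹ = r := by
  rw [l.fixR h hh r hr]; group

theorem coset [Finite G] {h : G} (hh : h ∈ H) (h1 : h ≠ 1) {D : Subgroup G} (hDT : D ≤ T)
    (hD : ∀ x ∈ D, h * x * h⁻¹ ∈ D) {x : G} (hxT : x ∈ T) (hx : x⁻¹ * (h * x * h⁻¹) ∈ D) : ∃ r ∈ R, x⁻¹ * r ∈ D :=
  exists_coset l.two l.oddH l.fpf hh h1 hDT hD hxT hx

/-! ### commutators -/

theorem cm_mul_left {x y z : G} (hx : x ∈ T) (hz : z ∈ T) (h : cm y z ∈ E) :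
    cm (x * y) z = cm x z * cm y z := by
  have h1 : cm (x * y) z = x * cm y z * x⁻¹ * cm x z := by unfold cm; group
  rw [h1, ← l.cen _ h x hx]
  have h2 : cm y z * x * x⁻¹ * cm x z = cm y z * cm x z := by group
  rw [h2]
  exact l.cen _ h _ (T.mul_mem (T.mul_mem (T.mul_mem hx hz) (T.inv_mem hx)) (T.inv_mem hz))

theorem cm_mul_right {x y z : G} (hy : y ∈ T) (h : cm x z ∈ E) :
    cm x (y * z) = cm x y * cm x z := by
  have h1 : cm x (y * z) = cm x y * (y * cm x z * y⁻¹) := by unfold cm; group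
  rw [h1, ← l.cen _ h y hy]
  group

theorem cm_E_left {e x : G} (he : e ∈ E) (hx : x ∈ T) : cm e x = 1 := cm_eq_one.mpr (l.cen e he x hx)
theorem cm_E_right {e x : G} (he : e ∈ E) (hx : x ∈ T) : cm x e = 1 := cm_eq_one.mpr (l.cen e he x hx).symm

theorem cm_conj_mem {h x y : G} (hh : h ∈ H) (hc : cm x y ∈ E) : cm (h * x * h⁻¹) (h * y * h⁻¹) ∈ E := by
  rw [← cm_conj]; exact l.normE hh hc

theorem cm_symm {x y : G} (h : cm x y ∈ E) : cm y x = cm x y := by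
  rw [← cm_inv, l.inv_E h]

/-! ### `S = RQ` -/

/-- `S = RQ` -/
def SS : Subgroup G where
  carrier := {x | ∃ r ∈ R, ∃ y ∈ Q, x = r * y}
  one_mem' := ⟨1, R.one_mem, 1, Q.one_mem, (mul_one 1).symm⟩
  mul_mem' := by
    rintro _ _ ⟨r, hr, y, hy, rfl⟩ ⟨s, hs, z, hz, rfl⟩
    refine ⟨r * s, R.mul_mem hr hs, y * z, Q.mul_mem hy hz, ?_⟩
    calc r * y * (s * z) = r * (y * s) * z := by group
      _ = r * (s * y) * z := by rw [l.commRQ s hs y hy]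
      _ = r * s * (y * z) := by group
  inv_mem' := by
    rintro _ ⟨r, hr, y, hy, rfl⟩
    refine ⟨r⁻¹, R.inv_mem hr, y⁻¹, Q.inv_mem hy, ?_⟩
    rw [mul_inv_rev, l.commRQ _ (R.inv_mem hr) _ (Q.inv_mem hy)]

theorem mem_SS {x : G} : x ∈ l.SS ↔ ∃ r ∈ R, ∃ y ∈ Q, x = r * y := Iff.rfl

theorem R_le_SS : R ≤ l.SS := fun r hr => ⟨r, hr, 1, Q.one_mem, (mul_one r).symm⟩
theorem Q_le_SS : Q ≤ l.SS := fun y hy => ⟨1, R.one_mem, y, hy, (one_mul y).symm⟩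
theorem E_le_SS : E ≤ l.SS := l.leE.trans l.Q_le_SS
theorem SS_le_T : l.SS ≤ T := by
  rintro _ ⟨r, hr, y, hy, rfl⟩
  exact T.mul_mem (l.leR hr) (l.leQ hy)

theorem SS_comm {x t : G} (hx : x ∈ l.SS) (ht : t ∈ R) : x * t = t * x := by
  obtain ⟨r, hr, y, hy, rfl⟩ := hx
  calc r * y * t = r * (t * y) := by rw [l.commRQ t ht y hy]; group
    _ = (r * t) * y := by group
    _ = t * (r * y) := by rw [l.commR hr ht]; group

theorem mem_SS_of_comm {x t : G} (hx : x ∈ T) (ht : t ∈ R) (ht1 : t ≠ 1) (h : x * t = t * x) : x ∈ l.SS :=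
  l.cent t ht ht1 x hx h

theorem SS_norm {h x : G} (hh : h ∈ H) (hx : x ∈ l.SS) : h * x * h⁻¹ ∈ l.SS := by
  obtain ⟨r, hr, y, hy, rfl⟩ := hx
  refine ⟨r, hr, h * y * h⁻¹, l.normQ h hh y hy, ?_⟩
  calc h * (r * y) * h⁻¹ = (h * r * h⁻¹) * (h * y * h⁻¹) := by group
    _ = r * (h * y * h⁻¹) := by rw [l.conjR hh hr]

/-- involutions of `S` are in `V = RE` -/
theorem mem_V_of_sq {x : G} (hx : x ∈ l.SS) (h : x * x = 1) : ∃ r ∈ R, ∃ e ∈ E, x = r * e := by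
  obtain ⟨r, hr, y, hy, rfl⟩ := hx
  refine ⟨r, hr, y, ?_, rfl⟩
  rw [l.mem_E y hy]
  calc y * y = r * r * (y * y) := by rw [l.elemR r hr, one_mul]
    _ = r * (r * y) * y := by group
    _ = r * (y * r) * y := by rw [l.commRQ r hr y hy]
    _ = r * y * (r * y) := by group
    _ = 1 := h

theorem SS_sq {x : G} (hx : x ∈ l.SS) : x * x ∈ E := by
  obtain ⟨r, hr, y, hy, rfl⟩ := hx
  have : r * y * (r * y) = y * y := by
    calc r * y * (r * y) = r * (y * r) * y := by group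
      _ = r * (r * y) * y := by rw [l.commRQ r hr y hy]
      _ = r * r * (y * y) := by group
      _ = y * y := by rw [l.elemR r hr, one_mul]
  rw [this]
  exact l.sq_mem y hy

/-- a criterion: squares in `E` give commutators in `E` -/
theorem cm_of_sq {x y : G} (hx : x ∈ T) (hy : y ∈ T) (h1 : x * x ∈ E) (h2 : y * y ∈ E)
    (h3 : x * y * (x * y) ∈ E) : cm x y ∈ E := by
  have h4 : cm x y = (x * y * (x * y)) * (y⁻¹ * (x * x)⁻¹ * y) * (y * y)⁻¹ := by unfold cm; group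
  have h5 : y⁻¹ * (x * x)⁻¹ * y = (x * x)⁻¹ := by
    rw [← l.cen _ (E.inv_mem h1) y⁻¹ (T.inv_mem hy)]; group
  rw [h4, h5]
  exact E.mul_mem (E.mul_mem h3 (E.inv_mem h1)) (E.inv_mem h2)

theorem SS_cm {x y : G} (hx : x ∈ l.SS) (hy : y ∈ l.SS) : cm x y ∈ E :=
  l.cm_of_sq (l.SS_le_T hx) (l.SS_le_T hy) (l.SS_sq hx) (l.SS_sq hy) (l.SS_sq (l.SS.mul_mem hx hy))

/-- the `R`-component is unique -/
theorem uniq {r s y z : G} (hr : r ∈ R) (hs : s ∈ R) (hy : y ∈ Q) (hz : z ∈ Q) (h : r * y = s * z) :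
    r = s ∧ y = z := by
  have h1 : s⁻¹ * r = z * y⁻¹ := by
    calc s⁻¹ * r = s⁻¹ * (r * y) * y⁻¹ := by group
      _ = s⁻¹ * (s * z) * y⁻¹ := by rw [h]
      _ = z * y⁻¹ := by group
  have h2 : s⁻¹ * r = 1 := l.disjR (R.mul_mem (R.inv_mem hs) hr) (h1 ▸ Q.mul_mem hz (Q.inv_mem hy))
  have h3 : r = s := (inv_mul_eq_one.mp h2).symm
  refine ⟨h3, ?_⟩
  rw [h3] at h
  exact mul_left_cancel h

/-! ### `S₁` -/

/-- `S₁ = {x : [x, R] ≤ E}` -/
def S1 : Subgroup G where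
  carrier := {x | x ∈ T ∧ ∀ t ∈ R, cm x t ∈ E}
  one_mem' := ⟨T.one_mem, fun t _ => by
    have : cm 1 t = 1 := by unfold cm; group
    rw [this]; exact E.one_mem⟩
  mul_mem' := by
    rintro x y ⟨hx, hx'⟩ ⟨hy, hy'⟩
    refine ⟨T.mul_mem hx hy, fun t ht => ?_⟩
    rw [l.cm_mul_left hx (l.leR ht) (hy' t ht)]
    exact E.mul_mem (hx' t ht) (hy' t ht)
  inv_mem' := by
    rintro x ⟨hx, hx'⟩
    refine ⟨T.inv_mem hx, fun t ht => ?_⟩
    have h1 := hx' t ht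
    have h2 : cm x⁻¹ t = x⁻¹ * (cm x t)⁻¹ * x := by unfold cm; group
    rw [h2, ← l.cen _ (E.inv_mem h1) x⁻¹ (T.inv_mem hx)]
    have h3 : (cm x t)⁻¹ * x⁻¹ * x = (cm x t)⁻¹ := by group
    rw [h3]
    exact E.inv_mem h1

theorem mem_S1 {x : G} : x ∈ l.S1 ↔ x ∈ T ∧ ∀ t ∈ R, cm x t ∈ E := Iff.rfl
theorem S1_le_T : l.S1 ≤ T := fun _ hx => hx.1

theorem SS_le_S1 : l.SS ≤ l.S1 := fun x hx => ⟨l.SS_le_T hx, fun t ht => by
  rw [cm_eq_one.mpr (l.SS_comm hx ht)]; exact E.one_mem⟩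

theorem S1_norm {h x : G} (hh : h ∈ H) (hx : x ∈ l.S1) : h * x * h⁻¹ ∈ l.S1 := by
  refine ⟨l.normT h hh x hx.1, fun t ht => ?_⟩
  have h1 := l.cm_conj_mem hh (hx.2 t ht)
  rwa [l.conjR hh ht] at h1

theorem S1_conj_R {x t : G} (hx : x ∈ l.S1) (ht : t ∈ R) : x * t * x⁻¹ = t * cm x t := by
  rw [conj_eq, l.cen _ (hx.2 t ht) t (l.leR ht)]

theorem mem_S1_of_norm [Finite G] {x : G} (hxT : x ∈ T)
    (hx : ∀ s ∈ R, ∃ r ∈ R, ∃ e ∈ E, x * s * x⁻¹ = r * e) : x ∈ l.S1 := by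
  obtain ⟨h, hh, hh1⟩ := l.exists_h
  have hhx := l.normT h hh x hxT
  have key : x⁻¹ * (h * x * h⁻¹) ∈ l.S1 := by
    refine ⟨T.mul_mem (T.inv_mem hxT) hhx, fun s hs => ?_⟩
    obtain ⟨r, hr, e, he, hre⟩ := hx s hs
    have hhe := l.normE hh he
    have h1 : (h * x * h⁻¹) * s * (h * x * h⁻¹)⁻¹ = r * (h * e * h⁻¹) := by
      calc (h * x * h⁻¹) * s * (h * x * h⁻¹)⁻¹ = (h * x * h⁻¹) * (h * s * h⁻¹) * (h * x * h⁻¹)⁻¹ := by
            rw [l.conjR hh hs]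
        _ = h * (x * s * x⁻¹) * h⁻¹ := by group
        _ = (h * r * h⁻¹) * (h * e * h⁻¹) := by rw [hre]; group
        _ = r * (h * e * h⁻¹) := by rw [l.conjR hh hr]
    have h3 : x⁻¹ * r * x = s * e⁻¹ := by
      have h4 : r = x * s * x⁻¹ * e⁻¹ := by rw [hre]; group
      rw [h4]
      calc x⁻¹ * (x * s * x⁻¹ * e⁻¹) * x = s * x⁻¹ * (e⁻¹ * x) := by group
        _ = s * x⁻¹ * (x * e⁻¹) := by rw [l.cen _ (E.inv_mem he) x hxT]
        _ = s * e⁻¹ := by group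
    have h5 : cm (x⁻¹ * (h * x * h⁻¹)) s = (h * e * h⁻¹) * e⁻¹ := by
      calc cm (x⁻¹ * (h * x * h⁻¹)) s
          = x⁻¹ * ((h * x * h⁻¹) * s * (h * x * h⁻¹)⁻¹) * x * s⁻¹ := by unfold cm; group
        _ = x⁻¹ * r * ((h * e * h⁻¹) * x) * s⁻¹ := by rw [h1]; group
        _ = x⁻¹ * r * (x * (h * e * h⁻¹)) * s⁻¹ := by rw [l.cen _ hhe x hxT]
        _ = (x⁻¹ * r * x) * ((h * e * h⁻¹) * s⁻¹) := by group
        _ = s * e⁻¹ * (s⁻¹ * (h * e * h⁻¹)) := by rw [h3, l.cen _ hhe s⁻¹ (T.inv_mem (l.leR hs))]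
        _ = s * (e⁻¹ * s⁻¹) * (h * e * h⁻¹) := by group
        _ = s * (s⁻¹ * e⁻¹) * (h * e * h⁻¹) := by rw [l.cen _ (E.inv_mem he) s⁻¹ (T.inv_mem (l.leR hs))]
        _ = e⁻¹ * (h * e * h⁻¹) := by group
        _ = (h * e * h⁻¹) * e⁻¹ := l.cen _ (E.inv_mem he) _ (l.leET hhe)
    rw [h5]
    exact E.mul_mem hhe (E.inv_mem he)
  obtain ⟨r, hr, hrx⟩ := l.coset hh hh1 l.S1_le_T (fun y hy => l.S1_norm hh hy) hxT key
  have h1 : x = r * (x⁻¹ * r)⁻¹ := by group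
  rw [h1]
  exact l.S1.mul_mem (l.SS_le_S1 (l.R_le_SS hr)) (l.S1.inv_mem hrx)

theorem mem_S1_of_comm [Finite G] {x t : G} (hxT : x ∈ T) (ht : t ∈ R) (ht1 : t ≠ 1) (hx : cm x t ∈ E) :
    x ∈ l.S1 := by
  refine l.mem_S1_of_norm hxT (fun s hs => ?_)
  have hxs : x * s * x⁻¹ ∈ T := T.mul_mem (T.mul_mem hxT (l.leR hs)) (T.inv_mem hxT)
  refine l.mem_V_of_sq (l.mem_SS_of_comm hxs ht ht1 ?_) ?_
  · have h1 : x * t * x⁻¹ = cm x t * t := conj_eq x t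
    have h2 : (x * s * x⁻¹) * (cm x t * t) = (cm x t * t) * (x * s * x⁻¹) := by
      rw [← h1]
      calc x * s * x⁻¹ * (x * t * x⁻¹) = x * (s * t) * x⁻¹ := by group
        _ = x * (t * s) * x⁻¹ := by rw [l.commR hs ht]
        _ = x * t * x⁻¹ * (x * s * x⁻¹) := by group
    have h3 : cm x t * ((x * s * x⁻¹) * t) = cm x t * (t * (x * s * x⁻¹)) := by
      calc cm x t * ((x * s * x⁻¹) * t) = (cm x t * (x * s * x⁻¹)) * t := by group
        _ = ((x * s * x⁻¹) * cm x t) * t := by rw [l.cen _ hx _ hxs]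
        _ = (x * s * x⁻¹) * (cm x t * t) := by group
        _ = (cm x t * t) * (x * s * x⁻¹) := h2
        _ = cm x t * (t * (x * s * x⁻¹)) := by group
    exact mul_left_cancel h3
  · calc x * s * x⁻¹ * (x * s * x⁻¹) = x * (s * s) * x⁻¹ := by group
      _ = 1 := by rw [l.elemR s hs]; group

theorem exists_t [Finite G] : ∃ t ∈ R, t ≠ 1 := by
  by_contra hno
  push Not at hno
  have : R = ⊥ := by
    rw [eq_bot_iff]; intro x hx; exact mem_bot.mpr (hno x hx)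
  have h1 := l.bigR
  rw [this, Subgroup.card_bot] at h1
  omega

theorem exists_ts [Finite G] {t : G} (ht : t ∈ R) : ∃ s ∈ R, s ≠ 1 ∧ s ≠ t ∧ s * t ≠ 1 := by
  classical
  obtain ⟨s, hs, hs'⟩ := exists_avoid (A := R) (D := ⊥) {1, t} (by
    rw [Subgroup.card_bot, mul_one]
    have h1 : ({1, t} : Finset G).card ≤ 2 := Finset.card_le_two
    have h2 := l.bigR
    omega)
  have h1 := hs' 1 (by simp)
  have h2 := hs' t (by simp)
  rw [inv_one, one_mul, mem_bot] at h1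
  rw [mem_bot] at h2
  refine ⟨s, hs, h1, fun h => h2 (by rw [h]; group), fun h => h2 ?_⟩
  rw [l.inv_R ht, l.commR ht hs]; exact h

/-- `S < T` implies `S < S₁` -/
theorem exists_S1 [Finite G] (hne : T ≠ l.SS) : ∃ x ∈ l.S1, x ∉ l.SS := by
  obtain ⟨x, hxT, hxS, hx⟩ := B2Tools.grow l.SS_le_T l.two (Ne.symm hne)
  refine ⟨x, l.mem_S1_of_norm hxT (fun s hs => ?_), hxS⟩
  refine l.mem_V_of_sq (hx s (l.R_le_SS hs)) ?_
  calc x * s * x⁻¹ * (x * s * x⁻¹) = x * (s * s) * x⁻¹ := by group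
    _ = 1 := by rw [l.elemR s hs]; group

theorem cm_ne_one {x t : G} (hx : x ∈ T) (hxS : x ∉ l.SS) (ht : t ∈ R) (ht1 : t ≠ 1) : cm x t ≠ 1 := fun h =>
  hxS (l.mem_SS_of_comm hx ht ht1 (cm_eq_one.mp h))

/-- equal commutators with `t` -/
theorem inv_mul_mem {x y t : G} (hx : x ∈ l.S1) (hy : y ∈ l.S1) (ht : t ∈ R) (ht1 : t ≠ 1)
    (h : cm x t = cm y t) : x⁻¹ * y ∈ l.SS := by
  refine l.mem_SS_of_comm (T.mul_mem (T.inv_mem hx.1) hy.1) ht ht1 ?_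
  have h1 : x * t * x⁻¹ = y * t * y⁻¹ := by rw [conj_eq, conj_eq, h]
  calc x⁻¹ * y * t = x⁻¹ * (y * t * y⁻¹) * y := by group
    _ = x⁻¹ * (x * t * x⁻¹) * y := by rw [h1]
    _ = t * (x⁻¹ * y) := by group

theorem cm_conj_R {h x t : G} (hh : h ∈ H) (ht : t ∈ R) : cm (h * x * h⁻¹) t = h * cm x t * h⁻¹ := by
  rw [cm_conj, l.conjR hh ht]

/-- `H` is transitive on `(S₁/S)#` -/
theorem trans_S1 [Finite G] {x y : G} (hx : x ∈ l.S1) (hxS : x ∉ l.SS) (hy : y ∈ l.S1) (hyS : y ∉ l.SS) :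
    ∃ h ∈ H, (h * x * h⁻¹)⁻¹ * y ∈ l.SS := by
  obtain ⟨t, ht, ht1⟩ := l.exists_t
  obtain ⟨h, hh, hc⟩ := l.trans _ (hx.2 t ht) _ (hy.2 t ht) (l.cm_ne_one hx.1 hxS ht ht1)
    (l.cm_ne_one hy.1 hyS ht ht1)
  refine ⟨h, hh, l.inv_mul_mem (l.S1_norm hh hx) hy ht ht1 ?_⟩
  rw [l.cm_conj_R hh ht, hc]

/-- `[S₁, t] = E` -/
theorem exists_cm [Finite G] (hne : T ≠ l.SS) {t e : G} (ht : t ∈ R) (ht1 : t ≠ 1) (he : e ∈ E) :
    ∃ x ∈ l.S1, cm x t = e := by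
  by_cases he1 : e = 1
  · exact ⟨1, l.S1.one_mem, by rw [he1]; unfold cm; group⟩
  obtain ⟨x, hx, hxS⟩ := l.exists_S1 hne
  obtain ⟨h, hh, hc⟩ := l.trans _ (hx.2 t ht) e he (l.cm_ne_one hx.1 hxS ht ht1) he1
  exact ⟨h * x * h⁻¹, l.S1_norm hh hx, by rw [l.cm_conj_R hh ht, hc]⟩

/-- the index of `S` in `S₁` -/
theorem card_S1 [Finite G] (hne : T ≠ l.SS) : Nat.card l.S1 = q * Nat.card l.SS := by
  obtain ⟨t, ht, ht1⟩ := l.exists_t
  let τ : l.S1 →* E :=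
    { toFun := fun x => ⟨cm x t, x.2.2 t ht⟩
      map_one' := by apply Subtype.ext; show cm 1 t = 1; unfold cm; group
      map_mul' := by
        intro a b
        apply Subtype.ext
        exact l.cm_mul_left a.2.1 (l.leR ht) (b.2.2 t ht) }
  have hτ : ∀ x : l.S1, (τ x : G) = cm (x : G) t := fun x => rfl
  have hker : τ.ker = l.SS.subgroupOf l.S1 := by
    ext x
    rw [MonoidHom.mem_ker, mem_subgroupOf]
    constructor
    · intro h1
      have h2 := congrArg Subtype.val h1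
      rw [hτ] at h2
      by_contra hxE
      exact l.cm_ne_one x.2.1 hxE ht ht1 h2
    · intro hxE
      apply Subtype.ext
      rw [hτ]
      exact cm_eq_one.mpr (l.SS_comm hxE ht)
  have hsurj : Function.Surjective τ := by
    intro e
    obtain ⟨x, hx, hxe⟩ := l.exists_cm hne ht ht1 e.2
    exact ⟨⟨x, hx⟩, Subtype.ext hxe⟩
  have h1 := Subgroup.card_mul_index τ.ker
  have h2 : τ.ker.index = Nat.card E := by
    rw [Subgroup.index_ker, MonoidHom.range_eq_top.mpr hsurj, Subgroup.card_top]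
  have h3 : Nat.card τ.ker = Nat.card l.SS := by
    rw [hker]
    exact Nat.card_congr (Subgroup.subgroupOfEquivOfLe l.SS_le_S1).toEquiv
  rw [← h1, h2, h3, l.cardE, mul_comm]

end LayE

end Cfsg.Agent.OddCyclic.CaseELayDefs
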