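import Cfsg.Agent.OddCyclic.CaseELayerB

/-!
# S0342, component type, case E: the layer theorem, the first layer is elementary abelian modulo `E`
-/

set_option autoImplicit false
set_option linter.unusedSectionVars false

namespace Cfsg.Agent.OddCyclic.CaseELayDefs

open Subgroup
open Cfsg.Agent.LieExceptional Cfsg.Agent.LieExceptional.CITDefs
open Cfsg.Agent.OddCyclic.CaseELayer

variable {G : Type*} [Group G] {T R Q E H : Subgroup G} {q : ℕ}

/-! ### combinatorial lemmas: functions of degree 2 and 3 which are constant outside `N` -/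

/-- degree 3 -/
theorem const_three {A : Type*} [Group A] {N X : Subgroup G} (f : G → A) (D2 : G → G → A)
    (D3 : G → G → G → A) (c : A) (hc : c * c = 1) (hf : ∀ y ∈ X, y ∉ N → f y = c)
    (h1 : ∀ y ∈ X, ∀ z ∈ X, f (y * z) = f y * f z * D2 y z)
    (h2 : ∀ y ∈ X, ∀ z ∈ X, ∀ w ∈ X, D2 (y * z) w = D2 y w * D2 z w * D3 y z w)
    (h3 : ∀ y ∈ X, ∀ z ∈ X, ∀ w ∈ X, ∀ w' ∈ X, D3 y z (w * w') = D3 y z w * D3 y z w')
    {a b d g : G} (ha : a ∈ X) (hb : b ∈ X) (hd : d ∈ X) (hg : g ∈ X)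
    (haN : a ∉ N) (hbN : b ∉ N) (hab : a * b ∉ N)
    (hdN : ∀ u ∈ ({1, a, b, a * b} : Set G), u * d ∉ N)
    (hgN : ∀ u ∈ ({1, a, b, a * b} : Set G), u * g ∉ N)
    (hdgN : ∀ u ∈ ({1, a, b, a * b} : Set G), u * (d * g) ∉ N) : c = 1 := by
  have hc' : c⁻¹ = c := inv_eq_of_mul_eq_one_left hc
  have key2 : ∀ y ∈ X, ∀ z ∈ X, y ∉ N → z ∉ N → y * z ∉ N → D2 y z = c := by
    intro y hy z hz h4 h5 h6
    have h7 := h1 y hy z hz
    rw [hf y hy h4, hf z hz h5, hf _ (X.mul_mem hy hz) h6, hc, one_mul] at h7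
    exact h7.symm
  have key3 : ∀ w ∈ X, (∀ u ∈ ({1, a, b, a * b} : Set G), u * w ∉ N) → D3 a b w = c := by
    intro w hw h4
    have e1 := h4 1 (by simp)
    rw [one_mul] at e1
    have h5 := h2 a ha b hb w hw
    rw [key2 a ha w hw haN e1 (h4 a (by simp)), key2 b hb w hw hbN e1 (h4 b (by simp)),
      key2 (a * b) (X.mul_mem ha hb) w hw hab e1 (h4 (a * b) (by simp)), hc, one_mul] at h5
    exact h5.symm
  have h4 := h3 a ha b hb d hd g hg
  rw [key3 d hd hdN, key3 g hg hgN, key3 (d * g) (X.mul_mem hd hg) hdgN, hc] at h4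
  exact h4

/-- degree 2 -/
theorem const_two {A : Type*} [Group A] {N X : Subgroup G} (f : G → A) (D2 : G → G → A)
    (c : A) (hc : c * c = 1) (hf : ∀ y ∈ X, y ∉ N → f y = c)
    (h1 : ∀ y ∈ X, ∀ z ∈ X, f (y * z) = f y * f z * D2 y z)
    (h2 : ∀ y ∈ X, ∀ z ∈ X, ∀ w ∈ X, D2 y (z * w) = D2 y z * D2 y w)
    {a b d : G} (ha : a ∈ X) (hb : b ∈ X) (hd : d ∈ X)
    (haN : a ∉ N) (hbN : b ∉ N) (hdN : d ∉ N) (hab : a * b ∉ N) (had : a * d ∉ N) (hbd : b * d ∉ N)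
    (habd : a * (b * d) ∉ N) : c = 1 := by
  have key2 : ∀ y ∈ X, ∀ z ∈ X, y ∉ N → z ∉ N → y * z ∉ N → D2 y z = c := by
    intro y hy z hz h4 h5 h6
    have h7 := h1 y hy z hz
    rw [hf y hy h4, hf z hz h5, hf _ (X.mul_mem hy hz) h6, hc, one_mul] at h7
    exact h7.symm
  have h4 := h2 a ha b hb d hd
  rw [key2 a ha b hb haN hbN hab, key2 a ha d hd haN hdN had, key2 a ha (b * d) (X.mul_mem hb hd) haN hbd habd,
    hc] at h4
  exact h4

/-- four elements, independent modulo `N` -/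
theorem exists_four [Finite G] {X N : Subgroup G} (h16 : 16 * Nat.card N ≤ Nat.card X) :
    ∃ a ∈ X, ∃ b ∈ X, ∃ d ∈ X, ∃ g ∈ X, a ∉ N ∧ b ∉ N ∧ a * b ∉ N ∧
    (∀ u ∈ ({1, a, b, a * b} : Set G), u * d ∉ N) ∧
    (∀ u ∈ ({1, a, b, a * b} : Set G), u * g ∉ N) ∧
    (∀ u ∈ ({1, a, b, a * b} : Set G), u * (d * g) ∉ N) := by
  classical
  have hN := Nat.card_pos (α := N)
  have step : ∀ L : Finset G, L.card ≤ 8 → ∃ x ∈ X, ∀ u ∈ L, u * x ∉ N := by
    intro L hL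
    obtain ⟨x, hx, hxL⟩ := exists_avoid (A := X) (D := N) (L.image (fun u => u⁻¹)) (by
      have h1 : (L.image (fun u => u⁻¹)).card ≤ 8 := Finset.card_image_le.trans hL
      nlinarith)
    refine ⟨x, hx, fun u hu => ?_⟩
    have := hxL u⁻¹ (Finset.mem_image_of_mem _ hu)
    rwa [inv_inv] at this
  obtain ⟨a, ha, ha'⟩ := step {1} (by simp)
  obtain ⟨b, hb, hb'⟩ := step {1, a} (by
    have := Finset.card_insert_le (1 : G) {a}
    rw [Finset.card_singleton] at this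
    omega)
  obtain ⟨d, hd, hd'⟩ := step {1, a, b, a * b} (by
    have h1 := Finset.card_insert_le (1 : G) {a, b, a * b}
    have h2 := Finset.card_insert_le a {b, a * b}
    have h3 := Finset.card_insert_le b {a * b}
    rw [Finset.card_singleton] at h3
    omega)
  obtain ⟨g, hg, hg'⟩ := step ({1, a, b, a * b} ∪ {1 * d, a * d, b * d, a * b * d}) (by
    have h1 := Finset.card_insert_le (1 : G) {a, b, a * b}
    have h2 := Finset.card_insert_le a {b, a * b}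
    have h3 := Finset.card_insert_le b {a * b}
    rw [Finset.card_singleton] at h3
    have h4 := Finset.card_insert_le (1 * d) {a * d, b * d, a * b * d}
    have h5 := Finset.card_insert_le (a * d) {b * d, a * b * d}
    have h6 := Finset.card_insert_le (b * d) {a * b * d}
    rw [Finset.card_singleton] at h6
    have h7 := Finset.card_union_le {1, a, b, a * b} {1 * d, a * d, b * d, a * b * d}
    omega)
  have e1 := ha' 1 (by simp)
  have e2 := hb' 1 (by simp)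
  rw [one_mul] at e1 e2
  refine ⟨a, ha, b, hb, d, hd, g, hg, e1, e2, hb' a (by simp), ?_, ?_, ?_⟩
  · intro u hu
    exact hd' u (by simpa using hu)
  · intro u hu
    refine hg' u (Finset.mem_union_left _ (by simpa using hu))
  · intro u hu
    rw [← mul_assoc]
    refine hg' (u * d) (Finset.mem_union_right _ ?_)
    rcases hu with rfl | rfl | rfl | rfl <;> simp

namespace LayE

variable (l : LayE T R Q E H q)
include l

/-- `S` is normal in `S₁` -/
theorem conj_SS {x s : G} (hx : x ∈ l.S1) (hs : s ∈ l.SS) : x * s * x⁻¹ ∈ l.SS := by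
  by_cases hR : ∃ t ∈ R, t ≠ 1
  · obtain ⟨t, ht, ht1⟩ := hR
    have hxs : x * s * x⁻¹ ∈ T := T.mul_mem (T.mul_mem hx.1 (l.SS_le_T hs)) (T.inv_mem hx.1)
    refine l.mem_SS_of_comm hxs ht ht1 ?_
    have h1 : t = x * t * x⁻¹ * cm x t := by
      rw [l.S1_conj_R hx ht]
      calc t = t * (cm x t * cm x t) := by rw [l.elemE _ (hx.2 t ht), mul_one]
        _ = t * cm x t * cm x t := by group
    have h2 := l.cen _ (hx.2 t ht) _ hxs
    rw [h1]
    calc x * s * x⁻¹ * (x * t * x⁻¹ * cm x t) = x * (s * t) * x⁻¹ * cm x t := by group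
      _ = x * (t * s) * x⁻¹ * cm x t := by rw [l.SS_comm hs ht]
      _ = x * t * x⁻¹ * ((x * s * x⁻¹) * cm x t) := by group
      _ = x * t * x⁻¹ * (cm x t * (x * s * x⁻¹)) := by rw [h2]
      _ = x * t * x⁻¹ * cm x t * (x * s * x⁻¹) := by group
  · exfalso
    push Not at hR
    have h1 : R = ⊥ := by
      rw [eq_bot_iff]; intro r hr; exact mem_bot.mpr (hR r hr)
    have h2 := l.bigR
    rw [h1, Subgroup.card_bot] at h2
    omega

/-- `[x, y] = re` for `x ∈ S₁`, `y ∈ Q` -/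
theorem cm_Q {x y : G} (hx : x ∈ l.S1) (hy : y ∈ Q) : ∃ r ∈ R, ∃ e ∈ E, cm x y = r * e := by
  obtain ⟨r, hr, y', hy', h⟩ := l.conj_SS hx (l.Q_le_SS hy)
  have h1 : y' * y' = y * y := by
    calc y' * y' = r * r * (y' * y') := by rw [l.elemR r hr, one_mul]
      _ = r * (r * y') * y' := by group
      _ = r * (y' * r) * y' := by rw [l.commRQ r hr y' hy']
      _ = (r * y') * (r * y') := by group
      _ = x * (y * y) * x⁻¹ := by rw [← h]; group
      _ = y * y := by rw [← l.cen _ (l.sq_mem y hy) x hx.1]; group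
  have h2 := l.sq_inj y hy y' hy' h1.symm
  refine ⟨r, hr, y⁻¹ * y', h2, ?_⟩
  have h3 := l.cen _ h2 y⁻¹ (T.inv_mem (l.leQ hy))
  calc cm x y = x * y * x⁻¹ * y⁻¹ := rfl
    _ = r * y * (y⁻¹ * y' * y⁻¹) := by rw [h]; group
    _ = r * y * (y⁻¹ * (y⁻¹ * y')) := by rw [h3]
    _ = r * (y⁻¹ * y') := by group

open Classical in
/-- the `R`-component -/
noncomputable def pr (_l : LayE T R Q E H q) (v : G) : R :=
  if h : ∃ r : R, ∃ e ∈ E, v = r * e then h.choose else 1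

theorem pr_eq {v r e : G} (hr : r ∈ R) (he : e ∈ E) (h : v = r * e) : l.pr v = ⟨r, hr⟩ := by
  have h1 : ∃ r : R, ∃ e ∈ E, v = r * e := ⟨⟨r, hr⟩, e, he, h⟩
  unfold pr
  rw [dif_pos h1]
  obtain ⟨e', he', h2⟩ := h1.choose_spec
  apply Subtype.ext
  exact (l.uniq h1.choose.2 hr (l.leE he') (l.leE he) (h2.symm.trans h)).1

/-- `ρ(x,y)` -/
noncomputable def rho (l : LayE T R Q E H q) (x y : G) : R := l.pr (cm x y)

theorem rho_eq {x y r e : G} (hr : r ∈ R) (he : e ∈ E) (h : cm x y = r * e) : l.rho x y = ⟨r, hr⟩ :=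
  l.pr_eq hr he h

theorem rho_one_of {x y : G} (h : cm x y ∈ E) : l.rho x y = 1 := by
  rw [l.rho_eq R.one_mem h (one_mul _).symm]; rfl

theorem mem_of_rho {x y : G} (hx : x ∈ l.S1) (hy : y ∈ Q) (h : l.rho x y = 1) : cm x y ∈ E := by
  obtain ⟨r, hr, e, he, h1⟩ := l.cm_Q hx hy
  rw [l.rho_eq hr he h1] at h
  have h2 : r = 1 := congrArg Subtype.val h
  rw [h1, h2, one_mul]; exact he

theorem rho_mul_right {x y z : G} (hx : x ∈ l.S1) (hy : y ∈ Q) (hz : z ∈ Q) :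
    l.rho x (y * z) = l.rho x y * l.rho x z := by
  obtain ⟨r, hr, e, he, h1⟩ := l.cm_Q hx hy
  obtain ⟨s, hs, f, hf, h2⟩ := l.cm_Q hx hz
  rw [l.rho_eq hr he h1, l.rho_eq hs hf h2]
  refine l.rho_eq (R.mul_mem hr hs) (E.mul_mem he hf) ?_
  have h3 : cm x (y * z) = cm x y * (y * cm x z * y⁻¹) := by unfold cm; group
  rw [h3, h1, h2]
  calc r * e * (y * (s * f) * y⁻¹) = r * e * ((y * s) * (f * y⁻¹)) := by group
    _ = r * e * ((s * y) * (y⁻¹ * f)) := by
        rw [l.commRQ s hs y hy, l.cen f hf _ (T.inv_mem (l.leQ hy))]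
    _ = r * (e * s) * f := by group
    _ = r * (s * e) * f := by rw [l.cen e he s (l.leR hs)]
    _ = r * s * (e * f) := by group

theorem rho_mul_left {x x' y : G} (hx : x ∈ l.S1) (hx' : x' ∈ l.S1) (hy : y ∈ Q) :
    l.rho (x * x') y = l.rho x y * l.rho x' y := by
  obtain ⟨r, hr, e, he, h1⟩ := l.cm_Q hx hy
  obtain ⟨s, hs, f, hf, h2⟩ := l.cm_Q hx' hy
  rw [l.rho_eq hr he h1, l.rho_eq hs hf h2]
  have hg := hx.2 s hs
  have hgf : cm x s * f ∈ E := E.mul_mem hg hf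
  refine l.rho_eq (R.mul_mem hr hs) (E.mul_mem hgf he) ?_
  have h3 : cm (x * x') y = x * cm x' y * x⁻¹ * cm x y := by unfold cm; group
  rw [h3, h1, h2]
  calc x * (s * f) * x⁻¹ * (r * e) = (x * s * x⁻¹) * (x * f * x⁻¹) * (r * e) := by group
    _ = (s * cm x s) * (f * x * x⁻¹) * (r * e) := by rw [l.S1_conj_R hx hs, l.cen f hf x hx.1]
    _ = s * ((cm x s * f) * r) * e := by group
    _ = s * (r * (cm x s * f)) * e := by rw [l.cen _ hgf r (l.leR hr)]
    _ = (s * r) * (cm x s * f * e) := by group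
    _ = r * s * (cm x s * f * e) := by rw [l.commR hs hr]

theorem rho_conj {h x y : G} (hh : h ∈ H) (hx : x ∈ l.S1) (hy : y ∈ Q) :
    l.rho (h * x * h⁻¹) (h * y * h⁻¹) = l.rho x y := by
  obtain ⟨r, hr, e, he, h1⟩ := l.cm_Q hx hy
  rw [l.rho_eq hr he h1]
  refine l.rho_eq hr (l.normE hh he) ?_
  rw [← cm_conj, h1]
  calc h * (r * e) * h⁻¹ = (h * r * h⁻¹) * (h * e * h⁻¹) := by group
    _ = r * (h * e * h⁻¹) := by rw [l.conjR hh hr]

theorem rho_E {x y : G} (hx : x ∈ T) (hy : y ∈ E) : l.rho x y = 1 :=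
  l.rho_one_of (by rw [l.cm_E_right hy hx]; exact E.one_mem)

theorem rho_SS {x y : G} (hx : x ∈ l.SS) (hy : y ∈ Q) : l.rho x y = 1 :=
  l.rho_one_of (l.SS_cm hx (l.Q_le_SS hy))

theorem R_comm (a b : R) : a * b = b * a := Subtype.ext (l.commR a.2 b.2)
theorem R_sq (a : R) : a * a = 1 := Subtype.ext (l.elemR a a.2)

/-- `ρ(x,y)` depends only on `[x,t]` -/
theorem rho_congr {x x' y t : G} (hx : x ∈ l.S1) (hx' : x' ∈ l.S1) (hy : y ∈ Q) (ht : t ∈ R) (ht1 : t ≠ 1)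
    (h : cm x t = cm x' t) : l.rho x y = l.rho x' y := by
  have h1 := l.inv_mul_mem hx hx' ht ht1 h
  have h2 : x' = x * (x⁻¹ * x') := by group
  rw [h2, l.rho_mul_left hx (l.SS_le_S1 h1) hy, l.rho_SS h1 hy, mul_one]

/-- the bilinear form `β(y,z) = (yz)² y⁻² z⁻²` -/
def beta (_l : LayE T R Q E H q) (y z : G) : G := cm y⁻¹ z

theorem Q_cm {y z : G} (hy : y ∈ Q) (hz : z ∈ Q) : cm y z ∈ E := l.SS_cm (l.Q_le_SS hy) (l.Q_le_SS hz)

theorem beta_mem {y z : G} (hy : y ∈ Q) (hz : z ∈ Q) : l.beta y z ∈ E := l.Q_cm (Q.inv_mem hy) hz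

theorem sq_mul {y z : G} (hy : y ∈ Q) (hz : z ∈ Q) : y * z * (y * z) = y * y * (z * z) * l.beta y z := by
  have h1 := l.beta_mem hy hz
  have h2 := l.cen _ h1 z (l.leQ hz)
  calc y * z * (y * z) = y * y * (cm y⁻¹ z * z) * z := by unfold cm; group
    _ = y * y * (z * cm y⁻¹ z) * z := by
        rw [show cm y⁻¹ z * z = z * cm y⁻¹ z from h2]
    _ = y * y * z * (cm y⁻¹ z * z) := by group
    _ = y * y * z * (z * cm y⁻¹ z) := by rw [show cm y⁻¹ z * z = z * cm y⁻¹ z from h2]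
    _ = y * y * (z * z) * l.beta y z := by unfold beta; group

theorem beta_mul_left {y z w : G} (hy : y ∈ Q) (hz : z ∈ Q) (hw : w ∈ Q) :
    l.beta (y * z) w = l.beta y w * l.beta z w := by
  unfold beta
  rw [mul_inv_rev, l.cm_mul_left (l.leQ (Q.inv_mem hz)) (l.leQ hw) (l.Q_cm (Q.inv_mem hy) hw)]
  exact l.cen _ (l.Q_cm (Q.inv_mem hz) hw) _ (l.leET (l.Q_cm (Q.inv_mem hy) hw))

theorem beta_mul_right {y z w : G} (hy : y ∈ Q) (hz : z ∈ Q) (hw : w ∈ Q) :
    l.beta y (z * w) = l.beta y z * l.beta y w :=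
  l.cm_mul_right (l.leQ hz) (l.Q_cm (Q.inv_mem hy) hw)

/-- a preimage of `e` under `[·,t]` -/
theorem exists_xi [Finite G] (hne : T ≠ l.SS) {t : G} (ht : t ∈ R) (ht1 : t ≠ 1) :
    ∃ ξ : G → G, ∀ e ∈ E, ξ e ∈ l.S1 ∧ cm (ξ e) t = e := by
  classical
  refine ⟨fun e => if h : e ∈ E then (l.exists_cm hne ht ht1 h).choose else 1, fun e he => ?_⟩
  simp only [dif_pos he]
  exact (l.exists_cm hne ht ht1 he).choose_spec

theorem exists_notin_Q [Finite G] : ∃ y ∈ Q, y ∉ E := by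
  obtain ⟨e, he, he1⟩ : ∃ e ∈ E, e ≠ 1 := by
    by_contra hno
    push Not at hno
    have h1 : E = ⊥ := by
      rw [eq_bot_iff]; intro r hr; exact mem_bot.mpr (hno r hr)
    have h2 := l.cardE
    rw [h1, Subgroup.card_bot] at h2
    have := l.big
    omega
  obtain ⟨y, hy, hye⟩ := l.sq_surj e he
  exact ⟨y, hy, fun h => he1 (by rw [← hye]; exact l.elemE y h)⟩

theorem cardQ [Finite G] : Nat.card Q = q * q := by
  -- squaring is a bijection `Q/E → E`
  have hE : (E.subgroupOf Q).Normal := ⟨fun e he x => by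
    rw [mem_subgroupOf] at he ⊢
    have h1 : ((x * e * x⁻¹ : Q) : G) = e := by
      show (x : G) * e * (x : G)⁻¹ = e
      rw [← l.cen _ he x (l.leQ x.2)]; group
    rw [h1]; exact he⟩
  have h1 := Subgroup.card_eq_card_quotient_mul_card_subgroup (E.subgroupOf Q)
  have h2 : Nat.card (E.subgroupOf Q) = q := by
    rw [← l.cardE]; exact Nat.card_congr (Subgroup.subgroupOfEquivOfLe l.leE).toEquiv
  have h3 : Nat.card (Q ⧸ E.subgroupOf Q) = q := by
    rw [← l.cardE]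
    let f : Q ⧸ E.subgroupOf Q → E := Quotient.lift (fun x : Q => (⟨x * x, l.sq_mem x x.2⟩ : E)) (by
      intro x y hxy
      have h4 : x⁻¹ * y ∈ E.subgroupOf Q := QuotientGroup.leftRel_apply.mp hxy
      rw [mem_subgroupOf] at h4
      have h4' : (x : G)⁻¹ * y ∈ E := h4
      apply Subtype.ext
      show (x : G) * x = y * y
      have h5 : (y : G) = x * ((x : G)⁻¹ * y) := by group
      have h6 := l.cen _ h4' x (l.leQ x.2)
      rw [h5]
      calc (x : G) * x = x * x * (((x : G)⁻¹ * y) * ((x : G)⁻¹ * y)) := by rw [l.elemE _ h4', mul_one]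
        _ = x * (x * ((x : G)⁻¹ * y)) * ((x : G)⁻¹ * y) := by group
        _ = x * (((x : G)⁻¹ * y) * x) * ((x : G)⁻¹ * y) := by rw [h6]
        _ = x * ((x : G)⁻¹ * y) * (x * ((x : G)⁻¹ * y)) := by group)
    refine Nat.card_eq_of_bijective f ⟨?_, ?_⟩
    · intro a b hab
      obtain ⟨x, rfl⟩ := QuotientGroup.mk_surjective a
      obtain ⟨y, rfl⟩ := QuotientGroup.mk_surjective b
      rw [QuotientGroup.eq, mem_subgroupOf]
      exact l.sq_inj x x.2 y y.2 (congrArg Subtype.val hab)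
    · rintro ⟨e, he⟩
      obtain ⟨x, hx, hxe⟩ := l.sq_surj e he
      exact ⟨((⟨x, hx⟩ : Q) : Q ⧸ E.subgroupOf Q), Subtype.ext hxe⟩
  rw [h1, h2, h3]

/-- (P2) -/
theorem rho_eq_one [Finite G] (hne : T ≠ l.SS) {x w : G} (hx : x ∈ l.S1) (hw : w ∈ Q) : l.rho x w = 1 := by
  obtain ⟨t, ht, ht1⟩ := l.exists_t
  obtain ⟨ξ, hξ⟩ := l.exists_xi hne ht ht1
  obtain ⟨y0, hy0, hy0E⟩ := l.exists_notin_Q
  -- `ρ₂`
  have ρ_right : ∀ e ∈ E, ∀ y ∈ Q, ∀ z ∈ Q, l.rho (ξ e) (y * z) = l.rho (ξ e) y * l.rho (ξ e) z :=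
    fun e he y hy z hz => l.rho_mul_right (hξ e he).1 hy hz
  have ρ_left : ∀ e ∈ E, ∀ f ∈ E, ∀ y ∈ Q, l.rho (ξ (e * f)) y = l.rho (ξ e) y * l.rho (ξ f) y := by
    intro e he f hf y hy
    rw [← l.rho_mul_left (hξ e he).1 (hξ f hf).1 hy]
    refine l.rho_congr (hξ _ (E.mul_mem he hf)).1 (l.S1.mul_mem (hξ e he).1 (hξ f hf).1) hy ht ht1 ?_
    rw [(hξ _ (E.mul_mem he hf)).2, l.cm_mul_left (hξ e he).1.1 (l.leR ht) ((hξ f hf).1.2 t ht),
      (hξ e he).2, (hξ f hf).2]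
  have ρ_conj : ∀ k ∈ H, ∀ e ∈ E, ∀ y ∈ Q, l.rho (ξ (k * e * k⁻¹)) (k * y * k⁻¹) = l.rho (ξ e) y := by
    intro k hk e he y hy
    rw [← l.rho_conj hk (hξ e he).1 hy]
    refine l.rho_congr (hξ _ (l.normE hk he)).1 (l.S1_norm hk (hξ e he).1) (l.normQ k hk y hy) ht ht1 ?_
    rw [(hξ _ (l.normE hk he)).2, l.cm_conj_R hk ht, (hξ e he).2]
  have key : ∀ h ∈ H, ∀ y ∈ Q, y ∉ E → l.rho (ξ (y * y)) (h * y * h⁻¹) = 1 := by
    intro h hh
    let f : G → R := fun y => l.rho (ξ (y * y)) (h * y * h⁻¹)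
    let u : G → G := fun y => h * y * h⁻¹
    have hu : ∀ y ∈ Q, u y ∈ Q := fun y hy => l.normQ h hh y hy
    have huu : ∀ y z : G, u (y * z) = u y * u z := fun y z => by show _ = _; simp only [u]; group
    let D2 : G → G → R := fun y z => l.rho (ξ (z * z)) (u y) * l.rho (ξ (y * y)) (u z) *
      l.rho (ξ (l.beta y z)) (u y) * l.rho (ξ (l.beta y z)) (u z)
    let D3 : G → G → G → R := fun y z w => l.rho (ξ (l.beta y z)) (u w) * l.rho (ξ (l.beta z w)) (u y) *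
      l.rho (ξ (l.beta y w)) (u z)
    have hcomm : Std.Commutative (α := R) (· * ·) := ⟨l.R_comm⟩
    obtain ⟨a, ha, b, hb, d, hd, g, hg, haN, hbN, hab, hdN, hgN, hdgN⟩ := exists_four (X := Q) (N := E) (by
      rw [l.cardQ, l.cardE]
      exact Nat.mul_le_mul_right _ l.big)
    have hconst : ∀ y ∈ Q, y ∉ E → f y = f y0 := by
      intro y hy hyE
      obtain ⟨k, hk, e, he, hke⟩ := l.trans' y0 hy0 y hy hy0E hyE
      have h1 : y = (k * y0 * k⁻¹) * e := by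
        rw [hke]
        calc y = y * (e * e) := by rw [l.elemE e he, mul_one]
          _ = y * e * e := by group
      have hky := l.normQ k hk y0 hy0
      have h2 : y * y = k * (y0 * y0) * k⁻¹ := by
        have h3 := l.cen e he _ (l.leQ hky)
        rw [h1]
        calc k * y0 * k⁻¹ * e * (k * y0 * k⁻¹ * e) = k * y0 * k⁻¹ * (e * (k * y0 * k⁻¹)) * e := by group
          _ = k * y0 * k⁻¹ * ((k * y0 * k⁻¹) * e) * e := by rw [h3]
          _ = k * (y0 * y0) * k⁻¹ * (e * e) := by group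
          _ = k * (y0 * y0) * k⁻¹ := by rw [l.elemE e he, mul_one]
      have h4 : u y = (k * (u y0) * k⁻¹) * (h * e * h⁻¹) := by
        have h5 := l.commH h hh k hk
        have h6 := l.commH h hh k⁻¹ (H.inv_mem hk)
        rw [h1, huu]
        show h * (k * y0 * k⁻¹) * h⁻¹ * (h * e * h⁻¹) = k * (h * y0 * h⁻¹) * k⁻¹ * (h * e * h⁻¹)
        have h7 : k⁻¹ * h⁻¹ = h⁻¹ * k⁻¹ := by rw [← mul_inv_rev, ← mul_inv_rev, h5]
        calc h * (k * y0 * k⁻¹) * h⁻¹ * (h * e * h⁻¹) = (h * k) * y0 * (k⁻¹ * h⁻¹) * (h * e * h⁻¹) := by group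
          _ = (k * h) * y0 * (h⁻¹ * k⁻¹) * (h * e * h⁻¹) := by rw [h5, h7]
          _ = k * (h * y0 * h⁻¹) * k⁻¹ * (h * e * h⁻¹) := by group
      show l.rho (ξ (y * y)) (u y) = l.rho (ξ (y0 * y0)) (u y0)
      have h8 : y0 * y0 ∈ E := l.sq_mem y0 hy0
      rw [h2, h4, ρ_right _ (l.normE hk h8) _ (l.normQ k hk _ (hu y0 hy0)) _ (l.leE (l.normE hh he)),
        l.rho_E (hξ _ (l.normE hk h8)).1.1 (l.normE hh he), mul_one, ρ_conj k hk _ h8 _ (hu y0 hy0)]
    have h1 : ∀ y ∈ Q, ∀ z ∈ Q, f (y * z) = f y * f z * D2 y z := by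
      intro y hy z hz
      show l.rho (ξ (y * z * (y * z))) (u (y * z)) = _
      have e1 := l.sq_mem y hy
      have e2 := l.sq_mem z hz
      have e3 := l.beta_mem hy hz
      rw [l.sq_mul hy hz, huu, ρ_left _ (E.mul_mem e1 e2) _ e3 _ (Q.mul_mem (hu y hy) (hu z hz)),
        ρ_left _ e1 _ e2 _ (Q.mul_mem (hu y hy) (hu z hz)), ρ_right _ e1 _ (hu y hy) _ (hu z hz),
        ρ_right _ e2 _ (hu y hy) _ (hu z hz), ρ_right _ e3 _ (hu y hy) _ (hu z hz)]
      show l.rho (ξ (y * y)) (u y) * l.rho (ξ (y * y)) (u z) * (l.rho (ξ (z * z)) (u y) * l.rho (ξ (z * z)) (u z)) *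
        (l.rho (ξ (l.beta y z)) (u y) * l.rho (ξ (l.beta y z)) (u z)) =
        l.rho (ξ (y * y)) (u y) * l.rho (ξ (z * z)) (u z) * (l.rho (ξ (z * z)) (u y) * l.rho (ξ (y * y)) (u z) *
        l.rho (ξ (l.beta y z)) (u y) * l.rho (ξ (l.beta y z)) (u z))
      ac_rfl
    have h2 : ∀ y ∈ Q, ∀ z ∈ Q, ∀ w ∈ Q, D2 (y * z) w = D2 y w * D2 z w * D3 y z w := by
      intro y hy z hz w hw
      have e1 := l.sq_mem y hy
      have e2 := l.sq_mem z hz
      have e3 := l.sq_mem w hw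
      have e4 := l.beta_mem hy hz
      have e5 := l.beta_mem hy hw
      have e6 := l.beta_mem hz hw
      have uy := hu y hy
      have uz := hu z hz
      have uw := hu w hw
      show l.rho (ξ (w * w)) (u (y * z)) * l.rho (ξ (y * z * (y * z))) (u w) *
        l.rho (ξ (l.beta (y * z) w)) (u (y * z)) * l.rho (ξ (l.beta (y * z) w)) (u w) = _
      rw [l.sq_mul hy hz, huu, l.beta_mul_left hy hz hw, ρ_right _ e3 _ uy _ uz,
        ρ_left _ (E.mul_mem e1 e2) _ e4 _ uw, ρ_left _ e1 _ e2 _ uw,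
        ρ_left _ e5 _ e6 _ (Q.mul_mem uy uz), ρ_left _ e5 _ e6 _ uw, ρ_right _ e5 _ uy _ uz,
        ρ_right _ e6 _ uy _ uz]
      show _ = (l.rho (ξ (w * w)) (u y) * l.rho (ξ (y * y)) (u w) *
        l.rho (ξ (l.beta y w)) (u y) * l.rho (ξ (l.beta y w)) (u w)) * (l.rho (ξ (w * w)) (u z) *
        l.rho (ξ (z * z)) (u w) * l.rho (ξ (l.beta z w)) (u z) * l.rho (ξ (l.beta z w)) (u w)) *
        (l.rho (ξ (l.beta y z)) (u w) * l.rho (ξ (l.beta z w)) (u y) * l.rho (ξ (l.beta y w)) (u z))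
      ac_rfl
    have h3 : ∀ y ∈ Q, ∀ z ∈ Q, ∀ w ∈ Q, ∀ w' ∈ Q, D3 y z (w * w') = D3 y z w * D3 y z w' := by
      intro y hy z hz w hw w' hw'
      have e4 := l.beta_mem hy hz
      have e5 := l.beta_mem hy hw
      have e6 := l.beta_mem hz hw
      have e7 := l.beta_mem hy hw'
      have e8 := l.beta_mem hz hw'
      have uy := hu y hy
      have uz := hu z hz
      have uw := hu w hw
      have uw' := hu w' hw'
      show l.rho (ξ (l.beta y z)) (u (w * w')) * l.rho (ξ (l.beta z (w * w'))) (u y) *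
        l.rho (ξ (l.beta y (w * w'))) (u z) = _
      rw [huu, l.beta_mul_right hz hw hw', l.beta_mul_right hy hw hw', ρ_right _ e4 _ uw _ uw',
        ρ_left _ e6 _ e8 _ uy, ρ_left _ e5 _ e7 _ uz]
      show _ = (l.rho (ξ (l.beta y z)) (u w) * l.rho (ξ (l.beta z w)) (u y) * l.rho (ξ (l.beta y w)) (u z)) *
        (l.rho (ξ (l.beta y z)) (u w') * l.rho (ξ (l.beta z w')) (u y) * l.rho (ξ (l.beta y w')) (u z))
      ac_rfl
    have h4 := const_three (N := E) (X := Q) f D2 D3 (f y0) (l.R_sq _) hconst h1 h2 h3 ha hb hd hg haN hbN hab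
      hdN hgN hdgN
    intro y hy hyE
    rw [← h4, ← hconst y hy hyE]
  -- conclusion
  by_cases hxS : x ∈ l.SS
  · exact l.rho_SS hxS hw
  by_cases hwE : w ∈ E
  · exact l.rho_E hx.1 hwE
  have he := hx.2 t ht
  obtain ⟨y, hy, hye⟩ := l.sq_surj _ he
  have hyE : y ∉ E := fun h => l.cm_ne_one hx.1 hxS ht ht1 (by rw [← hye]; exact l.elemE y h)
  obtain ⟨h, hh, e', he', hhe⟩ := l.trans' y hy w hw hyE hwE
  have h1 : w = (h * y * h⁻¹) * e' := by
    rw [hhe]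
    calc w = w * (e' * e') := by rw [l.elemE e' he', mul_one]
      _ = w * e' * e' := by group
  have h2 : l.rho x w = l.rho (ξ (y * y)) w := by
    refine l.rho_congr hx (hξ _ (l.sq_mem y hy)).1 hw ht ht1 ?_
    rw [(hξ _ (l.sq_mem y hy)).2, hye]
  rw [h2, h1, ρ_right _ (l.sq_mem y hy) _ (l.normQ h hh y hy) _ (l.leE he'),
    l.rho_E (hξ _ (l.sq_mem y hy)).1.1 he', mul_one]
  exact key h hh y hy hyE

/-- (P2) `[S₁, Q] ≤ E` -/
theorem S1_Q [Finite G] (hne : T ≠ l.SS) {x w : G} (hx : x ∈ l.S1) (hw : w ∈ Q) : cm x w ∈ E :=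
  l.mem_of_rho hx hw (l.rho_eq_one hne hx hw)

end LayE

end Cfsg.Agent.OddCyclic.CaseELayDefs
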