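import Cfsg.Agent.OddCyclic.CaseELayerC

/-!
# S0342, component type, case E: the layer theorem, `S₁/E` is elementary abelian
-/

set_option autoImplicit false
set_option linter.unusedSectionVars false

namespace Cfsg.Agent.OddCyclic.CaseELayDefs

open Subgroup
open Cfsg.Agent.LieExceptional Cfsg.Agent.LieExceptional.CITDefs
open Cfsg.Agent.OddCyclic.CaseELayer

variable {G : Type*} [Group G] {T R Q E H : Subgroup G} {q : ℕ}

namespace LayE

variable (l : LayE T R Q E H q)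
include l

theorem mem_E_of_comm_Q [Finite G] {y : G} (hy : y ∈ Q) (h : ∀ w ∈ Q, w * y = y * w) : y ∈ E := by
  classical
  by_contra hyE
  obtain ⟨x, hx, hx'⟩ := exists_avoid (A := Q) (D := E) {1, y} (by
    have h1 : ({1, y} : Finset G).card ≤ 2 := Finset.card_le_two
    rw [l.cardQ, l.cardE]
    have h2 := l.big
    nlinarith)
  have h1 := hx' 1 (by simp)
  have h2 := hx' y (by simp)
  rw [inv_one, one_mul] at h1
  rcases l.centQ y hy hyE x hx (h x hx) with h3 | h3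
  · exact h1 h3
  · exact h2 h3

/-- `[x,x'] ∈ V` -/
theorem S1_cm_V [Finite G] (hne : T ≠ l.SS) {x y : G} (hx : x ∈ l.S1) (hy : y ∈ l.S1) :
    ∃ r ∈ R, ∃ e ∈ E, cm x y = r * e := by
  obtain ⟨t, ht, ht1⟩ := l.exists_t
  have gen : ∀ w ∈ T, (∀ z ∈ l.S1, cm z w ∈ E) → cm (cm x y) w = 1 := by
    intro w hw hz
    have hi : ∀ z ∈ l.S1, cm z w * cm z⁻¹ w = 1 := by
      intro z hzS
      rw [← l.cm_mul_left hzS.1 hw (hz _ (l.S1.inv_mem hzS))]
      unfold cm; group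
    have h1 : cm x y = (x * y) * (x⁻¹ * y⁻¹) := by unfold cm; group
    have hx' := l.S1.inv_mem hx
    have hy' := l.S1.inv_mem hy
    rw [h1, l.cm_mul_left (T.mul_mem hx.1 hy.1) hw (hz _ (l.S1.mul_mem hx' hy')),
      l.cm_mul_left hx.1 hw (hz y hy), l.cm_mul_left hx'.1 hw (hz _ hy')]
    have h2 := l.cen _ (hz y hy) _ (l.leET (hz _ hx'))
    calc cm x w * cm y w * (cm x⁻¹ w * cm y⁻¹ w) = cm x w * (cm y w * cm x⁻¹ w) * cm y⁻¹ w := by group
      _ = cm x w * (cm x⁻¹ w * cm y w) * cm y⁻¹ w := by rw [h2]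
      _ = (cm x w * cm x⁻¹ w) * (cm y w * cm y⁻¹ w) := by group
      _ = 1 := by rw [hi x hx, hi y hy, one_mul]
  have hcS : cm x y ∈ l.SS := by
    refine l.mem_SS_of_comm ?_ ht ht1 (cm_eq_one.mp (gen t (l.leR ht) (fun z hz => hz.2 t ht)))
    exact T.mul_mem (T.mul_mem (T.mul_mem hx.1 hy.1) (T.inv_mem hx.1)) (T.inv_mem hy.1)
  obtain ⟨r, hr, y', hy', h⟩ := hcS
  refine ⟨r, hr, y', l.mem_E_of_comm_Q hy' (fun w hw => ?_), h⟩
  have h1 := cm_eq_one.mp (gen w (l.leQ hw) (fun z hz => l.S1_Q hne hz hw))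
  rw [h] at h1
  have h2 : r * (y' * w) = r * (w * y') := by
    calc r * (y' * w) = r * y' * w := by group
      _ = w * (r * y') := h1
      _ = (w * r) * y' := by group
      _ = (r * w) * y' := by rw [l.commRQ r hr w hw]
      _ = r * (w * y') := by group
  exact (mul_left_cancel h2).symm

theorem lam_mul_left [Finite G] (hne : T ≠ l.SS) {x x' y : G} (hx : x ∈ l.S1) (hx' : x' ∈ l.S1) (hy : y ∈ l.S1) :
    l.rho (x * x') y = l.rho x y * l.rho x' y := by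
  obtain ⟨r, hr, e, he, h1⟩ := l.S1_cm_V hne hx hy
  obtain ⟨s, hs, f, hf, h2⟩ := l.S1_cm_V hne hx' hy
  rw [l.rho_eq hr he h1, l.rho_eq hs hf h2]
  have hg := hx.2 s hs
  have hgf : cm x s * f ∈ E := E.mul_mem hg hf
  refine l.rho_eq (R.mul_mem hr hs) (E.mul_mem hgf he) ?_
  have h3 : cm (x * x') y = x * cm x' y * x⁻¹ * cm x y := by unfold cm; group
  rw [h3, h1, h2]
  calc x * (s * f) * x⁻¹ * (r * e) = (x * s * x⁻¹) * (x * f * x⁻¹) * (r * e) := by group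
    _ = (s * cm x s) * (f * x * x⁻¹) * (r * e) := by rw [l.S1_conj_R hx hs, l.cen f hf x hx.1]
    _ = s * ((cm x s * f) * r) * e := by group
    _ = s * (r * (cm x s * f)) * e := by rw [l.cen _ hgf r (l.leR hr)]
    _ = (s * r) * (cm x s * f * e) := by group
    _ = r * s * (cm x s * f * e) := by rw [l.commR hs hr]

theorem lam_mul_right [Finite G] (hne : T ≠ l.SS) {x y z : G} (hx : x ∈ l.S1) (hy : y ∈ l.S1) (hz : z ∈ l.S1) :
    l.rho x (y * z) = l.rho x y * l.rho x z := by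
  obtain ⟨r, hr, e, he, h1⟩ := l.S1_cm_V hne hx hy
  obtain ⟨s, hs, f, hf, h2⟩ := l.S1_cm_V hne hx hz
  rw [l.rho_eq hr he h1, l.rho_eq hs hf h2]
  have hg := hy.2 s hs
  have hgf : e * (cm y s * f) ∈ E := E.mul_mem he (E.mul_mem hg hf)
  refine l.rho_eq (R.mul_mem hr hs) hgf ?_
  have h3 : cm x (y * z) = cm x y * (y * cm x z * y⁻¹) := by unfold cm; group
  rw [h3, h1, h2]
  calc r * e * (y * (s * f) * y⁻¹) = r * e * ((y * s * y⁻¹) * (y * f * y⁻¹)) := by group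
    _ = r * e * ((s * cm y s) * (f * y * y⁻¹)) := by rw [l.S1_conj_R hy hs, l.cen f hf y hy.1]
    _ = r * (e * s) * (cm y s * f) := by group
    _ = r * (s * e) * (cm y s * f) := by rw [l.cen e he s (l.leR hs)]
    _ = r * s * (e * (cm y s * f)) := by group

theorem lam_conj [Finite G] (hne : T ≠ l.SS) {h x y : G} (hh : h ∈ H) (hx : x ∈ l.S1) (hy : y ∈ l.S1) :
    l.rho (h * x * h⁻¹) (h * y * h⁻¹) = l.rho x y := by
  obtain ⟨r, hr, e, he, h1⟩ := l.S1_cm_V hne hx hy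
  rw [l.rho_eq hr he h1]
  refine l.rho_eq hr (l.normE hh he) ?_
  rw [← cm_conj, h1]
  calc h * (r * e) * h⁻¹ = (h * r * h⁻¹) * (h * e * h⁻¹) := by group
    _ = r * (h * e * h⁻¹) := by rw [l.conjR hh hr]

theorem cm_SS_S1 [Finite G] (hne : T ≠ l.SS) {x y : G} (hx : x ∈ l.SS) (hy : y ∈ l.S1) : cm x y ∈ E := by
  obtain ⟨r, hr, w, hw, rfl⟩ := hx
  have h1 : cm w y ∈ E := by
    rw [← cm_inv]; exact E.inv_mem (l.S1_Q hne hy hw)
  rw [l.cm_mul_left (l.leR hr) hy.1 h1]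
  refine E.mul_mem ?_ h1
  rw [← cm_inv]; exact E.inv_mem (hy.2 r hr)

theorem lam_of_mem [Finite G] (hne : T ≠ l.SS) {x y : G} (hx : x ∈ l.S1) (hy : y ∈ l.S1) (h : l.rho x y = 1) :
    cm x y ∈ E := by
  obtain ⟨r, hr, e, he, h1⟩ := l.S1_cm_V hne hx hy
  rw [l.rho_eq hr he h1] at h
  have h2 : r = 1 := congrArg Subtype.val h
  rw [h1, h2, one_mul]; exact he

theorem card16 [Finite G] (hne : T ≠ l.SS) : 16 * Nat.card l.SS ≤ Nat.card l.S1 := by
  rw [l.card_S1 hne]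
  exact Nat.mul_le_mul_right _ l.big

/-- (P3) -/
theorem S1_cm [Finite G] (hne : T ≠ l.SS) {x y : G} (hx : x ∈ l.S1) (hy : y ∈ l.S1) : cm x y ∈ E := by
  obtain ⟨x0, hx0, hx0S⟩ := l.exists_S1 hne
  have key : ∀ h ∈ H, ∀ y ∈ l.S1, y ∉ l.SS → l.rho (h * y * h⁻¹) y = 1 := by
    intro h hh
    let u : G → G := fun y => h * y * h⁻¹
    have hu : ∀ y ∈ l.S1, u y ∈ l.S1 := fun y hy => l.S1_norm hh hy
    have huu : ∀ y z : G, u (y * z) = u y * u z := fun y z => by show _ = _; simp only [u]; group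
    let f : G → R := fun y => l.rho (u y) y
    let D2 : G → G → R := fun y z => l.rho (u y) z * l.rho (u z) y
    have hcomm : Std.Commutative (α := R) (· * ·) := ⟨l.R_comm⟩
    obtain ⟨a, ha, b, hb, d, hd, g, hg, haN, hbN, hab, hdN, hgN, hdgN⟩ := exists_four (X := l.S1) (N := l.SS)
      (l.card16 hne)
    have hconst : ∀ y ∈ l.S1, y ∉ l.SS → f y = f x0 := by
      intro y hy hyS
      obtain ⟨k, hk, hks⟩ := l.trans_S1 hx0 hx0S hy hyS
      set s := (k * x0 * k⁻¹)⁻¹ * y with hs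
      have h1 : y = (k * x0 * k⁻¹) * s := by rw [hs]; group
      have hkx := l.S1_norm hk hx0
      have hsS1 := l.SS_le_S1 hks
      have h5 := l.commH h hh k hk
      have h7 : k⁻¹ * h⁻¹ = h⁻¹ * k⁻¹ := by rw [← mul_inv_rev, ← mul_inv_rev, h5]
      have h2 : u y = (k * (u x0) * k⁻¹) * u s := by
        rw [h1, huu]
        show h * (k * x0 * k⁻¹) * h⁻¹ * (u s) = k * (h * x0 * h⁻¹) * k⁻¹ * (u s)
        calc h * (k * x0 * k⁻¹) * h⁻¹ * (u s) = (h * k) * x0 * (k⁻¹ * h⁻¹) * (u s) := by group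
          _ = (k * h) * x0 * (h⁻¹ * k⁻¹) * (u s) := by rw [h5, h7]
          _ = k * (h * x0 * h⁻¹) * k⁻¹ * (u s) := by group
      have husS : u s ∈ l.SS := l.SS_norm hh hks
      show l.rho (u y) y = l.rho (u x0) x0
      rw [h2, l.lam_mul_left hne (l.S1_norm hk (hu x0 hx0)) (l.SS_le_S1 husS) hy,
        l.rho_one_of (l.cm_SS_S1 hne husS hy), mul_one]
      rw [h1, l.lam_mul_right hne (l.S1_norm hk (hu x0 hx0)) hkx hsS1,
        l.rho_one_of (x := k * u x0 * k⁻¹) (y := s) (by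
          rw [← cm_inv]; exact E.inv_mem (l.cm_SS_S1 hne hks (l.S1_norm hk (hu x0 hx0)))), mul_one,
        l.lam_conj hne hk (hu x0 hx0) hx0]
    have h1 : ∀ y ∈ l.S1, ∀ z ∈ l.S1, f (y * z) = f y * f z * D2 y z := by
      intro y hy z hz
      show l.rho (u (y * z)) (y * z) = _
      rw [huu, l.lam_mul_left hne (hu y hy) (hu z hz) (l.S1.mul_mem hy hz), l.lam_mul_right hne (hu y hy) hy hz,
        l.lam_mul_right hne (hu z hz) hy hz]
      show l.rho (u y) y * l.rho (u y) z * (l.rho (u z) y * l.rho (u z) z) =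
        l.rho (u y) y * l.rho (u z) z * (l.rho (u y) z * l.rho (u z) y)
      ac_rfl
    have h2 : ∀ y ∈ l.S1, ∀ z ∈ l.S1, ∀ w ∈ l.S1, D2 y (z * w) = D2 y z * D2 y w := by
      intro y hy z hz w hw
      show l.rho (u y) (z * w) * l.rho (u (z * w)) y = _
      rw [huu, l.lam_mul_right hne (hu y hy) hz hw, l.lam_mul_left hne (hu z hz) (hu w hw) hy]
      show l.rho (u y) z * l.rho (u y) w * (l.rho (u z) y * l.rho (u w) y) =
        l.rho (u y) z * l.rho (u z) y * (l.rho (u y) w * l.rho (u w) y)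
      ac_rfl
    have e1 := hdN 1 (by simp)
    rw [one_mul] at e1
    have e2 := hdN (a * b) (by simp)
    rw [mul_assoc] at e2
    have h4 := const_two (N := l.SS) (X := l.S1) f D2 (f x0) (l.R_sq _) hconst h1 h2 ha hb hd haN hbN e1 hab
      (hdN a (by simp)) (hdN b (by simp)) e2
    intro y hy hyS
    rw [← h4, ← hconst y hy hyS]
  by_cases hxS : x ∈ l.SS
  · exact l.cm_SS_S1 hne hxS hy
  by_cases hyS : y ∈ l.SS
  · rw [← cm_inv]; exact E.inv_mem (l.cm_SS_S1 hne hyS hx)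
  obtain ⟨h, hh, hs⟩ := l.trans_S1 hy hyS hx hxS
  refine l.lam_of_mem hne hx hy ?_
  have h1 : x = (h * y * h⁻¹) * ((h * y * h⁻¹)⁻¹ * x) := by group
  rw [h1, l.lam_mul_left hne (l.S1_norm hh hy) (l.SS_le_S1 hs) hy, key h hh y hy hyS,
    l.rho_one_of (l.cm_SS_S1 hne hs hy), mul_one]

theorem S1_sq_mul [Finite G] (hne : T ≠ l.SS) {x y : G} (hx : x ∈ l.S1) (hy : y ∈ l.S1) :
    ∃ e ∈ E, x * y * (x * y) = x * x * (y * y) * e := by
  have h1 := l.S1_cm hne (l.S1.inv_mem hx) hy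
  refine ⟨cm x⁻¹ y, h1, ?_⟩
  have h2 := l.cen _ h1 y hy.1
  calc x * y * (x * y) = x * x * (cm x⁻¹ y * y) * y := by unfold cm; group
    _ = x * x * (y * cm x⁻¹ y) * y := by rw [h2]
    _ = x * x * y * (cm x⁻¹ y * y) := by group
    _ = x * x * y * (y * cm x⁻¹ y) := by rw [h2]
    _ = x * x * (y * y) * cm x⁻¹ y := by group

theorem S1_sq_SS [Finite G] {x : G} (hx : x ∈ l.S1) : x * x ∈ l.SS := by
  obtain ⟨t, ht, ht1⟩ := l.exists_t
  refine l.mem_SS_of_comm (T.mul_mem hx.1 hx.1) ht ht1 (cm_eq_one.mp ?_)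
  rw [l.cm_mul_left hx.1 (l.leR ht) (hx.2 t ht)]
  exact l.elemE _ (hx.2 t ht)

/-- `x² ∈ Q` -/
theorem S1_sq_Q [Finite G] (hne : T ≠ l.SS) {x : G} (hx : x ∈ l.S1) : x * x ∈ Q := by
  classical
  -- the `R`-part
  have hex : ∀ x ∈ l.S1, ∃ r : R, ∃ y ∈ Q, x * x = r * y := fun x hx => by
    obtain ⟨r, hr, y, hy, h⟩ := l.S1_sq_SS hx
    exact ⟨⟨r, hr⟩, y, hy, h⟩
  let σ : G → R := fun x => if h : x ∈ l.S1 then (hex x h).choose else 1
  have hσ : ∀ x ∈ l.S1, ∃ y ∈ Q, x * x = σ x * y := fun x hx => by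
    simp only [σ, dif_pos hx]
    exact (hex x hx).choose_spec
  have hσ_eq : ∀ x ∈ l.S1, ∀ r : R, ∀ y ∈ Q, x * x = r * y → σ x = r := by
    intro x hx r y hy h
    obtain ⟨z, hz, h2⟩ := hσ x hx
    apply Subtype.ext
    exact (l.uniq (σ x).2 r.2 hz hy (h2.symm.trans h)).1
  have hmul : ∀ x ∈ l.S1, ∀ y ∈ l.S1, σ (x * y) = σ x * σ y := by
    intro x hx y hy
    obtain ⟨z, hz, h1⟩ := hσ x hx
    obtain ⟨w, hw, h2⟩ := hσ y hy
    obtain ⟨e, he, h3⟩ := l.S1_sq_mul hne hx hy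
    refine hσ_eq _ (l.S1.mul_mem hx hy) _ (z * w * e) (Q.mul_mem (Q.mul_mem hz hw) (l.leE he)) ?_
    rw [h3, h1, h2]
    show (σ x : G) * z * (σ y * w) * e = (σ x * σ y) * (z * w * e)
    calc (σ x : G) * z * (σ y * w) * e = σ x * (z * σ y) * w * e := by group
      _ = σ x * (σ y * z) * w * e := by rw [l.commRQ _ (σ y).2 z hz]
      _ = (σ x * σ y) * (z * w * e) := by group
  have hconj : ∀ h ∈ H, ∀ x ∈ l.S1, σ (h * x * h⁻¹) = σ x := by
    intro h hh x hx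
    obtain ⟨z, hz, h1⟩ := hσ x hx
    refine hσ_eq _ (l.S1_norm hh hx) _ (h * z * h⁻¹) (l.normQ h hh z hz) ?_
    calc h * x * h⁻¹ * (h * x * h⁻¹) = h * (x * x) * h⁻¹ := by group
      _ = (h * (σ x : G) * h⁻¹) * (h * z * h⁻¹) := by rw [h1]; group
      _ = (σ x : G) * (h * z * h⁻¹) := by rw [l.conjR hh (σ x).2]
  have hSS : ∀ x ∈ l.SS, σ x = 1 := by
    intro x hx
    refine hσ_eq x (l.SS_le_S1 hx) 1 (x * x) (l.leE (l.SS_sq hx)) ?_
    show x * x = 1 * (x * x)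
    group
  have htriv : ∀ x ∈ l.S1, σ x = 1 := by
    obtain ⟨x0, hx0, hx0S⟩ := l.exists_S1 hne
    have hconst : ∀ y ∈ l.S1, y ∉ l.SS → σ y = σ x0 := by
      intro y hy hyS
      obtain ⟨k, hk, hks⟩ := l.trans_S1 hx0 hx0S hy hyS
      have h1 : y = (k * x0 * k⁻¹) * ((k * x0 * k⁻¹)⁻¹ * y) := by group
      rw [h1, hmul _ (l.S1_norm hk hx0) _ (l.SS_le_S1 hks), hconj k hk x0 hx0, hSS _ hks, mul_one]
    obtain ⟨a, ha, b, hb, d, hd, g, hg, haN, hbN, hab, hdN, hgN, hdgN⟩ := exists_four (X := l.S1) (N := l.SS)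
      (l.card16 hne)
    have h1 := hmul a ha b hb
    rw [hconst a ha haN, hconst b hb hbN, hconst _ (l.S1.mul_mem ha hb) hab, l.R_sq] at h1
    intro x hx
    by_cases hxS : x ∈ l.SS
    · exact hSS x hxS
    · rw [hconst x hx hxS, h1]
  obtain ⟨z, hz, h1⟩ := hσ x hx
  rw [h1, htriv x hx]
  show (1 : G) * z ∈ Q
  rw [one_mul]; exact hz

/-- (P3), squares -/
theorem S1_sq [Finite G] (hne : T ≠ l.SS) {x : G} (hx : x ∈ l.S1) : x * x ∈ E := by
  classical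
  by_contra hxE
  have hxS : x ∉ l.SS := fun h => hxE (l.SS_sq h)
  obtain ⟨t, ht, ht1⟩ := l.exists_t
  have hxQ := l.S1_sq_Q hne hx
  have hx4 : x * x * (x * x) ≠ 1 := fun h => hxE ((l.mem_E _ hxQ).mpr h)
  obtain ⟨k, hk, hkc⟩ := l.trans _ (hx.2 t ht) _ (l.sq_mem _ hxQ) (l.cm_ne_one hx.1 hxS ht ht1) hx4
  -- for `e ∈ E`: `(ye)² = y²`
  have sqE : ∀ y ∈ Q, ∀ e ∈ E, y * e * (y * e) = y * y := by
    intro y hy e he
    have h1 := l.cen e he y (l.leQ hy)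
    calc y * e * (y * e) = y * (e * y) * e := by group
      _ = y * (y * e) * e := by rw [h1]
      _ = y * y * (e * e) := by group
      _ = y * y := by rw [l.elemE e he, mul_one]
  -- `y² ∈ (x²)^h E`
  have hsim : ∀ y ∈ l.S1, y ∉ l.SS → ∃ h ∈ H, (h * x * h⁻¹)⁻¹ * y ∈ l.SS ∧ ∃ e ∈ E,
      y * y = h * (x * x) * h⁻¹ * e := by
    intro y hy hyS
    obtain ⟨h, hh, hs⟩ := l.trans_S1 hx hxS hy hyS
    refine ⟨h, hh, hs, ?_⟩
    set s := (h * x * h⁻¹)⁻¹ * y with hsd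
    have h1 : y = (h * x * h⁻¹) * s := by rw [hsd]; group
    obtain ⟨e, he, h2⟩ := l.S1_sq_mul hne (l.S1_norm hh hx) (l.SS_le_S1 hs)
    refine ⟨s * s * e, E.mul_mem (l.SS_sq hs) he, ?_⟩
    rw [h1, h2]; group
  have hnot : ∀ y ∈ l.S1, y ∉ l.SS → y * y ∉ E := by
    intro y hy hyS hyE
    obtain ⟨h, hh, hs, e, he, h1⟩ := hsim y hy hyS
    apply hxE
    have h2 : x * x = h⁻¹ * (y * y * e⁻¹) * h⁻¹⁻¹ := by rw [h1]; group
    rw [h2]
    exact l.normE (H.inv_mem hh) (E.mul_mem hyE (E.inv_mem he))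
  have hformula : ∀ y ∈ l.S1, y * y * (y * y) = k * cm y t * k⁻¹ := by
    intro y hy
    by_cases hyS : y ∈ l.SS
    · rw [l.elemE _ (l.SS_sq hyS), cm_eq_one.mpr (l.SS_comm hyS ht)]; group
    · obtain ⟨h, hh, hs, e, he, h1⟩ := hsim y hy hyS
      have h2 : h * (x * x) * h⁻¹ ∈ Q := l.normQ h hh _ hxQ
      have h3 : cm y t = h * cm x t * h⁻¹ := by
        have h4 : y = (h * x * h⁻¹) * ((h * x * h⁻¹)⁻¹ * y) := by group
        rw [h4, l.cm_mul_left (l.S1_norm hh hx).1 (l.leR ht) (by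
          rw [cm_eq_one.mpr (l.SS_comm hs ht)]; exact E.one_mem), cm_eq_one.mpr (l.SS_comm hs ht), mul_one,
          l.cm_conj_R hh ht]
      rw [h1, sqE _ h2 e he, h3]
      have h5 := l.commH h hh k hk
      have h7 : k⁻¹ * h⁻¹ = h⁻¹ * k⁻¹ := by rw [← mul_inv_rev, ← mul_inv_rev, h5]
      calc h * (x * x) * h⁻¹ * (h * (x * x) * h⁻¹) = h * (x * x * (x * x)) * h⁻¹ := by group
        _ = h * (k * cm x t * k⁻¹) * h⁻¹ := by rw [hkc]
        _ = (h * k) * cm x t * (k⁻¹ * h⁻¹) := by group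
        _ = (k * h) * cm x t * (h⁻¹ * k⁻¹) := by rw [h5, h7]
        _ = k * (h * cm x t * h⁻¹) * k⁻¹ := by group
  -- an element `y`
  obtain ⟨y, hy, hy'⟩ := exists_avoid (A := l.S1) (D := l.SS) {1, x⁻¹} (by
    have h1 : ({1, x⁻¹} : Finset G).card ≤ 2 := Finset.card_le_two
    have h2 := l.card16 hne
    have h3 := Nat.card_pos (α := l.SS)
    nlinarith)
  have hyS := hy' 1 (by simp)
  have hxyS := hy' x⁻¹ (by simp)
  rw [inv_one, one_mul] at hyS
  rw [inv_inv] at hxyS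
  have hyQ := l.S1_sq_Q hne hy
  obtain ⟨e, he, h1⟩ := l.S1_sq_mul hne hx hy
  have h2 := hformula _ (l.S1.mul_mem hx hy)
  rw [h1, sqE _ (Q.mul_mem hxQ hyQ) e he, l.sq_mul hxQ hyQ, hformula x hx, hformula y hy,
    l.cm_mul_left hx.1 (l.leR ht) (hy.2 t ht)] at h2
  have h3 : l.beta (x * x) (y * y) = 1 := by
    have h4 : k * cm x t * k⁻¹ * (k * cm y t * k⁻¹) * l.beta (x * x) (y * y) =
      k * cm x t * k⁻¹ * (k * cm y t * k⁻¹) * 1 := by rw [h2]; group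
    exact mul_left_cancel h4
  have h4 := cm_eq_one.mp h3
  have h5 : y * y * (x * x) = x * x * (y * y) := by
    calc y * y * (x * x) = (x * x) * ((x * x)⁻¹ * (y * y)) * (x * x) := by group
      _ = (x * x) * ((y * y) * (x * x)⁻¹) * (x * x) := by rw [h4]
      _ = x * x * (y * y) := by group
  rcases l.centQ _ hxQ hxE _ hyQ h5 with h6 | h6
  · exact hnot y hy hyS h6
  · apply hnot _ (l.S1.mul_mem hx hy) hxyS
    rw [h1]
    have h7 : ∀ u v : G, u * v * e = (u * u) * (u⁻¹ * v) * e := fun u v => by group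
    rw [h7]
    exact E.mul_mem (E.mul_mem (l.sq_mem _ hxQ) h6) he

end LayE

end Cfsg.Agent.OddCyclic.CaseELayDefs
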