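import Cfsg.Agent.OddCyclic.CaseELayerD

/-!
# S0342, component type, case E: the layer theorem, the second layer, tools
-/

set_option autoImplicit false
set_option linter.unusedSectionVars false

namespace Cfsg.Agent.OddCyclic.CaseELayDefs

open Subgroup
open Cfsg.Agent.LieExceptional Cfsg.Agent.LieExceptional.CITDefs
open Cfsg.Agent.OddCyclic.CaseELayer

variable {G : Type*} [Group G] {T R Q E H : Subgroup G} {q : ℕ}

theorem conj_inv_of_conj [Finite G] {A : Subgroup G} {x : G} (h : ∀ s ∈ A, x * s * x⁻¹ ∈ A) :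
    ∀ s ∈ A, x⁻¹ * s * x ∈ A := by
  have hn : ∀ n : ℕ, ∀ s ∈ A, x ^ n * s * (x ^ n)⁻¹ ∈ A := by
    intro n
    induction n with
    | zero => intro s hs; simpa using hs
    | succ n ih =>
      intro s hs
      have h3 : x ^ (n + 1) * s * (x ^ (n + 1))⁻¹ = x * (x ^ n * s * (x ^ n)⁻¹) * x⁻¹ := by
        rw [pow_succ']; group
      rw [h3]
      exact h _ (ih s hs)
  intro s hs
  have h1 : x ^ (orderOf x - 1) = x⁻¹ := by
    have h2 := pow_orderOf_eq_one x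
    have h3 : 0 < orderOf x := orderOf_pos x
    obtain ⟨m, hm⟩ : ∃ m, orderOf x = m + 1 := ⟨orderOf x - 1, by omega⟩
    rw [hm, pow_succ] at h2
    rw [hm, Nat.add_sub_cancel]
    exact eq_inv_of_mul_eq_one_left h2
  have h4 := hn (orderOf x - 1) s hs
  rw [h1, inv_inv] at h4
  exact h4

namespace LayE

variable (l : LayE T R Q E H q)
include l

theorem cmT {x y : G} (hx : x ∈ T) (hy : y ∈ T) : cm x y ∈ T :=
  T.mul_mem (T.mul_mem (T.mul_mem hx hy) (T.inv_mem hx)) (T.inv_mem hy)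

/-- if `[X, w] ≤ E`, then `w` commutes with `[X, X]` -/
theorem gen {X : Subgroup G} (hX : X ≤ T) {w : G} (hw : w ∈ T) (hz : ∀ z ∈ X, cm z w ∈ E) {x y : G} (hx : x ∈ X)
    (hy : y ∈ X) : cm (cm x y) w = 1 := by
  have hi : ∀ z ∈ X, cm z w * cm z⁻¹ w = 1 := by
    intro z hzS
    rw [← l.cm_mul_left (hX hzS) hw (hz _ (X.inv_mem hzS))]
    unfold cm; group
  have h1 : cm x y = (x * y) * (x⁻¹ * y⁻¹) := by unfold cm; group
  have hx' := X.inv_mem hx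
  have hy' := X.inv_mem hy
  rw [h1, l.cm_mul_left (T.mul_mem (hX hx) (hX hy)) hw (hz _ (X.mul_mem hx' hy')),
    l.cm_mul_left (hX hx) hw (hz y hy), l.cm_mul_left (hX hx') hw (hz _ hy')]
  have h2 := l.cen _ (hz y hy) _ (l.leET (hz _ hx'))
  calc cm x w * cm y w * (cm x⁻¹ w * cm y⁻¹ w) = cm x w * (cm y w * cm x⁻¹ w) * cm y⁻¹ w := by group
    _ = cm x w * (cm x⁻¹ w * cm y w) * cm y⁻¹ w := by rw [h2]
    _ = (cm x w * cm x⁻¹ w) * (cm y w * cm y⁻¹ w) := by group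
    _ = 1 := by rw [hi x hx, hi y hy, one_mul]

/-- `T₂ = N_T(S₁)` -/
def T2 : Subgroup G where
  carrier := {x | x ∈ T ∧ (∀ s ∈ l.S1, x * s * x⁻¹ ∈ l.S1) ∧ (∀ s ∈ l.S1, x⁻¹ * s * x ∈ l.S1)}
  one_mem' := ⟨T.one_mem, fun s hs => by simpa using hs, fun s hs => by simpa using hs⟩
  mul_mem' := by
    rintro x y ⟨hx, hx1, hx2⟩ ⟨hy, hy1, hy2⟩
    refine ⟨T.mul_mem hx hy, fun s hs => ?_, fun s hs => ?_⟩
    · have : x * y * s * (x * y)⁻¹ = x * (y * s * y⁻¹) * x⁻¹ := by group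
      rw [this]; exact hx1 _ (hy1 _ hs)
    · have : (x * y)⁻¹ * s * (x * y) = y⁻¹ * (x⁻¹ * s * x) * y := by group
      rw [this]; exact hy2 _ (hx2 _ hs)
  inv_mem' := by
    rintro x ⟨hx, hx1, hx2⟩
    refine ⟨T.inv_mem hx, fun s hs => ?_, fun s hs => ?_⟩
    · rw [inv_inv]; exact hx2 s hs
    · rw [inv_inv]; exact hx1 s hs

theorem T2_le_T : l.T2 ≤ T := fun _ hx => hx.1

theorem S1_le_T2 : l.S1 ≤ l.T2 := fun x hx =>
  ⟨hx.1, fun s hs => l.S1.mul_mem (l.S1.mul_mem hx hs) (l.S1.inv_mem hx),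
    fun s hs => l.S1.mul_mem (l.S1.mul_mem (l.S1.inv_mem hx) hs) hx⟩

theorem T2_conj {x s : G} (hx : x ∈ l.T2) (hs : s ∈ l.S1) : x * s * x⁻¹ ∈ l.S1 := hx.2.1 s hs

theorem T2_norm {h x : G} (hh : h ∈ H) (hx : x ∈ l.T2) : h * x * h⁻¹ ∈ l.T2 := by
  refine ⟨l.normT h hh x hx.1, fun s hs => ?_, fun s hs => ?_⟩
  · have h1 : h * x * h⁻¹ * s * (h * x * h⁻¹)⁻¹ = h * (x * (h⁻¹ * s * h⁻¹⁻¹) * x⁻¹) * h⁻¹ := by group
    rw [h1]
    exact l.S1_norm hh (hx.2.1 _ (l.S1_norm (H.inv_mem hh) hs))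
  · have h1 : (h * x * h⁻¹)⁻¹ * s * (h * x * h⁻¹) = h * (x⁻¹ * (h⁻¹ * s * h⁻¹⁻¹) * x) * h⁻¹ := by group
    rw [h1]
    exact l.S1_norm hh (hx.2.2 _ (l.S1_norm (H.inv_mem hh) hs))

theorem exists_T2 [Finite G] (hne : T ≠ l.S1) : ∃ x ∈ l.T2, x ∉ l.S1 := by
  obtain ⟨x, hxT, hxS, hx⟩ := B2Tools.grow l.S1_le_T l.two (Ne.symm hne)
  exact ⟨x, ⟨hxT, hx, conj_inv_of_conj hx⟩, hxS⟩

/-- (KEY) -/
theorem key [Finite G] (hne : T ≠ l.S1) {U : Subgroup G} (hEU : E ≤ U) (hUS : ∀ u ∈ U, u ∈ l.SS → u ∈ E)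
    (hU : ∀ u ∈ U, u ∉ E → ∀ v ∈ U, v ∉ E → ∃ h ∈ H, ∃ e ∈ E, v = (h * u * h⁻¹) * e)
    (hconj : ∀ x ∈ l.T2, ∀ t ∈ R, cm x t ∈ U) : False := by
  obtain ⟨x, hx, hxS⟩ := l.exists_T2 hne
  -- `(tu)² = 1`
  have hcmE : ∀ t ∈ R, t ≠ 1 → cm x t ∉ E := fun t ht ht1 h => hxS (l.mem_S1_of_comm hx.1 ht ht1 h)
  have hinv : ∀ t ∈ R, t ≠ 1 → ∀ u ∈ U, t * u * t⁻¹ = u⁻¹ := by
    intro t ht ht1 u hu
    -- `u_t`
    set v := t⁻¹ * cm x t * t with hv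
    have hv1 : t * v = x * t * x⁻¹ := by rw [hv, conj_eq]; group
    have hcU := hconj x hx t ht
    have hcT := l.cmT hx.1 (l.leR ht)
    -- work with `w = cm x t`: `(w t)² = 1`
    have hw : cm x t * t * (cm x t * t) = 1 := by
      rw [← conj_eq]
      calc x * t * x⁻¹ * (x * t * x⁻¹) = x * (t * t) * x⁻¹ := by group
        _ = 1 := by rw [l.elemR t ht]; group
    have key1 : u * t * (u * t) = 1 := by
      by_cases huE : u ∈ E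
      · have h1 := l.cen u huE t (l.leR ht)
        calc u * t * (u * t) = u * (t * u) * t := by group
          _ = u * (u * t) * t := by rw [h1]
          _ = (u * u) * (t * t) := by group
          _ = 1 := by rw [l.elemE u huE, l.elemR t ht, one_mul]
      · obtain ⟨h, hh, e, he, rfl⟩ := hU _ hcU (hcmE t ht ht1) u hu huE
        have h1 := l.cen e he t (l.leR ht)
        have h2 := l.cen e he (h * cm x t * h⁻¹) (l.normT h hh _ hcT)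
        have h3 : h * cm x t * h⁻¹ * t * (h * cm x t * h⁻¹ * t) = 1 := by
          have h4 := l.conjR hh ht
          calc h * cm x t * h⁻¹ * t * (h * cm x t * h⁻¹ * t)
              = h * cm x t * h⁻¹ * (h * t * h⁻¹) * (h * cm x t * h⁻¹ * (h * t * h⁻¹)) := by rw [h4]
            _ = h * (cm x t * t * (cm x t * t)) * h⁻¹ := by group
            _ = 1 := by rw [hw]; group
        calc h * cm x t * h⁻¹ * e * t * (h * cm x t * h⁻¹ * e * t)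
            = h * cm x t * h⁻¹ * (e * t) * ((h * cm x t * h⁻¹) * e * t) := by group
          _ = h * cm x t * h⁻¹ * (t * e) * (e * (h * cm x t * h⁻¹) * t) := by rw [h1, h2]
          _ = h * cm x t * h⁻¹ * t * (e * e) * ((h * cm x t * h⁻¹) * t) := by group
          _ = 1 := by rw [l.elemE e he, mul_one, h3]
    have h5 : t * u = u⁻¹ * t⁻¹ := by
      calc t * u = u⁻¹ * (u * t * (u * t)) * t⁻¹ := by group
        _ = u⁻¹ * t⁻¹ := by rw [key1, mul_one]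
    rw [h5, l.inv_R ht, mul_assoc, l.elemR t ht, mul_one]
  obtain ⟨t, ht, ht1⟩ := l.exists_t
  obtain ⟨s, hs, hs1, hst, hst1⟩ := l.exists_ts ht
  set u := cm x t with hu
  have huU : u ∈ U := hconj x hx t ht
  have h1 := hinv t ht ht1 u huU
  have h2 := hinv s hs hs1 u⁻¹ (U.inv_mem huU)
  have h3 := hinv (s * t) (R.mul_mem hs ht) hst1 u huU
  have h4 : s * t * u * (s * t)⁻¹ = s * (t * u * t⁻¹) * s⁻¹ := by group
  rw [h4, h1, h2, inv_inv] at h3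
  -- `u = u⁻¹`
  rw [← h3] at h1
  have h5 : u ∈ l.SS := l.mem_SS_of_comm (l.cmT hx.1 (l.leR ht)) ht ht1 (by
    calc u * t = (t * u * t⁻¹) * t := by rw [h1]
      _ = t * u := by group)
  exact hcmE t ht ht1 (hUS u huU h5)

/-- `H` has no fixed points modulo `K ≥ R` -/
theorem coset_mem [Finite G] {K : Subgroup G} (hK : K ≤ T) (hR : R ≤ K) (hH : ∀ h ∈ H, ∀ x ∈ K, h * x * h⁻¹ ∈ K)
    {h x : G} (hh : h ∈ H) (h1 : h ≠ 1) (hx : x ∈ T) (hxK : x⁻¹ * (h * x * h⁻¹) ∈ K) : x ∈ K := by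
  obtain ⟨r, hr, hrx⟩ := l.coset hh h1 hK (fun y hy => hH h hh y hy) hx hxK
  have h2 : x = r * (x⁻¹ * r)⁻¹ := by group
  rw [h2]
  exact K.mul_mem (hR hr) (K.inv_mem hrx)

/-- (triv) -/
theorem triv [Finite G] {F : Subgroup G} (hEF : E ≤ F) (hFT : ∀ x ∈ l.T2, ∀ f ∈ F, x * f * x⁻¹ ∈ F)
    (hFH : ∀ h ∈ H, ∀ f ∈ F, h * f * h⁻¹ ∈ F)
    (hF : ∀ x ∈ l.T2, ∀ t ∈ R, ∃ f ∈ F, ∃ r ∈ R, x * t * x⁻¹ = f * r) : ∀ x ∈ l.T2, ∀ t ∈ R, cm x t ∈ F := by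
  let K : Subgroup G :=
    { carrier := {x | x ∈ l.T2 ∧ ∀ t ∈ R, cm x t ∈ F}
      one_mem' := ⟨l.T2.one_mem, fun t _ => by
        have : cm 1 t = 1 := by unfold cm; group
        rw [this]; exact F.one_mem⟩
      mul_mem' := by
        rintro x y ⟨hx, hx1⟩ ⟨hy, hy1⟩
        refine ⟨l.T2.mul_mem hx hy, fun t ht => ?_⟩
        have : cm (x * y) t = (x * cm y t * x⁻¹) * cm x t := by unfold cm; group
        rw [this]
        exact F.mul_mem (hFT x hx _ (hy1 t ht)) (hx1 t ht)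
      inv_mem' := by
        rintro x ⟨hx, hx1⟩
        refine ⟨l.T2.inv_mem hx, fun t ht => ?_⟩
        have : cm x⁻¹ t = x⁻¹ * (cm x t)⁻¹ * x⁻¹⁻¹ := by unfold cm; group
        rw [this]
        exact hFT _ (l.T2.inv_mem hx) _ (F.inv_mem (hx1 t ht)) }
  have hKH : ∀ h ∈ H, ∀ x ∈ K, h * x * h⁻¹ ∈ K := by
    rintro h hh x ⟨hx, hx1⟩
    refine ⟨l.T2_norm hh hx, fun t ht => ?_⟩
    rw [l.cm_conj_R hh ht]
    exact hFH h hh _ (hx1 t ht)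
  intro x hx
  obtain ⟨h, hh, hh1⟩ := l.exists_h
  have hxK : x ∈ K := by
    refine l.coset_mem (K := K) (fun y hy => hy.1.1) (fun r hr => ⟨l.S1_le_T2 (l.SS_le_S1 (l.R_le_SS hr)), fun t ht => by
      have : cm r t = 1 := cm_eq_one.mpr (l.commR hr ht)
      rw [this]; exact F.one_mem⟩) hKH hh hh1 hx.1 ?_
    refine ⟨l.T2.mul_mem (l.T2.inv_mem hx) (l.T2_norm hh hx), fun t ht => ?_⟩
    obtain ⟨f, hf, r, hr, hfr⟩ := hF x hx t ht
    have h1 : (h * x * h⁻¹) * t * (h * x * h⁻¹)⁻¹ = (h * f * h⁻¹) * r := by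
      calc (h * x * h⁻¹) * t * (h * x * h⁻¹)⁻¹ = (h * x * h⁻¹) * (h * t * h⁻¹) * (h * x * h⁻¹)⁻¹ := by
            rw [l.conjR hh ht]
        _ = h * (x * t * x⁻¹) * h⁻¹ := by group
        _ = (h * f * h⁻¹) * (h * r * h⁻¹) := by rw [hfr]; group
        _ = (h * f * h⁻¹) * r := by rw [l.conjR hh hr]
    have h2 : cm (x⁻¹ * (h * x * h⁻¹)) t = x⁻¹ * ((h * f * h⁻¹) * f⁻¹) * x⁻¹⁻¹ := by
      calc cm (x⁻¹ * (h * x * h⁻¹)) t = x⁻¹ * ((h * x * h⁻¹) * t * (h * x * h⁻¹)⁻¹) * x * t⁻¹ := by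
            unfold cm; group
        _ = x⁻¹ * ((h * f * h⁻¹) * f⁻¹ * (f * r)) * x * t⁻¹ := by rw [h1]; group
        _ = x⁻¹ * ((h * f * h⁻¹) * f⁻¹ * (x * t * x⁻¹)) * x * t⁻¹ := by rw [hfr]
        _ = x⁻¹ * ((h * f * h⁻¹) * f⁻¹) * x⁻¹⁻¹ := by group
    rw [h2]
    exact hFT _ (l.T2.inv_mem hx) _ (F.mul_mem (hFH h hh f hf) (F.inv_mem hf))
  exact hxK.2

/-! ### `Z₂` -/

/-- the preimage of `C_{S₁/E}(T₂)` -/
def Z2 : Subgroup G where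
  carrier := {z | z ∈ l.S1 ∧ ∀ x ∈ l.T2, cm x z ∈ E}
  one_mem' := ⟨l.S1.one_mem, fun x _ => by
    have : cm x 1 = 1 := by unfold cm; group
    rw [this]; exact E.one_mem⟩
  mul_mem' := by
    rintro a b ⟨ha, ha'⟩ ⟨hb, hb'⟩
    refine ⟨l.S1.mul_mem ha hb, fun x hx => ?_⟩
    rw [l.cm_mul_right ha.1 (hb' x hx)]
    exact E.mul_mem (ha' x hx) (hb' x hx)
  inv_mem' := by
    rintro a ⟨ha, ha'⟩
    refine ⟨l.S1.inv_mem ha, fun x hx => ?_⟩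
    have h1 : cm x a⁻¹ = a⁻¹ * (cm x a)⁻¹ * a := by unfold cm; group
    rw [h1, ← l.cen _ (E.inv_mem (ha' x hx)) _ (T.inv_mem ha.1), inv_mul_cancel_right]
    exact E.inv_mem (ha' x hx)

theorem mem_Z2 {z : G} : z ∈ l.Z2 ↔ z ∈ l.S1 ∧ ∀ x ∈ l.T2, cm x z ∈ E := Iff.rfl

theorem E_le_Z2 : E ≤ l.Z2 := fun e he => ⟨l.SS_le_S1 (l.E_le_SS he), fun x hx => by
  rw [l.cm_E_right he hx.1]; exact E.one_mem⟩

theorem Z2_norm {h z : G} (hh : h ∈ H) (hz : z ∈ l.Z2) : h * z * h⁻¹ ∈ l.Z2 := by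
  refine ⟨l.S1_norm hh hz.1, fun x hx => ?_⟩
  have h1 : x = h * (h⁻¹ * x * h⁻¹⁻¹) * h⁻¹ := by group
  rw [h1, ← cm_conj]
  exact l.normE hh (hz.2 _ (l.T2_norm (H.inv_mem hh) hx))

theorem exists_Z2 [Finite G] (hne : T ≠ l.SS) : ∃ z ∈ l.Z2, z ∉ E := by
  obtain ⟨a, ha, haE, h⟩ := exists_central_mod (l.two.to_le l.T2_le_T) l.S1_le_T2 (l.E_le_SS.trans l.SS_le_S1)
    (fun x hx a ha => l.T2_conj hx ha) (fun x hx a ha => by
      rw [← l.cen a ha x hx.1, mul_inv_cancel_right]; exact ha) (by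
      obtain ⟨x, hx, hxS⟩ := l.exists_S1 hne
      exact ⟨x, hx, fun h => hxS (l.E_le_SS h)⟩)
  exact ⟨a, ⟨ha, h⟩, haE⟩

/-- no element of `R#` is in `Z₂` -/
theorem Z2_R [Finite G] (hne : T ≠ l.S1) {r : G} (hr : r ∈ R) (h : ∀ x ∈ l.T2, cm x r ∈ E) : r = 1 := by
  by_contra hr1
  obtain ⟨x, hx, hxS⟩ := l.exists_T2 hne
  exact hxS (l.mem_S1_of_comm hx.1 hr hr1 (h x hx))

/-- `H` has no fixed points modulo `E` on `Q` -/
theorem fpf_Q [Finite G] {h y : G} (hh : h ∈ H) (h1 : h ≠ 1) (hy : y ∈ Q) (hyE : y⁻¹ * (h * y * h⁻¹) ∈ E) :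
    y ∈ E := by
  obtain ⟨r, hr, hrx⟩ := l.coset hh h1 l.leET (fun y hy => l.normE hh hy) (l.leQ hy) hyE
  have h2 : r ∈ Q := by
    have : r = y * (y⁻¹ * r) := by group
    rw [this]; exact Q.mul_mem hy (l.leE hrx)
  rw [l.disjR hr h2, mul_one] at hrx
  have := E.inv_mem hrx
  rwa [inv_inv] at this

/-- either `Z₂ ∩ S = E` or `Q ≤ Z₂` -/
theorem Z2_cases [Finite G] (hne : T ≠ l.S1) : (∀ z ∈ l.Z2, z ∈ l.SS → z ∈ E) ∨ (Q ≤ l.Z2) := by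
  by_cases hc : ∀ z ∈ l.Z2, z ∈ l.SS → z ∈ E
  · exact Or.inl hc
  right
  push Not at hc
  obtain ⟨z, hz, ⟨r, hr, y, hy, rfl⟩, hzE⟩ := hc
  obtain ⟨h, hh, hh1⟩ := l.exists_h
  have hyE : y ∉ E := by
    intro hyE
    have h1 : ∀ x ∈ l.T2, cm x r ∈ E := by
      intro x hx
      have h2 := hz.2 x hx
      rwa [l.cm_mul_right (l.leR hr) (by rw [l.cm_E_right hyE hx.1]; exact E.one_mem), l.cm_E_right hyE hx.1,
        mul_one] at h2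
    apply hzE
    rw [l.Z2_R hne hr h1, one_mul]; exact hyE
  -- `y⁻¹ y^h`
  have h1 : y⁻¹ * (h * y * h⁻¹) ∉ E := fun h2 => hyE (l.fpf_Q hh hh1 hy h2)
  have h2 : y⁻¹ * (h * y * h⁻¹) ∈ l.Z2 := by
    have h3 : y⁻¹ * (h * y * h⁻¹) = (r * y)⁻¹ * (h * (r * y) * h⁻¹) := by
      have h4 : h * (r * y) * h⁻¹ = (h * r * h⁻¹) * (h * y * h⁻¹) := by group
      rw [h4, l.conjR hh hr]; group
    rw [h3]
    exact l.Z2.mul_mem (l.Z2.inv_mem hz) (l.Z2_norm hh hz)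
  have h3 : y⁻¹ * (h * y * h⁻¹) ∈ Q := Q.mul_mem (Q.inv_mem hy) (l.normQ h hh y hy)
  intro w hw
  by_cases hwE : w ∈ E
  · exact l.E_le_Z2 hwE
  obtain ⟨k, hk, e, he, hke⟩ := l.trans' _ h3 w hw h1 hwE
  have h4 : w = k * (y⁻¹ * (h * y * h⁻¹)) * k⁻¹ * e⁻¹ := by rw [hke]; group
  rw [h4]
  exact l.Z2.mul_mem (l.Z2_norm hk h2) (l.E_le_Z2 (E.inv_mem he))

end LayE

end Cfsg.Agent.OddCyclic.CaseELayDefs
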