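import Cfsg.Agent.OddCyclic.CaseELayerE

/-!
# S0342, component type, case E: the layer theorem, end of the proof
-/

set_option autoImplicit false
set_option linter.unusedSectionVars false

namespace Cfsg.Agent.OddCyclic.CaseELayDefs

open Subgroup
open Cfsg.Agent.LieExceptional Cfsg.Agent.LieExceptional.CITDefs
open Cfsg.Agent.OddCyclic.CaseELayer Cfsg.Agent.OddCyclic.CaseALayDefs

variable {G : Type*} [Group G] {T R Q E H : Subgroup G} {q : ℕ}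

/-- `DR` -/
def DR (D R : Subgroup G) (h : ∀ r ∈ R, ∀ d ∈ D, r * d * r⁻¹ ∈ D) : Subgroup G where
  carrier := {x | ∃ d ∈ D, ∃ r ∈ R, x = d * r}
  one_mem' := ⟨1, D.one_mem, 1, R.one_mem, (mul_one 1).symm⟩
  mul_mem' := by
    rintro _ _ ⟨d, hd, r, hr, rfl⟩ ⟨d', hd', r', hr', rfl⟩
    exact ⟨d * (r * d' * r⁻¹), D.mul_mem hd (h r hr d' hd'), r * r', R.mul_mem hr hr', by group⟩
  inv_mem' := by
    rintro _ ⟨d, hd, r, hr, rfl⟩
    exact ⟨r⁻¹ * d⁻¹ * r⁻¹⁻¹, h _ (R.inv_mem hr) _ (D.inv_mem hd), r⁻¹, R.inv_mem hr, by group⟩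

theorem mem_DR {D R : Subgroup G} {h : ∀ r ∈ R, ∀ d ∈ D, r * d * r⁻¹ ∈ D} {x : G} :
    x ∈ DR D R h ↔ ∃ d ∈ D, ∃ r ∈ R, x = d * r := Iff.rfl

/-- `C_X(A)` -/
def CC (X A : Subgroup G) : Subgroup G where
  carrier := {x | x ∈ X ∧ ∀ a ∈ A, x * a = a * x}
  one_mem' := ⟨X.one_mem, fun a _ => by rw [one_mul, mul_one]⟩
  mul_mem' := by
    rintro x y ⟨hx, hx'⟩ ⟨hy, hy'⟩
    refine ⟨X.mul_mem hx hy, fun a ha => ?_⟩
    rw [mul_assoc, hy' a ha, ← mul_assoc, hx' a ha, mul_assoc]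
  inv_mem' := by
    rintro x ⟨hx, hx'⟩
    refine ⟨X.inv_mem hx, fun a ha => ?_⟩
    calc x⁻¹ * a = x⁻¹ * (a * x) * x⁻¹ := by group
      _ = x⁻¹ * (x * a) * x⁻¹ := by rw [hx' a ha]
      _ = a * x⁻¹ := by group

theorem mem_CC {X A : Subgroup G} {x : G} : x ∈ CC X A ↔ x ∈ X ∧ ∀ a ∈ A, x * a = a * x := Iff.rfl

theorem CC_norm {X A : Subgroup G} {h : G} (hX : ∀ x ∈ X, h * x * h⁻¹ ∈ X) (hA : ∀ a ∈ A, h⁻¹ * a * h ∈ A) {x : G}
    (hx : x ∈ CC X A) : h * x * h⁻¹ ∈ CC X A := by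
  refine ⟨hX x hx.1, fun a ha => ?_⟩
  calc h * x * h⁻¹ * a = h * (x * (h⁻¹ * a * h)) * h⁻¹ := by group
    _ = h * ((h⁻¹ * a * h) * x) * h⁻¹ := by rw [hx.2 _ (hA a ha)]
    _ = a * (h * x * h⁻¹) := by group

namespace LayE

variable (l : LayE T R Q E H q)
include l

/-- the interface with the layer lemma of case A -/
theorem mkLay [Finite G] {P : Subgroup G} (hP : P ≤ T) (hR : R ≤ P) (hE : E ≤ P)
    (hH : ∀ h ∈ H, ∀ x ∈ P, h * x * h⁻¹ ∈ P) (hc : ∀ x ∈ P, x ∈ l.SS → ∃ r ∈ R, ∃ e ∈ E, x = r * e) :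
    Lay P R E H q where
  two := l.two.to_le hP
  leR := hR
  leE := hE
  elemR := l.elemR
  elemE := l.elemE
  cardE := l.cardE
  four := by have := l.big; omega
  cen := fun e he x hx => l.cen e he x (hP hx)
  disj := by
    rw [eq_bot_iff]
    intro x hx
    exact mem_bot.mpr (l.disjR hx.1 (l.leE hx.2))
  neR := by
    obtain ⟨t, ht, ht1⟩ := l.exists_t
    intro h
    rw [h, mem_bot] at ht
    exact ht1 ht
  commH := l.commH
  cardH := l.cardH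
  normP := hH
  normE := fun h hh e he => l.normE hh he
  fixR := l.fixR
  fpf := fun h hh h1 x hx => l.fpf h hh h1 x (hP hx)
  cent := fun t ht ht1 x hx hxt => by
    obtain ⟨r, hr, e, he, rfl⟩ := hc x hx (l.mem_SS_of_comm (hP hx) ht ht1 hxt)
    exact (R ⊔ E).mul_mem (mem_sup_left hr) (mem_sup_right he)

theorem sup_le_SS : R ⊔ E ≤ l.SS := sup_le l.R_le_SS l.E_le_SS

/-- Case III: `[T₂, Q] ≤ E` -/
theorem caseIII [Finite G] (hne : T ≠ l.S1) (hQ : Q ≤ l.Z2) : False := by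
  have hBT : CC l.T2 Q ≤ T := fun x hx => hx.1.1
  have hRB : R ≤ CC l.T2 Q := fun r hr => ⟨l.S1_le_T2 (l.SS_le_S1 (l.R_le_SS hr)), fun y hy => l.commRQ r hr y hy⟩
  have hEB : E ≤ CC l.T2 Q := fun e he =>
    ⟨l.S1_le_T2 (l.SS_le_S1 (l.E_le_SS he)), fun y hy => l.cen e he y (l.leQ hy)⟩
  have hBH : ∀ h ∈ H, ∀ x ∈ CC l.T2 Q, h * x * h⁻¹ ∈ CC l.T2 Q := fun h hh x hx =>
    CC_norm (fun x hx => l.T2_norm hh hx) (fun a ha => by
      have := l.normQ h⁻¹ (H.inv_mem hh) a ha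
      rwa [inv_inv] at this) hx
  have lB : Lay (CC l.T2 Q) R E H q := l.mkLay hBT hRB hEB hBH (by
    rintro x hx ⟨r, hr, y, hy, rfl⟩
    refine ⟨r, hr, y, l.mem_E_of_comm_Q hy (fun w hw => ?_), rfl⟩
    have h1 := hx.2 w hw
    have h2 : r * (y * w) = r * (w * y) := by
      calc r * (y * w) = r * y * w := by group
        _ = w * (r * y) := h1
        _ = (w * r) * y := by group
        _ = (r * w) * y := by rw [l.commRQ r hr w hw]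
        _ = r * (w * y) := by group
    exact (mul_left_cancel h2).symm)
  have hcm : ∀ x ∈ l.T2, ∀ t ∈ R, cm x t ∈ CC l.T2 Q := fun x hx t ht =>
    ⟨by
      have ht2 : t ∈ l.T2 := (hRB ht).1
      exact l.T2.mul_mem (l.T2.mul_mem (l.T2.mul_mem hx ht2) (l.T2.inv_mem hx)) (l.T2.inv_mem ht2),
      fun y hy => cm_eq_one.mp (l.gen l.T2_le_T (l.leQ hy) (fun z hz => (hQ hy).2 z hz) hx (hRB ht).1)⟩
  have hconj : ∀ x ∈ l.T2, ∀ t ∈ R, x * t * x⁻¹ ∈ CC l.T2 Q := fun x hx t ht => by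
    rw [conj_eq]; exact (CC l.T2 Q).mul_mem (hcm x hx t ht) (hRB ht)
  obtain ⟨F, f⟩ := CaseALayer.layer lB
  by_cases hB : CC l.T2 Q = R ⊔ E
  · obtain ⟨x, hx, hxS⟩ := l.exists_T2 hne
    refine hxS (l.mem_S1_of_norm hx.1 (fun s hs => ?_))
    have h1 := hconj x hx s hs
    rw [hB] at h1
    exact (CaseALayer.mem_sup_iff lB).mp h1
  · have big := CaseALayer.big lB f l.bigR hB
    have hBS1 : CC l.T2 Q ≤ l.S1 := fun b hb => ⟨hBT hb, fun t ht => big.commP b hb t (hRB ht)⟩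
    -- an element of `Z₂ ∩ B`
    obtain ⟨b, hb, hbE, hbc⟩ := exists_central_mod (l.two.to_le l.T2_le_T) (A := CC l.T2 Q) (N := E)
      (fun x hx => hx.1) hEB (fun x hx a ha =>
        CC_norm (fun y hy => l.T2.mul_mem (l.T2.mul_mem hx hy) (l.T2.inv_mem hx)) (fun y hy => by
          have h1 := (hQ hy).2 x⁻¹ (l.T2.inv_mem hx)
          have h2 : x⁻¹ * y * x = cm x⁻¹ y * y := by unfold cm; group
          rw [h2]
          exact Q.mul_mem (l.leE h1) hy) ha) (fun x hx a ha => by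
        rw [← l.cen a ha x hx.1, mul_inv_cancel_right]; exact ha) (by
        obtain ⟨t, ht, ht1⟩ := l.exists_t
        exact ⟨t, hRB ht, fun h => ht1 (l.disjR ht (l.leE h))⟩)
    have hbZ : b ∈ l.Z2 := ⟨hBS1 hb, hbc⟩
    obtain ⟨f1, hf1, r, hr, hfr⟩ := f.sup b hb
    have hf1E : f1 ∉ E := by
      intro hf1E
      have h1 : r = f1⁻¹ * b := by rw [hfr]; group
      have h2 : r ∈ l.Z2 := by
        rw [h1]; exact l.Z2.mul_mem (l.Z2.inv_mem (l.E_le_Z2 hf1E)) hbZ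
      have h3 := l.Z2_R hne hr h2.2
      rw [h3, mul_one] at hfr
      exact hbE (hfr ▸ hf1E)
    obtain ⟨h, hh, hh1⟩ := l.exists_h
    have hf1T : f1 ∈ T := hBT (f.leF hf1)
    have hw : h * f1 * h⁻¹ * f1⁻¹ ∈ l.Z2 := by
      have h1 : h * f1 * h⁻¹ * f1⁻¹ = (h * b * h⁻¹) * b⁻¹ := by
        have h4 : h * (f1 * r) * h⁻¹ = (h * f1 * h⁻¹) * (h * r * h⁻¹) := by group
        rw [hfr, h4, l.conjR hh hr]; group
      rw [h1]
      exact l.Z2.mul_mem (l.Z2_norm hh hbZ) (l.Z2.inv_mem hbZ)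
    have hwF : h * f1 * h⁻¹ * f1⁻¹ ∈ F := F.mul_mem (f.HF h hh f1 hf1) (F.inv_mem hf1)
    have hwE : h * f1 * h⁻¹ * f1⁻¹ ∉ E := by
      intro hwE
      have h1 : f1⁻¹ * (h * f1 * h⁻¹) ∈ E := by
        have h2 : f1⁻¹ * (h * f1 * h⁻¹) = f1⁻¹ * ((h * f1 * h⁻¹ * f1⁻¹) * f1) := by group
        rw [h2, l.cen _ hwE f1 hf1T, inv_mul_cancel_left]
        exact hwE
      obtain ⟨r', hr', hrx⟩ := l.coset hh hh1 l.leET (fun y hy => l.normE hh hy) hf1T h1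
      have h3 : r' ∈ F ⊓ R := by
        refine ⟨?_, hr'⟩
        have : r' = f1 * (f1⁻¹ * r') := by group
        rw [this]; exact F.mul_mem hf1 (f.leE hrx)
      rw [f.inf, mem_bot] at h3
      rw [h3, mul_one] at hrx
      have := E.inv_mem hrx
      rw [inv_inv] at this
      exact hf1E this
    have hFZ : F ≤ l.Z2 := by
      intro y hy
      by_cases hyE : y ∈ E
      · exact l.E_le_Z2 hyE
      · obtain ⟨k, hk, e, he, hke⟩ := big.trans _ hwF hwE y hy hyE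
        rw [hke]
        exact l.Z2.mul_mem (l.Z2_norm hk hw) (l.E_le_Z2 he)
    refine l.key hne f.leE (fun u hu huS => ?_) (fun u hu huE v hv hvE => big.trans u hu huE v hv hvE)
      (l.triv f.leE (fun x hx y hy => ?_) f.HF (fun x hx t ht => f.sup _ (hconj x hx t ht)))
    · obtain ⟨t, ht, ht1⟩ := l.exists_t
      exact f.centF t ht ht1 u hu (l.SS_comm huS ht)
    · rw [conj_eq]
      exact F.mul_mem (f.leE ((hFZ hy).2 x hx)) hy

/-! ### Case II -/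

section caseII

variable (hne : T ≠ l.S1) (hneS : T ≠ l.SS) (hZ : ∀ z ∈ l.Z2, z ∈ l.SS → z ∈ E)

include hZ in
theorem Z2_trans [Finite G] {u v : G} (hu : u ∈ l.Z2) (huE : u ∉ E) (hv : v ∈ l.Z2) (hvE : v ∉ E) :
    ∃ h ∈ H, ∃ e ∈ E, v = (h * u * h⁻¹) * e := by
  obtain ⟨h, hh, hs⟩ := l.trans_S1 hu.1 (fun h => huE (hZ u hu h)) hv.1 (fun h => hvE (hZ v hv h))
  exact ⟨h, hh, _, hZ _ (l.Z2.mul_mem (l.Z2.inv_mem (l.Z2_norm hh hu)) hv) hs, by group⟩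

include hZ hneS in
theorem S1_form [Finite G] {x : G} (hx : x ∈ l.S1) : ∃ u ∈ l.Z2, ∃ r ∈ R, ∃ y ∈ Q, x = u * r * y := by
  obtain ⟨u, hu, huE⟩ := l.exists_Z2 hneS
  by_cases hxS : x ∈ l.SS
  · obtain ⟨r, hr, y, hy, h⟩ := hxS
    exact ⟨1, l.Z2.one_mem, r, hr, y, hy, by rw [h]; group⟩
  · obtain ⟨h, hh, r, hr, y, hy, hs⟩ := l.trans_S1 hu.1 (fun h => huE (hZ u hu h)) hx hxS
    refine ⟨_, l.Z2_norm hh hu, r, hr, y, hy, ?_⟩
    calc x = (h * u * h⁻¹) * ((h * u * h⁻¹)⁻¹ * x) := by group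
      _ = (h * u * h⁻¹) * (r * y) := by rw [hs]
      _ = (h * u * h⁻¹) * r * y := by group

include hZ hneS in
theorem Z2_le_F [Finite G] {P F : Subgroup G} (f : LayF P R E H q F) (hP : l.Z2 ≤ P) : l.Z2 ≤ F := by
  intro u hu
  by_cases huE : u ∈ E
  · exact f.leE huE
  obtain ⟨h, hh, hh1⟩ := l.exists_h
  have h1 : u⁻¹ * (h * u * h⁻¹) ∈ F := by
    rw [f.gen]; exact subset_closure ⟨u, hP hu, h, hh, rfl⟩
  have h2 : u⁻¹ * (h * u * h⁻¹) ∈ l.Z2 := l.Z2.mul_mem (l.Z2.inv_mem hu) (l.Z2_norm hh hu)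
  have h3 : u⁻¹ * (h * u * h⁻¹) ∉ E := by
    intro h3
    obtain ⟨r, hr, hrx⟩ := l.coset hh hh1 l.leET (fun y hy => l.normE hh hy) hu.1.1 h3
    have h4 : r ∈ l.Z2 := by
      have : r = u * (u⁻¹ * r) := by group
      rw [this]; exact l.Z2.mul_mem hu (l.E_le_Z2 hrx)
    have h5 := l.disjR hr (l.leE (hZ r h4 (l.R_le_SS hr)))
    rw [h5, mul_one] at hrx
    have := E.inv_mem hrx
    rw [inv_inv] at this
    exact huE this
  obtain ⟨k, hk, e, he, hke⟩ := l.Z2_trans hZ h2 h3 hu huE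
  rw [hke]
  exact F.mul_mem (f.HF k hk _ h1) (f.leE he)

/-- `Lay (DR) R E H q` -/
theorem layD [Finite G] {D : Subgroup G} (hDT : D ≤ T) (hED : E ≤ D) (hDR : ∀ r ∈ R, ∀ d ∈ D, r * d * r⁻¹ ∈ D)
    (hDH : ∀ h ∈ H, ∀ d ∈ D, h * d * h⁻¹ ∈ D) (hDS : ∀ d ∈ D, d ∈ l.SS → d ∈ E) : Lay (DR D R hDR) R E H q := by
  refine l.mkLay ?_ ?_ ?_ ?_ ?_
  · rintro _ ⟨d, hd, r, hr, rfl⟩
    exact T.mul_mem (hDT hd) (l.leR hr)
  · exact fun r hr => ⟨1, D.one_mem, r, hr, (one_mul r).symm⟩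
  · exact fun e he => ⟨e, hED he, 1, R.one_mem, (mul_one e).symm⟩
  · rintro h hh _ ⟨d, hd, r, hr, rfl⟩
    refine ⟨h * d * h⁻¹, hDH h hh d hd, r, hr, ?_⟩
    have h4 : h * (d * r) * h⁻¹ = (h * d * h⁻¹) * (h * r * h⁻¹) := by group
    rw [h4, l.conjR hh hr]
  · rintro _ ⟨d, hd, r, hr, rfl⟩ hS
    have h1 : d ∈ l.SS := by
      have : d = (d * r) * r⁻¹ := by group
      rw [this]; exact l.SS.mul_mem hS (l.SS.inv_mem (l.R_le_SS hr))
    have h2 := hDS d hd h1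
    exact ⟨r, hr, d, h2, l.cen d h2 r (l.leR hr)⟩

include hZ hneS in
/-- `Z₂` is abelian -/
theorem Z2_comm [Finite G] {u v : G} (hu : u ∈ l.Z2) (hv : v ∈ l.Z2) : u * v = v * u := by
  have hDR : ∀ r ∈ R, ∀ d ∈ l.Z2, r * d * r⁻¹ ∈ l.Z2 := fun r hr d hd => by
    rw [conj_eq]
    exact l.Z2.mul_mem (l.E_le_Z2 (hd.2 r (l.S1_le_T2 (l.SS_le_S1 (l.R_le_SS hr))))) hd
  have l1 := l.layD (D := l.Z2) (fun u hu => hu.1.1) l.E_le_Z2 hDR (fun h hh u hu => l.Z2_norm hh hu) hZ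
  obtain ⟨F, f⟩ := CaseALayer.layer l1
  have hF := l.Z2_le_F hneS hZ f (fun u hu => ⟨u, hu, 1, R.one_mem, (mul_one u).symm⟩)
  exact CaseALayer.comm1 l1 f (hF hu) (hF hv) (fun t ht => hu.1.2 t ht) (fun t ht => hv.1.2 t ht)

include hne hneS hZ in
theorem caseIIa [Finite G] (hb : ∃ y ∈ Q, ∃ u ∈ l.Z2, y * u ≠ u * y) : False := by
  obtain ⟨u0, hu0, hu0E⟩ := l.exists_Z2 hneS
  have hZD : l.Z2 ≤ CC l.T2 l.Z2 := fun u hu => ⟨l.S1_le_T2 hu.1, fun v hv => l.Z2_comm hneS hZ hu hv⟩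
  have hDH : ∀ h ∈ H, ∀ d ∈ CC l.T2 l.Z2, h * d * h⁻¹ ∈ CC l.T2 l.Z2 := fun h hh d hd =>
    CC_norm (fun x hx => l.T2_norm hh hx) (fun a ha => by
      have := l.Z2_norm (H.inv_mem hh) ha
      rwa [inv_inv] at this) hd
  have hDT2 : ∀ x ∈ l.T2, ∀ d ∈ CC l.T2 l.Z2, x * d * x⁻¹ ∈ CC l.T2 l.Z2 := fun x hx d hd =>
    CC_norm (fun y hy => l.T2.mul_mem (l.T2.mul_mem hx hy) (l.T2.inv_mem hx)) (fun a ha => by
      have h1 := ha.2 x⁻¹ (l.T2.inv_mem hx)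
      have h2 : x⁻¹ * a * x = cm x⁻¹ a * a := by unfold cm; group
      rw [h2]
      exact l.Z2.mul_mem (l.E_le_Z2 h1) ha) hd
  -- `D ∩ Q = E`
  have hDQ : ∀ y ∈ CC l.T2 l.Z2, y ∈ Q → y ∈ E := by
    intro y hy hyQ
    by_contra hyE
    obtain ⟨w, hw, u, hu, hwu⟩ := hb
    apply hwu
    by_cases hwE : w ∈ E
    · exact l.cen w hwE u hu.1.1
    obtain ⟨k, hk, e, he, hke⟩ := l.trans' y hyQ w hw hyE hwE
    have h4 : w = k * y * k⁻¹ * e⁻¹ := by rw [hke]; group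
    have h5 : w ∈ CC l.T2 l.Z2 := by
      rw [h4]
      exact (CC l.T2 l.Z2).mul_mem (hDH k hk y hy) (hZD (l.E_le_Z2 (E.inv_mem he)))
    exact h5.2 u hu
  have hDS : ∀ d ∈ CC l.T2 l.Z2, d ∈ l.SS → d ∈ E := by
    rintro _ hd ⟨r, hr, y, hy, rfl⟩
    obtain ⟨h, hh, hh1⟩ := l.exists_h
    have h1 : (r * y)⁻¹ * (h * (r * y) * h⁻¹) = y⁻¹ * (h * y * h⁻¹) := by
      have h4 : h * (r * y) * h⁻¹ = (h * r * h⁻¹) * (h * y * h⁻¹) := by group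
      rw [h4, l.conjR hh hr]; group
    have h2 : y⁻¹ * (h * y * h⁻¹) ∈ CC l.T2 l.Z2 := by
      rw [← h1]
      exact (CC l.T2 l.Z2).mul_mem ((CC l.T2 l.Z2).inv_mem hd) (hDH h hh _ hd)
    have h3 := hDQ _ h2 (Q.mul_mem (Q.inv_mem hy) (l.normQ h hh y hy))
    have hyE := l.fpf_Q hh hh1 hy h3
    have hrD : r ∈ CC l.T2 l.Z2 := by
      have : r = (r * y) * y⁻¹ := by group
      rw [this]
      exact (CC l.T2 l.Z2).mul_mem hd ((CC l.T2 l.Z2).inv_mem (hZD (l.E_le_Z2 hyE)))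
    have hr1 : r = 1 := by
      by_contra hr1
      exact hu0E (hZ u0 hu0 (l.mem_SS_of_comm hu0.1.1 hr hr1 (hrD.2 u0 hu0).symm))
    rw [hr1, one_mul]; exact hyE
  have hDR : ∀ r ∈ R, ∀ d ∈ CC l.T2 l.Z2, r * d * r⁻¹ ∈ CC l.T2 l.Z2 := fun r hr =>
    hDT2 r (l.S1_le_T2 (l.SS_le_S1 (l.R_le_SS hr)))
  have l1 := l.layD (D := CC l.T2 l.Z2) (fun u hu => hu.1.1) (l.E_le_Z2.trans hZD) hDR hDH hDS
  obtain ⟨F, f⟩ := CaseALayer.layer l1
  have hZP : l.Z2 ≤ DR (CC l.T2 l.Z2) R hDR := fun u hu => ⟨u, hZD hu, 1, R.one_mem, (mul_one u).symm⟩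
  have hF := l.Z2_le_F hneS hZ f hZP
  have big := CaseALayer.big l1 f l.bigR (by
    intro hP
    have h1 := hZP hu0
    rw [hP] at h1
    exact hu0E (hZ u0 hu0 (l.sup_le_SS h1)))
  have hFU : F ≤ l.Z2 := by
    intro y hy
    by_cases hyE : y ∈ E
    · exact l.E_le_Z2 hyE
    · obtain ⟨k, hk, e, he, hke⟩ := big.trans u0 (hF hu0) hu0E y hy hyE
      rw [hke]
      exact l.Z2.mul_mem (l.Z2_norm hk hu0) (l.E_le_Z2 he)
  have hDU : CC l.T2 l.Z2 ≤ l.Z2 := by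
    intro d hd
    obtain ⟨y, hy, r, hr, hyr⟩ := f.sup d ⟨d, hd, 1, R.one_mem, (mul_one d).symm⟩
    have hyU := hFU hy
    have hrD : r ∈ CC l.T2 l.Z2 := by
      have : r = y⁻¹ * d := by rw [hyr]; group
      rw [this]
      exact (CC l.T2 l.Z2).mul_mem ((CC l.T2 l.Z2).inv_mem (hZD hyU)) hd
    have hr1 : r = 1 := l.disjR hr (l.leE (hDS r hrD (l.R_le_SS hr)))
    rw [hyr, hr1, mul_one]; exact hyU
  refine l.key hne l.E_le_Z2 hZ (fun u hu huE v hv hvE => l.Z2_trans hZ hu huE hv hvE) (fun x hx t ht => ?_)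
  have ht2 : t ∈ l.T2 := l.S1_le_T2 (l.SS_le_S1 (l.R_le_SS ht))
  refine hDU ⟨l.T2.mul_mem (l.T2.mul_mem (l.T2.mul_mem hx ht2) (l.T2.inv_mem hx)) (l.T2.inv_mem ht2), fun u hu => ?_⟩
  exact cm_eq_one.mp (l.gen l.T2_le_T hu.1.1 (fun z hz => hu.2 z hz) hx ht2)

include hne hneS hZ in
theorem caseIIb [Finite G] (hb : ∀ y ∈ Q, ∀ u ∈ l.Z2, y * u = u * y) : False := by
  obtain ⟨u0, hu0, hu0E⟩ := l.exists_Z2 hneS
  have hZF : l.Z2 ≤ CC l.S1 l.Z2 := fun u hu => ⟨hu.1, fun v hv => l.Z2_comm hneS hZ hu hv⟩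
  have hQF : Q ≤ CC l.S1 l.Z2 := fun y hy => ⟨l.SS_le_S1 (l.Q_le_SS hy), hb y hy⟩
  have hFH : ∀ h ∈ H, ∀ d ∈ CC l.S1 l.Z2, h * d * h⁻¹ ∈ CC l.S1 l.Z2 := fun h hh d hd =>
    CC_norm (fun x hx => l.S1_norm hh hx) (fun a ha => by
      have := l.Z2_norm (H.inv_mem hh) ha
      rwa [inv_inv] at this) hd
  have hFT : ∀ x ∈ l.T2, ∀ d ∈ CC l.S1 l.Z2, x * d * x⁻¹ ∈ CC l.S1 l.Z2 := fun x hx d hd =>
    CC_norm (fun y hy => l.T2_conj hx hy) (fun a ha => by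
      have h1 := ha.2 x⁻¹ (l.T2.inv_mem hx)
      have h2 : x⁻¹ * a * x = cm x⁻¹ a * a := by unfold cm; group
      rw [h2]
      exact l.Z2.mul_mem (l.E_le_Z2 h1) ha) hd
  -- the elements of `F₁`
  have hform : ∀ x ∈ CC l.S1 l.Z2, ∃ y ∈ Q, ∃ u ∈ l.Z2, x = y * u := by
    intro x hx
    obtain ⟨u, hu, r, hr, y, hy, h⟩ := l.S1_form hneS hZ hx.1
    have hrF : r ∈ CC l.S1 l.Z2 := by
      have : r = u⁻¹ * x * y⁻¹ := by rw [h]; group
      rw [this]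
      exact (CC l.S1 l.Z2).mul_mem ((CC l.S1 l.Z2).mul_mem ((CC l.S1 l.Z2).inv_mem (hZF hu)) hx)
        ((CC l.S1 l.Z2).inv_mem (hQF hy))
    have hr1 : r = 1 := by
      by_contra hr1
      exact hu0E (hZ u0 hu0 (l.mem_SS_of_comm hu0.1.1 hr hr1 (hrF.2 u0 hu0).symm))
    refine ⟨y, hy, u, hu, ?_⟩
    rw [h, hr1, mul_one, hb y hy u hu]
  -- `[x, t] ∈ F₁`
  have hcF : ∀ x ∈ l.T2, ∀ t ∈ R, cm x t ∈ CC l.S1 l.Z2 := by
    refine l.triv (l.E_le_Z2.trans hZF) hFT hFH (fun x hx t ht => ?_)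
    obtain ⟨u, hu, r, hr, y, hy, h⟩ := l.S1_form hneS hZ (l.T2_conj hx (l.SS_le_S1 (l.R_le_SS ht)))
    refine ⟨u * y, (CC l.S1 l.Z2).mul_mem (hZF hu) (hQF hy), r, hr, ?_⟩
    calc x * t * x⁻¹ = u * (r * y) := by rw [h]; group
      _ = u * (y * r) := by rw [l.commRQ r hr y hy]
      _ = u * y * r := by group
  -- `[x, y] ∈ U`
  have hμ : ∀ x ∈ l.T2, ∀ y ∈ Q, cm x y ∈ l.Z2 := by
    obtain ⟨a, ha, haU, hac⟩ := exists_central_mod (l.two.to_le l.T2_le_T) (A := CC l.S1 l.Z2) (N := l.Z2)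
      (fun x hx => l.S1_le_T2 hx.1) hZF hFT (fun x hx a ha => by
        rw [conj_eq]; exact l.Z2.mul_mem (l.E_le_Z2 (ha.2 x hx)) ha) (by
        obtain ⟨y, hy, hyE⟩ := l.exists_notin_Q
        exact ⟨y, hQF hy, fun h => hyE (hZ y h (l.Q_le_SS hy))⟩)
    obtain ⟨y, hy, u, hu, rfl⟩ := hform a ha
    have hyE : y ∉ E := fun h => haU (l.Z2.mul_mem (l.E_le_Z2 h) hu)
    have h1 : ∀ x ∈ l.T2, cm x y ∈ l.Z2 := by
      intro x hx
      have h2 : cm x (y * u) ∈ l.Z2 := hac x hx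
      rw [l.cm_mul_right (l.leQ hy) (hu.2 x hx)] at h2
      have h3 : cm x y = cm x y * cm x u * (cm x u)⁻¹ := by group
      rw [h3]
      exact l.Z2.mul_mem h2 (l.Z2.inv_mem (l.E_le_Z2 (hu.2 x hx)))
    intro x hx w hw
    by_cases hwE : w ∈ E
    · rw [l.cm_E_right hwE hx.1]; exact l.Z2.one_mem
    obtain ⟨k, hk, e, he, hke⟩ := l.trans' y hy w hw hyE hwE
    have h4 : w = k * y * k⁻¹ * e⁻¹ := by rw [hke]; group
    have h5 : cm x e⁻¹ = 1 := l.cm_E_right (E.inv_mem he) hx.1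
    rw [h4, l.cm_mul_right (l.leQ (l.normQ k hk y hy)) (by rw [h5]; exact E.one_mem), h5, mul_one]
    have h6 : x = k * (k⁻¹ * x * k⁻¹⁻¹) * k⁻¹ := by group
    rw [h6, ← cm_conj]
    exact l.Z2_norm hk (h1 _ (l.T2_norm (H.inv_mem hk) hx))
  -- bilinearity on `S₁`
  have bl : ∀ a ∈ l.S1, ∀ b ∈ l.S1, ∀ c ∈ l.S1, cm (a * b) c = cm a c * cm b c := fun a ha b hb' c hc =>
    l.cm_mul_left ha.1 hc.1 (l.S1_cm hneS hb' hc)
  have br : ∀ a ∈ l.S1, ∀ b ∈ l.S1, ∀ c ∈ l.S1, cm a (b * c) = cm a b * cm a c := fun a ha b hb' c hc =>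
    l.cm_mul_right hb'.1 (l.S1_cm hneS ha hc)
  refine l.key hne l.E_le_Z2 hZ (fun u hu huE v hv hvE => l.Z2_trans hZ hu huE hv hvE) (fun x hx => ?_)
  -- `y_t`, `u_t`
  choose! Y hY U hU hYU using fun t (ht : t ∈ R) => hform _ (hcF x hx t ht)
  have hrel : ∀ t ∈ R, ∀ y ∈ Q, cm (Y t) y * cm t (cm x y) = 1 := by
    intro t ht y hy
    have hYS := l.SS_le_S1 (l.Q_le_SS (hY t ht))
    have hUS := (hU t ht).1
    have htS := l.SS_le_S1 (l.R_le_SS ht)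
    have hyS := l.SS_le_S1 (l.Q_le_SS hy)
    have hμS := (hμ x hx y hy).1
    have h1 : cm (x * t * x⁻¹) (x * y * x⁻¹) = 1 := by
      rw [← cm_conj, cm_eq_one.mpr (l.commRQ t ht y hy)]; group
    rw [conj_eq x t, conj_eq x y, hYU t ht] at h1
    rw [bl _ (l.S1.mul_mem hYS hUS) _ htS _ (l.S1.mul_mem hμS hyS), bl _ hYS _ hUS _ (l.S1.mul_mem hμS hyS),
      br _ hYS _ hμS _ hyS, br _ hUS _ hμS _ hyS, br _ htS _ hμS _ hyS,
      cm_eq_one.mpr (hb _ (hY t ht) _ (hμ x hx y hy)), cm_eq_one.mpr (l.Z2_comm hneS hZ (hU t ht) (hμ x hx y hy)),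
      cm_eq_one.mpr (hb y hy _ (hU t ht)).symm, cm_eq_one.mpr (l.commRQ t ht y hy), one_mul, one_mul, mul_one,
      mul_one] at h1
    exact h1
  have hiff : ∀ t ∈ R, t ≠ 1 → ∀ y ∈ Q, (cm (Y t) y = 1 ↔ cm x y ∈ E) := by
    intro t ht ht1 y hy
    have h1 := hrel t ht y hy
    constructor
    · intro h2
      rw [h2, one_mul] at h1
      exact hZ _ (hμ x hx y hy) (l.mem_SS_of_comm (hμ x hx y hy).1.1 ht ht1 (cm_eq_one.mp h1).symm)
    · intro h2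
      rw [l.cm_E_right h2 (l.leR ht), mul_one] at h1
      exact h1
  have hYE : ∀ t ∈ R, t ≠ 1 → Y t ∈ E := by
    intro t ht ht1
    by_contra hYE
    have step : ∀ s ∈ R, s ≠ 1 → Y s ∉ E ∧ (Y s)⁻¹ * Y t ∈ E := by
      intro s hs hs1
      have h1 : Y s ∉ E := by
        intro h1
        apply hYE
        refine l.mem_E_of_comm_Q (hY t ht) (fun w hw => ?_)
        have h2 := (hiff s hs hs1 w hw).mp (l.cm_E_left h1 (l.leQ hw))
        exact (cm_eq_one.mp ((hiff t ht ht1 w hw).mpr h2)).symm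
      refine ⟨h1, ?_⟩
      have h2 := (hiff t ht ht1 (Y t) (hY t ht)).mp (cm_eq_one.mpr rfl)
      have h3 := cm_eq_one.mp ((hiff s hs hs1 (Y t) (hY t ht)).mpr h2)
      rcases l.centQ _ (hY s hs) h1 _ (hY t ht) h3.symm with h4 | h4
      · exact absurd h4 hYE
      · exact h4
    obtain ⟨s, hs, hs1, hst, hst1⟩ := l.exists_ts ht
    have hstR := R.mul_mem hs ht
    obtain ⟨h1, h2⟩ := step s hs hs1
    obtain ⟨h3, h4⟩ := step (s * t) hstR hst1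
    -- `y_{st} = y_s y_t` mod `E`
    have h5 : cm x (s * t) = cm x s * (s * cm x t * s⁻¹) := by unfold cm; group
    rw [hYU _ hstR, hYU s hs, hYU t ht] at h5
    have hUs : s * U t * s⁻¹ ∈ l.Z2 := by
      rw [conj_eq]
      exact l.Z2.mul_mem (l.E_le_Z2 ((hU t ht).2 s (l.S1_le_T2 (l.SS_le_S1 (l.R_le_SS hs))))) (hU t ht)
    have h6 : Y (s * t) * U (s * t) = Y s * Y t * (U s * (s * U t * s⁻¹)) := by
      rw [h5]
      calc Y s * U s * (s * (Y t * U t) * s⁻¹) = Y s * U s * ((s * Y t) * U t * s⁻¹) := by group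
        _ = Y s * U s * ((Y t * s) * U t * s⁻¹) := by rw [l.commRQ s hs _ (hY t ht)]
        _ = Y s * (U s * Y t) * (s * U t * s⁻¹) := by group
        _ = Y s * (Y t * U s) * (s * U t * s⁻¹) := by rw [hb _ (hY t ht) _ (hU s hs)]
        _ = Y s * Y t * (U s * (s * U t * s⁻¹)) := by group
    have h7 : (Y (s * t))⁻¹ * (Y s * Y t) ∈ E := by
      have h8 : (Y (s * t))⁻¹ * (Y s * Y t) = U (s * t) * (U s * (s * U t * s⁻¹))⁻¹ := by
        calc (Y (s * t))⁻¹ * (Y s * Y t)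
            = (Y (s * t))⁻¹ * (Y s * Y t * (U s * (s * U t * s⁻¹))) * (U s * (s * U t * s⁻¹))⁻¹ := by group
          _ = (Y (s * t))⁻¹ * (Y (s * t) * U (s * t)) * (U s * (s * U t * s⁻¹))⁻¹ := by rw [h6]
          _ = U (s * t) * (U s * (s * U t * s⁻¹))⁻¹ := by group
      refine hZ _ ?_ (l.Q_le_SS (Q.mul_mem (Q.inv_mem (hY _ hstR)) (Q.mul_mem (hY s hs) (hY t ht))))
      rw [h8]
      exact l.Z2.mul_mem (hU _ hstR) (l.Z2.inv_mem (l.Z2.mul_mem (hU s hs) hUs))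
    have h9 : Y s * Y t ∈ E := by
      have : Y s * Y t = (Y s * Y s) * ((Y s)⁻¹ * Y t) := by group
      rw [this]
      exact E.mul_mem (l.sq_mem _ (hY s hs)) h2
    apply h3
    have h10 : Y (s * t) = (Y s * Y t) * ((Y (s * t))⁻¹ * (Y s * Y t))⁻¹ := by group
    rw [h10]
    exact E.mul_mem h9 (E.inv_mem h7)
  intro t ht
  by_cases ht1 : t = 1
  · have : cm x t = 1 := by rw [ht1]; unfold cm; group
    rw [this]; exact l.Z2.one_mem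
  · rw [hYU t ht]
    exact l.Z2.mul_mem (l.E_le_Z2 (hYE t ht ht1)) (hU t ht)

end caseII

theorem eq_S1 [Finite G] (hneS : T ≠ l.SS) : T = l.S1 := by
  by_contra hne
  rcases l.Z2_cases hne with hZ | hQ
  · by_cases hb : ∀ y ∈ Q, ∀ u ∈ l.Z2, y * u = u * y
    · exact l.caseIIb hne hneS hZ hb
    · push Not at hb
      exact l.caseIIa hne hneS hZ hb
  · exact l.caseIII hne hQ

theorem card_SS [Finite G] : Nat.card l.SS = Nat.card R * (q * q) := by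
  rw [← l.cardQ, ← Nat.card_prod]
  refine (Nat.card_eq_of_bijective (fun p : R × Q => (⟨p.1 * p.2, p.1, p.1.2, p.2, p.2.2, rfl⟩ : l.SS)) ⟨?_, ?_⟩).symm
  · rintro ⟨a, b⟩ ⟨c, d⟩ h
    have h1 : (a : G) * b = c * d := congrArg Subtype.val h
    obtain ⟨h2, h3⟩ := l.uniq a.2 c.2 b.2 d.2 h1
    exact Prod.ext (Subtype.ext h2) (Subtype.ext h3)
  · rintro ⟨_, r, hr, y, hy, rfl⟩
    exact ⟨⟨⟨r, hr⟩, ⟨y, hy⟩⟩, rfl⟩

end LayE

end Cfsg.Agent.OddCyclic.CaseELayDefs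

namespace Cfsg.Agent.OddCyclic.CaseELay

open Subgroup
open Cfsg.Agent.OddCyclic.CaseELayDefs

variable {G : Type*} [Group G] {T R Q E H : Subgroup G} {q : ℕ}

/-- **the layer theorem** -/
theorem main [Finite G] (l : LayE T R Q E H q) (hne : ∃ x ∈ T, ¬ ∃ r ∈ R, ∃ y ∈ Q, x = r * y) :
    LayEFin T R Q E q := by
  have hneS : T ≠ l.SS := by
    intro h
    obtain ⟨x, hx, hx'⟩ := hne
    rw [h] at hx
    exact hx' hx
  have hT := l.eq_S1 hneS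
  refine ⟨fun x hx => ?_, fun x hx y hy => ?_, ?_⟩
  · rw [hT] at hx; exact l.S1_sq hneS hx
  · rw [hT] at hx hy; exact l.S1_cm hneS hx hy
  · have h1 : Nat.card T = Nat.card l.S1 := by rw [← hT]
    rw [h1, l.card_S1 hneS, l.card_SS]
    ring

end Cfsg.Agent.OddCyclic.CaseELay
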