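import Cfsg.Agent.OddCyclic.PGLTorus
import Cfsg.Agent.OddCyclic.CompUnique
import Cfsg.Agent.ClassicalGeometry.PSL2Basic

/-!
# S0342, component type, case B: `K ≅ PSL₂(p)`, `p ≥ 7`; (4.1)

`Std p₀ K`, `D : Data K F`: `K ≃* PSL(2,F)`, `q = |F| ≥ 5` prime. `ac K hx` is the automorphism of `K` induced by
`x ∈ N(K)`. `exists_gl` (`q ≥ 7`): a 2-subgroup `A ≠ 1` of `C(K)^g ∩ N(K)`, `g ∉ N(K)`, acts on `K` as a
subgroup of a torus of `PGL₂(q)`. In particular `A` is cyclic.
-/

set_option autoImplicit false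

namespace Cfsg.Agent.OddCyclic.CompPsl

open Subgroup Cfsg
open Cfsg.Agent.OddCyclic.T1Defs Cfsg.Agent.OddCyclic.CompBasic
open Cfsg.Agent.OddCyclic.CompStandard
open Cfsg.Agent.LieExceptional.CITDefs
open Cfsg.Agent.OddCyclic.PGLTorus

/-! ### the action of the normalizer -/

section action

variable {G : Type*} [Group G] {K : Subgroup G}

/-- the automorphism of `K` induced by an element of the normalizer -/
def ac (K : Subgroup G) {x : G} (hx : x ∈ normalizer (K : Set G)) : MulAut K :=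
  K.normalizerMonoidHom ⟨x, hx⟩

theorem ac_apply {x : G} (hx : x ∈ normalizer (K : Set G)) (k : K) :
    (ac K hx k : G) = x * k * x⁻¹ := rfl

theorem ac_mul {x y : G} (hx : x ∈ normalizer (K : Set G)) (hy : y ∈ normalizer (K : Set G)) :
    ac K (mul_mem hx hy) = ac K hx * ac K hy :=
  map_mul K.normalizerMonoidHom ⟨x, hx⟩ ⟨y, hy⟩

theorem ac_eq_one {x : G} (hx : x ∈ normalizer (K : Set G)) :
    ac K hx = 1 ↔ x ∈ centralizer (K : Set G) := by
  rw [mem_centralizer_iff]
  constructor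
  · intro h k hk
    have h1 : (ac K hx ⟨k, hk⟩ : G) = k := by rw [h]; rfl
    rw [ac_apply] at h1
    exact (mul_inv_eq_iff_eq_mul.1 h1).symm
  · intro h
    ext k
    rw [ac_apply, MulAut.one_apply, ← h k k.2, mul_inv_cancel_right]

theorem ac_of_mem {k : G} (hk : k ∈ K) (hx : k ∈ normalizer (K : Set G)) :
    ac K hx = MulAut.conj ⟨k, hk⟩ := by
  ext x
  rw [ac_apply, MulAut.conj_apply]
  rfl

theorem ac_fix {x : G} (hx : x ∈ normalizer (K : Set G)) {k : G} (hk : k ∈ K) :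
    ac K hx ⟨k, hk⟩ = ⟨k, hk⟩ ↔ x * k = k * x := by
  constructor
  · intro h
    have h1 := congrArg Subtype.val h
    rw [ac_apply] at h1
    exact mul_inv_eq_iff_eq_mul.1 h1
  · intro h
    apply Subtype.ext
    rw [ac_apply]
    exact mul_inv_eq_iff_eq_mul.2 h

theorem ac_congr {x y : G} (h : x = y) (hx : x ∈ normalizer (K : Set G))
    (hy : y ∈ normalizer (K : Set G)) : ac K hx = ac K hy := by
  subst h; rfl

/-- the inner ones -/
theorem ac_inn {x : G} (hx : x ∈ normalizer (K : Set G)) :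
    ac K hx ∈ (MulAut.conj : K →* MulAut K).range ↔
      ∃ k ∈ K, k⁻¹ * x ∈ centralizer (K : Set G) := by
  constructor
  · rintro ⟨⟨k, hk⟩, hk'⟩
    refine ⟨k, hk, ?_⟩
    have hkn : k⁻¹ ∈ normalizer (K : Set G) := le_normalizer (K.inv_mem hk)
    rw [← ac_eq_one (mul_mem hkn hx), ac_mul hkn hx, ← hk', ac_of_mem (K.inv_mem hk) hkn,
      ← map_mul]
    have : (⟨k⁻¹, K.inv_mem hk⟩ : K) * ⟨k, hk⟩ = 1 := Subtype.ext (inv_mul_cancel k)
    rw [this, map_one]
  · rintro ⟨k, hk, h⟩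
    have hkn : k ∈ normalizer (K : Set G) := le_normalizer hk
    refine ⟨⟨k, hk⟩, ?_⟩
    have h1 := (ac_eq_one (mul_mem (inv_mem hkn) hx)).2 h
    have h2 : ac K hx = ac K (mul_mem hkn (mul_mem (inv_mem hkn) hx)) :=
      ac_congr (by group) _ _
    rw [h2, ac_mul hkn (mul_mem (inv_mem hkn) hx), h1, mul_one, ac_of_mem hk hkn]

end action

/-! ### arithmetic -/

theorem pow_two_or_odd {n : ℕ} (hn : n ≠ 0) :
    (∃ k, n = 2 ^ k) ∨ ∃ r : ℕ, r.Prime ∧ r ≠ 2 ∧ r ∣ n := by
  by_cases h : ∃ r : ℕ, r.Prime ∧ r ≠ 2 ∧ r ∣ n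
  · exact Or.inr h
  · left
    push Not at h
    refine ⟨_, Nat.eq_prime_pow_of_unique_prime_dvd hn (p := 2) fun {d} hd hdn => ?_⟩
    by_contra h2
    exact h d hd h2 hdn

variable {G : Type*} [Group G] [Finite G] {K : Subgroup G}

theorem isPGroup_or_odd (H : Subgroup G) :
    IsPGroup 2 H ∨ ∃ r : ℕ, r.Prime ∧ r ≠ 2 ∧ ∃ x ∈ H, orderOf x = r := by
  rcases pow_two_or_odd (n := Nat.card H) Nat.card_pos.ne' with ⟨k, hk⟩ | ⟨r, hr, hr2, hrH⟩
  · exact Or.inl (IsPGroup.of_card hk)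
  · right
    have : Fact r.Prime := ⟨hr⟩
    obtain ⟨⟨x, hx⟩, hxr⟩ := exists_prime_orderOf_dvd_card' (G := H) r hrH
    rw [Subgroup.orderOf_mk] at hxr
    exact ⟨r, hr, hr2, x, hx, hxr⟩

theorem false_of_two_odd {H : Subgroup G} (h : IsPGroup 2 H) {x : G} (hx : x ∈ H) {r : ℕ}
    (hr : r.Prime) (hr2 : r ≠ 2) (hxr : orderOf x = r) : False := by
  obtain ⟨n, hn⟩ := IsPGroup.iff_card.mp h
  have h1 : r ∣ 2 ^ n := by rw [← hn, ← hxr]; exact H.orderOf_dvd_natCard hx
  exact hr2 ((Nat.prime_dvd_prime_iff_eq hr Nat.prime_two).1 (hr.dvd_of_dvd_pow h1))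

section arith

theorem mu_mod (q : ℕ) (hq : q % 2 = 1) : mu q % 4 = 2 := by
  unfold mu; split_ifs <;> omega

theorem nu_mod (q : ℕ) (hq : q % 2 = 1) : nu q % 4 = 0 := by
  unfold nu; split_ifs <;> omega

theorem six_le_mu {q : ℕ} (hq : 5 ≤ q) (hq2 : q % 2 = 1) : 6 ≤ mu q := by
  unfold mu; split_ifs <;> omega

theorem eight_le_nu {q : ℕ} (hq : 7 ≤ q) (hq2 : q % 2 = 1) : 8 ≤ nu q := by
  unfold nu; split_ifs <;> omega

theorem mu_or (q : ℕ) (hq : 1 ≤ q) (h2 : q % 2 = 1) :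
    (mu q = q + 1 ∧ nu q + 1 = q) ∨ (mu q + 1 = q ∧ nu q = q + 1) := by
  unfold mu nu; split_ifs <;> omega

/-- an odd prime does not divide both -/
theorem eq_two_of_dvd {q r : ℕ} (hq : 1 ≤ q) (h2 : q % 2 = 1) (hr : r.Prime) (h3 : r ∣ mu q)
    (h4 : r ∣ nu q) : r = 2 := by
  rcases mu_or q hq h2 with ⟨h5, h6⟩ | ⟨h5, h6⟩
  · have h7 : r ∣ mu q - nu q := Nat.dvd_sub h3 h4
    have h8 : mu q - nu q = 2 := by omega
    rw [h8] at h7
    exact (Nat.prime_dvd_prime_iff_eq hr Nat.prime_two).1 h7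
  · have h7 : r ∣ nu q - mu q := Nat.dvd_sub h4 h3
    have h8 : nu q - mu q = 2 := by omega
    rw [h8] at h7
    exact (Nat.prime_dvd_prime_iff_eq hr Nat.prime_two).1 h7

end arith

variable {F : Type*} [Field F] [Finite F]

/-- the standing data of case B -/
structure Data (K : Subgroup G) (F : Type*) [Field F] [Finite F] where
  e : K ≃* Matrix.ProjectiveSpecialLinearGroup (Fin 2) F
  prime : (Nat.card F).Prime
  five : 5 ≤ Nat.card F

namespace Data

variable (D : Data K F)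

include D in
omit [Finite G] in
theorem two : (2 : F) ≠ 0 := by
  have := Fintype.ofFinite F
  apply Cfsg.Agent.GH.L2Aut.two_ne_zero_of_odd
  rw [← Nat.card_eq_fintype_card]
  exact D.prime.odd_of_ne_two (by have := D.five; omega)

/-- the representation -/
noncomputable def R : Cfsg.Agent.GH.L2Aut.Rep F K := Cfsg.Agent.GH.L2Aut.Rep.ofEquiv D.two D.e

include D in
omit [Finite G] in
theorem odd : Nat.card F % 2 = 1 := Cfsg.Agent.Lib.PSL2Torus.odd_card D.two

omit [Finite G] in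
theorem mem_PGL (α : MulAut K) : α ∈ D.R.PGL := mem_PGL_of_prime D.R D.prime α

include D in
omit [Finite G] in
theorem card_K : 2 * Nat.card K = Nat.card F * (mu (Nat.card F) * nu (Nat.card F)) := by
  have := Fintype.ofFinite F
  have h1 : Odd (Fintype.card F) := by
    rw [← Nat.card_eq_fintype_card]
    exact Nat.odd_iff.2 D.odd
  have h2 := Cfsg.Agent.ClassicalGeometry.PSL2Basic.card_PSL2_odd (F := F) h1
  rw [Nat.card_congr D.e.toEquiv, mul_comm, h2, Nat.card_eq_fintype_card]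
  have h7 := D.five
  have hodd := D.odd
  rw [Nat.card_eq_fintype_card] at h7 hodd
  congr 1
  have h3 : Fintype.card F ^ 2 - 1 = (Fintype.card F + 1) * (Fintype.card F - 1) := by
    have := Nat.sq_sub_sq (Fintype.card F) 1
    simpa using this
  rw [h3]
  rcases mu_or (Fintype.card F) (by omega) hodd with ⟨h5, h6⟩ | ⟨h5, h6⟩
  · rw [h5]; congr 1; omega
  · rw [h6, mul_comm]; congr 1; omega

omit [Finite G] in
/-- an element of `N(K)` acting as an involution is a matrix of trace zero -/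
theorem exists_gl_of_sq {α : MulAut K} (h1 : α ≠ 1) (h2 : α * α = 1) :
    ∃ γ : GL (Fin 2) F, γ.1.trace = 0 ∧ D.R.gl γ = α := by
  obtain ⟨γ, rfl⟩ := D.R.mem_PGL.1 (D.mem_PGL α)
  exact ⟨γ, trace_of_sq D.R h1 h2, rfl⟩

include D in
omit [Finite G] in
/-- The torus of an involution of `K`. -/
theorem exists_torusAt {t : K} (h1 : t ≠ 1) (h2 : t * t = 1) :
    ∃ (T : Subgroup K) (m : ℕ), Cfsg.Agent.Lib.PSL2Torus.TorusAt t T m ∧
      2 * m = nu (Nat.card F) := by
  obtain ⟨T, m, hT, h3⟩ := Cfsg.Agent.Lib.PSL2Torus.exists_torus D.two D.e h1 h2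
  refine ⟨T, m, hT, ?_⟩
  have hodd := D.odd
  unfold nu
  split_ifs <;> omega

end Data

/-! ### (4.1) -/

omit [Finite G] in
theorem mul_self_of_orderOf {x : G} (h : orderOf x = 2) : x * x = 1 := by
  rw [← pow_two, ← h, pow_orderOf_eq_one]

omit [Finite G] in
theorem ne_one_of_orderOf {x : G} (h : orderOf x = 2) : x ≠ 1 := by
  rintro rfl
  rw [orderOf_one] at h
  omega

omit [Finite G] in
theorem orderOf_eq_two {x : G} (h1 : x ≠ 1) (h : x * x = 1) : orderOf x = 2 :=
  orderOf_eq_prime (by rw [pow_two]; exact h) h1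

omit [Finite G] in
/-- the involution of a torus -/
theorem eq_gl_of_sq (D : Data K F) {γ : GL (Fin 2) F} (hγ : γ.1.trace = 0) {α : MulAut K}
    (hα : α ∈ Tor D.R γ) (h1 : α ≠ 1) (h2 : α * α = 1) : α = D.R.gl γ := by
  have hc := isCyclic_Tor D.R hγ
  have hf : Finite (Tor D.R γ) := by
    refine Nat.finite_of_card_ne_zero ?_
    rw [card_Tor_eq D.R hγ]
    omega
  have e1 : orderOf (⟨α, hα⟩ : Tor D.R γ) = 2 := by
    rw [Subgroup.orderOf_mk]; exact orderOf_eq_two h1 h2
  have e2 : orderOf (⟨D.R.gl γ, gl_mem_Tor D.R γ⟩ : Tor D.R γ) = 2 := by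
    rw [Subgroup.orderOf_mk]; exact orderOf_eq_two (gl_ne_one D.R hγ) (sq_of_trace D.R hγ)
  have e3 := zpowers_eq_of_cyclic (e1.trans e2.symm)
  have e4 : (⟨α, hα⟩ : Tor D.R γ) ∈ zpowers (⟨D.R.gl γ, gl_mem_Tor D.R γ⟩ : Tor D.R γ) := by
    rw [← e3]; exact mem_zpowers _
  have e5 : (⟨D.R.gl γ, gl_mem_Tor D.R γ⟩ : Tor D.R γ) * ⟨D.R.gl γ, gl_mem_Tor D.R γ⟩ = 1 :=
    Subtype.ext (sq_of_trace D.R hγ)
  obtain ⟨n, hn⟩ := e4
  have e6 : (⟨α, hα⟩ : Tor D.R γ) = 1 ∨
      (⟨α, hα⟩ : Tor D.R γ) = ⟨D.R.gl γ, gl_mem_Tor D.R γ⟩ := by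
    rcases Int.even_or_odd n with ⟨k, hk⟩ | ⟨k, hk⟩
    · left
      rw [← hn]
      change (⟨D.R.gl γ, gl_mem_Tor D.R γ⟩ : Tor D.R γ) ^ n = 1
      rw [hk, zpow_add, ← (Commute.refl _).mul_zpow, e5, one_zpow]
    · right
      rw [← hn]
      change (⟨D.R.gl γ, gl_mem_Tor D.R γ⟩ : Tor D.R γ) ^ n = _
      rw [hk, zpow_add, zpow_mul, zpow_ofNat, pow_two, e5, one_zpow, one_mul, zpow_one]
  rcases e6 with h | h
  · exact absurd (congrArg Subtype.val h) h1
  · exact congrArg Subtype.val h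

omit [Finite G] in
/-- fixed points of odd prime order of an involution `gl γ` lie in `Cp`, their order does not divide
`q`. -/
theorem mem_Cp_of_odd (D : Data K F) {γ : GL (Fin 2) F} {y : K} (hy : D.R.gl γ y = y) {r : ℕ}
    (hr2 : 3 ≤ r) (hyr : orderOf y = r) : y ∈ Cp D.R γ := by
  rcases mem_Cp_or_sq D.R hy with h | h
  · exact h
  · exfalso
    have h1 : orderOf y ∣ 2 := orderOf_dvd_of_pow_eq_one (by rw [pow_two]; exact h)
    have := Nat.le_of_dvd (by norm_num) h1
    omega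

omit [Finite G] in
theorem dvd_card_Tor (D : Data K F) {γ : GL (Fin 2) F} {y : K} (hy : y ∈ Cp D.R γ) :
    orderOf y ∣ Nat.card (Tor D.R γ) := by
  have h1 : orderOf (MulAut.conj y) = orderOf y := orderOf_injective _ D.R.conj_injective y
  rw [← h1]
  have h2 := orderOf_dvd_natCard (⟨MulAut.conj y, hy⟩ : Tor D.R γ)
  rw [← Subgroup.orderOf_coe] at h2
  exact h2

omit [Finite G] in
theorem card_Tor_or (D : Data K F) {γ : GL (Fin 2) F} (hγ : γ.1.trace = 0) :
    Nat.card (Tor D.R γ) = Nat.card F + 1 ∨ Nat.card (Tor D.R γ) + 1 = Nat.card F := by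
  by_cases h : IsSquare (-γ.1.det)
  · exact Or.inr (card_Tor_of_sq D.R hγ h)
  · exact Or.inl (card_Tor_of_not_sq D.R hγ h)

omit [Finite G] in
theorem not_dvd_of_dvd_Tor (D : Data K F) {γ : GL (Fin 2) F} (hγ : γ.1.trace = 0) {r : ℕ}
    (hr : r.Prime) (hrT : r ∣ Nat.card (Tor D.R γ)) : ¬ r ∣ Nat.card F := by
  intro h
  have h1 : r ∣ 1 := by
    rcases card_Tor_or D hγ with h2 | h2
    · rw [h2] at hrT
      exact (Nat.dvd_add_right h).1 hrT
    · rw [← h2] at h
      exact (Nat.dvd_add_right hrT).1 h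
  exact hr.one_lt.ne' (Nat.dvd_one.1 h1)

omit [Finite G] in
/-- a cyclic group of order at least 3 is not inverted and centralized -/
theorem false_of_inv {T : Subgroup K} (hc : IsCyclic T) (h3 : 3 ≤ Nat.card T) {u : K}
    (h1 : ∀ y ∈ T, u * y * u⁻¹ = y⁻¹) (h2 : ∀ y ∈ T, u * y = y * u) : False := by
  obtain ⟨g, hg⟩ := hc.exists_generator
  have h4 : g * g = 1 := by
    apply Subtype.ext
    have h5 := h1 g g.2
    rw [h2 g g.2, mul_inv_cancel_right] at h5
    change (g : K) * g = 1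
    nth_rw 1 [h5]
    exact inv_mul_cancel _
  have h5 : orderOf g ∣ 2 := orderOf_dvd_of_pow_eq_one (by rw [pow_two]; exact h4)
  have h6 : orderOf g = Nat.card T := orderOf_eq_card_of_forall_mem_zpowers hg
  rw [h6] at h5
  have := Nat.le_of_dvd (by norm_num) h5
  omega

/-- (4.1) A 2-subgroup `A ≠ 1` of `C(K)^g ∩ N(K)`, `g ∉ N(K)`, induces on `K` a subgroup of a
torus. -/
theorem exists_gl {p₀ : ℕ} (h : Std p₀ K) (D : Data K F) (hq7 : 7 ≤ Nat.card F) {g : G}
    (hg : g ∉ normalizer (K : Set G))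
    {A : Subgroup G} (hA2 : IsPGroup 2 A) (hAY : A ≤ cj g (centralizer (K : Set G)))
    (hAM : A ≤ normalizer (K : Set G)) (hA1 : A ≠ ⊥) :
    ∃ γ : GL (Fin 2) F, γ.1.trace = 0 ∧ ∀ a (ha : a ∈ A), ac K (hAM ha) ∈ Tor D.R γ := by
  classical
  have hpf : Fact (Nat.Prime 2) := ⟨Nat.prime_two⟩
  have hqo := D.odd
  -- `A` acts faithfully
  have hfaith : ∀ a ∈ A, a ∈ centralizer (K : Set G) → a = 1 := by
    intro a ha haK
    have h1 := h.inf_eq_bot hg hA2 hAY
    have h2 : a ∈ A ⊓ centralizer (K : Set G) := ⟨ha, haK⟩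
    rwa [h1, mem_bot] at h2
  have hcent : ∀ a ∈ A, orderOf a = 2 → centralizer ({a} : Set G) ≤ cj g (normalizer (K : Set G)) :=
    fun a ha ha2 => h.centralizer_le_cj ha2 (hAY ha)
  -- elements of odd prime order of `K ∩ N(K)^g` centralize `C(K)^g`
  have hodd : ∀ x ∈ K, x ∈ cj g (normalizer (K : Set G)) → ∀ r : ℕ, r.Prime → r ≠ 2 →
      orderOf x = r → ∀ a ∈ cj g (centralizer (K : Set G)), x * a = a * x := by
    intro x hxK hxg r hr hr2 hxr a ha
    exact h.commute_of_dvd g hr hr2 (by rw [← hxr]; exact K.orderOf_dvd_natCard hxK) hxg hxr ha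
  -- an involution of `A` acts as an involution
  have hinv : ∀ a (ha : a ∈ A), orderOf a = 2 → ac K (hAM ha) ≠ 1 ∧
      ac K (hAM ha) * ac K (hAM ha) = 1 := by
    intro a ha ha2
    constructor
    · intro h1
      rw [ac_eq_one] at h1
      exact ne_one_of_orderOf ha2 (hfaith a ha h1)
    · rw [← ac_mul, ac_eq_one, mul_self_of_orderOf ha2]
      exact one_mem _
  by_cases hcase : ∃ a ∈ A, orderOf a = 2 ∧ ∃ r : ℕ, r.Prime ∧ r ≠ 2 ∧
      ∃ x ∈ K, x * a = a * x ∧ orderOf x = r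
  · -- case (a)
    obtain ⟨a, ha, ha2, r, hr, hr2, x, hxK, hxa, hxr⟩ := hcase
    have hr3 : 3 ≤ r := by have := hr.two_le; omega
    obtain ⟨γ₀, hγ₀, hαγ₀⟩ := D.exists_gl_of_sq (hinv a ha ha2).1 (hinv a ha ha2).2
    have hfix : D.R.gl γ₀ ⟨x, hxK⟩ = ⟨x, hxK⟩ := by
      rw [hαγ₀, ac_fix]; exact hxa.symm
    have hxo : orderOf (⟨x, hxK⟩ : K) = r := by rw [Subgroup.orderOf_mk, hxr]
    have hxC := mem_Cp_of_odd D hfix hr3 hxo
    have hrT := dvd_card_Tor D hxC
    rw [hxo] at hrT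
    obtain ⟨γ, hγ, -, hγ2⟩ := exists_Tor D.R hr hr2 (not_dvd_of_dvd_Tor D hγ₀ hr hrT) hxo
    refine ⟨γ, hγ, fun a' ha' => hγ2 _ (D.mem_PGL _) ?_⟩
    rw [ac_fix]
    exact (hodd x hxK (hcent a ha ha2 (mem_centralizer_singleton_iff.2 hxa)) r hr hr2 hxr a'
      (hAY ha')).symm
  · -- case (b)
    push Not at hcase
    have h2grp : ∀ a ∈ A, orderOf a = 2 → IsPGroup 2 (K ⊓ centralizer ({a} : Set G) : Subgroup G) := by
      intro a ha ha2
      rcases isPGroup_or_odd (K ⊓ centralizer ({a} : Set G)) with h1 | ⟨r, hr, hr2, x, hx, hxr⟩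
      · exact h1
      · exact (hcase a ha ha2 r hr hr2 x hx.1 (mem_centralizer_singleton_iff.1 hx.2) hxr).elim
    -- the involutions of `A` are inner
    have hinner : ∀ a (ha : a ∈ A), orderOf a = 2 →
        ac K (hAM ha) ∈ (MulAut.conj : K →* MulAut K).range := by
      intro a ha ha2
      by_contra hni
      obtain ⟨γ, hγ, hαγ⟩ := D.exists_gl_of_sq (hinv a ha ha2).1 (hinv a ha ha2).2
      rw [← hαγ] at hni
      have h1 := card_Cp_not_inn D.R hγ hni
      have h2 : Odd (Nat.card (Cp D.R γ)) := by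
        rw [Nat.odd_iff]
        have := mu_mod _ hqo
        omega
      have h3 : (Cp D.R γ).map K.subtype ≤ K ⊓ centralizer ({a} : Set G) := by
        rintro _ ⟨y, hy, rfl⟩
        refine ⟨y.2, mem_centralizer_singleton_iff.2 ?_⟩
        have h4 := fix_of_mem_Cp D.R hγ (gl_mem_Tor D.R γ) hy
        rw [hαγ] at h4
        exact ((ac_fix (hAM ha) y.2).1 h4).symm
      have h4 := eq_bot_of_odd ((h2grp a ha ha2).to_le h3) le_rfl
        (by rw [Subgroup.card_map_of_injective K.subtype_injective]; exact h2)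
      have h5 : Nat.card ((Cp D.R γ).map K.subtype) = 1 := by rw [h4]; exact Subgroup.card_bot
      rw [Subgroup.card_map_of_injective K.subtype_injective] at h5
      have := six_le_mu (by omega) hqo
      omega
    -- an involution
    obtain ⟨n, hn0, hn⟩ := hA2.nontrivial_iff_card.mp ((Subgroup.nontrivial_iff_ne_bot _).mpr hA1)
    obtain ⟨a₀, ha₀, ha₀2⟩ := exists_involution (H := A)
      (by rw [hn]; exact (Nat.even_pow.mpr ⟨even_two, Nat.pos_iff_ne_zero.mp hn0⟩))
    obtain ⟨γ₀, hγ₀, hαγ₀⟩ := D.exists_gl_of_sq (hinv a₀ ha₀ ha₀2).1 (hinv a₀ ha₀ ha₀2).2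
    refine ⟨γ₀, hγ₀, ?_⟩
    -- data for an involution of `A`
    have hk : ∀ a (ha : a ∈ A), orderOf a = 2 → ∃ k : K, MulAut.conj k = ac K (hAM ha) ∧ k ≠ 1 ∧
        k * k = 1 ∧ (∀ x (hx : x ∈ K), x * a = a * x ↔ (⟨x, hx⟩ : K) * k = k * ⟨x, hx⟩) := by
      intro a ha ha2
      obtain ⟨k, hk⟩ := hinner a ha ha2
      refine ⟨k, hk, ?_, ?_, ?_⟩
      · rintro rfl
        rw [map_one] at hk
        exact (hinv a ha ha2).1 hk.symm
      · apply D.R.conj_injective
        rw [map_mul, hk, map_one, (hinv a ha ha2).2]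
      · intro x hx
        have h1 := ac_fix (hAM ha) hx
        rw [← hk, MulAut.conj_apply] at h1
        constructor
        · intro h2
          exact (mul_inv_eq_iff_eq_mul.1 (h1.2 h2.symm)).symm
        · intro h2
          exact (h1.1 (mul_inv_eq_iff_eq_mul.2 h2.symm)).symm
    obtain ⟨k₀, hk₀, hk₀1, hk₀2, hk₀c⟩ := hk a₀ ha₀ ha₀2
    obtain ⟨T, m, hT, hm⟩ := D.exists_torusAt hk₀1 hk₀2
    have hm4 : 4 ≤ m := by have := eight_le_nu hq7 hqo; omega
    have hTcard := hT.card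
    by_cases hK0 : K ⊓ cj g (centralizer (K : Set G)) = ⊥
    · -- `[C_K(a₀), A] = 1`
      intro a' ha'
      have hcomm : ∀ x (hx : x ∈ K), (⟨x, hx⟩ : K) * k₀ = k₀ * ⟨x, hx⟩ → a' * x = x * a' := by
        intro x hx hxk
        have h1 := (hk₀c x hx).2 hxk
        have h2 := hcent a₀ ha₀ ha₀2 (mem_centralizer_singleton_iff.2 h1)
        have h3 : x * a' * x⁻¹ * a'⁻¹ ∈ K ⊓ cj g (centralizer (K : Set G)) := by
          refine Subgroup.mem_inf.mpr ⟨?_, Subgroup.mul_mem _ (normal_cj_cent g K x h2 a' (hAY ha'))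
            (Subgroup.inv_mem _ (hAY ha'))⟩
          have h4 : x * a' * x⁻¹ * a'⁻¹ = x * (a' * x⁻¹ * a'⁻¹) := by group
          rw [h4]
          exact mul_mem hx (forall_of_mem_normalizer (hAM ha') _ (inv_mem hx))
        rw [hK0, mem_bot, mul_inv_eq_one, mul_inv_eq_iff_eq_mul] at h3
        exact h3.symm
      obtain ⟨u, hu, huT⟩ := hT.ex
      obtain ⟨hu1, hu2, hu3⟩ := hT.out u hu huT
      have hut : u ≠ k₀ := by
        rintro rfl
        exact huT hT.mem
      have hfour : Cfsg.Agent.GH.L2Aut.Four k₀ u :=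
        ⟨hk₀2, hu2, hk₀1, hu1, fun h' => hut h'.symm, hu.symm⟩
      have hfa : ac K (hAM ha') k₀ = k₀ := (ac_fix (hAM ha') k₀.2).2 (hcomm k₀ k₀.2 rfl)
      have hfb : ac K (hAM ha') u = u := (ac_fix (hAM ha') u.2).2 (hcomm u u.2 hu)
      have hfT : ∀ y ∈ T, ac K (hAM ha') y = y := fun y hy =>
        (ac_fix (hAM ha') y.2).2 (hcomm y y.2 (hT.comm y hy))
      have key : ∀ w : K, ac K (hAM ha') = MulAut.conj w → w * k₀ = k₀ * w → w ∉ T → False := by
        intro w hw hwk hwT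
        refine false_of_inv hT.cyclic (by omega) (hT.out w hwk hwT).2.2 (fun y hy => ?_)
        have h1 := hfT y hy
        rw [hw, MulAut.conj_apply] at h1
        exact mul_inv_eq_iff_eq_mul.1 h1
      rcases D.R.fix_four hfour (D.mem_PGL _) hfa hfb with h1 | h1 | h1 | h1
      · rw [h1]; exact one_mem _
      · rw [h1, hk₀, ← hαγ₀]; exact gl_mem_Tor D.R γ₀
      · exact (key u h1 hu huT).elim
      · refine (key (k₀ * u) h1 ?_ ?_).elim
        · rw [mul_assoc, hu]
        · intro h2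
          apply huT
          have := T.mul_mem (T.inv_mem hT.mem) h2
          rwa [inv_mul_cancel_left] at this
    · -- `K ∩ C(K)^g ≠ 1`
      set Kg := K ⊓ cj g (normalizer (K : Set G)) with hKg
      have hKg2 : IsPGroup 2 Kg := by
        rcases isPGroup_or_odd Kg with h1 | ⟨r, hr, hr2, x, hx, hxr⟩
        · exact h1
        · exact (hcase a₀ ha₀ ha₀2 r hr hr2 x hx.1
            (hodd x hx.1 hx.2 r hr hr2 hxr a₀ (hAY ha₀)) hxr).elim
      -- involutions of `K ∩ C(K)^g`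
      have hKgcard : Nat.card Kg ∣ nu (Nat.card F) := by
        obtain ⟨j, hj⟩ := IsPGroup.iff_card.mp hKg2
        have h1 : Nat.card Kg ∣ Nat.card K := Subgroup.card_dvd_of_le inf_le_left
        have h2 := D.card_K
        have h3 : ∃ c, mu (Nat.card F) = 2 * c ∧ Odd c := by
          have := mu_mod _ hqo
          exact ⟨mu (Nat.card F) / 2, by omega, by rw [Nat.odd_iff]; omega⟩
        obtain ⟨c, hc, hco⟩ := h3
        have h4 : Nat.card K = (Nat.card F * c) * nu (Nat.card F) := by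
          rw [hc] at h2
          have : 2 * Nat.card K = 2 * ((Nat.card F * c) * nu (Nat.card F)) := by rw [h2]; ring
          omega
        rw [h4, hj] at h1
        rw [hj]
        refine Nat.Coprime.dvd_of_dvd_mul_left ?_ h1
        apply Nat.Coprime.pow_left
        rw [Nat.coprime_two_left]
        exact (Nat.odd_iff.2 hqo).mul hco
      have hle0 : K ⊓ centralizer ({a₀} : Set G) ≤ Kg :=
        inf_le_inf_left K (hcent a₀ ha₀ ha₀2)
      have hCk : ∀ k : K, k ≠ 1 → k * k = 1 →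
          (centralizer ({k} : Set K)).map K.subtype ≤ Kg →
          (centralizer ({k} : Set K)).map K.subtype = Kg := by
        intro k hk1 hk2 hle
        obtain ⟨T', m', hT', hm'⟩ := D.exists_torusAt hk1 hk2
        apply Subgroup.eq_of_le_of_card_ge hle
        rw [Subgroup.card_map_of_injective K.subtype_injective, hT'.card_centralizer, hm']
        exact Nat.le_of_dvd (by have := eight_le_nu hq7 hqo; omega) hKgcard
      have hbk : ∀ b ∈ K ⊓ cj g (centralizer (K : Set G)), orderOf b = 2 → ∀ a (ha : a ∈ A),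
          orderOf a = 2 → ∀ hb : b ∈ K, ac K (hAM ha) = MulAut.conj (⟨b, hb⟩ : K) := by
        intro b hb hb2 a ha ha2 hbK
        obtain ⟨k, hk, hk1, hk2, hkc⟩ := hk a ha ha2
        have hb1 : (⟨b, hbK⟩ : K) ≠ 1 := fun h' => ne_one_of_orderOf hb2 (congrArg Subtype.val h')
        have hbb : (⟨b, hbK⟩ : K) * ⟨b, hbK⟩ = 1 := Subtype.ext (mul_self_of_orderOf hb2)
        have e1 := hCk k hk1 hk2 (by
          rintro _ ⟨y, hy, rfl⟩
          refine ⟨y.2, hcent a ha ha2 (mem_centralizer_singleton_iff.2 ?_)⟩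
          exact (hkc y y.2).2 (mem_centralizer_singleton_iff.1 hy))
        have e2 := hCk ⟨b, hbK⟩ hb1 hbb (by
          rintro _ ⟨y, hy, rfl⟩
          refine ⟨y.2, h.centralizer_le_cj hb2 hb.2 (mem_centralizer_singleton_iff.2 ?_)⟩
          exact congrArg Subtype.val (mem_centralizer_singleton_iff.1 hy))
        have e3 : centralizer ({k} : Set K) = centralizer ({(⟨b, hbK⟩ : K)} : Set K) :=
          Subgroup.map_injective K.subtype_injective (e1.trans e2.symm)
        obtain ⟨T', m', hT', hm'⟩ := D.exists_torusAt hb1 hbb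
        have hT'card := hT'.card
        have hm4' : 4 ≤ m' := by have := eight_le_nu hq7 hqo; omega
        have hkb : k * (⟨b, hbK⟩ : K) = ⟨b, hbK⟩ * k := by
          have : k ∈ centralizer ({(⟨b, hbK⟩ : K)} : Set K) := by
            rw [← e3, mem_centralizer_singleton_iff]
          exact mem_centralizer_singleton_iff.1 this
        have hkT : k ∈ T' := by
          by_contra hkT
          refine false_of_inv hT'.cyclic (by omega) (hT'.out k hkb hkT).2.2 (fun y hy => ?_)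
          have : y ∈ centralizer ({k} : Set K) := by
            rw [e3, mem_centralizer_singleton_iff]
            exact hT'.comm y hy
          exact (mem_centralizer_singleton_iff.1 this).symm
        rcases hT'.eq_of_sq hkT hk2 with h1 | h1
        · exact absurd h1 hk1
        · rw [← hk, h1]
      -- an involution `b`
      have hK0' : Nat.card (K ⊓ cj g (centralizer (K : Set G)) : Subgroup G) ≠ 1 :=
        fun hc => hK0 (Subgroup.card_eq_one.mp hc)
      have hK02 : IsPGroup 2 (K ⊓ cj g (centralizer (K : Set G)) : Subgroup G) :=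
        hKg2.to_le (inf_le_inf_left K (cj_centralizer_le_normalizer g K))
      obtain ⟨n', hn0', hn'⟩ := hK02.nontrivial_iff_card.mp
        ((Subgroup.nontrivial_iff_ne_bot _).mpr hK0)
      obtain ⟨b, hb, hb2⟩ := exists_involution
        (H := (K ⊓ cj g (centralizer (K : Set G)) : Subgroup G))
        (by rw [hn']; exact (Nat.even_pow.mpr ⟨even_two, Nat.pos_iff_ne_zero.mp hn0'⟩))
      have hbK : b ∈ K := hb.1
      have hb0 := hbk b hb hb2 a₀ ha₀ ha₀2 hbK
      intro a' ha'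
      -- `a'` centralizes `b`
      have hab : a' * b = b * a' := by
        have h1 : a' * b * a'⁻¹ ∈ K ⊓ cj g (centralizer (K : Set G)) :=
          Subgroup.mem_inf.mpr ⟨forall_of_mem_normalizer (hAM ha') b hbK,
            Subgroup.mul_mem _ (Subgroup.mul_mem _ (hAY ha') hb.2)
              (Subgroup.inv_mem _ (hAY ha'))⟩
        have h2 : orderOf (a' * b * a'⁻¹) = 2 := by rw [orderOf_conj, hb2]
        have h3 := hbk _ h1 h2 a₀ ha₀ ha₀2 h1.1
        rw [hb0] at h3
        have h4 := congrArg Subtype.val (D.R.conj_injective h3)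
        exact (mul_inv_eq_iff_eq_mul.1 h4.symm)
      have hcm : ac K (hAM ha') * D.R.gl γ₀ = D.R.gl γ₀ * ac K (hAM ha') := by
        rw [hαγ₀, hb0]
        exact (fix_iff D.R).1 ((ac_fix (hAM ha') hbK).2 hab)
      rcases mem_Tor_or_sq D.R (D.mem_PGL _) hcm with h1 | h1
      · exact h1
      · by_cases ha'1 : a' = 1
        · have : ac K (hAM ha') = 1 := by
            rw [ac_eq_one, ha'1]; exact one_mem _
          rw [this]; exact one_mem _
        · have h2 : a' * a' = 1 := by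
            rw [← ac_mul, ac_eq_one] at h1
            exact hfaith _ (mul_mem ha' ha') h1
          rw [hbk b hb hb2 a' ha' (orderOf_eq_two ha'1 h2) hbK, ← hb0, ← hαγ₀]
          exact gl_mem_Tor D.R γ₀

end Cfsg.Agent.OddCyclic.CompPsl
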