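import Cfsg.Agent.OddCyclic.CompPslTwo
import Cfsg.Agent.OddCyclic.CaseABase
import Cfsg.Agent.S0025
import Cfsg.Agent.S0215

/-!
# S0342, component type, case B: `K ≅ PSL₂(p)`; (4.2c)

* `card_two` : if `q ≥ 7`, the Sylow 2-subgroups of `C(K)` have order two;
* `card_two_of_outer` : if all involutions of `C(K)^g ∩ N(K)`, `g ∉ N(K)`, induce outer automorphisms
  of `K` (and there are some), then the Sylow 2-subgroups of `C(K)` have order two (`q ≥ 5`).
-/

set_option autoImplicit false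

namespace Cfsg.Agent.OddCyclic.CompPsl

open Subgroup Cfsg Cfsg.Agent.LieExceptional
open Cfsg.Agent.OddCyclic.T1Defs Cfsg.Agent.OddCyclic.CompBasic
open Cfsg.Agent.OddCyclic.CompStandard
open Cfsg.Agent.LieExceptional.CITDefs
open Cfsg.Agent.LieExceptional.CITBasic
open Cfsg.Agent.OddCyclic.PGLTorus

variable {G : Type*} [Group G] {K : Subgroup G}
variable {F : Type*} [Field F] [Finite F]

/-! ### arithmetic of tori -/

section tori

theorem not_dvd_of_mu_nu {q r : ℕ} (hr : r.Prime) (h2 : q % 2 = 1) (h : r ∣ mu q ∨ r ∣ nu q) :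
    ¬ r ∣ q := by
  intro hq
  have h1 : r ∣ 1 := by
    unfold mu nu at h
    split_ifs at h with h4 <;> rcases h with h | h
    · exact (Nat.dvd_add_right hq).1 h
    · have h5 : q = q - 1 + 1 := by omega
      rw [h5] at hq
      exact (Nat.dvd_add_right h).1 hq
    · have h5 : q = q - 1 + 1 := by omega
      rw [h5] at hq
      exact (Nat.dvd_add_right h).1 hq
    · exact (Nat.dvd_add_right hq).1 h
  exact hr.one_lt.ne' (Nat.dvd_one.1 h1)

theorem card_Tor_pos (D : Data K F) {γ : GL (Fin 2) F} (hγ : γ.1.trace = 0) :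
    Finite (Tor D.R γ) := by
  refine Nat.finite_of_card_ne_zero ?_
  rw [card_Tor_eq D.R hγ]
  omega

theorem card_Tor_mu_or_nu (D : Data K F) {γ : GL (Fin 2) F} (hγ : γ.1.trace = 0) :
    Nat.card (Tor D.R γ) = mu (Nat.card F) ∨ Nat.card (Tor D.R γ) = nu (Nat.card F) := by
  by_cases h : D.R.gl γ ∈ (MulAut.conj : K →* MulAut K).range
  · exact Or.inr (card_Tor_inn D.R hγ h)
  · exact Or.inl (card_Tor_not_inn D.R hγ h)

/-- the torus of an element of odd prime order -/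
theorem exists_Tor_card (D : Data K F) {r : ℕ} (hr : r.Prime) (hr2 : r ≠ 2) {y : K}
    (hy : orderOf y = r) (h : r ∣ mu (Nat.card F) ∨ r ∣ nu (Nat.card F)) :
    ∃ γ : GL (Fin 2) F, γ.1.trace = 0 ∧ (∀ β : MulAut K, β y = y → β ∈ Tor D.R γ) ∧
      (r ∣ mu (Nat.card F) → Nat.card (Tor D.R γ) = mu (Nat.card F)) ∧
      (r ∣ nu (Nat.card F) → Nat.card (Tor D.R γ) = nu (Nat.card F)) := by
  have hqo := D.odd
  have hq5 := D.five
  obtain ⟨γ, hγ, hyT, hT⟩ := exists_Tor D.R hr hr2 (not_dvd_of_mu_nu hr hqo h) hy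
  have h1 := dvd_card_Tor D hyT
  rw [hy] at h1
  refine ⟨γ, hγ, fun β hβ => hT β (D.mem_PGL β) hβ, fun h2 => ?_, fun h2 => ?_⟩
  · rcases card_Tor_mu_or_nu D hγ with h3 | h3
    · exact h3
    · rw [h3] at h1
      exact absurd (eq_two_of_dvd (by omega) hqo hr h2 h1) hr2
  · rcases card_Tor_mu_or_nu D hγ with h3 | h3
    · rw [h3] at h1
      exact absurd (eq_two_of_dvd (by omega) hqo hr h1 h2) hr2
    · exact h3

/-- an involution commuting with an element of odd prime order -/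
theorem exists_gl_dvd (D : Data K F) {α : MulAut K} (h1 : α ≠ 1) (h2 : α * α = 1) {y : K}
    (hy : α y = y) {r : ℕ} (hr3 : 3 ≤ r) (hyr : orderOf y = r) :
    ∃ γ : GL (Fin 2) F, γ.1.trace = 0 ∧ D.R.gl γ = α ∧ r ∣ Nat.card (Tor D.R γ) := by
  obtain ⟨γ, hγ, rfl⟩ := D.exists_gl_of_sq h1 h2
  refine ⟨γ, hγ, rfl, ?_⟩
  rw [← hyr]
  exact dvd_card_Tor D (mem_Cp_of_odd D hy hr3 hyr)

theorem dvd_mu_of_outer (D : Data K F) {α : MulAut K} (h2 : α * α = 1)
    (hni : α ∉ (MulAut.conj : K →* MulAut K).range) {y : K} (hy : α y = y) {r : ℕ} (hr3 : 3 ≤ r)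
    (hyr : orderOf y = r) : r ∣ mu (Nat.card F) := by
  have h1 : α ≠ 1 := fun h => hni (by rw [h]; exact one_mem _)
  obtain ⟨γ, hγ, hγα, h3⟩ := exists_gl_dvd D h1 h2 hy hr3 hyr
  rwa [card_Tor_not_inn D.R hγ (by rwa [hγα])] at h3

theorem not_inner_of_dvd_mu (D : Data K F) {α : MulAut K} (h1 : α ≠ 1) (h2 : α * α = 1)
    {y : K} (hy : α y = y) {r : ℕ} (hr : r.Prime) (hr2 : r ≠ 2)
    (hyr : orderOf y = r) (hmu : r ∣ mu (Nat.card F)) :
    α ∉ (MulAut.conj : K →* MulAut K).range := by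
  intro hi
  obtain ⟨γ, hγ, hγα, h3⟩ := exists_gl_dvd D h1 h2 hy (by have := hr.two_le; omega) hyr
  rw [card_Tor_inn D.R hγ (by rwa [hγα])] at h3
  have := D.five
  exact hr2 (eq_two_of_dvd (by omega) D.odd hr hmu h3)

/-- an outer involution commutes with an element of order `r`, `r ∣ mu(q)/2` -/
theorem exists_fix_of_outer (D : Data K F) {α : MulAut K} (h2 : α * α = 1)
    (hni : α ∉ (MulAut.conj : K →* MulAut K).range) {r : ℕ} (hr : r.Prime)
    (hrm : r ∣ mu (Nat.card F) / 2) : ∃ y : K, orderOf y = r ∧ α y = y := by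
  have h1 : α ≠ 1 := fun h => hni (by rw [h]; exact one_mem _)
  obtain ⟨γ, hγ, rfl⟩ := D.exists_gl_of_sq h1 h2
  have h3 := card_Cp_not_inn D.R hγ hni
  have h4 : r ∣ Nat.card (Cp D.R γ) := by
    have : Nat.card (Cp D.R γ) = mu (Nat.card F) / 2 := by omega
    rwa [this]
  have hf : Finite (Cp D.R γ) := by
    refine Nat.finite_of_card_ne_zero ?_
    have h5 := six_le_mu D.five D.odd
    omega
  have : Fact r.Prime := ⟨hr⟩
  obtain ⟨y, hy⟩ := exists_prime_orderOf_dvd_card' (G := Cp D.R γ) r h4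
  refine ⟨y, by rw [Subgroup.orderOf_coe, hy], fix_of_mem_Cp D.R hγ (gl_mem_Tor D.R γ) y.2⟩

/-- a 2-group acting faithfully on `K` and centralizing an element of order `r ∣ mu(q)` has order at
most 2 -/
theorem card_le_two_of_mu (D : Data K F) {Q : Subgroup G} (hQ2 : IsPGroup 2 Q)
    (hQM : Q ≤ normalizer (K : Set G)) (hQK : Q ⊓ centralizer (K : Set G) = ⊥) {x : G} (hx : x ∈ K)
    (hQx : ∀ u ∈ Q, u * x = x * u) {r : ℕ} (hr : r.Prime) (hr2 : r ≠ 2) (hxr : orderOf x = r)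
    (hmu : r ∣ mu (Nat.card F)) : Nat.card Q ≤ 2 := by
  have hpf : Fact (Nat.Prime 2) := ⟨Nat.prime_two⟩
  obtain ⟨γ, hγ, hT, hc, -⟩ := exists_Tor_card D hr hr2 (y := ⟨x, hx⟩)
    (by rw [Subgroup.orderOf_mk, hxr]) (Or.inl hmu)
  have hc := hc hmu
  have hfin := card_Tor_pos D hγ
  let f : Q →* Tor D.R γ :=
    { toFun := fun a => ⟨ac K (hQM a.2), hT _ ((ac_fix _ hx).2 (hQx a a.2))⟩
      map_one' := Subtype.ext ((ac_eq_one _).2 (one_mem _))
      map_mul' := fun a b => Subtype.ext (ac_mul _ _) }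
  have hf : Function.Injective f := by
    rw [injective_iff_map_eq_one]
    intro a ha
    have h1 : ac K (hQM a.2) = 1 := congrArg Subtype.val ha
    rw [ac_eq_one] at h1
    have h2 : (a : G) ∈ Q ⊓ centralizer (K : Set G) := ⟨a.2, h1⟩
    rw [hQK, mem_bot] at h2
    exact Subtype.ext h2
  have h1 : Nat.card Q ∣ Nat.card (Tor D.R γ) := by
    have h3 : Nat.card Q = Nat.card f.range :=
      Nat.card_congr (MonoidHom.ofInjective hf).toEquiv
    rw [h3]
    exact Subgroup.card_subgroup_dvd_card _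
  rw [hc] at h1
  have h4 := mu_mod _ D.odd
  have hQf : Finite Q := Finite.of_injective f hf
  obtain ⟨n, hn⟩ := IsPGroup.iff_card.1 hQ2
  rw [hn] at h1 ⊢
  by_contra hlt
  have hn2 : 2 ≤ n := by
    by_contra h5
    have : n = 0 ∨ n = 1 := by omega
    rcases this with rfl | rfl <;> norm_num at hlt
  have h6 : 4 ∣ mu (Nat.card F) := dvd_trans (by
    have : (4 : ℕ) = 2 ^ 2 := by norm_num
    rw [this]
    exact pow_dvd_pow 2 hn2) h1
  omega

end tori

/-! ### groups with an involution fixing two elements -/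

section fixtwo

/-- the group `{1, a, t, at}` -/
def V4 {a t : G} (ha : a * a = 1) (ht : t * t = 1) (hat : a * t = t * a) : Subgroup G where
  carrier := {x | x = 1 ∨ x = a ∨ x = t ∨ x = a * t}
  one_mem' := Or.inl rfl
  mul_mem' := by
    have h1 : a * (a * t) = t := by rw [← mul_assoc, ha, one_mul]
    have h2 : t * (a * t) = a := by rw [hat, ← mul_assoc, ht, one_mul]
    have h3 : (a * t) * a = t := by rw [mul_assoc, ← hat, h1]
    have h4 : (a * t) * t = a := by rw [mul_assoc, ht, mul_one]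
    have h5 : (a * t) * (a * t) = 1 := by rw [mul_assoc, h2, ha]
    rintro x y (rfl | rfl | rfl | rfl) (rfl | rfl | rfl | rfl)
    all_goals
      simp only [Set.mem_ofPred_eq, one_mul, mul_one, ha, ht, h1, h2, h3, h4, h5, ← hat, true_or,
        or_true]
  inv_mem' := by
    have ha' : a⁻¹ = a := inv_eq_of_mul_eq_one_left ha
    have ht' : t⁻¹ = t := inv_eq_of_mul_eq_one_left ht
    rintro x (rfl | rfl | rfl | rfl)
    · left; exact inv_one
    · right; left; exact ha'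
    · right; right; left; exact ht'
    · right; right; right; rw [mul_inv_rev, ha', ht', hat]

theorem card_V4 {a t : G} (ha : a * a = 1) (ht : t * t = 1) (hat : a * t = t * a) :
    Nat.card (V4 ha ht hat) ≤ 4 := by
  classical
  have h1 : ((V4 ha ht hat : Subgroup G) : Set G) ⊆ (({1, a, t, a * t} : Finset G) : Set G) := by
    intro x hx
    rcases hx with h | h | h | h <;> simp [h]
  calc Nat.card (V4 ha ht hat) = ((V4 ha ht hat : Subgroup G) : Set G).ncard := rfl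
    _ ≤ (({1, a, t, a * t} : Finset G) : Set G).ncard := Set.ncard_le_ncard h1 (Set.toFinite _)
    _ = ({1, a, t, a * t} : Finset G).card := Set.ncard_coe_finset _
    _ ≤ 4 := Finset.card_le_four

/-- `R⟨a⟩` for an involution `a` normalizing `R` -/
def adj (R : Subgroup G) {a : G} (ha : a * a = 1) (haR : ∀ r ∈ R, a * r * a⁻¹ ∈ R) :
    Subgroup G where
  carrier := {x | x ∈ R ∨ x * a ∈ R}
  one_mem' := Or.inl (one_mem R)
  mul_mem' := by
    have ha' : a⁻¹ = a := inv_eq_of_mul_eq_one_left ha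
    rintro x y (hx | hx) (hy | hy)
    · exact Or.inl (mul_mem hx hy)
    · exact Or.inr (by rw [mul_assoc]; exact mul_mem hx hy)
    · right
      have h1 := mul_mem hx (haR y hy)
      have h2 : x * a * (a * y * a⁻¹) = x * (a * a) * y * a⁻¹ := by group
      rw [h2, ha, mul_one, ha'] at h1
      exact h1
    · left
      have h1 := mul_mem hx (haR _ hy)
      have h2 : x * a * (a * (y * a) * a⁻¹) = x * (a * a) * y := by group
      rw [h2, ha, mul_one] at h1
      exact h1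
  inv_mem' := by
    have ha' : a⁻¹ = a := inv_eq_of_mul_eq_one_left ha
    rintro x (hx | hx)
    · exact Or.inl (inv_mem hx)
    · right
      have h1 := haR _ (inv_mem hx)
      have h2 : a * (x * a)⁻¹ * a⁻¹ = x⁻¹ * a⁻¹ := by group
      rw [h2, ha'] at h1
      exact h1

theorem mem_adj {R : Subgroup G} {a : G} (ha : a * a = 1) (haR : ∀ r ∈ R, a * r * a⁻¹ ∈ R)
    {x : G} : x ∈ adj R ha haR ↔ x ∈ R ∨ x * a ∈ R := Iff.rfl

theorem le_adj {R : Subgroup G} {a : G} (ha : a * a = 1) (haR : ∀ r ∈ R, a * r * a⁻¹ ∈ R) :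
    R ≤ adj R ha haR := fun _ h => Or.inl h

theorem self_mem_adj {R : Subgroup G} {a : G} (ha : a * a = 1) (haR : ∀ r ∈ R, a * r * a⁻¹ ∈ R) :
    a ∈ adj R ha haR := Or.inr (by rw [ha]; exact one_mem R)

theorem sq_mem_of_adj {R : Subgroup G} {a : G} (ha : a * a = 1) (haR : ∀ r ∈ R, a * r * a⁻¹ ∈ R)
    {x : G} (hx : x ∈ adj R ha haR) : x * x ∈ R := by
  have ha' : a⁻¹ = a := inv_eq_of_mul_eq_one_left ha
  rcases hx with hx | hx
  · exact mul_mem hx hx
  · have h1 := mul_mem hx (haR _ hx)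
    have h2 : x * a * (a * (x * a) * a⁻¹) = x * (a * a) * x := by group
    rw [h2, ha, mul_one] at h1
    exact h1

theorem isPGroup_adj {R : Subgroup G} {a : G} (ha : a * a = 1) (haR : ∀ r ∈ R, a * r * a⁻¹ ∈ R)
    (hR : IsPGroup 2 R) : IsPGroup 2 (adj R ha haR) := by
  rintro ⟨x, hx⟩
  obtain ⟨n, hn⟩ := hR ⟨x * x, sq_mem_of_adj ha haR hx⟩
  refine ⟨n + 1, Subtype.ext ?_⟩
  have h1 : (x * x) ^ 2 ^ n = 1 := congrArg Subtype.val hn
  change x ^ 2 ^ (n + 1) = 1
  rw [pow_succ, mul_comm, pow_mul, pow_two]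
  exact h1

/-- no element of order 3 outside `R` -/
theorem not_three_dvd_adj [Finite G] {R : Subgroup G} {a : G} (ha : a * a = 1)
    (haR : ∀ r ∈ R, a * r * a⁻¹ ∈ R) (h3 : ¬ 3 ∣ Nat.card R) : ¬ 3 ∣ Nat.card (adj R ha haR) := by
  have : Fact (Nat.Prime 3) := ⟨Nat.prime_three⟩
  intro h
  obtain ⟨⟨x, hx⟩, hx3⟩ := exists_prime_orderOf_dvd_card' (G := adj R ha haR) 3 h
  rw [Subgroup.orderOf_mk] at hx3
  have h1 := sq_mem_of_adj ha haR hx
  have h2 : x ^ 3 = 1 := by rw [← hx3, pow_orderOf_eq_one]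
  have h4 : x * x * (x * x) = x := by
    calc x * x * (x * x) = x ^ 3 * x := by rw [pow_succ, pow_two]; group
      _ = x := by rw [h2, one_mul]
  have h5 : x ∈ R := by rw [← h4]; exact mul_mem h1 h1
  apply h3
  rw [← hx3]
  exact R.orderOf_dvd_natCard h5

/-- elements acting as a group `S₃` on a four-group -/
theorem false_of_three {X : Subgroup G} (h3 : ¬ 3 ∣ Nat.card X) {a t ρ ρ' : G} (hρ : ρ ∈ X)
    (hρ' : ρ' ∈ X) (haa : a * a = 1) (htt : t * t = 1) (hat : a * t = t * a) (ha1 : a ≠ 1)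
    (h1 : ρ * a * ρ⁻¹ = a * t) (h2 : ρ * t * ρ⁻¹ = t) (h3' : ρ' * t * ρ'⁻¹ = t * a)
    (h4 : ρ' * a * ρ'⁻¹ = a) : False := by
  set σ := ρ * ρ' with hσ
  have e1 : σ * t * σ⁻¹ = a := by
    calc σ * t * σ⁻¹ = ρ * (ρ' * t * ρ'⁻¹) * ρ⁻¹ := by rw [hσ]; group
      _ = (ρ * t * ρ⁻¹) * (ρ * a * ρ⁻¹) := by rw [h3']; group
      _ = t * (a * t) := by rw [h1, h2]
      _ = t * (t * a) := by rw [hat]
      _ = a := by rw [← mul_assoc, htt, one_mul]
  have e2 : σ * a * σ⁻¹ = a * t := by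
    calc σ * a * σ⁻¹ = ρ * (ρ' * a * ρ'⁻¹) * ρ⁻¹ := by rw [hσ]; group
      _ = a * t := by rw [h4, h1]
  have e3 : σ * (a * t) * σ⁻¹ = t := by
    calc σ * (a * t) * σ⁻¹ = (σ * a * σ⁻¹) * (σ * t * σ⁻¹) := by group
      _ = a * t * a := by rw [e1, e2]
      _ = t * (a * a) := by rw [hat, mul_assoc]
      _ = t := by rw [haa, mul_one]
  have e4 : σ ^ 3 * t = t * σ ^ 3 := by
    apply mul_inv_eq_iff_eq_mul.1
    calc σ ^ 3 * t * (σ ^ 3)⁻¹ = σ * (σ * (σ * t * σ⁻¹) * σ⁻¹) * σ⁻¹ := by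
          rw [pow_succ, pow_two]; group
      _ = t := by rw [e1, e2, e3]
  have hco : Nat.Coprime 3 (orderOf σ) := by
    rw [Nat.Prime.coprime_iff_not_dvd Nat.prime_three]
    intro h
    exact h3 (h.trans (X.orderOf_dvd_natCard (mul_mem hρ hρ')))
  obtain ⟨m, hm⟩ := exists_pow_eq_self_of_coprime hco
  have e5 : Commute ((σ ^ 3) ^ m) t := (Commute.pow_left e4 m)
  rw [hm] at e5
  have e6 : a = t := by rw [← e1, e5.eq, mul_inv_cancel_right]
  have e7 : ρ * a * ρ⁻¹ = 1 := by rw [h1, ← e6, haa]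
  apply ha1
  have : a = ρ⁻¹ * (ρ * a * ρ⁻¹) * ρ := by group
  rw [this, e7]; group

variable [Finite G]

/-- `N_R(⟨a,t⟩) > ⟨t⟩` -/
theorem exists_rho {R : Subgroup G} (hR2 : IsPGroup 2 R) {a t : G} (ha : a * a = 1)
    (htt : t * t = 1) (hat : a * t = t * a) (ht1 : t ≠ 1) (haR : ∀ r ∈ R, a * r * a⁻¹ ∈ R)
    (haR' : a ∉ R) (ht : t ∈ R) (hC : ∀ r ∈ R, a * r = r * a → r = 1 ∨ r = t)
    (h4 : 4 ≤ Nat.card R) : ∃ ρ ∈ R, ρ * a * ρ⁻¹ = a * t ∧ ρ * t * ρ⁻¹ = t := by
  have hpf : Fact (Nat.Prime 2) := ⟨Nat.prime_two⟩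
  set U := V4 ha htt hat with hU
  set P := adj R ha haR with hP
  have hP2 : IsPGroup 2 P := isPGroup_adj ha haR hR2
  have hUP : U ≤ P := by
    rintro x (rfl | rfl | rfl | rfl)
    · exact one_mem _
    · exact self_mem_adj ha haR
    · exact Or.inl ht
    · exact mul_mem (self_mem_adj ha haR) (Or.inl ht)
  have hlt : Nat.card R < Nat.card P := by
    refine lt_of_le_of_ne (Nat.card_le_card_of_injective _ (inclusion_injective (le_adj ha haR)))
      fun h => haR' ?_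
    rw [Subgroup.eq_of_le_of_card_ge (le_adj ha haR) h.ge]
    exact self_mem_adj ha haR
  have hne : ¬ (normalizer (U : Set G) ⊓ P ≤ U) := by
    intro h
    have h1 : P = U := Cfsg.Agent.Blocks.SylowIn.eq_of_normalizer_inf_le (p := 2) hP2 hUP h
    have h2 : Nat.card U ≤ 4 := card_V4 ha htt hat
    rw [← h1] at h2
    omega
  obtain ⟨n, hn, hnU⟩ := SetLike.not_le_iff_exists.1 hne
  -- an element of `R`
  obtain ⟨ρ, hρR, hρN, hρU⟩ : ∃ ρ ∈ R, (∀ u ∈ U, ρ * u * ρ⁻¹ ∈ U) ∧ ρ ∉ U := by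
    have haU : a ∈ U := Or.inr (Or.inl rfl)
    rcases hn.2 with h1 | h1
    · exact ⟨n, h1, forall_of_mem_normalizer hn.1, hnU⟩
    · refine ⟨n * a, h1, forall_of_mem_normalizer (mul_mem hn.1 (le_normalizer haU)), fun h2 => hnU ?_⟩
      exact (Subgroup.mul_mem_cancel_right U haU).1 h2
  have hρ1 : ρ ≠ 1 := fun h => hρU (by rw [h]; exact one_mem U)
  have hρt : ρ ≠ t := fun h => hρU (Or.inr (Or.inr (Or.inl h)))
  have e1 : ρ * a * ρ⁻¹ = a * t := by
    rcases hρN a (Or.inr (Or.inl rfl)) with h | h | h | h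
    · exfalso
      apply haR'
      have : a = ρ⁻¹ * (ρ * a * ρ⁻¹) * ρ := by group
      rw [this, h]
      exact mul_mem (mul_mem (inv_mem hρR) (one_mem R)) hρR
    · exfalso
      rcases hC ρ hρR (mul_inv_eq_iff_eq_mul.1 h).symm with h5 | h5
      · exact hρ1 h5
      · exact hρt h5
    · exfalso
      apply haR'
      have : a = ρ⁻¹ * (ρ * a * ρ⁻¹) * ρ := by group
      rw [this, h]
      exact mul_mem (mul_mem (inv_mem hρR) ht) hρR
    · exact h
  refine ⟨ρ, hρR, e1, ?_⟩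
  have h5 : ρ * t * ρ⁻¹ ∈ R := mul_mem (mul_mem hρR ht) (inv_mem hρR)
  rcases hρN t (Or.inr (Or.inr (Or.inl rfl))) with h | h | h | h
  · exfalso
    apply ht1
    have : t = ρ⁻¹ * (ρ * t * ρ⁻¹) * ρ := by group
    rw [this, h]; group
  · exact absurd (h ▸ h5) haR'
  · exact h
  · rw [h] at h5
    exact absurd ((Subgroup.mul_mem_cancel_right R ht).1 h5) haR'

/-- the situation: `C_R(a) = ⟨u⟩`, `R ∈ Syl₂(Y)`, `a` normalizes `R` and `Y` -/
structure Fx (Y R : Subgroup G) (a u : G) : Prop where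
  syl : IsSyl2 Y R
  aa : a * a = 1
  norm : ∀ y ∈ Y, a * y * a⁻¹ ∈ Y
  normR : ∀ r ∈ R, a * r * a⁻¹ ∈ R
  notMem : a ∉ Y
  mem : u ∈ R
  uu : u * u = 1
  ne : u ≠ 1
  comm : a * u = u * a
  fix : ∀ r ∈ R, a * r = r * a → r = 1 ∨ r = u

/-- `u` is central in `R` -/
theorem Fx.central {Y R : Subgroup G} {a u : G} (h : Fx Y R a u) : ∀ r ∈ R, r * u = u * r := by
  have hpf : Fact (Nat.Prime 2) := ⟨Nat.prime_two⟩
  set P := adj R h.aa h.normR with hP
  have hP2 : IsPGroup 2 P := isPGroup_adj h.aa h.normR h.syl.two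
  have hR1 : R ≠ ⊥ := fun hb => h.ne (by have := h.mem; rwa [hb, mem_bot] at this)
  have hRP : (R.subgroupOf P).Normal := by
    refine Subgroup.normal_subgroupOf_of_le_normalizer ?_
    intro x hx
    have h1 : a ∈ normalizer (R : Set G) := mem_normalizer_of_forall h.normR
    rcases hx with hx | hx
    · exact Subgroup.le_normalizer hx
    · exact (Subgroup.mul_mem_cancel_right _ h1).1 (Subgroup.le_normalizer hx)
  have hne : R.subgroupOf P ≠ ⊥ := by
    intro hb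
    apply hR1
    have h3 := congrArg (Subgroup.map P.subtype) hb
    rw [Subgroup.subgroupOf_map_subtype, Subgroup.map_bot] at h3
    rwa [inf_eq_left.mpr (le_adj h.aa h.normR)] at h3
  have h4 : Group.IsNilpotent P := hP2.isNilpotent
  have h5 := Cfsg.Agent.Lib.NormalAbelian.normal_inf_center_ne_bot (R.subgroupOf P) hne
  obtain ⟨⟨⟨z, hzP⟩, hz⟩, hz1⟩ := Subgroup.ne_bot_iff_exists_ne_one.mp h5
  have hzR : z ∈ R := hz.1
  have hzc : ∀ x ∈ P, x * z = z * x := fun x hx =>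
    congrArg Subtype.val (mem_center_iff.mp hz.2 ⟨x, hx⟩)
  rcases h.fix z hzR (hzc a (self_mem_adj h.aa h.normR)) with h6 | h6
  · exact absurd (Subtype.ext (Subtype.ext h6)) hz1
  · intro r hr
    rw [← h6]
    exact hzc r (Or.inl hr)

omit [Finite G] in
/-- conjugation -/
theorem Fx.conj {Y R : Subgroup G} {a u : G} (h : Fx Y R a u) {m : G}
    (hm : ∀ y, y ∈ Y ↔ m⁻¹ * y * m ∈ Y) : Fx Y (cj m R) (m * a * m⁻¹) (m * u * m⁻¹) := by
  have hcj : cj m Y = Y := by
    ext y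
    rw [mem_cj]
    exact (hm y).symm
  refine ⟨?_, ?_, ?_, ?_, ?_, ?_, ?_, ?_, ?_, ?_⟩
  · have := CaseABase.isSyl2_cj m h.syl
    rwa [hcj] at this
  · calc m * a * m⁻¹ * (m * a * m⁻¹) = m * (a * a) * m⁻¹ := by group
      _ = 1 := by rw [h.aa]; group
  · intro y hy
    rw [hm] at hy ⊢
    have := h.norm _ hy
    have e : m⁻¹ * (m * a * m⁻¹ * y * (m * a * m⁻¹)⁻¹) * m = a * (m⁻¹ * y * m) * a⁻¹ := by group
    rw [e]; exact this
  · intro r hr
    rw [mem_cj] at hr ⊢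
    have := h.normR _ hr
    have e : m⁻¹ * (m * a * m⁻¹ * r * (m * a * m⁻¹)⁻¹) * m = a * (m⁻¹ * r * m) * a⁻¹ := by group
    rw [e]; exact this
  · rw [hm]
    have e : m⁻¹ * (m * a * m⁻¹) * m = a := by group
    rw [e]; exact h.notMem
  · exact conj_mem_cj h.mem
  · calc m * u * m⁻¹ * (m * u * m⁻¹) = m * (u * u) * m⁻¹ := by group
      _ = 1 := by rw [h.uu]; group
  · intro h1
    apply h.ne
    have : u = m⁻¹ * (m * u * m⁻¹) * m := by group
    rw [this, h1]; group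
  · calc m * a * m⁻¹ * (m * u * m⁻¹) = m * (a * u) * m⁻¹ := by group
      _ = m * u * m⁻¹ * (m * a * m⁻¹) := by rw [h.comm]; group
  · intro r hr hra
    rw [mem_cj] at hr
    have h1 : a * (m⁻¹ * r * m) = (m⁻¹ * r * m) * a := by
      calc a * (m⁻¹ * r * m) = m⁻¹ * (m * a * m⁻¹ * r) * m := by group
        _ = (m⁻¹ * r * m) * a := by rw [hra]; group
    rcases h.fix _ hr h1 with h2 | h2
    · left
      have : r = m * (m⁻¹ * r * m) * m⁻¹ := by group
      rw [this, h2]; group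
    · right
      rw [← h2]; group

omit [Finite G] in
/-- the case `v ∈ R` of `Fx.exists_swap` -/
theorem Fx.exists_swap_aux {Y R : Subgroup G} {a u : G} (h : Fx Y R a u) {v : G} (hv : v ∈ R)
    (hvv : v * v = 1) (hv1 : v ≠ 1) (hvu : v ≠ u) :
    ∃ ρ ∈ adj R h.aa h.normR, ρ * u * ρ⁻¹ = u ∧ ρ * v * ρ⁻¹ = u * v := by
  have hpf : Fact (Nat.Prime 2) := ⟨Nat.prime_two⟩
  have ha' : a⁻¹ = a := inv_eq_of_mul_eq_one_left h.aa
  have hv' : v⁻¹ = v := inv_eq_of_mul_eq_one_left hvv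
  set P := adj R h.aa h.normR with hP
  have hP2 : IsPGroup 2 P := isPGroup_adj h.aa h.normR h.syl.two
  set w := v * a with hw
  have hwP : w ∈ P := mul_mem (Or.inl hv) (self_mem_adj h.aa h.normR)
  have hwi : w⁻¹ = a * v := by rw [hw, mul_inv_rev, ha', hv']
  have hvw : v * w * v⁻¹ = w⁻¹ := by
    rw [hwi, hw, ← mul_assoc, hvv, one_mul, hv']
  have haw : a * w * a⁻¹ = w⁻¹ := by
    rw [hwi, hw]; group
  have hpow : ∀ n : ℕ, v * w ^ n * v⁻¹ = (w ^ n)⁻¹ := by
    intro n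
    rw [← conj_pow, hvw, inv_pow]
  have hapow : ∀ n : ℕ, a * w ^ n * a⁻¹ = (w ^ n)⁻¹ := by
    intro n
    rw [← conj_pow, haw, inv_pow]
  have hww : w * w ≠ 1 := by
    intro h1
    have h2 : w = w⁻¹ := eq_inv_of_mul_eq_one_left h1
    rw [hwi, hw] at h2
    rcases h.fix v hv h2.symm with h3 | h3
    · exact hv1 h3
    · exact hvu h3
  obtain ⟨k, hk⟩ : ∃ k, orderOf w = 2 ^ k := by
    obtain ⟨n, hn⟩ := hP2 ⟨w, hwP⟩
    have h1 : w ^ 2 ^ n = 1 := congrArg Subtype.val hn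
    obtain ⟨k, -, hk⟩ := (Nat.dvd_prime_pow Nat.prime_two).1 (orderOf_dvd_of_pow_eq_one h1)
    exact ⟨k, hk⟩
  have hk2 : 2 ≤ k := by
    by_contra hlt
    apply hww
    rw [← pow_two]
    apply orderOf_dvd_iff_pow_eq_one.1
    rw [hk]
    have : k = 0 ∨ k = 1 := by omega
    rcases this with rfl | rfl <;> norm_num
  obtain ⟨j, rfl⟩ : ∃ j, k = j + 2 := ⟨k - 2, by omega⟩
  set ρ := w ^ 2 ^ j with hρ
  have hz1 : ρ * ρ = (w * w) ^ 2 ^ j := by
    rw [hρ, ← pow_two, ← pow_mul, mul_comm, pow_mul, pow_two]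
  have hzR : ρ * ρ ∈ R := by
    rw [hz1]
    exact pow_mem (sq_mem_of_adj h.aa h.normR hwP) _
  have hz2 : ρ * ρ = w ^ 2 ^ (j + 1) := by
    rw [hρ, ← pow_add]; congr 1; rw [pow_succ]; ring
  have hz3 : (ρ * ρ) * (ρ * ρ) = 1 := by
    rw [hz2, ← pow_add, ← orderOf_dvd_iff_pow_eq_one, hk]
    rw [pow_succ 2 (j + 1)]
    exact dvd_of_eq (by ring)
  have hz4 : ρ * ρ ≠ 1 := by
    rw [hz2]
    intro h1
    have h2 := orderOf_dvd_of_pow_eq_one h1
    rw [hk] at h2
    have := (Nat.pow_dvd_pow_iff_le_right (by norm_num : 1 < 2)).1 h2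
    omega
  have hzu : ρ * ρ = u := by
    have h1 : a * (ρ * ρ) * a⁻¹ = (ρ * ρ)⁻¹ := by rw [hz2]; exact hapow _
    have h2 : (ρ * ρ)⁻¹ = ρ * ρ := inv_eq_of_mul_eq_one_left hz3
    rw [h2] at h1
    rcases h.fix _ hzR (mul_inv_eq_iff_eq_mul.1 h1) with h3 | h3
    · exact absurd h3 hz4
    · exact h3
  refine ⟨ρ, pow_mem hwP _, ?_, ?_⟩
  · rw [← hzu]; group
  · have h1 : v * ρ * v⁻¹ = ρ⁻¹ := hpow _
    have h2 : v * ρ⁻¹ = ρ * v := by
      have h3 : v * ρ⁻¹ * v⁻¹ = ρ := by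
        calc v * ρ⁻¹ * v⁻¹ = (v * ρ * v⁻¹)⁻¹ := by group
          _ = ρ := by rw [h1, inv_inv]
      exact mul_inv_eq_iff_eq_mul.1 h3
    calc ρ * v * ρ⁻¹ = ρ * (v * ρ⁻¹) := by group
      _ = ρ * ρ * v := by rw [h2]; group
      _ = u * v := by rw [hzu]

theorem Fx.exists_swap {Y R : Subgroup G} {a u : G} (h : Fx Y R a u) {v : G} (hv : v ∈ Y)
    (hvv : v * v = 1) (hv1 : v ≠ 1) (hvu : v ≠ u) (hc : v * u = u * v) :
    ∃ ρ ∈ adj Y h.aa h.norm, ρ * u * ρ⁻¹ = u ∧ ρ * v * ρ⁻¹ = u * v := by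
  have hpf : Fact (Nat.Prime 2) := ⟨Nat.prime_two⟩
  have ha' : a⁻¹ = a := inv_eq_of_mul_eq_one_left h.aa
  have hRs : IsSyl2 (Y ⊓ centralizer ({u} : Set G)) R := by
    refine ⟨fun r hr => ⟨h.syl.le hr, mem_centralizer_singleton_iff.2 (h.central r hr)⟩, h.syl.two,
      fun X hX hX2 hRX => h.syl.max X (hX.trans inf_le_left) hX2 hRX⟩
  have hvo : orderOf v = 2 := orderOf_eq_two hv1 hvv
  obtain ⟨R', hR', hvR'⟩ := exists_isSyl2 (Y ⊓ centralizer ({u} : Set G)) (zpowers v)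
    (zpowers_le.2 ⟨hv, mem_centralizer_singleton_iff.2 hc⟩) (isPGroup_zpowers hvo)
  obtain ⟨m, hm, rfl⟩ := CaseABase.isSyl2_conj hRs hR'
  have hmu : m * u * m⁻¹ = u := by
    rw [mem_centralizer_singleton_iff.1 hm.2, mul_inv_cancel_right]
  have hmY : ∀ y, y ∈ Y ↔ m⁻¹ * y * m ∈ Y := by
    intro y
    rw [Subgroup.mul_mem_cancel_right Y hm.1, Subgroup.mul_mem_cancel_left Y (inv_mem hm.1)]
  have h1 := h.conj hmY
  rw [hmu] at h1
  obtain ⟨ρ, hρ, h2, h3⟩ := h1.exists_swap_aux (hvR' (mem_zpowers v)) hvv hv1 hvu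
  refine ⟨ρ, ?_, h2, h3⟩
  rcases hρ with hρ | hρ
  · exact Or.inl (h1.syl.le hρ)
  · right
    have h4 : ρ * (m * a * m⁻¹) ∈ Y := h1.syl.le hρ
    have h5 : a * m⁻¹ * a⁻¹ ∈ Y := h.norm _ (inv_mem hm.1)
    have h6 : ρ * a = (ρ * (m * a * m⁻¹)) * m * (a⁻¹ * m⁻¹ * a) := by group
    rw [h6]
    refine mul_mem (mul_mem h4 hm.1) ?_
    rw [ha'] at h5 ⊢
    exact h5

omit [Finite G] in
theorem mem_zpowers_two {t r : G} (htt : t * t = 1) (hr : r ∈ zpowers t) : r = 1 ∨ r = t := by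
  obtain ⟨n, rfl⟩ := hr
  rcases Int.even_or_odd n with ⟨k, hk⟩ | ⟨k, hk⟩
  · left
    change t ^ n = 1
    rw [hk, zpow_add, ← (Commute.refl t).mul_zpow, htt, one_zpow]
  · right
    change t ^ n = t
    rw [hk, zpow_add, zpow_mul, zpow_ofNat, pow_two, htt, one_zpow, one_mul, zpow_one]

end fixtwo

/-! ### outer involutions -/

section outer

variable [Finite G]

omit [Finite G] in
theorem ac_sq {a : G} (haM : a ∈ normalizer (K : Set G)) (ha2 : orderOf a = 2) :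
    ac K haM * ac K haM = 1 := by
  rw [← ac_mul, ac_eq_one, mul_self_of_orderOf ha2]
  exact one_mem _

/-- an element of order `r ∣ mu(q)/2` of `K ∩ K^g` commuting with the outer involution `a ∈ C(K)^g` -/
theorem exists_x {p₀ : ℕ} (h : Std p₀ K) (D : Data K F) {g : G}
    {a : G} (haY : a ∈ cj g (centralizer (K : Set G))) (haM : a ∈ normalizer (K : Set G))
    (ha2 : orderOf a = 2) (hni : ac K haM ∉ (MulAut.conj : K →* MulAut K).range) {r : ℕ}
    (hr : r.Prime) (hr2 : r ≠ 2) (hrd : r ∣ mu (Nat.card F) / 2) :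
    ∃ x ∈ K, x ∈ cj g K ∧ orderOf x = r ∧ a * x = x * a ∧ r ∣ Nat.card K := by
  obtain ⟨y, hy, hya⟩ := exists_fix_of_outer D (ac_sq haM ha2) hni hr hrd
  have hya' : a * y = y * a := (ac_fix haM y.2).1 hya
  have hyo : orderOf (y : G) = r := by rw [Subgroup.orderOf_coe, hy]
  have hyM : (y : G) ∈ cj g (normalizer (K : Set G)) :=
    h.centralizer_le_cj ha2 haY (mem_centralizer_singleton_iff.2 hya'.symm)
  have hrK : r ∣ Nat.card K := by rw [← hyo]; exact K.orderOf_dvd_natCard y.2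
  exact ⟨y, y.2, h.mem_cj_of_dvd g hr hr2 hrK hyM hyo, hyo, hya', hrK⟩

omit [Finite G] in
theorem exists_r (D : Data K F) : ∃ r : ℕ, r.Prime ∧ r ≠ 2 ∧ r ∣ mu (Nat.card F) / 2 := by
  have h6 := six_le_mu D.five D.odd
  have hmm := mu_mod _ D.odd
  refine ⟨(mu (Nat.card F) / 2).minFac, Nat.minFac_prime (by omega), fun h2 => ?_,
    Nat.minFac_dvd _⟩
  have hrd := Nat.minFac_dvd (mu (Nat.card F) / 2)
  rw [h2] at hrd
  omega

omit [Finite G] in
theorem dvd_mu_of_half (D : Data K F) {r : ℕ} (hr : r ∣ mu (Nat.card F) / 2) :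
    r ∣ mu (Nat.card F) := by
  have hmm := mu_mod _ D.odd
  have : mu (Nat.card F) = 2 * (mu (Nat.card F) / 2) := by omega
  rw [this]
  exact hr.mul_left 2

/-- the 2-subgroups of `C_{C(K)}(a)` have order at most 2, for outer `a` -/
theorem card_le_two_of_outer {p₀ : ℕ} (h : Std p₀ K) (D : Data K F) {g : G}
    (hg : g ∉ normalizer (K : Set G))
    {a : G} (haY : a ∈ cj g (centralizer (K : Set G))) (haM : a ∈ normalizer (K : Set G))
    (ha2 : orderOf a = 2) (hni : ac K haM ∉ (MulAut.conj : K →* MulAut K).range)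
    {Q : Subgroup G} (hQ2 : IsPGroup 2 Q) (hQY : Q ≤ centralizer (K : Set G))
    (hQa : ∀ u ∈ Q, u * a = a * u) : Nat.card Q ≤ 2 := by
  obtain ⟨r, hr, hr2, hrd⟩ := exists_r D
  obtain ⟨x, hxK, hxg, hxo, hxa, hrK⟩ := exists_x h D haY haM ha2 hni hr hr2 hrd
  refine card_le_two_of_mu (D.conj g) hQ2 ?_ ?_ hxg ?_ hr hr2 hxo (dvd_mu_of_half D hrd)
  · rw [← cj_normalizer]
    exact fun u hu => h.centralizer_le_cj ha2 haY (mem_centralizer_singleton_iff.2 (hQa u hu))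
  · have h1 := h.odd hg
    rw [← cj_centralizer]
    exact eq_bot_of_odd (hQ2.to_le inf_le_left) (inf_le_inf_right _ hQY) h1
  · exact fun u hu => (mem_centralizer_iff.1 (hQY hu) x hxK).symm

/-- the data `Fx` for `R = S ∩ C(K)` and an outer involution `a ∈ S ∩ C(K)^g` -/
theorem fx_of_outer {p₀ : ℕ} (h : Std p₀ K) (D : Data K F) {g : G}
    (hg : g ∉ normalizer (K : Set G))
    {a : G} (haY : a ∈ cj g (centralizer (K : Set G))) (haM : a ∈ normalizer (K : Set G))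
    (ha2 : orderOf a = 2) (hni : ac K haM ∉ (MulAut.conj : K →* MulAut K).range)
    {S : Subgroup G} (hS : IsSyl2 (normalizer (K : Set G)) S) (haS : a ∈ S) {t : G} (htS : t ∈ S)
    (htY : t ∈ centralizer (K : Set G)) (ht2 : orderOf t = 2) (hat : a * t = t * a) :
    Fx (centralizer (K : Set G)) (S ⊓ centralizer (K : Set G)) a t where
  syl := isSyl2_inf hS (centralizer_le_normalizer _) (normal_cent K)
  aa := mul_self_of_orderOf ha2
  norm := normal_cent K a haM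
  normR := fun r hr => Subgroup.mem_inf.mpr ⟨mul_mem (mul_mem haS hr.1) (inv_mem haS),
    normal_cent K a haM r hr.2⟩
  notMem := fun h1 => hg (h.mem_of_involution ha2 h1 haY)
  mem := ⟨htS, htY⟩
  uu := mul_self_of_orderOf ht2
  ne := ne_one_of_orderOf ht2
  comm := hat
  fix := by
    intro r hr har
    set Q : Subgroup G := S ⊓ centralizer (K : Set G) ⊓ centralizer ({a} : Set G) with hQ
    have h1 : Nat.card Q ≤ 2 := by
      refine card_le_two_of_outer h D hg haY haM ha2 hni (hS.two.to_le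
        (inf_le_left.trans inf_le_left)) (inf_le_left.trans inf_le_right) fun u hu => ?_
      exact mem_centralizer_singleton_iff.1 hu.2
    have h2 : zpowers t ≤ Q :=
      zpowers_le.2 ⟨⟨htS, htY⟩, mem_centralizer_singleton_iff.2 hat.symm⟩
    have h3 : zpowers t = Q := Subgroup.eq_of_le_of_card_ge h2 (by rw [Nat.card_zpowers, ht2]; exact h1)
    have h4 : r ∈ Q := ⟨hr, mem_centralizer_singleton_iff.2 har.symm⟩
    rw [← h3] at h4
    exact mem_zpowers_two (mul_self_of_orderOf ht2) h4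

/-- for outer `a` there is an involution `t` of `C(K)` commuting with `a` -/
theorem exists_t {p₀ : ℕ} (h : Std p₀ K) {g : G} (hg : g ∉ normalizer (K : Set G))
    {a : G} (haY : a ∈ cj g (centralizer (K : Set G))) (haM : a ∈ normalizer (K : Set G))
    (ha2 : orderOf a = 2) : ∃ S : Subgroup G, IsSyl2 (normalizer (K : Set G)) S ∧ a ∈ S ∧
      ∃ t ∈ S, t ∈ centralizer (K : Set G) ∧ orderOf t = 2 ∧ a * t = t * a := by
  have hpf : Fact (Nat.Prime 2) := ⟨Nat.prime_two⟩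
  obtain ⟨S, P, hP, haP⟩ := exists_pairAt K g (isPGroup_zpowers ha2)
    (zpowers_le.mpr ⟨haM, cj_centralizer_le_normalizer g K haY⟩)
  have haP' : a ∈ P := haP (mem_zpowers a)
  have h1 : P ⊓ cj g (centralizer (K : Set G)) ≠ ⊥ := by
    intro hb
    have h2 : a ∈ P ⊓ cj g (centralizer (K : Set G)) := ⟨haP', haY⟩
    rw [hb, mem_bot] at h2
    exact ne_one_of_orderOf ha2 h2
  have h2 := hP.ne_bot h hg h1
  have h3 : IsPGroup 2 (P ⊓ centralizer (K : Set G) : Subgroup G) := hP.sylA'.two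
  obtain ⟨n, hn0, hn⟩ := h3.nontrivial_iff_card.mp ((Subgroup.nontrivial_iff_ne_bot _).mpr h2)
  obtain ⟨t, ht, ht2⟩ := exists_involution (H := P ⊓ centralizer (K : Set G))
    (by rw [hn]; exact (Nat.even_pow.mpr ⟨even_two, Nat.pos_iff_ne_zero.mp hn0⟩))
  exact ⟨S, hP.sylM, hP.le haP', t, hP.le ht.1, ht.2, ht2, hP.comm h hg a ⟨haP', haY⟩ t ht⟩

/-- the elements `ρ`, `ρ'` of the proof of (4.2c) -/
theorem exists_rho_rho {p₀ : ℕ} (h : Std p₀ K) (D : Data K F) {g : G}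
    (hg : g ∉ normalizer (K : Set G))
    {a : G} (haY : a ∈ cj g (centralizer (K : Set G))) (haM : a ∈ normalizer (K : Set G))
    (ha2 : orderOf a = 2) (hni : ac K haM ∉ (MulAut.conj : K →* MulAut K).range)
    (h4 : ∀ R : Subgroup G, IsSyl2 (centralizer (K : Set G)) R → 4 ≤ Nat.card R)
    {t : G} (htY : t ∈ centralizer (K : Set G)) (ht2 : orderOf t = 2) (hat : a * t = t * a) :
    ∃ ρ ∈ centralizer (K : Set G), (∃ n, ρ ^ 2 ^ n = 1) ∧ ρ * a * ρ⁻¹ = a * t ∧ ρ * t * ρ⁻¹ = t := by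
  have hpf : Fact (Nat.Prime 2) := ⟨Nat.prime_two⟩
  have haa := mul_self_of_orderOf ha2
  have htt := mul_self_of_orderOf ht2
  -- a Sylow 2-subgroup containing `a` and `t`
  have hV : V4 haa htt hat ≤ normalizer (K : Set G) := by
    have htM := centralizer_le_normalizer _ htY
    rintro x (rfl | rfl | rfl | rfl)
    · exact one_mem _
    · exact haM
    · exact htM
    · exact mul_mem haM htM
  have hV2 : IsPGroup 2 (V4 haa htt hat) := by
    rintro ⟨x, hx⟩
    refine ⟨1, Subtype.ext ?_⟩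
    change x ^ 2 ^ 1 = 1
    rw [pow_one, pow_two]
    rcases hx with rfl | rfl | rfl | rfl
    · exact one_mul 1
    · exact haa
    · exact htt
    · calc a * t * (a * t) = a * (t * a) * t := by group
        _ = (a * a) * (t * t) := by rw [← hat]; group
        _ = 1 := by rw [haa, htt, one_mul]
  obtain ⟨S, hS, hVS⟩ := exists_isSyl2 _ _ hV hV2
  have haS : a ∈ S := hVS (Or.inr (Or.inl rfl))
  have htS : t ∈ S := hVS (Or.inr (Or.inr (Or.inl rfl)))
  have hF := fx_of_outer h D hg haY haM ha2 hni hS haS htS htY ht2 hat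
  obtain ⟨ρ, hρ, h1, h2⟩ := exists_rho hF.syl.two hF.aa hF.uu hF.comm hF.ne hF.normR
    (fun h' => hF.notMem h'.2) hF.mem hF.fix (h4 _ hF.syl)
  exact ⟨ρ, hρ.2, CaseABase.mem_of_pow_two hF.syl.two hρ, h1, h2⟩

/-- (4.2c), first part -/
theorem three_dvd {p₀ : ℕ} (h : Std p₀ K) (D : Data K F) {g : G}
    (hg : g ∉ normalizer (K : Set G))
    {a : G} (haY : a ∈ cj g (centralizer (K : Set G))) (haM : a ∈ normalizer (K : Set G))
    (ha2 : orderOf a = 2) (hni : ac K haM ∉ (MulAut.conj : K →* MulAut K).range)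
    (h4 : ∀ R : Subgroup G, IsSyl2 (centralizer (K : Set G)) R → 4 ≤ Nat.card R)
    {r : ℕ} (hr : r.Prime) (hr2 : r ≠ 2) (hrd : r ∣ mu (Nat.card F) / 2) :
    r ≠ 3 ∧ ∃ x ∈ K, orderOf x = r ∧ 3 ∣ Nat.card (centralizer ({x} : Set G)) := by
  obtain ⟨S, hS, haS, t, htS, htY, ht2, hat⟩ := exists_t h hg haY haM ha2
  obtain ⟨x, hxK, hxg, hxo, hxa, hrK⟩ := exists_x h D haY haM ha2 hni hr hr2 hrd
  obtain ⟨ρ, hρY, hρ2, h1, h2⟩ := exists_rho_rho h D hg haY haM ha2 hni h4 htY ht2 hat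
  -- the other side
  have htM' : t ∈ normalizer (cj g K : Set G) := by
    rw [← cj_normalizer]
    exact h.centralizer_le_cj ha2 haY (mem_centralizer_singleton_iff.2 hat.symm)
  have htY' : t ∈ cj g⁻¹ (centralizer (cj g K : Set G)) := by
    rw [← cj_centralizer, cj_inv_cj]; exact htY
  have haY' : a ∈ centralizer (cj g K : Set G) := by rw [← cj_centralizer]; exact haY
  have htx : t * x = x * t := (mem_centralizer_iff.1 htY x hxK).symm
  have hni' : ac (cj g K) htM' ∉ (MulAut.conj : cj g K →* MulAut (cj g K)).range := by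
    refine not_inner_of_dvd_mu (D.conj g) ?_ (ac_sq htM' ht2) ((ac_fix htM' hxg).2 htx) hr hr2
      (by rw [Subgroup.orderOf_mk]; exact hxo) (dvd_mu_of_half D hrd)
    rw [Ne, ac_eq_one, ← cj_centralizer]
    exact fun h' => hg (h.mem_of_involution ht2 htY h')
  have h4' : ∀ R : Subgroup G, IsSyl2 (centralizer (cj g K : Set G)) R → 4 ≤ Nat.card R := by
    intro R hR
    rw [← cj_centralizer] at hR
    obtain ⟨R₁, hR₁, -⟩ := exists_isSyl2 (centralizer (K : Set G)) ⊥ bot_le IsPGroup.of_bot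
    rw [CaseABase.isSyl2_card (CaseABase.isSyl2_cj g hR₁) hR, card_cj]
    exact h4 _ hR₁
  obtain ⟨ρ', hρY', hρ2', h1', h2'⟩ := exists_rho_rho (h.conj g) (D.conj g)
    (inv_notMem_normalizer_cj hg) htY' htM' ht2 hni' h4' haY' ha2 hat.symm
  have hρx : ρ * x = x * ρ := (mem_centralizer_iff.1 hρY x hxK).symm
  have hρx' : ρ' * x = x * ρ' := (mem_centralizer_iff.1 hρY' x hxg).symm
  have haa := mul_self_of_orderOf ha2
  have htt := mul_self_of_orderOf ht2
  have ha1 := ne_one_of_orderOf ha2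
  refine ⟨?_, x, hxK, hxo, ?_⟩
  · rintro rfl
    have h3f : Fact (Nat.Prime 3) := ⟨Nat.prime_three⟩
    obtain ⟨X, -, hX3, hX⟩ := CompJOneTools.exists_centralizer_complement h.cyc (p := 3)
      (by norm_num) hxo
    have hco : ∀ w : G, (∃ n, w ^ 2 ^ n = 1) → (orderOf w).Coprime 3 := by
      rintro w ⟨n, hn⟩
      have h5 := orderOf_dvd_of_pow_eq_one hn
      exact Nat.Coprime.coprime_dvd_left h5 (Nat.Coprime.pow_left n (by norm_num))
    exact false_of_three hX3 (hX ρ hρx (hco ρ hρ2)) (hX ρ' hρx' (hco ρ' hρ2')) haa htt hat ha1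
      h1 h2 h1' h2'
  · by_contra hX3
    exact false_of_three hX3 (mem_centralizer_singleton_iff.2 hρx)
      (mem_centralizer_singleton_iff.2 hρx') haa htt hat ha1 h1 h2 h1' h2'

/-- in `N(K)` the involution `t` is isolated -/
theorem eq_of_comm_M (D : Data K F) {R : Subgroup G} {a t : G}
    (hF : Fx (centralizer (K : Set G)) R a t) (haM : a ∈ normalizer (K : Set G))
    (hni : ac K haM ∉ (MulAut.conj : K →* MulAut K).range)
    (h3 : ¬ 3 ∣ Nat.card (centralizer (K : Set G))) {c : G} (hc : c ∈ normalizer (K : Set G))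
    (hct : t * (c * t * c⁻¹) = (c * t * c⁻¹) * t) : c * t * c⁻¹ = t := by
  by_contra hne
  have hcY : ∀ y, y ∈ centralizer (K : Set G) ↔ c⁻¹ * y * c ∈ centralizer (K : Set G) := by
    intro y
    constructor
    · intro hy
      have := normal_cent K c⁻¹ (inv_mem hc) y hy
      rwa [inv_inv] at this
    · intro hy
      have := normal_cent K c hc _ hy
      have e : c * (c⁻¹ * y * c) * c⁻¹ = y := by group
      rwa [e] at this
  have hF' := hF.conj hcY
  have htY : t ∈ centralizer (K : Set G) := hF.syl.le hF.mem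
  have hvY : c * t * c⁻¹ ∈ centralizer (K : Set G) := hF'.syl.le hF'.mem
  obtain ⟨ρ, hρ, h1, h2⟩ := hF.exists_swap hvY hF'.uu hF'.ne hne hct.symm
  obtain ⟨ρ', hρ', h1', h2'⟩ := hF'.exists_swap htY hF.uu hF.ne (fun h => hne h.symm) hct
  have hX := not_three_dvd_adj hF.aa hF.norm h3
  -- modify `ρ'`
  have hρM : ρ' ∈ normalizer (K : Set G) := by
    have hYM := centralizer_le_normalizer (K : Set G)
    have hcaM : c * a * c⁻¹ ∈ normalizer (K : Set G) := mul_mem (mul_mem hc haM) (inv_mem hc)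
    rcases hρ' with h5 | h5
    · exact hYM h5
    · exact (Subgroup.mul_mem_cancel_right _ hcaM).1 (hYM h5)
  obtain ⟨k, hk, hkρ⟩ : ∃ k ∈ K, k⁻¹ * ρ' ∈ adj (centralizer (K : Set G)) hF.aa hF.norm := by
    by_cases hi : ac K hρM ∈ (MulAut.conj : K →* MulAut K).range
    · obtain ⟨k, hk, h5⟩ := (ac_inn hρM).1 hi
      exact ⟨k, hk, Or.inl h5⟩
    · have h6 : ac K (mul_mem hρM haM) ∈ (MulAut.conj : K →* MulAut K).range := by
        rw [ac_mul hρM haM]
        exact mul_mem_inn D.R (D.mem_PGL _) (D.mem_PGL _) hi hni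
      obtain ⟨k, hk, h5⟩ := (ac_inn (mul_mem hρM haM)).1 h6
      exact ⟨k, hk, Or.inr (by rw [mul_assoc]; exact h5)⟩
  have hkc : ∀ y ∈ centralizer (K : Set G), k⁻¹ * y * k⁻¹⁻¹ = y := by
    intro y hy
    have h5 : k⁻¹ * y = y * k⁻¹ := mem_centralizer_iff.1 hy k⁻¹ (K.inv_mem hk)
    rw [h5, mul_inv_cancel_right]
  have hconj : ∀ u v : G, v ∈ centralizer (K : Set G) → ρ' * u * ρ'⁻¹ = v →
      (k⁻¹ * ρ') * u * (k⁻¹ * ρ')⁻¹ = v := by
    intro u v hv huv
    calc (k⁻¹ * ρ') * u * (k⁻¹ * ρ')⁻¹ = k⁻¹ * (ρ' * u * ρ'⁻¹) * k⁻¹⁻¹ := by group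
      _ = v := by rw [huv, hkc v hv]
  refine false_of_three hX hρ hkρ hF'.uu hF.uu hct.symm hF'.ne ?_ h1 ?_ (hconj _ _ hvY h1')
  · rw [h2]; exact hct
  · rw [hconj _ _ (mul_mem hvY htY) h2']; exact hct.symm

/-- A commutator of elements normalizing a cyclic group centralizes it. -/
theorem comm_of_cyclic {P : Subgroup G} (hP : IsCyclic P) {a b : G}
    (ha : ∀ x ∈ P, a * x * a⁻¹ ∈ P) (hb : ∀ x ∈ P, b * x * b⁻¹ ∈ P) {x : G} (hx : x ∈ P) :
    (a * b * a⁻¹ * b⁻¹) * x = x * (a * b * a⁻¹ * b⁻¹) := by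
  obtain ⟨⟨g, hgP⟩, hg⟩ := hP.exists_generator
  have hgen : ∀ y ∈ P, ∃ n : ℤ, y = g ^ n := by
    intro y hy
    obtain ⟨n, hn⟩ := Subgroup.mem_zpowers_iff.mp (hg ⟨y, hy⟩)
    exact ⟨n, (congrArg Subtype.val hn).symm⟩
  obtain ⟨i, hi⟩ := hgen _ (ha g hgP)
  obtain ⟨j, hj⟩ := hgen _ (hb g hgP)
  have key : ∀ y ∈ P, (a * b) * y * (a * b)⁻¹ = (b * a) * y * (b * a)⁻¹ := by
    intro y hy
    obtain ⟨n, rfl⟩ := hgen y hy
    have e1 : (a * b) * g ^ n * (a * b)⁻¹ = g ^ (i * j * n) := by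
      calc (a * b) * g ^ n * (a * b)⁻¹ = a * (b * g ^ n * b⁻¹) * a⁻¹ := by group
        _ = a * (g ^ j) ^ n * a⁻¹ := by rw [← conj_zpow, hj]
        _ = (a * g * a⁻¹) ^ (j * n) := by rw [← zpow_mul, ← conj_zpow]
        _ = g ^ (i * j * n) := by rw [hi, ← zpow_mul, mul_assoc]
    have e2 : (b * a) * g ^ n * (b * a)⁻¹ = g ^ (i * j * n) := by
      calc (b * a) * g ^ n * (b * a)⁻¹ = b * (a * g ^ n * a⁻¹) * b⁻¹ := by group
        _ = b * (g ^ i) ^ n * b⁻¹ := by rw [← conj_zpow, hi]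
        _ = (b * g * b⁻¹) ^ (i * n) := by rw [← zpow_mul, ← conj_zpow]
        _ = g ^ (i * j * n) := by rw [hj, ← zpow_mul]; congr 1; ring
    rw [e1, e2]
  have hinv : ∀ c : G, (∀ x ∈ P, c * x * c⁻¹ ∈ P) → ∀ x ∈ P, c⁻¹ * x * c ∈ P := by
    intro c hc x hx
    have := forall_of_mem_normalizer (inv_mem (mem_normalizer_of_forall hc)) x hx
    rwa [inv_inv] at this
  have hy : (b * a)⁻¹ * x * (b * a) ∈ P := by
    have h1 := hinv a ha _ (hinv b hb x hx)
    have e : a⁻¹ * (b⁻¹ * x * b) * a = (b * a)⁻¹ * x * (b * a) := by group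
    rwa [e] at h1
  have h2 := key _ hy
  have e3 : (b * a) * ((b * a)⁻¹ * x * (b * a)) * (b * a)⁻¹ = x := by group
  rw [e3] at h2
  have e4 : (a * b * a⁻¹ * b⁻¹) * x * (a * b * a⁻¹ * b⁻¹)⁻¹ = x := by
    calc (a * b * a⁻¹ * b⁻¹) * x * (a * b * a⁻¹ * b⁻¹)⁻¹ =
        (a * b) * ((b * a)⁻¹ * x * (b * a)) * (a * b)⁻¹ := by group
      _ = x := h2
  exact mul_inv_eq_iff_eq_mul.1 e4

/-- Consequence of the `Z*`-theorem. -/
theorem le_centralizer_of_isolated (hG : OddCyc G) {N S : Subgroup G} (hSN : S ≤ N)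
    (hS2 : IsPGroup 2 S) {t a ρ : G} (ht2 : orderOf t = 2) (haS : a ∈ S) (hρS : ρ ∈ S)
    (htc : t = a * ρ * a⁻¹ * ρ⁻¹)
    (hiso : ∀ m ∈ N, t * (m * t * m⁻¹) = (m * t * m⁻¹) * t → m * t * m⁻¹ = t) :
    ∀ m ∈ N, m * t = t * m := by
  have hpf : Fact (Nat.Prime 2) := ⟨Nat.prime_two⟩
  have htt := mul_self_of_orderOf ht2
  have htS : t ∈ S := by
    rw [htc]
    exact mul_mem (mul_mem (mul_mem haS hρS) (inv_mem haS)) (inv_mem hρS)
  have htN : t ∈ N := hSN htS
  obtain ⟨P, hP⟩ := (hS2.comap_of_injective N.subtype N.subtype_injective).exists_le_sylow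
  have htP : (⟨t, htN⟩ : N) ∈ (P : Subgroup N) := hP htS
  -- `t` is central in `P`
  have hcent : ∀ y ∈ (P : Subgroup N), y * ⟨t, htN⟩ = ⟨t, htN⟩ * y := by
    set Q : Subgroup N := (P : Subgroup N) ⊓ centralizer ({(⟨t, htN⟩ : N)} : Set N) with hQ
    have h1 : (P : Subgroup N) = Q := by
      refine Cfsg.Agent.Blocks.SylowIn.eq_of_normalizer_inf_le (p := 2) P.isPGroup' inf_le_left ?_
      rintro n ⟨hn, hnP⟩
      refine Subgroup.mem_inf.mpr ⟨hnP, mem_centralizer_singleton_iff.2 ?_⟩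
      have h2 : (⟨t, htN⟩ : N) ∈ Q := ⟨htP, mem_centralizer_singleton_iff.2 rfl⟩
      have h3 : n * ⟨t, htN⟩ * n⁻¹ ∈ Q := forall_of_mem_normalizer hn _ h2
      have h4 := mem_centralizer_singleton_iff.1 h3.2
      have h5 := hiso n n.2 (congrArg Subtype.val h4.symm)
      exact Subtype.ext (mul_inv_eq_iff_eq_mul.1 h5)
    intro y hy
    rw [h1] at hy
    exact mem_centralizer_singleton_iff.1 hy.2
  obtain ⟨N₀, hN₀, hodd, hcomm⟩ := Cfsg.Agent.S0215.result P ⟨t, htN⟩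
    (by rw [Subgroup.orderOf_mk, ht2]) htP (by
      intro g hg
      have h1 := hcent _ hg
      have h2 := hiso g g.2 (congrArg Subtype.val h1.symm)
      exact Subtype.ext h2)
  set O : Subgroup G := N₀.map N.subtype with hO
  have hOodd : Odd (Nat.card O) := by
    rw [hO, Subgroup.card_map_of_injective N.subtype_injective]; exact hodd
  have hON : ∀ m ∈ N, ∀ x ∈ O, m * x * m⁻¹ ∈ O := by
    rintro m hm _ ⟨x, hx, rfl⟩
    exact ⟨⟨m, hm⟩ * x * (⟨m, hm⟩ : N)⁻¹, hN₀.conj_mem x hx _, rfl⟩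
  have hSO : S ≤ normalizer (O : Set G) := fun s hs => mem_normalizer_of_forall (hON s (hSN hs))
  -- `t` centralizes `O`
  have hcO : O ≤ centralizer ({t} : Set G) := by
    have h1 : (centralizer ({t} : Set G)).subgroupOf O = ⊤ := by
      by_contra hne
      have hidx : ((centralizer ({t} : Set G)).subgroupOf O).index ≠ 1 := by
        rwa [Ne, Subgroup.index_eq_one]
      set p := ((centralizer ({t} : Set G)).subgroupOf O).index.minFac with hp
      have hpp : p.Prime := Nat.minFac_prime hidx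
      have hpd : p ∣ ((centralizer ({t} : Set G)).subgroupOf O).index := Nat.minFac_dvd _
      have hpfact : Fact p.Prime := ⟨hpp⟩
      have hpO : p ∣ Nat.card O := hpd.trans (Subgroup.index_dvd_card _)
      have hp2 : p ≠ 2 := by
        rintro h2
        rw [h2] at hpO
        exact (Nat.not_even_iff_odd.mpr hOodd) (even_iff_two_dvd.mpr hpO)
      obtain ⟨Pp, hPp⟩ := Cfsg.Agent.S0025.exists_invariant_sylow S O hSO (by
        obtain ⟨n, hn⟩ := IsPGroup.iff_card.1 hS2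
        rw [hn]
        exact Nat.Coprime.pow_left n (Nat.coprime_two_left.2 hOodd)) (Or.inl (by
          have : Group.IsNilpotent S := hS2.isNilpotent
          infer_instance)) p
      have hcyc : IsCyclic ((Pp : Subgroup O).map O.subtype) :=
        isCyclic_of_isPGroup hG hpp hp2 (Pp.isPGroup'.map _)
      have hle : (Pp : Subgroup O) ≤ (centralizer ({t} : Set G)).subgroupOf O := by
        intro x hx
        rw [mem_subgroupOf, mem_centralizer_singleton_iff]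
        have h3 := comm_of_cyclic hcyc (a := a) (b := ρ) (forall_of_mem_normalizer (hPp haS))
          (forall_of_mem_normalizer (hPp hρS)) (x := x) ⟨x, hx, rfl⟩
        rw [← htc] at h3
        exact h3.symm
      have h2 := Subgroup.index_dvd_of_le hle
      exact Pp.not_dvd_index (hpd.trans h2)
    exact Subgroup.subgroupOf_eq_top.1 h1
  intro m hm
  have h1 : t * m * t⁻¹ * m⁻¹ ∈ O := ⟨_, hcomm ⟨m, hm⟩, rfl⟩
  have h2 := mem_centralizer_singleton_iff.1 (hcO h1)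
  have h3 : m * t * m⁻¹ = (t * m * t⁻¹ * m⁻¹)⁻¹ * t := by group
  have h4 : t * (m * t * m⁻¹) = (m * t * m⁻¹) * t := by
    rw [h3]
    have h5 : Commute (t * m * t⁻¹ * m⁻¹) t := h2
    have h6 : Commute (t * m * t⁻¹ * m⁻¹)⁻¹ t := h5.inv_left
    rw [← mul_assoc, ← h6.eq]
  exact mul_inv_eq_iff_eq_mul.1 (hiso m hm h4)

/-- Subgroups of the same odd prime order are conjugate. -/
theorem exists_conj_zpowers (hG : OddCyc G) {p : ℕ} (hp : p.Prime) (hp2 : p ≠ 2) {x y : G}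
    (hx : orderOf x = p) (hy : orderOf y = p) :
    ∃ w : G, zpowers x = zpowers (w * y * w⁻¹) := by
  have hpf : Fact p.Prime := ⟨hp⟩
  have hxp : IsPGroup p (zpowers x) := IsPGroup.of_card (n := 1) (by
    rw [Nat.card_zpowers, hx, pow_one])
  have hyp : IsPGroup p (zpowers y) := IsPGroup.of_card (n := 1) (by
    rw [Nat.card_zpowers, hy, pow_one])
  obtain ⟨P, hP⟩ := hxp.exists_le_sylow
  obtain ⟨Q, hQ⟩ := hyp.exists_le_sylow
  obtain ⟨g, hg⟩ := MulAction.exists_smul_eq G Q P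
  have hxP : x ∈ (P : Subgroup G) := hP (mem_zpowers x)
  have hyP : g * y * g⁻¹ ∈ (P : Subgroup G) := by
    rw [← hg]
    exact ⟨y, hQ (mem_zpowers y), rfl⟩
  have := hG p P hp hp2
  have h1 : zpowers (⟨x, hxP⟩ : P) = zpowers (⟨g * y * g⁻¹, hyP⟩ : P) := by
    apply zpowers_eq_of_cyclic
    rw [Subgroup.orderOf_mk, Subgroup.orderOf_mk, hx, orderOf_conj, hy]
  refine ⟨g, ?_⟩
  have h2 := congrArg (Subgroup.map (P : Subgroup G).subtype) h1
  rw [MonoidHom.map_zpowers, MonoidHom.map_zpowers] at h2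
  exact h2

/-- (4.2c) If all involutions of `C(K)^g ∩ N(K)`, `g ∉ N(K)`, are outer on `K` (and there are
some), then the Sylow 2-subgroups of `C(K)` have order 2. -/
theorem card_two_of_outer {p₀ : ℕ} (h : Std p₀ K) (D : Data K F)
    (hall : ∀ g, g ∉ normalizer (K : Set G) → ∀ a ∈ cj g (centralizer (K : Set G)),
      ∀ haM : a ∈ normalizer (K : Set G), orderOf a = 2 →
        ac K haM ∉ (MulAut.conj : K →* MulAut K).range)
    (hex : ∃ g, g ∉ normalizer (K : Set G) ∧ ∃ a ∈ cj g (centralizer (K : Set G)),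
      a ∈ normalizer (K : Set G) ∧ orderOf a = 2) {R : Subgroup G}
    (hR : IsSyl2 (centralizer (K : Set G)) R) : Nat.card R = 2 := by
  have hpf : Fact (Nat.Prime 2) := ⟨Nat.prime_two⟩
  by_contra hcard
  have h4 : ∀ R : Subgroup G, IsSyl2 (centralizer (K : Set G)) R → 4 ≤ Nat.card R := by
    intro R' hR'
    rw [CaseABase.isSyl2_card hR hR']
    obtain ⟨t, ht, hKt⟩ := h.ex
    obtain ⟨R₁, hR₁, htR₁⟩ := exists_isSyl2 (centralizer (K : Set G)) (zpowers t)
      (zpowers_le.mpr (mem_centralizer_of_cmp hKt)) (isPGroup_zpowers ht)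
    have h1 : 2 ∣ Nat.card R := by
      rw [← CaseABase.isSyl2_card hR hR₁, ← ht]
      exact R₁.orderOf_dvd_natCard (htR₁ (mem_zpowers t))
    obtain ⟨n, hn⟩ := IsPGroup.iff_card.1 hR.two
    rw [hn] at h1 hcard ⊢
    have hn2 : 2 ≤ n := by
      by_contra hlt
      have : n = 0 ∨ n = 1 := by omega
      rcases this with rfl | rfl
      · norm_num at h1
      · exact hcard (pow_one 2)
    calc 4 = 2 ^ 2 := by norm_num
      _ ≤ 2 ^ n := Nat.pow_le_pow_right (by norm_num) hn2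
  obtain ⟨g, hg, a, haY, haM, ha2⟩ := hex
  have hni := hall g hg a haY haM ha2
  have hqo := D.odd
  have hq5 := D.five
  -- `3 ∣ nu(q)`
  have h3mu : ¬ 3 ∣ mu (Nat.card F) := by
    intro h3
    have h3' : 3 ∣ mu (Nat.card F) / 2 := by
      have := mu_mod _ hqo
      omega
    exact (three_dvd h D hg haY haM ha2 hni h4 Nat.prime_three (by norm_num) h3').1 rfl
  have h3nu : 3 ∣ nu (Nat.card F) := by
    have h3q : ¬ 3 ∣ Nat.card F := by
      intro h3
      have := (Nat.prime_dvd_prime_iff_eq Nat.prime_three D.prime).1 h3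
      omega
    have h7 : Nat.card F % 3 = 1 ∨ Nat.card F % 3 = 2 := by omega
    rcases mu_or (Nat.card F) (by omega) hqo with ⟨h5, h6⟩ | ⟨h5, h6⟩ <;>
      rcases h7 with h7 | h7 <;> omega
  have h3K : 3 ∣ Nat.card K := by
    have h5 : 3 ∣ 2 * Nat.card K := by
      rw [D.card_K]
      exact (h3nu.mul_left _).mul_left _
    exact (Nat.Coprime.dvd_mul_left (by norm_num)).1 h5
  have h3Y : ¬ 3 ∣ Nat.card (centralizer (K : Set G)) :=
    h.not_dvd Nat.prime_three (by norm_num) h3K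
  -- the element of order 3
  obtain ⟨S, hS, haS, t, htS, htY, ht2, hat⟩ := exists_t h hg haY haM ha2
  have hF := fx_of_outer h D hg haY haM ha2 hni hS haS htS htY ht2 hat
  obtain ⟨i, hiK, hiS, hi2, hic⟩ := exists_central D hS
  obtain ⟨T, m, hT, hm⟩ := D.exists_torusAt (t := ⟨i, hiK⟩)
    (fun h' => ne_one_of_orderOf hi2 (congrArg Subtype.val h'))
    (Subtype.ext (mul_self_of_orderOf hi2))
  have hTcard := hT.card
  have h3T : 3 ∣ Nat.card T := by omega
  have h3f : Fact (Nat.Prime 3) := ⟨Nat.prime_three⟩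
  obtain ⟨⟨x₃, hx₃T⟩, hx₃⟩ := exists_prime_orderOf_dvd_card' (G := T) 3 h3T
  rw [Subgroup.orderOf_mk] at hx₃
  have hx₃o : orderOf (x₃ : G) = 3 := by rw [Subgroup.orderOf_coe, hx₃]
  have hSN : S ≤ normalizer (zpowers (x₃ : G) : Set G) := by
    intro s hs
    have hsM := hS.le hs
    -- the conjugate
    set y : K := ac K hsM x₃ with hy
    have hyo : orderOf y = 3 := by
      rw [hy, ← hx₃]
      exact orderOf_injective (ac K hsM).toMonoidHom (ac K hsM).injective x₃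
    have hyc : y * ⟨i, hiK⟩ = ⟨i, hiK⟩ * y := by
      have h5 : (x₃ : G) * i = i * x₃ := congrArg Subtype.val (hT.comm x₃ hx₃T)
      have h6 : s * i = i * s := (hic s hs).symm
      apply Subtype.ext
      change (y : G) * i = i * y
      rw [hy, ac_apply]
      have h7 : Commute (s * x₃ * s⁻¹) i :=
        ((show Commute s i from h6).mul_left h5).mul_left (show Commute s i from h6).inv_left
      exact h7
    have hyT : y ∈ T := by
      by_contra hyT
      have h5 := (hT.out y hyc hyT).2.1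
      have h6 : orderOf y ∣ 2 := orderOf_dvd_of_pow_eq_one (by rw [pow_two]; exact h5)
      rw [hyo] at h6
      omega
    have hcyc := hT.cyclic
    have h5 : zpowers (⟨y, hyT⟩ : T) = zpowers (⟨x₃, hx₃T⟩ : T) :=
      zpowers_eq_of_cyclic (((Subgroup.orderOf_mk _ _).trans hyo).trans
        ((Subgroup.orderOf_mk _ _).trans hx₃).symm)
    have h6 : (⟨y, hyT⟩ : T) ∈ zpowers (⟨x₃, hx₃T⟩ : T) := by rw [← h5]; exact mem_zpowers _
    obtain ⟨n, hn⟩ := h6
    have h7 : (x₃ : G) ^ n = s * x₃ * s⁻¹ := by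
      have h8 : x₃ ^ n = y := congrArg Subtype.val hn
      have h9 := congrArg Subtype.val h8
      rw [hy, ac_apply] at h9
      exact h9
    refine mem_normalizer_of_forall ?_
    rintro _ ⟨k, rfl⟩
    change s * (x₃ : G) ^ k * s⁻¹ ∈ _
    rw [← conj_zpow, ← h7]
    exact zpow_mem (zpow_mem (mem_zpowers _) _) _
  -- `t` is isolated
  have hiso : ∀ m ∈ normalizer (zpowers (x₃ : G) : Set G),
      t * (m * t * m⁻¹) = (m * t * m⁻¹) * t → m * t * m⁻¹ = t := by
    intro m hm hcomm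
    by_cases hmM : m ∈ normalizer (K : Set G)
    · exact eq_of_comm_M D hF haM hni h3Y hmM hcomm
    · exfalso
      have ht'2 : orderOf (m * t * m⁻¹) = 2 := by rw [orderOf_conj, ht2]
      have ht'M : m * t * m⁻¹ ∈ normalizer (K : Set G) :=
        h.le_normalizer ht2 htY (mem_centralizer_singleton_iff.2 hcomm.symm)
      have hni' := hall m hmM (m * t * m⁻¹) (conj_mem_cj htY) ht'M ht'2
      have h5 : m⁻¹ * x₃ * m ∈ K := by
        have h6 := forall_of_mem_normalizer (inv_mem hm) _ (mem_zpowers (x₃ : G))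
        rw [inv_inv] at h6
        exact (zpowers_le.2 x₃.2) h6
      have h6 : (m * t * m⁻¹) * x₃ = x₃ * (m * t * m⁻¹) := by
        have h7 := mem_centralizer_iff.1 htY _ h5
        calc (m * t * m⁻¹) * x₃ = m * (t * (m⁻¹ * x₃ * m)) * m⁻¹ := by group
          _ = m * ((m⁻¹ * x₃ * m) * t) * m⁻¹ := by rw [h7]
          _ = x₃ * (m * t * m⁻¹) := by group
      exact h3mu (dvd_mu_of_outer D (ac_sq ht'M ht'2) hni' ((ac_fix ht'M x₃.2).2 h6) le_rfl
        (by rw [Subgroup.orderOf_mk]; exact hx₃o))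
  -- `t` is a commutator
  obtain ⟨ρ, hρ, hρa, -⟩ := exists_rho hF.syl.two hF.aa hF.uu hF.comm hF.ne hF.normR
    (fun h' => hF.notMem h'.2) hF.mem hF.fix (h4 _ hF.syl)
  have htc : t = a * ρ * a⁻¹ * ρ⁻¹ := by
    have ha' : a⁻¹ = a := inv_eq_of_mul_eq_one_left hF.aa
    have h5 : a * ρ * a⁻¹ * ρ⁻¹ = a * (ρ * a * ρ⁻¹) := by rw [ha']; group
    rw [h5, hρa, ← mul_assoc, hF.aa, one_mul]
  have hcent := le_centralizer_of_isolated h.cyc hSN hS.two ht2 haS hρ.1 htc hiso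
  -- the contradiction
  obtain ⟨r, hr, hr2, hrd⟩ := exists_r D
  obtain ⟨-, x, hxK, hxo, h3x⟩ := three_dvd h D hg haY haM ha2 hni h4 hr hr2 hrd
  obtain ⟨⟨y, hyx⟩, hy3⟩ := exists_prime_orderOf_dvd_card' (G := centralizer ({x} : Set G)) 3 h3x
  rw [Subgroup.orderOf_mk] at hy3
  rw [mem_centralizer_singleton_iff] at hyx
  obtain ⟨w, hw⟩ := exists_conj_zpowers h.cyc Nat.prime_three (by norm_num) hx₃o hy3
  set x' := w * x * w⁻¹ with hx'
  have hx'o : orderOf x' = r := by rw [hx', orderOf_conj, hxo]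
  have hx'c : x' * x₃ = x₃ * x' := by
    obtain ⟨n, hn⟩ : (x₃ : G) ∈ zpowers (w * y * w⁻¹) := by rw [← hw]; exact mem_zpowers _
    have h5 : Commute x' (w * y * w⁻¹) := by
      change x' * (w * y * w⁻¹) = (w * y * w⁻¹) * x'
      calc x' * (w * y * w⁻¹) = w * (x * y) * w⁻¹ := by rw [hx']; group
        _ = w * (y * x) * w⁻¹ := by rw [hyx]
        _ = (w * y * w⁻¹) * x' := by rw [hx']; group
    have h6 : (w * y * w⁻¹) ^ n = x₃ := hn
    rw [← h6]
    exact (h5.zpow_right n)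
  have hx'N : x' ∈ normalizer (zpowers (x₃ : G) : Set G) := by
    refine mem_normalizer_of_forall ?_
    rintro _ ⟨k, rfl⟩
    change x' * (x₃ : G) ^ k * x'⁻¹ ∈ _
    have h5 : Commute x' ((x₃ : G) ^ k) := (show Commute x' x₃ from hx'c).zpow_right k
    rw [h5.eq, mul_inv_cancel_right]
    exact zpow_mem (mem_zpowers _) _
  have hx'M : x' ∈ normalizer (K : Set G) :=
    h.le_normalizer ht2 htY (mem_centralizer_singleton_iff.2 (hcent x' hx'N))
  have hrK : r ∣ Nat.card K := by rw [← hxo]; exact K.orderOf_dvd_natCard hxK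
  have hx'K : x' ∈ K := h.mem_of_dvd hr hr2 hrK hx'M hx'o
  obtain ⟨γ, hγ, hγ3, -, hγc⟩ := exists_Tor_card D Nat.prime_three (by norm_num) hx₃ (Or.inr h3nu)
  have h5 : MulAut.conj (⟨x', hx'K⟩ : K) ∈ Tor D.R γ := by
    refine hγ3 _ ?_
    rw [MulAut.conj_apply]
    apply mul_inv_eq_iff_eq_mul.2
    exact Subtype.ext hx'c
  have h6 := dvd_card_Tor D (γ := γ) (y := ⟨x', hx'K⟩) h5
  rw [Subgroup.orderOf_mk, hx'o, hγc h3nu] at h6
  exact hr2 (eq_two_of_dvd (by omega) hqo hr (dvd_mu_of_half D hrd) h6)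

/-- **(4.2)** If `q ≥ 7`, the Sylow 2-subgroups of `C(K)` have order 2. -/
theorem card_two [IsSimpleGroup G] {p₀ : ℕ} (h : Std p₀ K) (D : Data K F)
    (hq7 : 7 ≤ Nat.card F)
    (hev : ∃ g, g ∉ normalizer (K : Set G) ∧
      Even (Nat.card (cj g (centralizer (K : Set G)) ⊓ normalizer (K : Set G) : Subgroup G)))
    {R : Subgroup G} (hR : IsSyl2 (centralizer (K : Set G)) R) : Nat.card R = 2 := by
  by_cases hin : ∃ g, g ∉ normalizer (K : Set G) ∧ ∃ a ∈ cj g (centralizer (K : Set G)),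
      ∃ haM : a ∈ normalizer (K : Set G), orderOf a = 2 ∧
        ac K haM ∈ (MulAut.conj : K →* MulAut K).range
  · obtain ⟨g, hg, a, haY, haM, ha2, hi⟩ := hin
    obtain ⟨S, hS, -⟩ := exists_isSyl2 (normalizer (K : Set G)) ⊥ bot_le IsPGroup.of_bot
    have h1 := card_two_of_inner h D hq7 hg haY haM ha2 hi hS
    have h2 : IsSyl2 (centralizer (K : Set G)) (S ⊓ centralizer (K : Set G)) :=
      isSyl2_inf hS (centralizer_le_normalizer _) (normal_cent K)
    rw [CaseABase.isSyl2_card h2 hR, h1]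
  · push Not at hin
    obtain ⟨g, hg, he⟩ := hev
    obtain ⟨a, ha, ha2⟩ := exists_involution he
    exact card_two_of_outer h D (fun g hg a ha haM ha2 => hin g hg a ha haM ha2)
      ⟨g, hg, a, ha.1, ha.2, ha2⟩ hR

end outer

end Cfsg.Agent.OddCyclic.CompPsl
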