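import Cfsg.Agent.OddCyclic.CompSL2Facts
import Cfsg.Agent.OddCyclic.CompStandard

/-!
# S0342, component type, case C: `K ≅ SL(2,p)` in the ambient group

`Hyp K z p m n`: `K ≤ G` is isomorphic to `SL(2,p)`, `z` its involution, and (1.1)-(1.3) of
blueprints/S0342-component.md hold. Ambient forms of the facts on `SL(2,p)`.
-/

set_option autoImplicit false

namespace Cfsg.Agent.OddCyclic.CompSL2Amb

open Subgroup Cfsg
open Cfsg.Agent.OddCyclic.T1Defs Cfsg.Agent.OddCyclic.CompBasic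
open Cfsg.Agent.OddCyclic.CompStandard Cfsg.Agent.OddCyclic.CompSL2Facts
open Cfsg.Agent.LieExceptional Cfsg.Agent.LieExceptional.CITDefs
open Cfsg.Agent.LieExceptional.CITBasic

variable {G : Type*} [Group G]

/-- `K ≅ SL(2,p)` standard in `G` -/
structure Hyp (K : Subgroup G) (z : G) (p m n : ℕ) : Prop where
  cyc : OddCyc G
  zK : z ∈ K
  dat : Data K ⟨z, zK⟩ p m n
  cent : ∀ s ∈ centralizer (K : Set G), orderOf s = 2 →
    centralizer ({s} : Set G) ≤ normalizer (K : Set G)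
  ti : ∀ g s : G, orderOf s = 2 → s ∈ centralizer (K : Set G) →
    g * s * g⁻¹ ∈ centralizer (K : Set G) → g ∈ normalizer (K : Set G)
  mem : ∀ r : ℕ, r.Prime → r ≠ 2 → r ∣ Nat.card K → ∀ x ∈ normalizer (K : Set G),
    orderOf x = r → x ∈ K

/-- `g` acts on `K` as an inner automorphism -/
def Inn (K : Subgroup G) (g : G) : Prop := ∃ k ∈ K, ∃ y ∈ centralizer (K : Set G), g = k * y

section

variable {K : Subgroup G} {z : G} {p m n : ℕ}

theorem Hyp.zz (h : Hyp K z p m n) : z * z = 1 := congrArg Subtype.val h.dat.z_sq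

theorem Hyp.z_ne (h : Hyp K z p m n) : z ≠ 1 := fun h1 => h.dat.z_ne (Subtype.ext h1)

theorem Hyp.z_inv (h : Hyp K z p m n) : z⁻¹ = z := inv_eq_of_mul_eq_one_right h.zz

theorem orderOf_eq_two {x : G} (h1 : x ≠ 1) (h2 : x * x = 1) : orderOf x = 2 :=
  orderOf_eq_prime (by rw [sq, h2]) h1

theorem sq_of_orderOf {x : G} (h : orderOf x = 2) : x * x = 1 ∧ x ≠ 1 := by
  refine ⟨by rw [← sq, ← h, pow_orderOf_eq_one], ?_⟩
  rintro rfl
  rw [orderOf_one] at h
  omega

theorem Hyp.z2 (h : Hyp K z p m n) : orderOf z = 2 := orderOf_eq_two h.z_ne h.zz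

theorem Hyp.eq_z (h : Hyp K z p m n) {x : G} (hx : x ∈ K) (h2 : x * x = 1) : x = 1 ∨ x = z := by
  rcases h.dat.inv ⟨x, hx⟩ (Subtype.ext h2) with h1 | h1
  · exact Or.inl (congrArg Subtype.val h1)
  · exact Or.inr (congrArg Subtype.val h1)

theorem mem_norm {g k : G} (hg : g ∈ normalizer (K : Set G)) (hk : k ∈ K) : g * k * g⁻¹ ∈ K :=
  forall_of_mem_normalizer hg k hk

theorem mem_norm' {g k : G} (hg : g ∈ normalizer (K : Set G)) (hk : k ∈ K) : g⁻¹ * k * g ∈ K := by
  have := mem_norm (inv_mem hg) hk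
  rwa [inv_inv] at this

theorem mem_cent {g y : G} (hg : g ∈ normalizer (K : Set G)) (hy : y ∈ centralizer (K : Set G)) :
    g * y * g⁻¹ ∈ centralizer (K : Set G) := normal_cent K g hg y hy

theorem comm {k y : G} (hk : k ∈ K) (hy : y ∈ centralizer (K : Set G)) : k * y = y * k :=
  centralizer_comm hy hk

theorem Hyp.conj_z (h : Hyp K z p m n) {g : G} (hg : g ∈ normalizer (K : Set G)) :
    g * z * g⁻¹ = z := by
  have h1 := mem_norm hg h.zK
  rcases h.eq_z h1 (by
    calc g * z * g⁻¹ * (g * z * g⁻¹) = g * (z * z) * g⁻¹ := by group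
      _ = 1 := by rw [h.zz]; group) with h2 | h2
  · exact absurd (by
      have : z = g⁻¹ * (g * z * g⁻¹) * g := by group
      rw [this, h2]; group) h.z_ne
  · exact h2

theorem Hyp.zY (h : Hyp K z p m n) : z ∈ centralizer (K : Set G) := by
  rw [mem_centralizer_iff]
  intro k hk
  exact mul_inv_eq_iff_eq_mul.mp (h.conj_z (le_normalizer hk))

theorem Hyp.norm_eq (h : Hyp K z p m n) : normalizer (K : Set G) = centralizer ({z} : Set G) := by
  apply le_antisymm
  · intro g hg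
    rw [mem_centralizer_singleton_iff]
    exact mul_inv_eq_iff_eq_mul.mp (h.conj_z hg)
  · exact h.cent z h.zY h.z2

theorem Hyp.mem_iff (h : Hyp K z p m n) {g : G} : g ∈ normalizer (K : Set G) ↔ g * z = z * g := by
  rw [h.norm_eq, mem_centralizer_singleton_iff]

theorem Hyp.inter (h : Hyp K z p m n) {x : G} (hx : x ∈ K) (hy : x ∈ centralizer (K : Set G)) :
    x = 1 ∨ x = z := by
  rcases h.dat.cen ⟨x, hx⟩ (fun y => Subtype.ext (comm y.2 hy).symm) with h1 | h1
  · exact Or.inl (congrArg Subtype.val h1)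
  · exact Or.inr (congrArg Subtype.val h1)

theorem Hyp.ex4 (h : Hyp K z p m n) : ∃ k ∈ K, k * k = z := by
  obtain ⟨k, hk⟩ := h.dat.ex4
  exact ⟨k.1, k.2, congrArg Subtype.val hk⟩

theorem Hyp.conj4 (h : Hyp K z p m n) {k k' : G} (hk : k ∈ K) (hk' : k' ∈ K) (h1 : k * k = z)
    (h2 : k' * k' = z) : ∃ g ∈ K, g * k * g⁻¹ = k' := by
  obtain ⟨g, hg⟩ := h.dat.conj4 ⟨k, hk⟩ ⟨k', hk'⟩ (Subtype.ext h1) (Subtype.ext h2)
  exact ⟨g.1, g.2, congrArg Subtype.val hg⟩

theorem Hyp.inv_k (h : Hyp K z p m n) {k : G} (h1 : k * k = z) : k⁻¹ = k * z := by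
  refine inv_eq_of_mul_eq_one_right ?_
  rw [← mul_assoc, h1, h.zz]

theorem Hyp.inv_sq (h : Hyp K z p m n) {k : G} (h1 : k * k = z) : k⁻¹ * k⁻¹ = z := by
  rw [← _root_.mul_inv_rev, h1, h.z_inv]

theorem Hyp.k_ne (h : Hyp K z p m n) {k : G} (h1 : k * k = z) : k ≠ k⁻¹ := by
  intro h2
  apply h.z_ne
  rw [← h1]
  nth_rw 1 [h2]
  exact inv_mul_cancel k

theorem Hyp.k_not_mem (h : Hyp K z p m n) {k : G} (hk : k ∈ K) (h1 : k * k = z) :
    k ∉ centralizer (K : Set G) := by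
  intro hY
  rcases h.inter hk hY with h2 | h2
  · rw [h2, one_mul] at h1
    exact h.z_ne h1.symm
  · rw [h2, h.zz] at h1
    exact h.z_ne h1.symm

/-- the action of `g ∈ N(K)` on `K` -/
theorem act_apply {g : G} (hg : g ∈ normalizer (K : Set G)) (k : K) :
    ((K.normalizerMonoidHom ⟨g, hg⟩ k : K) : G) = g * k * g⁻¹ := rfl

theorem Hyp.invt (h : Hyp K z p m n) {k : G} (hk : k ∈ K) (h1 : k * k = z) {g : G}
    (hg : g ∈ normalizer (K : Set G)) (h2 : g * k * g⁻¹ = k⁻¹) :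
    (∀ x ∈ K, x * k = k * x → g * x * g⁻¹ = x⁻¹) ∧ g * g ∈ centralizer (K : Set G) := by
  obtain ⟨a1, a2⟩ := h.dat.invt ⟨k, hk⟩ (Subtype.ext h1) (K.normalizerMonoidHom ⟨g, hg⟩)
    (Subtype.ext h2)
  constructor
  · intro x hx hxk
    exact congrArg Subtype.val (a1 ⟨x, hx⟩ (Subtype.ext hxk))
  · rw [mem_centralizer_iff]
    intro x hx
    have h3 : g * (g * x * g⁻¹) * g⁻¹ = x := congrArg Subtype.val (a2 ⟨x, hx⟩)
    have h4 : g * g * x * (g * g)⁻¹ = x := by
      calc g * g * x * (g * g)⁻¹ = g * (g * x * g⁻¹) * g⁻¹ := by group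
        _ = x := h3
    exact (mul_inv_eq_iff_eq_mul.mp h4).symm

theorem Hyp.sqz (h : Hyp K z p m n) {k x : G} (hk : k ∈ K) (hx : x ∈ K) (h1 : k * k = z)
    (h2 : x * x = z) (h3 : x * k = k * x) : x = k ∨ x = k⁻¹ := by
  have h4 : (x * k) * (x * k) = 1 := by
    calc (x * k) * (x * k) = x * (k * x) * k := by group
      _ = x * (x * k) * k := by rw [h3]
      _ = (x * x) * (k * k) := by group
      _ = 1 := by rw [h1, h2, h.zz]
  rcases h.eq_z (K.mul_mem hx hk) h4 with h5 | h5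
  · right; exact eq_inv_of_mul_eq_one_left h5
  · left
    rw [← h1] at h5
    exact mul_right_cancel h5

theorem Hyp.tor (h : Hyp K z p m n) {k x y : G} (hk : k ∈ K) (hx : x ∈ K) (hy : y ∈ K)
    (h1 : k * k = z) (h2 : x * k = k * x) (h3 : x ≠ 1) (h4 : x ≠ z) (h5 : y * x = x * y) :
    y * k = k * y :=
  congrArg Subtype.val (h.dat.tor ⟨k, hk⟩ (Subtype.ext h1) ⟨x, hx⟩ (Subtype.ext h2)
    (fun h6 => h3 (congrArg Subtype.val h6)) (fun h6 => h4 (congrArg Subtype.val h6)) ⟨y, hy⟩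
    (Subtype.ext h5))

theorem Hyp.conj_inv (h : Hyp K z p m n) {k : G} (hk : k ∈ K) (h1 : k * k = z) :
    ∃ w ∈ K, w * k * w⁻¹ = k⁻¹ ∧ w * w = z := by
  obtain ⟨w, hw, hwk⟩ := h.conj4 hk (K.inv_mem hk) h1 (h.inv_sq h1)
  refine ⟨w, hw, hwk, ?_⟩
  have h2 := (h.invt hk h1 (le_normalizer hw) hwk).2
  rcases h.inter (K.mul_mem hw hw) h2 with h3 | h3
  · exfalso
    have h4 : w * k * w⁻¹ = k := by
      rcases h.eq_z hw h3 with h5 | h5
      · rw [h5]; group
      · rw [h5]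
        rw [mul_inv_eq_iff_eq_mul]
        exact (comm hk h.zY).symm
    rw [h4] at hwk
    exact h.k_ne h1 hwk
  · exact h3

theorem centralizer_equiv (K : Subgroup G) {k : G} (hk : k ∈ K) :
    Nonempty ((K ⊓ centralizer ({k} : Set G) : Subgroup G) ≃*
      centralizer ({(⟨k, hk⟩ : K)} : Set K)) := by
  refine ⟨{ toFun := fun x => ⟨⟨x.1, x.2.1⟩, ?_⟩
            invFun := fun x => ⟨x.1.1, x.1.2, ?_⟩
            left_inv := fun _ => rfl
            right_inv := fun _ => rfl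
            map_mul' := fun _ _ => rfl }⟩
  · rw [mem_centralizer_singleton_iff]
    exact Subtype.ext (mem_centralizer_singleton_iff.mp x.2.2)
  · show x.1.1 ∈ centralizer ({k} : Set G)
    rw [mem_centralizer_singleton_iff]
    exact congrArg Subtype.val (mem_centralizer_singleton_iff.mp x.2)

theorem Hyp.card4 (h : Hyp K z p m n) {k : G} (hk : k ∈ K) (h1 : k * k = z) :
    Nat.card (K ⊓ centralizer ({k} : Set G) : Subgroup G) = m := by
  obtain ⟨e⟩ := centralizer_equiv K hk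
  rw [Nat.card_congr e.toEquiv]
  exact h.dat.card4 ⟨k, hk⟩ (Subtype.ext h1)

theorem Hyp.cyc4 (h : Hyp K z p m n) {k : G} (hk : k ∈ K) (h1 : k * k = z) :
    IsCyclic (K ⊓ centralizer ({k} : Set G) : Subgroup G) := by
  obtain ⟨e⟩ := centralizer_equiv K hk
  have := h.dat.cyc ⟨k, hk⟩ (Subtype.ext h1)
  exact isCyclic_of_injective e.toMonoidHom e.injective

/-- the centralizer in `K` of an element of order 4 is abelian -/
theorem Hyp.comm4 (h : Hyp K z p m n) {k : G} (hk : k ∈ K) (h1 : k * k = z) {x y : G}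
    (hx : x ∈ K) (hy : y ∈ K) (hxk : x * k = k * x) (hyk : y * k = k * y) : x * y = y * x := by
  have := h.cyc4 hk h1
  let _ : CommGroup (K ⊓ centralizer ({k} : Set G) : Subgroup G) := IsCyclic.commGroup
  exact congrArg Subtype.val (mul_comm
    (⟨x, hx, mem_centralizer_singleton_iff.mpr hxk⟩ : (K ⊓ centralizer ({k} : Set G) : Subgroup G))
    ⟨y, hy, mem_centralizer_singleton_iff.mpr hyk⟩)

variable [Finite G]

omit [Finite G] in
theorem Hyp.outer (h : Hyp K z p m n) {g : G} (hg : g ∈ normalizer (K : Set G))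
    (hgg : g * g ∈ centralizer (K : Set G)) (hout : ¬ Inn K g) :
    Nat.card (K ⊓ centralizer ({g} : Set G) : Subgroup G) = n := by
  rw [← h.dat.outer (K.normalizerMonoidHom ⟨g, hg⟩) ?_ ?_]
  · refine Nat.card_congr ⟨fun x => ⟨⟨x.1, x.2.1⟩, Subtype.ext ?_⟩, fun x => ⟨x.1.1, x.1.2, ?_⟩,
      fun _ => rfl, fun _ => rfl⟩
    · change g * x.1 * g⁻¹ = x.1
      rw [mul_inv_eq_iff_eq_mul]
      exact (mem_centralizer_singleton_iff.mp x.2.2).symm
    · show x.1.1 ∈ centralizer ({g} : Set G)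
      rw [mem_centralizer_singleton_iff]
      have h1 : g * x.1.1 * g⁻¹ = x.1.1 := congrArg Subtype.val x.2
      exact (mul_inv_eq_iff_eq_mul.mp h1).symm
  · intro x
    apply Subtype.ext
    change g * (g * x.1 * g⁻¹) * g⁻¹ = x.1
    have h1 := mem_centralizer_iff.mp hgg x.1 x.2
    calc g * (g * x.1 * g⁻¹) * g⁻¹ = (g * g * x.1) * (g * g)⁻¹ := by group
      _ = x.1 := by rw [← h1]; group
  · rintro ⟨s, hs⟩
    apply hout
    refine ⟨s.1, s.2, s.1⁻¹ * g, ?_, by group⟩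
    rw [mem_centralizer_iff]
    intro x hx
    have h1 : g * x * g⁻¹ = s.1 * x * s.1⁻¹ := congrArg Subtype.val (hs ⟨x, hx⟩)
    have h2 : x = s.1⁻¹ * (g * x * g⁻¹) * s.1 := by rw [h1]; group
    nth_rw 1 [h2]
    group

omit [Finite G] in
/-- `|T : C_T(K)|` divides `|Aut K| = |K|` -/
theorem Hyp.card_dvd (h : Hyp K z p m n) {T : Subgroup G} (hT : T ≤ normalizer (K : Set G)) :
    Nat.card T ∣ Nat.card K * Nat.card (T ⊓ centralizer (K : Set G) : Subgroup G) := by
  set f : T →* MulAut K := K.normalizerMonoidHom.comp (Subgroup.inclusion hT) with hf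
  have h1 := f.ker.card_mul_index
  rw [Subgroup.index_ker] at h1
  have h2 : Nat.card f.ker = Nat.card (T ⊓ centralizer (K : Set G) : Subgroup G) := by
    have h3 : f.ker = (T ⊓ centralizer (K : Set G)).subgroupOf T := by
      ext x
      rw [MonoidHom.mem_ker, mem_subgroupOf]
      have h4 : f x = 1 ↔ (x : G) ∈ centralizer (K : Set G) := by
        have h5 := K.normalizerMonoidHom_ker
        have h6 : (Subgroup.inclusion hT x) ∈ K.normalizerMonoidHom.ker ↔ f x = 1 := MonoidHom.mem_ker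
        rw [← h6, h5, mem_subgroupOf]
        rfl
      rw [h4]
      exact ⟨fun h5 => ⟨x.2, h5⟩, fun h5 => h5.2⟩
    rw [h3, Nat.card_congr (subgroupOfEquivOfLe inf_le_left).toEquiv]
  rw [← h1, h2, mul_comm]
  refine Nat.mul_dvd_mul ?_ dvd_rfl
  rw [← h.dat.cardAut]
  exact Subgroup.card_subgroup_dvd_card _

/-- the stabilizer of an element of order 4 in `Aut K` -/
theorem card_stabilizer (h : Hyp K z p m n) {k : K} (hk : k * k = ⟨z, h.zK⟩) :
    Nat.card (MulAction.stabilizer (MulAut K) k) = m := by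
  have h1 := (MulAction.stabilizer (MulAut K) k).card_mul_index
  have h2 := (MulAction.stabilizer (ConjAct K) k).card_mul_index
  rw [MulAction.index_stabilizer] at h1 h2
  have h3 : Nat.card (MulAction.stabilizer (ConjAct K) k) = m := by
    rw [← h.dat.card4 k hk]
    refine Nat.card_congr (ConjAct.ofConjAct.toEquiv.subtypeEquiv fun x => ?_)
    change x ∈ MulAction.stabilizer (ConjAct K) k ↔ ConjAct.ofConjAct x ∈ centralizer ({k} : Set K)
    rw [MulAction.mem_stabilizer_iff, ConjAct.smul_def, mem_centralizer_singleton_iff,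
      mul_inv_eq_iff_eq_mul]
  have h4 : MulAction.orbit (MulAut K) k = MulAction.orbit (ConjAct K) k := by
    ext x
    constructor
    · rintro ⟨α, rfl⟩
      have h5 : (α • k) * (α • k) = ⟨z, h.zK⟩ := by
        change α k * α k = _
        rw [← map_mul, hk]
        rcases h.dat.inv (α ⟨z, h.zK⟩) (by rw [← map_mul, h.dat.z_sq, map_one]) with h6 | h6
        · exact absurd ((MulEquiv.map_eq_one_iff α).mp h6) h.dat.z_ne
        · exact h6
      obtain ⟨g, hg⟩ := h.dat.conj4 k (α • k) hk h5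
      exact ⟨ConjAct.toConjAct g, hg⟩
    · rintro ⟨g, rfl⟩
      exact ⟨MulAut.conj (ConjAct.ofConjAct g), rfl⟩
  rw [h4] at h1
  have h5 : Nat.card (ConjAct K) = Nat.card K := Nat.card_congr ConjAct.ofConjAct.toEquiv
  rw [h3, h5] at h2
  rw [h.dat.cardAut, ← h2] at h1
  have hpos : 0 < (MulAction.orbit (ConjAct K) k).ncard :=
    (Set.ncard_pos).mpr ⟨k, MulAction.mem_orbit_self k⟩
  exact Nat.eq_of_mul_eq_mul_right hpos h1

/-- `|T : C_T(K)|` divides `m` if `T` centralizes an element of order 4 -/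
theorem Hyp.card_dvd4 (h : Hyp K z p m n) {T : Subgroup G} (hT : T ≤ normalizer (K : Set G))
    {k : G} (hk : k ∈ K) (hkk : k * k = z) (hTk : ∀ t ∈ T, t * k = k * t) :
    Nat.card T ∣ m * Nat.card (T ⊓ centralizer (K : Set G) : Subgroup G) := by
  set f : T →* MulAut K := K.normalizerMonoidHom.comp (Subgroup.inclusion hT) with hf
  have h1 := f.ker.card_mul_index
  rw [Subgroup.index_ker] at h1
  have h2 : Nat.card f.ker = Nat.card (T ⊓ centralizer (K : Set G) : Subgroup G) := by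
    have h3 : f.ker = (T ⊓ centralizer (K : Set G)).subgroupOf T := by
      ext x
      rw [MonoidHom.mem_ker, mem_subgroupOf]
      have h4 : f x = 1 ↔ (x : G) ∈ centralizer (K : Set G) := by
        have h5 := K.normalizerMonoidHom_ker
        have h6 : (Subgroup.inclusion hT x) ∈ K.normalizerMonoidHom.ker ↔ f x = 1 := MonoidHom.mem_ker
        rw [← h6, h5, mem_subgroupOf]
        rfl
      rw [h4]
      exact ⟨fun h5 => ⟨x.2, h5⟩, fun h5 => h5.2⟩
    rw [h3, Nat.card_congr (subgroupOfEquivOfLe inf_le_left).toEquiv]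
  rw [← h1, h2, mul_comm]
  refine Nat.mul_dvd_mul ?_ dvd_rfl
  rw [← card_stabilizer h (k := ⟨k, hk⟩) (Subtype.ext hkk)]
  refine Subgroup.card_dvd_of_le ?_
  rintro _ ⟨t, rfl⟩
  rw [MulAction.mem_stabilizer_iff]
  apply Subtype.ext
  change t.1 * k * t.1⁻¹ = k
  rw [mul_inv_eq_iff_eq_mul]
  exact hTk t.1 t.2

end

end Cfsg.Agent.OddCyclic.CompSL2Amb
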