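import Mathlib
import Cfsg.Agent.Lib.PSL2Torus
import Cfsg.Agent.Lib.PSL2Inv
import Cfsg.Agent.Lib.AutSL2Out
import Cfsg.Agent.LieClassical.SmallIso
import Cfsg.Agent.S0265

/-!
# `SL(2,p)` and its automorphisms

Facts for case C of S0342 (blueprints/S0342-caseC.md): the structure `Data L z p m n` collects the facts on a
group `L ≅ SL(2,p)`, `p ≥ 5` a prime, with centre `⟨z⟩`, `m = p - ε`, `n = p + ε`, `p ≡ ε mod 4`.
-/

set_option autoImplicit false

namespace Cfsg.Agent.OddCyclic.CompSL2Facts

open Matrix Cfsg.Agent.Lib.SL2Mat Cfsg.Agent.Lib.AutSL2Out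
open Cfsg.Agent.Lib.PSL2Circle Cfsg.Agent.Lib.PSL2Torus Cfsg.Agent.Lib.PSL2Inv

/-- Facts on a group `L ≅ SL(2,p)`; `m = p - ε`, `n = p + ε`, `p ≡ ε mod 4`. -/
structure Data (L : Type*) [Group L] (z : L) (p m n : ℕ) : Prop where
  z_ne : z ≠ 1
  z_sq : z * z = 1
  inv : ∀ x : L, x * x = 1 → x = 1 ∨ x = z
  cen : ∀ x : L, (∀ y, x * y = y * x) → x = 1 ∨ x = z
  ex4 : ∃ k : L, k * k = z
  conj4 : ∀ k k' : L, k * k = z → k' * k' = z → ∃ g, g * k * g⁻¹ = k'
  cyc : ∀ k : L, k * k = z → IsCyclic (Subgroup.centralizer ({k} : Set L))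
  card4 : ∀ k : L, k * k = z → Nat.card (Subgroup.centralizer ({k} : Set L)) = m
  invt : ∀ k : L, k * k = z → ∀ α : MulAut L, α k = k⁻¹ →
    (∀ x, x * k = k * x → α x = x⁻¹) ∧ ∀ x, α (α x) = x
  tor : ∀ k : L, k * k = z → ∀ x, x * k = k * x → x ≠ 1 → x ≠ z → ∀ y, y * x = x * y → y * k = k * y
  cardAut : Nat.card (MulAut L) = Nat.card L
  card : Nat.card L = p * m * n
  outer : ∀ α : MulAut L, (∀ x, α (α x) = x) → (¬ ∃ s, ∀ x, α x = s * x * s⁻¹) →
    Nat.card {x : L // α x = x} = n
  prime : p.Prime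
  p5 : 5 ≤ p
  mn : (p % 4 = 1 ∧ m = p - 1 ∧ n = p + 1) ∨ (p % 4 = 3 ∧ m = p + 1 ∧ n = p - 1)

section mat

variable {F : Type*} [Field F]

/-- entries of an element of `GL(2,F)` -/
def gent (g : GL (Fin 2) F) (i j : Fin 2) : F := g.1 i j

theorem gdet (g : GL (Fin 2) F) : g.1.det = gent g 0 0 * gent g 1 1 - gent g 0 1 * gent g 1 0 :=
  det_fin_two g.1

theorem gdet_ne (g : GL (Fin 2) F) : gent g 0 0 * gent g 1 1 - gent g 0 1 * gent g 1 0 ≠ 0 := by
  rw [← gdet]
  exact (Matrix.GeneralLinearGroup.det g).ne_zero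

/-- `g x g⁻¹ = y` as a matrix equation -/
theorem conjGL_eq_iff' (g : GL (Fin 2) F) (x y : Matrix.SpecialLinearGroup (Fin 2) F) :
    conjGL g x = y ↔ g.1 * x.1 = y.1 * g.1 := by
  constructor
  · intro h
    rw [← h, conjGL_val, Matrix.mul_assoc, inv_val_mul_val, Matrix.mul_one]
  · intro h
    apply Subtype.ext
    rw [conjGL_val, h, Matrix.mul_assoc]
    have : g.1 * g⁻¹.1 = 1 := by rw [← Units.val_mul, mul_inv_cancel, Units.val_one]
    rw [this, Matrix.mul_one]

/-- `g x g⁻¹ = y` as a matrix equation -/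
theorem conjGL_eq_iff (g : GL (Fin 2) F) (x y : Matrix.SpecialLinearGroup (Fin 2) F) :
    conjGL g x = y ↔ ∀ i j, gent g i 0 * ent x 0 j + gent g i 1 * ent x 1 j =
      ent y i 0 * gent g 0 j + ent y i 1 * gent g 1 j := by
  rw [conjGL_eq_iff']
  constructor
  · intro h i j
    have := congrFun (congrFun h i) j
    rwa [Matrix.mul_apply, Matrix.mul_apply, Fin.sum_univ_two, Fin.sum_univ_two] at this
  · intro h
    ext i j
    rw [Matrix.mul_apply, Matrix.mul_apply, Fin.sum_univ_two, Fin.sum_univ_two]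
    exact h i j

theorem neg_ent (x : Matrix.SpecialLinearGroup (Fin 2) F) (a b : Fin 2) : ent (-x) a b = - ent x a b :=
  rfl

theorem inv_eq_neg {k : Matrix.SpecialLinearGroup (Fin 2) F} (hk : ent k 1 1 = - ent k 0 0) :
    k⁻¹ = -k := by
  rw [ent_inv]
  refine ext_ent ?_ ?_ ?_ ?_ <;> simp only [mk_00, mk_01, mk_10, mk_11, neg_ent, hk, neg_neg]

theorem comb_inv {k : Matrix.SpecialLinearGroup (Fin 2) F} (hk : ent k 1 1 = - ent k 0 0)
    (q : Circ F) : (comb k hk q)⁻¹ = comb k hk ⟨q.re, -q.im, by rw [neg_sq, q.eqn]⟩ := by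
  rw [ent_inv]
  refine ext_ent ?_ ?_ ?_ ?_ <;>
    simp only [mk_00, mk_01, mk_10, mk_11, comb_00, comb_01, comb_10, comb_11] <;> ring

/-- a matrix acts trivially iff it is scalar -/
theorem conjGL_eq_self_iff (g : GL (Fin 2) F) : (∀ x, conjGL g x = x) ↔
    gent g 0 1 = 0 ∧ gent g 1 0 = 0 ∧ gent g 1 1 = gent g 0 0 := by
  constructor
  · intro h
    have h1 := (conjGL_eq_iff g _ _).mp (h (up 1))
    have h2 := (conjGL_eq_iff g _ _).mp (h (lo 1))
    have a1 := h1 0 0
    have a2 := h1 0 1
    have a4 := h2 0 0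
    simp only [up_00, up_01, up_10, up_11, lo_00, lo_01, lo_10] at a1 a2 a4
    refine ⟨?_, ?_, ?_⟩
    · linear_combination a4
    · linear_combination -a1
    · linear_combination -a2
  · rintro ⟨h1, h2, h3⟩ x
    rw [conjGL_eq_iff]
    intro i j
    fin_cases i <;> fin_cases j
    · change gent g 0 0 * ent x 0 0 + gent g 0 1 * ent x 1 0 =
        ent x 0 0 * gent g 0 0 + ent x 0 1 * gent g 1 0
      rw [h1, h2]; ring
    · change gent g 0 0 * ent x 0 1 + gent g 0 1 * ent x 1 1 =
        ent x 0 0 * gent g 0 1 + ent x 0 1 * gent g 1 1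
      rw [h1, h3]; ring
    · change gent g 1 0 * ent x 0 0 + gent g 1 1 * ent x 1 0 =
        ent x 1 0 * gent g 0 0 + ent x 1 1 * gent g 1 0
      rw [h2, h3]; ring
    · change gent g 1 0 * ent x 0 1 + gent g 1 1 * ent x 1 1 =
        ent x 1 0 * gent g 0 1 + ent x 1 1 * gent g 1 1
      rw [h1, h2]; ring

theorem gent_mul (g h : GL (Fin 2) F) (i j : Fin 2) :
    gent (g * h) i j = gent g i 0 * gent h 0 j + gent g i 1 * gent h 1 j := by
  change (g.1 * h.1) i j = _
  rw [Matrix.mul_apply, Fin.sum_univ_two]; rfl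

/-- a traceless `g` acts as an automorphism of order 2 -/
theorem conjGL_conjGL {g : GL (Fin 2) F} (hg : gent g 1 1 = - gent g 0 0)
    (x : Matrix.SpecialLinearGroup (Fin 2) F) : conjGL g (conjGL g x) = x := by
  have h1 : conjGL g (conjGL g x) = conjGL (g * g) x := by rw [map_mul]; rfl
  rw [h1]
  refine (conjGL_eq_self_iff (g * g)).mpr ⟨?_, ?_, ?_⟩ x
  · rw [gent_mul, hg]; ring
  · rw [gent_mul, hg]; ring
  · rw [gent_mul, gent_mul, hg]; ring

/-- if `g² ` acts trivially and `g` does not, then `g` is traceless -/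
theorem traceless {g : GL (Fin 2) F} (h : ∀ x, conjGL g (conjGL g x) = x)
    (hne : ∃ x, conjGL g x ≠ x) : gent g 1 1 = - gent g 0 0 := by
  have h1 : ∀ x, conjGL (g * g) x = x := by
    intro x
    rw [map_mul]
    exact h x
  obtain ⟨a1, a2, a3⟩ := (conjGL_eq_self_iff (g * g)).mp h1
  rw [gent_mul] at a1 a2 a3
  rw [gent_mul] at a3
  by_contra htr
  obtain ⟨x, hx⟩ := hne
  apply hx
  have htr' : gent g 0 0 + gent g 1 1 ≠ 0 := fun h => htr (by linear_combination h)
  refine (conjGL_eq_self_iff g).mpr ⟨?_, ?_, ?_⟩ x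
  · apply mul_left_cancel₀ htr'; linear_combination a1
  · apply mul_left_cancel₀ htr'; linear_combination a2
  · apply mul_left_cancel₀ htr'; linear_combination a3

/-- an automorphism inverting `k`, `k² = -1`, inverts its centralizer and has order 2 -/
theorem invert (h2 : (2 : F) ≠ 0) {k : Matrix.SpecialLinearGroup (Fin 2) F}
    (hk : ent k 1 1 = - ent k 0 0) {g : GL (Fin 2) F} (hg : conjGL g k = k⁻¹) :
    (∀ x, x * k = k * x → conjGL g x = x⁻¹) ∧ ∀ x, conjGL g (conjGL g x) = x := by
  rw [inv_eq_neg hk, conjGL_eq_iff] at hg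
  have h00 := hg 0 0
  have h01 := hg 0 1
  have h10 := hg 1 0
  have h11 := hg 1 1
  simp only [neg_ent, hk] at h00 h01 h10 h11
  have hd := det_eq k
  rw [hk] at hd
  constructor
  · intro x hx
    obtain ⟨q, rfl⟩ := exists_comb h2 hk hx
    rw [comb_inv, conjGL_eq_iff]
    intro i j
    fin_cases i <;> fin_cases j
    · change gent g 0 0 * (q.re + q.im * ent k 0 0) + gent g 0 1 * (q.im * ent k 1 0) =
        (q.re + -q.im * ent k 0 0) * gent g 0 0 + (-q.im * ent k 0 1) * gent g 1 0
      linear_combination q.im * h00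
    · change gent g 0 0 * (q.im * ent k 0 1) + gent g 0 1 * (q.re - q.im * ent k 0 0) =
        (q.re + -q.im * ent k 0 0) * gent g 0 1 + (-q.im * ent k 0 1) * gent g 1 1
      linear_combination q.im * h01
    · change gent g 1 0 * (q.re + q.im * ent k 0 0) + gent g 1 1 * (q.im * ent k 1 0) =
        (-q.im * ent k 1 0) * gent g 0 0 + (q.re - -q.im * ent k 0 0) * gent g 1 0
      linear_combination q.im * h10
    · change gent g 1 0 * (q.im * ent k 0 1) + gent g 1 1 * (q.re - q.im * ent k 0 0) =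
        (-q.im * ent k 1 0) * gent g 0 1 + (q.re - -q.im * ent k 0 0) * gent g 1 1
      linear_combination q.im * h11
  · intro x
    apply conjGL_conjGL
    have h3 : (gent g 0 0 + gent g 1 1) * ent k 0 1 = 0 := by linear_combination h01
    have h4 : (gent g 0 0 + gent g 1 1) * ent k 1 0 = 0 := by linear_combination h10
    have h5 : (2 : F) * ((gent g 0 0 + gent g 1 1) * ent k 0 0) = 0 := by
      linear_combination h00 - h11
    have h6 : (gent g 0 0 + gent g 1 1) * ent k 0 0 = 0 := by
      rcases mul_eq_zero.1 h5 with h | h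
      · exact absurd h h2
      · exact h
    have h7 : gent g 0 0 + gent g 1 1 = 0 := by
      have : gent g 0 0 + gent g 1 1 = (gent g 0 0 + gent g 1 1) *
          (ent k 0 0 * -ent k 0 0 - ent k 0 1 * ent k 1 0) := by rw [hd, mul_one]
      rw [this]
      linear_combination -ent k 0 0 * h6 - ent k 1 0 * h3
    linear_combination h7

/-- tori are disjoint outside the centre -/
theorem tor (h2 : (2 : F) ≠ 0) {k : Matrix.SpecialLinearGroup (Fin 2) F}
    (hk : ent k 1 1 = - ent k 0 0) {x : Matrix.SpecialLinearGroup (Fin 2) F} (hx : x * k = k * x)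
    (h1 : x ≠ 1) (hz : x ≠ -1) {y : Matrix.SpecialLinearGroup (Fin 2) F} (hy : y * x = x * y) :
    y * k = k * y := by
  obtain ⟨q, rfl⟩ := exists_comb h2 hk hx
  have him : q.im ≠ 0 := by
    intro h0
    have hq := q.eqn
    rw [h0] at hq
    have h3 : (q.re - 1) * (q.re + 1) = 0 := by linear_combination hq
    rcases mul_eq_zero.1 h3 with h | h
    · apply h1
      have : q.re = 1 := by linear_combination h
      refine ext_ent ?_ ?_ ?_ ?_ <;> simp [this, h0]
    · apply hz
      have : q.re = -1 := by linear_combination h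
      have hn : ∀ a b, ent (-1 : Matrix.SpecialLinearGroup (Fin 2) F) a b =
        -ent (1 : Matrix.SpecialLinearGroup (Fin 2) F) a b := fun _ _ => rfl
      refine ext_ent ?_ ?_ ?_ ?_ <;> simp [this, h0, hn]
  have h00 := congrArg (fun x => ent x 0 0) hy
  have h01 := congrArg (fun x => ent x 0 1) hy
  have h10 := congrArg (fun x => ent x 1 0) hy
  have h11 := congrArg (fun x => ent x 1 1) hy
  simp only [ent_mul, comb_00, comb_01, comb_10, comb_11] at h00 h01 h10 h11
  refine ext_ent ?_ ?_ ?_ ?_ <;> simp only [ent_mul, hk]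
  · apply mul_left_cancel₀ him; linear_combination h00
  · apply mul_left_cancel₀ him; linear_combination h01
  · apply mul_left_cancel₀ him; linear_combination h10
  · apply mul_left_cancel₀ him; linear_combination h11

end mat

section conic

variable (F : Type*) [Field F]

/-- The points of the conic `a² - c b² = 1`. -/
@[ext] structure Con (c : F) where
  /-- first coordinate -/
  re : F
  /-- second coordinate -/
  im : F
  /-- the equation -/
  eqn : re ^ 2 - c * im ^ 2 = 1

variable {F}

instance [Finite F] (c : F) : Finite (Con F c) :=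
  Finite.of_injective (fun p : Con F c => (p.re, p.im)) (by
    intro p q h
    exact Con.ext (congrArg Prod.fst h) (congrArg Prod.snd h))

theorem card_con_of_sq [Finite F] (h2 : (2 : F) ≠ 0) {c : F} (i : F) (hi : i * i = c) (hc : c ≠ 0) :
    Nat.card (Con F c) = Nat.card F - 1 := by
  have hi0 : i ≠ 0 := by
    rintro rfl
    rw [zero_mul] at hi
    exact hc hi.symm
  have hu : Nat.card Fˣ = Nat.card F - 1 := Nat.card_units F
  rw [← hu]
  refine Nat.card_congr ⟨fun p => ⟨p.re + p.im * i, p.re - p.im * i, ?_, ?_⟩,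
    fun z => ⟨(z.1 + z⁻¹.1) / 2, (z.1 - z⁻¹.1) / (2 * i), ?_⟩, ?_, ?_⟩
  · have := p.eqn
    linear_combination this - p.im ^ 2 * hi
  · have := p.eqn
    linear_combination this - p.im ^ 2 * hi
  · have hz : z.1 * z⁻¹.1 = 1 := z.mul_inv
    have hi2 : i ^ 2 = c := by rw [sq, hi]
    change ((z.1 + z⁻¹.1) / 2) ^ 2 - c * ((z.1 - z⁻¹.1) / (2 * i)) ^ 2 = 1
    rw [div_pow, div_pow, mul_pow, hi2]
    field_simp
    linear_combination 4 * hz
  · intro p
    refine Con.ext ?_ ?_
    · change ((p.re + p.im * i) + (p.re - p.im * i)) / 2 = p.re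
      field_simp; ring
    · change ((p.re + p.im * i) - (p.re - p.im * i)) / (2 * i) = p.im
      field_simp; ring
  · intro z
    apply Units.ext
    change (z.1 + z⁻¹.1) / 2 + (z.1 - z⁻¹.1) / (2 * i) * i = z.1
    field_simp
    ring

theorem card_con_of_not_sq [Finite F] (h2 : (2 : F) ≠ 0) {c : F} (hi : ∀ i : F, i * i ≠ c)
    (hc : c ≠ 0) :
    Nat.card (Con F c) = Nat.card F + 1 := by
  have hne : ∀ t : F, 1 - c * t ^ 2 ≠ 0 := by
    intro t h
    have ht : t ≠ 0 := by
      rintro rfl
      simp at h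
    apply hi (t⁻¹)
    field_simp
    linear_combination h
  rw [← Finite.card_option]
  symm
  let f : Option F → Con F c := fun o => match o with
    | none => ⟨-1, 0, by simp⟩
    | some t => ⟨(1 + c * t ^ 2) / (1 - c * t ^ 2), 2 * t / (1 - c * t ^ 2), by
        have := hne t
        change ((1 + c * t ^ 2) / (1 - c * t ^ 2)) ^ 2 - c * (2 * t / (1 - c * t ^ 2)) ^ 2 = 1
        field_simp
        ring⟩
  refine Nat.card_congr (Equiv.ofBijective f ⟨?_, ?_⟩)
  · intro a b hab
    have key : ∀ t : F, (1 + c * t ^ 2) / (1 - c * t ^ 2) ≠ -1 := by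
      intro t h
      have := hne t
      field_simp at h
      exact h2 (by linear_combination h)
    cases a with
    | none =>
      cases b with
      | none => rfl
      | some t =>
        have h1 : (-1 : F) = (1 + c * t ^ 2) / (1 - c * t ^ 2) := congrArg Con.re hab
        exact absurd h1.symm (key t)
    | some s =>
      cases b with
      | none =>
        have h1 : (1 + c * s ^ 2) / (1 - c * s ^ 2) = -1 := congrArg Con.re hab
        exact absurd h1 (key s)
      | some t =>
        have h1 : (1 + c * s ^ 2) / (1 - c * s ^ 2) = (1 + c * t ^ 2) / (1 - c * t ^ 2) :=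
          congrArg Con.re hab
        have h3 : 2 * s / (1 - c * s ^ 2) = 2 * t / (1 - c * t ^ 2) := congrArg Con.im hab
        have hs := hne s
        have ht := hne t
        congr 1
        -- `s = b / (1 + a)`
        have e1 : ∀ x : F, 1 - c * x ^ 2 ≠ 0 →
            x * (1 + (1 + c * x ^ 2) / (1 - c * x ^ 2)) = 2 * x / (1 - c * x ^ 2) := by
          intro x hx
          rw [eq_div_iff hx, mul_assoc, add_mul, div_mul_cancel₀ _ hx]
          ring
        have e2 := e1 s hs
        have e3 := e1 t ht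
        rw [h1, h3, ← e3] at e2
        have e4 : 1 + (1 + c * t ^ 2) / (1 - c * t ^ 2) ≠ 0 := by
          intro h
          exact key t (by linear_combination h)
        exact mul_right_cancel₀ e4 e2
  · rintro ⟨a, b, hab⟩
    by_cases ha : 1 + a = 0
    · refine ⟨none, ?_⟩
      refine Con.ext ?_ ?_
      · change (-1 : F) = a
        linear_combination -ha
      · change (0 : F) = b
        have ha' : a = -1 := by linear_combination ha
        rw [ha'] at hab
        have hb : c * b ^ 2 = 0 := by linear_combination -hab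
        exact (pow_eq_zero_iff (two_ne_zero) |>.1 ((mul_eq_zero.mp hb).resolve_left hc)).symm
    · refine ⟨some (b / (1 + a)), ?_⟩
      have h3 : (1 + a) ^ 2 - c * b ^ 2 = 2 * (1 + a) := by linear_combination hab
      have h5 : 1 - c * (b / (1 + a)) ^ 2 = 2 / (1 + a) := by
        field_simp
        linear_combination h3
      refine Con.ext ?_ ?_
      · change (1 + c * (b / (1 + a)) ^ 2) / (1 - c * (b / (1 + a)) ^ 2) = a
        rw [h5]
        field_simp
        linear_combination -hab
      · change 2 * (b / (1 + a)) / (1 - c * (b / (1 + a)) ^ 2) = b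
        rw [h5]
        field_simp

/-- the fixed points of a traceless matrix -/
theorem card_fixed (h2 : (2 : F) ≠ 0) {g : GL (Fin 2) F} (hg : gent g 1 1 = - gent g 0 0) :
    Nat.card {x // conjGL g x = x} =
      Nat.card (Con F (gent g 0 0 ^ 2 + gent g 0 1 * gent g 1 0)) := by
  have hd := gdet_ne g
  rw [hg] at hd
  set a := gent g 0 0 with ha
  set b := gent g 0 1 with hb
  set c := gent g 1 0 with hc
  have hC : a ^ 2 + b * c ≠ 0 := fun h => hd (by linear_combination -h)
  symm
  let f : Con F (a ^ 2 + b * c) → {x // conjGL g x = x} := fun q =>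
    ⟨mk (q.re + q.im * a) (q.im * b) (q.im * c) (q.re - q.im * a) (by
      linear_combination q.eqn), by
      rw [conjGL_eq_iff]
      intro i j
      fin_cases i <;> fin_cases j
      · change a * (q.re + q.im * a) + b * (q.im * c) = (q.re + q.im * a) * a + (q.im * b) * c
        ring
      · change a * (q.im * b) + b * (q.re - q.im * a) =
          (q.re + q.im * a) * b + (q.im * b) * gent g 1 1
        rw [hg]; ring
      · change c * (q.re + q.im * a) + gent g 1 1 * (q.im * c) =
          (q.im * c) * a + (q.re - q.im * a) * c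
        rw [hg]; ring
      · change c * (q.im * b) + gent g 1 1 * (q.re - q.im * a) =
          (q.im * c) * b + (q.re - q.im * a) * gent g 1 1
        ring⟩
  refine Nat.card_congr (Equiv.ofBijective f ⟨?_, ?_⟩)
  · intro q r h
    have h' := congrArg Subtype.val h
    have h00 := congrArg (fun x => ent x 0 0) h'
    have h01 := congrArg (fun x => ent x 0 1) h'
    have h10 := congrArg (fun x => ent x 1 0) h'
    have h11 := congrArg (fun x => ent x 1 1) h'
    simp only [f, mk_00, mk_01, mk_10, mk_11] at h00 h01 h10 h11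
    have e1 : q.re = r.re := by
      apply mul_left_cancel₀ h2; linear_combination h00 + h11
    refine Con.ext e1 ?_
    apply mul_left_cancel₀ hC
    linear_combination a * h00 - a * e1 + c * h01
  · rintro ⟨x, hx⟩
    rw [conjGL_eq_iff] at hx
    have h00 := hx 0 0
    have h01 := hx 0 1
    have h10 := hx 1 0
    rw [← ha, ← hb, ← hc] at h00
    rw [← ha, ← hb, hg] at h01
    rw [← ha, ← hc, hg] at h10
    have hdx := det_eq x
    set y0 := (ent x 0 0 - ent x 1 1) / 2 with hy0
    set r := (ent x 0 0 + ent x 1 1) / 2 with hr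
    have hx00 : ent x 0 0 = r + y0 := by rw [hr, hy0]; field_simp; ring
    have hx11 : ent x 1 1 = r - y0 := by rw [hr, hy0]; field_simp; ring
    rw [hx00] at h00 h01 h10 hdx
    rw [hx11] at h01 h10 hdx
    have e1 : ent x 0 1 * c = b * ent x 1 0 := by linear_combination -h00
    have e2 : y0 * b = ent x 0 1 * a :=
      mul_left_cancel₀ h2 (by linear_combination -h01)
    have e3 : ent x 1 0 * a = y0 * c :=
      mul_left_cancel₀ h2 (by linear_combination -h10)
    set s := (y0 * a + ent x 0 1 * c) / (a ^ 2 + b * c) with hs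
    have s0 : s * a = y0 := by
      rw [hs, div_mul_eq_mul_div, div_eq_iff hC]; linear_combination -c * e2
    have s1 : s * b = ent x 0 1 := by
      rw [hs, div_mul_eq_mul_div, div_eq_iff hC]; linear_combination a * e2
    have s2 : s * c = ent x 1 0 := by
      rw [hs, div_mul_eq_mul_div, div_eq_iff hC]; linear_combination -a * e3 + c * e1
    refine ⟨⟨r, s, ?_⟩, ?_⟩
    · have h3 : s ^ 2 * (a ^ 2 + b * c) = (s * a) ^ 2 + (s * b) * (s * c) := by ring
      have h4 : r ^ 2 - (a ^ 2 + b * c) * s ^ 2 = r ^ 2 - s ^ 2 * (a ^ 2 + b * c) := by ring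
      rw [h4, h3, s0, s1, s2]
      linear_combination hdx
    · apply Subtype.ext
      refine ext_ent ?_ ?_ ?_ ?_
      · change r + s * a = ent x 0 0
        rw [s0, hx00]
      · change s * b = ent x 0 1
        exact s1
      · change s * c = ent x 1 0
        exact s2
      · change r - s * a = ent x 1 1
        rw [s0, hx11]

end conic

section data

variable {F : Type*} [Field F] [Finite F]

/-- the prime field has no automorphisms -/
theorem ringEquiv_eq_one {p : ℕ} (hp : p.Prime) (hF : Nat.card F = p) (σ : F ≃+* F) : σ = 1 := by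
  have hpf : Fact p.Prime := ⟨hp⟩
  have := Fintype.ofFinite F
  obtain ⟨q, hq⟩ := CharP.exists F
  have hqp : Fact q.Prime := ⟨CharP.char_is_prime F q⟩
  obtain ⟨n, hn⟩ := FiniteField.card F q
  rw [← Nat.card_eq_fintype_card, hF] at hn
  have hpq : p = q := by
    have h1 : q ∣ p := by rw [hn.2]; exact dvd_pow_self q n.2.ne'
    exact ((Nat.prime_dvd_prime_iff_eq hqp.out hp).mp h1).symm
  subst hpq
  let _ : Algebra (ZMod p) F := ZMod.algebra F p
  have hinj : Function.Injective (algebraMap (ZMod p) F) := (algebraMap (ZMod p) F).injective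
  have hbij : Function.Bijective (algebraMap (ZMod p) F) := by
    refine (Nat.bijective_iff_injective_and_card _).mpr ⟨hinj, ?_⟩
    rw [hF, Nat.card_zmod]
  ext x
  obtain ⟨a, rfl⟩ := hbij.2 x
  obtain ⟨k, rfl⟩ := ZMod.natCast_zmod_surjective a
  rw [map_natCast, map_natCast]
  simp

/-- all automorphisms of `SL(2,p)` come from `GL(2,p)` -/
theorem exists_conjGL {p : ℕ} (hp : p.Prime) (hF : Nat.card F = p)
    (α : MulAut (Matrix.SpecialLinearGroup (Fin 2) F)) : ∃ g, α = conjGL g := by
  obtain ⟨g, σ, h⟩ := exists_eq α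
  rw [ringEquiv_eq_one hp hF σ, map_one, mul_one] at h
  exact ⟨g, h⟩

omit [Finite F] in
theorem card_ker : Nat.card (conjGL (F := F)).ker = Nat.card Fˣ := by
  symm
  refine Nat.card_congr (Equiv.ofBijective (fun u : Fˣ =>
    (⟨Matrix.GeneralLinearGroup.scalar (Fin 2) u, ?_⟩ : (conjGL (F := F)).ker)) ⟨?_, ?_⟩)
  · rw [MonoidHom.mem_ker]
    apply MulEquiv.ext
    refine (conjGL_eq_self_iff _).mpr ⟨?_, ?_, ?_⟩
    · simp [gent]
    · simp [gent]
    · simp [gent]
  · intro a b hab
    have := congrArg (fun g : (conjGL (F := F)).ker => g.1.1 0 0) hab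
    ext
    simpa using this
  · rintro ⟨g, hg⟩
    rw [MonoidHom.mem_ker] at hg
    obtain ⟨h1, h2, h3⟩ := (conjGL_eq_self_iff g).mp (fun x => by rw [hg]; rfl)
    have hd := gdet_ne g
    rw [h1, h3, zero_mul, sub_zero] at hd
    have h0 : gent g 0 0 ≠ 0 := fun h => hd (by rw [h, zero_mul])
    refine ⟨Units.mk0 _ h0, Subtype.ext (Units.ext ?_)⟩
    ext i j
    have h1' : g.1 0 1 = 0 := h1
    have h2' : g.1 1 0 = 0 := h2
    have h3' : g.1 1 1 = g.1 0 0 := h3
    fin_cases i <;> fin_cases j <;> simp [gent, h1', h2', h3']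

theorem card_mulAut {p : ℕ} (hp : p.Prime) (hF : Nat.card F = p) :
    Nat.card (MulAut (Matrix.SpecialLinearGroup (Fin 2) F)) =
      Nat.card (Matrix.SpecialLinearGroup (Fin 2) F) := by
  have := Fintype.ofFinite F
  have h1 := Cfsg.Agent.S0265.card_GL_eq_SL (F := F) (n := 2) (by decide)
  have h2 := (conjGL (F := F)).ker.card_mul_index
  rw [Subgroup.index_ker] at h2
  have hsurj : Function.Surjective (conjGL (F := F)) := fun α => by
    obtain ⟨g, hg⟩ := exists_conjGL hp hF α
    exact ⟨g, hg.symm⟩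
  rw [MonoidHom.range_eq_top.2 hsurj, Subgroup.card_top, card_ker, h1] at h2
  exact Nat.eq_of_mul_eq_mul_left Nat.card_pos h2

theorem isSquare_mul_of_not {a b : F} (ha : ¬ IsSquare a) (hb : ¬ IsSquare b) : IsSquare (a * b) := by
  have := Fintype.ofFinite F
  have ha0 : a ≠ 0 := by rintro rfl; exact ha (IsSquare.zero)
  have hb0 : b ≠ 0 := by rintro rfl; exact hb (IsSquare.zero)
  by_cases h2 : ringChar F = 2
  · exact FiniteField.isSquare_of_char_two h2 _
  · rw [FiniteField.isSquare_iff h2 ha0] at ha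
    rw [FiniteField.isSquare_iff h2 hb0] at hb
    rw [FiniteField.isSquare_iff h2 (mul_ne_zero ha0 hb0), mul_pow,
      (FiniteField.pow_dichotomy h2 ha0).resolve_left ha,
      (FiniteField.pow_dichotomy h2 hb0).resolve_left hb, neg_mul_neg, one_mul]

/-- the facts on `SL(2,p)` -/
theorem data {p : ℕ} (hp : p.Prime) (h5 : 5 ≤ p) (hF : Nat.card F = p) : ∃ m n,
    Data (Matrix.SpecialLinearGroup (Fin 2) F) (-1) p m n := by
  have := Fintype.ofFinite F
  have h2 : (2 : F) ≠ 0 := by
    obtain ⟨q, hq⟩ := CharP.exists F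
    have hqp : Fact q.Prime := ⟨CharP.char_is_prime F q⟩
    obtain ⟨n, hn⟩ := FiniteField.card F q
    rw [← Nat.card_eq_fintype_card, hF] at hn
    have hpq : p = q := by
      have h1 : q ∣ p := by rw [hn.2]; exact dvd_pow_self q n.2.ne'
      exact ((Nat.prime_dvd_prime_iff_eq hqp.out hp).mp h1).symm
    intro h0
    have h1 : ((2 : ℕ) : F) = 0 := by exact_mod_cast h0
    have h3 := (CharP.cast_eq_zero_iff F q 2).mp h1
    have := Nat.le_of_dvd (by omega) h3
    omega
  have hm1 : (-1 : Matrix.SpecialLinearGroup (Fin 2) F) ≠ 1 := by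
    intro h
    have h3 := congrArg (fun x => ent x 0 0) h
    have hn' : ent (-1 : Matrix.SpecialLinearGroup (Fin 2) F) 0 0 = -1 := rfl
    simp only [ent_one_00, hn'] at h3
    exact h2 (by linear_combination -h3)
  have hsqc := FiniteField.isSquare_neg_one_iff (F := F)
  rw [← Nat.card_eq_fintype_card, hF] at hsqc
  have hcirc := card_circ (F := F) h2
  rw [hF] at hcirc
  have hodd := odd_card (F := F) h2
  rw [hF] at hodd
  obtain ⟨n, hn⟩ : ∃ n, (p % 4 = 1 ∧ n = p + 1) ∨ (p % 4 = 3 ∧ n = p - 1) := by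
    have : p % 4 = 1 ∨ p % 4 = 3 := by omega
    rcases this with h | h
    · exact ⟨p + 1, Or.inl ⟨h, rfl⟩⟩
    · exact ⟨p - 1, Or.inr ⟨h, rfl⟩⟩
  have hinner : ∀ x y : Matrix.SpecialLinearGroup (Fin 2) F, x * x = -1 → y * y = -1 → True :=
    fun _ _ _ _ => trivial
  refine ⟨Nat.card (Circ F), n, hm1, by rw [neg_mul_neg, one_mul], fun x hx => sq_eq_one h2 hx, ?_,
    ⟨jm F, sq_of_tr (by simp)⟩, fun k k' hk hk' => exists_conj h2 (tr_of_sq h2 hk) (tr_of_sq h2 hk'),
    fun k hk => isCyclic_centralizer h2 (tr_of_sq h2 hk),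
    fun k hk => card_centralizer h2 (tr_of_sq h2 hk), ?_, ?_, card_mulAut hp hF, ?_, ?_, hp, h5, ?_⟩
  · -- centre
    intro x hx
    apply sq_eq_one h2
    obtain ⟨h01, h10, h11⟩ := (conjGL_eq_self_iff (Matrix.SpecialLinearGroup.toGL x)).mp (fun y => by
      rw [conjGL_toGL, hx y, mul_inv_cancel_right])
    have h01' : ent x 0 1 = 0 := h01
    have h10' : ent x 1 0 = 0 := h10
    have h11' : ent x 1 1 = ent x 0 0 := h11
    have h5 := det_eq x
    rw [h01', h11', zero_mul, sub_zero] at h5
    refine ext_ent ?_ ?_ ?_ ?_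
    · rw [ent_mul, h01', zero_mul, add_zero, ent_one_00]; exact h5
    · rw [ent_mul, h01', mul_zero, zero_mul, add_zero, ent_one_01]
    · rw [ent_mul, h10', zero_mul, mul_zero, add_zero, ent_one_10]
    · rw [ent_mul, h10', zero_mul, zero_add, ent_one_11, h11']; exact h5
  · intro k hk α hα
    obtain ⟨g, rfl⟩ := exists_conjGL hp hF α
    exact invert h2 (tr_of_sq h2 hk) hα
  · intro k hk x hx h1 hz y hy
    exact tor h2 (tr_of_sq h2 hk) hx h1 hz hy
  · rw [LieClassical.SmallIso.card_sl_two, ← Nat.card_eq_fintype_card, hF, mul_assoc]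
    congr 1
    have h6 : p ^ 2 - 1 = (p + 1) * (p - 1) := by
      have := Nat.sq_sub_sq p 1
      rwa [one_pow] at this
    rw [h6]
    rcases hcirc with ⟨h7, h8⟩ | ⟨h7, h8⟩ <;> rcases hn with ⟨h9, h10⟩ | ⟨h9, h10⟩
    · rw [h8, h10, mul_comm]
    · omega
    · omega
    · rw [h8, h10]
  · intro α hα hout
    obtain ⟨g, rfl⟩ := exists_conjGL hp hF α
    have htr : gent g 1 1 = - gent g 0 0 := by
      refine traceless hα ?_
      by_contra hcon
      push Not at hcon
      exact hout ⟨1, fun x => by rw [hcon x, one_mul, inv_one, mul_one]⟩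
    rw [card_fixed h2 htr]
    have hd := gdet_ne g
    have hdet := gdet g
    rw [htr] at hd hdet
    set C := gent g 0 0 ^ 2 + gent g 0 1 * gent g 1 0 with hC
    have hC0 : C ≠ 0 := fun h => hd (by rw [hC] at h; linear_combination -h)
    have hns : ¬ IsSquare (-C) := by
      rintro ⟨d, hd'⟩
      apply hout
      refine conjGL_of_det_sq g d ?_ ?_
      · rintro rfl
        rw [mul_zero, neg_eq_zero] at hd'
        exact hC0 hd'
      · rw [hdet, sq, ← hd', hC]; ring
    rcases hn with ⟨h9, h10⟩ | ⟨h9, h10⟩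
    · have hs : IsSquare (-1 : F) := hsqc.mpr (by omega)
      rw [card_con_of_not_sq h2 _ hC0, hF, h10]
      intro i hi
      apply hns
      rw [← hi, neg_eq_neg_one_mul]
      exact hs.mul ⟨i, rfl⟩
    · have hs : ¬ IsSquare (-1 : F) := fun h => (hsqc.mp h) h9
      obtain ⟨i, hi⟩ : IsSquare C := by
        have := isSquare_mul_of_not hs hns
        rwa [neg_one_mul, neg_neg] at this
      rw [card_con_of_sq h2 i hi.symm hC0, hF, h10]
  · rcases hcirc with ⟨h7, h8⟩ | ⟨h7, h8⟩ <;> rcases hn with ⟨h9, h10⟩ | ⟨h9, h10⟩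
    · exact Or.inl ⟨h7, h8, h10⟩
    · omega
    · omega
    · exact Or.inr ⟨h7, h8, h10⟩

end data

/-! ### transport -/

section transport

variable {L L' : Type*} [Group L] [Group L']

theorem card_centralizer_equiv (e : L ≃* L') (k : L) :
    Nat.card (Subgroup.centralizer ({k} : Set L)) =
      Nat.card (Subgroup.centralizer ({e k} : Set L')) := by
  refine Nat.card_congr ((e.toEquiv.subtypeEquiv fun x => ?_))
  change x ∈ Subgroup.centralizer ({k} : Set L) ↔ e x ∈ Subgroup.centralizer ({e k} : Set L')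
  rw [Subgroup.mem_centralizer_singleton_iff, Subgroup.mem_centralizer_singleton_iff,
    ← map_mul, ← map_mul, e.injective.eq_iff]

theorem isCyclic_centralizer_equiv (e : L ≃* L') {k : L}
    (h : IsCyclic (Subgroup.centralizer ({e k} : Set L'))) :
    IsCyclic (Subgroup.centralizer ({k} : Set L)) := by
  have hle : ∀ x : Subgroup.centralizer ({k} : Set L),
      e x.1 ∈ Subgroup.centralizer ({e k} : Set L') := by
    rintro ⟨x, hx⟩
    rw [Subgroup.mem_centralizer_singleton_iff] at hx ⊢
    rw [← map_mul, ← map_mul, hx]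
  let f : Subgroup.centralizer ({k} : Set L) →* Subgroup.centralizer ({e k} : Set L') :=
    { toFun := fun x => ⟨e x.1, hle x⟩
      map_one' := Subtype.ext (map_one e)
      map_mul' := fun x y => Subtype.ext (map_mul e x.1 y.1) }
  refine isCyclic_of_injective f ?_
  intro x y hxy
  exact Subtype.ext (e.injective (congrArg Subtype.val hxy))

theorem Data.of_equiv (e : L ≃* L') {z' : L'} {p m n : ℕ} (h : Data L' z' p m n) :
    Data L (e.symm z') p m n := by
  have hz : ∀ x : L, x = e.symm z' ↔ e x = z' := fun x => by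
    constructor
    · rintro rfl; simp
    · intro h'; rw [← h']; simp
  have hsq : ∀ k : L, k * k = e.symm z' ↔ e k * e k = z' := fun k => by rw [hz, map_mul]
  have hap : ∀ (α : MulAut L) (y : L'), (MulAut.congr e α) y = e (α (e.symm y)) := fun _ _ => rfl
  refine ⟨?_, ?_, ?_, ?_, ?_, ?_, ?_, ?_, ?_, ?_, ?_, ?_, ?_, h.prime, h.p5, h.mn⟩
  · intro h1
    exact h.z_ne (by rw [← e.apply_symm_apply z', h1, map_one])
  · rw [← map_mul, h.z_sq, map_one]
  · intro x hx
    rcases h.inv (e x) (by rw [← map_mul, hx, map_one]) with h1 | h1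
    · exact Or.inl (e.map_eq_one_iff.mp h1)
    · exact Or.inr ((hz x).mpr h1)
  · intro x hx
    rcases h.cen (e x) (fun y => by
      have := congrArg e (hx (e.symm y))
      rwa [map_mul, map_mul, e.apply_symm_apply] at this) with h1 | h1
    · exact Or.inl (e.map_eq_one_iff.mp h1)
    · exact Or.inr ((hz x).mpr h1)
  · obtain ⟨k, hk⟩ := h.ex4
    exact ⟨e.symm k, by rw [hsq]; simpa using hk⟩
  · intro k k' hk hk'
    obtain ⟨g, hg⟩ := h.conj4 (e k) (e k') ((hsq k).mp hk) ((hsq k').mp hk')
    refine ⟨e.symm g, e.injective ?_⟩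
    rw [map_mul, map_mul, map_inv, e.apply_symm_apply, hg]
  · intro k hk
    exact isCyclic_centralizer_equiv e (h.cyc (e k) ((hsq k).mp hk))
  · intro k hk
    rw [card_centralizer_equiv e k]
    exact h.card4 (e k) ((hsq k).mp hk)
  · intro k hk α hα
    obtain ⟨h1, h2⟩ := h.invt (e k) ((hsq k).mp hk) (MulAut.congr e α) (by
      rw [hap, e.symm_apply_apply, hα, map_inv])
    constructor
    · intro x hx
      have h3 := h1 (e x) (by rw [← map_mul, hx, map_mul])
      rw [hap, e.symm_apply_apply, ← map_inv] at h3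
      exact e.injective h3
    · intro x
      have h3 := h2 (e x)
      rw [hap, hap, e.symm_apply_apply, e.symm_apply_apply] at h3
      exact e.injective h3
  · intro k hk x hx h1 h2 y hy
    have h3 := h.tor (e k) ((hsq k).mp hk) (e x) (by rw [← map_mul, hx, map_mul])
      (fun h3 => h1 (e.map_eq_one_iff.mp h3)) (fun h3 => h2 ((hz x).mpr h3)) (e y)
      (by rw [← map_mul, hy, map_mul])
    rw [← map_mul, ← map_mul] at h3
    exact e.injective h3
  · rw [Nat.card_congr (MulAut.congr e).toEquiv, h.cardAut, Nat.card_congr e.toEquiv]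
  · rw [Nat.card_congr e.toEquiv, h.card]
  · intro α hα hout
    rw [← h.outer (MulAut.congr e α) (fun y => by
      rw [hap, hap, e.symm_apply_apply, hα, e.apply_symm_apply]) (by
      rintro ⟨s, hs⟩
      apply hout
      refine ⟨e.symm s, fun x => e.injective ?_⟩
      have h3 := hs (e x)
      rw [hap, e.symm_apply_apply] at h3
      rw [h3, map_mul, map_mul, map_inv, e.apply_symm_apply])]
    refine Nat.card_congr ((e.toEquiv.subtypeEquiv fun x => ?_))
    change α x = x ↔ (MulAut.congr e α) (e x) = e x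
    rw [hap, e.symm_apply_apply, e.injective.eq_iff]

/-- the facts on a group isomorphic to `SL(2,p)` -/
theorem exists_data {F : Type*} [Field F] [Finite F] {p : ℕ} (hp : p.Prime) (h5 : 5 ≤ p)
    (hF : Nat.card F = p) (e : L ≃* Matrix.SpecialLinearGroup (Fin 2) F) :
    ∃ (z : L) (m n : ℕ), Data L z p m n := by
  obtain ⟨m, n, h⟩ := data (F := F) hp h5 hF
  exact ⟨_, m, n, h.of_equiv e⟩

end transport

end Cfsg.Agent.OddCyclic.CompSL2Facts
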