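import Cfsg.Agent.OddCyclic.CompSL2Pair
import Cfsg.Agent.OddCyclic.T1Tools
import Cfsg.Agent.Transfer.ThompsonTransfer

/-!
# S0342, case C: inner pairs

(I1)-(I8) of blueprints/S0342-caseC.md.
-/

set_option autoImplicit false

namespace Cfsg.Agent.OddCyclic.CompSL2Amb

open Subgroup Cfsg
open Cfsg.Agent.OddCyclic.T1Defs Cfsg.Agent.OddCyclic.CompBasic
open Cfsg.Agent.OddCyclic.CompStandard Cfsg.Agent.OddCyclic.CompSL2Facts
open Cfsg.Agent.LieExceptional Cfsg.Agent.LieExceptional.CITDefs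
open Cfsg.Agent.LieExceptional.CITBasic

variable {G : Type*} [Group G] [Finite G] {K : Subgroup G} {z : G} {p m n : ℕ}

section pair

variable {u x : G} {P T : Subgroup G}

omit [Finite G] in
theorem Pair.uu (H : Pair K z u x P T p m n) : u * u = 1 := by
  rw [← H.hz]
  calc x * z * x⁻¹ * (x * z * x⁻¹) = x * (z * z) * x⁻¹ := by group
    _ = 1 := by rw [H.hyp.zz]; group

omit [Finite G] in
theorem Pair.u_ne (H : Pair K z u x P T p m n) : u ≠ 1 := by
  intro h1
  apply H.hyp.z_ne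
  have h2 := H.hz
  rw [h1] at h2
  calc z = x⁻¹ * (x * z * x⁻¹) * x := by group
    _ = 1 := by rw [h2]; group

omit [Finite G] in
theorem Pair.uz_ne (H : Pair K z u x P T p m n) : u * z ≠ 1 := by
  intro h1
  apply H.ne
  rw [eq_inv_of_mul_eq_one_left h1, H.hyp.z_inv]

omit [Finite G] in
theorem Pair.huz (H : Pair K z u x P T p m n) : x * (u * z) * x⁻¹ = z := by
  calc x * (u * z) * x⁻¹ = (x * u * x⁻¹) * (x * z * x⁻¹) := by group
    _ = u * z * u := by rw [H.hz, H.hu]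
    _ = u * (z * u) := by group
    _ = (u * u) * z := by rw [← H.com]; group
    _ = z := by rw [H.uu, one_mul]

omit [Finite G] in
theorem mem_D {g : G} {u : G} : g ∈ centralizer ({z} : Set G) ⊓ centralizer ({u} : Set G) ↔
    g * z = z * g ∧ g * u = u * g := by
  rw [Subgroup.mem_inf, mem_centralizer_singleton_iff, mem_centralizer_singleton_iff]

omit [Finite G] in
theorem Pair.Pz (H : Pair K z u x P T p m n) {g : G} (hg : g ∈ P) : g * z = z * g :=
  (mem_D.mp (H.syl.le hg)).1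

omit [Finite G] in
theorem Pair.Pu (H : Pair K z u x P T p m n) {g : G} (hg : g ∈ P) : g * u = u * g :=
  (mem_D.mp (H.syl.le hg)).2

omit [Finite G] in
theorem Pair.mem_P (H : Pair K z u x P T p m n) {g : G} (hg : g ∈ T) (hgu : g * u = u * g) :
    g ∈ P := by
  have h1 := H.syl.max (T ⊓ centralizer ({u} : Set G)) (by
    intro t ht
    exact mem_D.mpr ⟨H.hyp.mem_iff.mp (H.sylT.le ht.1), mem_centralizer_singleton_iff.mp ht.2⟩)
    (H.sylT.two.to_le inf_le_left) (by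
    intro t ht
    exact ⟨H.le ht, mem_centralizer_singleton_iff.mpr (H.Pu ht)⟩)
  rw [← h1]
  exact ⟨hg, mem_centralizer_singleton_iff.mpr hgu⟩

omit [Finite G] in
theorem Pair.uM (H : Pair K z u x P T p m n) : u ∈ normalizer (K : Set G) :=
  H.hyp.mem_iff.mpr H.com

omit [Finite G] in
theorem Pair.uY (H : Pair K z u x P T p m n) : u ∉ centralizer (K : Set G) := by
  intro h1
  rw [← H.hz] at h1
  have h2 := H.hyp.eq_z_of_cent h1
  rw [H.hz] at h2
  exact H.ne h2

omit [Finite G] in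
theorem Pair.PM (H : Pair K z u x P T p m n) {g : G} (hg : g ∈ P) :
    g ∈ normalizer (K : Set G) := H.sylT.le (H.le hg)

theorem Pair.hyp_u (H : Pair K z u x P T p m n) : Hyp (cj x K) u p m n := by
  have := H.hyp.conj x
  rwa [H.hz] at this

theorem Pair.cjP (H : Pair K z u x P T p m n) : cj x P = P :=
  cj_eq_iff.mpr (mem_normalizer_of_forall H.hP)

theorem Pair.inv_mem (H : Pair K z u x P T p m n) {g : G} (hg : g ∈ P) : x⁻¹ * g * x ∈ P := by
  have h1 := hg
  rw [← H.cjP, mem_cj] at h1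
  exact h1

omit [Finite G] in
theorem Pair.x_not (H : Pair K z u x P T p m n) : x ∉ normalizer (K : Set G) := by
  intro h1
  have h2 := H.hyp.conj_z h1
  rw [H.hz] at h2
  exact H.ne h2

omit [Finite G] in
theorem Pair.inter_Y (H : Pair K z u x P T p m n) {g : G} (hg : g ∈ P)
    (h1 : g ∈ centralizer (K : Set G)) (h2 : x⁻¹ * g * x ∈ centralizer (K : Set G)) : g = 1 := by
  by_contra hne
  obtain ⟨j, hj⟩ := exists_inv H.syl.two hg hne
  have h3 : (x⁻¹ * g * x) ^ j = x⁻¹ * g ^ j * x⁻¹⁻¹ := by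
    have := conj_pow (i := j) (a := x⁻¹) (b := g)
    rw [inv_inv] at this ⊢
    exact this
  have h4 := H.hyp.ti x⁻¹ (g ^ j) hj (Subgroup.pow_mem _ h1 j) (by
    rw [← h3]; exact Subgroup.pow_mem _ h2 j)
  exact H.x_not (by rw [← inv_inv x]; exact Subgroup.inv_mem _ h4)

/-- Two normal subgroups `P ∩ K`, `P ∩ K^g` with different involutions commute. -/
theorem comm_of_ne (h : Hyp K z p m n) {g : G} (hg : g * z * g⁻¹ ≠ z) {P : Subgroup G}
    (hP : IsPGroup 2 P) (hPK : ∀ a ∈ P, a * z = z * a)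
    (hPg : ∀ a ∈ P, a * (g * z * g⁻¹) = (g * z * g⁻¹) * a) :
    (∀ c ∈ P, c ∈ K → c ∈ cj g K → c = 1) ∧
    ∀ a ∈ P, a ∈ K → ∀ b ∈ P, b ∈ cj g K → a * b = b * a := by
  have hu := h.conj g
  have key : ∀ c ∈ P, c ∈ K → c ∈ cj g K → c = 1 := by
    intro c hc hcK hcg
    by_contra hne
    obtain ⟨j, hj⟩ := exists_inv hP hc hne
    obtain ⟨h1, h2⟩ := sq_of_orderOf hj
    have h3 := (h.eq_z (K.pow_mem hcK j) h1).resolve_left h2
    have h4 := (hu.eq_z (Subgroup.pow_mem _ hcg j) h1).resolve_left h2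
    rw [h3] at h4
    exact hg h4.symm
  refine ⟨key, fun a ha haK b hb hbg => ?_⟩
  have hbM := h.mem_iff.mpr (hPK b hb)
  have haM := hu.mem_iff.mpr (hPg a ha)
  have h1 : a * b * a⁻¹ * b⁻¹ = 1 := by
    refine key _ (P.mul_mem (P.mul_mem (P.mul_mem ha hb) (P.inv_mem ha)) (P.inv_mem hb)) ?_ ?_
    · have e : a * b * a⁻¹ * b⁻¹ = a * (b * a⁻¹ * b⁻¹) := by group
      rw [e]
      exact K.mul_mem haK (mem_norm hbM (K.inv_mem haK))
    · exact Subgroup.mul_mem _ (mem_norm haM hbg) (Subgroup.inv_mem _ hbg)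
  have h2 : a * b * a⁻¹ = b := mul_inv_eq_one.mp h1
  exact mul_inv_eq_iff_eq_mul.mp h2

end pair

/-- An inner pair: `u = k y`. -/
structure InnPair (K : Subgroup G) (z u x : G) (P T : Subgroup G) (p m n d m' n' : ℕ) (k y : G) :
    Prop extends Pair K z u x P T p m n where
  kK : k ∈ K
  yY : y ∈ centralizer (K : Set G)
  uk : u = k * y
  kk : k * k = z
  yy : y * y = z
  hd : 2 ≤ d
  hm' : Odd m'
  hn' : Odd n'
  hm : m = 2 ^ d * m'
  hn : n = 2 * n'
  odd_p : Odd p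

namespace InnPair

variable {u x : G} {P T : Subgroup G} {d m' n' : ℕ} {k y : G}

omit [Finite G] in
theorem pm (H : InnPair K z u x P T p m n d m' n' k y) {g : G}
    (hg : g ∈ normalizer (K : Set G)) (hgu : g * u = u * g) : g * k * g⁻¹ = k ∨ g * k * g⁻¹ = k⁻¹ := by
  have h1 : g * k * g⁻¹ ∈ K := mem_norm hg H.kK
  have h2 := mem_cent hg H.yY
  have h3 : (g * k * g⁻¹) * (g * y * g⁻¹) = k * y := by
    calc (g * k * g⁻¹) * (g * y * g⁻¹) = g * (k * y) * g⁻¹ := by group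
      _ = k * y := by rw [← H.uk, hgu]; group
  have h4 : k⁻¹ * (g * k * g⁻¹) = y * (g * y * g⁻¹)⁻¹ := by
    rw [eq_mul_inv_iff_mul_eq, mul_assoc, h3]; group
  have h5 : k⁻¹ * (g * k * g⁻¹) ∈ centralizer (K : Set G) := by
    rw [h4]; exact Subgroup.mul_mem _ H.yY (Subgroup.inv_mem _ h2)
  rcases H.hyp.inter (K.mul_mem (K.inv_mem H.kK) h1) h5 with h6 | h6
  · left
    exact (inv_mul_eq_one.mp h6).symm
  · right
    rw [H.hyp.inv_k H.kk]
    exact inv_mul_eq_iff_eq_mul.mp h6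

omit [Finite G] in
theorem K_comm (H : InnPair K z u x P T p m n d m' n' k y) {g : G} (hg : g ∈ K) :
    g * u = u * g ↔ g * k = k * g := by
  have h1 := comm hg H.yY
  rw [H.uk]
  constructor
  · intro h2
    apply mul_right_cancel (b := y)
    calc g * k * y = g * (k * y) := by group
      _ = k * y * g := h2
      _ = k * (y * g) := by group
      _ = k * (g * y) := by rw [h1]
      _ = k * g * y := by group
  · intro h2
    calc g * (k * y) = g * k * y := by group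
      _ = k * (g * y) := by rw [h2]; group
      _ = k * (y * g) := by rw [h1]
      _ = k * y * g := by group

omit [Finite G] in
theorem Y_comm (H : InnPair K z u x P T p m n d m' n' k y) {g : G}
    (hg : g ∈ centralizer (K : Set G)) : g * u = u * g ↔ g * y = y * g := by
  have h1 := comm H.kK hg
  rw [H.uk]
  constructor
  · intro h2
    apply mul_left_cancel (a := k)
    calc k * (g * y) = (k * g) * y := by group
      _ = g * (k * y) := by rw [h1]; group
      _ = k * y * g := h2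
      _ = k * (y * g) := by group
  · intro h2
    calc g * (k * y) = (g * k) * y := by group
      _ = k * (g * y) := by rw [← h1]; group
      _ = k * (y * g) := by rw [h2]
      _ = k * y * g := by group

theorem sylA (H : InnPair K z u x P T p m n d m' n' k y) :
    IsSyl2 (K ⊓ centralizer ({k} : Set G)) (P ⊓ K) := by
  have h1 := isSyl2_inf H.syl (W := K ⊓ centralizer ({k} : Set G)) (by
    intro g hg
    have h1 := mem_centralizer_singleton_iff.mp hg.2
    exact mem_D.mpr ⟨H.hyp.mem_iff.mp (le_normalizer hg.1), (H.K_comm hg.1).mpr h1⟩) (by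
    intro g hg w hw
    have hg' := mem_D.mp hg
    have h2 := mem_norm (H.hyp.mem_iff.mpr hg'.1) hw.1
    refine ⟨h2, mem_centralizer_singleton_iff.mpr ((H.K_comm h2).mp ?_)⟩
    have h3 := (H.K_comm hw.1).mpr (mem_centralizer_singleton_iff.mp hw.2)
    have h4 : g⁻¹ * u = u * g⁻¹ := by
      rw [inv_mul_eq_iff_eq_mul, ← mul_assoc, hg'.2]; group
    calc g * w * g⁻¹ * u = g * w * (g⁻¹ * u) := by group
      _ = g * (w * u) * g⁻¹ := by rw [h4]; group
      _ = (g * u) * w * g⁻¹ := by rw [h3]; group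
      _ = u * (g * w * g⁻¹) := by rw [hg'.2]; group)
  have h2 : P ⊓ (K ⊓ centralizer ({k} : Set G)) = P ⊓ K := by
    ext g
    constructor
    · rintro ⟨h3, h4, -⟩
      exact ⟨h3, h4⟩
    · rintro ⟨h3, h4⟩
      exact ⟨h3, h4, mem_centralizer_singleton_iff.mpr ((H.K_comm h4).mp (H.Pu h3))⟩
  rwa [h2] at h1

theorem sylB (H : InnPair K z u x P T p m n d m' n' k y) :
    IsSyl2 (centralizer (K : Set G) ⊓ centralizer ({y} : Set G)) (P ⊓ centralizer (K : Set G)) := by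
  have h1 := isSyl2_inf H.syl (W := centralizer (K : Set G) ⊓ centralizer ({y} : Set G)) (by
    intro g hg
    have h1 := mem_centralizer_singleton_iff.mp hg.2
    exact mem_D.mpr ⟨H.hyp.mem_iff.mp (centralizer_le_normalizer _ hg.1),
      (H.Y_comm hg.1).mpr h1⟩) (by
    intro g hg w hw
    have hg' := mem_D.mp hg
    have h2 := mem_cent (H.hyp.mem_iff.mpr hg'.1) hw.1
    refine ⟨h2, mem_centralizer_singleton_iff.mpr ((H.Y_comm h2).mp ?_)⟩
    have h3 := (H.Y_comm hw.1).mpr (mem_centralizer_singleton_iff.mp hw.2)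
    have h4 : g⁻¹ * u = u * g⁻¹ := by
      rw [inv_mul_eq_iff_eq_mul, ← mul_assoc, hg'.2]; group
    calc g * w * g⁻¹ * u = g * w * (g⁻¹ * u) := by group
      _ = g * (w * u) * g⁻¹ := by rw [h4]; group
      _ = (g * u) * w * g⁻¹ := by rw [h3]; group
      _ = u * (g * w * g⁻¹) := by rw [hg'.2]; group)
  have h2 : P ⊓ (centralizer (K : Set G) ⊓ centralizer ({y} : Set G)) =
      P ⊓ centralizer (K : Set G) := by
    ext g
    constructor
    · rintro ⟨h3, h4, -⟩
      exact ⟨h3, h4⟩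
    · rintro ⟨h3, h4⟩
      exact ⟨h3, h4, mem_centralizer_singleton_iff.mpr ((H.Y_comm h4).mp (H.Pu h3))⟩
  rwa [h2] at h1

omit [Finite G] in
theorem sq_pow {g : G} (h : Hyp K z p m n) (hg : g * g = z) : g ^ 2 ^ 2 = 1 := by
  have : g ^ 2 ^ 2 = (g * g) * (g * g) := by
    rw [show (2 : ℕ) ^ 2 = 4 by norm_num, pow_succ, pow_succ, pow_succ, pow_succ, pow_zero]; group
  rw [this, hg, h.zz]

theorem kP (H : InnPair K z u x P T p m n d m' n' k y) : k ∈ P := by
  refine (mem_of_central H.sylA ⟨H.kK, mem_centralizer_singleton_iff.mpr rfl⟩ (fun g hg => ?_)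
    (isPGroup_of_pow (sq_pow H.hyp H.kk))).1
  exact (mem_centralizer_singleton_iff.mp hg.2).symm

theorem yP (H : InnPair K z u x P T p m n d m' n' k y) : y ∈ P := by
  refine (mem_of_central H.sylB ⟨H.yY, mem_centralizer_singleton_iff.mpr rfl⟩ (fun g hg => ?_)
    (isPGroup_of_pow (sq_pow H.hyp H.yy))).1
  exact (mem_centralizer_singleton_iff.mp hg.2).symm

theorem cardA (H : InnPair K z u x P T p m n d m' n' k y) :
    Nat.card (P ⊓ K : Subgroup G) = 2 ^ d :=
  card_isSyl2 H.sylA (by rw [H.hyp.card4 H.kK H.kk, H.hm]) H.hm'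

/-- (I1) -/
theorem B1 (H : InnPair K z u x P T p m n d m' n' k y) {b : G} (hb : b ∈ P)
    (hbY : x⁻¹ * b * x ∈ centralizer (K : Set G)) : b * k = k * b := by
  obtain ⟨c, hc⟩ : ∃ c, c = x * y * x⁻¹ := ⟨_, rfl⟩
  have hcP : c ∈ P := by rw [hc]; exact H.hP _ H.yP
  have hcc : c * c = u := by
    rw [hc, ← H.hz, ← H.yy]; group
  have hbc : b * c = c * b := by
    have h1 := (H.Y_comm hbY).mp (H.Pu (H.inv_mem hb))
    rw [hc]
    calc b * (x * y * x⁻¹) = x * ((x⁻¹ * b * x) * y) * x⁻¹ := by group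
      _ = x * (y * (x⁻¹ * b * x)) * x⁻¹ := by rw [h1]
      _ = x * y * x⁻¹ * b := by group
  have hck : c * k * c⁻¹ = k := by
    rcases H.pm (H.PM hcP) (H.Pu hcP) with h1 | h1
    · exact h1
    · exfalso
      have h2 := (H.hyp.invt H.kK H.kk (H.PM hcP) h1).2
      rw [hcc] at h2
      exact H.uY h2
  rcases H.pm (H.PM hb) (H.Pu hb) with h1 | h1
  · exact mul_inv_eq_iff_eq_mul.mp h1
  · exfalso
    have h2 := (H.hyp.invt H.kK H.kk (H.PM hb) h1).2
    have h3 : (b * c) * k * (b * c)⁻¹ = k⁻¹ := by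
      calc (b * c) * k * (b * c)⁻¹ = b * (c * k * c⁻¹) * b⁻¹ := by group
        _ = k⁻¹ := by rw [hck, h1]
    have h4 := (H.hyp.invt H.kK H.kk (H.PM (P.mul_mem hb hcP)) h3).2
    have h5 : b * c * (b * c) = (b * b) * u := by
      calc b * c * (b * c) = b * (c * b) * c := by group
        _ = (b * b) * (c * c) := by rw [← hbc]; group
        _ = (b * b) * u := by rw [hcc]
    rw [h5] at h4
    exact H.uY ((Subgroup.mul_mem_cancel_left _ h2).mp h4)

theorem cardB_le (H : InnPair K z u x P T p m n d m' n' k y) :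
    Nat.card (P ⊓ centralizer (K : Set G) : Subgroup G) ∣ 2 ^ d := by
  have hpf : Fact (Nat.Prime 2) := ⟨Nat.prime_two⟩
  set B := cj x (P ⊓ centralizer (K : Set G)) with hB
  have hBP : B ≤ P := by
    rw [hB, ← H.cjP]
    exact cj_mono (by rw [H.cjP]; exact inf_le_left)
  have hBY : ∀ b ∈ B, x⁻¹ * b * x ∈ centralizer (K : Set G) := by
    intro b hb
    exact (mem_cj.mp hb).2
  have h1 := H.hyp.card_dvd4 (T := B) (fun b hb => H.PM (hBP hb)) H.kK H.kk
    (fun b hb => H.B1 (hBP hb) (hBY b hb))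
  have h2 : B ⊓ centralizer (K : Set G) = ⊥ := by
    rw [eq_bot_iff]
    rintro b ⟨hb, hbK⟩
    rw [mem_bot]
    exact H.inter_Y (hBP hb) hbK (hBY b hb)
  rw [h2, Subgroup.card_bot, mul_one, hB, card_cj, H.hm] at h1
  obtain ⟨a, ha⟩ := IsPGroup.iff_card.mp (H.syl.two.to_le
    (inf_le_left : P ⊓ centralizer (K : Set G) ≤ P))
  rw [ha] at h1 ⊢
  exact (Nat.Coprime.pow_left a H.hm'.coprime_two_left).dvd_of_dvd_mul_right h1

/-- `F = C_P(k)` -/
theorem F_facts (H : InnPair K z u x P T p m n d m' n' k y) :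
    Nat.card (P ⊓ centralizer ({k} : Set G) : Subgroup G) = 2 ^ d * 2 ^ d ∧
    Nat.card (P ⊓ centralizer (K : Set G) : Subgroup G) = 2 ^ d ∧
    ∀ f ∈ P, f * k = k * f → ∃ a ∈ P ⊓ K, ∃ b ∈ P ⊓ cj x K, f = a * b := by
  have hpf : Fact (Nat.Prime 2) := ⟨Nat.prime_two⟩
  set F : Subgroup G := P ⊓ centralizer ({k} : Set G) with hF
  obtain ⟨c1, c2⟩ := comm_of_ne H.hyp (g := x) (by rw [H.hz]; exact H.ne) H.syl.two
    (fun a ha => H.Pz ha) (fun a ha => by rw [H.hz]; exact H.Pu ha)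
  have hA1 : Nat.card (P ⊓ cj x K : Subgroup G) = 2 ^ d := by
    have : cj x (P ⊓ K) = P ⊓ cj x K := by rw [cj_inf, H.cjP]
    rw [← this, card_cj, H.cardA]
  have hup : Nat.card F ∣ 2 ^ d * Nat.card (P ⊓ centralizer (K : Set G) : Subgroup G) := by
    have h1 := H.hyp.card_dvd4 (T := F) (fun f hf => H.PM hf.1) H.kK H.kk
      (fun f hf => mem_centralizer_singleton_iff.mp hf.2)
    have h2 : F ⊓ centralizer (K : Set G) = P ⊓ centralizer (K : Set G) := by
      ext g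
      constructor
      · rintro ⟨h3, h4⟩
        exact ⟨h3.1, h4⟩
      · rintro ⟨h3, h4⟩
        exact ⟨⟨h3, mem_centralizer_singleton_iff.mpr (comm H.kK h4).symm⟩, h4⟩
    rw [h2, H.hm] at h1
    obtain ⟨a, ha⟩ := IsPGroup.iff_card.mp (H.syl.two.to_le (inf_le_left : F ≤ P))
    rw [ha] at h1 ⊢
    refine (Nat.Coprime.pow_left a H.hm'.coprime_two_left).dvd_of_dvd_mul_right ?_
    have e : 2 ^ d * Nat.card (P ⊓ centralizer (K : Set G) : Subgroup G) * m' =
      2 ^ d * m' * Nat.card (P ⊓ centralizer (K : Set G) : Subgroup G) := by ring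
    rw [e]; exact h1
  have hBle : Nat.card (P ⊓ centralizer (K : Set G) : Subgroup G) ≤ 2 ^ d :=
    Nat.le_of_dvd (by positivity) H.cardB_le
  -- the product map
  let φ : (P ⊓ K : Subgroup G) × (P ⊓ cj x K : Subgroup G) → F := fun ab =>
    ⟨ab.1.1 * ab.2.1, P.mul_mem ab.1.2.1 ab.2.2.1, by
      show ab.1.1 * ab.2.1 ∈ centralizer ({k} : Set G)
      rw [mem_centralizer_singleton_iff]
      have h1 := (H.K_comm ab.1.2.2).mp (H.Pu ab.1.2.1)
      have h2 := c2 k H.kP H.kK ab.2.1 ab.2.2.1 ab.2.2.2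
      calc ab.1.1 * ab.2.1 * k = ab.1.1 * (k * ab.2.1) := by rw [h2]; group
        _ = (ab.1.1 * k) * ab.2.1 := by group
        _ = k * (ab.1.1 * ab.2.1) := by rw [h1]; group⟩
  have hφ : Function.Injective φ := by
    rintro ⟨a, b⟩ ⟨a', b'⟩ hab
    have h1 : a.1 * b.1 = a'.1 * b'.1 := congrArg Subtype.val hab
    have h2 : a'.1⁻¹ * a.1 = b'.1 * b.1⁻¹ := by
      rw [inv_mul_eq_iff_eq_mul, ← mul_assoc, ← h1]; group
    have h3 : a'.1⁻¹ * a.1 = 1 := by
      refine c1 _ (P.mul_mem (P.inv_mem a'.2.1) a.2.1) (K.mul_mem (K.inv_mem a'.2.2) a.2.2) ?_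
      rw [h2]
      exact Subgroup.mul_mem _ b'.2.2 (Subgroup.inv_mem _ b.2.2)
    have h4 : b'.1 * b.1⁻¹ = 1 := by rw [← h2, h3]
    refine Prod.ext (Subtype.ext (inv_mul_eq_one.mp h3).symm) (Subtype.ext (mul_inv_eq_one.mp h4).symm)
  have h1 := Nat.card_le_card_of_injective φ hφ
  rw [Nat.card_prod, H.cardA, hA1] at h1
  have h2 := Nat.le_of_dvd (Nat.mul_pos (by positivity) Nat.card_pos) hup
  have h3 : 2 ^ d * Nat.card (P ⊓ centralizer (K : Set G) : Subgroup G) ≤ 2 ^ d * 2 ^ d :=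
    Nat.mul_le_mul_left _ hBle
  have h4 : Nat.card F = 2 ^ d * 2 ^ d := le_antisymm (h2.trans h3) h1
  refine ⟨h4, ?_, ?_⟩
  · refine le_antisymm hBle ?_
    rw [h4] at h2
    exact Nat.le_of_mul_le_mul_left h2 (by positivity)
  · intro f hf hfk
    have h5 : Function.Bijective φ := by
      refine (Nat.bijective_iff_injective_and_card _).mpr ⟨hφ, ?_⟩
      rw [Nat.card_prod, H.cardA, hA1, h4]
    obtain ⟨⟨a, b⟩, hab⟩ := h5.2 ⟨f, hf, mem_centralizer_singleton_iff.mpr hfk⟩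
    exact ⟨a.1, a.2, b.1, b.2, (congrArg Subtype.val hab).symm⟩

theorem cross (H : InnPair K z u x P T p m n d m' n' k y) {a b : G} (ha : a ∈ P ⊓ K)
    (hb : b ∈ P ⊓ cj x K) : Commute a b :=
  (comm_of_ne H.hyp (g := x) (by rw [H.hz]; exact H.ne) H.syl.two
    (fun a ha => H.Pz ha) (fun a ha => by rw [H.hz]; exact H.Pu ha)).2 a ha.1 ha.2 b hb.1 hb.2

omit [Finite G] in
theorem A_comm (H : InnPair K z u x P T p m n d m' n' k y) {a b : G} (ha : a ∈ P ⊓ K)
    (hb : b ∈ P ⊓ K) : Commute a b :=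
  H.hyp.comm4 H.kK H.kk ha.2 hb.2 ((H.K_comm ha.2).mp (H.Pu ha.1))
    ((H.K_comm hb.2).mp (H.Pu hb.1))

theorem A1_mem (H : InnPair K z u x P T p m n d m' n' k y) {b : G} (hb : b ∈ P ⊓ cj x K) :
    x⁻¹ * b * x ∈ P ⊓ K := ⟨H.inv_mem hb.1, mem_cj.mp hb.2⟩

theorem F_comm (H : InnPair K z u x P T p m n d m' n' k y) {f g : G} (hf : f ∈ P)
    (hfk : f * k = k * f) (hg : g ∈ P) (hgk : g * k = k * g) : f * g = g * f := by
  obtain ⟨a, ha, b, hb, rfl⟩ := H.F_facts.2.2 f hf hfk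
  obtain ⟨a', ha', b', hb', rfl⟩ := H.F_facts.2.2 g hg hgk
  have h1 : Commute b b' := by
    have h2 := (H.A_comm (H.A1_mem hb) (H.A1_mem hb')).eq
    calc b * b' = x * ((x⁻¹ * b * x) * (x⁻¹ * b' * x)) * x⁻¹ := by group
      _ = x * ((x⁻¹ * b' * x) * (x⁻¹ * b * x)) * x⁻¹ := by rw [h2]
      _ = b' * b := by group
  exact (((H.A_comm ha ha').mul_right (H.cross ha hb')).mul_left
    ((H.cross ha' hb).symm.mul_right h1)).eq

theorem F_inv (H : InnPair K z u x P T p m n d m' n' k y) {f : G} (hf : f ∈ P)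
    (hfk : f * k = k * f) (hff : f * f = 1) : f = 1 ∨ f = z ∨ f = u ∨ f = u * z := by
  obtain ⟨a, ha, b, hb, rfl⟩ := H.F_facts.2.2 f hf hfk
  have hab := (H.cross ha hb).eq
  have h1 : a * a * (b * b) = 1 := by
    calc a * a * (b * b) = a * (a * b) * b := by group
      _ = a * (b * a) * b := by rw [hab]
      _ = 1 := by rw [← hff]; group
  have h2 : a * a = (b * b)⁻¹ := eq_inv_of_mul_eq_one_left h1
  have h3 : a * a = 1 := by
    refine (comm_of_ne H.hyp (g := x) (by rw [H.hz]; exact H.ne) H.syl.two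
      (fun a ha => H.Pz ha) (fun a ha => by rw [H.hz]; exact H.Pu ha)).1 _
      (P.mul_mem ha.1 ha.1) (K.mul_mem ha.2 ha.2) ?_
    rw [h2]
    exact Subgroup.inv_mem _ (Subgroup.mul_mem _ hb.2 hb.2)
  have h4 : b * b = 1 := by rw [h3, one_mul] at h1; exact h1
  rcases H.hyp.eq_z ha.2 h3 with h5 | h5 <;> rcases H.hyp_u.eq_z hb.2 h4 with h6 | h6
  · left; rw [h5, h6, one_mul]
  · right; right; left; rw [h5, h6, one_mul]
  · right; left; rw [h5, h6, mul_one]
  · right; right; right; rw [h5, h6, H.com]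

theorem F_conj (H : InnPair K z u x P T p m n d m' n' k y) {f : G} (hf : f ∈ P)
    (hfk : f * k = k * f) : (x * f * x⁻¹) * k = k * (x * f * x⁻¹) := by
  obtain ⟨a, ha, b, hb, rfl⟩ := H.F_facts.2.2 f hf hfk
  have hkA : k ∈ P ⊓ K := ⟨H.kP, H.kK⟩
  have h1 : Commute k (x * a * x⁻¹) := H.cross hkA ⟨H.hP _ ha.1, conj_mem_cj ha.2⟩
  have h2 : Commute k (x * b * x⁻¹) := by
    have hne : (x * x) * z * (x * x)⁻¹ = u * z := by
      calc (x * x) * z * (x * x)⁻¹ = x * (x * z * x⁻¹) * x⁻¹ := by group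
        _ = u * z := by rw [H.hz, H.hu]
    refine (comm_of_ne H.hyp (g := x * x) ?_ H.syl.two (fun a ha => H.Pz ha)
      (fun a ha => ?_)).2 k H.kP H.kK _ (H.hP _ hb.1) ?_
    · rw [hne]
      intro h3
      exact H.u_ne (mul_eq_right.mp h3)
    · rw [hne, ← mul_assoc, H.Pu ha, mul_assoc, H.Pz ha, mul_assoc]
    · rw [cj_mul]; exact conj_mem_cj hb.2
  have h3 := (h1.mul_right h2).eq
  have e : x * (a * b) * x⁻¹ = (x * a * x⁻¹) * (x * b * x⁻¹) := by group
  rw [e]; exact h3.symm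

theorem F_conj_inv (H : InnPair K z u x P T p m n d m' n' k y) {f : G} (hf : f ∈ P)
    (hfk : f * k = k * f) : (x⁻¹ * f * x) * k = k * (x⁻¹ * f * x) := by
  have h1 : x ∈ normalizer ((P ⊓ centralizer ({k} : Set G) : Subgroup G) : Set G) :=
    mem_normalizer_of_forall fun g hg => ⟨H.hP _ hg.1, mem_centralizer_singleton_iff.mpr
      (H.F_conj hg.1 (mem_centralizer_singleton_iff.mp hg.2))⟩
  have h2 := forall_of_mem_normalizer (Subgroup.inv_mem _ h1) f
    ⟨hf, mem_centralizer_singleton_iff.mpr hfk⟩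
  rw [inv_inv] at h2
  exact mem_centralizer_singleton_iff.mp h2.2

omit [Finite G] in
theorem outF (H : InnPair K z u x P T p m n d m' n' k y) {v : G} (hv : v ∈ P)
    (hvk : v * k ≠ k * v) : v * k * v⁻¹ = k⁻¹ := by
  rcases H.pm (H.PM hv) (H.Pu hv) with h1 | h1
  · exact absurd (mul_inv_eq_iff_eq_mul.mp h1) hvk
  · exact h1

omit [Finite G] in
theorem of_inv (H : InnPair K z u x P T p m n d m' n' k y) {v : G}
    (hv : v * k * v⁻¹ = k⁻¹) : v * k ≠ k * v := by
  intro h1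
  rw [h1, mul_inv_cancel_right] at hv
  exact H.hyp.k_ne H.kk hv

/-- the elements of `P - F` invert `F` -/
theorem inv_F (H : InnPair K z u x P T p m n d m' n' k y) {v f : G} (hv : v ∈ P)
    (hvk : v * k ≠ k * v) (hf : f ∈ P) (hfk : f * k = k * f) : v * f * v⁻¹ = f⁻¹ := by
  have key : ∀ v ∈ P, v * k ≠ k * v → ∀ a ∈ P ⊓ K, v * a * v⁻¹ = a⁻¹ := by
    intro v hv hvk a ha
    exact (H.hyp.invt H.kK H.kk (H.PM hv) (H.outF hv hvk)).1 a ha.2
      ((H.K_comm ha.2).mp (H.Pu ha.1))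
  obtain ⟨a, ha, b, hb, rfl⟩ := H.F_facts.2.2 f hf hfk
  have h1 := key v hv hvk a ha
  have h2 : v * b * v⁻¹ = b⁻¹ := by
    have h3 := key (x⁻¹ * v * x) (H.inv_mem hv) (fun h3 => by
      apply hvk
      have h4 := H.F_conj (H.inv_mem hv) h3
      have e : x * (x⁻¹ * v * x) * x⁻¹ = v := by group
      rwa [e] at h4) (x⁻¹ * b * x) (H.A1_mem hb)
    calc v * b * v⁻¹ = x * ((x⁻¹ * v * x) * (x⁻¹ * b * x) * (x⁻¹ * v * x)⁻¹) * x⁻¹ := by group
      _ = b⁻¹ := by rw [h3]; group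
  have hab := (H.cross ha hb).eq
  calc v * (a * b) * v⁻¹ = (v * a * v⁻¹) * (v * b * v⁻¹) := by group
    _ = a⁻¹ * b⁻¹ := by rw [h1, h2]
    _ = (a * b)⁻¹ := by rw [hab]; group

/-- (I4) the elements of `P - F` are involutions -/
theorem sq_one (H : InnPair K z u x P T p m n d m' n' k y) {v : G} (hv : v ∈ P)
    (hvk : v * k ≠ k * v) : v * v = 1 := by
  have h1 := H.outF hv hvk
  have h1' : v * k⁻¹ * v⁻¹ = k := by
    have : v * k⁻¹ * v⁻¹ = (v * k * v⁻¹)⁻¹ := by group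
    rw [this, h1, inv_inv]
  have h1'' : v⁻¹ * k⁻¹ * v = k := by
    rw [← h1]; group
  have hvv : (v * v) * k = k * (v * v) := by
    rw [← mul_inv_eq_iff_eq_mul]
    calc v * v * k * (v * v)⁻¹ = v * (v * k * v⁻¹) * v⁻¹ := by group
      _ = k := by rw [h1, h1']
  have h2 := H.inv_F hv hvk (P.mul_mem hv hv) hvv
  have h3 : (v * v) * (v * v) = 1 := by
    have e : v * (v * v) * v⁻¹ = v * v := by group
    rw [e] at h2
    nth_rw 2 [h2]
    exact mul_inv_cancel _
  -- `x` fixes `v²`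
  have h4 : x * (v * v) * x⁻¹ = v * v := by
    obtain ⟨w, hw⟩ : ∃ w, w = x * v * x⁻¹ := ⟨_, rfl⟩
    have hwP : w ∈ P := by rw [hw]; exact H.hP _ hv
    have hwk : w * k ≠ k * w := by
      intro h5
      have h6 := H.F_conj_inv hwP h5
      have e : x⁻¹ * w * x = v := by rw [hw]; group
      rw [e] at h6
      exact hvk h6
    have h5 := H.outF hwP hwk
    obtain ⟨f, hf⟩ : ∃ f, f = v⁻¹ * w := ⟨_, rfl⟩
    have hfk : f * k = k * f := by
      rw [← mul_inv_eq_iff_eq_mul, hf]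
      calc v⁻¹ * w * k * (v⁻¹ * w)⁻¹ = v⁻¹ * (w * k * w⁻¹) * v := by group
        _ = k := by rw [h5, h1'']
    have hfP : f ∈ P := by rw [hf]; exact P.mul_mem (P.inv_mem hv) hwP
    have h6 := H.inv_F hv hvk hfP hfk
    have h7 : f * v * f = v := by
      have : v * f = f⁻¹ * v := mul_inv_eq_iff_eq_mul.mp h6
      rw [mul_assoc, this]; group
    have h8 : w = v * f := by rw [hf]; group
    have h9 : w * w = v * v := by
      calc w * w = v * (f * v * f) := by rw [h8]; group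
        _ = v * v := by rw [h7]
    calc x * (v * v) * x⁻¹ = w * w := by rw [hw]; group
      _ = v * v := h9
  rcases H.F_inv (P.mul_mem hv hv) hvv h3 with h5 | h5 | h5 | h5
  · exact h5
  · rw [h5, H.hz] at h4
    exact absurd h4 H.ne
  · rw [h5, H.hu] at h4
    exact absurd (mul_eq_left.mp h4) H.hyp.z_ne
  · rw [h5, H.huz] at h4
    exact absurd (mul_eq_right.mp h4.symm) H.u_ne

/-! ### the Sylow subgroup `Q = T ∩ K` -/

theorem cardQ (H : InnPair K z u x P T p m n d m' n' k y) :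
    Nat.card (T ⊓ K : Subgroup G) = 2 ^ (d + 1) :=
  H.hyp.card_Q H.sylT H.hm H.hn H.hm' H.hn' H.odd_p

omit [Finite G] in
theorem QA (H : InnPair K z u x P T p m n d m' n' k y) {q : G} (hq : q ∈ T) (hqK : q ∈ K)
    (hqk : q * k = k * q) : q ∈ P := H.mem_P hq ((H.K_comm hqK).mpr hqk)

/-- elements of `Q` outside `P` -/
theorem Q_out (H : InnPair K z u x P T p m n d m' n' k y) {q : G} (hq : q ∈ T) (hqK : q ∈ K)
    (hqk : q * k ≠ k * q) : q * k * q⁻¹ = k⁻¹ ∧ q * q = z := by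
  have h1 : q * k * q⁻¹ = k⁻¹ := by
    set A : Subgroup (T ⊓ K : Subgroup G) := (P ⊓ K).subgroupOf (T ⊓ K) with hA
    have hle : P ⊓ K ≤ T ⊓ K := inf_le_inf_right K H.le
    have hidx : A.index = 2 := by
      have h2 := T1Tools.card_mul_relIndex hle
      rw [H.cardA, H.cardQ, pow_succ] at h2
      exact Nat.eq_of_mul_eq_mul_left (by positivity) h2
    have hmem : ∀ g : (T ⊓ K : Subgroup G), g ∈ A ↔ (g : G) * k = k * g := by
      intro g
      rw [hA, mem_subgroupOf]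
      constructor
      · intro h2
        exact (H.K_comm h2.2).mp (H.Pu h2.1)
      · intro h2
        exact ⟨H.QA g.2.1 g.2.2 h2, g.2.2⟩
    let qq : (T ⊓ K : Subgroup G) := ⟨q, hq, hqK⟩
    let kk : (T ⊓ K : Subgroup G) := ⟨k, H.le H.kP, H.kK⟩
    have hq' : qq ∉ A := fun h2 => hqk ((hmem qq).mp h2)
    have hk' : kk ∈ A := (hmem kk).mpr rfl
    have h2 : qq * kk ∉ A := by
      rw [Subgroup.mul_mem_iff_of_index_two hidx]
      tauto
    have h3 : qq⁻¹ ∉ A := fun h3 => hq' (by rw [← inv_inv qq]; exact A.inv_mem h3)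
    have h4 : qq * kk * qq⁻¹ ∈ A := by
      rw [Subgroup.mul_mem_iff_of_index_two hidx]
      tauto
    have h5 : (q * k * q⁻¹) * k = k * (q * k * q⁻¹) := (hmem _).mp h4
    have h6 : (q * k * q⁻¹) * (q * k * q⁻¹) = z := by
      calc (q * k * q⁻¹) * (q * k * q⁻¹) = q * (k * k) * q⁻¹ := by group
        _ = z := by rw [H.kk]; exact H.hyp.conj_z (le_normalizer hqK)
    rcases H.hyp.sqz H.kK (mem_norm (le_normalizer hqK) H.kK) H.kk h6 h5 with h7 | h7
    · exact absurd (mul_inv_eq_iff_eq_mul.mp h7) hqk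
    · exact h7
  refine ⟨h1, ?_⟩
  have h2 := (H.hyp.invt H.kK H.kk (le_normalizer hqK) h1).2
  rcases H.hyp.inter (K.mul_mem hqK hqK) h2 with h3 | h3
  · exfalso
    apply hqk
    rcases H.hyp.eq_z hqK h3 with h4 | h4
    · rw [h4, one_mul, mul_one]
    · rw [h4]; exact (comm H.kK H.hyp.zY).symm
  · exact h3

theorem exists_k1 (H : InnPair K z u x P T p m n d m' n' k y) : ∃ q ∈ T, q ∈ K ∧
    q * k * q⁻¹ = k⁻¹ ∧ q * q = z := by
  by_contra hcon
  push Not at hcon
  have h1 : T ⊓ K ≤ P ⊓ K := by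
    intro q hq
    refine ⟨?_, hq.2⟩
    by_cases hqk : q * k = k * q
    · exact H.QA hq.1 hq.2 hqk
    · obtain ⟨h2, h3⟩ := H.Q_out hq.1 hq.2 hqk
      exact absurd h3 (hcon q hq.1 hq.2 h2)
  have h2 := Subgroup.card_le_of_le h1
  rw [H.cardQ, H.cardA, pow_succ] at h2
  have : 0 < 2 ^ d := by positivity
  omega

/-! ### the Sylow subgroup `R = T ∩ Y` -/

omit [Finite G] in
theorem RB (H : InnPair K z u x P T p m n d m' n' k y) {r : G} (hr : r ∈ T)
    (hrY : r ∈ centralizer (K : Set G)) (hry : r * y = y * r) : r ∈ P :=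
  H.mem_P hr ((H.Y_comm hrY).mpr hry)

omit [Finite G] in
theorem Y_k (H : InnPair K z u x P T p m n d m' n' k y) {r : G}
    (hrY : r ∈ centralizer (K : Set G)) : r * k = k * r := (comm H.kK hrY).symm

theorem Y_inv (H : InnPair K z u x P T p m n d m' n' k y) {b : G} (hb : b ∈ P)
    (hbY : b ∈ centralizer (K : Set G)) (hbb : b * b = 1) : b = 1 ∨ b = z := by
  rcases H.F_inv hb (H.Y_k hbY) hbb with h1 | h1 | h1 | h1
  · exact Or.inl h1
  · exact Or.inr h1
  · rw [h1] at hbY; exact absurd hbY H.uY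
  · rw [h1] at hbY
    exact absurd ((Subgroup.mul_mem_cancel_right _ H.hyp.zY).mp hbY) H.uY

theorem y_sq (H : InnPair K z u x P T p m n d m' n' k y) {b : G} (hb : b ∈ P)
    (hbY : b ∈ centralizer (K : Set G)) (hbb : b * b = z) : b = y ∨ b = y⁻¹ := by
  have h1 := H.F_comm hb (H.Y_k hbY) H.yP (H.Y_k H.yY)
  have h2 : (b * y) * (b * y) = 1 := by
    calc (b * y) * (b * y) = b * (y * b) * y := by group
      _ = b * (b * y) * y := by rw [h1]
      _ = (b * b) * (y * y) := by group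
      _ = 1 := by rw [hbb, H.yy, H.hyp.zz]
  rcases H.Y_inv (P.mul_mem hb H.yP) (Subgroup.mul_mem _ hbY H.yY) h2 with h3 | h3
  · right; exact eq_inv_of_mul_eq_one_left h3
  · left
    rw [← H.yy] at h3
    exact mul_right_cancel h3

end InnPair

end Cfsg.Agent.OddCyclic.CompSL2Amb
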