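import Cfsg.Agent.OddCyclic.CompSL2Inner

/-!
# S0342, case C: inner pairs, the Sylow subgroup of `C(K)`

(I3), (I5) of blueprints/S0342-caseC.md: `R = T ∩ C(K)` has order `2 |C_R(y)|`.
-/

set_option autoImplicit false

namespace Cfsg.Agent.OddCyclic.CompSL2Amb

open Subgroup Cfsg
open Cfsg.Agent.OddCyclic.T1Defs Cfsg.Agent.OddCyclic.CompBasic
open Cfsg.Agent.OddCyclic.CompStandard Cfsg.Agent.OddCyclic.CompSL2Facts
open Cfsg.Agent.LieExceptional Cfsg.Agent.LieExceptional.CITDefs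
open Cfsg.Agent.LieExceptional.CITBasic

variable {G : Type*} [Group G] [Finite G] {K : Subgroup G} {z : G} {p m n : ℕ}

omit [Finite G] in
theorem exists_pow_sq {R1 : Subgroup G} {g : G} {j : ℕ} (hg : g ∉ R1) (hj : g ^ 2 ^ j = 1) :
    ∃ i : ℕ, g ^ i ∉ R1 ∧ g ^ i * g ^ i ∈ R1 := by
  classical
  have hex : ∃ j : ℕ, g ^ 2 ^ j ∈ R1 := ⟨j, by rw [hj]; exact one_mem _⟩
  have h1 := Nat.find_spec hex
  have h2 : Nat.find hex ≠ 0 := by
    intro h0
    rw [h0, pow_zero, pow_one] at h1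
    exact hg h1
  obtain ⟨i, hi⟩ := Nat.exists_eq_succ_of_ne_zero h2
  refine ⟨2 ^ i, Nat.find_min hex (by omega), ?_⟩
  rw [← sq, ← pow_mul, ← pow_succ]
  rw [hi] at h1
  exact h1

namespace InnPair

variable {u x : G} {P T : Subgroup G} {d m' n' : ℕ} {k y : G}

theorem card_T_le (H : InnPair K z u x P T p m n d m' n' k y) :
    Nat.card T ≤ 2 ^ (d + 1) * Nat.card (T ⊓ centralizer (K : Set G) : Subgroup G) := by
  have hpf : Fact (Nat.Prime 2) := ⟨Nat.prime_two⟩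
  have h1 := H.hyp.card_dvd H.sylT.le
  rw [H.hyp.card_K H.hm H.hn] at h1
  obtain ⟨a, ha⟩ := IsPGroup.iff_card.mp H.sylT.two
  refine Nat.le_of_dvd (Nat.mul_pos (by positivity) Nat.card_pos) ?_
  rw [ha] at h1 ⊢
  have hodd : Odd (p * m' * n') := (H.odd_p.mul H.hm').mul H.hn'
  refine (Nat.Coprime.pow_left a hodd.coprime_two_left).dvd_of_dvd_mul_right ?_
  have e : 2 ^ (d + 1) * Nat.card (T ⊓ centralizer (K : Set G) : Subgroup G) * (p * m' * n') =
    2 ^ (d + 1) * (p * m' * n') * Nat.card (T ⊓ centralizer (K : Set G) : Subgroup G) := by ring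
  rw [e]; exact h1

omit [Finite G] in
theorem elem4 {V : Subgroup G}
    (hV : ∀ v ∈ V, v = 1 ∨ v = z ∨ v = u ∨ v = u * z) :
    Nat.card V ≤ 4 ∧ (Nat.card V = 4 → u ∈ V) := by
  classical
  have h1 : (V : Set G) ⊆ ({1, z, u, u * z} : Finset G) := by
    intro v hv
    rcases hV v hv with h | h | h | h <;> simp [h]
  have h2 : Nat.card V = (V : Set G).ncard := rfl
  have h3 : (V : Set G).ncard ≤ ({1, z, u, u * z} : Finset G).card := by
    rw [← Set.ncard_coe_finset]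
    exact Set.ncard_le_ncard h1 (Finset.finite_toSet _)
  have h4 : ({1, z, u, u * z} : Finset G).card ≤ 4 := Finset.card_le_four
  refine ⟨by omega, fun h5 => ?_⟩
  have h6 : (V : Set G) = (({1, z, u, u * z} : Finset G) : Set G) := by
    apply Set.eq_of_subset_of_ncard_le h1 _ (Finset.finite_toSet _)
    rw [Set.ncard_coe_finset]
    omega
  have h7 : u ∈ (({1, z, u, u * z} : Finset G) : Set G) := by simp
  rw [← h6] at h7
  exact h7

/-- `R ≠ C_R(y)`, as `T` has 2-rank at least 3 -/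
theorem exists_not_mem (H : InnPair K z u x P T p m n d m' n' k y)
    (hV : ∃ V : Subgroup G, V ≤ T ∧ Elem V ∧ Nat.card V = 8) :
    ∃ r ∈ T, r ∈ centralizer (K : Set G) ∧ r ∉ P := by
  have hpf : Fact (Nat.Prime 2) := ⟨Nat.prime_two⟩
  by_contra hcon
  push Not at hcon
  have hR : T ⊓ centralizer (K : Set G) = P ⊓ centralizer (K : Set G) :=
    le_antisymm (fun r hr => ⟨hcon r hr.1 hr.2, hr.2⟩) (inf_le_inf_right _ H.le)
  -- `C_T(k) = C_P(k)`
  have hTk : ∀ t ∈ T, t * k = k * t → t ∈ P := by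
    have h1 := H.hyp.card_dvd4 (T := T ⊓ centralizer ({k} : Set G))
      (inf_le_left.trans H.sylT.le) H.kK H.kk
      (fun t ht => mem_centralizer_singleton_iff.mp ht.2)
    have h2 : T ⊓ centralizer ({k} : Set G) ⊓ centralizer (K : Set G) =
        P ⊓ centralizer (K : Set G) := by
      rw [← hR]
      ext g
      constructor
      · rintro ⟨h3, h4⟩
        exact ⟨h3.1, h4⟩
      · rintro ⟨h3, h4⟩
        exact ⟨⟨h3, mem_centralizer_singleton_iff.mpr (H.Y_k h4)⟩, h4⟩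
    rw [h2, H.F_facts.2.1, H.hm] at h1
    obtain ⟨a, ha⟩ := IsPGroup.iff_card.mp
      (H.sylT.two.to_le (inf_le_left : T ⊓ centralizer ({k} : Set G) ≤ T))
    rw [ha] at h1
    have h3 : 2 ^ a ∣ 2 ^ d * 2 ^ d := by
      refine (Nat.Coprime.pow_left a H.hm'.coprime_two_left).dvd_of_dvd_mul_right ?_
      have e : 2 ^ d * 2 ^ d * m' = 2 ^ d * m' * 2 ^ d := by ring
      rw [e]; exact h1
    have h4 : P ⊓ centralizer ({k} : Set G) = T ⊓ centralizer ({k} : Set G) := by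
      apply Subgroup.eq_of_le_of_card_ge (inf_le_inf_right _ H.le)
      rw [ha, H.F_facts.1]
      exact Nat.le_of_dvd (by positivity) h3
    intro t ht htk
    have h5 : t ∈ T ⊓ centralizer ({k} : Set G) := ⟨ht, mem_centralizer_singleton_iff.mpr htk⟩
    rw [← h4] at h5
    exact h5.1
  obtain ⟨q, hqT, hqK, hqk, hqq⟩ := H.exists_k1
  -- `P = F`
  have hPk : ∀ v ∈ P, v * k = k * v := by
    intro v hv
    by_contra hvk
    have h1 := H.outF hv hvk
    have h2 : (q⁻¹ * v) * k = k * (q⁻¹ * v) := by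
      rw [← mul_inv_eq_iff_eq_mul]
      calc q⁻¹ * v * k * (q⁻¹ * v)⁻¹ = q⁻¹ * (v * k * v⁻¹) * q := by group
        _ = k := by rw [h1, ← hqk]; group
    have h3 := hTk _ (T.mul_mem (T.inv_mem hqT) (H.le hv)) h2
    have h4 : q ∈ P := by
      have e : q = v * (q⁻¹ * v)⁻¹ := by group
      rw [e]; exact P.mul_mem hv (P.inv_mem h3)
    have h5 := (H.K_comm hqK).mp (H.Pu h4)
    exact H.of_inv hqk h5
  have hcP : Nat.card P = 2 ^ d * 2 ^ d := by
    rw [← H.F_facts.1]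
    congr 2
    apply le_antisymm _ inf_le_left
    intro v hv
    exact ⟨hv, mem_centralizer_singleton_iff.mpr (hPk v hv)⟩
  have hcT : Nat.card T ≤ 2 * Nat.card P := by
    have h1 := H.card_T_le
    rw [hR, H.F_facts.2.1, pow_succ] at h1
    rw [hcP]
    calc Nat.card T ≤ 2 ^ d * 2 * 2 ^ d := h1
      _ = 2 * (2 ^ d * 2 ^ d) := by ring
  obtain ⟨V, hVT, hVe, hVc⟩ := hV
  have h1 := T1Tools.card_le_inf H.le hVT hcT
  rw [hVc] at h1
  have h2 := elem4 (V := P ⊓ V) (fun v hv => H.F_inv hv.1 (hPk v hv.1) (hVe v hv.2))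
  have h3 : u ∈ P ⊓ V := h2.2 (by omega)
  have h4 : V ≤ P := by
    intro v hv
    exact H.mem_P (hVT hv) (hVe.comm hv h3.2)
  have h5 := elem4 (V := V) (fun v hv => H.F_inv (h4 hv) (hPk v (h4 hv)) (hVe v hv))
  omega

/-- (I3) there is `r ∈ R` inverting `y` -/
theorem exists_w (H : InnPair K z u x P T p m n d m' n' k y)
    (hV : ∃ V : Subgroup G, V ≤ T ∧ Elem V ∧ Nat.card V = 8) :
    ∃ r ∈ T, r ∈ centralizer (K : Set G) ∧ r * y * r⁻¹ = y⁻¹ := by
  have hpf : Fact (Nat.Prime 2) := ⟨Nat.prime_two⟩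
  obtain ⟨r, hrT, hrY, hrP⟩ := H.exists_not_mem hV
  by_contra hcon
  push Not at hcon
  have h1 : T ⊓ centralizer (K : Set G) = P ⊓ centralizer (K : Set G) := by
    refine Cfsg.Agent.Blocks.SylowIn.eq_of_normalizer_inf_le (p := 2)
      (H.sylT.two.to_le inf_le_left) (inf_le_inf_right _ H.le) ?_
    rintro g ⟨hg, hgT, hgY⟩
    refine ⟨?_, hgY⟩
    have h2 := forall_of_mem_normalizer hg y ⟨H.yP, H.yY⟩
    have h3 : g * y * g⁻¹ * (g * y * g⁻¹) = z := by
      calc g * y * g⁻¹ * (g * y * g⁻¹) = g * (y * y) * g⁻¹ := by group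
        _ = z := by rw [H.yy]; exact H.hyp.conj_z (centralizer_le_normalizer _ hgY)
    rcases H.y_sq h2.1 h2.2 h3 with h4 | h4
    · exact H.RB hgT hgY (mul_inv_eq_iff_eq_mul.mp h4)
    · exact absurd h4 (hcon g hgT hgY)
  have h2 : r ∈ T ⊓ centralizer (K : Set G) := ⟨hrT, hrY⟩
  rw [h1] at h2
  exact hrP h2.1

/-- elements of `R` inverting `y` -/
theorem w_sq (H : InnPair K z u x P T p m n d m' n' k y) {q r : G} (hqT : q ∈ T) (hqK : q ∈ K)
    (hqk : q * k * q⁻¹ = k⁻¹) (hqq : q * q = z) (hr : r ∈ T) (hrY : r ∈ centralizer (K : Set G))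
    (hry : r * y * r⁻¹ = y⁻¹) : q * r ∈ P ∧ (q * r) * k ≠ k * (q * r) ∧ r * r = z := by
  have hqr := comm hqK hrY
  have h1 : (q * r) * u = u * (q * r) := by
    rw [← mul_inv_eq_iff_eq_mul]
    have h2 := comm hqK H.yY
    have h3 := comm H.kK hrY
    have hqy : q * y⁻¹ * q⁻¹ = y⁻¹ := by
      rw [mul_inv_eq_iff_eq_mul]
      exact comm hqK (Subgroup.inv_mem _ H.yY)
    calc q * r * u * (q * r)⁻¹ = q * (r * k * r⁻¹) * (r * y * r⁻¹) * q⁻¹ := by rw [H.uk]; group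
      _ = (q * k * q⁻¹) * (q * y⁻¹ * q⁻¹) := by rw [hry, ← h3]; group
      _ = k⁻¹ * y⁻¹ := by rw [hqk, hqy]
      _ = (k * y)⁻¹ := by rw [comm H.kK H.yY]; group
      _ = u := by rw [← H.uk]; exact inv_eq_of_mul_eq_one_right H.uu
  have h2 : q * r ∈ P := H.mem_P (T.mul_mem hqT hr) h1
  have h3 : (q * r) * k ≠ k * (q * r) := by
    refine H.of_inv ?_
    calc q * r * k * (q * r)⁻¹ = q * (r * k) * r⁻¹ * q⁻¹ := by group
      _ = q * k * q⁻¹ := by rw [H.Y_k hrY]; group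
      _ = k⁻¹ := hqk
  refine ⟨h2, h3, ?_⟩
  have h4 := H.sq_one h2 h3
  have h5 : (q * q) * (r * r) = 1 := by
    calc (q * q) * (r * r) = q * (q * r) * r := by group
      _ = q * (r * q) * r := by rw [hqr]
      _ = 1 := by rw [← h4]; group
  rw [hqq] at h5
  rw [eq_inv_of_mul_eq_one_right h5, H.hyp.z_inv]

/-- the element `f₀ = k^x` of `F` maps `r` to `r y^{±1}` -/
theorem w_f (H : InnPair K z u x P T p m n d m' n' k y) {q r : G} (hqT : q ∈ T) (hqK : q ∈ K)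
    (hqk : q * k * q⁻¹ = k⁻¹) (hqq : q * q = z) (hr : r ∈ T) (hrY : r ∈ centralizer (K : Set G))
    (hry : r * y * r⁻¹ = y⁻¹) {f : G} (hfP : f ∈ P) (hfk : f * k = k * f) (hff : f * f = u) :
    f * r * f⁻¹ = r * y ∨ f * r * f⁻¹ = r * y * z := by
  obtain ⟨h1, h2, -⟩ := H.w_sq hqT hqK hqk hqq hr hrY hry
  have hfM := H.PM hfP
  have h3 := H.inv_F h1 h2 hfP hfk
  obtain ⟨v, hv⟩ : ∃ v, v = q * r := ⟨_, rfl⟩
  rw [← hv] at h3
  have h4 : f * v * f⁻¹ = v * u := by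
    have e1 : v * f = f⁻¹ * v := mul_inv_eq_iff_eq_mul.mp h3
    have e2 : f * v = v * f⁻¹ := by
      rw [eq_mul_inv_iff_mul_eq, mul_assoc, e1, mul_inv_cancel_left]
    calc f * v * f⁻¹ = v * (f * f)⁻¹ := by rw [e2]; group
      _ = v * u := by rw [hff, inv_eq_of_mul_eq_one_right H.uu]
  have h5 : (f * q * f⁻¹) * (f * r * f⁻¹) = (q * k) * (r * y) := by
    calc (f * q * f⁻¹) * (f * r * f⁻¹) = f * v * f⁻¹ := by rw [hv]; group
      _ = q * (r * k) * y := by rw [h4, hv, H.uk]; group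
      _ = (q * k) * (r * y) := by rw [H.Y_k hrY]; group
  have h6 : (q * k)⁻¹ * (f * q * f⁻¹) = (r * y) * (f * r * f⁻¹)⁻¹ := by
    rw [eq_mul_inv_iff_mul_eq, mul_assoc, h5]; group
  have h7 : (q * k)⁻¹ * (f * q * f⁻¹) ∈ K :=
    K.mul_mem (K.inv_mem (K.mul_mem hqK H.kK)) (mem_norm hfM hqK)
  have h8 : (q * k)⁻¹ * (f * q * f⁻¹) ∈ centralizer (K : Set G) := by
    rw [h6]
    exact Subgroup.mul_mem _ (Subgroup.mul_mem _ hrY H.yY) (Subgroup.inv_mem _ (mem_cent hfM hrY))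
  have h9 := H.hyp.inter h7 h8
  rw [h6] at h9
  rcases h9 with h9 | h9
  · left
    exact (mul_inv_eq_one.mp h9).symm
  · right
    have h10 : r * y = z * (f * r * f⁻¹) := mul_inv_eq_iff_eq_mul.mp h9
    have h11 := comm H.hyp.zK (mem_cent hfM hrY)
    rw [h10, h11, mul_assoc _ z z, H.hyp.zz, mul_one]

/-- (I5) the Sylow 2-subgroup of `C(K)` normalizes `⟨y⟩` -/
theorem R_pm (H : InnPair K z u x P T p m n d m' n' k y) {r : G} (hr : r ∈ T)
    (hrY : r ∈ centralizer (K : Set G)) : r * y * r⁻¹ = y ∨ r * y * r⁻¹ = y⁻¹ := by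
  have hpf : Fact (Nat.Prime 2) := ⟨Nat.prime_two⟩
  obtain ⟨q, hqT, hqK, hqk, hqq⟩ := H.exists_k1
  -- the subgroup `R₁`
  have hyinv : ∀ {g : G}, g * y * g⁻¹ = y⁻¹ → g * y⁻¹ * g⁻¹ = y := by
    intro g hg
    have : g * y⁻¹ * g⁻¹ = (g * y * g⁻¹)⁻¹ := by group
    rw [this, hg, inv_inv]
  let R1 : Subgroup G :=
    { carrier := {r | r ∈ T ∧ r ∈ centralizer (K : Set G) ∧ (r * y * r⁻¹ = y ∨ r * y * r⁻¹ = y⁻¹)}
      one_mem' := ⟨one_mem _, one_mem _, Or.inl (by group)⟩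
      mul_mem' := by
        rintro a b ⟨a1, a2, a3⟩ ⟨b1, b2, b3⟩
        refine ⟨T.mul_mem a1 b1, Subgroup.mul_mem _ a2 b2, ?_⟩
        have e : a * b * y * (a * b)⁻¹ = a * (b * y * b⁻¹) * a⁻¹ := by group
        rw [e]
        rcases b3 with b3 | b3 <;> rw [b3]
        · exact a3
        · rcases a3 with a3 | a3
          · right
            have : a * y⁻¹ * a⁻¹ = (a * y * a⁻¹)⁻¹ := by group
            rw [this, a3]
          · left; exact hyinv a3
      inv_mem' := by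
        rintro a ⟨a1, a2, a3⟩
        refine ⟨T.inv_mem a1, Subgroup.inv_mem _ a2, ?_⟩
        rcases a3 with a3 | a3
        · left
          nth_rw 1 [← a3]; group
        · right
          have h1 := hyinv a3
          nth_rw 1 [← h1]; group }
  have hR1 : ∀ {r : G}, r ∈ R1 ↔ r ∈ T ∧ r ∈ centralizer (K : Set G) ∧
      (r * y * r⁻¹ = y ∨ r * y * r⁻¹ = y⁻¹) := Iff.rfl
  have hyz : ∀ {g : G}, g ∈ normalizer (K : Set G) → g * y * g⁻¹ * (g * y * g⁻¹) = z := by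
    intro g hg
    calc g * y * g⁻¹ * (g * y * g⁻¹) = g * (y * y) * g⁻¹ := by group
      _ = z := by rw [H.yy]; exact H.hyp.conj_z hg
  have hyR1 : y ∈ R1 := ⟨H.le H.yP, H.yY, Or.inl (by group)⟩
  have hBR1 : ∀ {b : G}, b ∈ P → b ∈ centralizer (K : Set G) → b ∈ R1 := by
    intro b hb hbY
    refine ⟨H.le hb, hbY, Or.inl ?_⟩
    rw [H.F_comm hb (H.Y_k hbY) H.yP (H.Y_k H.yY), mul_inv_cancel_right]
  have hpow : ∀ {r : G}, r ∈ R1 → r ∉ P → r * y * r⁻¹ = y⁻¹ := by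
    rintro r ⟨h1, h2, h3⟩ hrP
    rcases h3 with h3 | h3
    · exact absurd (H.RB h1 h2 (mul_inv_eq_iff_eq_mul.mp h3)) hrP
    · exact h3
  by_contra hcon
  have hlt : r ∉ R1 := fun h => hcon h.2.2
  -- an element normalizing `R₁`
  obtain ⟨g₀, hg₀R, hg₀N, hg₀⟩ : ∃ g, g ∈ T ⊓ centralizer (K : Set G) ∧
      g ∈ normalizer (R1 : Set G) ∧ g ∉ R1 := by
    by_contra hno
    push Not at hno
    have h1 : T ⊓ centralizer (K : Set G) = R1 := by
      refine Cfsg.Agent.Blocks.SylowIn.eq_of_normalizer_inf_le (p := 2)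
        (H.sylT.two.to_le inf_le_left) (fun r hr => ⟨hr.1, hr.2.1⟩) ?_
      rintro g ⟨hg, hgR⟩
      exact hno g hgR hg
    exact hlt (h1 ▸ (⟨hr, hrY⟩ : r ∈ T ⊓ centralizer (K : Set G)))
  obtain ⟨j, hj⟩ := exists_pow_eq_one H.sylT.two hg₀R.1
  obtain ⟨i, hi1, hi2⟩ := exists_pow_sq hg₀ hj
  obtain ⟨g, hg⟩ : ∃ g, g = g₀ ^ i := ⟨_, rfl⟩
  rw [← hg] at hi1 hi2
  have hgT : g ∈ T := by rw [hg]; exact T.pow_mem hg₀R.1 i
  have hgY : g ∈ centralizer (K : Set G) := by rw [hg]; exact Subgroup.pow_mem _ hg₀R.2 i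
  have hgN : g ∈ normalizer (R1 : Set G) := by rw [hg]; exact Subgroup.pow_mem _ hg₀N i
  have hgM := centralizer_le_normalizer (K : Set G) hgY
  have hgR1 := forall_of_mem_normalizer hgN
  -- `w = y^g`
  obtain ⟨w, hw⟩ : ∃ w, w = g * y * g⁻¹ := ⟨_, rfl⟩
  have hwR1 : w ∈ R1 := by rw [hw]; exact hgR1 y hyR1
  have hww : w * w = z := by rw [hw]; exact hyz hgM
  have hwP : w ∉ P := by
    intro h1
    apply hi1
    refine ⟨hgT, hgY, ?_⟩
    rw [← hw]
    exact H.y_sq h1 hwR1.2.1 hww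
  have hwy := hpow hwR1 hwP
  -- `C_P(K)` has order 4
  have hB : ∀ b ∈ P, b ∈ centralizer (K : Set G) → b = 1 ∨ b = z ∨ b = y ∨ b = y⁻¹ := by
    intro b hb hbY
    have h1 : g * b * g⁻¹ ∈ R1 := hgR1 b (hBR1 hb hbY)
    by_cases h2 : g * b * g⁻¹ ∈ P
    · have hby := H.F_comm hb (H.Y_k hbY) H.yP (H.Y_k H.yY)
      have h3 : (g * b * g⁻¹) * w = w * (g * b * g⁻¹) := by
        calc (g * b * g⁻¹) * w = g * (b * y) * g⁻¹ := by rw [hw]; group
          _ = g * (y * b) * g⁻¹ := by rw [hby]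
          _ = w * (g * b * g⁻¹) := by rw [hw]; group
      obtain ⟨h4, h5, -⟩ := H.w_sq hqT hqK hqk hqq hwR1.1 hwR1.2.1 hwy
      have h6 := H.inv_F h4 h5 h2 (H.Y_k h1.2.1)
      have h7 : (q * w) * (g * b * g⁻¹) * (q * w)⁻¹ = g * b * g⁻¹ := by
        have h8 := comm hqK h1.2.1
        calc (q * w) * (g * b * g⁻¹) * (q * w)⁻¹ = q * (w * (g * b * g⁻¹)) * w⁻¹ * q⁻¹ := by group
          _ = q * (g * b * g⁻¹) * q⁻¹ := by rw [← h3]; group
          _ = g * b * g⁻¹ := by rw [h8]; group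
      rw [h7] at h6
      have h8 : b * b = 1 := by
        have h9 : (g * b * g⁻¹) * (g * b * g⁻¹) = 1 := by
          nth_rw 2 [h6]
          exact mul_inv_cancel _
        calc b * b = g⁻¹ * ((g * b * g⁻¹) * (g * b * g⁻¹)) * g := by group
          _ = 1 := by rw [h9]; group
      rcases H.Y_inv hb hbY h8 with h9 | h9
      · exact Or.inl h9
      · exact Or.inr (Or.inl h9)
    · have h3 := (H.w_sq hqT hqK hqk hqq h1.1 h1.2.1 (hpow h1 h2)).2.2
      have h4 : b * b = z := by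
        have hgz : g⁻¹ * z * g = z := by
          have := H.hyp.conj_z (Subgroup.inv_mem _ hgM)
          rwa [inv_inv] at this
        calc b * b = g⁻¹ * ((g * b * g⁻¹) * (g * b * g⁻¹)) * g := by group
          _ = z := by rw [h3, hgz]
      rcases H.y_sq hb hbY h4 with h5 | h5
      · exact Or.inr (Or.inr (Or.inl h5))
      · exact Or.inr (Or.inr (Or.inr h5))
  -- the element `f` of `F`
  obtain ⟨f, hf⟩ : ∃ f, f = x * k * x⁻¹ := ⟨_, rfl⟩
  have hfP : f ∈ P := by rw [hf]; exact H.hP _ H.kP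
  have hfk : f * k = k * f := by rw [hf]; exact H.F_conj H.kP rfl
  have hff : f * f = u := by
    rw [hf, ← H.hz, ← H.kk]; group
  have hfM := H.PM hfP
  have hfy : f * y = y * f := H.F_comm hfP hfk H.yP (H.Y_k H.yY)
  have hfR1 : ∀ r ∈ R1, f * r * f⁻¹ ∈ R1 := by
    rintro r ⟨h1, h2, h3⟩
    refine ⟨T.mul_mem (T.mul_mem (H.le hfP) h1) (T.inv_mem (H.le hfP)), mem_cent hfM h2, ?_⟩
    have hfy' : f⁻¹ * y * f = y := by rw [mul_assoc, ← hfy]; group
    have hfy'' : f * y * f⁻¹ = y := by rw [hfy]; group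
    have e : f * r * f⁻¹ * y * (f * r * f⁻¹)⁻¹ = f * (r * y * r⁻¹) * f⁻¹ := by
      calc f * r * f⁻¹ * y * (f * r * f⁻¹)⁻¹ = f * r * (f⁻¹ * y * f) * r⁻¹ * f⁻¹ := by group
        _ = f * (r * y * r⁻¹) * f⁻¹ := by rw [hfy']; group
    rw [e]
    rcases h3 with h3 | h3 <;> rw [h3]
    · left; exact hfy''
    · right
      have : f * y⁻¹ * f⁻¹ = (f * y * f⁻¹)⁻¹ := by group
      rw [this, hfy'']
  have hfN : f ∈ normalizer (R1 : Set G) := mem_normalizer_of_forall hfR1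
  obtain ⟨g', hg'⟩ : ∃ g', g' = f * g * f⁻¹ := ⟨_, rfl⟩
  have hg'T : g' ∈ T := by
    rw [hg']; exact T.mul_mem (T.mul_mem (H.le hfP) hgT) (T.inv_mem (H.le hfP))
  have hg'Y : g' ∈ centralizer (K : Set G) := by rw [hg']; exact mem_cent hfM hgY
  have hg'N : g' ∈ normalizer (R1 : Set G) := by
    rw [hg']; exact Subgroup.mul_mem _ (Subgroup.mul_mem _ hfN hgN) (Subgroup.inv_mem _ hfN)
  obtain ⟨w', hw'⟩ : ∃ w', w' = g' * y * g'⁻¹ := ⟨_, rfl⟩
  have hw'w : w' = w * y ∨ w' = w * y * z := by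
    have h1 : w' = f * w * f⁻¹ := by
      have hfy' : f⁻¹ * y * f = y := by rw [mul_assoc, ← hfy]; group
      calc w' = f * g * (f⁻¹ * y * f) * g⁻¹ * f⁻¹ := by rw [hw', hg']; group
        _ = f * w * f⁻¹ := by rw [hfy', hw]; group
    rw [h1]
    exact H.w_f hqT hqK hqk hqq hwR1.1 hwR1.2.1 hwy hfP hfk hff
  have hzP : z ∈ P := by
    have := P.mul_mem H.kP H.kP
    rwa [H.kk] at this
  have hzR1 : z ∈ R1 := hBR1 hzP H.hyp.zY
  -- the cosets
  have hcos : ∀ t, t ∈ T → t ∈ centralizer (K : Set G) → t ∈ normalizer (R1 : Set G) →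
      t ∈ R1 ∨ g⁻¹ * t ∈ R1 ∨ g'⁻¹ * t ∈ R1 := by
    intro t htT htY htN
    obtain ⟨v, hv⟩ : ∃ v, v = t * y * t⁻¹ := ⟨_, rfl⟩
    have hvR1 : v ∈ R1 := by rw [hv]; exact forall_of_mem_normalizer htN y hyR1
    have hvv : v * v = z := by rw [hv]; exact hyz (centralizer_le_normalizer _ htY)
    -- `a⁻¹ t` normalizes `⟨y⟩`
    have hend : ∀ a, a ∈ T → a ∈ centralizer (K : Set G) → (v = a * y * a⁻¹ ∨ v = a * y⁻¹ * a⁻¹) →
        a⁻¹ * t ∈ R1 := by
      intro a haT haY hva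
      refine ⟨T.mul_mem (T.inv_mem haT) htT, Subgroup.mul_mem _ (Subgroup.inv_mem _ haY) htY, ?_⟩
      have e : a⁻¹ * t * y * (a⁻¹ * t)⁻¹ = a⁻¹ * v * a := by rw [hv]; group
      rw [e]
      rcases hva with h | h <;> rw [h]
      · left; group
      · right; group
    by_cases hvP : v ∈ P
    · left
      refine ⟨htT, htY, ?_⟩
      rw [← hv]
      exact H.y_sq hvP hvR1.2.1 hvv
    · have hvy := hpow hvR1 hvP
      -- `w⁻¹ v ∈ C_P(K)`
      have h1 : (w⁻¹ * v) * y = y * (w⁻¹ * v) := by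
        rw [← mul_inv_eq_iff_eq_mul]
        calc w⁻¹ * v * y * (w⁻¹ * v)⁻¹ = w⁻¹ * (v * y * v⁻¹) * w := by group
          _ = y := by rw [hvy, ← hwy]; group
      have h2 : w⁻¹ * v ∈ centralizer (K : Set G) :=
        Subgroup.mul_mem _ (Subgroup.inv_mem _ hwR1.2.1) hvR1.2.1
      have h3 : w⁻¹ * v ∈ P := H.RB (T.mul_mem (T.inv_mem hwR1.1) hvR1.1) h2 h1
      have hwz : w⁻¹ = w * z := H.hyp.inv_k hww
      have hyz' : y⁻¹ = y * z := H.hyp.inv_k H.yy
      have hw'z : w'⁻¹ = w' * z := H.hyp.inv_k (by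
        rw [hw']; exact hyz (centralizer_le_normalizer _ hg'Y))
      have hgi : g * y⁻¹ * g⁻¹ = w⁻¹ := by rw [hw]; group
      have hgi' : g' * y⁻¹ * g'⁻¹ = w'⁻¹ := by rw [hw']; group
      rcases hB _ h3 h2 with h4 | h4 | h4 | h4
      · right; left
        exact hend g hgT hgY (Or.inl (by rw [← hw]; exact (inv_mul_eq_one.mp h4).symm))
      · right; left
        refine hend g hgT hgY (Or.inr ?_)
        rw [hgi, hwz]
        exact inv_mul_eq_iff_eq_mul.mp h4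
      · right; right
        have h5 : v = w * y := inv_mul_eq_iff_eq_mul.mp h4
        refine hend g' hg'T hg'Y ?_
        rcases hw'w with h6 | h6
        · left; rw [← hw', h6, h5]
        · right; rw [hgi', hw'z, h6, h5, mul_assoc, H.hyp.zz, mul_one]
      · right; right
        have h5 : v = w * y * z := by
          rw [mul_assoc, ← hyz']; exact inv_mul_eq_iff_eq_mul.mp h4
        refine hend g' hg'T hg'Y ?_
        rcases hw'w with h6 | h6
        · right; rw [hgi', hw'z, h6, h5]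
        · left; rw [← hw', h6, h5]
  have hyne : y ≠ 1 ∧ y ≠ z := by
    constructor
    · rintro rfl
      have := H.yy
      rw [one_mul] at this
      exact H.hyp.z_ne this.symm
    · intro h1
      have := H.yy
      rw [h1, H.hyp.zz] at this
      exact H.hyp.z_ne this.symm
  have hzw : ∀ {a b : G}, a = b * z → a * z = b := by
    intro a b h1
    rw [h1, mul_assoc, H.hyp.zz, mul_one]
  -- (b) `g' ∉ R₁`
  have hb : g' ∉ R1 := by
    intro h1
    apply hwP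
    have h2 : w' = y ∨ w' = y⁻¹ := by rw [hw']; exact h1.2.2
    have h3 : w' ∈ P := by
      rcases h2 with h2 | h2
      · rw [h2]; exact H.yP
      · rw [h2]; exact P.inv_mem H.yP
    rcases hw'w with h4 | h4
    · rw [h4] at h3
      exact (Subgroup.mul_mem_cancel_right _ H.yP).mp h3
    · rw [h4] at h3
      exact (Subgroup.mul_mem_cancel_right _ H.yP).mp
        ((Subgroup.mul_mem_cancel_right _ hzP).mp h3)
  -- (a) `g⁻¹ g' ∉ R₁`
  have ha : g⁻¹ * g' ∉ R1 := by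
    intro h1
    have h2 : w' = g * ((g⁻¹ * g') * y * (g⁻¹ * g')⁻¹) * g⁻¹ := by rw [hw']; group
    have hgz : g * z * g⁻¹ = z := H.hyp.conj_z hgM
    have h3 : w' = w ∨ w' = w * z := by
      rcases h1.2.2 with h3 | h3 <;> rw [h3] at h2
      · left; rw [h2, hw]
      · right
        rw [h2, H.hyp.inv_k H.yy, hw]
        calc g * (y * z) * g⁻¹ = g * y * g⁻¹ * (g * z * g⁻¹) := by group
          _ = g * y * g⁻¹ * z := by rw [hgz]
    rcases h3 with h3 | h3 <;> rcases hw'w with h4 | h4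
    · rw [h3] at h4
      exact hyne.1 (mul_eq_left.mp h4.symm)
    · rw [h3, mul_assoc] at h4
      have h5 := mul_eq_left.mp h4.symm
      exact hyne.2 (by rw [eq_inv_of_mul_eq_one_left h5, H.hyp.z_inv])
    · rw [h3] at h4
      exact hyne.2 (mul_left_cancel h4).symm
    · rw [h3, mul_assoc w y z] at h4
      have h5 := mul_left_cancel h4
      exact hyne.1 (mul_eq_right.mp h5.symm)
  rcases hcos (g * g') (T.mul_mem hgT hg'T) (Subgroup.mul_mem _ hgY hg'Y)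
    (Subgroup.mul_mem _ hgN hg'N) with h1 | h1 | h1
  · apply ha
    have e : g⁻¹ * g' = (g * g)⁻¹ * (g * g') := by group
    rw [e]
    exact R1.mul_mem (R1.inv_mem hi2) h1
  · apply hb
    have e : g⁻¹ * (g * g') = g' := by group
    rwa [e] at h1
  · apply hi1
    have h2 := forall_of_mem_normalizer hg'N _ h1
    have e : g' * (g'⁻¹ * (g * g')) * g'⁻¹ = g := by group
    rwa [e] at h2

end InnPair

end Cfsg.Agent.OddCyclic.CompSL2Amb
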