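import Cfsg.Agent.OddCyclic.CompSL2Inner2

/-!
# S0342, case C: inner pairs do not exist

(I6)-(I8) of blueprints/S0342-caseC.md: Thompson transfer.
-/

set_option autoImplicit false

namespace Cfsg.Agent.OddCyclic.CompSL2Amb

open Subgroup Cfsg
open Cfsg.Agent.OddCyclic.T1Defs Cfsg.Agent.OddCyclic.CompBasic
open Cfsg.Agent.OddCyclic.CompStandard Cfsg.Agent.OddCyclic.CompSL2Facts
open Cfsg.Agent.LieExceptional Cfsg.Agent.LieExceptional.CITDefs
open Cfsg.Agent.LieExceptional.CITBasic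

variable {G : Type*} [Group G] [Finite G] {K : Subgroup G} {z : G} {p m n : ℕ}

namespace InnPair

variable {u x : G} {P T : Subgroup G} {d m' n' : ℕ} {k y : G}

theorem card_R_le (H : InnPair K z u x P T p m n d m' n' k y)
    (hV : ∃ V : Subgroup G, V ≤ T ∧ Elem V ∧ Nat.card V = 8) :
    Nat.card (T ⊓ centralizer (K : Set G) : Subgroup G) ≤ 2 * 2 ^ d := by
  classical
  obtain ⟨w, hwT, hwY, hwy⟩ := H.exists_w hV
  have key : ∀ r ∈ T, r ∈ centralizer (K : Set G) → r ∉ P → w⁻¹ * r ∈ P := by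
    intro r hr hrY hrP
    have h1 : r * y * r⁻¹ = y⁻¹ := by
      rcases H.R_pm hr hrY with h1 | h1
      · exact absurd (H.RB hr hrY (mul_inv_eq_iff_eq_mul.mp h1)) hrP
      · exact h1
    refine H.RB (T.mul_mem (T.inv_mem hwT) hr)
      (Subgroup.mul_mem _ (Subgroup.inv_mem _ hwY) hrY) ?_
    rw [← mul_inv_eq_iff_eq_mul]
    calc w⁻¹ * r * y * (w⁻¹ * r)⁻¹ = w⁻¹ * (r * y * r⁻¹) * w := by group
      _ = y := by rw [h1, ← hwy]; group
  rw [← H.F_facts.2.1]
  let φ : (T ⊓ centralizer (K : Set G) : Subgroup G) →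
      Bool × (P ⊓ centralizer (K : Set G) : Subgroup G) := fun r =>
    if h : r.1 ∈ P then (false, ⟨r.1, h, r.2.2⟩)
    else (true, ⟨w⁻¹ * r.1, key r.1 r.2.1 r.2.2 h,
      Subgroup.mul_mem _ (Subgroup.inv_mem _ hwY) r.2.2⟩)
  have hφ : Function.Injective φ := by
    intro r r' hrr
    by_cases h1 : r.1 ∈ P <;> by_cases h2 : r'.1 ∈ P
    · simp only [φ, h1, h2, dif_pos] at hrr
      have := congrArg (fun a => a.2.1) hrr
      exact Subtype.ext this
    · simp only [φ, h1, h2, dif_pos] at hrr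
      have := congrArg (fun a => a.1) hrr
      simp at this
    · simp only [φ, h1, h2, dif_pos] at hrr
      have := congrArg (fun a => a.1) hrr
      simp at this
    · simp only [φ, h1, h2] at hrr
      have := congrArg (fun a => a.2.1) hrr
      exact Subtype.ext (mul_left_cancel this)
  have h1 := Nat.card_le_card_of_injective φ hφ
  rw [Nat.card_prod] at h1
  simpa using h1

/-- the subgroup `C_T(y)` of index 2 -/
theorem C_facts (H : InnPair K z u x P T p m n d m' n' k y)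
    (hV : ∃ V : Subgroup G, V ≤ T ∧ Elem V ∧ Nat.card V = 8) {q : G} (hqT : q ∈ T) (hqK : q ∈ K)
    (hqk : q * k * q⁻¹ = k⁻¹) :
    (T ⊓ centralizer ({y} : Set G)).relIndex T = 2 ∧
    ∀ t ∈ T, t * y = y * t → ∃ f ∈ P, f * k = k * f ∧ (t = f ∨ t = q * f) := by
  obtain ⟨w, hwT, hwY, hwy⟩ := H.exists_w hV
  have hqq : q * q = z := by
    refine (H.Q_out hqT hqK ?_).2
    exact H.of_inv hqk
  obtain ⟨h1, h2, -⟩ := H.w_sq hqT hqK hqk hqq hwT hwY hwy
  set C := T ⊓ centralizer ({y} : Set G) with hC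
  set D := 2 ^ d * 2 ^ d with hD
  have hD0 : 0 < D := by positivity
  have hqy := comm hqK H.yY
  have hFy : ∀ f ∈ P, f * k = k * f → f * y = y * f := fun f hf hfk =>
    H.F_comm hf hfk H.yP (H.Y_k H.yY)
  let ψ : Bool × (P ⊓ centralizer ({k} : Set G) : Subgroup G) → C := fun bf =>
    if bf.1 then ⟨q * bf.2.1, T.mul_mem hqT (H.le bf.2.2.1), by
      show q * bf.2.1 ∈ centralizer ({y} : Set G)
      rw [mem_centralizer_singleton_iff, mul_assoc,
        hFy _ bf.2.2.1 (mem_centralizer_singleton_iff.mp bf.2.2.2), ← mul_assoc, hqy, mul_assoc]⟩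
    else ⟨bf.2.1, H.le bf.2.2.1, mem_centralizer_singleton_iff.mpr
      (hFy _ bf.2.2.1 (mem_centralizer_singleton_iff.mp bf.2.2.2))⟩
  have hψt : ∀ f, ((ψ (true, f) : C) : G) = q * f.1 := fun _ => rfl
  have hψf : ∀ f, ((ψ (false, f) : C) : G) = f.1 := fun _ => rfl
  have hqk' : q * k ≠ k * q := H.of_inv hqk
  have hqF : ∀ f f' : (P ⊓ centralizer ({k} : Set G) : Subgroup G), q * f.1 ≠ f'.1 := by
    intro f f' h3
    apply hqk'
    have h4 : q = f'.1 * f.1⁻¹ := by rw [← h3]; group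
    have h5 := (P ⊓ centralizer ({k} : Set G)).mul_mem f'.2 (Subgroup.inv_mem _ f.2)
    rw [← h4] at h5
    exact mem_centralizer_singleton_iff.mp h5.2
  have hψ : Function.Injective ψ := by
    rintro ⟨b, f⟩ ⟨b', f'⟩ hbf
    have h3 := congrArg Subtype.val hbf
    cases b <;> cases b'
    · rw [hψf, hψf] at h3
      rw [Subtype.ext h3]
    · rw [hψf, hψt] at h3
      exact absurd h3.symm (hqF _ _)
    · rw [hψt, hψf] at h3
      exact absurd h3 (hqF _ _)
    · rw [hψt, hψt] at h3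
      rw [Subtype.ext (mul_left_cancel h3)]
  have h3 := Nat.card_le_card_of_injective ψ hψ
  rw [Nat.card_prod, H.F_facts.1, ← hD] at h3
  have h3' : 2 * D ≤ Nat.card C := by simpa using h3
  have h4 : Nat.card T ≤ 4 * D := by
    have h5 := H.card_T_le
    have h6 := Nat.mul_le_mul_left (2 ^ (d + 1)) (H.card_R_le hV)
    calc Nat.card T ≤ _ := h5
      _ ≤ _ := h6
      _ = 4 * D := by rw [hD, pow_succ]; ring
  have h5 : Nat.card C * C.relIndex T = Nat.card T := T1Tools.card_mul_relIndex inf_le_left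
  have h6 : C.relIndex T ≠ 1 := by
    rw [Ne, relIndex_eq_one]
    intro h6
    have h7 := mem_centralizer_singleton_iff.mp (h6 (H.le h1)).2
    have h8 := H.inv_F h1 h2 H.yP (H.Y_k H.yY)
    rw [h7, mul_inv_cancel_right] at h8
    exact H.hyp.k_ne H.yy h8
  have h7 : C.relIndex T ≠ 0 := by
    intro h7
    rw [h7, mul_zero] at h5
    exact Nat.card_pos.ne h5
  have h8 : C.relIndex T ≤ 2 := by
    by_contra h8
    have h9 : 2 * D * 3 ≤ Nat.card C * C.relIndex T := Nat.mul_le_mul h3' (by omega)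
    omega
  have h9 : C.relIndex T = 2 := by omega
  refine ⟨h9, ?_⟩
  rw [h9] at h5
  have hbij : Function.Bijective ψ := by
    refine (Nat.bijective_iff_injective_and_card _).mpr ⟨hψ, ?_⟩
    have hb : Nat.card Bool = 2 := by simp
    rw [Nat.card_prod, H.F_facts.1, ← hD, hb]
    omega
  intro t ht hty
  obtain ⟨⟨b, f⟩, hbf⟩ := hbij.2 ⟨t, ht, mem_centralizer_singleton_iff.mpr hty⟩
  have h10 := congrArg Subtype.val hbf
  refine ⟨f.1, f.2.1, mem_centralizer_singleton_iff.mp f.2.2, ?_⟩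
  cases b
  · rw [hψf] at h10; exact Or.inl h10.symm
  · rw [hψt] at h10; exact Or.inr h10.symm

/-- (I6) the involutions of `C_T(y)` are conjugate to `z` -/
theorem C_inv (H : InnPair K z u x P T p m n d m' n' k y)
    (hV : ∃ V : Subgroup G, V ≤ T ∧ Elem V ∧ Nat.card V = 8) {t : G} (ht : t ∈ T)
    (hty : t * y = y * t) (htt : t * t = 1) (ht1 : t ≠ 1) : ∃ g, g * z * g⁻¹ = t := by
  obtain ⟨q, hqT, hqK, hqk, hqq⟩ := H.exists_k1
  obtain ⟨f, hf, hfk, h1⟩ := (H.C_facts hV hqT hqK hqk).2 t ht hty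
  rcases h1 with h1 | h1
  · rw [← h1] at hf hfk
    rcases H.F_inv hf hfk htt with h2 | h2 | h2 | h2
    · exact absurd h2 ht1
    · exact ⟨1, by rw [h2]; group⟩
    · exact ⟨x, by rw [h2]; exact H.hz⟩
    · refine ⟨x * x, ?_⟩
      rw [h2]
      calc x * x * z * (x * x)⁻¹ = x * (x * z * x⁻¹) * x⁻¹ := by group
        _ = u * z := by rw [H.hz, H.hu]
  · -- `t = q f`
    have hz := H.hyp.z_inv
    have hqM := le_normalizer hqK
    obtain ⟨a, ha, b, hb, hab⟩ := H.F_facts.2.2 f hf hfk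
    obtain ⟨a₀, ha₀, b₀, hb₀, hab₀⟩ := H.F_facts.2.2 y H.yP (H.Y_k H.yY)
    obtain ⟨c, hc⟩ : ∃ c, c = b * b₀⁻¹ := ⟨_, rfl⟩
    obtain ⟨e, he⟩ : ∃ e, e = a * a₀⁻¹ := ⟨_, rfl⟩
    have hcA : c ∈ P ⊓ cj x K := by
      rw [hc]; exact Subgroup.mul_mem _ hb (Subgroup.inv_mem _ hb₀)
    have heA : e ∈ P ⊓ K := by
      rw [he]; exact Subgroup.mul_mem _ ha (Subgroup.inv_mem _ ha₀)
    have hec : f * y⁻¹ = e * c := by
      have h3 := (H.cross ha₀ hb).eq
      have h4 := (H.cross ha₀ hb₀).eq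
      have h5 : Commute a₀⁻¹ (b * b₀⁻¹) :=
        ((H.cross ha₀ hb).mul_right (H.cross ha₀ hb₀).inv_right).inv_left
      calc f * y⁻¹ = a * (b * b₀⁻¹ * a₀⁻¹) := by rw [hab, hab₀]; group
        _ = e * c := by rw [← h5.eq, he, hc]; group
    have hfy := H.F_comm hf hfk H.yP (H.Y_k H.yY)
    have hqf : q * f * q⁻¹ = f⁻¹ * z := by
      have h3 : q * f * q⁻¹ * (z * f) = 1 := by
        rw [← hqq]
        calc q * f * q⁻¹ * (q * q * f) = (q * f) * (q * f) := by group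
          _ = 1 := by rw [← h1]; exact htt
      have h4 : q * f * q⁻¹ = (z * f)⁻¹ := eq_inv_of_mul_eq_one_left h3
      rw [h4, _root_.mul_inv_rev, hz]
    have hqy : q * y⁻¹ * q⁻¹ = y⁻¹ := by
      rw [mul_inv_eq_iff_eq_mul]
      exact comm hqK (Subgroup.inv_mem _ H.yY)
    have hzy : z * y⁻¹ = y := by rw [← H.yy]; group
    have hqfy : q * (f * y⁻¹) * q⁻¹ = (f * y⁻¹)⁻¹ := by
      calc q * (f * y⁻¹) * q⁻¹ = (q * f * q⁻¹) * (q * y⁻¹ * q⁻¹) := by group
        _ = f⁻¹ * (z * y⁻¹) := by rw [hqf, hqy]; group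
        _ = f⁻¹ * y := by rw [hzy]
        _ = (f * y⁻¹)⁻¹ := by
          rw [_root_.mul_inv_rev, inv_inv, inv_mul_eq_iff_eq_mul, ← mul_assoc, hfy]; group
    have hqe : q * e * q⁻¹ = e⁻¹ := (H.hyp.invt H.kK H.kk hqM hqk).1 e heA.2
      ((H.K_comm heA.2).mp (H.Pu heA.1))
    have hecc := (H.cross heA hcA).eq
    have hqc : q * c * q⁻¹ = c⁻¹ := by
      have h3 : c = e⁻¹ * (f * y⁻¹) := by rw [hec]; group
      have h4 : q * e⁻¹ * q⁻¹ = e := by
        have : q * e⁻¹ * q⁻¹ = (q * e * q⁻¹)⁻¹ := by group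
        rw [this, hqe, inv_inv]
      calc q * c * q⁻¹ = (q * e⁻¹ * q⁻¹) * (q * (f * y⁻¹) * q⁻¹) := by
            nth_rw 1 [h3]; group
        _ = e * (e * c)⁻¹ := by rw [h4, hqfy, hec]
        _ = e * (c * e)⁻¹ := by rw [hecc]
        _ = c⁻¹ := by group
    have hcc : c * c = 1 := by
      refine (comm_of_ne H.hyp (g := x) (by rw [H.hz]; exact H.ne) H.syl.two
        (fun a ha => H.Pz ha) (fun a ha => by rw [H.hz]; exact H.Pu ha)).1 _
        (P.mul_mem hcA.1 hcA.1) ?_ (Subgroup.mul_mem _ hcA.2 hcA.2)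
      have h3 : c * c = (c * q * c⁻¹) * q⁻¹ := by
        have h4 : q * c⁻¹ * q⁻¹ = c := by
          have : q * c⁻¹ * q⁻¹ = (q * c * q⁻¹)⁻¹ := by group
          rw [this, hqc, inv_inv]
        calc c * c = c * (q * c⁻¹ * q⁻¹) := by rw [h4]
          _ = (c * q * c⁻¹) * q⁻¹ := by group
      rw [h3]
      exact K.mul_mem (mem_norm (H.PM hcA.1) hqK) (K.inv_mem hqK)
    have hc1 : c = 1 := by
      rcases H.hyp_u.eq_z hcA.2 hcc with h3 | h3
      · exact h3
      · exfalso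
        rw [h3, inv_eq_of_mul_eq_one_right H.uu] at hqc
        exact H.of_inv hqk ((H.K_comm hqK).mp (mul_inv_eq_iff_eq_mul.mp hqc))
    rw [hc1, mul_one] at hec
    have hfe : f = e * y := mul_inv_eq_iff_eq_mul.mp hec
    -- `q e` has order 4
    have hqe2 : (q * e) * (q * e) = z := by
      calc (q * e) * (q * e) = (q * e * q⁻¹) * (q * q) * e := by group
        _ = e⁻¹ * (z * e) := by rw [hqe, hqq]; group
        _ = e⁻¹ * (e * z) := by rw [H.Pz heA.1]
        _ = z := by group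
    obtain ⟨g, hgK, hg⟩ := H.hyp.conj4 H.kK (K.mul_mem hqK heA.2) H.kk hqe2
    refine ⟨g * x, ?_⟩
    have hgy : g * y * g⁻¹ = y := by
      rw [mul_inv_eq_iff_eq_mul]
      exact comm hgK H.yY
    calc g * x * z * (g * x)⁻¹ = g * (x * z * x⁻¹) * g⁻¹ := by group
      _ = (g * k * g⁻¹) * (g * y * g⁻¹) := by rw [H.hz, H.uk]; group
      _ = q * (e * y) := by rw [hg, hgy]; group
      _ = t := by rw [← hfe, h1]

/-- (I7) an element of `P - F` centralized by `x` -/
theorem exists_fixed (H : InnPair K z u x P T p m n d m' n' k y)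
    (hV : ∃ V : Subgroup G, V ≤ T ∧ Elem V ∧ Nat.card V = 8) :
    ∃ v ∈ P, v * k ≠ k * v ∧ x * v * x⁻¹ = v := by
  classical
  obtain ⟨q, hqT, hqK, hqk, hqq⟩ := H.exists_k1
  obtain ⟨w, hwT, hwY, hwy⟩ := H.exists_w hV
  obtain ⟨h1, h2, -⟩ := H.w_sq hqT hqK hqk hqq hwT hwY hwy
  obtain ⟨v₀, hv₀⟩ : ∃ v₀, v₀ = q * w := ⟨_, rfl⟩
  rw [← hv₀] at h1 h2
  have h3 := H.outF h1 h2
  let S : Type _ := {v : G // v ∈ P ∧ v * k ≠ k * v}
  have e : (P ⊓ centralizer ({k} : Set G) : Subgroup G) ≃ S :=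
    { toFun := fun f => ⟨v₀ * f.1, P.mul_mem h1 f.2.1, fun h4 => h2 (by
        have h5 := mem_centralizer_singleton_iff.mp f.2.2
        apply mul_right_cancel (b := f.1)
        calc v₀ * k * f.1 = v₀ * (f.1 * k) := by rw [h5]; group
          _ = k * (v₀ * f.1) := by rw [← h4]; group
          _ = k * v₀ * f.1 := by group)⟩
      invFun := fun v => ⟨v₀⁻¹ * v.1, P.mul_mem (P.inv_mem h1) v.2.1, by
        show v₀⁻¹ * v.1 ∈ centralizer ({k} : Set G)
        rw [mem_centralizer_singleton_iff, ← mul_inv_eq_iff_eq_mul]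
        have h4 := H.outF v.2.1 v.2.2
        calc v₀⁻¹ * v.1 * k * (v₀⁻¹ * v.1)⁻¹ = v₀⁻¹ * (v.1 * k * v.1⁻¹) * v₀ := by group
          _ = k := by rw [h4, ← h3]; group⟩
      left_inv := fun f => Subtype.ext (by simp)
      right_inv := fun v => Subtype.ext (by simp) }
  have hcard : Nat.card S = 2 ^ d * 2 ^ d := by rw [← Nat.card_congr e, H.F_facts.1]
  have hfin : Finite S := Finite.of_equiv _ e
  have hfint : Fintype S := Fintype.ofFinite S
  let σ : Equiv.Perm S :=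
    { toFun := fun v => ⟨x * v.1 * x⁻¹, H.hP _ v.2.1, fun h4 => v.2.2 (by
        have h5 := H.F_conj_inv (H.hP _ v.2.1) h4
        have e : x⁻¹ * (x * v.1 * x⁻¹) * x = v.1 := by group
        rwa [e] at h5)⟩
      invFun := fun v => ⟨x⁻¹ * v.1 * x, H.inv_mem v.2.1, fun h4 => v.2.2 (by
        have h5 := H.F_conj (H.inv_mem v.2.1) h4
        have e : x * (x⁻¹ * v.1 * x) * x⁻¹ = v.1 := by group
        rwa [e] at h5)⟩
      left_inv := fun v => Subtype.ext (by group)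
      right_inv := fun v => Subtype.ext (by group) }
  have hσ : ∀ i : ℕ, ∀ v : S, ((σ ^ i) v).1 = x ^ i * v.1 * (x ^ i)⁻¹ := by
    intro i
    induction i with
    | zero => intro v; simp
    | succ i ih =>
      intro v
      rw [pow_succ', Equiv.Perm.mul_apply]
      have h4 : (σ ((σ ^ i) v)).1 = x * ((σ ^ i) v).1 * x⁻¹ := rfl
      rw [h4, ih, pow_succ']
      group
  obtain ⟨s, hs⟩ := H.three
  have hσ1 : σ ^ 3 ^ s = 1 := by
    ext v
    rw [hσ, ← hs, pow_orderOf_eq_one]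
    simp
  have hpf : Fact (Nat.Prime 3) := ⟨Nat.prime_three⟩
  obtain ⟨v, hv⟩ := Equiv.Perm.exists_fixed_point_of_prime (p := 3) (by
    rw [← Nat.card_eq_fintype_card, hcard, ← pow_add]
    intro h4
    have := Nat.Prime.dvd_of_dvd_pow Nat.prime_three h4
    omega) hσ1
  exact ⟨v.1, v.2.1, v.2.2, congrArg Subtype.val hv⟩

/-- (I8) there are no inner pairs -/
theorem false (H : InnPair K z u x P T p m n d m' n' k y)
    (hV : ∃ V : Subgroup G, V ≤ T ∧ Elem V ∧ Nat.card V = 8)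
    (hG : ∀ M : Subgroup G, M.Normal → M.index ≠ 2) : False := by
  obtain ⟨v, hvP, hvk, hvx⟩ := H.exists_fixed hV
  obtain ⟨q, hqT, hqK, hqk, hqq⟩ := H.exists_k1
  have hvv := H.sq_one hvP hvk
  have hv1 : v ≠ 1 := by
    rintro rfl
    exact hvk (by group)
  -- `v` is not conjugate to `z`
  have hnc : ∀ g, g * z * g⁻¹ ≠ v := by
    intro g hg
    have hh := H.hyp.conj g
    rw [hg] at hh
    obtain ⟨s, hs⟩ := H.three
    have h1 : x ∈ cj g K := hh.mem_of_three (hh.mem_iff.mpr (mul_inv_eq_iff_eq_mul.mp hvx)) hs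
    have h2 : z ∈ normalizer (cj g K : Set G) := hh.mem_iff.mpr (H.Pz hvP).symm
    have h3 : u ∈ normalizer (cj g K : Set G) := hh.mem_iff.mpr (H.Pu hvP).symm
    have h4 : u * z ∈ cj g K := by
      have h5 := Subgroup.mul_mem _ h1 (mem_norm h2 (Subgroup.inv_mem _ h1))
      have e : x * (z * x⁻¹ * z⁻¹) = u * z := by
        rw [← H.hz, H.hyp.z_inv]; group
      rwa [e] at h5
    have h5 : z ∈ cj g K := by
      have h6 := Subgroup.mul_mem _ h1 (mem_norm h3 (Subgroup.inv_mem _ h1))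
      have e : x * (u * x⁻¹ * u⁻¹) = z := by
        calc x * (u * x⁻¹ * u⁻¹) = (x * u * x⁻¹) * u⁻¹ := by group
          _ = u * z * u := by rw [H.hu, inv_eq_of_mul_eq_one_right H.uu]
          _ = u * (z * u) := by group
          _ = (u * u) * z := by rw [← H.com]; group
          _ = z := by rw [H.uu, one_mul]
      rwa [e] at h6
    have h6 := (hh.eq_z h5 H.hyp.zz).resolve_left H.hyp.z_ne
    have h7 := (hh.eq_z h4 (by
      calc u * z * (u * z) = u * (z * u) * z := by group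
        _ = (u * u) * (z * z) := by rw [← H.com]; group
        _ = 1 := by rw [H.uu, H.hyp.zz, one_mul])).resolve_left H.uz_ne
    rw [← h6] at h7
    exact H.u_ne (mul_eq_right.mp h7)
  -- transfer
  have hT := H.hyp.isSyl2_top H.sylT
  let S : Sylow 2 G := ⟨T, hT.two, fun {Q} hQ hle => hT.max Q le_top hQ hle⟩
  rcases Cfsg.Agent.Transfer.ThompsonTransfer.thompson_transfer S
    (T ⊓ centralizer ({y} : Set G)) inf_le_left (H.C_facts hV hqT hqK hqk).1 v
    (by rw [sq]; exact hvv) with ⟨M, hMn, hM2, -⟩ | ⟨g, hg⟩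
  · exact hG M hMn hM2
  · obtain ⟨g', hg'⟩ := H.C_inv hV hg.1 (mem_centralizer_singleton_iff.mp hg.2) (by
      calc g * v * g⁻¹ * (g * v * g⁻¹) = g * (v * v) * g⁻¹ := by group
        _ = 1 := by rw [hvv]; group) (by
      intro h1
      apply hv1
      calc v = g⁻¹ * (g * v * g⁻¹) * g := by group
        _ = 1 := by rw [h1]; group)
    apply hnc (g⁻¹ * g')
    calc g⁻¹ * g' * z * (g⁻¹ * g')⁻¹ = g⁻¹ * (g' * z * g'⁻¹) * g := by group
      _ = v := by rw [hg']; group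

end InnPair

end Cfsg.Agent.OddCyclic.CompSL2Amb
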