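import Cfsg.Agent.OddCyclic.CompSL2Tools

/-!
# S0342, case C: pairs of commuting conjugates of `z`

(C1)-(C3) of blueprints/S0342-caseC.md: `Hyp.eq_z_of_cent`, `Hyp.isSyl2_top`, `Hyp.twist`, `exists_pair`.
-/

set_option autoImplicit false

namespace Cfsg.Agent.OddCyclic.CompSL2Amb

open Subgroup Cfsg
open Cfsg.Agent.OddCyclic.T1Defs Cfsg.Agent.OddCyclic.CompBasic
open Cfsg.Agent.OddCyclic.CompStandard Cfsg.Agent.OddCyclic.CompSL2Facts
open Cfsg.Agent.LieExceptional Cfsg.Agent.LieExceptional.CITDefs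
open Cfsg.Agent.LieExceptional.CITBasic

variable {G : Type*} [Group G] [Finite G] {K : Subgroup G} {z : G} {p m n : ℕ}

/-- conjugates -/
theorem Hyp.conj (h : Hyp K z p m n) (g : G) : Hyp (cj g K) (g * z * g⁻¹) p m n := by
  refine ⟨h.cyc, conj_mem_cj h.zK, ?_, ?_, ?_, ?_⟩
  · exact h.dat.of_equiv (K.equivMapOfInjective (MulAut.conj g).toMonoidHom
      (MulAut.conj g).injective).symm
  · intro s hs hs2
    rw [← cj_centralizer, mem_cj] at hs
    have h1 := h.cent _ hs (by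
      have := orderOf_conj g⁻¹ s
      rw [inv_inv] at this
      rw [this, hs2])
    have h2 := cj_mono (g := g) h1
    rw [cj_centralizer_singleton, cj_normalizer] at h2
    have e : g * (g⁻¹ * s * g) * g⁻¹ = s := by group
    rwa [e] at h2
  · intro a s hs2 hs hsa
    rw [← cj_centralizer, mem_cj] at hs hsa
    rw [← cj_normalizer, mem_cj]
    refine h.ti _ (g⁻¹ * s * g) ?_ hs ?_
    · have := orderOf_conj g⁻¹ s
      rw [inv_inv] at this
      rw [this, hs2]
    · have e : g⁻¹ * a * g * (g⁻¹ * s * g) * (g⁻¹ * a * g)⁻¹ = g⁻¹ * (a * s * a⁻¹) * g := by group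
      rwa [e]
  · intro r hr hr2 hrK x hx hxr
    rw [← cj_normalizer, mem_cj] at hx
    rw [card_cj] at hrK
    rw [mem_cj]
    refine h.mem r hr hr2 hrK _ hx ?_
    have := orderOf_conj g⁻¹ x
    rw [inv_inv] at this
    rw [this, hxr]

omit [Finite G] in
/-- (C1) -/
theorem Hyp.eq_z_of_cent (h : Hyp K z p m n) {g : G}
    (hg : g * z * g⁻¹ ∈ centralizer (K : Set G)) : g * z * g⁻¹ = z :=
  h.conj_z (h.ti g z h.z2 h.zY hg)

omit [Finite G] in
theorem Hyp.inn_inv (h : Hyp K z p m n) {u : G} (huu : u * u = 1)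
    (huY : u ∉ centralizer (K : Set G)) (hI : Inn K u) :
    ∃ k ∈ K, ∃ y ∈ centralizer (K : Set G), u = k * y ∧ k * k = z ∧ y * y = z := by
  obtain ⟨k, hk, y, hy, rfl⟩ := hI
  have hky := comm hk hy
  have h1 : k * k * (y * y) = 1 := by
    calc k * k * (y * y) = k * (k * y) * y := by group
      _ = k * (y * k) * y := by rw [hky]
      _ = 1 := by rw [← huu]; group
  have h2 : k * k = (y * y)⁻¹ := eq_inv_of_mul_eq_one_left h1
  have h3 : k * k ∈ centralizer (K : Set G) := by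
    rw [h2]; exact inv_mem (Subgroup.mul_mem _ hy hy)
  rcases h.inter (K.mul_mem hk hk) h3 with h4 | h4
  · exfalso
    apply huY
    refine Subgroup.mul_mem _ ?_ hy
    rcases h.eq_z hk h4 with h5 | h5
    · rw [h5]; exact one_mem _
    · rw [h5]; exact h.zY
  · refine ⟨k, hk, y, hy, rfl, h4, ?_⟩
    rw [h4] at h1
    have h5 : y * y = z⁻¹ := eq_inv_of_mul_eq_one_right h1
    rw [h5, h.z_inv]

omit [Finite G] in
theorem four_dvd_of {x : G} {j : ℕ} (hx : x ^ 2 ^ j = 1) (h2 : x * x ≠ 1) : 4 ∣ orderOf x := by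
  obtain ⟨i, -, hi⟩ := (Nat.dvd_prime_pow Nat.prime_two).mp (orderOf_dvd_of_pow_eq_one hx)
  rw [hi]
  rcases i with _ | _ | i
  · exfalso
    rw [pow_zero, orderOf_eq_one_iff] at hi
    rw [hi, one_mul] at h2
    exact h2 rfl
  · exfalso
    apply h2
    rw [← sq]
    have : orderOf x = 2 := by rw [hi]; norm_num
    rw [← this, pow_orderOf_eq_one]
  · exact ⟨2 ^ i, by rw [pow_succ, pow_succ]; ring⟩

omit [Finite G] in
/-- 2-elements of the centralizer of an outer involution -/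
theorem Hyp.two_elt (h : Hyp K z p m n) {g x : G}
    (hg : Nat.card (K ⊓ centralizer ({g} : Set G) : Subgroup G) = n) (hx : x ∈ K)
    (hxg : x * g = g * x) {j : ℕ} (hxj : x ^ 2 ^ j = 1) : x = 1 ∨ x = z := by
  by_contra hcon
  push Not at hcon
  have h1 : x * x ≠ 1 := fun h1 => by
    rcases h.eq_z hx h1 with h2 | h2
    · exact hcon.1 h2
    · exact hcon.2 h2
  have h2 := four_dvd_of hxj h1
  have h3 : orderOf x ∣ n := by
    rw [← hg]
    exact (K ⊓ centralizer ({g} : Set G)).orderOf_dvd_natCard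
      ⟨hx, mem_centralizer_singleton_iff.mpr hxg⟩
  obtain ⟨d, m', n', hd, hm', hn', hm, hn, -, -⟩ := h.nums
  have h4 := h2.trans h3
  obtain ⟨i, hi⟩ := hn'
  omega

theorem exists_sylK {T : Subgroup G} (hT : IsSyl2 (normalizer (K : Set G)) T) :
    IsSyl2 K (T ⊓ K) := isSyl2_inf hT le_normalizer fun _ hd _ hw => mem_norm hd hw

theorem exists_sylY {T : Subgroup G} (hT : IsSyl2 (normalizer (K : Set G)) T) :
    IsSyl2 (centralizer (K : Set G)) (T ⊓ centralizer (K : Set G)) :=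
  isSyl2_inf hT (centralizer_le_normalizer _) (normal_cent K)

theorem Hyp.z_mem (h : Hyp K z p m n) {T : Subgroup G} (hT : IsSyl2 (normalizer (K : Set G)) T) :
    z ∈ T := by
  refine mem_of_central hT (centralizer_le_normalizer _ h.zY) (fun y hy => ?_)
    (isPGroup_zpowers h.z2)
  exact (h.mem_iff.mp hy).symm

omit [Finite G] in
theorem Hyp.card_K (h : Hyp K z p m n) {d m' n' : ℕ} (hm : m = 2 ^ d * m') (hn : n = 2 * n') :
    Nat.card K = 2 ^ (d + 1) * (p * m' * n') := by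
  rw [h.dat.card, hm, hn, pow_succ]; ring

theorem Hyp.card_Q (h : Hyp K z p m n) {T : Subgroup G} (hT : IsSyl2 (normalizer (K : Set G)) T)
    {d m' n' : ℕ} (hm : m = 2 ^ d * m') (hn : n = 2 * n') (hm' : Odd m') (hn' : Odd n')
    (hp : Odd p) : Nat.card (T ⊓ K : Subgroup G) = 2 ^ (d + 1) :=
  card_isSyl2 (exists_sylK hT) (h.card_K hm hn) ((hp.mul hm').mul hn')

/-- (P2) -/
theorem Hyp.twist (h : Hyp K z p m n) {u : G} (hu : u ∈ normalizer (K : Set G)) (huu : u * u = 1)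
    (huY : u ∉ centralizer (K : Set G)) : ∃ k ∈ K, k * k = z ∧ k * u * k⁻¹ = u * z := by
  by_cases hI : Inn K u
  · obtain ⟨k, hk, y, hy, rfl, hkk, hyy⟩ := h.inn_inv huu huY hI
    obtain ⟨w, hw, hwk, hww⟩ := h.conj_inv hk hkk
    refine ⟨w, hw, hww, ?_⟩
    have h1 := comm hw hy
    calc w * (k * y) * w⁻¹ = (w * k * w⁻¹) * (w * y * w⁻¹) := by group
      _ = (k * z) * y := by rw [hwk, h1, h.inv_k hkk, mul_inv_cancel_right]
      _ = k * y * z := by rw [mul_assoc, comm h.zK hy, mul_assoc]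
  · have huu' : u * u ∈ centralizer (K : Set G) := by rw [huu]; exact one_mem _
    have hc := h.outer hu huu' hI
    have hu1 : u ≠ 1 := by rintro rfl; exact huY (one_mem _)
    obtain ⟨T, hT, huT⟩ := exists_isSyl2 (normalizer (K : Set G)) (zpowers u)
      (zpowers_le.mpr hu) (isPGroup_zpowers (orderOf_eq_two hu1 huu))
    obtain ⟨d, m', n', hd, hm', hn', hm, hn, -, hp⟩ := h.nums
    have hQ := h.card_Q hT hm hn hm' hn' hp
    have hQ2 := (exists_sylK hT).two
    have huT' : u ∈ T := huT (mem_zpowers u)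
    have hne : Nat.card (T ⊓ K : Subgroup G) ≠ 2 := by
      rw [hQ]
      have : 2 ^ 2 ≤ 2 ^ (d + 1) := Nat.pow_le_pow_right (by norm_num) (by omega)
      omega
    obtain ⟨x, hx, hx1, hxz, hux⟩ := exists_twist hQ2 (z := z) (u := u) ⟨h.z_mem hT, h.zK⟩ h.zz
      h.z_ne (fun x hx => (comm hx.2 h.zY).symm) hne (fun x hx =>
        ⟨T.mul_mem (T.mul_mem huT' hx.1) (T.inv_mem huT'), mem_norm hu hx.2⟩)
      (h.mem_iff.mp hu) (j := 1) (by rw [pow_one, sq, huu])
    obtain ⟨j, hj⟩ := exists_pow_eq_one hQ2 hx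
    have hux' : u * x * u⁻¹ = x * z := by
      rcases hux with h1 | h1
      · exfalso
        rcases h.two_elt hc hx.2 (mul_inv_eq_iff_eq_mul.mp h1).symm hj with h2 | h2
        · exact hx1 h2
        · exact hxz h2
      · exact h1
    have hxx : x * x = z := by
      have h1 : u * (x * x) * u⁻¹ = x * x := by
        calc u * (x * x) * u⁻¹ = (u * x * u⁻¹) * (u * x * u⁻¹) := by group
          _ = x * (z * x) * z := by rw [hux']; group
          _ = x * (x * z) * z := by rw [comm hx.2 h.zY]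
          _ = x * x * (z * z) := by group
          _ = x * x := by rw [h.zz, mul_one]
      rcases h.two_elt hc (K.mul_mem hx.2 hx.2) (mul_inv_eq_iff_eq_mul.mp h1).symm (j := j) (by
        rw [← sq, ← pow_mul, mul_comm, pow_mul, hj, one_pow]) with h2 | h2
      · exfalso
        rcases h.eq_z hx.2 h2 with h3 | h3
        · exact hx1 h3
        · exact hxz h3
      · exact h2
    refine ⟨x, hx.2, hxx, ?_⟩
    have h1 : u * x = x * z * u := mul_inv_eq_iff_eq_mul.mp hux'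
    have h2 : u * z = z * u := h.mem_iff.mp hu
    rw [mul_inv_eq_iff_eq_mul]
    calc x * u = x * (z * z) * u := by rw [h.zz, mul_one]
      _ = x * z * (z * u) := by group
      _ = x * z * (u * z) := by rw [h2]
      _ = (x * z * u) * z := by group
      _ = u * x * z := by rw [h1]
      _ = u * (x * z) := by group
      _ = u * (z * x) := by rw [comm hx.2 h.zY]
      _ = u * z * x := by group

/-- (C2) a Sylow 2-subgroup of `N(K)` is a Sylow 2-subgroup of `G` -/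
theorem Hyp.isSyl2_top (h : Hyp K z p m n) {T : Subgroup G}
    (hT : IsSyl2 (normalizer (K : Set G)) T) : IsSyl2 (⊤ : Subgroup G) T := by
  have hpf : Fact (Nat.Prime 2) := ⟨Nat.prime_two⟩
  obtain ⟨T', hTT'⟩ := hT.two.exists_le_sylow
  have hzT := h.z_mem hT
  have hN : normalizer (T : Set G) ≤ normalizer (K : Set G) := by
    intro x hx
    have hz'T : x * z * x⁻¹ ∈ T := forall_of_mem_normalizer hx z hzT
    have hz'c : ∀ t ∈ T, t * (x * z * x⁻¹) = (x * z * x⁻¹) * t := by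
      intro t ht
      have h1 : x⁻¹ * t * x ∈ T := by
        have := forall_of_mem_normalizer (inv_mem hx) t ht
        rwa [inv_inv] at this
      have h2 : (x⁻¹ * t * x) * z = z * (x⁻¹ * t * x) := h.mem_iff.mp (hT.le h1)
      calc t * (x * z * x⁻¹) = x * ((x⁻¹ * t * x) * z) * x⁻¹ := by group
        _ = x * (z * (x⁻¹ * t * x)) * x⁻¹ := by rw [h2]
        _ = (x * z * x⁻¹) * t := by group
    have hzz' : (x * z * x⁻¹) * (x * z * x⁻¹) = 1 := by
      calc (x * z * x⁻¹) * (x * z * x⁻¹) = x * (z * z) * x⁻¹ := by group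
        _ = 1 := by rw [h.zz]; group
    have hzY : x * z * x⁻¹ ∈ centralizer (K : Set G) := by
      by_contra hY
      obtain ⟨d, m', n', hd, hm', hn', hm, hn, -, hp⟩ := h.nums
      have hQ := h.card_Q hT hm hn hm' hn' hp
      by_cases hI : Inn K (x * z * x⁻¹)
      · obtain ⟨k, hk, y, hy, hky, hkk, hyy⟩ := h.inn_inv hzz' hY hI
        have h1 : T ⊓ K ≤ K ⊓ centralizer ({k} : Set G) := by
          intro t ht
          refine ⟨ht.2, mem_centralizer_singleton_iff.mpr ?_⟩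
          have h2 := hz'c t ht.1
          rw [hky] at h2
          have h3 := comm ht.2 hy
          apply mul_right_cancel (b := y)
          calc t * k * y = t * (k * y) := by group
            _ = k * y * t := h2
            _ = k * (y * t) := by group
            _ = k * (t * y) := by rw [h3]
            _ = k * t * y := by group
        have h2 := Subgroup.card_dvd_of_le h1
        rw [hQ, h.card4 hk hkk, hm, pow_succ] at h2
        have h3 : 2 ∣ m' := Nat.dvd_of_mul_dvd_mul_left (by positivity) h2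
        rw [← even_iff_two_dvd, ← Nat.not_odd_iff_even] at h3
        exact h3 hm'
      · have hc := h.outer (hT.le hz'T) (by rw [hzz']; exact one_mem _) hI
        have h1 : T ⊓ K ≤ K ⊓ centralizer ({x * z * x⁻¹} : Set G) := by
          intro t ht
          exact ⟨ht.2, mem_centralizer_singleton_iff.mpr (hz'c t ht.1)⟩
        have h2 := Subgroup.card_dvd_of_le h1
        rw [hQ, hc, hn, pow_succ, mul_comm] at h2
        have h3 : 2 ^ d ∣ n' := Nat.dvd_of_mul_dvd_mul_left (by norm_num) h2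
        have h4 : 2 ∣ n' := (dvd_pow_self 2 (by omega)).trans h3
        rw [← even_iff_two_dvd, ← Nat.not_odd_iff_even] at h4
        exact h4 hn'
    rw [h.mem_iff]
    exact mul_inv_eq_iff_eq_mul.mp (h.eq_z_of_cent hzY)
  have hnS : normalizer (T : Set G) ⊓ (T' : Subgroup G) ≤ T := by
    have h2 : IsPGroup 2 (normalizer (T : Set G) ⊓ (T' : Subgroup G) : Subgroup G) :=
      T'.isPGroup'.to_le inf_le_right
    exact (hT.max _ (inf_le_left.trans hN) h2 (le_inf Subgroup.le_normalizer hTT')).le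
  have hTT : (T' : Subgroup G) = T :=
    Cfsg.Agent.Blocks.SylowIn.eq_of_normalizer_inf_le (p := 2) T'.isPGroup' hTT' hnS
  refine ⟨le_top, hT.two, fun Y _ hY hle => ?_⟩
  rw [← hTT] at hle ⊢
  exact T'.is_maximal' hY hle

/-- Two commuting conjugates `z`, `u` of `z`, permuted with `uz` by the 3-element `h`. -/
structure Pair (K : Subgroup G) (z u h : G) (P T : Subgroup G) (p m n : ℕ) : Prop where
  hyp : Hyp K z p m n
  hz : h * z * h⁻¹ = u
  hu : h * u * h⁻¹ = u * z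
  ne : u ≠ z
  com : u * z = z * u
  three : ∃ s, orderOf h = 3 ^ s
  syl : IsSyl2 (centralizer ({z} : Set G) ⊓ centralizer ({u} : Set G)) P
  hP : ∀ x ∈ P, h * x * h⁻¹ ∈ P
  sylT : IsSyl2 (normalizer (K : Set G)) T
  le : P ≤ T

omit [Finite G] in
theorem isSyl2_cj {H Q : Subgroup G} (hQ : IsSyl2 H Q) (g : G) : IsSyl2 (cj g H) (cj g Q) := by
  refine ⟨cj_mono hQ.le, hQ.two.map _, fun Y hY hY2 hle => ?_⟩
  have h1 := hQ.max (cj g⁻¹ Y) (by
    have := cj_mono (g := g⁻¹) hY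
    rwa [cj_inv_cj] at this) (hY2.map _) (by
    have := cj_mono (g := g⁻¹) hle
    rwa [cj_inv_cj] at this)
  rw [← h1, cj_cj_inv]

/-- (C3) -/
theorem exists_pair (h : Hyp K z p m n) {g : G} (hc : (g * z * g⁻¹) * z = z * (g * z * g⁻¹))
    (hne : g * z * g⁻¹ ≠ z) : ∃ (x : G) (P T : Subgroup G), Pair K z (g * z * g⁻¹) x P T p m n := by
  have hKu : Hyp (cj g K) (g * z * g⁻¹) p m n := h.conj g
  have hzg : ∀ x, x = g * z * g⁻¹ → x ∈ centralizer (K : Set G) → x = z := by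
    rintro x rfl hx
    exact h.eq_z_of_cent hx
  obtain ⟨u, hu⟩ : ∃ u, u = g * z * g⁻¹ := ⟨_, rfl⟩
  rw [← hu] at hc hne hKu ⊢
  have huu : u * u = 1 := by
    calc u * u = g * (z * z) * g⁻¹ := by rw [hu]; group
      _ = 1 := by rw [h.zz]; group
  have hzz := h.zz
  obtain ⟨k, hk, -, hku⟩ := h.twist (h.mem_iff.mpr hc) huu (fun hY => hne (hzg u hu hY))
  have hzY : z ∉ centralizer (cj g K : Set G) := by
    intro hY
    have e : z = g⁻¹ * u * g⁻¹⁻¹ := by rw [hu]; group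
    rw [e] at hY
    have := hKu.eq_z_of_cent hY
    rw [← e] at this
    exact hne this.symm
  obtain ⟨k', hk', -, hku'⟩ := hKu.twist (hKu.mem_iff.mpr hc.symm) h.zz hzY
  have hkz : k * z * k⁻¹ = z := h.conj_z (le_normalizer hk)
  have hku2 : k' * u * k'⁻¹ = u := hKu.conj_z (le_normalizer hk')
  -- the 3-cycle
  obtain ⟨x₀, hx₀⟩ : ∃ x₀, x₀ = k * k' := ⟨_, rfl⟩
  have hxz : x₀ * z * x₀⁻¹ = u := by
    rw [hx₀]
    calc k * k' * z * (k * k')⁻¹ = k * (k' * z * k'⁻¹) * k⁻¹ := by group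
      _ = (k * z * k⁻¹) * (k * u * k⁻¹) := by rw [hku']; group
      _ = z * (u * z) := by rw [hkz, hku]
      _ = (z * z) * u := by rw [hc]; group
      _ = u := by rw [hzz, one_mul]
  have hxu : x₀ * u * x₀⁻¹ = u * z := by
    rw [hx₀]
    calc k * k' * u * (k * k')⁻¹ = k * (k' * u * k'⁻¹) * k⁻¹ := by group
      _ = u * z := by rw [hku2, hku]
  set D := centralizer ({z} : Set G) ⊓ centralizer ({u} : Set G) with hD
  have hDmem : ∀ x, x ∈ D ↔ x * z = z * x ∧ x * u = u * x := fun x => by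
    rw [hD, Subgroup.mem_inf, mem_centralizer_singleton_iff, mem_centralizer_singleton_iff]
  obtain ⟨P, hP, -⟩ := exists_isSyl2 D ⊥ bot_le IsPGroup.of_bot
  have hDx : cj x₀ D = D := by
    have hx : x₀ ∈ normalizer (D : Set G) := by
      refine mem_normalizer_of_forall fun x hx => ?_
      rw [hDmem] at hx ⊢
      have e2 : x₀ * (u * z) * x₀⁻¹ = z := by
        calc x₀ * (u * z) * x₀⁻¹ = (x₀ * u * x₀⁻¹) * (x₀ * z * x₀⁻¹) := by group
          _ = u * z * u := by rw [hxz, hxu]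
          _ = z * (u * u) := by rw [hc]; group
          _ = z := by rw [huu, mul_one]
      constructor
      · have hxuz : x * (u * z) = (u * z) * x := by
          rw [← mul_assoc, hx.2, mul_assoc, hx.1, mul_assoc]
        calc x₀ * x * x₀⁻¹ * z = x₀ * x * x₀⁻¹ * (x₀ * (u * z) * x₀⁻¹) := by rw [e2]
          _ = x₀ * (x * (u * z)) * x₀⁻¹ := by group
          _ = x₀ * ((u * z) * x) * x₀⁻¹ := by rw [hxuz]
          _ = (x₀ * (u * z) * x₀⁻¹) * (x₀ * x * x₀⁻¹) := by group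
          _ = z * (x₀ * x * x₀⁻¹) := by rw [e2]
      · calc x₀ * x * x₀⁻¹ * u = x₀ * x * x₀⁻¹ * (x₀ * z * x₀⁻¹) := by rw [hxz]
          _ = x₀ * (x * z) * x₀⁻¹ := by group
          _ = x₀ * (z * x) * x₀⁻¹ := by rw [hx.1]
          _ = (x₀ * z * x₀⁻¹) * (x₀ * x * x₀⁻¹) := by group
          _ = u * (x₀ * x * x₀⁻¹) := by rw [hxz]
    exact cj_eq_iff.mpr hx
  have hP' := isSyl2_cj hP x₀
  rw [hDx] at hP'
  obtain ⟨c, hcD, hcP⟩ := CITBasic.IsSyl2.conj hP' hP
  have hcD' := (hDmem c).mp hcD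
  obtain ⟨x₁, hx₁⟩ : ∃ x₁, x₁ = c * x₀ := ⟨_, rfl⟩
  have hx1P : cj x₁ P = P := by
    rw [hx₁, cj_mul]; exact hcP.symm
  have hx1z : x₁ * z * x₁⁻¹ = u := by
    rw [hx₁]
    calc c * x₀ * z * (c * x₀)⁻¹ = c * (x₀ * z * x₀⁻¹) * c⁻¹ := by group
      _ = u := by rw [hxz, hcD'.2]; group
  have hx1u : x₁ * u * x₁⁻¹ = u * z := by
    rw [hx₁]
    calc c * x₀ * u * (c * x₀)⁻¹ = c * (x₀ * u * x₀⁻¹) * c⁻¹ := by group
      _ = (c * u) * z * c⁻¹ := by rw [hxu]; group
      _ = u * (c * z) * c⁻¹ := by rw [hcD'.2]; group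
      _ = u * z := by rw [hcD'.1]; group
  -- the 3-part
  obtain ⟨s, t, ht, hst⟩ := Nat.exists_eq_pow_mul_and_not_dvd (orderOf_pos x₁).ne' 3 (by decide)
  have hx3z : Commute (x₁ ^ 3) z := by
    have e : x₁ ^ 3 * z * (x₁ ^ 3)⁻¹ = z := by
      calc x₁ ^ 3 * z * (x₁ ^ 3)⁻¹ = x₁ * (x₁ * (x₁ * z * x₁⁻¹) * x₁⁻¹) * x₁⁻¹ := by
            rw [pow_succ, pow_succ, pow_succ, pow_zero]; group
        _ = x₁ * (u * z) * x₁⁻¹ := by rw [hx1z, hx1u]
        _ = (x₁ * u * x₁⁻¹) * (x₁ * z * x₁⁻¹) := by group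
        _ = (z * u) * u := by rw [hx1z, hx1u, hc]
        _ = z := by rw [mul_assoc, huu, mul_one]
    exact mul_inv_eq_iff_eq_mul.mp e
  have hx3u : Commute (x₁ ^ 3) u := by
    have e : x₁ ^ 3 * u * (x₁ ^ 3)⁻¹ = u := by
      have hx3z' := hx3z.eq
      calc x₁ ^ 3 * u * (x₁ ^ 3)⁻¹ = x₁ ^ 3 * (x₁ * z * x₁⁻¹) * (x₁ ^ 3)⁻¹ := by rw [hx1z]
        _ = x₁ * (x₁ ^ 3 * z * (x₁ ^ 3)⁻¹) * x₁⁻¹ := by
            rw [pow_succ, pow_succ, pow_succ, pow_zero]; group
        _ = x₁ * z * x₁⁻¹ := by rw [hx3z']; group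
        _ = u := hx1z
    exact mul_inv_eq_iff_eq_mul.mp e
  obtain ⟨j, hj⟩ : ∃ j, t ^ 2 = 3 * j + 1 := by
    have h3 : t % 3 = 1 ∨ t % 3 = 2 := by omega
    have h4 : t ^ 2 % 3 = 1 := by
      rw [Nat.pow_mod]
      rcases h3 with h3 | h3 <;> rw [h3]
    exact ⟨t ^ 2 / 3, by omega⟩
  obtain ⟨y, hy⟩ : ∃ y, y = x₁ ^ t ^ 2 := ⟨_, rfl⟩
  have hyx : y = (x₁ ^ 3) ^ j * x₁ := by rw [hy, hj, pow_succ, pow_mul]
  have hyz : y * z * y⁻¹ = u := by
    rw [hyx]
    calc (x₁ ^ 3) ^ j * x₁ * z * ((x₁ ^ 3) ^ j * x₁)⁻¹ =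
          (x₁ ^ 3) ^ j * (x₁ * z * x₁⁻¹) * ((x₁ ^ 3) ^ j)⁻¹ := by group
      _ = u := by rw [hx1z, (hx3u.pow_left j).eq]; group
  have hyu : y * u * y⁻¹ = u * z := by
    rw [hyx]
    calc (x₁ ^ 3) ^ j * x₁ * u * ((x₁ ^ 3) ^ j * x₁)⁻¹ =
          (x₁ ^ 3) ^ j * (x₁ * u * x₁⁻¹) * ((x₁ ^ 3) ^ j)⁻¹ := by group
      _ = u * z := by rw [hx1u, ((hx3u.mul_right hx3z).pow_left j).eq]; group
  have hyP : ∀ x ∈ P, y * x * y⁻¹ ∈ P := by
    have hx1n : x₁ ∈ normalizer (P : Set G) := cj_eq_iff.mp hx1P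
    have hyn : y ∈ normalizer (P : Set G) := by rw [hy]; exact Subgroup.pow_mem _ hx1n _
    exact forall_of_mem_normalizer hyn
  have hy3 : y ^ 3 ^ s = 1 := by
    rw [hy, ← pow_mul, sq, mul_comm (t * t), ← mul_assoc, ← hst, pow_mul, pow_orderOf_eq_one,
      one_pow]
  obtain ⟨s', -, hs'⟩ := (Nat.dvd_prime_pow Nat.prime_three).mp (orderOf_dvd_of_pow_eq_one hy3)
  obtain ⟨T, hT, hPT⟩ := exists_isSyl2 (normalizer (K : Set G)) P (by
    intro x hx
    exact h.mem_iff.mpr ((hDmem x).mp (hP.le hx)).1) hP.two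
  exact ⟨y, P, T, h, hyz, hyu, hne, hc, ⟨s', hs'⟩, hP, hyP, hT, hPT⟩

end Cfsg.Agent.OddCyclic.CompSL2Amb
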