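import Cfsg.Agent.OddCyclic.CaseABase
import Cfsg.Agent.OddCyclic.CaseESz
import Cfsg.Agent.OddCyclic.CompSzDefs

/-!
# S0342, component type, case E: [E-R]

`K ≅ Sz(q)`; `g ∉ M = N(K)`, `Y = C(K)`, `Y^g ∩ M` of even order. Then a Sylow 2-subgroup `R` of `Y` is
elementary abelian and some `n ∉ M` normalizes a Sylow 2-subgroup `S = R × Q` of `M`.
-/

set_option autoImplicit false

namespace Cfsg.Agent.OddCyclic.CompSzR

open Subgroup
open Cfsg.Agent.LieExceptional Cfsg.Agent.LieExceptional.CITDefs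
open Cfsg.Agent.LieExceptional.CITBasic
open Cfsg.Agent.OddCyclic.T1Tools
open Cfsg.Agent.OddCyclic.CompBasic Cfsg.Agent.OddCyclic.CompStandard
open Cfsg.Agent.OddCyclic.CaseABase Cfsg.Agent.OddCyclic.CaseESz
open Cfsg.Agent.OddCyclic.CompSzDefs

variable {G : Type*} [Group G] [Finite G] {p : ℕ} {K : Subgroup G} {q : ℕ} {g : G}

omit [Finite G] in
theorem even_q (hL : SzK K q) : Even q := by
  obtain ⟨m, hm, rfl⟩ := hL.pow
  exact (Nat.even_pow.mpr ⟨even_two, by omega⟩)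

omit [Finite G] in
theorem odd_card_H (hL : SzK K q) : Odd (q - 1) := by
  have h4 := hL.eight
  obtain ⟨m, hm⟩ := even_q hL
  exact ⟨m - 1, by omega⟩

omit [Finite G] in
theorem H_inf {Q E H : Subgroup G} (hB : SzB K Q E H q)
    {h : G} (hh : h ∈ H) (he : h ∈ Q) : h = 1 := by
  rcases hB.fpf h hh h he rfl with h1 | h1 <;> exact h1

omit [Finite G] in
/-- commutators of elements of `Q` lie in `E` -/
theorem comm_mem {Q E H : Subgroup G} (hB : SzB K Q E H q) {u v : G} (hu : u ∈ Q) (hv : v ∈ Q) :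
    u * v * u⁻¹ * v⁻¹ ∈ E := by
  rw [← hB.comm]
  exact Subgroup.commutator_mem_commutator hu hv

omit [Finite G] in
/-- the commutator with `k` is a homomorphism -/
theorem comm_mul {Q E H : Subgroup G} (hB : SzB K Q E H q) {u v k : G} (hu : u ∈ Q) (hv : v ∈ Q)
    (hk : k ∈ Q) : (u * v) * k * (u * v)⁻¹ * k⁻¹ =
      (u * k * u⁻¹ * k⁻¹) * (v * k * v⁻¹ * k⁻¹) := by
  have h1 := hB.central _ (comm_mem hB hv hk) u hu
  calc (u * v) * k * (u * v)⁻¹ * k⁻¹ = u * (v * k * v⁻¹ * k⁻¹) * (k * u⁻¹ * k⁻¹) := by group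
    _ = (v * k * v⁻¹ * k⁻¹) * u * (k * u⁻¹ * k⁻¹) := by rw [h1]
    _ = (v * k * v⁻¹ * k⁻¹) * (u * k * u⁻¹ * k⁻¹) := by group
    _ = (u * k * u⁻¹ * k⁻¹) * (v * k * v⁻¹ * k⁻¹) := by
        rw [hB.central _ (comm_mem hB hv hk) _ (hB.leZ.trans le_rfl (comm_mem hB hu hk))]

/-- the commutator map -/
def cmap {Q E H : Subgroup G} (hB : SzB K Q E H q) {k : G} (hk : k ∈ Q) : Q →* G where
  toFun u := (u : G) * k * (u : G)⁻¹ * k⁻¹
  map_one' := by simp
  map_mul' u v := comm_mul hB u.2 v.2 hk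

/-- In `Q` the commutators with a noncentral element do not lie in a group of order `≤ 2`. -/
theorem exists_comm_notMem {Q E H : Subgroup G} (hB : SzB K Q E H q) (h8 : 8 ≤ q) {k : G}
    (hk : k ∈ Q) (hkE : k ∉ E) {E0 : Subgroup G} (h0 : Nat.card E0 ≤ 2) :
    ∃ u ∈ Q, u * k * u⁻¹ * k⁻¹ ∉ E0 := by
  by_contra hno
  push Not at hno
  -- a second element not commuting with `k`
  obtain ⟨v, hv, hvk⟩ : ∃ v ∈ Q, v * k ≠ k * v := by
    by_contra hc
    push Not at hc
    -- all elements are central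
    have hall : ∀ x ∈ Q, ∀ u ∈ Q, u * x = x * u := by
      intro x hx u hu
      by_cases hxE : x ∈ E
      · exact (hB.central x hxE u hu).symm
      · obtain ⟨h, hh, z, hz, hhz⟩ := hB.trans' k hk x hx hkE hxE
        have h1 : x = h * k * h⁻¹ * z⁻¹ := by rw [hhz]; group
        have h2 : (h⁻¹ * u * h) * k = k * (h⁻¹ * u * h) := by
          refine hc _ ?_
          have := hB.norm h⁻¹ (H.inv_mem hh) u hu
          rwa [inv_inv] at this
        have h3 : u * (h * k * h⁻¹) = (h * k * h⁻¹) * u := by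
          calc u * (h * k * h⁻¹) = h * ((h⁻¹ * u * h) * k) * h⁻¹ := by group
            _ = h * (k * (h⁻¹ * u * h)) * h⁻¹ := by rw [h2]
            _ = (h * k * h⁻¹) * u := by group
        have h4 : z⁻¹ * u = u * z⁻¹ := hB.central _ (E.inv_mem hz) u hu
        rw [h1]
        calc u * (h * k * h⁻¹ * z⁻¹) = (u * (h * k * h⁻¹)) * z⁻¹ := by group
          _ = (h * k * h⁻¹) * (u * z⁻¹) := by rw [h3]; group
          _ = (h * k * h⁻¹ * z⁻¹) * u := by rw [← h4]; group
    have h5 : ⁅Q, Q⁆ = ⊥ := by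
      rw [commutator_eq_bot_iff_le_centralizer]
      intro x hx
      rw [mem_centralizer_iff]
      intro u hu
      exact hall x hx u hu
    rw [hB.comm] at h5
    have h6 := hB.cardZ
    rw [h5, Subgroup.card_bot] at h6
    omega
  have hvE : v ∉ E := fun h => hvk (hB.central v h k hk)
  -- the commutators with `v` also lie in a group of order `≤ 2`
  obtain ⟨h, hh, z, hz, hhz⟩ := hB.trans' k hk v hv hkE hvE
  have hv' : ∀ u ∈ Q, u * v * u⁻¹ * v⁻¹ ∈ cj h E0 := by
    intro u hu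
    rw [mem_cj]
    have h1 : v = h * k * h⁻¹ * z⁻¹ := by rw [hhz]; group
    have h2 := hno (h⁻¹ * u * h) (by
      have := hB.norm h⁻¹ (H.inv_mem hh) u hu
      rwa [inv_inv] at this)
    have h4 : z⁻¹ * u⁻¹ = u⁻¹ * z⁻¹ := hB.central _ (E.inv_mem hz) _ (Q.inv_mem hu)
    have e : h⁻¹ * (u * v * u⁻¹ * v⁻¹) * h =
        h⁻¹ * u * h * k * (h⁻¹ * u * h)⁻¹ * k⁻¹ := by
      rw [h1]
      calc h⁻¹ * (u * (h * k * h⁻¹ * z⁻¹) * u⁻¹ * (h * k * h⁻¹ * z⁻¹)⁻¹) * h
          = h⁻¹ * u * h * k * h⁻¹ * (z⁻¹ * u⁻¹) * z * h * k⁻¹ := by group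
        _ = h⁻¹ * u * h * k * h⁻¹ * (u⁻¹ * z⁻¹) * z * h * k⁻¹ := by rw [h4]
        _ = h⁻¹ * u * h * k * (h⁻¹ * u * h)⁻¹ * k⁻¹ := by group
    rw [e]; exact h2
  -- the map to the product
  let φ : Q →* G × G := (cmap hB hk).prod (cmap hB hv)
  have hker : Nat.card φ.ker ≤ Nat.card E := by
    refine Nat.card_le_card_of_injective (fun y : φ.ker => (⟨((y : Q) : G), ?_⟩ : E)) ?_
    · by_contra hy
      have h1 : ((y : Q) : G) * k * ((y : Q) : G)⁻¹ * k⁻¹ = 1 :=
        congrArg Prod.fst (MonoidHom.mem_ker.mp y.2)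
      have h2 : ((y : Q) : G) * v * ((y : Q) : G)⁻¹ * v⁻¹ = 1 :=
        congrArg Prod.snd (MonoidHom.mem_ker.mp y.2)
      have h3 : ((y : Q) : G) * k = k * (y : Q) := mul_inv_eq_iff_eq_mul.mp (mul_inv_eq_one.mp h1)
      have h4 : ((y : Q) : G) * v = v * (y : Q) := mul_inv_eq_iff_eq_mul.mp (mul_inv_eq_one.mp h2)
      exact hvk (hB.abel _ (y : Q).2 hy v hv k hk h4.symm h3.symm)
    · intro y y' hyy
      have h1 : ((y : Q) : G) = ((y' : Q) : G) := (congrArg (fun w : E => (w : G)) hyy :)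
      exact Subtype.ext (Subtype.ext h1)
  have hran : Nat.card φ.range ≤ 4 := by
    have h1 : φ.range ≤ (E0.prod (cj h E0)) := by
      rintro _ ⟨u, rfl⟩
      exact ⟨hno u u.2, hv' u u.2⟩
    refine (Subgroup.card_le_of_le h1).trans ?_
    rw [Nat.card_congr (Subgroup.prodEquiv E0 (cj h E0)).toEquiv, Nat.card_prod, card_cj]
    nlinarith
  have hc : Nat.card Q = Nat.card φ.range * Nat.card φ.ker := by
    have h2 := Subgroup.card_eq_card_quotient_mul_card_subgroup φ.ker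
    rw [h2, Nat.card_congr (QuotientGroup.quotientKerEquivRange φ).toEquiv]
  rw [hB.cardZ] at hker
  rw [hB.cardQ] at hc
  have h9 : q ^ 2 ≤ 4 * q := by rw [hc]; exact Nat.mul_le_mul hran hker
  nlinarith

/-- The centralizer in `K` of an involution is a Sylow 2-subgroup. -/
theorem exists_sylow (hL : SzK K q) {k : G} (hk : k ∈ K) (hk2 : orderOf k = 2) :
    ∃ Q E H : Subgroup G, IsSyl2 K Q ∧ SzB K Q E H q ∧ k ∈ E ∧
      ∀ x ∈ K, x * k = k * x ↔ x ∈ Q := by
  obtain ⟨Q, hQ, hkQ⟩ := exists_isSyl2 K (zpowers k) (zpowers_le.mpr hk) (isPGroup_zpowers hk2)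
  obtain ⟨E, H, hB⟩ := hL.borel Q hQ
  have hkQ' : k ∈ Q := hkQ (mem_zpowers k)
  have hkE : k ∈ E := (hB.mem_Z k hkQ').mpr (sq_of_orderOf hk2)
  refine ⟨Q, E, H, hQ, hB, hkE, fun x hx => ⟨fun h => ?_, fun h => ?_⟩⟩
  · exact hB.cent k hkQ' (ne_one_of_orderOf hk2) x hx h
  · exact (hB.central k hkE x h).symm

/-- (c) For an involution `a` of `Y^g ∩ M`: `Q = C_K(a)` is a Sylow 2-subgroup of `K` and
`K ∩ M^g = Q`. -/
theorem exists_Q (h : Std p K) (hL : SzK K q) (hg : g ∉ normalizer (K : Set G)) {a : G}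
    (haY : a ∈ cj g (centralizer (K : Set G))) (haM : a ∈ normalizer (K : Set G))
    (ha2 : orderOf a = 2) :
    ∃ Q E H : Subgroup G, IsSyl2 K Q ∧ SzB K Q E H q ∧
      K ⊓ cj g (normalizer (K : Set G)) = Q := by
  have haK : a ∈ K ⊔ centralizer (K : Set G) :=
    hL.inner a haM ⟨1, by rw [pow_one, pow_two]; exact sq_of_orderOf ha2⟩
  obtain ⟨k, hk, y, hy, rfl⟩ := mem_KY.mp haK
  have h1 : (k * y) ^ 2 = 1 := by rw [← ha2, pow_orderOf_eq_one]
  obtain ⟨hk2, hy2⟩ := pow_eq_one_KY hL.inf hk hy h1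
  have hk1 : k ≠ 1 := by
    rintro rfl
    rw [one_mul] at haY ha2
    exact hg (h.mem_of_involution ha2 hy haY)
  have hko : orderOf k = 2 := orderOf_eq_prime hk2 hk1
  obtain ⟨Q, E, H, hQ, hB, hkE, hcent⟩ := exists_sylow hL hk hko
  have hca : ∀ x ∈ K, x * (k * y) = (k * y) * x ↔ x ∈ Q := by
    intro x hx
    rw [← hcent x hx]
    have hxy : x * y = y * x := comm_KY x hx y hy
    constructor
    · intro h2
      have : x * k * y = k * x * y := by
        calc x * k * y = x * (k * y) := by group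
          _ = k * y * x := h2
          _ = k * (y * x) := by group
          _ = k * (x * y) := by rw [hxy]
          _ = k * x * y := by group
      exact mul_right_cancel this
    · intro h2
      calc x * (k * y) = (x * k) * y := by group
        _ = k * x * y := by rw [h2]
        _ = k * (x * y) := by group
        _ = k * (y * x) := by rw [hxy]
        _ = k * y * x := by group
  have hQle : Q ≤ cj g (normalizer (K : Set G)) := by
    intro e he
    refine h.centralizer_le_cj ha2 haY ?_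
    rw [mem_centralizer_singleton_iff]
    exact (hca e (hQ.le he)).mpr he
  have h2g : IsPGroup 2 (K ⊓ cj g (normalizer (K : Set G)) : Subgroup G) := by
    refine isPGroup_two_of_forall fun r hr hr2 x hx hxr => ?_
    have hrK : r ∣ Nat.card K := by rw [← hxr]; exact K.orderOf_dvd_natCard hx.1
    have h3 := h.commute_of_dvd g hr hr2 hrK hx.2 hxr haY
    have h4 : x ∈ Q := (hca x hx.1).mp h3
    obtain ⟨n, hn⟩ := mem_of_pow_two hQ.two h4
    have h6 : r ∣ 2 ^ n := by
      rw [← hxr]; exact orderOf_dvd_of_pow_eq_one hn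
    exact hr2 ((Nat.prime_dvd_prime_iff_eq hr Nat.prime_two).mp (hr.dvd_of_dvd_pow h6))
  refine ⟨Q, E, H, hQ, hB, ?_⟩
  exact hQ.max _ inf_le_left h2g (le_inf hQ.le hQle)

/-- The situation of (c). -/
structure Pre (p : ℕ) (K : Subgroup G) (q : ℕ) (g : G) (S P Q E H : Subgroup G) : Prop where
  std : Std p K
  sz : SzK K q
  hg : g ∉ normalizer (K : Set G)
  pair : PairAt K g S P
  sylQ : IsSyl2 K Q
  bor : SzB K Q E H q
  inf : K ⊓ cj g (normalizer (K : Set G)) = Q
  neA : P ⊓ cj g (centralizer (K : Set G)) ≠ ⊥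

variable {S P Q E H : Subgroup G}

omit [Finite G] in
theorem Pre.normQ (s : Pre p K q g S P Q E H) {d : G} (hd : d ∈ normalizer (K : Set G))
    (hd' : d ∈ cj g (normalizer (K : Set G))) {e : G} (he : e ∈ Q) : d * e * d⁻¹ ∈ Q := by
  have h1 : e ∈ K ⊓ cj g (normalizer (K : Set G)) := by rw [s.inf]; exact he
  have h2 : d * e * d⁻¹ ∈ K ⊓ cj g (normalizer (K : Set G)) := by
    refine Subgroup.mem_inf.mpr ⟨forall_of_mem_normalizer hd e h1.1, ?_⟩
    exact Subgroup.mul_mem _ (Subgroup.mul_mem _ hd' h1.2) (Subgroup.inv_mem _ hd')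
  rwa [s.inf] at h2

omit [Finite G] in
theorem Pre.Q_le_cj (s : Pre p K q g S P Q E H) : Q ≤ cj g (normalizer (K : Set G)) := by
  rw [← s.inf]; exact inf_le_right

theorem Pre.Q_le_P (s : Pre p K q g S P Q E H) : Q ≤ P :=
  le_isSyl2 s.pair.sylD (le_inf (s.sylQ.le.trans Subgroup.le_normalizer) s.Q_le_cj)
    s.sylQ.two
    (fun _ hs _ he => s.normQ (s.pair.sylD.le hs).1 (s.pair.sylD.le hs).2 he)

theorem Pre.H_fix (s : Pre p K q g S P Q E H) {h e : G} (hh : h ∈ H) (he : e ∈ E) (he1 : e ≠ 1)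
    (h1 : e ∈ cj g (centralizer (K : Set G)))
    (h2 : h * e * h⁻¹ ∈ cj g (centralizer (K : Set G))) : h = 1 := by
  have ho : orderOf e = 2 := orderOf_eq_two he1 ((s.bor.mem_Z e (s.bor.leZ he)).mp he)
  have h3 : e ∈ cj (h⁻¹ * g) (centralizer (K : Set G)) := by
    rw [mem_cj]
    have := mem_cj.mp h2
    have e1 : (h⁻¹ * g)⁻¹ * e * (h⁻¹ * g) = g⁻¹ * (h * e * h⁻¹) * g := by group
    rw [e1]; exact this
  have h4 := mem_of_cj s.std ho h3 h1
  have h5 : h ∈ cj g (normalizer (K : Set G)) := by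
    rw [mem_cj]
    have e1 : (h⁻¹ * g)⁻¹ * g = g⁻¹ * h * g := by group
    rwa [e1] at h4
  have h6 : h ∈ K ⊓ cj g (normalizer (K : Set G)) := ⟨s.bor.leH hh, h5⟩
  rw [s.inf] at h6
  exact H_inf s.bor hh h6

theorem Pre.card_E0 (s : Pre p K q g S P Q E H) :
    Nat.card (E ⊓ cj g (centralizer (K : Set G)) : Subgroup G) ≤ 2 := by
  by_contra hc
  push Not at hc
  obtain ⟨a, b, ha, hb, hab⟩ : ∃ a b : (E ⊓ cj g (centralizer (K : Set G)) : Subgroup G),
      a ≠ 1 ∧ b ≠ 1 ∧ a ≠ b := by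
    by_contra hno
    push Not at hno
    have h1 : Nat.card {x : (E ⊓ cj g (centralizer (K : Set G)) : Subgroup G) // x ≠ 1} ≤ 1 := by
      rw [Finite.card_le_one_iff_subsingleton]
      exact ⟨fun x y => Subtype.ext (hno x y x.2 y.2)⟩
    rw [card_ne_one] at h1
    omega
  have ha1 : (a : G) ≠ 1 := fun h => ha (Subtype.ext h)
  have hb1 : (b : G) ≠ 1 := fun h => hb (Subtype.ext h)
  obtain ⟨h, hh, hhb⟩ := s.bor.trans a a.2.1 b b.2.1 ha1 hb1
  have h1 := s.H_fix hh a.2.1 ha1 a.2.2 (by rw [hhb]; exact b.2.2)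
  subst h1
  apply hab
  apply Subtype.ext
  rw [← hhb]; group

theorem Pre.A_le (s : Pre p K q g S P Q E H) {x : G}
    (hx : x ∈ P ⊓ cj g (centralizer (K : Set G))) :
    ∃ y ∈ P ⊓ centralizer (K : Set G), ∃ e ∈ E, x = y * e := by
  have hxD := s.pair.sylD.le hx.1
  have hx2 := mem_of_pow_two s.pair.sylD.two hx.1
  obtain ⟨k, hk, y, hy, hxky⟩ := mem_KY.mp (s.sz.inner x hxD.1 hx2)
  have hky : k * y = y * k := comm_KY k hk y hy
  obtain ⟨n, hn2⟩ := hx2
  rw [hxky] at hn2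
  obtain ⟨hk2, -⟩ := pow_eq_one_KY s.sz.inf hk hy hn2
  have hkQ : k ∈ Q := by
    refine mem_isSyl2 s.sylQ hk ⟨n, hk2⟩ fun e he => ?_
    have h3 := s.normQ hxD.1 hxD.2 he
    have h4 : y * e = e * y := (comm_KY e (s.sylQ.le he) y hy).symm
    have e1 : x * e * x⁻¹ = k * e * k⁻¹ := by
      rw [hxky]
      calc k * y * e * (k * y)⁻¹ = k * (y * e) * y⁻¹ * k⁻¹ := by group
        _ = k * (e * y) * y⁻¹ * k⁻¹ := by rw [h4]
        _ = k * e * k⁻¹ := by group
    rwa [e1] at h3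
  have hyP : y ∈ P := by
    have h1 : y = k⁻¹ * x := by rw [hxky]; group
    rw [h1]
    exact P.mul_mem (P.inv_mem (s.Q_le_P hkQ)) hx.1
  refine ⟨y, ⟨hyP, hy⟩, k, ?_, by rw [hxky, hky]⟩
  by_contra hkE
  obtain ⟨u, hu, hu0⟩ := exists_comm_notMem s.bor s.sz.eight hkQ hkE s.card_E0
  apply hu0
  refine Subgroup.mem_inf.mpr ⟨comm_mem s.bor hu hkQ, ?_⟩
  have h1 := normal_cj_cent g K u (s.Q_le_cj hu) x hx.2
  have h2 := Subgroup.mul_mem _ h1 (Subgroup.inv_mem _ hx.2)
  have h4 : y * u⁻¹ = u⁻¹ * y := (comm_KY _ (K.inv_mem (s.sylQ.le hu)) y hy).symm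
  have e1 : u * x * u⁻¹ * x⁻¹ = u * k * u⁻¹ * k⁻¹ := by
    rw [hxky]
    calc u * (k * y) * u⁻¹ * (k * y)⁻¹ = u * k * (y * u⁻¹) * y⁻¹ * k⁻¹ := by group
      _ = u * k * (u⁻¹ * y) * y⁻¹ * k⁻¹ := by rw [h4]
      _ = u * k * u⁻¹ * k⁻¹ := by group
  rwa [e1] at h2

theorem Pre.A_inf (s : Pre p K q g S P Q E H) {x : G}
    (hx : x ∈ P ⊓ cj g (centralizer (K : Set G))) (hxY : x ∈ centralizer (K : Set G)) :
    x = 1 := by
  have h1 := s.std.inf_eq_bot s.hg
    (A := P ⊓ cj g (centralizer (K : Set G))) (s.pair.sylD.two.to_le inf_le_left) inf_le_right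
  have h2 : x ∈ P ⊓ cj g (centralizer (K : Set G)) ⊓ centralizer (K : Set G) := ⟨hx, hxY⟩
  rwa [h1, mem_bot] at h2

omit [Finite G] in
theorem Pre.sqE (s : Pre p K q g S P Q E H) {e : G} (he : e ∈ E) : e * e = 1 :=
  (s.bor.mem_Z e (s.bor.leZ he)).mp he

omit [Finite G] in
theorem Pre.leK (s : Pre p K q g S P Q E H) : E ≤ K := s.bor.leZ.trans s.bor.leQ

theorem Pre.A_elem (s : Pre p K q g S P Q E H) :
    Elem (P ⊓ cj g (centralizer (K : Set G)) : Subgroup G) := by
  intro x hx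
  obtain ⟨y, hy, e, he, hxy⟩ := s.A_le hx
  refine s.A_inf (Subgroup.mul_mem _ hx hx) ?_
  have h1 : e * y = y * e := comm_KY e (s.leK he) y hy.2
  have h2 : x * x = y * y := by
    rw [hxy]
    calc y * e * (y * e) = y * (e * y) * e := by group
      _ = y * (y * e) * e := by rw [h1]
      _ = y * y * (e * e) := by group
      _ = y * y := by rw [s.sqE he, mul_one]
  rw [h2]
  exact Subgroup.mul_mem _ hy.2 hy.2

omit [Finite G] in
theorem Pre.comm_A'E (s : Pre p K q g S P Q E H) :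
    ∀ a ∈ P ⊓ centralizer (K : Set G), ∀ e ∈ E, a * e = e * a :=
  fun a ha e he => (comm_KY e (s.leK he) a ha.2).symm

theorem Pre.A_le_V0 (s : Pre p K q g S P Q E H) :
    P ⊓ cj g (centralizer (K : Set G)) ≤ (P ⊓ centralizer (K : Set G)) ⊔ E := by
  intro x hx
  obtain ⟨y, hy, e, he, rfl⟩ := s.A_le hx
  exact Subgroup.mul_mem _ (mem_sup_left hy) (mem_sup_right he)

theorem Pre.card_V0 (s : Pre p K q g S P Q E H) :
    Nat.card ((P ⊓ centralizer (K : Set G)) ⊔ E : Subgroup G) =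
      Nat.card (P ⊓ centralizer (K : Set G) : Subgroup G) * q := by
  rw [card_sup_comm s.comm_A'E, s.bor.cardZ]
  rw [eq_bot_iff]
  intro x hx
  have h1 : x ∈ K ⊓ centralizer (K : Set G) := ⟨s.leK hx.2, hx.1.2⟩
  rwa [s.sz.inf] at h1

omit [Finite G] in
theorem Pre.normE (s : Pre p K q g S P Q E H) {h : G} (hh : h ∈ H) {e : G} (he : e ∈ E) :
    h * e * h⁻¹ ∈ E := by
  have h1 := s.bor.norm h hh e (s.bor.leZ he)
  rw [s.bor.mem_Z _ h1]
  calc h * e * h⁻¹ * (h * e * h⁻¹) = h * (e * e) * h⁻¹ := by group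
    _ = 1 := by rw [s.sqE he]; group

theorem Pre.eqR (s : Pre p K q g S P Q E H)
    (hle : Nat.card (P ⊓ centralizer (K : Set G) : Subgroup G) ≤
      Nat.card (P ⊓ cj g (centralizer (K : Set G)) : Subgroup G)) :
    P ⊓ centralizer (K : Set G) = S ⊓ centralizer (K : Set G) := by
  classical
  have hpf : Fact (Nat.Prime 2) := ⟨Nat.prime_two⟩
  by_contra hne
  set A := P ⊓ cj g (centralizer (K : Set G)) with hA
  set A' := P ⊓ centralizer (K : Set G) with hA'
  set R := S ⊓ centralizer (K : Set G) with hR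
  have hA'R : A' ≤ R := inf_le_inf_right _ s.pair.le
  have hR2 : IsPGroup 2 R := s.pair.sylM.two.to_le inf_le_left
  obtain ⟨x, hxn, hxR, hxA⟩ : ∃ x, x ∈ normalizer (A' : Set G) ∧ x ∈ R ∧ x ∉ A' := by
    by_contra hno
    push Not at hno
    exact hne (Cfsg.Agent.Blocks.SylowIn.eq_of_normalizer_inf_le (p := 2) hR2 hA'R
      (fun x hx => hno x hx.1 hx.2)).symm
  have hxn' : ∀ a ∈ A', x * a * x⁻¹ ∈ A' := forall_of_mem_normalizer hxn
  -- `x` commutes with `K`
  have hxK : ∀ k ∈ K, k * x = x * k := fun k hk => comm_KY k hk x hxR.2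
  -- `x ∉ M^g`
  have hxg : x ∉ cj g (normalizer (K : Set G)) := by
    intro hxg
    apply hxA
    exact mem_isSyl2 s.pair.sylA' ⟨hxR.2, hxg⟩ (mem_of_pow_two hR2 hxR) hxn'
  have hA'K : ∀ a ∈ A', ∀ k ∈ K, k * a = a * k := fun a ha k hk => comm_KY k hk a ha.2
  -- the conjugating elements
  set c : H × Bool → G := fun i => (i.1 : G) * (if i.2 then x else 1) with hc
  have hcM : ∀ i, c i ∈ normalizer (K : Set G) := by
    intro i
    refine Subgroup.mul_mem _ (Subgroup.le_normalizer (s.bor.leH i.1.2)) ?_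
    split_ifs
    · exact KY_le (mem_sup_right hxR.2)
    · exact Subgroup.one_mem _
  have hHV : ∀ h ∈ H, ∀ v ∈ A' ⊔ E, h * v * h⁻¹ ∈ A' ⊔ E := by
    intro h hh v hv
    obtain ⟨a, ha, e, he, rfl⟩ := (mem_sup_comm s.comm_A'E).mp hv
    have e1 : h * (a * e) * h⁻¹ = a * (h * e * h⁻¹) := by
      calc h * (a * e) * h⁻¹ = (h * a) * e * h⁻¹ := by group
        _ = (a * h) * e * h⁻¹ := by rw [hA'K a ha h (s.bor.leH hh)]
        _ = a * (h * e * h⁻¹) := by group
    rw [e1]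
    exact Subgroup.mul_mem _ (mem_sup_left ha) (mem_sup_right (s.normE hh he))
  have hxV : ∀ v ∈ A' ⊔ E, x * v * x⁻¹ ∈ A' ⊔ E := by
    intro v hv
    obtain ⟨a, ha, e, he, rfl⟩ := (mem_sup_comm s.comm_A'E).mp hv
    have e1 : x * (a * e) * x⁻¹ = (x * a * x⁻¹) * e := by
      calc x * (a * e) * x⁻¹ = x * a * (e * x⁻¹) := by group
        _ = x * a * (x⁻¹ * e) := by
            have h1 := hxK e (s.leK he)
            have h2 : e * x⁻¹ = x⁻¹ * e := by
              calc e * x⁻¹ = x⁻¹ * (x * e) * x⁻¹ := by group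
                _ = x⁻¹ * (e * x) * x⁻¹ := by rw [h1]
                _ = x⁻¹ * e := by group
            rw [h2]
        _ = (x * a * x⁻¹) * e := by group
    rw [e1]
    exact Subgroup.mul_mem _ (mem_sup_left (hxn' a ha)) (mem_sup_right he)
  have hcV : ∀ i, ∀ v ∈ A' ⊔ E, c i * v * (c i)⁻¹ ∈ A' ⊔ E := by
    rintro ⟨h, b⟩ v hv
    cases b
    · have e1 : c (h, false) = h := by simp [hc]
      rw [e1]; exact hHV h h.2 v hv
    · have e1 : c (h, true) = h * x := by simp [hc]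
      rw [e1]
      have e2 : (h : G) * x * v * ((h : G) * x)⁻¹ = h * (x * v * x⁻¹) * (h : G)⁻¹ := by group
      rw [e2]
      exact hHV h h.2 _ (hxV v hv)
  have hAE := s.A_elem
  have hAsq : ∀ a ∈ A, a ≠ 1 → orderOf a = 2 := fun a ha h1 => orderOf_eq_two h1 (hAE a ha)
  -- a common element forces `c⁻¹ c' ∈ M^g`
  have hkey : ∀ u v t : G, t ≠ 1 → t ∈ cj u A → t ∈ cj v A →
      u⁻¹ * v ∈ cj g (normalizer (K : Set G)) := by
    intro u v t ht hu hv
    have ho : orderOf t = 2 := by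
      rw [mem_cj] at hu
      have h1 : orderOf (u⁻¹ * t * u) = 2 := by
        refine hAsq _ hu fun h2 => ht ?_
        have : t = u * (u⁻¹ * t * u) * u⁻¹ := by group
        rw [this, h2]; group
      have h2 := orderOf_conj u (u⁻¹ * t * u)
      have e1 : u * (u⁻¹ * t * u) * u⁻¹ = t := by group
      rw [e1] at h2
      rw [h2, h1]
    have h1 : t ∈ cj (u * g) (centralizer (K : Set G)) := by
      rw [cj_mul]; exact cj_mono inf_le_right hu
    have h2 : t ∈ cj (v * g) (centralizer (K : Set G)) := by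
      rw [cj_mul]; exact cj_mono inf_le_right hv
    have h3 := mem_of_cj s.std ho h1 h2
    rw [mem_cj]
    have e1 : (u * g)⁻¹ * (v * g) = g⁻¹ * (u⁻¹ * v) * g := by group
    rwa [e1] at h3
  -- elements of `H` in `M^g` are trivial
  have hHg : ∀ h ∈ H, h ∈ cj g (normalizer (K : Set G)) → h = 1 := by
    intro h hh h1
    have h2 : h ∈ K ⊓ cj g (normalizer (K : Set G)) := ⟨s.bor.leH hh, h1⟩
    rw [s.inf] at h2
    exact H_inf s.bor hh h2
  -- `h x^{±1} ∉ M^g`
  have hHx : ∀ h ∈ H, ∀ z : G, z = x ∨ z = x⁻¹ → h * z ∉ cj g (normalizer (K : Set G)) := by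
    intro h hh z hz h1
    apply hxg
    have hzx : z ∈ cj g (normalizer (K : Set G)) → x ∈ cj g (normalizer (K : Set G)) := by
      rcases hz with rfl | rfl
      · exact id
      · intro h2
        have := Subgroup.inv_mem _ h2
        rwa [inv_inv] at this
    apply hzx
    have hzR : z ∈ R := by
      rcases hz with rfl | rfl
      · exact hxR
      · exact Subgroup.inv_mem _ hxR
    have hcz : Commute h z := comm_KY h (s.bor.leH hh) z hzR.2
    have h2 : (h * z) ^ (q - 1) ∈ cj g (normalizer (K : Set G)) := Subgroup.pow_mem _ h1 _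
    have h3 : h ^ (q - 1) = 1 := by
      rw [← s.bor.cardH]
      have := pow_card_eq_one' (x := (⟨h, hh⟩ : H))
      exact congrArg Subtype.val this
    rw [hcz.mul_pow, h3, one_mul] at h2
    obtain ⟨n, hn⟩ := mem_of_pow_two hR2 hzR
    have h4 : (q - 1).Coprime (orderOf z) := by
      have h5 : orderOf z ∣ 2 ^ n := orderOf_dvd_of_pow_eq_one hn
      refine Nat.Coprime.coprime_dvd_right h5 ?_
      exact Nat.Coprime.pow_right n (Nat.coprime_two_right.mpr (odd_card_H s.sz))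
    obtain ⟨m, hm⟩ := exists_pow_eq_self_of_coprime h4
    rw [← hm]
    exact Subgroup.pow_mem _ h2 _
  have hfH : Fintype H := Fintype.ofFinite H
  have hV0 : ∀ i, cj (c i) A ≤ A' ⊔ E := by
    intro i
    rintro _ ⟨a, ha, rfl⟩
    exact hcV i a (s.A_le_V0 ha)
  let F : Option (H × Bool) → Subgroup G := fun o => o.elim A' (fun i => cj (c i) A)
  have hsum := sum_card_le F (A' ⊔ E)
    (by
      intro o
      cases o with
      | none => exact le_sup_left
      | some i => exact hV0 i)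
    (by
      have hns : ∀ i t, t ∈ A' → t ∈ cj (c i) A → t = 1 := by
        intro i t ht hti
        by_contra ht1
        have ho : orderOf t = 2 := by
          rw [mem_cj] at hti
          have h1 : orderOf ((c i)⁻¹ * t * c i) = 2 := by
            refine hAsq _ hti fun h2 => ht1 ?_
            have : t = c i * ((c i)⁻¹ * t * c i) * (c i)⁻¹ := by group
            rw [this, h2]; group
          have h2 := orderOf_conj (c i) ((c i)⁻¹ * t * c i)
          have e1 : c i * ((c i)⁻¹ * t * c i) * (c i)⁻¹ = t := by group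
          rw [e1] at h2
          rw [h2, h1]
        have h1 : t ∈ cj 1 (centralizer (K : Set G)) := by rw [cj_one]; exact ht.2
        have h2 : t ∈ cj (c i * g) (centralizer (K : Set G)) := by
          rw [cj_mul]; exact cj_mono inf_le_right hti
        have h3 := mem_of_cj s.std ho h1 h2
        apply s.hg
        have h4 := Subgroup.mul_mem _ (Subgroup.inv_mem _ (hcM i)) h3
        have e1 : (c i)⁻¹ * (1⁻¹ * (c i * g)) = g := by group
        rwa [e1] at h4
      rintro (_ | ⟨h, b⟩) (_ | ⟨h', b'⟩) hne t ht ht'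
      · exact absurd rfl hne
      · exact hns _ t ht ht'
      · exact hns _ t ht' ht
      · by_contra ht1
        have h1 := hkey _ _ t ht1 ht ht'
        cases b <;> cases b'
        · apply hne
          have e1 : (c (h, false))⁻¹ * c (h', false) = (h : G)⁻¹ * h' := by simp [hc]
          rw [e1] at h1
          have h2 := hHg _ (H.mul_mem (H.inv_mem h.2) h'.2) h1
          have h3 : (h : G) = h' := inv_mul_eq_one.mp h2
          rw [Subtype.ext h3]
        · have e1 : (c (h, false))⁻¹ * c (h', true) = ((h : G)⁻¹ * h') * x := by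
            simp [hc, mul_assoc]
          rw [e1] at h1
          exact hHx _ (H.mul_mem (H.inv_mem h.2) h'.2) x (Or.inl rfl) h1
        · have e1 : (c (h, true))⁻¹ * c (h', false) = ((h : G)⁻¹ * h') * x⁻¹ := by
            have h3 := hxK _ (s.bor.leH (H.mul_mem (H.inv_mem h.2) h'.2))
            have h4 : x⁻¹ * ((h : G)⁻¹ * h') = ((h : G)⁻¹ * h') * x⁻¹ := by
              calc x⁻¹ * ((h : G)⁻¹ * h') = x⁻¹ * (((h : G)⁻¹ * h') * x) * x⁻¹ := by group
                _ = x⁻¹ * (x * ((h : G)⁻¹ * h')) * x⁻¹ := by rw [h3]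
                _ = ((h : G)⁻¹ * h') * x⁻¹ := by group
            rw [← h4]
            simp [hc, mul_assoc]
          rw [e1] at h1
          exact hHx _ (H.mul_mem (H.inv_mem h.2) h'.2) x⁻¹ (Or.inr rfl) h1
        · apply hne
          have e1 : (c (h, true))⁻¹ * c (h', true) = x⁻¹ * (((h : G)⁻¹ * h') * x) := by
            simp [hc, mul_assoc]
          have h3 := hxK _ (s.bor.leH (H.mul_mem (H.inv_mem h.2) h'.2))
          rw [e1, h3, inv_mul_cancel_left] at h1
          have h2 := hHg _ (H.mul_mem (H.inv_mem h.2) h'.2) h1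
          have h3 : (h : G) = h' := inv_mul_eq_one.mp h2
          rw [Subtype.ext h3])
  rw [Fintype.sum_option] at hsum
  have hF0 : F none = A' := rfl
  have hF1 : ∀ i : H × Bool, Nat.card (F (some i)) - 1 = Nat.card A - 1 := by
    intro i
    have : F (some i) = cj (c i) A := rfl
    rw [this, card_cj]
  rw [hF0, Finset.sum_congr rfl (fun i _ => hF1 i), Finset.sum_const, smul_eq_mul,
    Finset.card_univ, Fintype.card_prod, Fintype.card_bool, ← Nat.card_eq_fintype_card,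
    s.bor.cardH, s.card_V0] at hsum
  have h4 := s.sz.eight
  -- numerical conclusion
  have hA'1 : A' ≠ ⊥ := s.pair.ne_bot s.std s.hg s.neA
  have hcA' : 2 ≤ Nat.card A' := by
    have h1 : Nat.card A' ≠ 1 := fun h => hA'1 (Subgroup.card_eq_one.mp h)
    have h2 : 0 < Nat.card A' := Nat.card_pos
    omega
  have hcA : Nat.card A' = 2 := by
    set a := Nat.card A with ha
    set b := Nat.card A' with hb
    have h6 : a ≤ 2 := by
      by_contra h7
      obtain ⟨r, rfl⟩ : ∃ r, q = r + 1 := ⟨q - 1, by omega⟩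
      obtain ⟨a', ha'⟩ : ∃ a', a = a' + 1 := ⟨a - 1, by omega⟩
      obtain ⟨b', hb'⟩ : ∃ b', b = b' + 1 := ⟨b - 1, by omega⟩
      rw [ha', hb'] at hsum
      simp only [Nat.add_sub_cancel] at hsum
      have h8 : b' + r * 2 * a' ≤ (b' + 1) * (r + 1) - 1 := hsum
      have h9 : (b' + 1) * (r + 1) - 1 = b' * r + b' + r := by
        have : (b' + 1) * (r + 1) = b' * r + b' + r + 1 := by ring
        omega
      rw [h9] at h8
      have h10 : r * 2 * a' ≤ b' * r + r := by omega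
      have h11 : r * (2 * a') ≤ r * (b' + 1) := by nlinarith
      have h12 : 2 * a' ≤ b' + 1 := Nat.le_of_mul_le_mul_left h11 (by omega)
      omega
    omega
  -- an involution of `A`
  obtain ⟨a, haA, ha2⟩ := exists_involution_of_ne_bot
    (s.pair.sylD.two.to_le (inf_le_left : A ≤ P)) s.neA
  obtain ⟨y, hy, e, he, hay⟩ := s.A_le haA
  -- `x` commutes with `y`
  have hxy : x * y * x⁻¹ = y := by
    by_cases hy1 : y = 1
    · rw [hy1]; group
    · have h1 : x * y * x⁻¹ ∈ A' := hxn' y hy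
      have h2 : x * y * x⁻¹ ≠ 1 := by
        intro h2
        apply hy1
        have : y = x⁻¹ * (x * y * x⁻¹) * x := by group
        rw [this, h2]; group
      obtain ⟨u, hu, huu⟩ := (Nat.card_eq_two_iff' (1 : A')).mp hcA
      have h3 : (⟨y, hy⟩ : A') = u := huu _ (fun h => hy1 (congrArg Subtype.val h))
      have h4 : (⟨x * y * x⁻¹, h1⟩ : A') = u := huu _ (fun h => h2 (congrArg Subtype.val h))
      exact congrArg Subtype.val (h4.trans h3.symm)
  have hxa : a * x = x * a := by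
    have h1 : y * x = x * y := (mul_inv_eq_iff_eq_mul.mp hxy).symm
    have h2 := hxK e (s.leK he)
    rw [hay]
    calc y * e * x = y * (e * x) := by group
      _ = y * (x * e) := by rw [h2]
      _ = (y * x) * e := by group
      _ = x * y * e := by rw [h1]
      _ = x * (y * e) := by group
  have h5 := (s.pair.mem_iff s.std s.hg haA ha2 hxR.1 hxR.2).mp hxa
  exact hxA ⟨h5, hxR.2⟩

theorem exists_pre (h : Std p K) (hL : SzK K q) (hg : g ∉ normalizer (K : Set G))
    (he : Even (Nat.card (cj g (centralizer (K : Set G)) ⊓ normalizer (K : Set G) : Subgroup G))) :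
    ∃ (g' : G) (S P Q E H : Subgroup G), Pre p K q g' S P Q E H ∧
      Nat.card (P ⊓ centralizer (K : Set G) : Subgroup G) ≤
      Nat.card (P ⊓ cj g' (centralizer (K : Set G)) : Subgroup G) := by
  obtain ⟨a, ha, ha2⟩ := exists_involution he
  obtain ⟨S, P, hP, haP⟩ := exists_pairAt K g (isPGroup_zpowers ha2)
    (zpowers_le.mpr ⟨ha.2, cj_centralizer_le_normalizer g K ha.1⟩)
  have hA : P ⊓ cj g (centralizer (K : Set G)) ≠ ⊥ := by
    intro hb
    have h2 : a ∈ P ⊓ cj g (centralizer (K : Set G)) := ⟨haP (mem_zpowers a), ha.1⟩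
    rw [hb, mem_bot] at h2
    exact ne_one_of_orderOf ha2 h2
  rcases le_total (Nat.card (P ⊓ centralizer (K : Set G) : Subgroup G))
    (Nat.card (P ⊓ cj g (centralizer (K : Set G)) : Subgroup G)) with hle | hle
  · obtain ⟨Q, E, H, hE, hB, hinf⟩ := exists_Q h hL hg ha.1 ha.2 ha2
    exact ⟨g, S, P, Q, E, H, ⟨h, hL, hg, hP, hE, hB, hinf, hA⟩, hle⟩
  · -- the symmetric situation
    have hA' := hP.ne_bot h hg hA
    have hg' : g⁻¹ ∉ normalizer (K : Set G) := fun hh => hg (by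
      have := Subgroup.inv_mem _ hh
      rwa [inv_inv] at this)
    have hD : cj g⁻¹ (normalizer (K : Set G) ⊓ cj g (normalizer (K : Set G))) =
        normalizer (K : Set G) ⊓ cj g⁻¹ (normalizer (K : Set G)) := by
      rw [cj_inf, cj_inv_cj, inf_comm]
    have hP' := isSyl2_cj g⁻¹ hP.sylD
    rw [hD] at hP'
    obtain ⟨S', hS', hPS'⟩ := exists_isSyl2 (normalizer (K : Set G)) (cj g⁻¹ P)
      (hP'.le.trans inf_le_left) hP'.two
    have hPair : PairAt K g⁻¹ S' (cj g⁻¹ P) := ⟨hS', hP', hPS'⟩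
    have e1 : cj g⁻¹ P ⊓ cj g⁻¹ (centralizer (K : Set G)) =
        cj g⁻¹ (P ⊓ centralizer (K : Set G)) := (cj_inf _ _ _).symm
    have e2 : cj g⁻¹ P ⊓ centralizer (K : Set G) =
        cj g⁻¹ (P ⊓ cj g (centralizer (K : Set G))) := by
      rw [cj_inf, cj_inv_cj]
    obtain ⟨b, hb', hb2⟩ := exists_involution_of_ne_bot hP.sylA'.two hA'
    have hbM : b ∈ cj g (normalizer (K : Set G)) := (hP.sylD.le hb'.1).2
    have hb4 : g⁻¹ * b * g ∈ cj g⁻¹ (centralizer (K : Set G)) := by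
      have := conj_mem_cj (g := g⁻¹) hb'.2
      rwa [inv_inv] at this
    have hb5 : orderOf (g⁻¹ * b * g) = 2 := by
      have := orderOf_conj g⁻¹ b
      rw [inv_inv] at this
      rw [this, hb2]
    obtain ⟨Q, E, H, hE, hB, hinf⟩ := exists_Q h hL hg' hb4 (mem_cj.mp hbM) hb5
    refine ⟨g⁻¹, S', cj g⁻¹ P, Q, E, H, ⟨h, hL, hg', hPair, hE, hB, hinf, ?_⟩, ?_⟩
    · rw [e1]
      intro hbot
      have h3 := card_cj g⁻¹ (P ⊓ centralizer (K : Set G))
      rw [hbot, Subgroup.card_bot] at h3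
      exact hA' (Subgroup.card_eq_one.mp h3.symm)
    · rw [e1, e2, card_cj, card_cj]
      exact hle

/-! ### the result -/

/-- `S ≤ R Q` -/
theorem Pre.mem_S (s : Pre p K q g S P Q E H) (hPS : P = S) {x : G} :
    x ∈ S ↔ ∃ r ∈ S ⊓ centralizer (K : Set G), ∃ k ∈ Q, x = r * k := by
  constructor
  · intro hx
    have hxP : x ∈ P := by rw [hPS]; exact hx
    have hxD := s.pair.sylD.le hxP
    have hx2 := mem_of_pow_two s.pair.sylM.two hx
    obtain ⟨k, hk, y, hy, hxky⟩ := mem_KY.mp (s.sz.inner x hxD.1 hx2)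
    have hky : k * y = y * k := comm_KY k hk y hy
    obtain ⟨n, hn2⟩ := hx2
    have hn3 := hn2
    rw [hxky] at hn3
    obtain ⟨hk2, -⟩ := pow_eq_one_KY s.sz.inf hk hy hn3
    have hkQ : k ∈ Q := by
      refine mem_isSyl2 s.sylQ hk ⟨n, hk2⟩ fun e he => ?_
      have h3 := s.normQ hxD.1 hxD.2 he
      have h4 : y * e = e * y := (comm_KY e (s.sylQ.le he) y hy).symm
      have e1 : x * e * x⁻¹ = k * e * k⁻¹ := by
        rw [hxky]
        calc k * y * e * (k * y)⁻¹ = k * (y * e) * y⁻¹ * k⁻¹ := by group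
          _ = k * (e * y) * y⁻¹ * k⁻¹ := by rw [h4]
          _ = k * e * k⁻¹ := by group
      rwa [e1] at h3
    refine ⟨y, ⟨?_, hy⟩, k, hkQ, by rw [hxky, hky]⟩
    have h1 : y = k⁻¹ * x := by rw [hxky]; group
    rw [h1]
    exact S.mul_mem (S.inv_mem (hPS ▸ s.Q_le_P hkQ)) hx
  · rintro ⟨r, hr, k, hk, rfl⟩
    exact S.mul_mem hr.1 (hPS ▸ s.Q_le_P hk)

theorem Pre.P_eq (s : Pre p K q g S P Q E H)
    (hR : P ⊓ centralizer (K : Set G) = S ⊓ centralizer (K : Set G)) : P = S := by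
  refine le_antisymm s.pair.le fun x hx => ?_
  -- `S ≤ P`: `S` is contained in a product of 2-elements of `Y` and `K`
  have hxM := s.pair.sylM.le hx
  have hx2 := mem_of_pow_two s.pair.sylM.two hx
  -- `Q ≤ S` and `Q = S ⊓ K`
  have hQS : Q ≤ S := s.Q_le_P.trans s.pair.le
  have hQ : Q = S ⊓ K := by
    have h1 : IsSyl2 K (S ⊓ K) :=
      isSyl2_inf s.pair.sylM Subgroup.le_normalizer fun d hd w hw => forall_of_mem_normalizer hd w hw
    exact (s.sylQ.max _ inf_le_right h1.two (le_inf hQS s.sylQ.le)).symm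
  obtain ⟨k, hk, y, hy, hxky⟩ := mem_KY.mp (s.sz.inner x hxM hx2)
  obtain ⟨n, hn2⟩ := hx2
  have hn3 := hn2
  rw [hxky] at hn3
  obtain ⟨hk2, -⟩ := pow_eq_one_KY s.sz.inf hk hy hn3
  have hkQ : k ∈ Q := by
    refine mem_isSyl2 s.sylQ hk ⟨n, hk2⟩ fun e he => ?_
    have h3 : x * e * x⁻¹ ∈ Q := by
      rw [hQ]
      exact ⟨S.mul_mem (S.mul_mem hx (hQS he)) (S.inv_mem hx),
        forall_of_mem_normalizer hxM e (s.sylQ.le he)⟩
    have h4 : y * e = e * y := (comm_KY e (s.sylQ.le he) y hy).symm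
    have e1 : x * e * x⁻¹ = k * e * k⁻¹ := by
      rw [hxky]
      calc k * y * e * (k * y)⁻¹ = k * (y * e) * y⁻¹ * k⁻¹ := by group
        _ = k * (e * y) * y⁻¹ * k⁻¹ := by rw [h4]
        _ = k * e * k⁻¹ := by group
    rwa [e1] at h3
  have hyS : y ∈ S := by
    have h1 : y = k⁻¹ * x := by rw [hxky]; group
    rw [h1]
    exact S.mul_mem (S.inv_mem (hQS hkQ)) hx
  have hyP : y ∈ P ⊓ centralizer (K : Set G) := by rw [hR]; exact ⟨hyS, hy⟩
  rw [hxky]
  exact P.mul_mem (s.Q_le_P hkQ) hyP.1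

/-- some element outside `M` normalizes `S` -/
theorem Pre.move (s : Pre p K q g S P Q E H) (hPS : P = S) :
    ∃ n : G, (∀ x ∈ S, n * x * n⁻¹ ∈ S) ∧ n ∉ normalizer (K : Set G) := by
  have h1 : S ≤ cj g (normalizer (K : Set G)) := by
    rw [← hPS]; exact s.pair.sylD.le.trans inf_le_right
  have h2 : IsSyl2 (cj g (normalizer (K : Set G))) S :=
    isSyl2_of_card (isSyl2_cj g s.pair.sylM) h1 s.pair.sylM.two (by rw [card_cj])
  obtain ⟨m, hm, hmS⟩ := isSyl2_conj (isSyl2_cj g s.pair.sylM) h2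
  refine ⟨m * g, fun x hx => ?_, fun hmg => s.hg ?_⟩
  · rw [hmS, ← cj_mul]
    exact conj_mem_cj hx
  · rw [mem_cj] at hm
    have h3 := Subgroup.mul_mem _ hmg (Subgroup.inv_mem _ hm)
    have e1 : m * g * (g⁻¹ * m * g)⁻¹ = g := by group
    rwa [e1] at h3

/-- `R` is elementary abelian -/
theorem Pre.elemR (s : Pre p K q g S P Q E H)
    (hR : P ⊓ centralizer (K : Set G) = S ⊓ centralizer (K : Set G))
    (hle : Nat.card (P ⊓ centralizer (K : Set G) : Subgroup G) ≤
      Nat.card (P ⊓ cj g (centralizer (K : Set G)) : Subgroup G)) :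
    Elem (S ⊓ centralizer (K : Set G) : Subgroup G) := by
  rw [hR] at hle
  have hA : IsSyl2 (cj g (centralizer (K : Set G))) (P ⊓ cj g (centralizer (K : Set G))) :=
    isSyl2_of_card (isSyl2_cj g s.pair.sylR) inf_le_right (s.pair.sylD.two.to_le inf_le_left)
      (by rw [card_cj]; exact hle)
  obtain ⟨m, hm, hmA⟩ := isSyl2_conj (isSyl2_cj g s.pair.sylR) hA
  rw [← cj_mul] at hmA
  have h1 : (S ⊓ centralizer (K : Set G) : Subgroup G) =
      cj (m * g)⁻¹ (P ⊓ cj g (centralizer (K : Set G))) := by rw [hmA, cj_inv_cj]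
  rw [h1]
  exact elem_cj s.A_elem

/-- an elementary abelian Sylow 2-subgroup which is not cyclic has order at least 4 -/
theorem four_le_card {R R0 Y : Subgroup G} (hR : IsSyl2 Y R) (hR0 : IsSyl2 Y R0)
    (hnc : ¬ IsCyclic R0) : 4 ≤ Nat.card R := by
  have hpf : Fact (Nat.Prime 2) := ⟨Nat.prime_two⟩
  obtain ⟨n, hn⟩ := IsPGroup.iff_card.mp hR.two
  have h1 : Nat.card R0 = Nat.card R := isSyl2_card hR hR0
  by_contra hlt
  apply hnc
  have h2 : Nat.card R0 = 1 ∨ Nat.card R0 = 2 := by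
    rw [h1, hn]
    rw [hn] at hlt
    rcases n with _ | _ | n
    · left; simp
    · right; simp
    · exfalso
      apply hlt
      calc 4 = 2 ^ 2 := by norm_num
        _ ≤ 2 ^ (n + 2) := Nat.pow_le_pow_right (by norm_num) (by omega)
  rcases h2 with h2 | h2
  · have : Subsingleton R0 := (Nat.card_eq_one_iff_unique.mp h2).1
    exact isCyclic_of_subsingleton
  · exact isCyclic_of_prime_card h2

/-- **[E-R].** -/
theorem exists_sit (h : Std p K) (hK : Cfsg.Lie.IsoSuzuki K)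
    (hev : ∃ g, g ∉ normalizer (K : Set G) ∧
      Even (Nat.card (cj g (centralizer (K : Set G)) ⊓ normalizer (K : Set G) : Subgroup G)))
    {R0 : Subgroup G} (hR0 : IsSyl2 (centralizer (K : Set G)) R0) (hnc : ¬ IsCyclic R0) :
    ∃ (R Q E H S : Subgroup G) (q : ℕ), CompSzDefs.Sit p K R Q E H S q := by
  obtain ⟨q, hL⟩ := szK hK
  obtain ⟨g, hg, he⟩ := hev
  obtain ⟨g', S, P, Q, E, H, s, hle⟩ := exists_pre h hL hg he
  have hR := s.eqR hle
  have hPS := s.P_eq hR
  exact ⟨S ⊓ centralizer (K : Set G), Q, E, H, S, q,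
    ⟨h, hL, s.bor, s.sylQ, s.pair.sylR, s.pair.sylM, fun x => s.mem_S hPS, s.elemR hR hle,
      four_le_card s.pair.sylR hR0 hnc, s.move hPS⟩⟩

end Cfsg.Agent.OddCyclic.CompSzR
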