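import Mathlib
import Cfsg.Agent.OddCyclic.CompStart
import Cfsg.Agent.OddCyclic.CompSzR
import Cfsg.Agent.OddCyclic.CompSzCyc
import Cfsg.Agent.OddCyclic.CompSzDefs
import Cfsg.Agent.OddCyclic.CaseECovE
import Cfsg.Agent.S1163
import Cfsg.Prelude.Def_Spor_Ru

/-!
# S0342, component type, case E: the assembly

* `S1768Stmt`: the theorem on standard subgroups `Sz(8)` (S1768; its hypothesis on the B-property is not needed);
* `RuStmt`: the Rudvalis group has a noncyclic Sylow subgroup for an odd prime;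
* `BigStmt`: case E for `q ≥ 32` and noncyclic `R`.
-/

set_option autoImplicit false

namespace Cfsg.Agent.OddCyclic.CompSzMain

open Subgroup Cfsg
open Cfsg.Agent.LieExceptional.CITDefs Cfsg.Agent.LieExceptional.CITBasic
open Cfsg.Agent.OddCyclic.T1Defs Cfsg.Agent.OddCyclic.CompBasic Cfsg.Agent.OddCyclic.CompStandard
open Cfsg.Agent.OddCyclic.CompStart Cfsg.Agent.OddCyclic.CaseESz

universe u

/-- S1768 without the hypothesis on the B-property -/
def S1768Stmt : Prop :=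
  ∀ (G : Type u) [Group G] [Finite G], Cfsg.oddCore G = ⊥ → ∀ A : Subgroup G, Cfsg.IsStandardSubgroup A →
    ∀ (F : Type) [Field F] [Fintype F], Fintype.card F = 8 → Nonempty (↥A ≃* ↥(Cfsg.Lie.Sz F 4)) →
      ¬ Cfsg.PRankLE 2 1 ↥(Subgroup.centralizer (A : Set G)) →
        A.Normal ∨ Cfsg.Spor.IsoRu ↥(Subgroup.normalClosure (A : Set G))

/-- the Rudvalis group has a noncyclic Sylow subgroup for an odd prime -/
def RuStmt : Prop := ∀ (X : Type u) [Group X] [Finite X], Cfsg.Spor.IsoRu X → ¬ OddCyc X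

/-- case E for `q ≥ 32` and noncyclic `R` -/
def BigStmt (G : Type u) [Group G] : Prop :=
  ∀ (p : ℕ) (K R Q E H S : Subgroup G) (q : ℕ), CompSzDefs.Sit p K R Q E H S q → 32 ≤ q → False

variable {G : Type u} [Group G]

/-- the order function of the Suzuki groups is strictly increasing -/
theorem ord_lt {a b : ℕ} (ha : 1 ≤ a) (h : a < b) :
    (a ^ 2 + 1) * a ^ 2 * (a - 1) < (b ^ 2 + 1) * b ^ 2 * (b - 1) := by
  have h2 : a ^ 2 < b ^ 2 := Nat.pow_lt_pow_left h (by norm_num)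
  have h1 : (a ^ 2 + 1) * a ^ 2 < (b ^ 2 + 1) * b ^ 2 := by
    have h3 : 0 < a ^ 2 := by positivity
    nlinarith
  have h4 : a - 1 < b - 1 := by omega
  have h5 : 0 < (b ^ 2 + 1) * b ^ 2 := by
    have : 0 < b ^ 2 := by omega
    positivity
  calc (a ^ 2 + 1) * a ^ 2 * (a - 1) ≤ (b ^ 2 + 1) * b ^ 2 * (a - 1) := Nat.mul_le_mul_right _ h1.le
    _ < (b ^ 2 + 1) * b ^ 2 * (b - 1) := Nat.mul_lt_mul_of_pos_left h4 h5

theorem ord_inj {a b : ℕ} (ha : 1 ≤ a) (hb : 1 ≤ b)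
    (h : (a ^ 2 + 1) * a ^ 2 * (a - 1) = (b ^ 2 + 1) * b ^ 2 * (b - 1)) : a = b := by
  rcases lt_trichotomy a b with h1 | h1 | h1
  · exact absurd h (ord_lt ha h1).ne
  · exact h1
  · exact absurd h (ord_lt hb h1).ne'

/-- the field of a Suzuki group of the order with parameter 8 has 8 elements -/
theorem card_field {K : Subgroup G} {F : Type*} [Field F] [Fintype F] {m : ℕ} (hm : 1 ≤ m)
    (hF : Fintype.card F = 2 ^ (2 * m + 1)) (e : K ≃* ↥(Cfsg.Lie.Sz F (2 ^ (m + 1))))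
    (h : SzK K 8) : m = 1 := by
  have h1 : Nat.card K = ((2 ^ (2 * m + 1)) ^ 2 + 1) * (2 ^ (2 * m + 1)) ^ 2 * (2 ^ (2 * m + 1) - 1) := by
    rw [Nat.card_congr e.toEquiv, (Cfsg.Agent.S1163.result hm hF).1]
    ring
  have h2 := ord_inj (Nat.one_le_two_pow) (by norm_num) (h1.symm.trans h.card)
  have h3 : (2 : ℕ) ^ (2 * m + 1) = 2 ^ 3 := by rw [h2]; norm_num
  have h4 := Nat.pow_right_injective (le_refl 2) h3
  omega

/-- `C(K)` has 2-rank at least 2 -/
theorem not_rank {K R : Subgroup G} [Finite G] (hR : R ≤ centralizer (K : Set G)) (h2 : ∀ r ∈ R, r * r = 1)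
    (h4 : 4 ≤ Nat.card R) : ¬ Cfsg.PRankLE 2 1 ↥(Subgroup.centralizer (K : Set G)) := by
  intro h
  have hc : ∀ a ∈ R, ∀ b ∈ R, a * b = b * a := by
    intro a ha b hb
    have h1 := h2 (a * b) (mul_mem ha hb)
    have h3 := h2 a ha
    have h5 := h2 b hb
    have h6 : a⁻¹ = a := inv_eq_of_mul_eq_one_left h3
    have h7 : b⁻¹ = b := inv_eq_of_mul_eq_one_left h5
    have h8 : (a * b)⁻¹ = a * b := inv_eq_of_mul_eq_one_left h1
    rw [← h8, mul_inv_rev, h6, h7]
  have h1 := h (R.subgroupOf (centralizer (K : Set G)))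
    ⟨⟨fun a b => Subtype.ext (Subtype.ext
      (hc _ (mem_subgroupOf.mp a.2) _ (mem_subgroupOf.mp b.2)))⟩⟩
    (fun a ha => Subtype.ext (by
      have := h2 _ (mem_subgroupOf.mp ha)
      rw [← sq] at this
      exact this))
  have h9 : Nat.card (R.subgroupOf (centralizer (K : Set G))) = Nat.card R :=
    Nat.card_congr (subgroupOfEquivOfLe hR).toEquiv
  rw [h9] at h1
  norm_num at h1
  omega

variable [Finite G]

/-- **case E, `q = 8`, noncyclic `R`** -/
theorem false_of_eight [IsSimpleGroup G] (h1768 : S1768Stmt.{u}) (hRu : RuStmt.{u}) {p : ℕ}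
    {K R Q E H S : Subgroup G} (hK : Cfsg.Lie.IsoSuzuki K) (s : CompSzDefs.Sit p K R Q E H S 8) : False := by
  have h := s.std
  obtain ⟨F, i1, i2, m, hm, hF, ⟨e⟩⟩ := hK
  obtain rfl := card_field hm hF e s.sz
  have hF8 : Fintype.card F = 8 := by rw [hF]; norm_num
  rcases h1768 G (CompSzCyc.Std.odd_core h) K h.isStandard F hF8
      ⟨e⟩ (not_rank s.sylR.le s.elemR s.four) with h1 | h1
  · exact h.ne_top (Subgroup.normalizer_eq_top_iff.mpr h1)
  · exact hRu _ h1 (oddCyc_subgroup h.cyc _)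

/-- **case E**, given the case `q ≥ 32` with noncyclic `R` -/
theorem caseE [IsSimpleGroup G] (hcrit : Crit G) (hSE : ¬ ∃ H : Subgroup G, IsStronglyEmbedded H)
    (gold : StdSz.EndClosed.Gold.{u}) (h1170 : StdSz.Out.S1170Stmt.{u}) (h1768 : S1768Stmt.{u})
    (hRu : RuStmt.{u}) (hBig : BigStmt G) {p : ℕ} {K : Subgroup G} (h : Std p K)
    (hK : Cfsg.Lie.IsoSuzuki K) : False := by
  obtain ⟨R, hR, -⟩ := exists_isSyl2 (centralizer (K : Set G)) ⊥ bot_le IsPGroup.of_bot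
  have hcen : center K = ⊥ := by
    obtain ⟨q, hs⟩ := szK hK
    rw [eq_bot_iff]
    intro x hx
    rw [mem_center_iff] at hx
    have h1 : (x : G) ∈ K ⊓ centralizer (K : Set G) :=
      ⟨x.2, mem_centralizer_iff.mpr fun k hk => congrArg Subtype.val (hx ⟨k, hk⟩)⟩
    rw [hs.inf, mem_bot] at h1
    exact mem_bot.mpr (Subtype.ext h1)
  by_cases hcyc : IsCyclic R
  · refine CompSzCyc.false_of_cyclic h ?_ gold h1170 hR hcyc
    obtain ⟨F, i1, i2, m, hm, hF, ⟨e⟩⟩ := hK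
    exact ⟨F, i1, i2, m, hm, hF,
      ⟨((QuotientGroup.quotientMulEquivOfEq hcen).trans QuotientGroup.quotientBot).trans e⟩⟩
  · obtain ⟨R', Q, E, H, S, q, s⟩ := CompSzR.exists_sit h hK (h.exists_even hcrit hSE) hR hcyc
    obtain ⟨m, hm, hq⟩ := s.sz.pow
    rcases Nat.lt_or_ge m 2 with h1 | h1
    · obtain rfl : m = 1 := by omega
      have hq8 : q = 8 := by rw [hq]; norm_num
      subst hq8
      exact false_of_eight h1768 hRu hK s
    · refine hBig p K R' Q E H S q s ?_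
      rw [hq]
      calc 32 = 2 ^ 5 := by norm_num
        _ ≤ 2 ^ (2 * m + 1) := Nat.pow_le_pow_right (by norm_num) (by omega)

/-- **case E, covers of `Sz(8)`** -/
theorem caseE8 [IsSimpleGroup G] (hcrit : Crit G) (hSE : ¬ ∃ H : Subgroup G, IsStronglyEmbedded H)
    {p : ℕ} {K : Subgroup G} (h : Std p K) (hne : center K ≠ ⊥)
    (hK : ∃ (F : Type) (_ : Field F) (_ : Fintype F), Fintype.card F = 8 ∧
      Nonempty (K ⧸ center K ≃* ↥(Cfsg.Lie.Sz F 4))) : False := by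
  obtain ⟨F, i1, i2, hF8, ⟨e⟩⟩ := hK
  obtain ⟨g, hg, hev⟩ := h.exists_even hcrit hSE
  exact CaseECovE.false_of_cover h hF8 e hne hg hev

end Cfsg.Agent.OddCyclic.CompSzMain
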