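import Cfsg.Agent.OddCyclic.CompSzEndB
import Cfsg.Agent.OddCyclic.CompSzMain
import Cfsg.Agent.ThreePrime.Main
import Cfsg.Agent.TwoFusion.GoldJIso

/-!
# S0342, component type, case E: `BigStmt` (`q ≥ 32`, noncyclic `R`)
-/

set_option autoImplicit false

namespace Cfsg.Agent.OddCyclic.CompSzBig

open Subgroup
open Cfsg.Agent.OddCyclic.CompStandard

universe u

/-- **case E, `q ≥ 32`, noncyclic `R`** -/
theorem bigStmt {G : Type u} [Group G] [Finite G] [IsSimpleGroup G] (hsec : CaseASix.SecKZ G)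
    (h1170 : StdSz.Out.S1170Stmt.{u}) : CompSzMain.BigStmt G := by
  intro p K R Q E H S q s h32
  refine CompSzEnd.false_of_sit s h32 hsec h1170 (fun hs => ?_)
  refine ThreePrime.Main.isoSuzuki ?_ (fun h3 => TwoFusion.GoldJIso.not_suzuki h3 hs)
  obtain ⟨P, hP, hSP, l, f⟩ := CompSzEnd.exists_lay s hsec h32
  obtain ⟨t, ht, ht1⟩ := l.exists_t
  by_contra hno
  push Not at hno
  exact ht1 (l.disjR ht (l.leE (CompSzEnd.center_P s hSP l f (l.leR ht) (fun x _ => hno x t))))

end Cfsg.Agent.OddCyclic.CompSzBig
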