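import Cfsg.Agent.OddCyclic.CompSzR

/-!
# S0342, component type, case E: [E-Delta]

The conjugates of `R` under `N_G(S)`, `S = R × Q`: there are exactly `q` of them, they are pairwise
disjoint and cover the involutions of `S` outside `E = Z(Q)`.
-/

set_option autoImplicit false

namespace Cfsg.Agent.OddCyclic.CompSzDelta

open Subgroup
open Cfsg.Agent.LieExceptional Cfsg.Agent.LieExceptional.CITDefs
open Cfsg.Agent.LieExceptional.CITBasic
open Cfsg.Agent.OddCyclic.T1Tools
open Cfsg.Agent.OddCyclic.CompBasic Cfsg.Agent.OddCyclic.CompStandard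
open Cfsg.Agent.OddCyclic.CaseABase Cfsg.Agent.OddCyclic.CaseESz
open Cfsg.Agent.OddCyclic.CompSzDefs Cfsg.Agent.OddCyclic.CompSzR

variable {G : Type*} [Group G] {p : ℕ} {K R Q E H S : Subgroup G} {q : ℕ}

theorem R_le (s : Sit p K R Q E H S q) : R ≤ S := fun r hr =>
  (s.mem_S r).mpr ⟨r, hr, 1, Q.one_mem, (mul_one r).symm⟩

theorem Q_le (s : Sit p K R Q E H S q) : Q ≤ S := fun k hk =>
  (s.mem_S k).mpr ⟨1, R.one_mem, k, hk, (one_mul k).symm⟩

theorem E_le (s : Sit p K R Q E H S q) : E ≤ S := s.szb.leZ.trans (Q_le s)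

theorem comm_RK (s : Sit p K R Q E H S q) {r k : G} (hr : r ∈ R) (hk : k ∈ K) : k * r = r * k :=
  comm_KY k hk r (s.sylR.le hr)

theorem comm_RQ (s : Sit p K R Q E H S q) {r k : G} (hr : r ∈ R) (hk : k ∈ Q) : k * r = r * k :=
  comm_RK s hr (s.szb.leQ hk)

theorem comm_RR (s : Sit p K R Q E H S q) {r r' : G} (hr : r ∈ R) (hr' : r' ∈ R) :
    r * r' = r' * r := by
  have h1 := s.elemR r hr
  have h2 := s.elemR r' hr'
  have h3 := s.elemR _ (R.mul_mem hr hr')
  calc r * r' = r * r' * ((r' * r) * (r' * r)⁻¹) := by rw [mul_inv_cancel, mul_one]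
    _ = r * (r' * r') * r * (r' * r)⁻¹ := by group
    _ = (r * r) * (r' * r)⁻¹ := by rw [h2]; group
    _ = (r' * r)⁻¹ := by rw [h1, one_mul]
    _ = r' * r := by
        have h4 : (r' * r) * (r' * r) = 1 := s.elemR _ (R.mul_mem hr' hr)
        exact (eq_inv_of_mul_eq_one_left h4).symm

theorem sqE (s : Sit p K R Q E H S q) {e : G} (he : e ∈ E) : e * e = 1 :=
  (s.szb.mem_Z e (s.szb.leZ he)).mp he

theorem R_inf_K (s : Sit p K R Q E H S q) {x : G} (hx : x ∈ R) (hxK : x ∈ K) : x = 1 := by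
  have h1 : x ∈ K ⊓ centralizer (K : Set G) := ⟨hxK, s.sylR.le hx⟩
  rwa [s.sz.inf, mem_bot] at h1

theorem E_le_K (s : Sit p K R Q E H S q) : E ≤ K := s.szb.leZ.trans s.szb.leQ

/-- the involutions of `S` lie in `RE` -/
theorem mem_V (s : Sit p K R Q E H S q) {v : G} (hv : v ∈ S) (h2 : v * v = 1) :
    ∃ r ∈ R, ∃ e ∈ E, v = r * e := by
  obtain ⟨r, hr, k, hk, rfl⟩ := (s.mem_S v).mp hv
  refine ⟨r, hr, k, ?_, rfl⟩
  rw [s.szb.mem_Z k hk]
  have h1 := comm_RQ s hr hk
  calc k * k = r * r * (k * k) := by rw [s.elemR r hr, one_mul]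
    _ = r * (r * k) * k := by group
    _ = r * (k * r) * k := by rw [h1]
    _ = r * k * (r * k) := by group
    _ = 1 := h2

theorem comm_RE (s : Sit p K R Q E H S q) : ∀ r ∈ R, ∀ e ∈ E, r * e = e * r :=
  fun _ hr _ he => (comm_RK s hr (E_le_K s he)).symm

theorem mem_sup (s : Sit p K R Q E H S q) {v : G} : v ∈ R ⊔ E ↔ ∃ r ∈ R, ∃ e ∈ E, v = r * e :=
  mem_sup_comm (comm_RE s)

theorem sq_of_sup (s : Sit p K R Q E H S q) {v : G} (hv : v ∈ R ⊔ E) : v * v = 1 := by
  obtain ⟨r, hr, e, he, rfl⟩ := (mem_sup s).mp hv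
  calc r * e * (r * e) = r * (e * r) * e := by group
    _ = r * (r * e) * e := by rw [comm_RE s r hr e he]
    _ = (r * r) * (e * e) := by group
    _ = 1 := by rw [s.elemR r hr, sqE s he, mul_one]

theorem sup_le_S (s : Sit p K R Q E H S q) : R ⊔ E ≤ S := sup_le (R_le s) (E_le s)

/-- `E = [S, S]` -/
theorem comm_S (s : Sit p K R Q E H S q) : ⁅S, S⁆ = E := by
  apply le_antisymm
  · rw [Subgroup.commutator_le]
    intro x hx y hy
    obtain ⟨r, hr, k, hk, rfl⟩ := (s.mem_S x).mp hx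
    obtain ⟨r', hr', k', hk', rfl⟩ := (s.mem_S y).mp hy
    have h1 := comm_RQ s hr hk
    have h2 := comm_RQ s hr hk'
    have h3 := comm_RQ s hr' hk
    have h4 := comm_RQ s hr' hk'
    have h5 := comm_RR s hr hr'
    have c1 : Commute r k := h1.symm
    have c2 : Commute r k' := h2.symm
    have c3 : Commute r' k := h3.symm
    have c4 : Commute r' k' := h4.symm
    have c5 : Commute r r' := h5
    have e1 : r * k * (r' * k') * (r * k)⁻¹ * (r' * k')⁻¹ = k * k' * k⁻¹ * k'⁻¹ := by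
      rw [mul_inv_rev, mul_inv_rev]
      have d1 : r * k * (r' * k') = r * r' * (k * k') := by
        calc r * k * (r' * k') = r * (k * r') * k' := by group
          _ = r * (r' * k) * k' := by rw [h3]
          _ = r * r' * (k * k') := by group
      have c6 : Commute r (k⁻¹) := c1.inv_right
      have c7 : Commute r' (k'⁻¹) := c4.inv_right
      have c8 : Commute r (k'⁻¹) := c2.inv_right
      have c9 : Commute r' (k⁻¹) := c3.inv_right
      have d2 : k⁻¹ * r⁻¹ * (k'⁻¹ * r'⁻¹) = k⁻¹ * k'⁻¹ * (r⁻¹ * r'⁻¹) := by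
        calc k⁻¹ * r⁻¹ * (k'⁻¹ * r'⁻¹) = k⁻¹ * (r⁻¹ * k'⁻¹) * r'⁻¹ := by group
          _ = k⁻¹ * (k'⁻¹ * r⁻¹) * r'⁻¹ := by rw [(c8.inv_left).eq]
          _ = k⁻¹ * k'⁻¹ * (r⁻¹ * r'⁻¹) := by group
      rw [mul_assoc, d1, d2]
      have c10 : Commute (r * r') (k * k' * (k⁻¹ * k'⁻¹)) := by
        refine Commute.mul_left ?_ ?_
        · exact (c1.mul_right c2).mul_right (c6.mul_right c8)
        · exact (c3.mul_right c4).mul_right (c9.mul_right c7)
      calc r * r' * (k * k') * (k⁻¹ * k'⁻¹ * (r⁻¹ * r'⁻¹))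
          = (r * r' * (k * k' * (k⁻¹ * k'⁻¹))) * (r⁻¹ * r'⁻¹) := by group
        _ = (k * k' * (k⁻¹ * k'⁻¹)) * (r * r' * (r⁻¹ * r'⁻¹)) := by rw [c10.eq]; group
        _ = k * k' * k⁻¹ * k'⁻¹ := by
            have d3 : r * r' * (r⁻¹ * r'⁻¹) = 1 := by
              calc r * r' * (r⁻¹ * r'⁻¹) = (r' * r) * (r⁻¹ * r'⁻¹) := by rw [h5]
                _ = 1 := by group
            rw [d3, mul_one]; group
    rw [commutatorElement_def, e1]
    exact comm_mem s.szb hk hk'
  · rw [← s.szb.comm]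
    exact Subgroup.commutator_mono (Q_le s) (Q_le s)

section fin

variable [Finite G]

theorem norm_E (s : Sit p K R Q E H S q) {x : G} (hx : x ∈ normalizer (S : Set G)) {e : G}
    (he : e ∈ E) : x * e * x⁻¹ ∈ E := by
  have h1 : cj x S = S := cj_eq_iff.mpr hx
  have h2 : cj x ⁅S, S⁆ = ⁅S, S⁆ := by
    have h3 : cj x ⁅S, S⁆ = ⁅cj x S, cj x S⁆ := Subgroup.map_commutator _ _ _
    rw [h3, h1]
  rw [comm_S s] at h2
  have h3 := conj_mem_cj (g := x) he
  rwa [h2] at h3

theorem normS_le (s : Sit p K R Q E H S q) :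
    normalizer (S : Set G) ≤ normalizer (E : Set G) :=
  fun _ hx => mem_normalizer_of_forall fun _ he => norm_E s hx he

omit [Finite G] in
theorem R_eq (s : Sit p K R Q E H S q) : S ⊓ centralizer (K : Set G) = R :=
  s.sylR.max _ inf_le_right (s.sylS.two.to_le inf_le_left) (le_inf (R_le s) s.sylR.le)

omit [Finite G] in
/-- `N_M(S)` normalizes `R` -/
theorem norm_R (s : Sit p K R Q E H S q) {x : G} (hx : x ∈ normalizer (S : Set G))
    (hxM : x ∈ normalizer (K : Set G)) {r : G} (hr : r ∈ R) : x * r * x⁻¹ ∈ R := by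
  rw [← R_eq s]
  exact ⟨forall_of_mem_normalizer hx r (R_le s hr), normal_cent K x hxM r (s.sylR.le hr)⟩

theorem H_le (s : Sit p K R Q E H S q) : H ≤ normalizer (S : Set G) := by
  intro h hh
  refine mem_normalizer_of_forall fun x hx => ?_
  obtain ⟨r, hr, k, hk, rfl⟩ := (s.mem_S x).mp hx
  refine (s.mem_S _).mpr ⟨r, hr, h * k * h⁻¹, s.szb.norm h hh k hk, ?_⟩
  have h1 := comm_RK s hr (s.szb.leH hh)
  calc h * (r * k) * h⁻¹ = (h * r) * k * h⁻¹ := by group
    _ = (r * h) * k * h⁻¹ := by rw [h1]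
    _ = r * (h * k * h⁻¹) := by group

omit [Finite G] in
theorem H_le_M (s : Sit p K R Q E H S q) : H ≤ normalizer (K : Set G) :=
  s.szb.leH.trans Subgroup.le_normalizer

/-- the conjugates of `R` are TI -/
theorem ti (s : Sit p K R Q E H S q) {x y t : G} (ht : t ≠ 1) (hx : x⁻¹ * t * x ∈ R)
    (hy : y⁻¹ * t * y ∈ R) : x⁻¹ * y ∈ normalizer (K : Set G) := by
  have h1 : t ∈ cj x (centralizer (K : Set G)) := mem_cj.mpr (s.sylR.le hx)
  have h2 : t ∈ cj y (centralizer (K : Set G)) := mem_cj.mpr (s.sylR.le hy)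
  have h3 : t * t = 1 := by
    have h4 := s.elemR _ hx
    have e1 : t * t = x * (x⁻¹ * t * x * (x⁻¹ * t * x)) * x⁻¹ := by group
    rw [e1, h4]; group
  exact mem_of_cj s.std (orderOf_eq_two ht h3) h1 h2

/-- `R^x ∩ E = 1` -/
theorem conj_inf_E (s : Sit p K R Q E H S q) {x t : G} (hx : x ∈ normalizer (S : Set G))
    (ht : t ∈ R) (htE : x * t * x⁻¹ ∈ E) : t = 1 := by
  have h1 := norm_E s (inv_mem hx) htE
  have e1 : x⁻¹ * (x * t * x⁻¹) * x⁻¹⁻¹ = t := by group
  rw [e1] at h1
  exact R_inf_K s ht (E_le_K s h1)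

/-- `H ∩ M^n = 1` for `n ∈ N(S) - M` -/
theorem H_inf_cj (s : Sit p K R Q E H S q) {n : G} (hn : n ∈ normalizer (S : Set G))
    (hnM : n ∉ normalizer (K : Set G)) {k : G} (hk : k ∈ H)
    (hkn : k ∈ cj n (normalizer (K : Set G))) : k = 1 := by
  by_contra hk1
  -- a power of prime order
  have h8 := s.sz.eight
  obtain ⟨r, hr, hrd⟩ := Nat.exists_prime_and_dvd (n := orderOf k) (fun h => hk1 (orderOf_eq_one_iff.mp h))
  have hko : orderOf k ≠ 0 := (orderOf_pos k).ne'
  set k' := k ^ (orderOf k / r) with hk'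
  have hk'r : orderOf k' = r := orderOf_pow_orderOf_div hko hrd
  have hk'H : k' ∈ H := Subgroup.pow_mem _ hk _
  have hk'n : k' ∈ cj n (normalizer (K : Set G)) := Subgroup.pow_mem _ hkn _
  have hrH : r ∣ q - 1 := by
    rw [← s.szb.cardH, ← hk'r]; exact H.orderOf_dvd_natCard hk'H
  have hr2 : r ≠ 2 := by
    rintro rfl
    have := odd_card_H s.sz
    exact (Nat.not_even_iff_odd.mpr this) (even_iff_two_dvd.mpr hrH)
  have hrK : r ∣ Nat.card K := by rw [← hk'r]; exact K.orderOf_dvd_natCard (s.szb.leH hk'H)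
  -- a nontrivial element of `R^n`
  have h4 := s.four
  obtain ⟨t, ht1⟩ : ∃ t : R, t ≠ 1 := by
    have : Nontrivial R := Finite.one_lt_card_iff_nontrivial.mp (by omega)
    exact exists_ne 1
  have htn : n * t * n⁻¹ ∈ S := forall_of_mem_normalizer hn _ (R_le s t.2)
  have htn2 : n * t * n⁻¹ * (n * t * n⁻¹) = 1 := by
    calc n * t * n⁻¹ * (n * t * n⁻¹) = n * (t * t) * n⁻¹ := by group
      _ = 1 := by rw [s.elemR t t.2]; group
  obtain ⟨r', hr', e, he, hte⟩ := mem_V s htn htn2
  have hcomm := s.std.commute_of_dvd n hr hr2 hrK hk'n hk'r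
    (conj_mem_cj (g := n) (s.sylR.le t.2))
  rw [hte] at hcomm
  have h5 : k' * e = e * k' := by
    have h6 := comm_RK s hr' (s.szb.leH hk'H)
    have h7 : r' * (k' * e) = r' * (e * k') := by
      calc r' * (k' * e) = (r' * k') * e := by group
        _ = (k' * r') * e := by rw [h6]
        _ = k' * (r' * e) := by group
        _ = r' * e * k' := hcomm
        _ = r' * (e * k') := by group
    exact mul_left_cancel h7
  rcases s.szb.fpf k' hk'H e (s.szb.leZ he) h5 with h6 | h6
  · rw [h6, orderOf_one] at hk'r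
    exact hr.one_lt.ne hk'r
  · rw [h6, mul_one] at hte
    apply hnM
    have h7 : t.1 ≠ 1 := fun h => ht1 (Subtype.ext h)
    have h8 : n * t.1 * n⁻¹ ≠ 1 := by
      intro h9
      apply h7
      have : t.1 = n⁻¹ * (n * t.1 * n⁻¹) * n := by group
      rw [this, h9]; group
    have h9 := ti s (x := 1) (y := n) (t := n * t.1 * n⁻¹) h8 (by
      have e1 : (1 : G)⁻¹ * (n * t.1 * n⁻¹) * 1 = r' := by rw [hte]; group
      rw [e1]; exact hr') (by
      have e1 : n⁻¹ * (n * t.1 * n⁻¹) * n = t := by group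
      rw [e1]; exact t.2)
    have e1 : (1 : G)⁻¹ * n = n := by group
    rwa [e1] at h9

/-- the coset space `N_G(S)/N_M(S)` -/
abbrev Cos (K S : Subgroup G) : Type _ :=
  normalizer (S : Set G) ⧸ (normalizer (K : Set G)).subgroupOf (normalizer (S : Set G))

theorem q_le (s : Sit p K R Q E H S q) : q ≤ Nat.card (Cos K S) := by
  classical
  obtain ⟨n, hn, hnM⟩ := s.move
  have hnS : n ∈ normalizer (S : Set G) := mem_normalizer_of_forall hn
  let f : Option H → Cos K S := fun o => o.elim (QuotientGroup.mk 1)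
    (fun h => QuotientGroup.mk ⟨h * n, Subgroup.mul_mem _ (H_le s h.2) hnS⟩)
  have hf : Function.Injective f := by
    have key : ∀ h : H, f none ≠ f (some h) := by
      intro h heq
      have h1 := QuotientGroup.eq.mp (show (QuotientGroup.mk (1 : normalizer (S : Set G)) : Cos K S)
        = QuotientGroup.mk _ from heq)
      have h2 : (h : G) * n ∈ normalizer (K : Set G) := by
        have := Subgroup.mem_subgroupOf.mp h1
        simpa using this
      apply hnM
      have h3 := Subgroup.mul_mem _ (Subgroup.inv_mem _ (H_le_M s h.2)) h2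
      rwa [inv_mul_cancel_left] at h3
    rintro (_ | h) (_ | h') heq
    · rfl
    · exact absurd heq (key h')
    · exact absurd heq.symm (key h)
    · have h1 := QuotientGroup.eq.mp (show (QuotientGroup.mk _ : Cos K S)
        = QuotientGroup.mk _ from heq)
      have h2 : n⁻¹ * ((h : G)⁻¹ * h') * n ∈ normalizer (K : Set G) := by
        have := Subgroup.mem_subgroupOf.mp h1
        simp only [Subgroup.coe_mul, InvMemClass.coe_inv] at this
        have e1 : n⁻¹ * ((h : G)⁻¹ * h') * n = ((h : G) * n)⁻¹ * (h' * n) := by group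
        rw [e1]; exact this
      have h3 := H_inf_cj s hnS hnM (H.mul_mem (H.inv_mem h.2) h'.2) (mem_cj.mpr h2)
      have h4 : (h : G) = h' := inv_mul_eq_one.mp h3
      rw [Subtype.ext h4]
  have h1 := Nat.card_le_card_of_injective f hf
  have h2 : Nat.card (Option H) = q := by
    have h3 : Nat.card (Option H) = Nat.card H + 1 := Finite.card_option
    rw [h3, s.szb.cardH]
    have := s.sz.eight
    omega
  rwa [h2] at h1

/-- the elements of `RE` outside `E` -/
theorem card_diff (s : Sit p K R Q E H S q) :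
    Nat.card {v : G // v ∈ R ⊔ E ∧ v ∉ E} = (Nat.card R - 1) * q := by
  have h1 : Nat.card (R ⊔ E : Subgroup G) = Nat.card R * q := by
    rw [card_sup_comm (comm_RE s), s.szb.cardZ]
    rw [eq_bot_iff]
    intro x hx
    rw [mem_bot]
    exact R_inf_K s hx.1 (E_le_K s hx.2)
  have h2 : (((R ⊔ E : Subgroup G) : Set G) \ (E : Set G)).ncard =
      ((R ⊔ E : Subgroup G) : Set G).ncard - (E : Set G).ncard :=
    Set.ncard_sdiff (fun x hx => mem_sup_right hx) (Set.toFinite _)
  have h3 : Nat.card {v : G // v ∈ R ⊔ E ∧ v ∉ E} =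
      (((R ⊔ E : Subgroup G) : Set G) \ (E : Set G)).ncard := rfl
  rw [h3, h2]
  have h4 : ((R ⊔ E : Subgroup G) : Set G).ncard = Nat.card R * q := h1
  have h5 : (E : Set G).ncard = q := s.szb.cardZ
  rw [h4, h5, Nat.sub_mul, one_mul]

/-- the conjugates of the elements of `R` -/
noncomputable def phi (s : Sit p K R Q E H S q) (x : Cos K S × {r : R // r ≠ 1}) :
    {v : G // v ∈ R ⊔ E ∧ v ∉ E} :=
  ⟨(x.1.out : G) * (x.2 : R) * (x.1.out : G)⁻¹, by
    have hn := x.1.out.2
    constructor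
    · have h1 : (x.1.out : G) * (x.2 : R) * (x.1.out : G)⁻¹ ∈ S :=
        forall_of_mem_normalizer hn _ (R_le s (x.2 : R).2)
      obtain ⟨r, hr, e, he, h2⟩ := mem_V s h1 (by
        calc (x.1.out : G) * (x.2 : R) * (x.1.out : G)⁻¹ *
              ((x.1.out : G) * (x.2 : R) * (x.1.out : G)⁻¹)
            = (x.1.out : G) * (((x.2 : R) : G) * (x.2 : R)) * (x.1.out : G)⁻¹ := by group
          _ = 1 := by rw [s.elemR _ (x.2 : R).2]; group)
      rw [mem_sup s]
      exact ⟨r, hr, e, he, h2⟩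
    · intro h1
      exact x.2.2 (Subtype.ext (conj_inf_E s hn (x.2 : R).2 h1))⟩

theorem phi_injective (s : Sit p K R Q E H S q) : Function.Injective (phi s) := by
  rintro ⟨c, r⟩ ⟨c', r'⟩ heq
  have h1 : (c.out : G) * (r : R) * (c.out : G)⁻¹ = (c'.out : G) * (r' : R) * (c'.out : G)⁻¹ :=
    congrArg Subtype.val heq
  have hr1 : ((r : R) : G) ≠ 1 := fun h => r.2 (Subtype.ext h)
  have h2 : (c.out : G)⁻¹ * c'.out ∈ normalizer (K : Set G) := by
    refine ti s (t := (c.out : G) * (r : R) * (c.out : G)⁻¹) ?_ ?_ ?_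
    · intro h3
      apply hr1
      have : ((r : R) : G) = (c.out : G)⁻¹ * ((c.out : G) * (r : R) * (c.out : G)⁻¹) * c.out := by
        group
      rw [this, h3]; group
    · have e1 : (c.out : G)⁻¹ * ((c.out : G) * (r : R) * (c.out : G)⁻¹) * c.out = (r : R) := by
        group
      rw [e1]; exact (r : R).2
    · rw [h1]
      have e1 : (c'.out : G)⁻¹ * ((c'.out : G) * (r' : R) * (c'.out : G)⁻¹) * c'.out = (r' : R) := by
        group
      rw [e1]; exact (r' : R).2
  have h3 : c = c' := by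
    rw [← QuotientGroup.out_eq' c, ← QuotientGroup.out_eq' c']
    exact QuotientGroup.eq.mpr (Subgroup.mem_subgroupOf.mpr h2)
  subst h3
  have h4 : ((r : R) : G) = (r' : R) := by
    have := mul_right_cancel h1
    exact mul_left_cancel this
  rw [Subtype.ext (Subtype.ext h4)]

theorem card_cos (s : Sit p K R Q E H S q) : Nat.card (Cos K S) = q := by
  apply le_antisymm _ (q_le s)
  have h1 := Nat.card_le_card_of_injective _ (phi_injective s)
  rw [Nat.card_prod, card_diff s, card_ne_one, mul_comm] at h1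
  have h4 := s.four
  exact Nat.le_of_mul_le_mul_left h1 (by omega)

/-- **[E-Delta] (1)**: `R` has exactly `q` conjugates under `N_G(S)`. -/
theorem card (s : Sit p K R Q E H S q) : Nat.card (normalizer (S : Set G)) =
    q * Nat.card (normalizer (S : Set G) ⊓ normalizer (K : Set G) : Subgroup G) := by
  have h1 := Subgroup.card_eq_card_quotient_mul_card_subgroup
    ((normalizer (K : Set G)).subgroupOf (normalizer (S : Set G)))
  rw [h1]
  have h2 := card_cos s
  rw [show Nat.card (normalizer (S : Set G) ⧸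
    (normalizer (K : Set G)).subgroupOf (normalizer (S : Set G))) = q from h2]
  congr 1
  rw [inf_comm, ← Subgroup.subgroupOf_map_subtype]
  exact (Subgroup.card_map_of_injective (Subgroup.subtype_injective _)).symm

/-- **[E-Delta] (2)**: the conjugates of `R` under `N_G(S)` cover the involutions of `S` outside `E`. -/
theorem cover (s : Sit p K R Q E H S q) {v : G} (hv : v ∈ S) (h2 : v * v = 1) (hvE : v ∉ E) :
    ∃ x ∈ normalizer (S : Set G), x⁻¹ * v * x ∈ R := by
  have hb : Function.Bijective (phi s) := by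
    refine (phi_injective s).bijective_of_nat_card_le ?_
    rw [Nat.card_prod, card_diff s, card_ne_one, card_cos s, mul_comm]
  obtain ⟨⟨c, r⟩, hcr⟩ := hb.2 ⟨v, (mem_sup s).mpr (mem_V s hv h2), hvE⟩
  have h1 : (c.out : G) * (r : R) * (c.out : G)⁻¹ = v := congrArg Subtype.val hcr
  refine ⟨c.out, c.out.2, ?_⟩
  have e1 : (c.out : G)⁻¹ * v * c.out = (r : R) := by rw [← h1]; group
  rw [e1]
  exact (r : R).2

/-- `|R| ≤ q` -/
theorem card_R_le (s : Sit p K R Q E H S q) : Nat.card R ≤ q := by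
  obtain ⟨n, hn, hnM⟩ := s.move
  have hnS : n ∈ normalizer (S : Set G) := mem_normalizer_of_forall hn
  have hV : Elem (R ⊔ E) := fun v hv => sq_of_sup s hv
  have hle : cj n R ≤ R ⊔ E := by
    rintro _ ⟨t, ht, rfl⟩
    have h1 : n * t * n⁻¹ ∈ S := hn _ (R_le s ht)
    have h2 := mem_V s h1 (by
      calc n * t * n⁻¹ * (n * t * n⁻¹) = n * (t * t) * n⁻¹ := by group
        _ = 1 := by rw [s.elemR t ht]; group)
    exact (mem_sup s).mpr h2
  have hdis : R ⊓ cj n R = ⊥ := by
    rw [eq_bot_iff]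
    intro t ht
    rw [mem_bot]
    by_contra ht1
    apply hnM
    have h3 := ti s (x := 1) (y := n) (t := t) ht1 (by simpa using ht.1) (mem_cj.mp ht.2)
    simpa using h3
  have h1 := card_sup_comm (A := R) (B := cj n R)
    (fun a ha b hb => hV.comm (mem_sup_left ha) (hle hb)) hdis
  have h2 := Subgroup.card_le_of_le (sup_le (le_sup_left : R ≤ R ⊔ E) hle)
  have h3 : Nat.card (R ⊔ E : Subgroup G) = Nat.card R * q := by
    rw [card_sup_comm (comm_RE s), s.szb.cardZ]
    rw [eq_bot_iff]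
    intro x hx
    rw [mem_bot]
    exact R_inf_K s hx.1 (E_le_K s hx.2)
  rw [h1, h3, card_cj] at h2
  exact Nat.le_of_mul_le_mul_left h2 Nat.card_pos

end fin

end Cfsg.Agent.OddCyclic.CompSzDelta
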