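import Cfsg.Agent.OddCyclic.CompSzLay
import Cfsg.Agent.OddCyclic.CompSzDelta
import Cfsg.Agent.OddCyclic.CaseELayerF
import Cfsg.Agent.OddCyclic.B2Tools
import Cfsg.Agent.StdSz.Out

/-!
# S0342, component type, case E: the Sylow 2-subgroups of `G` have class two

* `exists_lay` : the layer theorem applies to an `H`-invariant `P ∈ Syl₂(C_G(E))`, `P > S`;
* `class_two` : `P ∈ Syl₂(G)` is nonabelian of class two;
* `list` : the conclusion of S1170 for `G`.
-/

set_option autoImplicit false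

namespace Cfsg.Agent.OddCyclic.CompSzEnd

open Subgroup
open Cfsg.Agent.LieExceptional Cfsg.Agent.LieExceptional.CITDefs
open Cfsg.Agent.OddCyclic.CompStandard Cfsg.Agent.OddCyclic.CaseESz Cfsg.Agent.OddCyclic.CompSzSing
open Cfsg.Agent.OddCyclic.CaseELayDefs

universe u

variable {G : Type*} [Group G] [Finite G] {p : ℕ} {K R Q E H S : Subgroup G} {q : ℕ}

/-- a 2-subgroup of `N(S)` containing `S` properly -/
theorem exists_two (s : CompSzDefs.Sit p K R Q E H S q) :
    ∃ Y : Subgroup G, S ≤ Y ∧ Y ≤ normalizer (S : Set G) ∧ IsPGroup 2 Y ∧ Y ≠ S := by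
  have hpf : Fact (Nat.Prime 2) := ⟨Nat.prime_two⟩
  have h8 := s.sz.eight
  obtain ⟨m, -, hq⟩ := s.sz.pow
  obtain ⟨k, hk⟩ := IsPGroup.iff_card.mp s.sylS.two
  -- `q |S|` divides `|N(S)|`
  have hSN : S ≤ normalizer (S : Set G) ⊓ normalizer (K : Set G) := le_inf Subgroup.le_normalizer s.sylS.le
  have hdvd : 2 ^ (2 * m + 1 + k) ∣ Nat.card (normalizer (S : Set G)) := by
    rw [CompSzDelta.card s, pow_add, ← hq, ← hk]
    exact Nat.mul_dvd_mul_left _ (Subgroup.card_dvd_of_le hSN)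
  have hSc : Nat.card (S.subgroupOf (normalizer (S : Set G))) = 2 ^ k := by
    rw [← hk]
    exact Nat.card_congr (Subgroup.subgroupOfEquivOfLe Subgroup.le_normalizer).toEquiv
  obtain ⟨Y, hY, hSY⟩ := Sylow.exists_subgroup_card_pow_prime_le (p := 2) hdvd _ hSc (by omega)
  refine ⟨Y.map (normalizer (S : Set G)).subtype, ?_, Subgroup.map_subtype_le _, ?_, ?_⟩
  · intro x hx
    exact ⟨⟨x, Subgroup.le_normalizer hx⟩, hSY (mem_subgroupOf.mpr hx), rfl⟩
  · exact (IsPGroup.of_card hY).map _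
  · intro heq
    have h1 : Nat.card (Y.map (normalizer (S : Set G)).subtype) = Nat.card Y :=
      Nat.card_congr (Y.equivMapOfInjective _ (Subgroup.subtype_injective _)).symm.toEquiv
    rw [heq, hk, hY] at h1
    have h2 := Nat.pow_right_injective le_rfl h1
    omega

theorem two_of_mem {Y : Subgroup G} (hY : IsPGroup 2 Y) {x : G} (hx : x ∈ Y) : ∃ n : ℕ, x ^ 2 ^ n = 1 := by
  obtain ⟨n, hn⟩ := hY ⟨x, hx⟩
  exact ⟨n, by
    have := congrArg Subtype.val hn
    simpa using this⟩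

/-- the layer theorem applies -/
theorem exists_lay [IsSimpleGroup G] (s : CompSzDefs.Sit p K R Q E H S q) (hsec : CaseASix.SecKZ G) (h32 : 32 ≤ q) :
    ∃ P : Subgroup G, IsSyl2 (centralizer (E : Set G)) P ∧ S ≤ P ∧ LayE P R Q E H q ∧ LayEFin P R Q E q := by
  obtain ⟨P, hP, hSP, hHP⟩ := CompSzLay.exists_P s
  have l := CompSzLay.layE s h32 hP.two hSP hP.le hHP
  refine ⟨P, hP, hSP, l, CaseELay.main l ?_⟩
  by_contra hno
  push Not at hno
  have hPS : P = S := le_antisymm (fun x hx => (s.mem_S x).mpr (hno x hx)) hSP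
  obtain ⟨Y, hSY, hYN, hY2, hYS⟩ := exists_two s
  apply hYS
  have h1 : Y ≤ centralizer (E : Set G) := fun y hy =>
    two_mem s hsec h32 (CompSzDelta.normS_le s (hYN hy)) (two_of_mem hY2 hy)
  have h2 := hP.max Y h1 hY2 (hPS ▸ hSY)
  rw [h2, hPS]

/-- `Z(P) = E` -/
theorem center_P (s : CompSzDefs.Sit p K R Q E H S q) {P : Subgroup G} (hSP : S ≤ P) (l : LayE P R Q E H q)
    (f : LayEFin P R Q E q) {z : G} (hz : z ∈ P) (hzc : ∀ x ∈ P, x * z = z * x) : z ∈ E := by
  obtain ⟨t, ht, ht1⟩ := l.exists_t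
  obtain ⟨r, hr, y, hy, rfl⟩ := l.cent t ht ht1 z hz (hzc t (l.leR ht)).symm
  have hyE : y ∈ E := by
    refine l.mem_E_of_comm_Q hy (fun w hw => ?_)
    have h1 := hzc w (l.leQ hw)
    have h2 : r * (y * w) = r * (w * y) := by
      calc r * (y * w) = r * y * w := by group
        _ = w * (r * y) := h1.symm
        _ = (w * r) * y := by group
        _ = (r * w) * y := by rw [l.commRQ r hr w hw]
        _ = r * (w * y) := by group
    exact (mul_left_cancel h2).symm
  by_cases hr1 : r = 1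
  · rw [hr1, one_mul]; exact hyE
  exfalso
  -- `P ≤ C(r)`, so `P = RQ`
  have h1 : ∀ x ∈ P, x * r = r * x := by
    intro x hx
    have h2 := hzc x hx
    have h3 := l.cen y hyE x hx
    have h4 : x * r * y = r * x * y := by
      calc x * r * y = x * (r * y) := by group
        _ = r * y * x := h2
        _ = r * (y * x) := by group
        _ = r * (x * y) := by rw [h3]
        _ = r * x * y := by group
    exact mul_right_cancel h4
  have h2 : P = l.SS := le_antisymm (fun x hx => l.cent r hr hr1 x hx (h1 x hx)) l.SS_le_T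
  have h3 : Nat.card P = Nat.card R * (q * q) := by rw [h2, l.card_SS]
  rw [f.card] at h3
  have h4 := l.big
  have h5 := l.bigR
  have h6 : Nat.card R * q ^ 3 = Nat.card R * (q * q) * q := by ring
  rw [h6] at h3
  have h7 : 0 < Nat.card R * (q * q) := by positivity
  nlinarith

/-- `P ∈ Syl₂(G)` -/
theorem sylow_P [IsSimpleGroup G] (s : CompSzDefs.Sit p K R Q E H S q) (hsec : CaseASix.SecKZ G) (h32 : 32 ≤ q)
    {P : Subgroup G} (hP : IsSyl2 (centralizer (E : Set G)) P) (hSP : S ≤ P) (l : LayE P R Q E H q)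
    (f : LayEFin P R Q E q) : IsSyl2 ⊤ P := by
  refine ⟨le_top, hP.two, fun Y _ hY hPY => ?_⟩
  by_contra hne
  obtain ⟨g, hgY, hgP, hg⟩ := B2Tools.grow hPY hY (Ne.symm hne)
  -- `g ∈ N(E)`
  have hgN : g ∈ normalizer (E : Set G) := by
    have hgP' : g ∈ normalizer (P : Set G) := mem_normalizer_of_forall hg
    refine mem_normalizer_of_forall (fun e he => ?_)
    refine center_P s hSP l f (hg e (l.leET he)) (fun x hx => ?_)
    have h1 : g⁻¹ * x * g ∈ P := by
      have := forall_of_mem_normalizer (inv_mem hgP') x hx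
      rwa [inv_inv] at this
    have h2 := l.cen e he _ h1
    calc x * (g * e * g⁻¹) = g * ((g⁻¹ * x * g) * e) * g⁻¹ := by group
      _ = g * (e * (g⁻¹ * x * g)) * g⁻¹ := by rw [h2]
      _ = g * e * g⁻¹ * x := by group
  have hgC := two_mem s hsec h32 hgN (two_of_mem hY hgY)
  have h1 : Y ⊓ centralizer (E : Set G) = P :=
    hP.max _ inf_le_right (hY.to_le inf_le_left) (le_inf hPY hP.le)
  have h2 : g ∈ Y ⊓ centralizer (E : Set G) := ⟨hgY, hgC⟩
  rw [h1] at h2
  exact hgP h2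

/-- the Sylow 2-subgroups of `G` are nonabelian of class two -/
theorem class_two [IsSimpleGroup G] (s : CompSzDefs.Sit p K R Q E H S q) (hsec : CaseASix.SecKZ G) (h32 : 32 ≤ q) :
    ∃ T : Sylow 2 G, ¬ IsMulCommutative (T : Subgroup G) ∧
      ⁅(⊤ : Subgroup (T : Subgroup G)), ⊤⁆ ≤ Subgroup.center (T : Subgroup G) := by
  obtain ⟨P, hP, hSP, l, f⟩ := exists_lay s hsec h32
  have hsyl := sylow_P s hsec h32 hP hSP l f
  obtain ⟨T, hT⟩ := hP.two.exists_le_sylow
  have hTP : (T : Subgroup G) = P := hsyl.max _ le_top T.isPGroup' hT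
  refine ⟨T, ?_, ?_⟩
  · intro hc
    obtain ⟨t, ht, ht1⟩ := l.exists_t
    refine ht1 (l.disjR ht (l.leE (center_P s hSP l f (l.leR ht) (fun x hx => ?_))))
    have hx' : x ∈ (T : Subgroup G) := by rw [hTP]; exact hx
    have ht' : t ∈ (T : Subgroup G) := by rw [hTP]; exact l.leR ht
    exact congrArg Subtype.val (hc.is_comm.comm (⟨x, hx'⟩ : (T : Subgroup G)) ⟨t, ht'⟩)
  · rw [Subgroup.commutator_le]
    intro x _ y _
    rw [Subgroup.mem_center_iff]
    intro g
    have hx : (x : G) ∈ P := by rw [← hTP]; exact x.2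
    have hy : (y : G) ∈ P := by rw [← hTP]; exact y.2
    have hg : (g : G) ∈ P := by rw [← hTP]; exact g.2
    apply Subtype.ext
    have h1 : (x : G) * y * (x : G)⁻¹ * (y : G)⁻¹ ∈ E := f.comm x hx y hy
    exact (l.cen _ h1 g hg).symm

/-- the conclusion of S1170 for `G` -/
theorem list {G : Type u} [Group G] [Finite G] [IsSimpleGroup G] {p : ℕ} {K R Q E H S : Subgroup G} {q : ℕ}
    (s : CompSzDefs.Sit p K R Q E H S q) (hsec : CaseASix.SecKZ G) (h32 : 32 ≤ q)
    (h1170 : StdSz.Out.S1170Stmt.{u}) :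
    (∃ (F : Type) (_ : Field F) (_ : Fintype F),
      (Fintype.card F % 16 = 7 ∨ Fintype.card F % 16 = 9) ∧
        Nonempty (G ≃* Matrix.ProjectiveSpecialLinearGroup (Fin 2) F)) ∨
    (∃ (F : Type) (_ : Field F) (_ : Fintype F) (q : ℕ), Fintype.card F = q ^ 2 ∧ Even q ∧ 4 ≤ q ∧
      Nonempty (G ≃* Cfsg.PSU 3 F q)) ∨ Cfsg.IsSuzuki G ∨
    (∃ (F : Type) (_ : Field F) (_ : Fintype F), CharP F 2 ∧
      Nonempty (G ≃* Matrix.ProjectiveSpecialLinearGroup (Fin 3) F)) ∨
    (∃ (F : Type) (_ : Field F) (_ : Fintype F), CharP F 2 ∧ 4 ≤ Fintype.card F ∧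
      Nonempty (G ≃* Cfsg.PSp 2 F)) ∨ Nonempty (G ≃* alternatingGroup (Fin 7)) := by
  obtain ⟨T, hT, hT2⟩ := class_two s hsec h32
  exact h1170 G T T ⟨le_rfl, fun x _ g h => h⟩ hT hT2

/-- an involution and a commuting element of order 5 -/
theorem exists_five (s : CompSzDefs.Sit p K R Q E H S q) :
    ∃ t x : G, orderOf t = 2 ∧ orderOf x = 5 ∧ t * x = x * t := by
  have hpf : Fact (Nat.Prime 5) := ⟨by norm_num⟩
  obtain ⟨t, ht, hKt⟩ := s.std.ex
  obtain ⟨x, hx⟩ := exists_prime_orderOf_dvd_card' (G := K) 5 s.sz.five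
  refine ⟨t, x, ht, by rw [Subgroup.orderOf_coe]; exact hx, ?_⟩
  exact (mem_centralizer_iff.mp (mem_centralizer_of_cmp hKt) x x.2).symm

theorem sixteen_dvd (s : CompSzDefs.Sit p K R Q E H S q) : 16 ∣ Nat.card G := by
  obtain ⟨m, hm, hq⟩ := s.sz.pow
  have h1 : Nat.card Q ∣ Nat.card G := Subgroup.card_subgroup_dvd_card Q
  rw [s.szb.cardQ, hq, ← pow_mul] at h1
  have h2 : 16 ∣ 2 ^ ((2 * m + 1) * 2) := by
    have : (16 : ℕ) = 2 ^ 4 := by norm_num
    rw [this]
    exact pow_dvd_pow 2 (by omega)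
  exact h2.trans h1

end Cfsg.Agent.OddCyclic.CompSzEnd
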