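import Mathlib
import Cfsg.Prelude.Def_Classical
import Cfsg.Prelude.Def_Exceptional
import Cfsg.Agent.OddCyclic.CompBasic
import Cfsg.Agent.OddCyclic.CaseESz
import Cfsg.Agent.SmallSimple.PSLTwoPart
import Cfsg.Agent.S0243

/-!
# S0342: the groups in the conclusion of S1170 do not have cyclic odd Sylow subgroups
-/

set_option autoImplicit false

namespace Cfsg.Agent.OddCyclic.CompSzList

open Subgroup Cfsg
open Matrix (SpecialLinearGroup)
open scoped Matrix
open Cfsg.Agent.OddCyclic.T1Defs Cfsg.Agent.OddCyclic.CompBasic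

/-! ### a noncyclic subgroup of a central quotient -/

theorem orderOf_mk_eq {S : Type*} [Group S] {r : ℕ} (hr : r.Prime) {x : S}
    (hx : x ^ r ∈ center S) (hx1 : x ∉ center S) :
    orderOf (x : S ⧸ center S) = r := by
  have hrf : Fact r.Prime := ⟨hr⟩
  apply orderOf_eq_prime
  · rw [← QuotientGroup.mk_pow]
    exact (QuotientGroup.eq_one_iff _).mpr hx
  · intro h
    exact hx1 ((QuotientGroup.eq_one_iff _).mp h)

theorem false_of_lift {S : Type*} [Group S] [Finite S] (h : OddCyc (S ⧸ center S)) {r : ℕ}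
    (hr : r.Prime) (hr2 : r ≠ 2) {x y : S} (hx : x ^ r ∈ center S) (hx1 : x ∉ center S)
    (hy : y ^ r ∈ center S) (hc : x * y * (y * x)⁻¹ ∈ center S)
    (hn : ∀ i : ℤ, y * x ^ i ∉ center S) : False := by
  have hy1 : y ∉ center S := by
    have := hn 0
    rwa [zpow_zero, mul_one] at this
  have h1 := orderOf_mk_eq hr hx hx1
  have h2 := orderOf_mk_eq hr hy hy1
  have h3 : Commute (x : S ⧸ center S) (y : S ⧸ center S) := by
    show (x : S ⧸ center S) * y = y * x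
    rw [← QuotientGroup.mk_mul, ← QuotientGroup.mk_mul]
    have h4 : ((x * y * (y * x)⁻¹ : S) : S ⧸ center S) = 1 := (QuotientGroup.eq_one_iff _).mpr hc
    rw [QuotientGroup.mk_mul, QuotientGroup.mk_inv] at h4
    exact mul_inv_eq_one.mp h4
  have h4 := zpowers_eq_of_commute h hr hr2 h1 h2 h3
  have h5 : (y : S ⧸ center S) ∈ zpowers (x : S ⧸ center S) := by
    rw [h4]; exact mem_zpowers _
  obtain ⟨k, hk⟩ := h5
  apply hn (-k)
  rw [← QuotientGroup.eq_one_iff, QuotientGroup.mk_mul, QuotientGroup.mk_zpow, zpow_neg]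
  have h6 : (x : S ⧸ center S) ^ k = y := hk
  rw [h6, mul_inv_cancel]

/-! ### three by three matrices -/

section three

variable {F : Type*} [Field F]

/-- diagonal matrices of determinant one -/
def dg : Fˣ × Fˣ →* SpecialLinearGroup (Fin 3) F where
  toFun u := ⟨Matrix.diagonal ![(u.1 : F), (u.2 : F), ((u.1 * u.2)⁻¹ : Fˣ)], by
    rw [Matrix.det_diagonal, Fin.prod_univ_three]
    show (u.1 : F) * (u.2 : F) * ((u.1 * u.2)⁻¹ : Fˣ) = 1
    rw [← Units.val_mul, ← Units.val_mul, mul_inv_cancel, Units.val_one]⟩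
  map_one' := by
    apply Subtype.ext
    show Matrix.diagonal _ = _
    ext i j
    fin_cases i <;> fin_cases j <;> simp [Matrix.diagonal]
  map_mul' u v := by
    apply Subtype.ext
    show Matrix.diagonal _ = Matrix.diagonal _ * Matrix.diagonal _
    rw [Matrix.diagonal_mul_diagonal]
    congr 1
    ext i
    fin_cases i
    · simp
    · simp
    · simp
      ring

theorem dg_coe (u : Fˣ × Fˣ) : ((dg u : SpecialLinearGroup (Fin 3) F) : Matrix (Fin 3) (Fin 3) F) =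
    Matrix.diagonal ![(u.1 : F), (u.2 : F), ((u.1 * u.2)⁻¹ : Fˣ)] := rfl

/-- a permutation matrix of order three -/
def pm : SpecialLinearGroup (Fin 3) F :=
  ⟨!![0, 1, 0; 0, 0, 1; 1, 0, 0], by rw [Matrix.det_fin_three]; simp⟩

theorem pm_coe : ((pm : SpecialLinearGroup (Fin 3) F) : Matrix (Fin 3) (Fin 3) F) =
    !![0, 1, 0; 0, 0, 1; 1, 0, 0] := rfl

theorem pm_cube : (pm : SpecialLinearGroup (Fin 3) F) ^ 3 = 1 := by
  apply Subtype.ext
  rw [pow_succ, pow_two]
  show (!![0, 1, 0; 0, 0, 1; 1, 0, 0] : Matrix (Fin 3) (Fin 3) F) * !![0, 1, 0; 0, 0, 1; 1, 0, 0] *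
    !![0, 1, 0; 0, 0, 1; 1, 0, 0] = 1
  rw [Matrix.mul_fin_three, Matrix.mul_fin_three]
  ext i j
  fin_cases i <;> fin_cases j <;> simp

theorem comm_pm {u : Fˣ × Fˣ} (h : dg u * pm = pm * dg u) :
    u.1 = u.2 ∧ u.2 = (u.1 * u.2)⁻¹ := by
  have h1 : ((dg u : SpecialLinearGroup (Fin 3) F) : Matrix (Fin 3) (Fin 3) F) *
      !![0, 1, 0; 0, 0, 1; 1, 0, 0] = !![0, 1, 0; 0, 0, 1; 1, 0, 0] * (dg u).1 :=
    congrArg Subtype.val h
  rw [dg_coe] at h1
  have h2 : Matrix.diagonal ![(u.1 : F), (u.2 : F), ((u.1 * u.2)⁻¹ : Fˣ)] *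
      !![0, 1, 0; 0, 0, 1; 1, 0, 0] = !![0, 1, 0; 0, 0, 1; 1, 0, 0] *
      Matrix.diagonal ![(u.1 : F), (u.2 : F), ((u.1 * u.2)⁻¹ : Fˣ)] := h1
  have h3 := congrFun (congrFun h2 0) 1
  have h4 := congrFun (congrFun h2 1) 2
  rw [Matrix.diagonal_mul, Matrix.mul_diagonal] at h3 h4
  simp at h3 h4
  constructor
  · exact Units.ext h3
  · apply Units.ext
    rw [h4]
    simp

/-- the commutator of `diag(a, a⁻¹, 1)` and the permutation matrix for `a³ = 1` is a scalar -/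
theorem comm_scalar {a : Fˣ} (ha : a ^ 3 = 1) (g : SpecialLinearGroup (Fin 3) F) :
    (dg (a, a⁻¹) * pm * (pm * dg (a, a⁻¹))⁻¹) * g =
      g * (dg (a, a⁻¹) * pm * (pm * dg (a, a⁻¹))⁻¹) := by
  have hinv : a⁻¹ = a * a := by
    rw [inv_eq_iff_mul_eq_one, ← ha, pow_succ, pow_two, mul_assoc]
  have hinv2 : (a⁻¹ * a⁻¹)⁻¹ = a⁻¹ := by
    rw [mul_inv_rev, inv_inv, hinv]
  have ha' : (a : F) * a * a = 1 := by
    have := congrArg (Units.val) ha
    rw [pow_succ, pow_two] at this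
    exact this
  have e1 : (dg (a, a⁻¹) : SpecialLinearGroup (Fin 3) F).1 =
    Matrix.diagonal ![(a : F), (a : F) * a, 1] := by
    show Matrix.diagonal ![(a : F), ((a⁻¹ : Fˣ) : F), ((a * a⁻¹)⁻¹ : Fˣ)] = _
    rw [mul_inv_cancel, inv_one, hinv]
    rfl
  have e2 : (dg (a⁻¹, a⁻¹) : SpecialLinearGroup (Fin 3) F).1 =
    Matrix.diagonal ![(a : F) * a, (a : F) * a, (a : F) * a] := by
    show Matrix.diagonal ![((a⁻¹ : Fˣ) : F), ((a⁻¹ : Fˣ) : F), ((a⁻¹ * a⁻¹)⁻¹ : Fˣ)] = _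
    rw [hinv2, hinv]
    rfl
  have h1 : (dg (a, a⁻¹) * pm : SpecialLinearGroup (Fin 3) F) =
      dg (a⁻¹, a⁻¹) * (pm * dg (a, a⁻¹)) := by
    apply Subtype.ext
    show (dg (a, a⁻¹)).1 * !![0, 1, 0; 0, 0, 1; 1, 0, 0] =
      (dg (a⁻¹, a⁻¹)).1 * (!![0, 1, 0; 0, 0, 1; 1, 0, 0] * (dg (a, a⁻¹)).1)
    rw [e1, e2]
    ext i j
    rw [Matrix.diagonal_mul, Matrix.diagonal_mul, Matrix.mul_diagonal]
    fin_cases i <;> fin_cases j <;> simp
    · linear_combination (-(a : F)) * ha'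
    · linear_combination -ha'
  have h2 : dg (a, a⁻¹) * pm * (pm * dg (a, a⁻¹))⁻¹ =
      (dg (a⁻¹, a⁻¹) : SpecialLinearGroup (Fin 3) F) := by
    rw [h1, mul_inv_cancel_right]
  rw [h2]
  apply Subtype.ext
  show (dg (a⁻¹, a⁻¹)).1 * g.1 = g.1 * (dg (a⁻¹, a⁻¹)).1
  rw [e2]
  ext i j
  rw [Matrix.diagonal_mul, Matrix.mul_diagonal]
  fin_cases i <;> fin_cases j <;> simp [mul_comm]

/-- **The three-dimensional lemma.** -/
theorem false_of_three {S : Type*} [Group S] [Finite S] (ι : S →* SpecialLinearGroup (Fin 3) F)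
    (hι : Function.Injective ι) (h : OddCyc (S ⧸ center S)) {r : ℕ} (hr : r.Prime) (hr2 : r ≠ 2)
    {a : Fˣ} (ha : orderOf a = r) {p x y : S} (hp : ι p = pm) (hx : ι x = dg (a, a⁻¹))
    (hy : ι y = dg (1, a)) : False := by
  have ha1 : a ≠ 1 := by
    rintro rfl
    rw [orderOf_one] at ha
    exact hr.one_lt.ne ha
  have har : a ^ r = 1 := by rw [← ha, pow_orderOf_eq_one]
  have ha2 : a * a ≠ 1 := by
    intro h1
    have h2 : orderOf a ∣ 2 := orderOf_dvd_of_pow_eq_one (by rw [pow_two, h1])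
    rw [ha, Nat.prime_dvd_prime_iff_eq hr Nat.prime_two] at h2
    exact hr2 h2
  -- noncentrality
  have nc : ∀ (u : Fˣ × Fˣ) (s : S), ι s = dg u → s ∈ center S → u.1 = u.2 ∧ u.2 = (u.1 * u.2)⁻¹ := by
    intro u s hs hsc
    have h1 := congrArg ι (mem_center_iff.mp hsc p)
    rw [map_mul, map_mul, hp, hs] at h1
    exact comm_pm h1.symm
  have hx1 : x ∉ center S := by
    intro h1
    have h2 := (nc _ x hx h1).1
    apply ha2
    have h3 : a = a⁻¹ := h2
    calc a * a = a⁻¹ * a := by rw [← h3]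
      _ = 1 := inv_mul_cancel a
  have hxr : x ^ r = 1 := by
    apply hι
    rw [map_pow, hx, ← map_pow, map_one]
    have : ((a, a⁻¹) : Fˣ × Fˣ) ^ r = 1 := by
      rw [Prod.pow_mk, har, inv_pow, har, inv_one]
      rfl
    rw [this, map_one]
  have hyr : y ^ r = 1 := by
    apply hι
    rw [map_pow, hy, ← map_pow, map_one]
    have : ((1, a) : Fˣ × Fˣ) ^ r = 1 := by
      rw [Prod.pow_mk, har, one_pow]
      rfl
    rw [this, map_one]
  by_cases h3 : r = 3
  · -- `r = 3`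
    subst h3
    have hpr : p ^ 3 = 1 := by
      apply hι
      rw [map_pow, hp, pm_cube, map_one]
    refine false_of_lift h hr hr2 (x := x) (y := p) (by rw [hxr]; exact one_mem _) hx1
      (by rw [hpr]; exact one_mem _) ?_ ?_
    · rw [mem_center_iff]
      intro g
      apply hι
      have h1 := comm_scalar har (ι g)
      have h2 : ι (x * p * (p * x)⁻¹) = dg (a, a⁻¹) * pm * (pm * dg (a, a⁻¹))⁻¹ := by
        rw [map_mul, map_inv, map_mul, map_mul, hx, hp]
      rw [map_mul ι g, map_mul ι _ g, h2]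
      exact h1.symm
    · intro i hi
      apply hx1
      -- `p x^i` commutes with `x`, so `p` does
      have h1 : p * x ^ i * x = x * (p * x ^ i) := (mem_center_iff.mp hi x).symm
      have h2 : p * x = x * p := by
        have h4 : p * x * x ^ i = x * p * x ^ i := by
          calc p * x * x ^ i = p * (x * x ^ i) := mul_assoc _ _ _
            _ = p * (x ^ i * x) := by rw [← zpow_one_add, ← zpow_add_one, add_comm]
            _ = p * x ^ i * x := (mul_assoc _ _ _).symm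
            _ = x * (p * x ^ i) := h1
            _ = x * p * x ^ i := (mul_assoc _ _ _).symm
        exact mul_right_cancel h4
      have h5 := congrArg ι h2
      rw [map_mul, map_mul, hp, hx] at h5
      have h6 := (comm_pm h5.symm).1
      exfalso
      apply ha2
      have h7 : a = a⁻¹ := h6
      calc a * a = a⁻¹ * a := by rw [← h7]
        _ = 1 := inv_mul_cancel a
  · refine false_of_lift h hr hr2 (x := x) (y := y) (by rw [hxr]; exact one_mem _) hx1
      (by rw [hyr]; exact one_mem _) ?_ ?_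
    · have h1 : x * y = y * x := by
        apply hι
        rw [map_mul, map_mul, hx, hy, ← map_mul, ← map_mul, mul_comm]
      rw [h1, mul_inv_cancel]
      exact one_mem _
    · intro i hi
      have h1 : ι (y * x ^ i) = dg ((1, a) * (a, a⁻¹) ^ i) := by
        rw [map_mul, map_zpow, hx, hy, ← map_zpow, ← map_mul]
      obtain ⟨h2, h4⟩ := nc _ _ h1 hi
      have h5 : a ^ i = a * (a⁻¹) ^ i := by
        have h6 : (1 : Fˣ) * a ^ i = a * (a⁻¹) ^ i := h2
        rwa [one_mul] at h6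
      have h6 : a * (a⁻¹) ^ i = ((1 * a ^ i) * (a * (a⁻¹) ^ i))⁻¹ := h4
      rw [one_mul, ← h5] at h6
      -- `a^i = a^(1-i)`, `a^i = a^(-2i)`
      have h7 : a ^ (3 * i) = 1 := by
        have h8 : a ^ i * (a ^ i * a ^ i) = 1 := by
          nth_rewrite 1 [h6]
          exact inv_mul_cancel _
        rw [← zpow_add, ← zpow_add] at h8
        convert h8 using 2
        ring
      have h8 : a ^ (2 * i) = a := by
        have h9 : a ^ i * a ^ i = a := by
          nth_rewrite 1 [h5]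
          rw [inv_zpow, inv_mul_cancel_right]
        rw [← zpow_add] at h9
        convert h9 using 2
        ring
      have h9 : a ^ (3 : ℤ) = 1 := by
        have e1 : a ^ (6 * i) = 1 := by
          have : (6 * i : ℤ) = (3 * i) * 2 := by ring
          rw [this, zpow_mul, h7, one_zpow]
        have e2 : a ^ (6 * i) = a ^ (3 : ℤ) := by
          have : (6 * i : ℤ) = (2 * i) * 3 := by ring
          rw [this, zpow_mul, h8]
        rw [← e2, e1]
      have h10 : a ^ 3 = 1 := by exact_mod_cast h9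
      have h11 : orderOf a ∣ 3 := orderOf_dvd_of_pow_eq_one h10
      rw [ha, Nat.prime_dvd_prime_iff_eq hr Nat.prime_three] at h11
      exact h3 h11

end three

theorem exists_unit {F : Type*} [Field F] [Fintype F] {r : ℕ} (hr : r.Prime)
    (hd : r ∣ Fintype.card F - 1) : ∃ a : Fˣ, orderOf a = r := by
  classical
  have hrf : Fact r.Prime := ⟨hr⟩
  apply exists_prime_orderOf_dvd_card r
  rwa [Fintype.card_units]

theorem psl_three {F : Type*} [Field F] [Fintype F] (he : Even (Fintype.card F))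
    (h4 : 4 ≤ Fintype.card F) (h : OddCyc (Matrix.ProjectiveSpecialLinearGroup (Fin 3) F)) :
    False := by
  classical
  obtain ⟨r, hr, hd⟩ := Nat.exists_prime_and_dvd (n := Fintype.card F - 1) (by omega)
  have hr2 : r ≠ 2 := by
    rintro rfl
    rw [even_iff_two_dvd] at he
    omega
  obtain ⟨a, ha⟩ := exists_unit hr hd
  exact false_of_three (MonoidHom.id _) Function.injective_id h hr hr2 ha (p := pm)
    (x := dg (a, a⁻¹)) (y := dg (1, a)) rfl rfl rfl

/-! ### unitary groups -/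

theorem dg_mem_SU {F : Type*} [Field F] {q : ℕ} {u : Fˣ × Fˣ} (h1 : u.1 ^ (q + 1) = 1)
    (h2 : u.2 ^ (q + 1) = 1) : dg u ∈ Cfsg.SU 3 F q := by
  intro v w
  have e1 : (u.1 : F) * (u.1 : F) ^ q = 1 := by
    rw [← pow_succ', ← Units.val_pow_eq_pow_val, h1, Units.val_one]
  have e2 : (u.2 : F) * (u.2 : F) ^ q = 1 := by
    rw [← pow_succ', ← Units.val_pow_eq_pow_val, h2, Units.val_one]
  have e3 : (((u.1 * u.2)⁻¹ : Fˣ) : F) * (((u.1 * u.2)⁻¹ : Fˣ) : F) ^ q = 1 := by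
    rw [← pow_succ', ← Units.val_pow_eq_pow_val, inv_pow, mul_pow, h1, h2, one_mul, inv_one,
      Units.val_one]
  show Cfsg.hermForm 3 F q (Matrix.diagonal ![(u.1 : F), (u.2 : F), ((u.1 * u.2)⁻¹ : Fˣ)] *ᵥ v)
    (Matrix.diagonal ![(u.1 : F), (u.2 : F), ((u.1 * u.2)⁻¹ : Fˣ)] *ᵥ w) = Cfsg.hermForm 3 F q v w
  rw [Cfsg.hermForm, Cfsg.hermForm, Fin.sum_univ_three, Fin.sum_univ_three]
  simp only [Matrix.mulVec_diagonal]
  show (u.1 : F) * v 0 * ((u.1 : F) * w 0) ^ q + (u.2 : F) * v 1 * ((u.2 : F) * w 1) ^ q +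
    (((u.1 * u.2)⁻¹ : Fˣ) : F) * v 2 * ((((u.1 * u.2)⁻¹ : Fˣ) : F) * w 2) ^ q = _
  rw [mul_pow, mul_pow, mul_pow]
  linear_combination (v 0 * w 0 ^ q) * e1 + (v 1 * w 1 ^ q) * e2 + (v 2 * w 2 ^ q) * e3

theorem pm_mem_SU {F : Type*} [Field F] {q : ℕ} : (pm : SpecialLinearGroup (Fin 3) F) ∈ Cfsg.SU 3 F q := by
  intro v w
  show Cfsg.hermForm 3 F q ((!![0, 1, 0; 0, 0, 1; 1, 0, 0] : Matrix (Fin 3) (Fin 3) F) *ᵥ v)
    ((!![0, 1, 0; 0, 0, 1; 1, 0, 0] : Matrix (Fin 3) (Fin 3) F) *ᵥ w) = Cfsg.hermForm 3 F q v w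
  rw [Cfsg.hermForm, Cfsg.hermForm, Fin.sum_univ_three, Fin.sum_univ_three]
  simp [Matrix.mulVec, dotProduct, Fin.sum_univ_three]
  ring

theorem psu_three {F : Type*} [Field F] [Fintype F] {q : ℕ} (hF : Fintype.card F = q ^ 2)
    (he : Even q) (h4 : 4 ≤ q) (h : OddCyc (Cfsg.PSU 3 F q)) : False := by
  classical
  obtain ⟨r, hr, hd⟩ := Nat.exists_prime_and_dvd (n := q + 1) (by omega)
  have hr2 : r ≠ 2 := by
    rintro rfl
    rw [even_iff_two_dvd] at he
    omega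
  have hd2 : r ∣ Fintype.card F - 1 := by
    rw [hF]
    have : q ^ 2 - 1 = (q + 1) * (q - 1) := by
      obtain ⟨k, rfl⟩ : ∃ k, q = k + 1 := ⟨q - 1, by omega⟩
      rw [Nat.add_sub_cancel, Nat.sub_eq_iff_eq_add (Nat.one_le_pow _ _ (by omega))]
      ring
    rw [this]
    exact hd.mul_right _
  obtain ⟨a, ha⟩ := exists_unit hr hd2
  have hq : a ^ (q + 1) = 1 := by
    obtain ⟨k, hk⟩ := hd
    rw [hk, pow_mul, ← ha, pow_orderOf_eq_one, one_pow]
  exact false_of_three (S := Cfsg.SU 3 F q) (Cfsg.SU 3 F q).subtype (Subgroup.subtype_injective _)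
    h hr hr2 ha (p := ⟨pm, pm_mem_SU⟩)
    (x := ⟨dg (a, a⁻¹), dg_mem_SU hq (by rw [inv_pow, hq, inv_one])⟩)
    (y := ⟨dg (1, a), dg_mem_SU (one_pow _) hq⟩) rfl rfl rfl

/-! ### symplectic groups -/

section sympl

variable {F : Type*} [Field F]

/-- the matrix `diag(a, b, a⁻¹, b⁻¹)` -/
def spm (u : Fˣ × Fˣ) : Matrix (Fin 2 ⊕ Fin 2) (Fin 2 ⊕ Fin 2) F :=
  Matrix.fromBlocks (Matrix.diagonal ![(u.1 : F), (u.2 : F)]) 0 0
    (Matrix.diagonal ![((u.1⁻¹ : Fˣ) : F), ((u.2⁻¹ : Fˣ) : F)])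

theorem dd1 (u : Fˣ × Fˣ) : Matrix.diagonal ![(u.1 : F), (u.2 : F)] *
    Matrix.diagonal ![((u.1⁻¹ : Fˣ) : F), ((u.2⁻¹ : Fˣ) : F)] = 1 := by
  rw [Matrix.diagonal_mul_diagonal]
  ext i j
  fin_cases i <;> fin_cases j <;> simp [Matrix.diagonal]

theorem dd2 (u : Fˣ × Fˣ) : Matrix.diagonal ![((u.1⁻¹ : Fˣ) : F), ((u.2⁻¹ : Fˣ) : F)] *
    Matrix.diagonal ![(u.1 : F), (u.2 : F)] = 1 := by
  rw [Matrix.diagonal_mul_diagonal]
  ext i j
  fin_cases i <;> fin_cases j <;> simp [Matrix.diagonal]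

theorem spm_mem (u : Fˣ × Fˣ) : spm u ∈ Matrix.symplecticGroup (Fin 2) F := by
  rw [SymplecticGroup.mem_iff, spm, Matrix.J, Matrix.fromBlocks_transpose,
    Matrix.fromBlocks_multiply, Matrix.fromBlocks_multiply]
  simp only [Matrix.transpose_zero, Matrix.diagonal_transpose, Matrix.mul_zero, Matrix.zero_mul,
    add_zero, zero_add, mul_neg, Matrix.mul_one, dd1, dd2, neg_mul, neg_zero]

/-- the torus -/
def sp : Fˣ × Fˣ →* Matrix.symplecticGroup (Fin 2) F where
  toFun u := ⟨spm u, spm_mem u⟩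
  map_one' := by
    apply Subtype.ext
    show spm 1 = 1
    rw [spm, ← Matrix.fromBlocks_one]
    congr 1
    · ext i j
      fin_cases i <;> fin_cases j <;> simp [Matrix.diagonal]
    · ext i j
      fin_cases i <;> fin_cases j <;> simp [Matrix.diagonal]
  map_mul' u v := by
    apply Subtype.ext
    show spm (u * v) = spm u * spm v
    rw [spm, spm, spm, Matrix.fromBlocks_multiply]
    simp only [Matrix.mul_zero, Matrix.zero_mul, add_zero, zero_add,
      Matrix.diagonal_mul_diagonal]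
    congr 1
    · ext i j
      fin_cases i <;> fin_cases j <;> simp [Matrix.diagonal]
    · ext i j
      fin_cases i <;> fin_cases j <;> simp [Matrix.diagonal, mul_comm]

theorem sp_comm {u : Fˣ × Fˣ}
    (h : sp u * ⟨Matrix.J (Fin 2) F, SymplecticGroup.J_mem _ _⟩ =
      ⟨Matrix.J (Fin 2) F, SymplecticGroup.J_mem _ _⟩ * sp u) :
    (u.1 : F) = ((u.1⁻¹ : Fˣ) : F) ∧ (u.2 : F) = ((u.2⁻¹ : Fˣ) : F) := by
  have h1 : spm u * Matrix.J (Fin 2) F = Matrix.J (Fin 2) F * spm u := congrArg Subtype.val h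
  rw [spm, Matrix.J, Matrix.fromBlocks_multiply, Matrix.fromBlocks_multiply] at h1
  simp only [Matrix.mul_zero, Matrix.zero_mul, add_zero, zero_add, Matrix.mul_one,
    Matrix.one_mul, Matrix.mul_neg, Matrix.neg_mul] at h1
  have h2 := (Matrix.fromBlocks_inj.mp h1).2.2.1
  have h3 := congrFun (congrFun h2 0) 0
  have h4 := congrFun (congrFun h2 1) 1
  simp [Matrix.diagonal] at h3 h4
  constructor
  · rw [← h3]; simp
  · rw [← h4]; simp

theorem psp_four [Fintype F] (he : Even (Fintype.card F)) (h4 : 4 ≤ Fintype.card F)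
    (h : OddCyc (Cfsg.PSp 2 F)) : False := by
  classical
  obtain ⟨r, hr, hd⟩ := Nat.exists_prime_and_dvd (n := Fintype.card F - 1) (by omega)
  have hr2 : r ≠ 2 := by
    rintro rfl
    rw [even_iff_two_dvd] at he
    omega
  obtain ⟨a, ha⟩ := exists_unit hr hd
  have ha2 : (a : F) ≠ ((a⁻¹ : Fˣ) : F) := by
    intro h1
    have h2 : a = a⁻¹ := Units.ext h1
    have h3 : a ^ 2 = 1 := by
      rw [pow_two]
      nth_rewrite 1 [h2]
      exact inv_mul_cancel a
    have h4 : orderOf a ∣ 2 := orderOf_dvd_of_pow_eq_one h3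
    rw [ha, Nat.prime_dvd_prime_iff_eq hr Nat.prime_two] at h4
    exact hr2 h4
  have har : a ^ r = 1 := by rw [← ha, pow_orderOf_eq_one]
  have nc : ∀ u : Fˣ × Fˣ, sp u ∈ center (Matrix.symplecticGroup (Fin 2) F) →
      (u.1 : F) = ((u.1⁻¹ : Fˣ) : F) ∧ (u.2 : F) = ((u.2⁻¹ : Fˣ) : F) := by
    intro u hu
    exact sp_comm (mem_center_iff.mp hu _).symm
  refine false_of_lift (S := Matrix.symplecticGroup (Fin 2) F) h hr hr2 (x := sp (a, 1))
    (y := sp (1, a)) ?_ ?_ ?_ ?_ ?_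
  · rw [← map_pow]
    have : ((a, 1) : Fˣ × Fˣ) ^ r = 1 := by
      rw [Prod.pow_mk, har, one_pow]
      rfl
    rw [this, map_one]
    exact one_mem _
  · intro h1
    exact ha2 (nc _ h1).1
  · rw [← map_pow]
    have : ((1, a) : Fˣ × Fˣ) ^ r = 1 := by
      rw [Prod.pow_mk, har, one_pow]
      rfl
    rw [this, map_one]
    exact one_mem _
  · rw [← map_mul, ← map_mul, mul_comm, mul_inv_cancel]
    exact one_mem _
  · intro i hi
    rw [← map_zpow, ← map_mul] at hi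
    apply ha2
    have h1 := (nc _ hi).2
    have h2 : (((1, a) * (a, 1) ^ i : Fˣ × Fˣ)).2 = a := by
      show a * (1 : Fˣ) ^ i = a
      rw [one_zpow, mul_one]
    rw [h2] at h1
    exact h1

end sympl

/-! ### the list -/

theorem even_card {F : Type*} [Field F] [Fintype F] [CharP F 2] : Even (Fintype.card F) := by
  obtain ⟨n, hn, hc⟩ := FiniteField.card F 2
  rw [hc]
  exact (Nat.even_pow.mpr ⟨even_two, n.ne_zero⟩)

theorem card_ne_three {F : Type*} [Field F] [Fintype F] [CharP F 2] (h : Fintype.card F < 4) :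
    Fintype.card F = 2 := by
  have h1 := even_card (F := F)
  have h2 := Fintype.one_lt_card (α := F)
  rw [even_iff_two_dvd] at h1
  omega

theorem psl_three_two {F : Type*} [Field F] [Fintype F] (h2 : Fintype.card F = 2) :
    Nat.card (Matrix.ProjectiveSpecialLinearGroup (Fin 3) F) = 168 := by
  have h1 := Cfsg.Agent.S0243.result h2 3 (by norm_num)
  rw [Fin.prod_univ_three] at h1
  simp at h1
  omega

theorem psl_two {F : Type*} [Field F] [Fintype F]
    (h : Fintype.card F % 16 = 7 ∨ Fintype.card F % 16 = 9) :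
    ¬ 16 ∣ Nat.card (Matrix.ProjectiveSpecialLinearGroup (Fin 2) F) := by
  intro h16
  have hodd : Odd (Fintype.card F) := by
    rw [Nat.odd_iff]
    omega
  have h1 := Cfsg.Agent.SmallSimple.PSLTwoPart.card_psl_two_odd hodd
  obtain ⟨m, hm⟩ := h16
  rw [hm] at h1
  set q := Fintype.card F with hq
  have hq1 : 1 ≤ q ^ 2 := Nat.one_le_pow _ _ (by omega)
  have h2 : q * (q ^ 2 - 1) + q = q ^ 3 := by
    rw [Nat.mul_sub, mul_one]
    have : q ≤ q * q ^ 2 := Nat.le_mul_of_pos_right _ (by positivity)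
    rw [Nat.sub_add_cancel this]
    ring
  rw [← h1] at h2
  have h3 : q % 32 = 7 ∨ q % 32 = 9 ∨ q % 32 = 23 ∨ q % 32 = 25 := by omega
  have h4 : q ^ 3 % 32 = q % 32 := by
    rw [← h2]
    omega
  rw [Nat.pow_mod] at h4
  rcases h3 with h3 | h3 | h3 | h3 <;> rw [h3] at h4 <;> norm_num at h4

theorem alt_seven : ¬ 16 ∣ Nat.card (alternatingGroup (Fin 7)) := by
  have h1 : 2 * Fintype.card (alternatingGroup (Fin 7)) = Fintype.card (Equiv.Perm (Fin 7)) :=
    two_mul_card_alternatingGroup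
  rw [Fintype.card_perm, Fintype.card_fin] at h1
  rw [Nat.card_eq_fintype_card]
  have h2 : Nat.factorial 7 = 5040 := by decide
  omega

theorem oddCyc_congr {X Y : Type*} [Group X] [Finite X] [Group Y] [Finite Y] (e : X ≃* Y)
    (h : OddCyc X) : OddCyc Y :=
  oddCyc_of_injective h e.symm.toMonoidHom e.symm.injective

/-- In a Suzuki group the centralizers of involutions are 2-groups. -/
theorem suzuki {G : Type*} [Group G] [Finite G] (h : Cfsg.Lie.IsoSuzuki G) {t x : G}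
    (ht : orderOf t = 2) {r : ℕ} (hr : r.Prime) (hr2 : r ≠ 2) (hx : orderOf x = r)
    (hc : t * x = x * t) : False := by
  have hpf : Fact (Nat.Prime 2) := ⟨Nat.prime_two⟩
  have h1 : Cfsg.Lie.IsoSuzuki (⊤ : Subgroup G) := by
    obtain ⟨F, i1, i2, m, hm, hF, ⟨e⟩⟩ := h
    exact ⟨F, i1, i2, m, hm, hF, ⟨Subgroup.topEquiv.trans e⟩⟩
  obtain ⟨q, hq⟩ := CaseESz.szK h1
  obtain ⟨Q, hQ, htQ⟩ := Cfsg.Agent.LieExceptional.CITBasic.exists_isSyl2 (⊤ : Subgroup G)
    (zpowers t) le_top (CompStandard.isPGroup_zpowers ht)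
  obtain ⟨Z, H, b⟩ := hq.borel Q hQ
  have ht1 : t ≠ 1 := by
    rintro rfl
    rw [orderOf_one] at ht
    omega
  have h2 : x ∈ Q := b.cent t (htQ (mem_zpowers t)) ht1 x (mem_top x) hc.symm
  obtain ⟨n, hn⟩ := hQ.two ⟨x, h2⟩
  have h3 : x ^ 2 ^ n = 1 := congrArg Subtype.val hn
  have h4 := orderOf_dvd_of_pow_eq_one h3
  rw [hx] at h4
  have h5 := hr.dvd_of_dvd_pow h4
  rw [Nat.prime_dvd_prime_iff_eq hr Nat.prime_two] at h5
  exact hr2 h5

/-- **The groups in the conclusion of S1170 are excluded.** -/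
theorem false_of_list {G : Type*} [Group G] [Finite G] [IsSimpleGroup G] (hG : OddCyc G)
    (h16 : 16 ∣ Nat.card G) {t x : G} (ht : orderOf t = 2) {r : ℕ} (hr : r.Prime) (hr2 : r ≠ 2)
    (hx : orderOf x = r) (hc : t * x = x * t) (hz : Cfsg.IsSuzuki G → Cfsg.Lie.IsoSuzuki G)
    (hl : (∃ (F : Type) (_ : Field F) (_ : Fintype F),
      (Fintype.card F % 16 = 7 ∨ Fintype.card F % 16 = 9) ∧
        Nonempty (G ≃* Matrix.ProjectiveSpecialLinearGroup (Fin 2) F)) ∨
    (∃ (F : Type) (_ : Field F) (_ : Fintype F) (q : ℕ), Fintype.card F = q ^ 2 ∧ Even q ∧ 4 ≤ q ∧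
      Nonempty (G ≃* Cfsg.PSU 3 F q)) ∨ Cfsg.IsSuzuki G ∨
    (∃ (F : Type) (_ : Field F) (_ : Fintype F), CharP F 2 ∧
      Nonempty (G ≃* Matrix.ProjectiveSpecialLinearGroup (Fin 3) F)) ∨
    (∃ (F : Type) (_ : Field F) (_ : Fintype F), CharP F 2 ∧ 4 ≤ Fintype.card F ∧
      Nonempty (G ≃* Cfsg.PSp 2 F)) ∨ Nonempty (G ≃* alternatingGroup (Fin 7))) : False := by
  rcases hl with ⟨F, i1, i2, hF, ⟨e⟩⟩ | ⟨F, i1, i2, q, hF, he, h4, ⟨e⟩⟩ | h |
    ⟨F, i1, i2, hF, ⟨e⟩⟩ | ⟨F, i1, i2, hF, h4, ⟨e⟩⟩ | ⟨⟨e⟩⟩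
  · rw [Nat.card_congr e.toEquiv] at h16
    exact psl_two hF h16
  · have := Finite.of_equiv G e.toEquiv
    exact psu_three hF he h4 (oddCyc_congr e hG)
  · exact suzuki (hz h) ht hr hr2 hx hc
  · have := Finite.of_equiv G e.toEquiv
    by_cases h4 : 4 ≤ Fintype.card F
    · exact psl_three even_card h4 (oddCyc_congr e hG)
    · rw [Nat.card_congr e.toEquiv, psl_three_two (card_ne_three (by omega))] at h16
      omega
  · have := Finite.of_equiv G e.toEquiv
    exact psp_four even_card h4 (oddCyc_congr e hG)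
  · rw [Nat.card_congr e.toEquiv] at h16
    exact alt_seven h16

end Cfsg.Agent.OddCyclic.CompSzList
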