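import Cfsg.Agent.OddCyclic.CompSzEnd
import Cfsg.Agent.OddCyclic.CompSzList

/-!
# S0342, component type, case E: `K ≅ Sz(q)`, `q ≥ 32`, `|R| ≥ 4` is impossible
-/

set_option autoImplicit false

namespace Cfsg.Agent.OddCyclic.CompSzEnd

open Subgroup
open Cfsg.Agent.OddCyclic.CompStandard

universe u

theorem false_of_sit {G : Type u} [Group G] [Finite G] [IsSimpleGroup G] {p : ℕ} {K R Q E H S : Subgroup G} {q : ℕ}
    (s : CompSzDefs.Sit p K R Q E H S q) (h32 : 32 ≤ q) (hsec : CaseASix.SecKZ G)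
    (h1170 : StdSz.Out.S1170Stmt.{u}) (hz : Cfsg.IsSuzuki G → Cfsg.Lie.IsoSuzuki G) : False := by
  obtain ⟨t, x, ht, hx, hc⟩ := exists_five s
  exact CompSzList.false_of_list s.std.cyc (sixteen_dvd s) ht (by norm_num : Nat.Prime 5) (by norm_num) hx hc hz
    (list s hsec h32 h1170)

end Cfsg.Agent.OddCyclic.CompSzEnd
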