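import Mathlib

/-!
# S0342, component type, case E (`K ≅ Sz(q)`): isometries

`F` a finite field of characteristic 2 with `θ² = 2`, `D` a subgroup of `F` with `|D| ≥ 4`,
`W = D × F × F`, `T l (r, y, u) = (r, l y, l θ(l) u)`,

`sq (r, y, u) = y θ(y) + d u + r u + b(y, u)`.

A 2-group `X` of isometries of `(W, sq)`, normalized by the `T l`, such that the last coordinate of `x (t, 0, 0)`
is nonzero for `x` outside `N`, `0 ≠ t ∈ D`, is contained in `N`.
-/

set_option autoImplicit false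

namespace Cfsg.Agent.OddCyclic.CompSzIso

variable {F : Type*} [Field F]

/-- the action of the torus -/
def T (θ : F →+* F) (l : F) (v : F × F × F) : F × F × F := (v.1, l * v.2.1, l * θ l * v.2.2)

/-- the data of the form -/
structure Form (θ : F →+* F) (D : AddSubgroup F) (d : F) (b : F → F → F) : Prop where
  two : ∀ x : F, x + x = 0
  theta : ∀ x, θ (θ x) = x * x
  ne : ∃ l : F, θ l ≠ l
  surj : ∀ a : F, ∃ l, l * θ l = a
  add_left : ∀ x y z, b (x + y) z = b x z + b y z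
  add_right : ∀ x y z, b x (y + z) = b x y + b x z
  equiv : ∀ l x y, b (l * x) (l * θ l * y) = l * θ l * b x y

/-- the quadratic form -/
def sq (θ : F →+* F) (d : F) (b : F → F → F) (v : F × F × F) : F :=
  v.2.1 * θ v.2.1 + d * v.2.2 + v.1 * v.2.2 + b v.2.1 v.2.2

/-- the polar form -/
def bf (θ : F →+* F) (b : F → F → F) (v w : F × F × F) : F :=
  (v.2.1 * θ w.2.1 + w.2.1 * θ v.2.1) + (v.1 * w.2.2 + w.1 * v.2.2) +
    (b v.2.1 w.2.2 + b w.2.1 v.2.2)

variable {θ : F →+* F} {D : AddSubgroup F} {d : F} {b : F → F → F}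

theorem Form.zero_left (h : Form θ D d b) (z : F) : b 0 z = 0 := by
  have := h.add_left 0 0 z
  rw [add_zero] at this
  exact left_eq_add.mp this

theorem Form.zero_right (h : Form θ D d b) (z : F) : b z 0 = 0 := by
  have := h.add_right z 0 0
  rw [add_zero] at this
  exact left_eq_add.mp this

theorem Form.sq_add (h : Form θ D d b) (v w : F × F × F) :
    sq θ d b (v + w) = sq θ d b v + sq θ d b w + bf θ b v w := by
  simp only [sq, bf, Prod.fst_add, Prod.snd_add, map_add, h.add_left, h.add_right]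
  ring

theorem Form.bf_add_left (h : Form θ D d b) (v v' w : F × F × F) :
    bf θ b (v + v') w = bf θ b v w + bf θ b v' w := by
  simp only [bf, Prod.fst_add, Prod.snd_add, map_add, h.add_left, h.add_right]
  ring

theorem bf_comm (v w : F × F × F) : bf θ b v w = bf θ b w v := by
  simp only [bf]
  ring

theorem Form.bf_add_right (h : Form θ D d b) (v w w' : F × F × F) :
    bf θ b v (w + w') = bf θ b v w + bf θ b v w' := by
  rw [bf_comm, h.bf_add_left, bf_comm w, bf_comm w']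

theorem Form.bf_T (h : Form θ D d b) (l : F) (v w : F × F × F) :
    bf θ b (T θ l v) (T θ l w) = l * θ l * bf θ b v w := by
  simp only [bf, T, h.equiv, map_mul]
  ring

theorem T_add (l : F) (v w : F × F × F) : T θ l (v + w) = T θ l v + T θ l w := by
  simp only [T, Prod.fst_add, Prod.snd_add, Prod.mk_add_mk, mul_add]

theorem T_T (l k : F) (v : F × F × F) : T θ l (T θ k v) = T θ (l * k) v := by
  simp only [T, map_mul, Prod.mk.injEq, true_and]
  constructor <;> ring

theorem T_one (v : F × F × F) : T θ 1 v = v := by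
  simp [T]

/-- the symmetric form `yθ(y') + y'θ(y)` is nondegenerate -/
theorem Form.nondeg (h : Form θ D d b) {y : F} (hy : ∀ y', y * θ y' + y' * θ y = 0) : y = 0 := by
  obtain ⟨z, hz⟩ := h.ne
  have h1 := hy (z * y)
  rw [map_mul] at h1
  have h2 : y * θ y * (θ z + z) = 0 := by
    calc y * θ y * (θ z + z) = y * (θ z * θ y) + z * y * θ y := by ring
      _ = 0 := h1
  rcases mul_eq_zero.mp h2 with h3 | h3
  · rcases mul_eq_zero.mp h3 with h4 | h4
    · exact h4
    · exact (map_eq_zero θ).mp h4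
  · exfalso
    apply hz
    have h4 := h.two z
    have h5 : θ z + z = z + z := by rw [h3, h4]
    exact add_right_cancel h5

/-! ### invariant subgroups -/

theorem Form.exists_third (h : Form θ D d b) : ∃ a : F, a ≠ 0 ∧ a + 1 ≠ 0 := by
  obtain ⟨z, hz⟩ := h.ne
  refine ⟨z, ?_, ?_⟩
  · rintro rfl
    exact hz (map_zero θ)
  · intro h1
    apply hz
    have h2 : z = 1 := by
      have h3 := h.two (1 : F)
      have h4 : z + 1 = 1 + 1 := by rw [h1, h3]
      exact add_right_cancel h4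
    rw [h2, map_one]

/-- `(r, y, u) ∈ U` implies `(r, 0, (l + θ l) u) ∈ U` -/
theorem Form.mem_one (h : Form θ D d b) {U : AddSubgroup (F × F × F)}
    (hU : ∀ l, l ≠ 0 → ∀ v ∈ U, T θ l v ∈ U) {v : F × F × F} (hv : v ∈ U) {l : F} (hl : θ l ≠ l) :
    ((v.1, 0, (l + θ l) * v.2.2) : F × F × F) ∈ U := by
  have hl0 : l ≠ 0 := by
    rintro rfl
    exact hl (map_zero θ)
  have hl1 : l + 1 ≠ 0 := by
    intro h1
    apply hl
    have h2 : l = 1 := by
      have h3 := h.two (1 : F)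
      have h4 : l + 1 = 1 + 1 := by rw [h1, h3]
      exact add_right_cancel h4
    rw [h2, map_one]
  have h1 := U.add_mem (U.add_mem (hU (l + 1) hl1 v hv) (hU l hl0 v hv)) hv
  have h2 : T θ (l + 1) v + T θ l v + v = (v.1, 0, (l + θ l) * v.2.2) := by
    have e1 := h.two v.1
    have e2 := h.two v.2.1
    have e3 := h.two (l * v.2.1)
    have e4 := h.two (l * θ l * v.2.2)
    have e5 := h.two v.2.2
    refine Prod.ext ?_ (Prod.ext ?_ ?_)
    · show v.1 + v.1 + v.1 = v.1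
      rw [e1, zero_add]
    · show (l + 1) * v.2.1 + l * v.2.1 + v.2.1 = 0
      calc (l + 1) * v.2.1 + l * v.2.1 + v.2.1 = (l * v.2.1 + l * v.2.1) + (v.2.1 + v.2.1) := by ring
        _ = 0 := by rw [e2, e3, add_zero]
    · show (l + 1) * θ (l + 1) * v.2.2 + l * θ l * v.2.2 + v.2.2 = (l + θ l) * v.2.2
      rw [map_add, map_one]
      calc (l + 1) * (θ l + 1) * v.2.2 + l * θ l * v.2.2 + v.2.2 =
          (l + θ l) * v.2.2 + (l * θ l * v.2.2 + l * θ l * v.2.2) + (v.2.2 + v.2.2) := by ring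
        _ = (l + θ l) * v.2.2 := by rw [e4, e5, add_zero, add_zero]
  rwa [h2] at h1

/-- `(r, y, u) ∈ U` implies `(r, 0, 0) ∈ U` -/
theorem Form.mem_first (h : Form θ D d b) {U : AddSubgroup (F × F × F)}
    (hU : ∀ l, l ≠ 0 → ∀ v ∈ U, T θ l v ∈ U) {v : F × F × F} (hv : v ∈ U) :
    ((v.1, 0, 0) : F × F × F) ∈ U := by
  obtain ⟨l, hl⟩ := h.ne
  have h1 := h.mem_one hU hv hl
  set w : F × F × F := (v.1, 0, (l + θ l) * v.2.2) with hw
  obtain ⟨a, ha0, ha1⟩ := h.exists_third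
  obtain ⟨k, hk⟩ := h.surj a
  obtain ⟨k', hk'⟩ := h.surj (a + 1)
  have hk0 : k ≠ 0 := by
    rintro rfl
    rw [zero_mul] at hk
    exact ha0 hk.symm
  have hk0' : k' ≠ 0 := by
    rintro rfl
    rw [zero_mul] at hk'
    exact ha1 hk'.symm
  have h2 := U.add_mem (U.add_mem (hU k' hk0' w h1) (hU k hk0 w h1)) h1
  have h3 : T θ k' w + T θ k w + w = (v.1, 0, 0) := by
    have e1 := h.two v.1
    have e2 := h.two (a * w.2.2)
    have e3 := h.two w.2.2
    refine Prod.ext ?_ (Prod.ext ?_ ?_)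
    · show v.1 + v.1 + v.1 = v.1
      rw [e1, zero_add]
    · show k' * 0 + k * 0 + 0 = (0 : F)
      ring
    · show k' * θ k' * w.2.2 + k * θ k * w.2.2 + w.2.2 = 0
      rw [hk, hk']
      calc (a + 1) * w.2.2 + a * w.2.2 + w.2.2 = (a * w.2.2 + a * w.2.2) + (w.2.2 + w.2.2) := by ring
        _ = 0 := by rw [e2, e3, add_zero]
  rwa [h3] at h2

theorem Form.mem_rest (h : Form θ D d b) {U : AddSubgroup (F × F × F)}
    (hU : ∀ l, l ≠ 0 → ∀ v ∈ U, T θ l v ∈ U) {v : F × F × F} (hv : v ∈ U) :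
    ((0, v.2.1, v.2.2) : F × F × F) ∈ U := by
  have h1 := U.sub_mem hv (h.mem_first hU hv)
  have h2 : v - (v.1, 0, 0) = (0, v.2.1, v.2.2) := by
    refine Prod.ext ?_ (Prod.ext ?_ ?_)
    · show v.1 - v.1 = 0
      ring
    · show v.2.1 - 0 = v.2.1
      ring
    · show v.2.2 - 0 = v.2.2
      ring
  rwa [h2] at h1

/-- `(r, y, u) ∈ U`, `u ≠ 0` implies `(0, 0, u') ∈ U` for all `u'` -/
theorem Form.mem_last (h : Form θ D d b) {U : AddSubgroup (F × F × F)}
    (hU : ∀ l, l ≠ 0 → ∀ v ∈ U, T θ l v ∈ U) {v : F × F × F} (hv : v ∈ U) (hv2 : v.2.2 ≠ 0)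
    (u : F) : ((0, 0, u) : F × F × F) ∈ U := by
  obtain ⟨l, hl⟩ := h.ne
  have h1 := h.mem_one hU (h.mem_rest hU hv) hl
  have h0 : (l + θ l) * v.2.2 ≠ 0 := by
    refine mul_ne_zero ?_ hv2
    intro h3
    apply hl
    have h4 := h.two l
    have h5 : l + θ l = l + l := by rw [h3, h4]
    exact add_left_cancel h5
  by_cases hu : u = 0
  · rw [hu]; exact U.zero_mem
  · obtain ⟨k, hk⟩ := h.surj (u / ((l + θ l) * v.2.2))
    have hk0 : k ≠ 0 := by
      rintro rfl
      rw [zero_mul] at hk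
      exact (div_ne_zero hu h0) hk.symm
    have h2 := hU k hk0 _ h1
    have h3 : T θ k ((0, v.2.1, v.2.2).1, 0, (l + θ l) * (0, v.2.1, v.2.2).2.2) = (0, 0, u) := by
      refine Prod.ext rfl (Prod.ext ?_ ?_)
      · show k * 0 = (0 : F)
        ring
      · show k * θ k * ((l + θ l) * v.2.2) = u
        rw [hk, div_mul_cancel₀ _ h0]
    rwa [h3] at h2

/-- `(r, y, u) ∈ U`, `(0, 0, u') ∈ U` for all `u'`, `y ≠ 0` implies `(0, y', 0) ∈ U` for all `y'` -/
theorem Form.mem_mid (h : Form θ D d b) {U : AddSubgroup (F × F × F)}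
    (hU : ∀ l, l ≠ 0 → ∀ v ∈ U, T θ l v ∈ U) {v : F × F × F} (hv : v ∈ U) (hv1 : v.2.1 ≠ 0)
    (h0 : ∀ u, ((0, 0, u) : F × F × F) ∈ U) (y : F) : ((0, y, 0) : F × F × F) ∈ U := by
  have h1 := U.sub_mem (h.mem_rest hU hv) (h0 v.2.2)
  have h2 : ((0, v.2.1, v.2.2) : F × F × F) - (0, 0, v.2.2) = (0, v.2.1, 0) := by
    refine Prod.ext ?_ (Prod.ext ?_ ?_)
    · show (0 : F) - 0 = 0
      ring
    · show v.2.1 - 0 = v.2.1
      ring
    · show v.2.2 - v.2.2 = 0
      ring
  rw [h2] at h1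
  by_cases hy : y = 0
  · rw [hy]; exact U.zero_mem
  · have h3 := hU (y / v.2.1) (div_ne_zero hy hv1) _ h1
    have h4 : T θ (y / v.2.1) (0, v.2.1, 0) = (0, y, 0) := by
      refine Prod.ext rfl (Prod.ext ?_ ?_)
      · show y / v.2.1 * v.2.1 = y
        rw [div_mul_cancel₀ _ hv1]
      · show y / v.2.1 * θ (y / v.2.1) * 0 = (0 : F)
        ring
    rwa [h4] at h3

/-! ### the group of isometries -/

/-- A group `X` of isometries of `W = D × F × F`. -/
structure Isom (θ : F →+* F) (D : AddSubgroup F) (d : F) (b : F → F → F) (X : Type*) [Group X]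
    (L : X → F × F × F → F × F × F) (c : F → X → X) (N : X → Prop) : Prop where
  form : Form θ D d b
  mem : ∀ x v, v.1 ∈ D → (L x v).1 ∈ D
  add : ∀ x v w, v.1 ∈ D → w.1 ∈ D → L x (v + w) = L x v + L x w
  one : ∀ v, v.1 ∈ D → L 1 v = v
  mul : ∀ x x' v, v.1 ∈ D → L (x * x') v = L x (L x' v)
  two : ∀ x v, v.1 ∈ D → L x (L x v) = v
  two' : ∀ x x' v, v.1 ∈ D → L (x * x') (L (x * x') v) = v
  iso : ∀ x v, v.1 ∈ D → sq θ d b (L x v) = sq θ d b v
  equiv : ∀ l, l ≠ 0 → ∀ x v, v.1 ∈ D → L (c l x) (T θ l v) = T θ l (L x v)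
  c_inv : ∀ l, l ≠ 0 → ∀ x, c l (c l⁻¹ x) = x
  fpf : ∀ l, l ≠ 0 → l ≠ 1 → ∀ x, ¬ N x → ¬ N (x * c l x)
  ne : ∀ x, ¬ N x → ∀ t ∈ D, t ≠ 0 → (L x (t, 0, 0)).2.2 ≠ 0

variable {X : Type*} [Group X] {L : X → F × F × F → F × F × F} {c : F → X → X} {N : X → Prop}

theorem Isom.bf_iso (h : Isom θ D d b X L c N) (x : X) {v w : F × F × F} (hv : v.1 ∈ D)
    (hw : w.1 ∈ D) : bf θ b (L x v) (L x w) = bf θ b v w := by
  have h1 := h.iso x (v + w) (D.add_mem hv hw)
  rw [h.add x v w hv hw, h.form.sq_add, h.form.sq_add, h.iso x v hv, h.iso x w hw] at h1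
  exact add_left_cancel h1

theorem Isom.bf_symm (h : Isom θ D d b X L c N) (x : X) {v w : F × F × F} (hv : v.1 ∈ D)
    (hw : w.1 ∈ D) : bf θ b (L x v) w = bf θ b v (L x w) := by
  rw [← h.bf_iso x (h.mem x v hv) hw, h.two x v hv]

/-- the fixed vectors -/
def Isom.fix (h : Isom θ D d b X L c N) : AddSubgroup (F × F × F) where
  carrier := {v | v.1 ∈ D ∧ ∀ x, L x v = v}
  zero_mem' := by
    refine ⟨D.zero_mem, fun x => ?_⟩
    have h1 := h.add x 0 0 D.zero_mem D.zero_mem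
    rw [add_zero] at h1
    exact left_eq_add.mp h1
  add_mem' := by
    rintro v w ⟨hv, hv'⟩ ⟨hw, hw'⟩
    exact ⟨D.add_mem hv hw, fun x => by rw [h.add x v w hv hw, hv' x, hw' x]⟩
  neg_mem' := by
    rintro v ⟨hv, hv'⟩
    have h2 : -v = v := by
      have e : v + v = 0 := Prod.ext (h.form.two _) (Prod.ext (h.form.two _) (h.form.two _))
      exact neg_eq_of_add_eq_zero_left e
    rw [h2]
    exact ⟨hv, hv'⟩

theorem Isom.mem_fix (h : Isom θ D d b X L c N) {v : F × F × F} :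
    v ∈ h.fix ↔ v.1 ∈ D ∧ ∀ x, L x v = v := Iff.rfl

theorem Isom.fix_T (h : Isom θ D d b X L c N) (l : F) (hl : l ≠ 0) :
    ∀ v ∈ h.fix, T θ l v ∈ h.fix := by
  rintro v ⟨hv, hv'⟩
  refine ⟨hv, fun x => ?_⟩
  have h1 := h.equiv l hl (c l⁻¹ x) v hv
  rw [h.c_inv l hl x, hv' (c l⁻¹ x)] at h1
  exact h1

/-- the subgroup orthogonal to the fixed vectors -/
def Isom.perp (h : Isom θ D d b X L c N) : AddSubgroup (F × F × F) where
  carrier := {v | ∀ w ∈ h.fix, bf θ b v w = 0}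
  zero_mem' := by
    intro w _
    have h1 := h.form.bf_add_left 0 0 w
    rw [add_zero] at h1
    exact left_eq_add.mp h1
  add_mem' := by
    intro v v' hv hv' w hw
    rw [h.form.bf_add_left, hv w hw, hv' w hw, add_zero]
  neg_mem' := by
    intro v hv
    have h2 : -v = v := by
      have e : v + v = 0 := Prod.ext (h.form.two _) (Prod.ext (h.form.two _) (h.form.two _))
      exact neg_eq_of_add_eq_zero_left e
    rw [h2]
    exact hv

theorem Isom.mem_perp (h : Isom θ D d b X L c N) {v : F × F × F} :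
    v ∈ h.perp ↔ ∀ w ∈ h.fix, bf θ b v w = 0 := Iff.rfl

theorem Isom.perp_T (h : Isom θ D d b X L c N) (l : F) (hl : l ≠ 0) :
    ∀ v ∈ h.perp, T θ l v ∈ h.perp := by
  intro v hv w hw
  have h1 := h.fix_T l⁻¹ (inv_ne_zero hl) w hw
  have h2 : w = T θ l (T θ l⁻¹ w) := by
    rw [T_T, mul_inv_cancel₀ hl, T_one]
  rw [h2, h.form.bf_T, hv _ h1, mul_zero]

/-- `x v + v` is orthogonal to the fixed vectors -/
theorem Isom.comm_mem_perp (h : Isom θ D d b X L c N) (x : X) {v : F × F × F} (hv : v.1 ∈ D) :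
    L x v + v ∈ h.perp := by
  rintro w ⟨hw, hw'⟩
  rw [h.form.bf_add_left, h.bf_symm x hv hw, hw' x]
  exact h.form.two _

theorem Form.bf_three (h : Form θ D d b) (r y u u' : F) :
    bf θ b (r, y, u) (0, 0, u') = r * u' + b y u' := by
  simp only [bf, map_zero, h.zero_left]
  ring

theorem Form.bf_two (h : Form θ D d b) (r y u y' : F) :
    bf θ b (r, y, u) (0, y', 0) = y * θ y' + y' * θ y + b y' u := by
  simp only [bf, h.zero_right]
  ring

theorem Form.bf_one (h : Form θ D d b) (r y u r' : F) :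
    bf θ b (r, y, u) (r', 0, 0) = r' * u := by
  simp only [bf, map_zero, h.zero_left, h.zero_right]
  ring

/-- **Case (α)**: `X` centralizes `Q`. -/
theorem Isom.false_alpha (h : Isom θ D d b X L c N) {x : X} (hx : ¬ N x) {t s : F} (ht : t ∈ D)
    (hs : s ∈ D) (ht0 : t ≠ 0) (hs0 : s ≠ 0) (hts : t ≠ s)
    (hC : ∀ y, ((0, y, 0) : F × F × F) ∈ h.fix) : False := by
  have hz : ∀ y, y = 0 ∨ y ≠ 0 := fun y => em _
  -- `b = 0`
  have hU : ∀ u, ((0, 0, u) : F × F × F) ∈ h.perp := by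
    have h1 := h.comm_mem_perp x (v := (t, 0, 0)) ht
    refine h.form.mem_last h.perp_T h1 ?_
    show (L x (t, 0, 0)).2.2 + 0 ≠ 0
    rw [add_zero]
    exact h.ne x hx t ht ht0
  have hb : ∀ y u, b y u = 0 := by
    intro y u
    have h1 := hU u _ (hC y)
    rw [h.form.bf_two, zero_mul, map_zero, mul_zero, zero_add, zero_add] at h1
    exact h1
  -- `x (r, 0, 0) = (d, 0, *)`
  have hy : ∀ r ∈ D, (L x (r, 0, 0)).2.1 = 0 := by
    intro r hr
    have h1 := h.comm_mem_perp x (v := (r, 0, 0)) hr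
    apply h.form.nondeg
    intro y'
    have h2 := h1 _ (hC y')
    have h3 : L x (r, 0, 0) + (r, 0, 0) = ((L x (r, 0, 0)).1 + r, (L x (r, 0, 0)).2.1,
        (L x (r, 0, 0)).2.2) := by
      refine Prod.ext rfl (Prod.ext ?_ ?_)
      · show (L x (r, 0, 0)).2.1 + 0 = _
        rw [add_zero]
      · show (L x (r, 0, 0)).2.2 + 0 = _
        rw [add_zero]
    rw [h3, h.form.bf_two, hb, add_zero] at h2
    exact h2
  have hd : ∀ r ∈ D, r ≠ 0 → (L x (r, 0, 0)).1 = d := by
    intro r hr hr0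
    have h1 := h.iso x (r, 0, 0) hr
    have h2 := h.ne x hx r hr hr0
    simp only [sq, hy r hr, map_zero, mul_zero, hb, add_zero, zero_add] at h1
    have h3 : (d + (L x (r, 0, 0)).1) * (L x (r, 0, 0)).2.2 = 0 := by rw [add_mul]; exact h1
    rcases mul_eq_zero.mp h3 with h4 | h4
    · have h5 := h.form.two d
      have h6 : d + (L x (r, 0, 0)).1 = d + d := by rw [h4, h5]
      exact add_left_cancel h6
    · exact absurd h4 h2
  have hts0 : t + s ≠ 0 := by
    intro h1
    apply hts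
    have h2 := h.form.two s
    have h3 : t + s = s + s := by rw [h1, h2]
    exact add_right_cancel h3
  have hd0 : d = 0 := by
    have h1 := h.add x (t, 0, 0) (s, 0, 0) ht hs
    have h2 : ((t, 0, 0) : F × F × F) + (s, 0, 0) = (t + s, 0, 0) := by
      simp
    rw [h2] at h1
    have h3 := congrArg Prod.fst h1
    rw [hd _ (D.add_mem ht hs) hts0, Prod.fst_add, hd t ht ht0, hd s hs hs0, h.form.two] at h3
    exact h3
  have hL : ∀ r ∈ D, r ≠ 0 → L x (r, 0, 0) = (0, 0, (L x (r, 0, 0)).2.2) := by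
    intro r hr hr0
    exact Prod.ext (by rw [hd r hr hr0, hd0]) (Prod.ext (hy r hr) rfl)
  -- the last coordinate is proportional to `r`
  have hu : (L x (t, 0, 0)).2.2 * s = t * (L x (s, 0, 0)).2.2 := by
    have h1 := h.bf_symm x (v := (t, 0, 0)) (w := (s, 0, 0)) ht hs
    rw [hL t ht ht0, hL s hs hs0] at h1
    rw [h.form.bf_one, bf_comm, h.form.bf_one] at h1
    rw [mul_comm, h1]
  obtain ⟨l, hl⟩ := h.form.surj (s / t)
  have hl0 : l ≠ 0 := by
    rintro rfl
    rw [zero_mul] at hl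
    exact (div_ne_zero hs0 ht0) hl.symm
  have hl1 : l ≠ 1 := by
    rintro rfl
    rw [map_one, one_mul] at hl
    exact hts ((div_eq_one_iff_eq ht0).mp hl.symm).symm
  have h1 := h.equiv l hl0 x (t, 0, 0) ht
  have h2 : T θ l (t, 0, 0) = (t, 0, 0) := by
    simp [T]
  have h3 : T θ l (L x (t, 0, 0)) = L x (s, 0, 0) := by
    rw [hL t ht ht0, hL s hs hs0]
    refine Prod.ext rfl (Prod.ext ?_ ?_)
    · show l * 0 = (0 : F)
      ring
    · show l * θ l * (L x (t, 0, 0)).2.2 = (L x (s, 0, 0)).2.2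
      rw [hl, div_mul_eq_mul_div, div_eq_iff ht0, mul_comm s, hu, mul_comm]
  rw [h2, h3] at h1
  have h4 := h.mul x (c l x) (t, 0, 0) ht
  rw [h1, h.two x (s, 0, 0) hs] at h4
  apply h.ne (x * c l x) (h.fpf l hl0 hl1 x hx) t ht ht0
  rw [h4]

/-- **Case (β)**: `X` centralizes `U`. -/
theorem Isom.false_beta (h : Isom θ D d b X L c N) {x : X} (hx : ¬ N x) {t s : F} (ht : t ∈ D)
    (hs : s ∈ D) (ht0 : t ≠ 0) (hs0 : s ≠ 0) (hts : t ≠ s)
    (hC : ∀ u, ((0, 0, u) : F × F × F) ∈ h.fix) : False := by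
  have two := h.form.two
  -- `x (r, 0, 0) = (r, *, *)`
  have hL1 : ∀ (x : X) (r : F), r ∈ D → (L x (r, 0, 0)).1 = r := by
    intro x r hr
    have h1 := h.form.mem_first h.perp_T (h.comm_mem_perp x (v := (r, 0, 0)) hr)
    have h2 := h1 _ (hC 1)
    rw [h.form.bf_three, h.form.zero_left, mul_one, add_zero] at h2
    have h3 : (L x (r, 0, 0)).1 + r = 0 := h2
    have h4 : (L x (r, 0, 0)).1 + r = r + r := by rw [h3, two]
    exact add_right_cancel h4
  have hsum : ∀ (x : X) (r : F), r ∈ D → L x (r, 0, 0) + (r, 0, 0) =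
      (0, (L x (r, 0, 0)).2.1, (L x (r, 0, 0)).2.2) := by
    intro x r hr
    refine Prod.ext ?_ (Prod.ext ?_ ?_)
    · show (L x (r, 0, 0)).1 + r = 0
      rw [hL1 x r hr, two]
    · show (L x (r, 0, 0)).2.1 + 0 = _
      rw [add_zero]
    · show (L x (r, 0, 0)).2.2 + 0 = _
      rw [add_zero]
  -- `y_x(r) = 0` implies `r = d`
  have hyd : ∀ r ∈ D, r ≠ 0 → (L x (r, 0, 0)).2.1 = 0 → r = d := by
    intro r hr hr0 hy
    have h1 := h.iso x (r, 0, 0) hr
    have h2 := h.ne x hx r hr hr0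
    simp only [sq, hy, hL1 x r hr, map_zero, mul_zero, h.form.zero_left, add_zero, zero_add] at h1
    have h3 : (d + r) * (L x (r, 0, 0)).2.2 = 0 := by rw [add_mul]; exact h1
    rcases mul_eq_zero.mp h3 with h4 | h4
    · have h6 : d + r = d + d := by rw [h4, two]
      exact add_left_cancel h6
    · exact absurd h4 h2
  -- `b = 0`
  have hb : ∀ y u, b y u = 0 := by
    have key : ∀ r ∈ D, r ≠ 0 → (L x (r, 0, 0)).2.1 ≠ 0 → ∀ y u, b y u = 0 := by
      intro r hr hr0 hy y u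
      have h1 := h.comm_mem_perp x (v := (r, 0, 0)) hr
      rw [hsum x r hr] at h1
      have h2 := h.form.mem_last h.perp_T h1 (h.ne x hx r hr hr0)
      have h3 := h.form.mem_mid h.perp_T h1 hy h2 y
      have h4 := h3 _ (hC u)
      rw [h.form.bf_three, zero_mul, zero_add] at h4
      exact h4
    by_cases h1 : (L x (t, 0, 0)).2.1 = 0
    · by_cases h2 : (L x (s, 0, 0)).2.1 = 0
      · exact absurd ((hyd t ht ht0 h1).trans (hyd s hs hs0 h2).symm) hts
      · exact key s hs hs0 h2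
    · exact key t ht ht0 h1
  -- the last coordinates
  have hu : ∀ (x : X) (r r' : F), r ∈ D → r' ∈ D →
      r' * (L x (r, 0, 0)).2.2 = r * (L x (r', 0, 0)).2.2 := by
    intro x r r' hr hr'
    have h1 := h.bf_symm x (v := (r, 0, 0)) (w := (r', 0, 0)) hr hr'
    have e1 : L x (r, 0, 0) = ((L x (r, 0, 0)).1, (L x (r, 0, 0)).2.1, (L x (r, 0, 0)).2.2) := rfl
    have e2 : L x (r', 0, 0) = ((L x (r', 0, 0)).1, (L x (r', 0, 0)).2.1,
      (L x (r', 0, 0)).2.2) := rfl
    rw [e1, e2, h.form.bf_one, bf_comm, h.form.bf_one] at h1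
    exact h1
  obtain ⟨l, hl⟩ := h.form.ne
  have hl0 : l ≠ 0 := by
    rintro rfl
    exact hl (map_zero θ)
  have hll : θ l + l ≠ 0 := by
    intro h1
    apply hl
    have h2 : θ l + l = l + l := by rw [h1, two]
    exact add_right_cancel h2
  set x' := c l x with hx'
  -- `y_{x'}(r) = l y_x(r)`
  have hy' : ∀ r ∈ D, (L x' (r, 0, 0)).2.1 = l * (L x (r, 0, 0)).2.1 := by
    intro r hr
    have h1 := h.equiv l hl0 x (r, 0, 0) hr
    have h2 : T θ l (r, 0, 0) = (r, 0, 0) := by simp [T]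
    rw [h2] at h1
    rw [hx', h1]
    rfl
  set Y : F → F := fun r => (L x (r, 0, 0)).2.1 with hY
  set ω : F := (t)⁻¹ * ((L (x * x') (t, 0, 0)).2.2 + (L x (t, 0, 0)).2.2 +
    (L x' (t, 0, 0)).2.2) with hω
  have hmain : ∀ r ∈ D, ∀ r' ∈ D, Y r * (θ l * θ (Y r')) + l * Y r' * θ (Y r) = r * r' * ω := by
    intro r hr r' hr'
    have h1 : bf θ b (L x (r, 0, 0) + (r, 0, 0)) (L x' (r', 0, 0) + (r', 0, 0)) =
        Y r * (θ l * θ (Y r')) + l * Y r' * θ (Y r) := by
      rw [hsum x r hr, hsum x' r' hr']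
      simp only [bf, hb, hy' r' hr', map_mul]
      ring
    have h2 : bf θ b (L x (r, 0, 0) + (r, 0, 0)) (L x' (r', 0, 0) + (r', 0, 0)) =
        r * (L (x * x') (r', 0, 0)).2.2 + r' * (L x (r, 0, 0)).2.2 +
          r * (L x' (r', 0, 0)).2.2 := by
      rw [h.form.bf_add_left, h.form.bf_add_right, h.form.bf_add_right]
      have a1 : bf θ b (L x (r, 0, 0)) (L x' (r', 0, 0)) = r * (L (x * x') (r', 0, 0)).2.2 := by
        rw [h.bf_symm x hr (h.mem x' _ hr'), ← h.mul x x' _ hr', bf_comm]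
        exact h.form.bf_one _ _ _ _
      have a2 : bf θ b (L x (r, 0, 0)) (r', 0, 0) = r' * (L x (r, 0, 0)).2.2 :=
        h.form.bf_one _ _ _ _
      have a3 : bf θ b (r, 0, 0) (L x' (r', 0, 0)) = r * (L x' (r', 0, 0)).2.2 := by
        rw [bf_comm]
        exact h.form.bf_one _ _ _ _
      have a4 : bf θ b (r, 0, 0) (r', 0, 0) = 0 := by
        rw [h.form.bf_one, mul_zero]
      rw [a1, a2, a3, a4]
      ring
    rw [← h1, h2, hu x r r' hr hr', hω]
    have b1 := hu (x * x') r' t hr' ht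
    have b2 := hu x r' t hr' ht
    have b3 := hu x' r' t hr' ht
    have b4 : (L (x * x') (r', 0, 0)).2.2 = t⁻¹ * (r' * (L (x * x') (t, 0, 0)).2.2) := by
      rw [← b1, inv_mul_cancel_left₀ ht0]
    have b5 : (L x (r', 0, 0)).2.2 = t⁻¹ * (r' * (L x (t, 0, 0)).2.2) := by
      rw [← b2, inv_mul_cancel_left₀ ht0]
    have b6 : (L x' (r', 0, 0)).2.2 = t⁻¹ * (r' * (L x' (t, 0, 0)).2.2) := by
      rw [← b3, inv_mul_cancel_left₀ ht0]
    rw [b4, b5, b6]
    ring
  have htt := hmain t ht t ht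
  have hss := hmain s hs s hs
  have hst := hmain s hs t ht
  have hts' := hmain t ht s hs
  have e1 : Y t * θ (Y t) * (θ l + l) = t * t * ω := by rw [← htt]; ring
  have e2 : Y s * θ (Y s) * (θ l + l) = s * s * ω := by rw [← hss]; ring
  -- `ω ≠ 0`
  have hω0 : ω ≠ 0 := by
    intro h0
    rw [h0, mul_zero] at e1 e2
    have h1 : Y t = 0 := by
      rcases mul_eq_zero.mp e1 with h1 | h1
      · rcases mul_eq_zero.mp h1 with h2 | h2
        · exact h2
        · exact (map_eq_zero θ).mp h2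
      · exact absurd h1 hll
    have h2 : Y s = 0 := by
      rcases mul_eq_zero.mp e2 with h1 | h1
      · rcases mul_eq_zero.mp h1 with h2 | h2
        · exact h2
        · exact (map_eq_zero θ).mp h2
      · exact absurd h1 hll
    exact hts ((hyd t ht ht0 h1).trans (hyd s hs hs0 h2).symm)
  have hYs : Y s ≠ 0 := by
    intro h0
    rw [h0, zero_mul, zero_mul] at e2
    exact (mul_ne_zero (mul_ne_zero hs0 hs0) hω0) e2.symm
  have hYt : Y t ≠ 0 := by
    intro h0
    rw [h0, zero_mul, zero_mul] at e1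
    exact (mul_ne_zero (mul_ne_zero ht0 ht0) hω0) e1.symm
  -- `Y t θ(Y s) = Y s θ(Y t)`
  have e3 : Y t * θ (Y s) + Y s * θ (Y t) = 0 := by
    have h1 : (θ l + l) * (Y t * θ (Y s) + Y s * θ (Y t)) = 0 := by
      calc (θ l + l) * (Y t * θ (Y s) + Y s * θ (Y t)) =
          (Y t * (θ l * θ (Y s)) + l * Y s * θ (Y t)) +
            (Y s * (θ l * θ (Y t)) + l * Y t * θ (Y s)) := by ring
        _ = t * s * ω + t * s * ω := by rw [hts', hst]; ring
        _ = 0 := two _
    exact (mul_eq_zero.mp h1).resolve_left hll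
  have e4 : Y t * θ (Y s) = Y s * θ (Y t) := by
    have h1 : Y t * θ (Y s) + Y s * θ (Y t) = Y s * θ (Y t) + Y s * θ (Y t) := by
      rw [e3, two]
    exact add_right_cancel h1
  have hθs : θ (Y s) ≠ 0 := fun h0 => hYs ((map_eq_zero θ).mp h0)
  set k := Y t / Y s with hk
  have hk0 : k ≠ 0 := div_ne_zero hYt hYs
  have e5 : θ k = k := by
    rw [hk, map_div₀, div_eq_div_iff hθs hYs, mul_comm, ← e4]
  have e6 : k = 1 := by
    have h1 := h.form.theta k
    rw [e5, e5] at h1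
    have h2 : k * 1 = k * k := by rw [mul_one]; exact h1
    exact (mul_left_cancel₀ hk0 h2).symm
  have e7 : Y t = Y s := (div_eq_one_iff_eq hYs).mp e6
  rw [e7, e2] at e1
  have e8 : s * s = t * t := mul_right_cancel₀ hω0 e1
  have e9 : (t + s) * (t + s) = 0 := by
    calc (t + s) * (t + s) = (t * t + s * s) + (t * s + t * s) := by ring
      _ = 0 := by rw [e8, two, two, add_zero]
  have e10 : t + s = 0 := mul_self_eq_zero.mp e9
  apply hts
  have h3 : t + s = s + s := by rw [e10, two]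
  exact add_right_cancel h3

/-- **The isometry lemma.** -/
theorem Isom.main [Finite F] (h : Isom θ D d b X L c N) [Finite X] (hX : IsPGroup 2 X) {t s : F}
    (ht : t ∈ D) (hs : s ∈ D) (ht0 : t ≠ 0) (hs0 : s ≠ 0) (hts : t ≠ s) (x : X) : N x := by
  by_contra hx
  have hpf : Fact (Nat.Prime 2) := ⟨Nat.prime_two⟩
  -- a nonzero fixed vector
  obtain ⟨v, hv, hv0⟩ : ∃ v ∈ h.fix, v ≠ 0 := by
    let W : Type _ := {v : F × F × F // v.1 ∈ D}
    let act : MulAction X W :=
      { smul := fun x v => ⟨L x v.1, h.mem x v.1 v.2⟩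
        one_smul := fun v => Subtype.ext (h.one v.1 v.2)
        mul_smul := fun x y v => Subtype.ext (h.mul x y v.1 v.2) }
    have hz : ((⟨0, D.zero_mem⟩ : W)) ∈ MulAction.fixedPoints X W := by
      intro x
      exact Subtype.ext ((h.mem_fix.mp h.fix.zero_mem).2 x)
    have hdvd : 2 ∣ Nat.card W := by
      let D2 : AddSubgroup (F × F × F) := D.comap (AddMonoidHom.fst F (F × F))
      have h1 : Nat.card W = Nat.card D2 := rfl
      rw [h1]
      have h2 : addOrderOf (⟨(t, 0, 0), ht⟩ : D2) = 2 := by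
        apply addOrderOf_eq_prime
        · apply Subtype.ext
          show (2 : ℕ) • ((t, 0, 0) : F × F × F) = 0
          rw [two_nsmul]
          exact Prod.ext (h.form.two _) (Prod.ext (h.form.two _) (h.form.two _))
        · intro h3
          apply ht0
          exact congrArg (fun w : D2 => w.1.1) h3
      rw [← h2]
      exact addOrderOf_dvd_natCard _
    obtain ⟨w, hw, hw0⟩ := hX.exists_fixed_point_of_prime_dvd_card_of_fixed_point W hdvd hz
    refine ⟨w.1, ⟨w.2, fun x => congrArg Subtype.val (hw x)⟩, fun h0 => hw0 ?_⟩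
    exact Subtype.ext h0.symm
  -- its first coordinate is 0
  have hv1 : v.1 = 0 := by
    by_contra h1
    have h2 := h.form.mem_first h.fix_T hv
    apply h.ne x hx v.1 hv.1 h1
    rw [h2.2 x]
  by_cases hu : v.2.2 = 0
  · have hy : v.2.1 ≠ 0 := by
      intro h1
      exact hv0 (Prod.ext hv1 (Prod.ext h1 hu))
    refine h.false_alpha hx ht hs ht0 hs0 hts fun y => ?_
    by_cases hy0 : y = 0
    · rw [hy0]; exact h.fix.zero_mem
    · have h3 := h.fix_T (y / v.2.1) (div_ne_zero hy0 hy) v hv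
      have h4 : T θ (y / v.2.1) v = (0, y, 0) := by
        refine Prod.ext hv1 (Prod.ext ?_ ?_)
        · show y / v.2.1 * v.2.1 = y
          rw [div_mul_cancel₀ _ hy]
        · show y / v.2.1 * θ (y / v.2.1) * v.2.2 = 0
          rw [hu, mul_zero]
      rwa [h4] at h3
  · exact h.false_beta hx ht hs ht0 hs0 hts (h.form.mem_last h.fix_T hv hu)

end Cfsg.Agent.OddCyclic.CompSzIso
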