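import Cfsg.Agent.OddCyclic.CaseASix
import Cfsg.Agent.OddCyclic.CaseESz
import Cfsg.Agent.OddCyclic.CompSzDefs

/-!
# S0342, component case E (`K ≅ Sz(q)`): `N_G(E) = C_G(E) (M ∩ N_G(E))`

`E = Z(Q)`, `Q` a Sylow 2-subgroup of `K ≅ Sz(q)`, `H` a complement of `Q` in `N_K(Q)`, `R` a Sylow 2-subgroup of
`C(K)`.
-/

set_option autoImplicit false

namespace Cfsg.Agent.OddCyclic.CompSzSing

open Subgroup
open scoped Pointwise
open Cfsg.Agent.LieExceptional Cfsg.Agent.LieExceptional.CITDefs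
open Cfsg.Agent.LieExceptional.CITBasic
open Cfsg.Agent.OddCyclic.T1Tools Cfsg.Agent.OddCyclic.T1Defs
open Cfsg.Agent.OddCyclic.CompBasic Cfsg.Agent.OddCyclic.CompStandard
open Cfsg.Agent.OddCyclic.CaseABase
open Cfsg.Agent.OddCyclic.CaseAFive (ofSylow toSylow card_conj)
open Cfsg.Agent.OddCyclic.CaseATools (mem_sup_iff)
open Cfsg.Agent.OddCyclic.CaseASix (SecKZ conj_zpowers kz_congr TT norm_C mem_TT_iff act act_eq_one_iff
  HX mem_HX rangeRestrict_surj rr_one)
open Cfsg.Agent.OddCyclic.CaseASinger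
open Cfsg.Agent.OddCyclic.CaseESz

variable {G : Type*} [Group G] {p : ℕ} {K R Q E H : Subgroup G} {q : ℕ}

/-- the data -/
structure Dat (p : ℕ) (K R Q E H : Subgroup G) (q : ℕ) : Prop where
  std : Std p K
  sz : SzK K q
  szb : SzB K Q E H q
  sylQ : IsSyl2 K Q
  sylR : IsSyl2 (centralizer (K : Set G)) R

namespace Dat

theorem odd_H (b : Dat p K R Q E H q) : Odd (Nat.card H) := by
  obtain ⟨m, -, hq⟩ := b.sz.pow
  rw [b.szb.cardH, hq, pow_succ, mul_comm]
  have : 0 < 2 ^ (2 * m) := by positivity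
  exact ⟨2 ^ (2 * m) - 1, by omega⟩

theorem finite_H (b : Dat p K R Q E H q) : Finite H := by
  apply Nat.finite_of_card_ne_zero
  rw [b.szb.cardH]
  have := b.sz.eight
  omega

theorem elemE (b : Dat p K R Q E H q) : Elem E := fun e he =>
  (b.szb.mem_Z e (b.szb.leZ he)).mp he

theorem exists_E_ne (b : Dat p K R Q E H q) : ∃ e ∈ E, e ≠ 1 := by
  by_contra hno
  push Not at hno
  have h4 := b.sz.eight
  have h1 : E = ⊥ := (eq_bot_iff).mpr fun e he => by rw [Subgroup.mem_bot]; exact hno e he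
  have h2 := b.szb.cardZ
  rw [h1, Subgroup.card_bot] at h2
  omega

theorem E_le (b : Dat p K R Q E H q) : E ≤ K := b.szb.leZ.trans b.szb.leQ

theorem H_inf (b : Dat p K R Q E H q) {x : G} (hx : x ∈ H) (hq : x ∈ Q) : x = 1 := by
  rcases b.szb.fpf x hx x hq rfl with h1 | h1 <;> exact h1

/-- an element of `H` commuting with `E` is trivial -/
theorem H_comm_E (b : Dat p K R Q E H q) {x : G} (hx : x ∈ H)
    (hc : ∀ e ∈ E, x * e = e * x) : x = 1 := by
  obtain ⟨e, he, he1⟩ := b.exists_E_ne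
  exact (b.szb.fpf x hx e (b.szb.leZ he) (hc e he)).resolve_right he1

theorem H_norm (b : Dat p K R Q E H q) : ∀ x ∈ H, ∀ e ∈ E, x * e * x⁻¹ ∈ E := by
  intro x hx e he
  have h1 := b.szb.norm x hx e (b.szb.leZ he)
  rw [b.szb.mem_Z _ h1]
  calc x * e * x⁻¹ * (x * e * x⁻¹) = x * (e * e) * x⁻¹ := by group
    _ = 1 := by rw [b.elemE e he]; group

/-- `C_M(E) = YQ` -/
theorem C_inf_M (b : Dat p K R Q E H q) {x : G} (hx : x ∈ centralizer (E : Set G))
    (hM : x ∈ normalizer (K : Set G)) : ∃ y ∈ centralizer (K : Set G), ∃ u ∈ Q, x = y * u :=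
  b.sz.centZ Q E H b.sylQ b.szb x hM fun e he => (mem_centralizer_iff.mp hx e he).symm

theorem mem_Y_of_comm (b : Dat p K R Q E H q) {x y u : G} (hx : x ∈ H) (hx1 : x ≠ 1)
    (hy : y ∈ centralizer (K : Set G)) (hu : u ∈ Q) (hc : (y * u) * x = x * (y * u)) : u = 1 := by
  have h1 : x * y = y * x := comm_KY x (b.szb.leH hx) y hy
  have h2 : y * (u * x) = y * (x * u) := by
    calc y * (u * x) = (y * u) * x := by group
      _ = x * (y * u) := hc
      _ = (x * y) * u := by group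
      _ = (y * x) * u := by rw [h1]
      _ = y * (x * u) := by group
  have h3 := mul_left_cancel h2
  exact (b.szb.fpf x hx u hu h3.symm).resolve_left hx1

theorem Q_le_C (b : Dat p K R Q E H q) : Q ≤ centralizer (E : Set G) := by
  intro u hu
  rw [mem_centralizer_iff]
  intro e he
  exact b.szb.central e he u hu

theorem R_le_C (b : Dat p K R Q E H q) : R ≤ centralizer (E : Set G) := by
  intro r hr
  rw [mem_centralizer_iff]
  intro e he
  exact comm_KY e (b.E_le he) r (b.sylR.le hr)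

/-- elements of `K` normalizing `E` normalize `Q` -/
theorem nK (b : Dat p K R Q E H q) {k : G} (hk : k ∈ K) (hn : ∀ e ∈ E, k * e * k⁻¹ ∈ E) :
    ∀ x ∈ Q, k * x * k⁻¹ ∈ Q := by
  obtain ⟨e, he, he1⟩ := b.exists_E_ne
  exact b.szb.ti e (b.szb.leZ he) he1 k hk (b.szb.leZ (hn e he))

variable [Finite G]

theorem H_norm_C (b : Dat p K R Q E H q) :
    H ≤ normalizer (centralizer (E : Set G) : Set G) := fun x hx =>
  (normalizer_le_centralizer E) (mem_normalizer_of_forall (b.H_norm x hx))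

/-- `|C_G(E)|` is prime to `q - 1` -/
theorem cop (b : Dat p K R Q E H q) :
    (Nat.card H).Coprime (Nat.card (centralizer (E : Set G))) := by
  refine Nat.Coprime.symm (Nat.coprime_of_dvd ?_)
  intro r hr hrC hrH
  have hrf : Fact r.Prime := ⟨hr⟩
  have hr2 : r ≠ 2 := by
    rintro rfl
    exact (Nat.not_even_iff_odd.mpr b.odd_H) (even_iff_two_dvd.mpr hrH)
  have hfH := b.finite_H
  obtain ⟨x, hx⟩ := exists_prime_orderOf_dvd_card' r hrH
  have hxr : orderOf (x : G) = r := by rw [← hx, Subgroup.orderOf_coe]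
  have h1 := mem_of_le_normalizer b.std.cyc
    (H := normalizer (centralizer (E : Set G) : Set G)) Subgroup.le_normalizer le_rfl hr hr2 hrC
    (b.H_norm_C x.2) hxr
  have h2 := b.H_comm_E x.2 (fun e he => (mem_centralizer_iff.mp h1 e he).symm)
  rw [h2, orderOf_one] at hxr
  exact hr.one_lt.ne hxr

theorem normR_le (b : Dat p K R Q E H q) :
    normalizer (R : Set G) ≤ normalizer (K : Set G) := by
  intro u hu
  obtain ⟨t, htR, ht2⟩ := exists_involution_of_ne_bot b.sylR.two (sylR_ne_bot b.std b.sylR)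
  have h1 : u * t * u⁻¹ ∈ cj 1 (centralizer (K : Set G)) := by
    rw [cj_one]; exact b.sylR.le (forall_of_mem_normalizer hu t htR)
  have h2 := mem_of_cj b.std (by rw [orderOf_conj, ht2]) h1 (conj_mem_cj (b.sylR.le htR))
  rwa [inv_one, one_mul] at h2

/-- `R` is a maximal 2-subgroup of `C_C(x)`, `1 ≠ x ∈ H` -/
theorem eq_R (b : Dat p K R Q E H q) {U : Subgroup G} (hU : IsPGroup 2 U)
    (hRU : R ≤ U) (hUC : U ≤ centralizer (E : Set G)) {x : G} (hx : x ∈ H) (hx1 : x ≠ 1)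
    (hUx : ∀ u ∈ U, u * x = x * u) : U = R := by
  have hpf : Fact (Nat.Prime 2) := ⟨Nat.prime_two⟩
  refine Cfsg.Agent.Blocks.SylowIn.eq_of_normalizer_inf_le (p := 2) hU hRU ?_
  rintro u ⟨huN, huU⟩
  obtain ⟨y, hy, e, he, hye⟩ := b.C_inf_M (hUC huU) (b.normR_le huN)
  have he1 : e = 1 := b.mem_Y_of_comm hx hx1 hy he (by rw [← hye]; exact hUx u huU)
  rw [he1, mul_one] at hye
  rw [hye] at huN huU ⊢
  exact mem_isSyl2 b.sylR hy (mem_of_pow_two hU huU) (forall_of_mem_normalizer huN)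

/-- `H`-invariant Sylow 2-subgroups of `H`-invariant subgroups of `C_G(E)` -/
theorem inv (b : Dat p K R Q E H q) {L U : Subgroup G} (hL : L ≤ centralizer (E : Set G))
    (hHL : ∀ x ∈ H, cj x L = L) (hU : U ≤ L) (hU2 : IsPGroup 2 U)
    (hHU : ∀ x ∈ H, ∀ u ∈ U, x * u * x⁻¹ ∈ U) :
    ∃ P : Subgroup G, IsSyl2 L P ∧ U ≤ P ∧ ∀ x ∈ H, ∀ y ∈ P, x * y * x⁻¹ ∈ P := by
  have hpf : Fact (Nat.Prime 2) := ⟨Nat.prime_two⟩
  have hcyc := b.szb.cyc
  have hcop : (Nat.card H).Coprime (Nat.card L) :=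
    b.cop.coprime_dvd_right (Subgroup.card_dvd_of_le hL)
  have hsolv : Group.IsSolvable H ∨ Group.IsSolvable L := Or.inl (by
    have := IsCyclic.commGroup (α := H)
    infer_instance)
  have hHN : H ≤ normalizer (L : Set G) := fun x hx => cj_eq_iff.mp (hHL x hx)
  have hUN : H ≤ normalizer (U : Set G) := fun x hx => mem_normalizer_of_forall (hHU x hx)
  obtain ⟨Q₀, hRQ, hHQ⟩ := Cfsg.Agent.S0025.result H L hHN hcop hsolv 2 U hU hU2 hUN
  exact ⟨_, ofSylow Q₀, hRQ, fun x hx => forall_of_mem_normalizer (hHQ hx)⟩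

theorem H_le_ME (b : Dat p K R Q E H q) :
    H ≤ normalizer (K : Set G) ⊓ normalizer (E : Set G) := fun x hx =>
  ⟨Subgroup.le_normalizer (b.szb.leH hx), mem_normalizer_of_forall (b.H_norm x hx)⟩

/-- an element `n` of `N_G(E)` which normalizes `⟨x⟩`, `x ∈ H`, modulo `C_G(E)`, is in
`C_G(E) (M ∩ N_G(E))` -/
theorem mem_TT (b : Dat p K R Q E H q) {n x : G} (hn : n ∈ normalizer (E : Set G))
    {r : ℕ} (hr : r.Prime) (hx : x ∈ H) (hxr : orderOf x = r) {k : ℤ}
    (hk : n * x * n⁻¹ * (x ^ k)⁻¹ ∈ centralizer (E : Set G)) : n ∈ TT K E := by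
  have h := b.std
  have hr2 : r ≠ 2 := by
    rintro rfl
    have h1 : 2 ∣ Nat.card H := by
      rw [← hxr]
      have := b.finite_H
      exact H.orderOf_dvd_natCard hx
    exact (Nat.not_even_iff_odd.mpr b.odd_H) (even_iff_two_dvd.mpr h1)
  have hx1 : x ≠ 1 := by
    rintro rfl
    rw [orderOf_one] at hxr
    exact hr.one_lt.ne hxr
  have hxME := b.H_le_ME hx
  set C := centralizer (E : Set G) with hC
  set L : Subgroup G := C ⊔ zpowers x with hL
  have hLT : L ≤ TT K E := sup_le_sup_left (zpowers_le.mpr hxME) _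
  have hyL : n * x * n⁻¹ ∈ L := by
    have : n * x * n⁻¹ = (n * x * n⁻¹ * (x ^ k)⁻¹) * x ^ k := by group
    rw [this]
    exact Subgroup.mul_mem _ (mem_sup_left hk) (mem_sup_right ⟨k, rfl⟩)
  obtain ⟨l, hl, hlx⟩ := conj_zpowers h.cyc hr hr2 (L := L) (mem_sup_right (mem_zpowers x)) hyL hxr
    (by rw [orderOf_conj, hxr])
  have hlT := hLT hl
  have hCN : C ≤ normalizer (E : Set G) := centralizer_le_normalizer _
  have hlN : l ∈ normalizer (E : Set G) := by
    have : L ≤ normalizer (E : Set G) := sup_le hCN (zpowers_le.mpr hxME.2)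
    exact this hl
  -- `n₁ = l n` normalizes `⟨x⟩`
  set n₁ := l * n with hn₁
  have hn₁N : n₁ ∈ normalizer (E : Set G) := Subgroup.mul_mem _ hlN hn
  have hn₁x : n₁ * x * n₁⁻¹ ∈ zpowers x := by
    have : n₁ * x * n₁⁻¹ = l * (n * x * n⁻¹) * l⁻¹ := by rw [hn₁]; group
    rw [this]; exact hlx
  -- `D = C_C(x)`
  set D : Subgroup G := C ⊓ centralizer ({x} : Set G) with hD
  have hgen : ∀ d : G, d * (n₁ * x * n₁⁻¹) = (n₁ * x * n₁⁻¹) * d → d * x = x * d := by
    intro d hd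
    have h1 : zpowers (n₁ * x * n₁⁻¹) = zpowers x := by
      apply Subgroup.eq_of_le_of_card_ge (zpowers_le.mpr hn₁x)
      rw [Nat.card_zpowers, Nat.card_zpowers, orderOf_conj]
    have h2 : x ∈ zpowers (n₁ * x * n₁⁻¹) := by rw [h1]; exact mem_zpowers x
    obtain ⟨m, hm⟩ := h2
    have h3 : Commute d ((n₁ * x * n₁⁻¹) ^ m) := (show Commute d _ from hd).zpow_right m
    rw [show (n₁ * x * n₁⁻¹) ^ m = x from hm] at h3
    exact h3
  have hDn : cj n₁ D = D := by
    apply Subgroup.eq_of_le_of_card_ge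
    · rintro _ ⟨d, hd, rfl⟩
      refine ⟨norm_C hn₁N d hd.1, ?_⟩
      refine mem_centralizer_singleton_iff.mpr (hgen _ ?_)
      have h1 : d * x = x * d := mem_centralizer_singleton_iff.mp hd.2
      simp only [MulEquiv.coe_toMonoidHom, MulAut.conj_apply]
      calc n₁ * d * n₁⁻¹ * (n₁ * x * n₁⁻¹) = n₁ * (d * x) * n₁⁻¹ := by group
        _ = n₁ * (x * d) * n₁⁻¹ := by rw [h1]
        _ = n₁ * x * n₁⁻¹ * (n₁ * d * n₁⁻¹) := by group
    · rw [card_cj]
  have hRC : R ≤ C := b.R_le_C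
  have hRD : IsSyl2 D R := by
    refine ⟨le_inf hRC ?_, b.sylR.two, fun U hU hU2 hle => ?_⟩
    · intro r hr
      exact mem_centralizer_singleton_iff.mpr (comm_KY x (b.szb.leH hx) r (b.sylR.le hr)).symm
    · exact b.eq_R hU2 hle (hU.trans inf_le_left) hx hx1
        (fun u hu => mem_centralizer_singleton_iff.mp (hU hu).2)
  have hRD' : IsSyl2 D (cj n₁ R) := by
    have := isSyl2_cj n₁ hRD
    rwa [hDn] at this
  obtain ⟨d, hd, hdR⟩ := isSyl2_conj hRD' hRD
  rw [← cj_mul] at hdR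
  have h1 : d * n₁ ∈ normalizer (R : Set G) := cj_eq_iff.mp hdR.symm
  have h2 : d * n₁ ∈ normalizer (K : Set G) ⊓ normalizer (E : Set G) :=
    ⟨b.normR_le h1, Subgroup.mul_mem _ (hCN hd.1) hn₁N⟩
  have h3 : d * n₁ ∈ TT K E := mem_sup_right h2
  have h4 : d ∈ TT K E := mem_sup_left hd.1
  have h5 : n = l⁻¹ * (d⁻¹ * (d * n₁)) := by rw [hn₁]; group
  rw [h5]
  exact Subgroup.mul_mem _ (Subgroup.inv_mem _ hlT)
    (Subgroup.mul_mem _ (Subgroup.inv_mem _ h4) h3)

/-! ### the Singer lemma -/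

omit [Finite G] in
theorem normE_ne_top [IsSimpleGroup G] (b : Dat p K R Q E H q) : normalizer (E : Set G) ≠ ⊤ := by
  intro htop
  have hn : E.Normal := Subgroup.normalizer_eq_top_iff.mp htop
  obtain ⟨e, he, he1⟩ := b.exists_E_ne
  rcases hn.eq_bot_or_eq_top with h1 | h1
  · rw [h1, Subgroup.mem_bot] at he
    exact he1 he
  · have h4 := b.sz.eight
    have h2 : H = ⊥ := by
      rw [eq_bot_iff]
      intro x hx
      rw [Subgroup.mem_bot]
      exact b.H_inf hx (b.szb.leZ (by rw [h1]; exact Subgroup.mem_top _))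
    have h3 := b.szb.cardH
    rw [h2, Subgroup.card_bot] at h3
    omega

/-- the image of an element of `M ∩ N_G(E)` normalizes `HX` -/
theorem norm_HX (b : Dat p K R Q E H q) {n : normalizer (E : Set G)}
    (hn : (n : G) ∈ normalizer (K : Set G)) :
    (act E).rangeRestrict n ∈ normalizer (HX E H : Set (act E).range) := by
  refine mem_normalizer_of_forall fun x hx => ?_
  obtain ⟨h₁, hh₁, rfl⟩ := mem_HX.mp hx
  have h1 : (n : G) * h₁ * (n : G)⁻¹ ∈ K := forall_of_mem_normalizer hn _ (b.szb.leH hh₁)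
  have h2 : ∀ e ∈ E, ((n : G) * h₁ * (n : G)⁻¹) * e * ((n : G) * h₁ * (n : G)⁻¹)⁻¹ ∈ E :=
    forall_of_mem_normalizer (n * h₁ * n⁻¹).2
  obtain ⟨e, he, x₁, hx₁, hex⟩ := b.szb.nK _ h1 (b.nK h1 h2)
  have heC : e ∈ centralizer (E : Set G) := b.Q_le_C he
  have heN : e ∈ normalizer (E : Set G) := centralizer_le_normalizer _ heC
  refine mem_HX.mpr ⟨⟨x₁, (b.H_le_ME hx₁).2⟩, hx₁, ?_⟩
  have h4 : n * h₁ * n⁻¹ = (⟨e, heN⟩ : normalizer (E : Set G)) *
      ⟨x₁, (b.H_le_ME hx₁).2⟩ := Subtype.ext hex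
  rw [← map_mul, ← map_inv, ← map_mul, h4, map_mul, rr_one heC, one_mul]

omit [Finite G] in
theorem order_rr (b : Dat p K R Q E H q) {x : normalizer (E : Set G)} (hx : (x : G) ∈ H) :
    orderOf ((act E).rangeRestrict x) = orderOf (x : G) := by
  rw [orderOf_eq_orderOf_iff]
  intro n
  rw [← map_pow]
  constructor
  · intro hn
    have h1 : act E (x ^ n) = 1 := congrArg Subtype.val hn
    rw [act_eq_one_iff] at h1
    exact b.H_comm_E (H.pow_mem hx n) (fun e he => (mem_centralizer_iff.mp h1 e he).symm)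
  · intro hn
    have h1 : x ^ n = 1 := Subtype.ext hn
    rw [h1, map_one]

theorem mem_TT_rr (b : Dat p K R Q E H q) {n x : normalizer (E : Set G)} {r : ℕ}
    (hr : r.Prime) (hx : (x : G) ∈ H) (hxr : orderOf (x : G) = r) {k : ℤ}
    (hk : (act E).rangeRestrict n * (act E).rangeRestrict x * ((act E).rangeRestrict n)⁻¹ =
      (act E).rangeRestrict x ^ k) : (n : G) ∈ TT K E := by
  refine b.mem_TT n.2 hr hx hxr (k := k) ?_
  have h1 : act E (n * x * n⁻¹ * (x ^ k)⁻¹) = 1 := by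
    have h2 : act E n * act E x * (act E n)⁻¹ = (act E x) ^ k := congrArg Subtype.val hk
    rw [map_mul, map_mul, map_mul, map_inv, map_inv, map_zpow, h2, mul_inv_cancel]
  rw [act_eq_one_iff] at h1
  exact h1

theorem normal_HX [IsSimpleGroup G] (b : Dat p K R Q E H q) (hsec : SecKZ G) (h32 : 32 ≤ q) :
    (HX E H).Normal := by
  have hfH := b.finite_H
  have hcyc := b.szb.cyc
  have hcX : IsCyclic (HX E H) := by
    have h1 : IsCyclic (H.subgroupOf (normalizer (E : Set G))) := by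
      have hle : H ≤ normalizer (E : Set G) := fun x hx => (b.H_le_ME hx).2
      exact isCyclic_of_surjective (Subgroup.subgroupOfEquivOfLe hle).symm.toMonoidHom
        (Subgroup.subgroupOfEquivOfLe hle).symm.surjective
    exact isCyclic_of_surjective ((act E).rangeRestrict.subgroupMap _)
      ((act E).rangeRestrict.subgroupMap_surjective _)
  have hodc : OddCyc (act E).range := by
    have h1 := oddCyc_quotient (oddCyc_subgroup b.std.cyc (normalizer (E : Set G))) (act E).ker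
    exact oddCyc_of_injective h1 (QuotientGroup.quotientKerEquivRange (act E)).symm.toMonoidHom
      (QuotientGroup.quotientKerEquivRange (act E)).symm.injective
  refine singer (X := (act E).range) (E := E) ?_ ?_ hodc ?_ (HX E H) ?_ ?_ ?_
  · intro v
    exact Subtype.ext (b.elemE v v.2)
  · rw [b.szb.cardZ]; exact le_trans (by norm_num) h32
  · -- simple normal subgroups are sections of `N_G(E)`
    intro B hB hBs hBn
    set N := normalizer (E : Set G) with hN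
    have hNtop := b.normE_ne_top
    set L₀ : Subgroup N := B.comap (act E).rangeRestrict with hL₀
    set L : Subgroup G := L₀.map N.subtype with hL
    have hLN : L ≤ N := Subgroup.map_subtype_le _
    have hLtop : L ≠ ⊤ := fun hh => hNtop (top_le_iff.mp (hh ▸ hLN))
    let ψ₀ : L₀ →* B := ((act E).rangeRestrict.comp L₀.subtype).codRestrict B (fun x => x.2)
    have hψ₀ : Function.Surjective ψ₀ := by
      rintro ⟨x, hx⟩
      obtain ⟨n, hn⟩ := rangeRestrict_surj x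
      exact ⟨⟨n, by rw [hL₀, Subgroup.mem_comap, hn]; exact hx⟩, Subtype.ext hn⟩
    let ψ : L →* B :=
      ψ₀.comp (L₀.equivMapOfInjective N.subtype N.subtype_injective).symm.toMonoidHom
    have hψ : Function.Surjective ψ :=
      hψ₀.comp (L₀.equivMapOfInjective N.subtype N.subtype_injective).symm.surjective
    have e := QuotientGroup.quotientKerEquivOfSurjective ψ hψ
    refine kz_congr e (hsec L hLtop ψ.ker ?_ ?_)
    · exact e.isSimpleGroup
    · obtain ⟨a, c, hac⟩ := hBn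
      refine ⟨e.symm a, e.symm c, fun hh => hac ?_⟩
      rw [← map_mul, ← map_mul] at hh
      exact e.symm.injective hh
  · -- regularity
    intro v w hv hw
    have hv1 : (v : G) ≠ 1 := fun hh => hv (Subtype.ext hh)
    have hw1 : (w : G) ≠ 1 := fun hh => hw (Subtype.ext hh)
    obtain ⟨x, hx, hxe⟩ := b.szb.trans v v.2 w w.2 hv1 hw1
    have hxN : x ∈ normalizer (E : Set G) := (b.H_le_ME hx).2
    refine ⟨⟨(act E).rangeRestrict ⟨x, hxN⟩, mem_HX.mpr ⟨⟨x, hxN⟩, hx, rfl⟩⟩,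
      Subtype.ext hxe, ?_⟩
    rintro ⟨y, hy⟩ hyv
    obtain ⟨z, hz, rfl⟩ := mem_HX.mp hy
    apply Subtype.ext
    have h1 : (z : G) * v * (z : G)⁻¹ = w := congrArg Subtype.val hyv
    have h2 : ((z : G)⁻¹ * x) * v = v * ((z : G)⁻¹ * x) := by
      calc ((z : G)⁻¹ * x) * v = (z : G)⁻¹ * (x * v * x⁻¹) * x := by group
        _ = (z : G)⁻¹ * ((z : G) * v * (z : G)⁻¹) * x := by rw [hxe, h1]
        _ = v * ((z : G)⁻¹ * x) := by group
    have hzx := H.mul_mem (H.inv_mem hz) hx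
    have h3 : (z : G)⁻¹ * x = 1 :=
      (b.szb.fpf _ hzx v (b.szb.leZ v.2) h2).resolve_right hv1
    have h4 : (z : G) = x := inv_mul_eq_one.mp h3
    have h5 : z = ⟨x, hxN⟩ := Subtype.ext h4
    show (act E).rangeRestrict z = (act E).rangeRestrict ⟨x, hxN⟩
    rw [h5]
  · -- `N_X(X_r) ≤ N_X(HX)`
    intro r hr x hx hxr n hn
    obtain ⟨x₁, hx₁, rfl⟩ := mem_HX.mp hx
    obtain ⟨n₁, rfl⟩ := rangeRestrict_surj n
    rw [b.order_rr hx₁] at hxr
    obtain ⟨k, hk⟩ := hn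
    have h1 := b.mem_TT_rr hr hx₁ hxr (n := n₁) (k := k) hk.symm
    obtain ⟨c, hc, m, hm, hcm⟩ := mem_TT_iff.mp h1
    have hcN : c ∈ normalizer (E : Set G) := centralizer_le_normalizer _ hc
    have h2 : n₁ = (⟨c, hcN⟩ : normalizer (E : Set G)) * ⟨m, hm.2⟩ := Subtype.ext hcm
    rw [h2, map_mul, rr_one hc, one_mul]
    exact b.norm_HX hm.1
  · -- `q = 8`
    intro hE8
    rw [b.szb.cardZ] at hE8
    omega

/-- `N_G(E) = C_G(E) (M ∩ N_G(E))` -/
theorem normE [IsSimpleGroup G] (b : Dat p K R Q E H q) (hsec : SecKZ G) (h32 : 32 ≤ q) :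
    normalizer (E : Set G) =
      centralizer (E : Set G) ⊔ (normalizer (K : Set G) ⊓ normalizer (E : Set G)) := by
  refine le_antisymm ?_ (sup_le (centralizer_le_normalizer _) inf_le_right)
  intro n hn
  have hnor := b.normal_HX hsec h32
  have hfH := b.finite_H
  obtain ⟨r, hr, hrH⟩ := Nat.exists_prime_and_dvd (n := Nat.card H) (by rw [b.szb.cardH]; omega)
  have hrf : Fact r.Prime := ⟨hr⟩
  obtain ⟨⟨x, hxH⟩, hxr⟩ := exists_prime_orderOf_dvd_card' (G := H) r hrH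
  rw [Subgroup.orderOf_mk] at hxr
  have hxN : x ∈ normalizer (E : Set G) := (b.H_le_ME hxH).2
  have h1 := hnor.conj_mem _ (mem_HX.mpr ⟨⟨x, hxN⟩, hxH, rfl⟩) ((act E).rangeRestrict ⟨n, hn⟩)
  obtain ⟨z, hz, hzx⟩ := mem_HX.mp h1
  -- `z ∈ ⟨x⟩` since `H` is cyclic
  have hzr : orderOf (z : G) = r := by
    rw [← b.order_rr hz, hzx, orderOf_conj, b.order_rr (x := ⟨x, hxN⟩) hxH, ← hxr]
  have hcyc := b.szb.cyc
  have h2 : zpowers (⟨x, hxH⟩ : H) = zpowers (⟨z, hz⟩ : H) :=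
    zpowers_eq_of_cyclic (by rw [Subgroup.orderOf_mk, Subgroup.orderOf_mk, hxr, hzr])
  have h3 : (⟨z, hz⟩ : H) ∈ zpowers (⟨x, hxH⟩ : H) := by rw [h2]; exact mem_zpowers _
  obtain ⟨k, hk⟩ := h3
  have hzk : z = (⟨x, hxN⟩ : normalizer (E : Set G)) ^ k := Subtype.ext (by
    have := congrArg Subtype.val hk
    exact this.symm)
  exact b.mem_TT_rr hr hxH hxr (n := ⟨n, hn⟩) (x := ⟨x, hxN⟩) (k := k) (by
    rw [← hzx, hzk, map_zpow])

/-- the 2-elements of `M ∩ N_G(E)` centralise `E` -/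
theorem two_mem_M (b : Dat p K R Q E H q) {x : G} (hM : x ∈ normalizer (K : Set G))
    (hE : x ∈ normalizer (E : Set G)) (h2 : ∃ n : ℕ, x ^ 2 ^ n = 1) :
    x ∈ centralizer (E : Set G) := by
  obtain ⟨k, hk, y, hy, hky⟩ := mem_KY.mp (b.sz.inner x hM h2)
  obtain ⟨n, hn⟩ := h2
  have hn' : (k * y) ^ 2 ^ n = 1 := by rw [← hky]; exact hn
  obtain ⟨hk2, -⟩ := pow_eq_one_KY b.sz.inf hk hy hn'
  have hyC : y ∈ centralizer (E : Set G) := by
    rw [mem_centralizer_iff]
    intro e he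
    exact comm_KY e (b.E_le he) y hy
  have hkN : k ∈ normalizer (E : Set G) := by
    have : k = x * y⁻¹ := by rw [hky]; group
    rw [this]
    exact Subgroup.mul_mem _ hE (Subgroup.inv_mem _ (centralizer_le_normalizer _ hyC))
  have hkQ : k ∈ Q := mem_isSyl2 b.sylQ hk ⟨n, hk2⟩ (b.nK hk (forall_of_mem_normalizer hkN))
  rw [hky]
  exact Subgroup.mul_mem _ (b.Q_le_C hkQ) hyC

/-- `|N_G(E) : C_G(E)|` is odd -/
theorem two_mem [IsSimpleGroup G] (b : Dat p K R Q E H q) (hsec : SecKZ G) (h32 : 32 ≤ q) {x : G}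
    (hE : x ∈ normalizer (E : Set G)) (h2 : ∃ n : ℕ, x ^ 2 ^ n = 1) :
    x ∈ centralizer (E : Set G) := by
  obtain ⟨n, hn⟩ := h2
  have h1 : x ∈ TT K E := by
    have := b.normE hsec h32 ▸ hE
    exact this
  obtain ⟨c, hc, m, hm, hcm⟩ := mem_TT_iff.mp h1
  have hcN : c ∈ normalizer (E : Set G) := centralizer_le_normalizer _ hc
  have hxm : act E ⟨x, hE⟩ = act E ⟨m, hm.2⟩ := by
    have e1 : (⟨x, hE⟩ : normalizer (E : Set G)) = ⟨c, hcN⟩ * ⟨m, hm.2⟩ := Subtype.ext hcm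
    rw [e1, map_mul, (act_eq_one_iff (⟨c, hcN⟩ : normalizer (E : Set G))).mpr hc, one_mul]
  obtain ⟨a, b', hb', hab⟩ := Nat.exists_eq_two_pow_mul_odd (n := orderOf m) (orderOf_pos m).ne'
  have hmb : m ^ b' ∈ centralizer (E : Set G) := by
    refine b.two_mem_M (Subgroup.pow_mem _ hm.1 _) (Subgroup.pow_mem _ hm.2 _) ⟨a, ?_⟩
    rw [← pow_mul, mul_comm, ← hab, pow_orderOf_eq_one]
  have e1 : (act E ⟨x, hE⟩) ^ b' = 1 := by
    rw [hxm, ← map_pow]
    exact (act_eq_one_iff _).mpr hmb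
  have e2 : (act E ⟨x, hE⟩) ^ 2 ^ n = 1 := by
    rw [← map_pow]
    have : (⟨x, hE⟩ : normalizer (E : Set G)) ^ 2 ^ n = 1 := Subtype.ext hn
    rw [this, map_one]
  have e3 : act E ⟨x, hE⟩ = 1 := by
    rw [← orderOf_eq_one_iff]
    apply Nat.eq_one_of_dvd_coprimes (a := b') (b := 2 ^ n) _ (orderOf_dvd_of_pow_eq_one e1)
      (orderOf_dvd_of_pow_eq_one e2)
    exact (Nat.coprime_two_right.mpr hb').pow_right n
  exact (act_eq_one_iff _).mp e3

end Dat

/-! ### the same for `Sit` -/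

section

variable [Finite G] {S : Subgroup G}

omit [Finite G] in
theorem dat (s : CompSzDefs.Sit p K R Q E H S q) : Dat p K R Q E H q :=
  ⟨s.std, s.sz, s.szb, s.sylQ, s.sylR⟩

theorem normE [IsSimpleGroup G] (s : CompSzDefs.Sit p K R Q E H S q) (hsec : SecKZ G)
    (h32 : 32 ≤ q) : normalizer (E : Set G) =
      centralizer (E : Set G) ⊔ (normalizer (K : Set G) ⊓ normalizer (E : Set G)) :=
  (dat s).normE hsec h32

theorem two_mem [IsSimpleGroup G] (s : CompSzDefs.Sit p K R Q E H S q) (hsec : SecKZ G)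
    (h32 : 32 ≤ q) {x : G} (hE : x ∈ normalizer (E : Set G)) (h2 : ∃ n : ℕ, x ^ 2 ^ n = 1) :
    x ∈ centralizer (E : Set G) := (dat s).two_mem hsec h32 hE h2

theorem cop (s : CompSzDefs.Sit p K R Q E H S q) :
    (Nat.card H).Coprime (Nat.card (centralizer (E : Set G))) := (dat s).cop

theorem inv (s : CompSzDefs.Sit p K R Q E H S q) {L U : Subgroup G}
    (hL : L ≤ centralizer (E : Set G)) (hHL : ∀ x ∈ H, cj x L = L) (hU : U ≤ L)
    (hU2 : IsPGroup 2 U) (hHU : ∀ x ∈ H, ∀ u ∈ U, x * u * x⁻¹ ∈ U) :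
    ∃ P : Subgroup G, IsSyl2 L P ∧ U ≤ P ∧ ∀ x ∈ H, ∀ y ∈ P, x * y * x⁻¹ ∈ P :=
  (dat s).inv hL hHL hU hU2 hHU

end

end Cfsg.Agent.OddCyclic.CompSzSing
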