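import Mathlib
import Cfsg.Agent.OddCyclic.CompSzSing
import Cfsg.Agent.OddCyclic.CaseELayDefs

/-!
# S0342, component type, case E: the hypotheses of the layer theorem

* `cent_H` : `C_P(x) = R` for `1 ≠ x ∈ H`, `P` a 2-subgroup of `C_G(E)` containing `R`;
* `cent_R` : `C_P(t) = RQ` for `1 ≠ t ∈ R`;
* `layE` : `LayE P R Q E H q` for every `H`-invariant 2-subgroup `P ≥ S` of `C_G(E)`;
* `exists_P` : such a Sylow 2-subgroup of `C_G(E)` exists.
-/

set_option autoImplicit false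

namespace Cfsg.Agent.OddCyclic.CompSzLay

open Subgroup
open Cfsg.Agent.LieExceptional Cfsg.Agent.LieExceptional.CITDefs
open Cfsg.Agent.OddCyclic.CompStandard Cfsg.Agent.OddCyclic.CaseESz Cfsg.Agent.OddCyclic.CompSzSing
open Cfsg.Agent.OddCyclic.CaseELayDefs

variable {G : Type*} [Group G] [Finite G] {p : ℕ} {K R Q E H S : Subgroup G} {q : ℕ}

/-- `C_P(x) = R` for `1 ≠ x ∈ H` -/
theorem cent_H (b : Dat p K R Q E H q) {P : Subgroup G} (hP : IsPGroup 2 P) (hRP : R ≤ P)
    (hPC : P ≤ centralizer (E : Set G)) {x : G} (hx : x ∈ H) (hx1 : x ≠ 1) {u : G} (hu : u ∈ P)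
    (hux : x * u = u * x) : u ∈ R := by
  have h1 : P ⊓ centralizer ({x} : Set G) = R := by
    refine b.eq_R (hP.to_le inf_le_left) ?_ (inf_le_left.trans hPC) hx hx1 ?_
    · intro r hr
      exact ⟨hRP hr, mem_centralizer_singleton_iff.mpr
        (mem_centralizer_iff.mp (b.sylR.le hr) x (b.szb.leH hx)).symm⟩
    · intro u hu
      exact mem_centralizer_singleton_iff.mp hu.2
  rw [← h1]
  exact ⟨hu, mem_centralizer_singleton_iff.mpr hux.symm⟩

omit [Finite G] in
theorem comm_RQ (b : Dat p K R Q E H q) {r k : G} (hr : r ∈ R) (hk : k ∈ K) : r * k = k * r :=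
  (mem_centralizer_iff.mp (b.sylR.le hr) k hk).symm

/-- `C_P(t) = RQ` for `1 ≠ t ∈ R` -/
theorem cent_R (s : CompSzDefs.Sit p K R Q E H S q) {P : Subgroup G} (hP : IsPGroup 2 P) (hSP : S ≤ P)
    {t : G} (ht : t ∈ R) (ht1 : t ≠ 1) {x : G} (hx : x ∈ P) (hxt : x * t = t * x) :
    ∃ r ∈ R, ∃ y ∈ Q, x = r * y := by
  rw [← s.mem_S]
  have h2 : orderOf t = 2 := orderOf_eq_prime (by rw [pow_two]; exact s.elemR t ht) ht1
  have h3 : centralizer ({t} : Set G) ≤ normalizer (K : Set G) :=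
    s.std.le_normalizer h2 (s.sylR.le ht)
  have h1 : P ⊓ centralizer ({t} : Set G) = S := by
    refine (s.sylS.max _ (inf_le_right.trans h3) (hP.to_le inf_le_left) ?_)
    intro y hy
    refine ⟨hSP hy, mem_centralizer_singleton_iff.mpr ?_⟩
    obtain ⟨r, hr, k, hk, rfl⟩ := (s.mem_S y).mp hy
    have e1 : t * k = k * t := comm_RQ (dat s) ht (s.szb.leQ hk)
    have e2 : r * t = t * r := Elem.comm s.elemR hr ht
    calc r * k * t = r * (k * t) := by group
      _ = r * t * k := by rw [← e1]; group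
      _ = t * (r * k) := by rw [e2]; group
  rw [← h1]
  exact ⟨hx, mem_centralizer_singleton_iff.mpr hxt⟩

/-- **the hypotheses of the layer theorem** -/
theorem layE (s : CompSzDefs.Sit p K R Q E H S q) (h32 : 32 ≤ q) {P : Subgroup G} (hP : IsPGroup 2 P)
    (hSP : S ≤ P) (hPC : P ≤ centralizer (E : Set G)) (hHP : ∀ h ∈ H, ∀ x ∈ P, h * x * h⁻¹ ∈ P) :
    LayE P R Q E H q := by
  have b := dat s
  have hRS : R ≤ S := fun r hr => (s.mem_S r).mpr ⟨r, hr, 1, one_mem _, (mul_one r).symm⟩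
  have hQS : Q ≤ S := fun y hy => (s.mem_S y).mpr ⟨1, one_mem _, y, hy, (one_mul y).symm⟩
  exact
    { two := hP
      leR := hRS.trans hSP
      leQ := hQS.trans hSP
      leE := s.szb.leZ
      elemR := s.elemR
      bigR := s.four
      big := by omega
      cardE := s.szb.cardZ
      cardH := s.szb.cardH
      cen := fun e he x hx => mem_centralizer_iff.mp (hPC hx) e he
      commRQ := fun r hr y hy => comm_RQ b hr (s.szb.leQ hy)
      disj := by
        rw [eq_bot_iff, ← s.sz.inf]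
        exact fun x hx => ⟨s.szb.leQ hx.2, s.sylR.le hx.1⟩
      mem_E := s.szb.mem_Z
      sq_mem := s.szb.sq_mem
      sq_inj := s.szb.sq_inj
      sq_surj := s.szb.sq_surj
      centQ := s.szb.centQ
      commH := fun h hh k hk => by
        have := s.szb.cyc
        have h1 := (IsCyclic.isMulCommutative (α := H)).is_comm.comm ⟨h, hh⟩ ⟨k, hk⟩
        exact congrArg Subtype.val h1
      normT := hHP
      normQ := s.szb.norm
      fixR := fun h hh r hr => (comm_RQ b hr (s.szb.leH hh)).symm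
      fpf := fun h hh hh1 x hx hc => cent_H b hP (hRS.trans hSP) hPC hh hh1 hx hc
      trans := s.szb.trans
      trans' := s.szb.trans'
      cent := fun t ht ht1 x hx hc => cent_R s hP hSP ht ht1 hx hc }

/-- an `H`-invariant Sylow 2-subgroup of `C_G(E)` containing `S` -/
theorem exists_P (s : CompSzDefs.Sit p K R Q E H S q) :
    ∃ P : Subgroup G, IsSyl2 (centralizer (E : Set G)) P ∧ S ≤ P ∧ ∀ h ∈ H, ∀ x ∈ P, h * x * h⁻¹ ∈ P := by
  have b := dat s
  refine inv s le_rfl (fun x hx => ?_) ?_ s.sylS.two ?_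
  · exact cj_eq_iff.mpr (b.H_norm_C hx)
  · intro x hx
    obtain ⟨r, hr, k, hk, rfl⟩ := (s.mem_S x).mp hx
    exact mul_mem (b.R_le_C hr) (b.Q_le_C hk)
  · intro h hh x hx
    obtain ⟨r, hr, k, hk, rfl⟩ := (s.mem_S x).mp hx
    refine (s.mem_S _).mpr ⟨r, hr, h * k * h⁻¹, s.szb.norm h hh k hk, ?_⟩
    have e1 : h * r = r * h := (comm_RQ b hr (s.szb.leH hh)).symm
    calc h * (r * k) * h⁻¹ = h * r * k * h⁻¹ := by group
      _ = r * (h * k * h⁻¹) := by rw [e1]; group

end Cfsg.Agent.OddCyclic.CompSzLay
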