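import Mathlib

/-!
# Cubic action of a 2-element on a module in characteristic two

`y` of odd order `n`, `s y s⁻¹ = y ^ k` with `k ^ 2 ≡ -1 mod n`, `(s - 1) ^ 3 = 0` on an elementary
abelian 2-group `W`: then `y` is trivial on `W` (0.3 of blueprint S0342-T0eq1).
-/

set_option autoImplicit false

namespace Cfsg.Agent.OddCyclic.Cubic

variable {D W : Type*} [Group D] [AddCommGroup W] [DistribMulAction D W]

/-- if `y ^ m` fixes `d` and `m` is prime to the order of `y` then `y` fixes `d` -/
theorem smul_eq_of_zpow {y : D} {n : ℕ} (hy : y ^ n = 1) {m : ℤ} (hm : IsCoprime m (n : ℤ))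
    {d : W} (h : y ^ m • d = d) : y • d = d := by
  obtain ⟨u, v, huv⟩ := hm
  have h1 : y ^ m ∈ MulAction.stabilizer D d := h
  have h2 : y = (y ^ m) ^ u * (y ^ (n : ℤ)) ^ v := by
    rw [← zpow_mul, ← zpow_mul, ← zpow_add]
    have : m * u + n * v = 1 := by rw [← huv]; ring
    rw [this, zpow_one]
  have h3 : y ∈ MulAction.stabilizer D d := by
    rw [h2, zpow_natCast, hy, one_zpow, mul_one]
    exact Subgroup.zpow_mem _ h1 u
  exact h3

/-- the norm -/
theorem norm_eq_zero {y : D} {n : ℕ} (hy : y ^ n = 1) (j : ℤ) (v : W) :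
    ∑ i ∈ Finset.range n, y ^ i • (y ^ j • v - v) = 0 := by
  have h1 : ∀ w : W, ∑ i ∈ Finset.range n, y ^ i • (y • w) = ∑ i ∈ Finset.range n, y ^ i • w := by
    intro w
    have e1 := Finset.sum_range_succ (fun i => y ^ i • w) n
    have e2 := Finset.sum_range_succ' (fun i => y ^ i • w) n
    rw [e1, hy, pow_zero] at e2
    have e3 := add_right_cancel e2
    rw [e3]
    refine Finset.sum_congr rfl fun i _ => ?_
    rw [smul_smul, pow_succ]
  have h2 : ∀ (j : ℤ) (w : W), ∑ i ∈ Finset.range n, y ^ i • (y ^ j • w) =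
      ∑ i ∈ Finset.range n, y ^ i • w := by
    intro j w
    induction j with
    | zero => simp
    | succ j ih =>
      rw [add_comm, zpow_add, zpow_one, mul_smul, h1, ih]
    | pred j ih =>
      rw [← h1 (y ^ (-(j : ℤ) - 1) • w), smul_smul y]
      have : y * y ^ (-(j : ℤ) - 1) = y ^ (-(j : ℤ)) := by
        rw [← zpow_one_add]; congr 1; ring
      rw [this, ih]
  simp only [smul_sub]
  rw [Finset.sum_sub_distrib, h2, sub_self]

/-- **Cubic lemma.** -/
theorem smul_eq [Finite W] (h2 : ∀ w : W, w + w = 0) {y s : D} {n : ℕ} (hn : Odd n)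
    (hy : y ^ n = 1) {k : ℤ} (hs : s * y * s⁻¹ = y ^ k) (hk : (n : ℤ) ∣ k * k + 1)
    (hcub : ∀ w : W, w + s • w + s • s • w + s • s • s • w = 0) (w : W) : y • w = w := by
  have hneg : ∀ w : W, -w = w := fun w => neg_eq_of_add_eq_zero_left (h2 w)
  have hsub : ∀ a b : W, a - b = a + b := fun a b => by rw [sub_eq_add_neg, hneg]
  have heq : ∀ {a b : W}, a + b = 0 → a = b := fun {a b} h => by
    rw [← hsub] at h; exact sub_eq_zero.1 h
  -- `W0 = [W, ⟨y⟩]`
  let W0 : AddSubgroup W := AddSubgroup.closure {d | ∃ (j : ℤ) (v : W), d = y ^ j • v - v}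
  have hgen : ∀ (j : ℤ) (v : W), y ^ j • v - v ∈ W0 := fun j v =>
    AddSubgroup.subset_closure ⟨j, v, rfl⟩
  -- fixed-point-free
  have hfpf : ∀ d ∈ W0, y • d = d → d = 0 := by
    intro d hd hyd
    have h1 : ∑ i ∈ Finset.range n, y ^ i • d = 0 := by
      clear hyd
      induction hd using AddSubgroup.closure_induction with
      | mem d hd => obtain ⟨j, v, rfl⟩ := hd; exact norm_eq_zero hy j v
      | zero => simp
      | add a b _ _ ha hb => simp only [smul_add]; rw [Finset.sum_add_distrib, ha, hb, add_zero]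
      | neg a _ ha => simp only [smul_neg]; rw [Finset.sum_neg_distrib, ha, neg_zero]
    have h3 : ∀ i : ℕ, y ^ i • d = d := by
      intro i
      induction i with
      | zero => simp
      | succ i ih => rw [pow_succ, mul_smul, hyd, ih]
    simp only [h3] at h1
    rw [Finset.sum_const, Finset.card_range] at h1
    obtain ⟨m, hm⟩ := hn
    rw [hm, add_nsmul, one_nsmul, mul_nsmul', two_nsmul, h2, zero_add] at h1
    exact h1
  -- invariance
  have hinv : ∀ {g : D}, (∃ l : ℤ, g * y * g⁻¹ = y ^ l) → ∀ d ∈ W0, g • d ∈ W0 := by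
    rintro g ⟨l, hl⟩ d hd
    induction hd using AddSubgroup.closure_induction with
    | mem d hd =>
      obtain ⟨j, v, rfl⟩ := hd
      have e : g • (y ^ j • v - v) = y ^ (l * j) • (g • v) - g • v := by
        rw [smul_sub, smul_smul, smul_smul]
        congr 2
        rw [zpow_mul, ← hl]
        rw [conj_zpow]; group
      rw [e]; exact hgen _ _
    | zero => rw [smul_zero]; exact W0.zero_mem
    | add a b _ _ ha hb => rw [smul_add]; exact W0.add_mem ha hb
    | neg a _ ha => rw [smul_neg]; exact W0.neg_mem ha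
  have hW0s : ∀ d ∈ W0, s • d ∈ W0 := hinv ⟨k, hs⟩
  have hW0y : ∀ (j : ℤ), ∀ d ∈ W0, y ^ j • d ∈ W0 := fun j => hinv ⟨1, by group⟩
  -- relations
  have hsy : ∀ (j : ℤ) (c : W), s • y ^ j • c = y ^ (k * j) • s • c := by
    intro j c
    rw [smul_smul, smul_smul]
    congr 1
    rw [zpow_mul, ← hs, conj_zpow]; group
  have hkk : ∀ j : ℤ, y ^ (k * (k * j)) = y ^ (-j) := by
    intro j
    obtain ⟨m, hm⟩ := hk
    have : k * (k * j) = -j + (n : ℤ) * (m * j) := by
      have : k * k = n * m - 1 := by rw [← hm]; ring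
      rw [← mul_assoc, this]; ring
    rw [this, zpow_add, zpow_mul y (n : ℤ), zpow_natCast, hy, one_zpow, mul_one]
  have hty : ∀ (j : ℤ) (c : W), s • s • y ^ j • c = y ^ (-j) • s • s • c := by
    intro j c
    rw [hsy, hsy, hkk]
  -- fixed points of `t = s ^ 2` on `W0`
  let C : Set W := {c | c ∈ W0 ∧ s • s • c = c}
  have hCy : ∀ c ∈ C, y • c + y⁻¹ • c ∈ C := by
    rintro c ⟨hc0, hc⟩
    refine ⟨W0.add_mem ?_ ?_, ?_⟩
    · have := hW0y 1 c hc0; rwa [zpow_one] at this
    · have := hW0y (-1) c hc0; rwa [zpow_neg_one] at this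
    · have e1 := hty 1 c
      have e2 := hty (-1) c
      rw [hc, zpow_one, zpow_neg_one] at e1
      rw [hc, zpow_neg_one, neg_neg, zpow_one] at e2
      rw [smul_add, smul_add, e1, e2, add_comm]
  have hsurj : ∀ c ∈ C, ∃ c' ∈ C, y • c' + y⁻¹ • c' = c := by
    have hinj : Function.Injective (fun c : C => (⟨y • (c : W) + y⁻¹ • (c : W), hCy c c.2⟩ : C)) := by
      intro a b hab
      have h1 : y • (a : W) + y⁻¹ • (a : W) = y • (b : W) + y⁻¹ • (b : W) := congrArg Subtype.val hab
      set d := (a : W) - b with hd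
      have hdW : d ∈ W0 := W0.sub_mem a.2.1 b.2.1
      have h3 : y • d + y⁻¹ • d = 0 := by
        rw [hd, smul_sub, smul_sub]
        have : y • (a : W) - y • (b : W) + (y⁻¹ • (a : W) - y⁻¹ • (b : W)) =
            (y • (a : W) + y⁻¹ • (a : W)) - (y • (b : W) + y⁻¹ • (b : W)) := by abel
        rw [this, h1, sub_self]
      have h4 : y ^ (2 : ℤ) • d = d := by
        have h5 := congrArg (fun e => y • e) (heq h3)
        simp only [smul_inv_smul] at h5
        rw [smul_smul] at h5
        rw [zpow_two]; exact h5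
      have hcop : IsCoprime (2 : ℤ) (n : ℤ) := by
        obtain ⟨m, hm⟩ := hn
        exact ⟨-m, 1, by rw [hm]; push_cast; ring⟩
      have h6 := hfpf d hdW (smul_eq_of_zpow hy hcop h4)
      exact Subtype.ext (sub_eq_zero.1 h6)
    intro c hc
    have hfin : Finite C := inferInstance
    obtain ⟨c', hc'⟩ := (Finite.injective_iff_surjective.1 hinj) ⟨c, hc⟩
    exact ⟨c', c'.2, congrArg Subtype.val hc'⟩
  have hsC : ∀ c ∈ C, s • c = c := by
    intro c hc
    obtain ⟨c', hc', rfl⟩ := hsurj c hc
    have h1 := hcub (y • c')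
    have e1 := hty 1 c'
    rw [hc'.2, zpow_one, zpow_neg_one] at e1
    -- e1 : s • s • y • c' = y⁻¹ • c'
    rw [e1] at h1
    -- y c' + s y c' + y⁻¹ c' + s y⁻¹ c' = 0
    have h3 : (y • c' + y⁻¹ • c') + s • (y • c' + y⁻¹ • c') = 0 := by
      rw [smul_add, ← h1]; abel
    exact (heq h3).symm
  have hC0 : ∀ c ∈ C, c = 0 := by
    intro c hc
    have hsc := hsC c hc
    have h1 := hcub (y • c)
    have e1 : s • y • c = y ^ k • c := by
      have := hsy 1 c
      rwa [zpow_one, mul_one, hsc] at this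
    have e2 : s • s • y • c = y ^ (-1 : ℤ) • c := by
      have := hty 1 c
      rwa [zpow_one, hsc, hsc] at this
    have e3 : s • s • s • y • c = y ^ (-k) • c := by
      rw [e1, hty, hsc, hsc]
    rw [e3, e2, e1] at h1
    -- multiply by y ^ k
    set d := y ^ (k + 1) • c + c with hd
    have h4 : y ^ (k - 1) • d = d := by
      have h5 := congrArg (fun e => y ^ k • e) h1
      simp only [smul_add, smul_zero] at h5
      have f1 : y ^ k • y • c = y ^ (k + 1) • c := by
        rw [smul_smul, ← zpow_add_one]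
      have f2 : y ^ k • y ^ k • c = y ^ (k - 1) • y ^ (k + 1) • c := by
        rw [smul_smul, smul_smul, ← zpow_add, ← zpow_add]; congr 2; ring
      have f3 : y ^ k • y ^ (-1 : ℤ) • c = y ^ (k - 1) • c := by
        rw [smul_smul, ← zpow_add]; congr 2
      have f4 : y ^ k • y ^ (-k) • c = c := by
        rw [smul_smul, ← zpow_add, add_neg_cancel, zpow_zero, one_smul]
      rw [f1, f2, f3, f4] at h5
      apply heq
      rw [hd, smul_add, ← h5]; abel
    have hkm : IsCoprime (k - 1) (n : ℤ) := by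
      obtain ⟨m, hm⟩ := hk
      obtain ⟨r, hr⟩ := hn
      -- (k-1)(k+1) = nm - 2, n = 2r+1
      have e : (k - 1) * (k + 1) = n * m - 2 := by
        have : (k - 1) * (k + 1) = k * k + 1 - 2 := by ring
        rw [this, hm]
      refine ⟨(k + 1) * r, 1 - m * r, ?_⟩
      have hn' : (n : ℤ) = 2 * r + 1 := by rw [hr]; push_cast; ring
      calc (k + 1) * r * (k - 1) + (1 - m * r) * n
          = ((k - 1) * (k + 1)) * r + n - n * m * r := by ring
        _ = (n * m - 2) * r + n - n * m * r := by rw [e]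
        _ = n - 2 * r := by ring
        _ = 1 := by rw [hn']; ring
    have hkp : IsCoprime (k + 1) (n : ℤ) := by
      obtain ⟨m, hm⟩ := hk
      obtain ⟨r, hr⟩ := hn
      have e : (k - 1) * (k + 1) = n * m - 2 := by
        have : (k - 1) * (k + 1) = k * k + 1 - 2 := by ring
        rw [this, hm]
      refine ⟨(k - 1) * r, 1 - m * r, ?_⟩
      have hn' : (n : ℤ) = 2 * r + 1 := by rw [hr]; push_cast; ring
      calc (k - 1) * r * (k + 1) + (1 - m * r) * n
          = ((k - 1) * (k + 1)) * r + n - n * m * r := by ring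
        _ = (n * m - 2) * r + n - n * m * r := by rw [e]
        _ = n - 2 * r := by ring
        _ = 1 := by rw [hn']; ring
    have hdW : d ∈ W0 := W0.add_mem (hW0y _ c hc.1) hc.1
    have h6 := hfpf d hdW (smul_eq_of_zpow hy hkm h4)
    have h7 : y ^ (k + 1) • c = c := heq h6
    exact hfpf c hc.1 (smul_eq_of_zpow hy hkp h7)
  -- W0 = 0
  have hW0 : ∀ d ∈ W0, d = 0 := by
    intro d hd
    have h1 : s • s • d + d ∈ C := by
      refine ⟨W0.add_mem (hW0s _ (hW0s _ hd)) hd, ?_⟩
      -- (s^2 - 1)^2 = (s-1)^4 = 0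
      have h3 := hcub d
      have h4 := congrArg (fun e => s • e) h3
      simp only [smul_add, smul_zero] at h4
      -- s d + s s d + sss d + ssss d = 0
      have h5 : d + s • s • s • s • d = 0 := by
        have h6 : (d + s • d + s • s • d + s • s • s • d) +
            (s • d + s • s • d + s • s • s • d + s • s • s • s • d) = 0 := by
          rw [h3, h4, add_zero]
        have h7 : (d + s • d + s • s • d + s • s • s • d) +
            (s • d + s • s • d + s • s • s • d + s • s • s • s • d) =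
            (d + s • s • s • s • d) + ((s • d + s • d) + (s • s • d + s • s • d) +
              (s • s • s • d + s • s • s • d)) := by abel
        rw [h7, h2 (s • d), h2 (s • s • d), h2 (s • s • s • d)] at h6
        simpa using h6
      rw [smul_add, smul_add]
      rw [add_comm, ← heq h5, add_comm]
    have h3 := hC0 _ h1
    exact hC0 d ⟨hd, heq h3⟩
  have h := hW0 _ (hgen 1 w)
  rw [zpow_one] at h
  exact sub_eq_zero.1 h

end Cfsg.Agent.OddCyclic.Cubic
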