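import Cfsg.Agent.OddCyclic.RedFam
import Cfsg.Agent.OddCyclic.COneXL
import Cfsg.Agent.OddCyclic.L2Borel

/-!
# S0342, (C2), 2.2: the case `SL₂(q)`, uniformly for all offenders

`LinA ρ 𝒜 L F`: `L ⊴ H`, `L = SL₂(F)`, `V/C_V(L)` natural, all members `≠ 1` of `𝒜` are Sylow 2-subgroups of `L`.
-/

set_option autoImplicit false
set_option linter.unusedSectionVars false

namespace Cfsg.Agent.OddCyclic.RedLinA

open Subgroup
open Cfsg.Agent.OddCyclic.T1Module Cfsg.Agent.OddCyclic.FFBasic Cfsg.Agent.OddCyclic.FFRed Cfsg.Agent.OddCyclic.FFSl2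
open Cfsg.Agent.OddCyclic.RedFFDefs Cfsg.Agent.OddCyclic.RedFam
open Cfsg.Agent.OddCyclic.COneXL (alt mem_alt simple_alt card_alt isNat_of_lin fpf_of_nat card_ne)
open Cfsg.Agent.OddCyclic.COneXB (simple_inf)
open Cfsg.Agent.OddCyclic.T1Defs (OddCyc)
open Matrix (SpecialLinearGroup)
open Equiv (swap)

universe u

variable {H : Type u} [Group H] {V : Type u} [CommGroup V]

/-- the output of the case `SL₂(q)` -/
structure LinA (ρ : H →* MulAut V) (𝒜 : Set (Subgroup H)) (L : Subgroup H) (F : Type) [Field F] [Fintype F]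
    [CharP F 2] (e : L ≃* SpecialLinearGroup (Fin 2) F) : Prop where
  normal : L.Normal
  four : 4 ≤ Fintype.card F
  nat : IsNat (ρ.comp (L.subtype.comp e.symm.toMonoidHom))
  idx : (CS ρ L).index = Fintype.card F ^ 2
  fpf : ∀ y ∈ L, Odd (orderOf y) → y ≠ 1 → fx ρ y ≤ CS ρ L
  all : ∀ A ∈ 𝒜, A ≠ ⊥ → A ≤ L ∧ Nat.card A = Fintype.card F ∧ (CS ρ A).index = Fintype.card F ∧
    ∀ a ∈ A, a ≠ 1 → fx ρ a = CS ρ A
  ex : ∃ A ∈ 𝒜, A ≠ ⊥

/-- elements acting trivially on `V / C_V(L)` centralise `L` -/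
theorem cent_of_quot {ρ : H →* MulAut V} (hinj : Function.Injective ρ) {L : Subgroup H} (hL : L.Normal)
    (hLs : IsSimpleGroup L) (hna : ∃ x y : L, x * y ≠ y * x) {t : H} (ht : ∀ v, ρ t v * v⁻¹ ∈ CS ρ L) :
    t ∈ centralizer (L : Set H) := by
  have hinv := COneXA.inv_CS (ρ := ρ) hL
  have hn := COneXA.KQ_normal hinv
  have ht' : t ∈ COneXA.KQ ρ (CS ρ L) hinv := ht
  rcases simple_inf hLs hn with h1 | h1
  · rw [mem_centralizer_iff]
    intro l hl
    have h2 : l * t * l⁻¹ * t⁻¹ ∈ COneXA.KQ ρ (CS ρ L) hinv ⊓ L := by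
      refine ⟨Subgroup.mul_mem _ (hn.conj_mem t ht' l) (Subgroup.inv_mem _ ht'), ?_⟩
      have e : l * t * l⁻¹ * t⁻¹ = l * (t * l⁻¹ * t⁻¹) := by group
      rw [e]
      exact mul_mem hl (hL.conj_mem _ (inv_mem hl) t)
    rw [h1, mem_bot] at h2
    calc l * t = (l * t * l⁻¹ * t⁻¹) * (t * l) := by group
      _ = t * l := by rw [h2, one_mul]
  · exfalso
    obtain ⟨x, y, hxy⟩ := hna
    apply hxy
    apply Subtype.ext
    change (x : H) * y = y * x
    have key : ∀ a ∈ L, ∀ b ∈ L, ∀ v, ρ (a * b) v = (ρ a v * v⁻¹) * (ρ b v * v⁻¹) * v := by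
      intro a ha b hb v
      have h3 : ρ a (ρ b v * v⁻¹) = ρ b v * v⁻¹ := h1 hb v a ha
      rw [map_mul (ρ a), map_inv (ρ a)] at h3
      rw [map_mul, MulAut.mul_apply]
      calc ρ a (ρ b v) = (ρ a (ρ b v) * (ρ a v)⁻¹) * ρ a v := by group
        _ = (ρ b v * v⁻¹) * ρ a v := by rw [h3]
        _ = (ρ b v * v⁻¹) * (ρ a v * v⁻¹) * v := by group
        _ = (ρ a v * v⁻¹) * (ρ b v * v⁻¹) * v := by rw [mul_comm (ρ b v * v⁻¹)]
    apply hinj
    ext v
    rw [key x x.2 y y.2 v, key y y.2 x x.2 v, mul_comm (ρ (x : H) v * v⁻¹)]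

variable {ρ : H →* MulAut V} {T : Subgroup H} {𝒜 : Set (Subgroup H)}

/-- the output of FFC in the case `S₅` is incompatible with a normal subgroup on which the odd elements act without
fixed points -/
theorem false_of_five [Finite H] [Finite V] (hc : OddCyc H) (hinj : Function.Injective ρ) {L : Subgroup H}
    (hL : L.Normal) (hLs : IsSimpleGroup L) (h3 : 3 ∣ Nat.card L)
    (hfpf : ∀ y ∈ L, Odd (orderOf y) → y ≠ 1 → fx ρ y ≤ CS ρ L) {K : Subgroup H} (e : K ≃* Equiv.Perm (Fin 5))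
    (hn : (alt K e).Normal) (h2 : ∀ i j : Fin 5, i ≠ j → (fx ρ (e.symm (swap i j) : H)).index = 2) : False := by
  have hLe : alt K e = L := simple_unique hc hn hL simple_alt hLs (by rw [card_alt]; norm_num) h3
  obtain ⟨t, ht⟩ : ∃ t : K, t = e.symm (swap 0 1) := ⟨_, rfl⟩
  obtain ⟨y, hy⟩ : ∃ y : K, y = e.symm (swap 2 3 * swap 3 4) := ⟨_, rfl⟩
  have hty : t * y = y * t := by
    rw [ht, hy, ← map_mul, ← map_mul]
    congr 1
    decide
  have hyL : (y : H) ∈ L := by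
    rw [← hLe, mem_alt y.2]
    have : e ⟨y, y.2⟩ = swap 2 3 * swap 3 4 := by rw [hy]; exact e.apply_symm_apply _
    rw [this, Equiv.Perm.mem_alternatingGroup, map_mul, Equiv.Perm.sign_swap (by decide),
      Equiv.Perm.sign_swap (by decide)]
    rfl
  have hy3 : orderOf (y : H) = 3 := by
    rw [Subgroup.orderOf_coe, hy, MulEquiv.orderOf_eq]
    exact orderOf_eq_prime (p := 3) (by decide) (by decide)
  have hy1 : (y : H) ≠ 1 := by
    intro h0
    rw [h0, orderOf_one] at hy3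
    omega
  have hfy := hfpf y hyL (by rw [hy3]; decide) hy1
  have htX : (t : H) * y = y * t := congrArg Subtype.val hty
  have htr : Nat.card (cm ρ (t : H)).range = 2 := by
    rw [card_range_cm, ht]
    exact h2 0 1 (by decide)
  have hKQ : ∀ v, ρ (t : H) v * v⁻¹ ∈ CS ρ L := by
    intro v
    apply hfy
    change ρ (y : H) (ρ (t : H) v * v⁻¹) = ρ (t : H) v * v⁻¹
    have hc : ρ (t : H) v * v⁻¹ ∈ (cm ρ (t : H)).range := ⟨v, cm_apply _ _ _⟩
    have hc' : ρ (y : H) (ρ (t : H) v * v⁻¹) ∈ (cm ρ (t : H)).range :=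
      apply_mem_range ρ (z := (y : H)) htX.symm hc
    by_cases h1 : ρ (t : H) v * v⁻¹ = 1
    · rw [h1, map_one]
    · rcases COneXA.eq_or_of_card_two htr hc h1 hc' with h3 | h3
      · exact absurd ((map_eq_one_iff _ (ρ (y : H)).injective).1 h3) h1
      · exact h3
  have hna : ∃ x y : L, x * y ≠ y * x := by rw [← hLe]; exact COneXL.alt_ncomm
  have h4 := cent_of_quot hinj hL hLs hna hKQ
  -- `t` centralises `(0 1 2)`
  obtain ⟨w, hw⟩ : ∃ w : K, w = e.symm (swap 0 1 * swap 1 2) := ⟨_, rfl⟩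
  have hwL : (w : H) ∈ L := by
    rw [← hLe, mem_alt w.2]
    have : e ⟨w, w.2⟩ = swap 0 1 * swap 1 2 := by rw [hw]; exact e.apply_symm_apply _
    rw [this, Equiv.Perm.mem_alternatingGroup, map_mul, Equiv.Perm.sign_swap (by decide),
      Equiv.Perm.sign_swap (by decide)]
    rfl
  have h5 := mem_centralizer_iff.1 h4 _ hwL
  have h6 : w * t = t * w := Subtype.ext h5
  rw [ht, hw, ← map_mul, ← map_mul] at h6
  have h7 := e.symm.injective h6
  revert h7
  decide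

theorem three_dvd_sl2 (F : Type) [Field F] [Fintype F] [CharP F 2] :
    3 ∣ Nat.card (SpecialLinearGroup (Fin 2) F) := by
  rw [T1Sl2.card_sl2]
  obtain ⟨n, hn, hq⟩ := T1Sl2.card_pow F
  rw [hq]
  have h1 : 3 ∣ (2 ^ n + 1) * (2 ^ n - 1) := by
    have h2 : (2 ^ n + 1) * (2 ^ n - 1) = 4 ^ n - 1 := by
      have h3 : (2 ^ n + 1) * (2 ^ n - 1) = (2 ^ n) ^ 2 - 1 ^ 2 := (Nat.sq_sub_sq _ _).symm
      rw [h3, ← pow_mul, mul_comm, pow_mul]
      norm_num
    rw [h2]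
    have h3 := Nat.sub_dvd_pow_sub_pow 4 1 n
    rwa [one_pow] at h3
  obtain ⟨c, hc⟩ := h1
  exact ⟨c * 2 ^ n, by linear_combination (2 ^ n) * hc⟩

/-- **the case `SL₂(q)`** -/
theorem exists_linA [Finite H] [Finite V] (h : Fam ρ T 𝒜) {A : Subgroup H} (hA : A ∈ 𝒜) (hA1 : A ≠ ⊥)
    (hl : OutLin ρ A) : ∃ (L : Subgroup H) (F : Type) (_ : Field F) (_ : Fintype F) (_ : CharP F 2)
      (e : L ≃* SpecialLinearGroup (Fin 2) F), LinA ρ 𝒜 L F e := by
  obtain ⟨L, hL, hAL, F, _, _, hchar, h4, ⟨e⟩, hcA, hiL, hiA, hfix⟩ := hl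
  have hn := isNat_of_lin h.sq h.inj (h.bo A hA).sq hAL h4 e hcA hiA
  have hfpf : ∀ y ∈ L, Odd (orderOf y) → y ≠ 1 → fx ρ y ≤ CS ρ L := fun y hy ho hy1 => fpf_of_nat e hn hy ho hy1
  have hLs : IsSimpleGroup L := by
    have := isSimpleGroup_sl2 (F := F) h4
    exact e.isSimpleGroup
  have h3L : 3 ∣ Nat.card L := by
    rw [Nat.card_congr e.toEquiv]
    exact three_dvd_sl2 F
  have h2L : Fintype.card F ∣ Nat.card L := by
    rw [← hcA]; exact Subgroup.card_dvd_of_le hAL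
  refine ⟨L, F, inferInstance, inferInstance, hchar, e, hL, h4, hn, hiL, hfpf, ?_, ⟨A, hA, hA1⟩⟩
  intro B hB hB1
  rcases h.out B hB hB1 with h5 | h5 | h5 | h5
  · exfalso
    obtain ⟨y, hy3, hyn, -⟩ := h5
    have h6 := card_eq_three_of h.cyc hL hLs h3L hy3 hyn
    rw [h6] at h2L
    have h7 := Nat.le_of_dvd (by norm_num) h2L
    omega
  · obtain ⟨L', hL', hBL, F', _, _, hchar', h4', ⟨e'⟩, hcB, hiL', hiB, hfix'⟩ := h5
    have hLs' : IsSimpleGroup L' := by
      have := isSimpleGroup_sl2 (F := F') h4'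
      exact e'.isSimpleGroup
    have h3L' : 3 ∣ Nat.card L' := by
      rw [Nat.card_congr e'.toEquiv]
      exact three_dvd_sl2 F'
    have hLL := simple_unique h.cyc hL hL' hLs hLs' h3L h3L'
    subst hLL
    have hq : Fintype.card F' = Fintype.card F := by
      rw [hiL] at hiL'
      exact (Nat.pow_left_injective (n := 2) (by norm_num) hiL').symm
    rw [hq] at hcB hiB
    exact ⟨hBL, hcB, hiB, hfix'⟩
  · exfalso
    obtain ⟨K, hBK, e', hn', h2, -⟩ := h5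
    exact false_of_five h.cyc h.inj hL hLs h3L hfpf e' hn' h2
  · exfalso
    obtain ⟨L', hL', hBL, hLs', h168⟩ := h5
    have hLL := simple_unique h.cyc hL hL' hLs hLs' h3L (by rw [h168]; norm_num)
    rw [← hLL, Nat.card_congr e.toEquiv] at h168
    exact card_ne F h4 h168

end Cfsg.Agent.OddCyclic.RedLinA
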