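import Cfsg.Agent.OddCyclic.Om5EndS
import Cfsg.Agent.OddCyclic.FFThree
import Cfsg.Agent.OddCyclic.B2Pgl
import Cfsg.Agent.OddCyclic.PGLTorus

/-!
# (Omega5): the offender `F` and `L ≅ SL₂(4)`, `L₂(7)`
-/

set_option autoImplicit false
set_option linter.unusedSectionVars false

namespace Cfsg.Agent.OddCyclic.Om5

open Subgroup Matrix
open Cfsg.Agent.OddCyclic.T1Defs (OddCyc)
open Cfsg.Agent.OddCyclic.FFBasic Cfsg.Agent.OddCyclic.T1Module Cfsg.Agent.OddCyclic.FFRed

variable {X V : Type*} [Group X] [CommGroup V] {ρ : X →* MulAut V}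

theorem Off.false_of_card {F : Subgroup X} (h : Off ρ F) (h4 : ∀ A ≤ F, Nat.card A ≤ 4) : False := by
  apply h.ne
  rw [eq_bot_iff]
  apply h.gen
  intro A hA hA8 _
  have := h4 A hA
  omega

theorem ac_injective {L : Subgroup X} [L.Normal] {F : Type*} [Field F] [Fintype F] [CharP F 2]
    (e : SpecialLinearGroup (Fin 2) F ≃* L) (hC : centralizer (L : Set X) = ⊥) :
    Function.Injective (FFOuter.ac e) := by
  rw [injective_iff_map_eq_one]
  intro x hx
  rw [← map_one (FFOuter.ac e), FFOuter.ac_eq_iff] at hx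
  have h1 : x ∈ centralizer (L : Set X) := by
    rw [mem_centralizer_iff]
    intro l hl
    have h2 := hx l hl
    rw [one_mul, inv_one, mul_one, mul_inv_eq_iff_eq_mul] at h2
    exact h2.symm
  rw [hC, mem_bot] at h1
  exact h1

/-- `L ≅ SL₂(4)` -/
theorem card_le_four {L : Subgroup X} [L.Normal] {F : Type*} [Field F] [Fintype F] [CharP F 2]
    (hF : Fintype.card F = 4) (e : SpecialLinearGroup (Fin 2) F ≃* L) (hC : centralizer (L : Set X) = ⊥)
    {A : Subgroup X} (hA : ∀ a ∈ A, a * a = 1) : Nat.card A ≤ 4 := by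
  have h1 : Nat.card (Sylow 2 (SpecialLinearGroup (Fin 2) F)) = 5 := by rw [FFOuter.card_syl, hF]
  have hfin : Finite (Sylow 2 (SpecialLinearGroup (Fin 2) F)) := Nat.finite_of_card_ne_zero (by rw [h1]; norm_num)
  let g : Sylow 2 (SpecialLinearGroup (Fin 2) F) ≃ Fin 5 := Finite.equivFinOfCardEq h1
  let ψ : X →* Equiv.Perm (Fin 5) := g.permCongrHom.toMonoidHom.comp
    ((MulAction.toPermHom (MulAut (SpecialLinearGroup (Fin 2) F)) (Sylow 2 (SpecialLinearGroup (Fin 2) F))).comp
      (FFOuter.ac e))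
  have hψ : Function.Injective ψ := by
    rw [injective_iff_map_eq_one]
    intro x hx
    have h2 : (MulAction.toPermHom (MulAut (SpecialLinearGroup (Fin 2) F)) (Sylow 2 (SpecialLinearGroup (Fin 2) F)))
        (FFOuter.ac e x) = 1 := by
      apply g.permCongrHom.injective
      rw [map_one]
      exact hx
    have h3 : FFOuter.ac e x = 1 := by
      apply FFOuter.eq_one_of_syl
      intro U
      exact DFunLike.congr_fun h2 U
    exact (injective_iff_map_eq_one _).1 (ac_injective e hC) x h3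
  have h2 : Nat.card (A.map ψ) ≤ 4 := by
    apply perm_elem
    rintro _ ⟨a, ha, rfl⟩
    rw [← map_mul, hA a ha, map_one]
  rwa [Subgroup.card_map_of_injective hψ] at h2

theorem eq_one_of_comm_sl2 {L : Subgroup X} {F : Type*} [Field F] [Fintype F] [CharP F 2]
    (e : SpecialLinearGroup (Fin 2) F ≃* L) {g : X} (hg : g ∈ L) (h : ∀ l ∈ L, l * g = g * l) : g = 1 := by
  obtain ⟨s, hs⟩ := e.surjective ⟨g, hg⟩
  have h1 : s = 1 := by
    apply L2Model.eq_one_of_central
    intro y
    apply e.injective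
    apply Subtype.ext
    rw [map_mul, map_mul, hs]
    exact (h (e y) (e y).2).symm
  rw [h1, map_one] at hs
  exact (congrArg Subtype.val hs).symm

theorem isSimple_of_sl2 {L : Subgroup X} {F : Type*} [Field F] [Fintype F] [CharP F 2] (h4 : 4 ≤ Fintype.card F)
    (e : SpecialLinearGroup (Fin 2) F ≃* L) : IsSimpleGroup L := by
  have := isSimpleGroup_sl2 h4
  exact e.symm.isSimpleGroup

theorem CS_le_fx' {L : Subgroup X} {y : X} (hy : y ∈ L) : CS ρ L ≤ fx ρ y := fun _ hv => hv y hy

/-- the centraliser of `L ≅ SL₂(q)`, `|V : C_V(L)| ≤ q²` -/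
theorem Lam.kill_sl2 [Finite X] [Finite V] (hc : OddCyc X) (hV : ∀ v : V, v * v = 1) (hρ : Function.Injective ρ)
    {T : Sylow 2 X} {Λ : Subgroup V} {x s : X} {μ : V} (h : Lam ρ T Λ x s μ) {L : Subgroup X} [hL : L.Normal]
    {F : Type*} [Field F] [Fintype F] [CharP F 2] (h4 : 4 ≤ Fintype.card F)
    (e : SpecialLinearGroup (Fin 2) F ≃* L) (hidx : (CS ρ L).index ≤ Fintype.card F ^ 2) :
    x ∈ L ∧ centralizer (L : Set X) = ⊥ := by
  obtain ⟨f, hf, hF⟩ := T1Sl2.card_pow F
  have hcard : Nat.card L = Nat.card (SpecialLinearGroup (Fin 2) F) := (Nat.card_congr e.toEquiv).symm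
  have hs := isSimple_of_sl2 h4 e
  have hf2 : 2 ≤ f := by
    by_contra hcon
    have : f = 1 := by omega
    rw [hF, this] at h4
    norm_num at h4
  have h3 : 3 ∣ Nat.card L := by
    rw [hcard]
    apply dvd_card_of hF _ Nat.prime_three
    rw [pow_mul]
    have := Nat.sub_dvd_pow_sub_pow (2 ^ 2) 1 f
    rw [one_pow] at this
    exact this
  have hxL : x ∈ L := CompBasic.mem_of_orderOf hc Nat.prime_three (by norm_num) hL h3 h.ox
  refine ⟨hxL, ?_⟩
  -- the prime `l`
  obtain ⟨l, hl, hl2, hlL, hk⟩ : ∃ l : ℕ, l.Prime ∧ l ≠ 2 ∧ l ∣ Nat.card L ∧ ∀ k, 0 < k → k ≤ 2 * f → l ∣ 2 ^ k - 1 →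
      ∀ r, r.Prime → r ≠ 2 → r ∣ 2 ^ k - 1 → r ∣ Nat.card L := by
    by_cases hf3 : f = 3
    · subst hf3
      refine ⟨7, by norm_num, by norm_num, ?_, ?_⟩
      · rw [hcard]; exact dvd_card_of hF (by norm_num) (by norm_num)
      · intro k hk hk6 h7 r hr _ hrk
        have hk' : k = 3 ∨ k = 6 := by
          have : k = 1 ∨ k = 2 ∨ k = 3 ∨ k = 4 ∨ k = 5 ∨ k = 6 := by omega
          rcases this with rfl | rfl | rfl | rfl | rfl | rfl
          · norm_num at h7
          · norm_num at h7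
          · left; rfl
          · norm_num at h7
          · norm_num at h7
          · right; rfl
        rw [hcard]
        refine dvd_card_of hF ?_ hr
        refine hrk.trans ?_
        rcases hk' with rfl | rfl <;> norm_num
    · obtain ⟨l, hl, hl1, -, hl3⟩ := Lib.Zsigmondy.exists_primitive (a := 2) (n := 2 * f) le_rfl (by omega)
        (fun h => by omega) (fun h => by omega)
      refine ⟨l, hl, fun h => hl3 (by rw [h]), ?_, ?_⟩
      · rw [hcard]; exact dvd_card_of hF ((hl1 (2 * f)).2 dvd_rfl) hl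
      · intro k hk hk6 h7 r hr _ hrk
        have h8 : 2 * f ∣ k := (hl1 k).1 h7
        have h9 : k = 2 * f := le_antisymm hk6 (Nat.le_of_dvd hk h8)
        rw [hcard]
        refine dvd_card_of hF ?_ hr
        rwa [h9] at hrk
  have : Fact l.Prime := ⟨hl⟩
  obtain ⟨⟨y, hy⟩, hyo⟩ := exists_prime_orderOf_dvd_card' (G := L) l hlL
  rw [Subgroup.orderOf_mk] at hyo
  refine h.kill hc hV hρ hL hs hxL (fun g hg hgl => eq_one_of_comm_sl2 e hg hgl) hy hl hl2 hyo (n := 2 * f) ?_ hk
  calc (fx ρ y).index ≤ (CS ρ L).index := Nat.le_of_dvd (Nat.pos_of_ne_zero Subgroup.index_ne_zero_of_finite)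
        (Subgroup.index_dvd_of_le (CS_le_fx' hy))
    _ ≤ Fintype.card F ^ 2 := hidx
    _ = 2 ^ (2 * f) := by rw [hF, ← pow_mul, mul_comm]

/-- `L ≅ SL₂(4)` impossible -/
theorem Off.false_of_four [Finite X] [Finite V] (hc : OddCyc X) (hV : ∀ v : V, v * v = 1) (hρ : Function.Injective ρ)
    {T : Sylow 2 X} {Λ : Subgroup V} {x s : X} {μ : V} (h : Lam ρ T Λ x s μ) {E : Subgroup X} (hE : Off ρ E)
    {L : Subgroup X} [hL : L.Normal] {F : Type*} [Field F] [Fintype F] [CharP F 2] (h4 : Fintype.card F = 4)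
    (e : SpecialLinearGroup (Fin 2) F ≃* L) (hidx : (CS ρ L).index ≤ 16) : False := by
  obtain ⟨-, hC⟩ := h.kill_sl2 hc hV hρ (by rw [h4]) e (by rw [h4]; exact hidx)
  exact hE.false_of_card fun A hA => card_le_four h4 e hC (fun a ha => hE.sq a (hA ha))

/-- `L ≅ L₂(7)` impossible -/
theorem Off.false_of_seven [Finite X] [Finite V] (hc : OddCyc X) (hV : ∀ v : V, v * v = 1) (hρ : Function.Injective ρ)
    {T : Sylow 2 X} {Λ : Subgroup V} {x s : X} {μ : V} (h : Lam ρ T Λ x s μ) {E : Subgroup X} (hE : Off ρ E)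
    {L : Subgroup X} [hL : L.Normal] (hs : IsSimpleGroup L) {F : Type*} [Field F] [Finite F]
    (R : Cfsg.Agent.GH.L2Aut.Rep F L) (hF : (Nat.card F).Prime) (h32 : FFThree.L32 L) {a : X} (haL : a ∈ L) (ha1 : a ≠ 1)
    (ha : a * a = 1) (hidx : (fx ρ a).index ≤ 4) : False := by
  have hcard := h32.card
  have hxL : x ∈ L := CompBasic.mem_of_orderOf hc Nat.prime_three (by norm_num) hL (by rw [hcard]; norm_num) h.ox
  -- all involutions have index `≤ 4`
  have hall : ∀ b : L, b ≠ 1 → b * b = 1 → (fx ρ (b : X)).index ≤ 4 := by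
    intro b hb1 hb
    obtain ⟨g, hg⟩ := h32.conj ⟨a, haL⟩ b (fun h => ha1 (congrArg Subtype.val h)) (Subtype.ext ha) hb1 hb
    have h1 : (b : X) = g * a * (g : X)⁻¹ := by rw [← hg]; rfl
    rw [h1, index_fx_conj]
    exact hidx
  obtain ⟨w, b, c, hw, hw1, hb, hb1, hc', hc1, hu, hg⟩ := h32.gen
  have hidx7 : (fx ρ ((b * c * w : L) : X)).index ≤ 2 ^ 6 := by
    have h1 : fx ρ (b : X) ⊓ (fx ρ (c : X) ⊓ fx ρ (w : X)) ≤ fx ρ ((b * c * w : L) : X) := by
      rintro v ⟨h1, h2, h3⟩
      exact fx_mul ρ (fx_mul ρ h1 h2) h3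
    calc (fx ρ ((b * c * w : L) : X)).index ≤ (fx ρ (b : X) ⊓ (fx ρ (c : X) ⊓ fx ρ (w : X))).index :=
          Nat.le_of_dvd (Nat.pos_of_ne_zero Subgroup.index_ne_zero_of_finite) (Subgroup.index_dvd_of_le h1)
      _ ≤ (fx ρ (b : X)).index * (fx ρ (c : X) ⊓ fx ρ (w : X)).index := Subgroup.index_inf_le
      _ ≤ (fx ρ (b : X)).index * ((fx ρ (c : X)).index * (fx ρ (w : X)).index) :=
          Nat.mul_le_mul_left _ Subgroup.index_inf_le
      _ ≤ 4 * (4 * 4) := Nat.mul_le_mul (hall b hb1 hb) (Nat.mul_le_mul (hall c hc1 hc') (hall w hw1 hw))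
      _ = 2 ^ 6 := by norm_num
  have hC : centralizer (L : Set X) = ⊥ := by
    refine h.kill hc hV hρ hL hs hxL ?_ (b * c * w : L).2 (l := 7) (by norm_num) (by norm_num)
      (by rw [Subgroup.orderOf_coe]; exact hu) (n := 6) hidx7 ?_
    · intro g hg hgl
      have h1 : (⟨g, hg⟩ : L) ∈ center L := by
        rw [mem_center_iff]
        rintro ⟨k, hk⟩
        exact Subtype.ext (hgl k hk)
      rcases hs.eq_bot_or_eq_top_of_normal (center L) inferInstance with h2 | h2
      · rw [h2, mem_bot] at h1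
        exact congrArg Subtype.val h1
      · exfalso
        have h3 : ∀ u v : L, u * v = v * u := by
          intro u v
          have h4 : u ∈ center L := by rw [h2]; exact mem_top u
          exact (mem_center_iff.1 h4 v).symm
        have h5 : orderOf (b * c * w) ∣ 2 := by
          rw [orderOf_dvd_iff_pow_eq_one, pow_two]
          calc b * c * w * (b * c * w) = b * (c * w * b) * c * w := by group
            _ = b * (b * (c * w)) * c * w := by rw [h3 (c * w) b]
            _ = (b * b) * (c * (w * c) * w) := by group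
            _ = (b * b) * (c * (c * w) * w) := by rw [h3 w c]
            _ = (b * b) * (c * c) * (w * w) := by group
            _ = 1 := by rw [hb, hc', hw, one_mul, one_mul]
        rw [hu] at h5
        norm_num at h5
    · intro k hk hk6 h7 r hr _ hrk
      have hk' : k = 3 ∨ k = 6 := by
        have : k = 1 ∨ k = 2 ∨ k = 3 ∨ k = 4 ∨ k = 5 ∨ k = 6 := by omega
        rcases this with rfl | rfl | rfl | rfl | rfl | rfl
        · norm_num at h7
        · norm_num at h7
        · left; rfl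
        · norm_num at h7
        · norm_num at h7
        · right; rfl
      have h8 : r ∣ 3 * 3 * 7 := by
        rcases hk' with rfl | rfl
        · have : (2 ^ 3 - 1 : ℕ) = 7 := by norm_num
          rw [this] at hrk
          exact hrk.mul_left _
        · have : (2 ^ 6 - 1 : ℕ) = 3 * 3 * 7 := by norm_num
          rwa [this] at hrk
      rw [hcard]
      rcases (Nat.Prime.dvd_mul hr).1 h8 with h9 | h9
      · have h10 : r ∣ 3 := by rcases (Nat.Prime.dvd_mul hr).1 h9 with h | h <;> exact h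
        exact h10.trans (by norm_num)
      · exact h9.trans (by norm_num)
  apply hE.false_of_card
  intro A hA
  let f : A →* MulAut L := (MulAut.conjNormal (H := L)).comp A.subtype
  have hf : Function.Injective f := by
    rw [injective_iff_map_eq_one]
    intro u hu1
    have h1 : (u : X) ∈ centralizer (L : Set X) := by
      rw [mem_centralizer_iff]
      intro l hl
      have h2 : MulAut.conjNormal (u : X) (⟨l, hl⟩ : L) = ⟨l, hl⟩ := DFunLike.congr_fun hu1 ⟨l, hl⟩
      have h3 := congrArg Subtype.val h2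
      rw [MulAut.conjNormal_apply] at h3
      change (u : X) * l * (u : X)⁻¹ = l at h3
      exact (mul_inv_eq_iff_eq_mul.1 h3).symm
    rw [hC, mem_bot] at h1
    exact Subtype.ext h1
  have h1 : Nat.card f.range ≤ 4 := by
    apply B2Pgl.card_elem R
    · intro α _
      exact PGLTorus.mem_PGL_of_prime R hF α
    · rintro _ ⟨u, rfl⟩
      rw [← map_mul]
      have : u * u = 1 := Subtype.ext (hE.sq u (hA u.2))
      rw [this, map_one]
  rwa [← Nat.card_congr (MonoidHom.ofInjective hf).toEquiv] at h1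

end Cfsg.Agent.OddCyclic.Om5
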