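import Mathlib
import Cfsg.Agent.OddCyclic.Emp3.Noo

/-!
# (Empty), part III, section 6: the input of (6.5) - (6.8)

`Bx0 S N W Y F A f a a' c`: the output of the graph lemma for the line `F`, `W = ⟨F ^ N⟩`, `Y = C_F(N)`;
`Bx`: in addition `[F, S] ≤ Y` (`f` odd), (St+), (C4).
-/

set_option autoImplicit false

namespace Cfsg.Agent.OddCyclic.EmpB

open Subgroup
open Cfsg.Agent.ZN (o2 jj)
open Cfsg.Agent.OddCyclic.Emp3.Noo (cq)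

universe u

variable {G : Type u} [Group G]

structure Bx0 (S : Sylow 2 G) (N W Y F A : Subgroup G) (f a a' c : ℕ) : Prop where
  nN : (S : Subgroup G) ≤ normalizer (N : Set G)
  W_sq : ∀ w ∈ W, w * w = 1
  W_comm : ∀ v ∈ W, ∀ w ∈ W, v * w = w * v
  YF : Y ≤ F
  FW : F ≤ W
  NW : N ≤ normalizer (W : Set G)
  SW : (S : Subgroup G) ≤ normalizer (W : Set G)
  SY : (S : Subgroup G) ≤ normalizer (Y : Set G)
  NY : N ≤ centralizer (Y : Set G)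
  /-- `O₂(N)` is trivial on `F/Y` -/
  FQ : ∀ t ∈ o2 N, ∀ v ∈ F, t * v * t⁻¹ * v⁻¹ ∈ Y
  /-- `W = ⟨F ^ N⟩` -/
  gen : ∀ X : Subgroup G, F ≤ X → N ≤ normalizer (X : Set G) → W ≤ X
  card_F : Nat.card F = 2 ^ f * Nat.card Y
  /-- (1.4) -/
  fix : ∀ v ∈ F, (∀ n ∈ N, n * v * n⁻¹ * v⁻¹ ∈ Y) → v ∈ Y
  /-- (N') -/
  N' : ∀ t ∈ N, Odd (orderOf t) → t ∈ normalizer (jj (S : Subgroup G) : Set G) → t ∈ centralizer (F : Set G)
  A_le : A ≤ S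
  A_cent : A ≤ centralizer (F : Set G)
  A_sq : ∀ x ∈ A, x * x = 1
  f_two : 2 ≤ f
  a_pos : 1 ≤ a
  a'_le : a' ≤ a
  c_le : c ≤ a
  c_imp : c ≠ 0 → f ≤ a
  card_A : (A ⊓ cq N).relIndex A = 2 ^ a
  idx : (W ⊓ centralizer (A : Set G)).relIndex W ≤ 2 ^ (a' + c)

structure Bx (S : Sylow 2 G) (N W Y F A : Subgroup G) (f a a' c : ℕ) : Prop extends Bx0 S N W Y F A f a a' c where
  FS : ∀ s ∈ (S : Subgroup G), ∀ v ∈ F, s * v * s⁻¹ * v⁻¹ ∈ Y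
  /-- (St+), for elements of odd prime order -/
  stp : ∀ x ∈ N, (orderOf x).Prime → Odd (orderOf x) → ∀ v ∈ F, v ∉ Y → x * v = v * x → x ∈ centralizer (F : Set G)
  f3 : 3 ≤ f
  fodd : Odd f
  /-- (C4) -/
  seven : 7 ∣ (o2 N).relIndex N → f ≠ 3

end Cfsg.Agent.OddCyclic.EmpB
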