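import Cfsg.Agent.OddCyclic.CaseASinger
import Cfsg.Agent.OddCyclic.PumpMain
import Cfsg.Agent.SporRec.J1.Main

/-!
# `J₁`: commuting elements of odd prime orders `r < s` have `r = 3`, `s = 5`
-/

set_option autoImplicit false

namespace Cfsg.Agent.OddCyclic.KZJOne

open Subgroup Cfsg.Agent.SporRec.J1.Defs

variable {B : Type*} [Group B] [Finite B]

theorem card_eq (h : Local B) {k : B} (hk : orderOf k = 2) : Nat.card B = 175560 := by
  obtain ⟨e⟩ := SporRec.J1.Main.iso_of_local h k hk
  rw [Nat.card_congr e.toEquiv]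
  exact SporRec.J1.Words.card_J1

/-- an odd prime order element of order at least seven: the possible orders of the centraliser -/
theorem card_dvd (h : Local B) (hB : Nat.card B = 175560) {p : ℕ} (hp : p.Prime) (hp7 : 7 ≤ p) {x : B}
    (hx : orderOf x = p) : Nat.card (centralizer ({x} : Set B)) ∣ 1463 := by
  set C : Subgroup B := centralizer ({x} : Set B) with hC
  have hxc : ∀ y ∈ C, x ∈ centralizer ({y} : Set B) := fun y hy =>
    mem_centralizer_singleton_iff.2 (mem_centralizer_singleton_iff.1 hy).symm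
  have hno : ∀ r : ℕ, r.Prime → (∀ y : B, orderOf y = r → Nat.card (centralizer ({y} : Set B)) ∣ 120) →
      ¬ r ∣ Nat.card C := by
    intro r hr hc hd
    have : Fact r.Prime := ⟨hr⟩
    obtain ⟨y, hy⟩ := exists_prime_orderOf_dvd_card' r hd
    have hy' : orderOf (y : B) = r := by rw [orderOf_coe, hy]
    have h1 := (Subgroup.orderOf_dvd_natCard _ (hxc y y.2)).trans (hc y hy')
    rw [hx] at h1
    have h2 : p ∣ 2 ^ 3 * (3 * 5) := by norm_num; exact h1
    rcases hp.dvd_mul.1 h2 with h3 | h3
    · have := Nat.le_of_dvd (by norm_num) (hp.dvd_of_dvd_pow h3)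
      omega
    rcases hp.dvd_mul.1 h3 with h4 | h4
    · have := Nat.le_of_dvd (by norm_num) h4
      omega
    · have := Nat.le_of_dvd (by norm_num) h4
      omega
  have h2 : ¬ 2 ∣ Nat.card C := hno 2 Nat.prime_two fun y hy => by
    rw [SporRec.J1.EqTopC.card_cent2 h y hy]
  have h3 : ¬ 3 ∣ Nat.card C := hno 3 Nat.prime_three fun y hy => by
    rw [h.cent3 y hy]; norm_num
  have h5 : ¬ 5 ∣ Nat.card C := hno 5 Nat.prime_five fun y hy => by
    rw [h.cent5 y hy]; norm_num
  have h6 : Nat.Coprime (Nat.card C) 120 := by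
    have e : (120 : ℕ) = 2 ^ 3 * (3 * 5) := by norm_num
    rw [e]
    apply Nat.Coprime.mul_right
    · exact Nat.Coprime.pow_right 3 (((Nat.Prime.coprime_iff_not_dvd Nat.prime_two).2 h2).symm)
    · exact Nat.Coprime.mul_right (((Nat.Prime.coprime_iff_not_dvd Nat.prime_three).2 h3).symm)
        (((Nat.Prime.coprime_iff_not_dvd Nat.prime_five).2 h5).symm)
  have h7 : Nat.card C ∣ 120 * 1463 := by
    have := Subgroup.card_subgroup_dvd_card C
    rw [hB] at this
    exact this
  exact h6.dvd_of_dvd_mul_left h7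

/-- the number of Sylow `p`-subgroups -/
theorem exists_index (hB : Nat.card B = 175560) {p : ℕ} (hp : p.Prime) (hp2 : ¬ p ^ 2 ∣ 175560) {x : B}
    (hx : orderOf x = p) : ∃ n d : ℕ, n % p = 1 % p ∧ d ∣ p - 1 ∧
      n * (Nat.card (centralizer ({x} : Set B)) * d) = 175560 ∧ (IsSimpleGroup B → p ≠ 175560 → d ≠ 1) := by
  have hpf : Fact p.Prime := ⟨hp⟩
  have hZp : IsPGroup p (zpowers x) := IsPGroup.of_card (n := 1) (by rw [Nat.card_zpowers, hx, pow_one])
  obtain ⟨P, hP⟩ := hZp.exists_le_sylow
  have hPcard : Nat.card (P : Subgroup B) = p := by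
    obtain ⟨n, hn⟩ := P.2.exists_card_eq
    have h1 : p ^ n ∣ 175560 := by rw [← hn, ← hB]; exact Subgroup.card_subgroup_dvd_card _
    have h2 : n < 2 := by
      by_contra h2
      exact hp2 (dvd_trans (pow_dvd_pow p (by omega)) h1)
    have h3 : p ∣ Nat.card (P : Subgroup B) := by
      have := Subgroup.card_dvd_of_le hP
      rwa [Nat.card_zpowers, hx] at this
    have h4 : n ≠ 0 := by
      rintro rfl
      rw [hn, pow_zero, Nat.dvd_one] at h3
      exact hp.one_lt.ne' h3
    have h5 : n = 1 := by omega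
    rw [hn, h5, pow_one]
  have hPeq : (P : Subgroup B) = zpowers x :=
    (Subgroup.eq_of_le_of_card_ge hP (by rw [hPcard, Nat.card_zpowers, hx])).symm
  have hcyc : IsCyclic (P : Subgroup B) := by rw [hPeq]; infer_instance
  have hcent : centralizer ((P : Subgroup B) : Set B) = centralizer ({x} : Set B) := by
    rw [hPeq]
    ext y
    rw [mem_centralizer_iff, mem_centralizer_singleton_iff]
    constructor
    · intro h1
      exact (h1 x (mem_zpowers x)).symm
    · rintro h1 _ ⟨i, rfl⟩
      exact ((show Commute y x from h1).zpow_right i).eq.symm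
  set N := normalizer ((P : Subgroup B) : Set B) with hN
  have hidx : Nat.card (Sylow p B) = N.index := P.card_eq_index_normalizer
  have hmod := card_sylow_modEq_one p B
  -- `|N| = |C| d`
  let φ := Subgroup.normalizerMonoidHom (P : Subgroup B)
  have hker : φ.ker = (centralizer ((P : Subgroup B) : Set B)).subgroupOf N := Subgroup.normalizerMonoidHom_ker _
  have h1 := φ.ker.card_mul_index
  have h2 : Nat.card φ.ker = Nat.card (centralizer ({x} : Set B)) := by
    rw [hker, hcent]
    apply Nat.card_congr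
    apply (Subgroup.subgroupOfEquivOfLe _).toEquiv
    rw [← hcent]
    exact centralizer_le_normalizer _
  have h3 : φ.ker.index = Nat.card φ.range := Subgroup.index_ker φ
  have h4 : Nat.card φ.range ∣ p - 1 := by
    have h5 := Subgroup.card_subgroup_dvd_card φ.range
    rwa [IsCyclic.card_mulAut, hPcard, Nat.totient_prime hp] at h5
  rw [h2, h3] at h1
  refine ⟨N.index, Nat.card φ.range, ?_, h4, ?_, ?_⟩
  · rw [hidx] at hmod
    exact hmod
  · rw [h1, mul_comm, N.card_mul_index, hB]
  · intro hs hp1 hd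
    rw [hd, mul_one] at h1
    have h5 : N ≤ centralizer ((P : Subgroup B) : Set B) := by
      have h6 : centralizer ((P : Subgroup B) : Set B) ≤ N := centralizer_le_normalizer _
      have h7 : centralizer ((P : Subgroup B) : Set B) = N := Subgroup.eq_of_le_of_card_ge h6 (by
        rw [hcent, h1])
      rw [h7]
    have h6 := MonoidHom.ker_transferSylow_isComplement' P h5
    rcases (inferInstance : (MonoidHom.transferSylow P h5).ker.Normal).eq_bot_or_eq_top with h7 | h7
    · rw [h7] at h6
      have h8 := h6.card_mul_card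
      rw [Subgroup.card_bot, one_mul, hPcard, hB] at h8
      exact hp1 h8
    · have h8 := MonoidHom.not_dvd_card_ker_transferSylow P h5
      rw [h7] at h8
      apply h8
      rw [Subgroup.card_top, ← hPcard]
      exact Subgroup.card_subgroup_dvd_card _

theorem divisors_1463 : Nat.divisors 1463 = {1, 7, 11, 19, 77, 133, 209, 1463} := by decide +kernel

theorem comm_orders [IsSimpleGroup B] (h : Local B) (hB : Nat.card B = 175560) {r s : ℕ} (hr : r.Prime) (hs : s.Prime)
    (hr2 : r ≠ 2) (hrs : r < s) {x y : B} (hx : orderOf x = r) (hy : orderOf y = s) (hxy : x * y = y * x) :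
    r = 3 ∧ s = 5 := by
  have hyC : y ∈ centralizer ({x} : Set B) := mem_centralizer_singleton_iff.2 hxy.symm
  have hsC : s ∣ Nat.card (centralizer ({x} : Set B)) := hy ▸ Subgroup.orderOf_dvd_natCard _ hyC
  have hr3 : 3 ≤ r := by have := hr.two_le; omega
  have h7no : ∀ z : B, orderOf z = 7 → ∀ q : ℕ, q.Prime → 7 < q → ¬ q ∣ Nat.card (centralizer ({z} : Set B)) := by
    intro z hz q hq hq7 hqd
    have h1 := card_dvd h hB (by norm_num) le_rfl hz
    obtain ⟨n, d, hn, hd, hnd, hd1⟩ := exists_index hB (p := 7) (by norm_num) (by norm_num) hz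
    have hd1' := hd1 inferInstance (by norm_num)
    have h7 : 7 ∣ Nat.card (centralizer ({z} : Set B)) := by
      rw [← hz]
      exact Subgroup.orderOf_dvd_natCard _ (mem_centralizer_singleton_iff.2 rfl)
    have h2 : Nat.card (centralizer ({z} : Set B)) ∈ Nat.divisors 1463 := Nat.mem_divisors.2 ⟨h1, by norm_num⟩
    rw [divisors_1463] at h2
    have h3 : d ∈ Nat.divisors 6 := Nat.mem_divisors.2 ⟨hd, by norm_num⟩
    have h3' : Nat.divisors 6 = {1, 2, 3, 6} := by decide
    rw [h3'] at h3
    simp only [Finset.mem_insert, Finset.mem_singleton] at h2 h3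
    rcases h2 with h2 | h2 | h2 | h2 | h2 | h2 | h2 | h2 <;> rw [h2] at hnd h7 hqd
    · omega
    · have := Nat.le_of_dvd (by norm_num) hqd
      omega
    · omega
    · omega
    all_goals
      rcases h3 with rfl | rfl | rfl | rfl <;> omega
  have h11no : ∀ z : B, orderOf z = 11 → ∀ q : ℕ, q.Prime → 11 < q → ¬ q ∣ Nat.card (centralizer ({z} : Set B)) := by
    intro z hz q hq hq7 hqd
    have h1 := card_dvd h hB (by norm_num) (by norm_num) hz
    obtain ⟨n, d, hn, hd, hnd, -⟩ := exists_index hB (p := 11) (by norm_num) (by norm_num) hz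
    have h7 : ¬ 7 ∣ Nat.card (centralizer ({z} : Set B)) := by
      intro h2
      have : Fact (Nat.Prime 7) := ⟨by norm_num⟩
      obtain ⟨w, hw⟩ := exists_prime_orderOf_dvd_card' 7 h2
      have hw' : orderOf (w : B) = 7 := by rw [orderOf_coe, hw]
      apply h7no w hw' 11 (by norm_num) (by norm_num)
      rw [← hz]
      exact Subgroup.orderOf_dvd_natCard _
        (mem_centralizer_singleton_iff.2 (mem_centralizer_singleton_iff.1 w.2).symm)
    have h11 : 11 ∣ Nat.card (centralizer ({z} : Set B)) := by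
      rw [← hz]
      exact Subgroup.orderOf_dvd_natCard _ (mem_centralizer_singleton_iff.2 rfl)
    have h2 : Nat.card (centralizer ({z} : Set B)) ∈ Nat.divisors 1463 := Nat.mem_divisors.2 ⟨h1, by norm_num⟩
    rw [divisors_1463] at h2
    have h3 : d ∈ Nat.divisors 10 := Nat.mem_divisors.2 ⟨hd, by norm_num⟩
    have h3' : Nat.divisors 10 = {1, 2, 5, 10} := by decide
    rw [h3'] at h3
    simp only [Finset.mem_insert, Finset.mem_singleton] at h2 h3
    rcases h2 with h2 | h2 | h2 | h2 | h2 | h2 | h2 | h2 <;> rw [h2] at hnd h7 hqd h11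
    · omega
    · omega
    · have := Nat.le_of_dvd (by norm_num) hqd
      omega
    · omega
    · omega
    · omega
    · rcases h3 with rfl | rfl | rfl | rfl <;> omega
    · omega
  by_cases h3 : r = 3
  · subst h3
    rw [h.cent3 x hx] at hsC
    refine ⟨rfl, ?_⟩
    have h1 : s ∣ 2 * (3 * 5) := by norm_num; exact hsC
    rcases hs.dvd_mul.1 h1 with h4 | h4
    · have := Nat.le_of_dvd (by norm_num) h4
      omega
    rcases hs.dvd_mul.1 h4 with h5 | h5
    · have := Nat.le_of_dvd (by norm_num) h5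
      omega
    · exact (Nat.prime_dvd_prime_iff_eq hs Nat.prime_five).1 h5
  exfalso
  by_cases h5 : r = 5
  · subst h5
    rw [h.cent5 x hx] at hsC
    have h1 : s ∣ 2 * (3 * 5) := by norm_num; exact hsC
    rcases hs.dvd_mul.1 h1 with h4 | h4
    · have := Nat.le_of_dvd (by norm_num) h4
      omega
    rcases hs.dvd_mul.1 h4 with h5 | h5
    · have := Nat.le_of_dvd (by norm_num) h5
      omega
    · have := Nat.le_of_dvd (by norm_num) h5
      omega
  -- `r ∈ {7, 11, 19}`
  have hrB : r ∣ 2 ^ 3 * (3 * (5 * (7 * (11 * 19)))) := by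
    have h1 : r ∣ Nat.card B := hx ▸ orderOf_dvd_natCard x
    rw [hB] at h1
    norm_num
    exact h1
  rcases hr.dvd_mul.1 hrB with h1 | h1
  · exact hr2 ((Nat.prime_dvd_prime_iff_eq hr Nat.prime_two).1 (hr.dvd_of_dvd_pow h1))
  rcases hr.dvd_mul.1 h1 with h1 | h1
  · exact h3 ((Nat.prime_dvd_prime_iff_eq hr Nat.prime_three).1 h1)
  rcases hr.dvd_mul.1 h1 with h1 | h1
  · exact h5 ((Nat.prime_dvd_prime_iff_eq hr Nat.prime_five).1 h1)
  rcases hr.dvd_mul.1 h1 with h1 | h1
  · obtain rfl := (Nat.prime_dvd_prime_iff_eq hr (by norm_num)).1 h1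
    exact h7no x hx s hs hrs hsC
  rcases hr.dvd_mul.1 h1 with h1 | h1
  · obtain rfl := (Nat.prime_dvd_prime_iff_eq hr (by norm_num)).1 h1
    exact h11no x hx s hs hrs hsC
  · obtain rfl := (Nat.prime_dvd_prime_iff_eq hr (by norm_num)).1 h1
    have hsB : s ∣ 2 ^ 3 * (3 * (5 * (7 * (11 * 19)))) := by
      have h1 : s ∣ Nat.card B := hy ▸ orderOf_dvd_natCard y
      rw [hB] at h1
      norm_num
      exact h1
    rcases hs.dvd_mul.1 hsB with h1 | h1
    · have := (Nat.prime_dvd_prime_iff_eq hs Nat.prime_two).1 (hs.dvd_of_dvd_pow h1)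
      omega
    rcases hs.dvd_mul.1 h1 with h1 | h1
    · have := (Nat.prime_dvd_prime_iff_eq hs Nat.prime_three).1 h1
      omega
    rcases hs.dvd_mul.1 h1 with h1 | h1
    · have := (Nat.prime_dvd_prime_iff_eq hs Nat.prime_five).1 h1
      omega
    rcases hs.dvd_mul.1 h1 with h1 | h1
    · have := (Nat.prime_dvd_prime_iff_eq hs (by norm_num)).1 h1
      omega
    rcases hs.dvd_mul.1 h1 with h1 | h1
    · have := (Nat.prime_dvd_prime_iff_eq hs (by norm_num)).1 h1
      omega
    · have := (Nat.prime_dvd_prime_iff_eq hs (by norm_num)).1 h1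
      omega

/-- the groups of helper396's list are in the list of the Singer lemma -/
theorem kz_of_kZero [IsSimpleGroup B] (h : PumpMain.KZero B) : CaseASinger.KZ B := by
  rcases h with h | h | h | ⟨h, k, hk⟩
  · exact Or.inl h
  · exact Or.inr (Or.inl h)
  · exact Or.inr (Or.inr (Or.inl h))
  · refine Or.inr (Or.inr (Or.inr ⟨card_eq h hk, fun r s hr hs hr2 hrs x y hx hy hxy => ?_⟩))
    exact comm_orders h (card_eq h hk) hr hs hr2 hrs hx hy hxy

end Cfsg.Agent.OddCyclic.KZJOne
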