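import Mathlib
import Cfsg.Agent.OddCyclic.UniEx

/-!
# Pieces of a 2-local subgroup moved by a 2-subgroup

`M ≤ G` with `O₂(M) ≠ 1`, `A ≤ M` a 2-subgroup, `A ≰ O₂(M)`.

* `RM M r x`: `x ∈ M` of odd prime order `r`, `⟨x⟩O₂(M)` normal in `M`;
* `exists_moved`: `A` moves some `L` with `Cp M L` or some `x` with `RM M r x` modulo `O₂(M)`;
* `Pc M N`: `N` is a piece of `M`: `Cp M N` or `N = NP M x` with `RM M r x`;
* `Pc.comm`: `N = [N, A]` if `A` moves the piece `N`;
* `Pc.uniq`: `N ≤ M^g` gives `N^g = N`;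
* `Pc.o2_ne_bot`, `exists_pc`.
-/

set_option autoImplicit false
set_option linter.unusedSectionVars false

namespace Cfsg.Agent.OddCyclic.UniStruct

open Subgroup Cfsg Cfsg.Agent.ZN
open Cfsg.Agent.ZN.Block (o2_isPGroup le_normalizer_o2 le_o2 o2_le conj_mem_of_normalizer conj_mem_of_normalizer'
  le_normalizer_of_forall)
open scoped commutatorElement Pointwise
open Cfsg.Agent.OddCyclic.T1Defs (OddCyc)
open Cfsg.Agent.OddCyclic.CompBasic
open Cfsg.Agent.SignalizersComponents.Components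
open Cfsg.Agent.ZN.ChoiceBase (cj mem_cj cj_mono cj_cj cj_inv_cj cj_cj_inv cj_le_iff cj_normalizer isPGroup_cj
  mem_normalizer_iff_cj card_cj cj_eq_of_mem_normalizer)
open Cfsg.Agent.ZN.ChoiceSit (o2_cj)

universe u

section Abs

variable {H : Type u} [Group H] [Finite H]

/-- `A` moves a component or a normal subgroup of odd prime order -/
theorem exists_moved_abs (hO : pCore 2 H = ⊥) (hc : OddCyc H) {A : Subgroup H} (hA : IsPGroup 2 A) (hA1 : A ≠ ⊥) :
    (∃ K : Subgroup H, IsComponent K ∧ ∃ a ∈ A, ∃ k ∈ K, a * k ≠ k * a) ∨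
      ∃ (p : ℕ) (x : H), p.Prime ∧ p ≠ 2 ∧ orderOf x = p ∧ (zpowers x).Normal ∧ ∃ a ∈ A, a * x ≠ x * a := by
  by_contra hcon
  push Not at hcon
  obtain ⟨h1, h2⟩ := hcon
  have hFn : (fittingSubgroup H).Normal := Lib.Cores.fittingSubgroup_normal
  -- `A` centralises `F*(H)`
  have h3 : generalizedFittingSubgroup H ≤ centralizer (A : Set H) := by
    refine sup_le ?_ ?_
    · rw [layer_le_iff]
      intro K hK k hk
      rw [mem_centralizer_iff]
      exact fun a ha => h1 K hK a ha k hk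
    · intro f hf
      refine mem_of_prime_power _ f rfl fun y hy p k hp hyk => ?_
      have hyF : y ∈ fittingSubgroup H := (zpowers_le.2 hf) hy
      have hyn : (zpowers y).Normal := zpowers_normal hO hc hyF
      by_cases hp2 : p = 2
      · subst hp2
        have h4 : IsPGroup 2 (zpowers y) := IsPGroup.of_card (n := k) (by rw [Nat.card_zpowers, hyk])
        have h5 := Lib.Cores.le_pCore hyn h4
        rw [hO] at h5
        rw [mem_bot.1 (h5 (mem_zpowers y))]
        exact one_mem _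
      · rw [mem_centralizer_iff]
        intro a ha
        by_contra hne
        obtain ⟨m, hm⟩ := hA ⟨a, ha⟩
        have hm1 : a ^ 2 ^ m = 1 := congrArg Subtype.val hm
        have hk0 : k ≠ 0 := by
          rintro rfl
          rw [pow_zero, orderOf_eq_one_iff] at hyk
          apply hne
          rw [hyk, mul_one, one_mul]
        obtain ⟨k', rfl⟩ := Nat.exists_eq_succ_of_ne_zero hk0
        have h4 : a * y * a⁻¹ ≠ y := fun h5 => hne (mul_inv_eq_iff_eq_mul.1 h5)
        have h5 := mem_of_comm_abs hp hp2 hyk hm1 (hyn.conj_mem y (mem_zpowers y) a) h4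
        -- `x = y ^ p ^ k'`
        have hxo : orderOf (y ^ p ^ k') = p := by
          rw [orderOf_pow, hyk, Nat.gcd_eq_right (pow_dvd_pow p (Nat.le_succ k')), Nat.pow_div (Nat.le_succ k') hp.pos]
          simp
        have hxn : (zpowers (y ^ p ^ k')).Normal := zpowers_normal hO hc (pow_mem hyF _)
        have h6 := h2 p (y ^ p ^ k') hp hp2 hxo hxn a ha
        -- `[y, a] ^ p ^ k' = 1`
        have h7 : (y * a * y⁻¹ * a⁻¹) ^ p ^ k' = 1 := by
          have h8 : y * a * y⁻¹ * a⁻¹ = y * (a * y * a⁻¹)⁻¹ := by group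
          have h9 : Commute y (a * y * a⁻¹)⁻¹ := by
            obtain ⟨i, hi⟩ := hyn.conj_mem y (mem_zpowers y) a
            simp only at hi
            rw [← hi]
            exact ((Commute.refl y).zpow_right i).inv_right
          rw [h8, h9.mul_pow, inv_pow, conj_pow, h6]
          group
        obtain ⟨n, hn⟩ := h5
        simp only at hn
        have h8 : y ^ p ^ k' = 1 := by
          rw [← hn, ← zpow_natCast, ← zpow_mul, mul_comm, zpow_mul, zpow_natCast, h7, one_zpow]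
        rw [h8, orderOf_one] at hxo
        exact hp.one_lt.ne hxo
  have h4 : A ≤ generalizedFittingSubgroup H := by
    rw [le_centralizer_iff] at h3
    exact h3.trans Lib.GenFitting.centralizer_genFitting_le
  have hGn := Lib.GenFitting.genFitting_normal (G := H)
  obtain ⟨Z, hZ⟩ : ∃ Z : Subgroup H, Z = generalizedFittingSubgroup H ⊓
    centralizer (generalizedFittingSubgroup H : Set H) := ⟨_, rfl⟩
  have h5 : A ≤ Z := by
    rw [hZ]
    exact le_inf h4 (le_centralizer_iff.1 h3)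
  have hn : Z.Normal := by
    rw [hZ]
    infer_instance
  have hAn : A ≤ pCore 2 H := by
    -- 2-elements of the abelian normal subgroup `Z(F*)`
    have hcomm : ∀ x ∈ Z, ∀ y ∈ Z, x * y = y * x := by
      rw [hZ]
      rintro x ⟨hx, -⟩ y ⟨-, hy⟩
      exact mem_centralizer_iff.1 hy x hx
    have hZF : Z ≤ fittingSubgroup H := by
      have hni : Group.IsNilpotent Z := by
        let cg : CommGroup Z :=
          { (inferInstance : Group Z) with mul_comm := fun x y => Subtype.ext (hcomm x x.2 y y.2) }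
        exact @CommGroup.isNilpotent Z cg
      exact Lib.Cores.le_fittingSubgroup hn hni
    intro a ha
    obtain ⟨m, hm⟩ := hA ⟨a, ha⟩
    have hm1 : a ^ 2 ^ m = 1 := congrArg Subtype.val hm
    have h6 : (zpowers a).Normal := zpowers_normal hO hc (hZF (h5 ha))
    have h7 : IsPGroup 2 (zpowers a) := by
      rintro ⟨_, k, rfl⟩
      refine ⟨m, Subtype.ext ?_⟩
      show (a ^ k) ^ 2 ^ m = 1
      rw [← zpow_natCast, ← zpow_mul, mul_comm, zpow_mul, zpow_natCast, hm1, one_zpow]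
    exact Lib.Cores.le_pCore h6 h7 (mem_zpowers a)
  rw [hO, le_bot_iff] at hAn
  exact hA1 hAn

end Abs

variable {G : Type u} [Group G]

/-- `x ∈ M` of odd prime order `r`, `⟨x⟩O₂(M)` normal in `M` -/
structure RM (M : Subgroup G) (r : ℕ) (x : G) : Prop where
  prime : r.Prime
  odd : r ≠ 2
  mem : x ∈ M
  ord : orderOf x = r
  norm : ∀ g ∈ M, g * x * g⁻¹ ∈ zpowers x ⊔ o2 M

/-- `N` is a piece of `M` -/
def Pc (M N : Subgroup G) : Prop := Cp M N ∨ ∃ r x, RM M r x ∧ N = NP M x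

/-- `A` moves `N` modulo `O₂(M)` -/
def Moves (M A N : Subgroup G) : Prop := ∃ a ∈ A, ∃ n ∈ N, a * n * a⁻¹ * n⁻¹ ∉ o2 M

section PC

variable [Finite G] {M N A : Subgroup G}

theorem Pc.le (h : Pc M N) : N ≤ M := by
  rcases h with h | ⟨r, x, h, rfl⟩
  · exact h.le
  · exact NP_le h.mem

theorem Pc.norm (h : Pc M N) : M ≤ normalizer (N : Set G) := by
  rcases h with h | ⟨r, x, h, rfl⟩
  · exact h.norm
  · exact NP_normal M x

theorem RM.not_two {r : ℕ} {x : G} (h : RM M r x) {Q : Subgroup G} (hQ : IsPGroup 2 Q) : x ∉ Q := by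
  intro hx
  obtain ⟨n, hn⟩ := hQ ⟨x, hx⟩
  have h1 : x ^ 2 ^ n = 1 := congrArg Subtype.val hn
  have h2 : r ∣ 2 ^ n := h.ord ▸ orderOf_dvd_of_pow_eq_one h1
  exact h.odd ((Nat.prime_dvd_prime_iff_eq h.prime Nat.prime_two).1 (h.prime.dvd_of_dvd_pow h2))

theorem Pc.not_isPGroup (h : Pc M N) : ¬ IsPGroup 2 N := by
  rcases h with h | ⟨r, x, h, rfl⟩
  · exact h.ne_bot
  · exact fun h2 => h.not_two h2 (self_mem_NP M x)

theorem NP_le_sup {r : ℕ} {x : G} (h : RM M r x) : NP M x ≤ zpowers x ⊔ o2 M := by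
  rw [NP, closure_le]
  rintro _ ⟨g, hg, rfl⟩
  exact h.norm g hg

theorem RM.cj {r : ℕ} {x : G} (h : RM M r x) (g : G) : RM (cj g M) r (g * x * g⁻¹) where
  prime := h.prime
  odd := h.odd
  mem := ⟨x, h.mem, rfl⟩
  ord := by
    rw [← h.ord, ← MulAut.conj_apply]
    exact orderOf_injective (MulAut.conj g).toMonoidHom (MulAut.conj g).injective x
  norm := by
    rintro _ ⟨a, ha, rfl⟩
    have h1 := h.norm a ha
    have h2 : g * (a * x * a⁻¹) * g⁻¹ ∈ ChoiceBase.cj g (zpowers x ⊔ o2 M) := ⟨_, h1, rfl⟩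
    rw [cj_sup, cj_zpowers, ← o2_cj] at h2
    have e : g * (a * x * a⁻¹) * g⁻¹ = g * a * g⁻¹ * (g * x * g⁻¹) * (g * a * g⁻¹)⁻¹ := by group
    rw [e] at h2
    exact h2

theorem Cp.cj {L : Subgroup G} (h : Cp M L) (g : G) : Cp (cj g M) (cj g L) where
  le := cj_mono g h.le
  perf := Schreier.Basic.map_perfect _ h.perf
  simp := h.simp.congr (L.equivMapOfInjective (MulAut.conj g).toMonoidHom (MulAut.conj g).injective)
  norm := by rw [← cj_normalizer]; exact cj_mono g h.norm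

theorem Pc.cj (h : Pc M N) (g : G) : Pc (cj g M) (cj g N) := by
  rcases h with h | ⟨r, x, h, rfl⟩
  · exact Or.inl (h.cj g)
  · exact Or.inr ⟨r, _, h.cj g, cj_NP g M x⟩

/-- a normal subgroup of `M` of order divisible by the odd prime `r` contains all elements of order `r` of `M` -/
theorem mem_of_normal (hG : OddCyc G) {K : Subgroup G} (hKM : K ≤ M) (hn : M ≤ normalizer (K : Set G)) {r : ℕ}
    (hr : r.Prime) (hr2 : r ≠ 2) (hrK : r ∣ Nat.card K) {y : G} (hy : y ∈ M) (hyr : orderOf y = r) : y ∈ K := by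
  have h1 : (K.subgroupOf M).Normal := normal_subgroupOf_of_le_normalizer hn
  have h2 := CompBasic.mem_of_orderOf (oddCyc_subgroup hG M) hr hr2 h1
    (by rwa [Nat.card_congr (Subgroup.subgroupOfEquivOfLe hKM).toEquiv]) (x := (⟨y, hy⟩ : M))
    (by rw [Subgroup.orderOf_mk, hyr])
  exact h2

theorem RM.dvd {r : ℕ} {x : G} (h : RM M r x) : r ∣ Nat.card (NP M x) := by
  rw [← h.ord]
  exact Subgroup.orderOf_dvd_natCard _ (self_mem_NP M x)

/-- `N ≤ M^g` gives `N^g = N` -/
theorem Pc.uniq (hG : Hyp G) (hM : o2 M ≠ ⊥) (h : Pc M N) {g : G} (hg : N ≤ ChoiceBase.cj g M) :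
    ChoiceBase.cj g N = N := by
  symm
  have hcard : Nat.card (ChoiceBase.cj g N) = Nat.card N := card_cj g N
  refine eq_of_le_of_card_ge ?_ hcard.le
  rcases h with h | ⟨r, x, h, rfl⟩
  · have hM' : o2 (ChoiceBase.cj g M) ≠ ⊥ := by
      rw [o2_cj]
      exact fun h0 => hM (cj_eq_bot.1 h0)
    obtain ⟨L, hL, hNL⟩ := exists_cp hG hM' hg h.perf h.simp
    obtain ⟨p, hp, hp2, hpN⟩ := exists_odd_prime h.perf (fun h0 => h.ne_bot (by rw [h0]; exact IsPGroup.of_bot))
    -- elements of order `p` of `M^g` lie in `L` and in `N^g`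
    have hg' := h.cj g
    have hpf : Fact p.Prime := ⟨hp⟩
    obtain ⟨⟨y, hyN⟩, hy⟩ := exists_prime_orderOf_dvd_card' (G := N) p hpN
    rw [Subgroup.orderOf_mk] at hy
    have hpN' : p ∣ Nat.card (ChoiceBase.cj g N) := by rw [hcard]; exact hpN
    have hyN' : y ∈ ChoiceBase.cj g N := mem_of_normal hG.cyc hg'.le hg'.norm hp hp2 hpN' (hg hyN) hy
    -- so `L ⊓ N^g` is a normal subgroup of `L` and of `N^g`, not a 2-group
    have key : ∀ A B : Subgroup G, Cp (ChoiceBase.cj g M) A → Cp (ChoiceBase.cj g M) B → y ∈ A → y ∈ B → A ≤ B := by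
      intro A B hA hB hyA hyB
      have h1 : ((A ⊓ B).subgroupOf A).Normal := normal_subgroupOf_of_le_normalizer
        ((le_inf le_normalizer (hA.le.trans hB.norm)).trans inf_normalizer_le_normalizer_inf)
      have h2 := eq_top_of_normal (isPerfect_of hA.perf) hA.simp h1 (fun h3 => by
        obtain ⟨n, hn⟩ := h3 ⟨⟨y, hyA⟩, Subgroup.mem_inf.2 ⟨hyA, hyB⟩⟩
        have h4 : y ^ 2 ^ n = 1 := congrArg (fun z : ((A ⊓ B).subgroupOf A) => ((z : A) : G)) hn
        have h5 : p ∣ 2 ^ n := hy ▸ orderOf_dvd_of_pow_eq_one h4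
        exact hp2 ((Nat.prime_dvd_prime_iff_eq hp Nat.prime_two).1 (hp.dvd_of_dvd_pow h5)))
      exact (subgroupOf_eq_top.1 h2).trans inf_le_right
    exact hNL.trans (key L _ hL hg' (hNL hyN) hyN')
  · have h1 := (h.cj g)
    rw [cj_NP, NP, closure_le]
    rintro _ ⟨a, ha, rfl⟩
    have h2 : a * x * a⁻¹ ∈ ChoiceBase.cj g M := hg (mem_NP ha)
    refine mem_of_normal hG.cyc (NP_le h1.mem) (NP_normal _ _) h.prime h.odd ?_ h2 ?_
    · exact h1.dvd
    · rw [← h.ord, ← MulAut.conj_apply]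
      exact orderOf_injective (MulAut.conj a).toMonoidHom (MulAut.conj a).injective x

/-- `N = [N, A]` for a piece `N` of `M` moved by the 2-subgroup `A ≤ M` -/
theorem Pc.comm (hG : Hyp G) (h : Pc M N) (hA : IsPGroup 2 A) (hAM : A ≤ M) (hm : Moves M A N) :
    ⁅N, A⁆ = N := by
  have hNA : A ≤ normalizer (N : Set G) := hAM.trans h.norm
  have hle : ⁅N, A⁆ ≤ N := by
    rw [commutator_le]
    intro n hn a ha
    rw [commutatorElement_def, mul_assoc, mul_assoc]
    refine mul_mem hn ?_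
    rw [← mul_assoc]
    exact conj_mem_of_normalizer hNA ha (inv_mem hn)
  have hn : N ≤ normalizer ((⁅N, A⁆ : Subgroup G) : Set G) := normalizer_commutator_ge_left N A
  refine le_antisymm hle ?_
  obtain ⟨a, ha, n, hn', hna⟩ := hm
  rcases h with h | ⟨r, x, h, rfl⟩
  · have h1 : (⁅N, A⁆.subgroupOf N).Normal := normal_subgroupOf_of_le_normalizer hn
    have h2 := eq_top_of_normal (isPerfect_of h.perf) h.simp h1 (fun h3 => by
      apply hna
      -- `[N, A]` is a 2-group normal in `N`, so `N` ... `[N, A] ≤ O₂(N) ≤ O₂(M)`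
      have h4 : IsPGroup 2 (⁅N, A⁆ : Subgroup G) := by
        have h5 := h3.map N.subtype
        rwa [Subgroup.subgroupOf_map_subtype, inf_eq_left.2 hle] at h5
      have h5 : ⁅N, A⁆ ≤ o2 N := le_o2 h4 hle hn
      have h6 : o2 N ≤ o2 M := by
        refine le_o2 (o2_isPGroup N) ((o2_le N).trans h.le) ?_
        intro m hm
        rw [mem_normalizer_iff_cj, ← o2_cj, cj_eq_of_mem_normalizer (h.norm hm)]
      have h7 : n * a * n⁻¹ * a⁻¹ ∈ ⁅N, A⁆ := by
        rw [← commutatorElement_def]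
        exact commutator_mem_commutator hn' ha
      have e : a * n * a⁻¹ * n⁻¹ = (n * a * n⁻¹ * a⁻¹)⁻¹ := by group
      rw [e]
      exact inv_mem (h6 (h5 h7)))
    exact subgroupOf_eq_top.1 h2
  · -- some conjugate of `x` is moved
    have h0 : ∃ y ∈ NP M x, orderOf y = r ∧ y ∈ M ∧ a * y * a⁻¹ * y⁻¹ ∉ o2 M ∧
        a * y * a⁻¹ ∈ zpowers y ⊔ o2 M := by
      refine ⟨x, self_mem_NP M x, h.ord, h.mem, fun hc => hna ?_, h.norm a (hAM ha)⟩
      -- `a` centralises `⟨x⟩O₂(M)/O₂(M)`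
      have hnM := le_normalizer_o2 M
      have key : zpowers x ⊔ o2 M ≤ normalizer (o2 M : Set G) :=
        sup_le (zpowers_le.2 (hnM h.mem)) le_normalizer
      have hcc : ∀ y ∈ zpowers x ⊔ o2 M, a * y * a⁻¹ * y⁻¹ ∈ o2 M := by
        intro y hy
        have hy' : y ∈ (zpowers x : Set G) * (o2 M : Set G) := by
          rw [← Subgroup.coe_mul_of_left_le_normalizer_right _ _ (zpowers_le.2 (hnM h.mem))]
          exact hy
        obtain ⟨_, ⟨i, rfl⟩, q, hq, rfl⟩ := hy'
        have h1 : ∀ i : ℤ, a * x ^ i * a⁻¹ * (x ^ i)⁻¹ ∈ o2 M := by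
          intro i
          obtain ⟨u, hu⟩ : ∃ u, u = a * x * a⁻¹ * x⁻¹ := ⟨_, rfl⟩
          have hax : a * x * a⁻¹ = u * x := by rw [hu]; group
          have hu2 : u ∈ o2 M := by rw [hu]; exact hc
          -- in the normaliser quotient
          have h2 : ∀ k : ℕ, (u * x) ^ k * (x ^ k)⁻¹ ∈ o2 M := by
            intro k
            induction k with
            | zero => simp
            | succ k ih =>
              have e : (u * x) ^ (k + 1) * (x ^ (k + 1))⁻¹ =
                  (u * x) ^ k * (x ^ k)⁻¹ * (x ^ k * u * (x ^ k)⁻¹) := by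
                rw [pow_succ, pow_succ]; group
              rw [e]
              exact mul_mem ih ((mem_normalizer_iff.1 (hnM (pow_mem h.mem k)) u).1 hu2)
          obtain ⟨k, hk⟩ : ∃ k : ℕ, x ^ i = x ^ k := by
            have hi : x ^ i ∈ zpowers x := ⟨i, rfl⟩
            rw [← mem_powers_iff_mem_zpowers] at hi
            obtain ⟨k, hk⟩ := hi
            exact ⟨k, hk.symm⟩
          rw [hk]
          have e : a * x ^ k * a⁻¹ = (u * x) ^ k := by rw [← hax, conj_pow]
          rw [e]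
          exact h2 k
        have h3 := h1 i
        have e : a * (x ^ i * q) * a⁻¹ * (x ^ i * q)⁻¹ =
            (a * x ^ i * a⁻¹ * (x ^ i)⁻¹) * (x ^ i * (a * q * a⁻¹ * q⁻¹) * (x ^ i)⁻¹) := by group
        show a * (x ^ i * q) * a⁻¹ * (x ^ i * q)⁻¹ ∈ o2 M
        rw [e]
        refine mul_mem h3 ?_
        refine (mem_normalizer_iff.1 (hnM (zpow_mem h.mem i)) _).1 ?_
        exact mul_mem ((mem_normalizer_iff.1 (hnM (hAM ha)) q).1 hq) (inv_mem hq)
      exact hcc n (NP_le_sup h hn')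
    obtain ⟨y, hyN, hyr, hyM, hya, hyn⟩ := h0
    obtain ⟨m, hm⟩ := hA ⟨a, ha⟩
    have hm1 : a ^ 2 ^ m = 1 := congrArg Subtype.val hm
    have h2 := mem_of_comm (N := o2 M) (x := y) (s := a) (k := 1) h.prime h.odd (by rw [hyr, pow_one]) hm1
      (le_normalizer_o2 M hyM) (le_normalizer_o2 M (hAM ha)) hyn hya
    -- `y ∈ [N, A]`
    obtain ⟨K, hK⟩ : ∃ K : Subgroup G, K = ⁅NP M x, A⁆ := ⟨_, rfl⟩
    rw [← hK] at hle hn ⊢
    have h3 : zpowers (y * a * y⁻¹ * a⁻¹) ≤ K := by
      rw [zpowers_le, ← commutatorElement_def, hK]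
      exact commutator_mem_commutator hyN ha
    have h4 : ∃ c ∈ K, ∃ q ∈ o2 M, y = c * q := by
      have h5 : (zpowers (y * a * y⁻¹ * a⁻¹) : Subgroup G) ≤ normalizer (o2 M : Set G) :=
        h3.trans (hle.trans ((NP_le h.mem).trans (le_normalizer_o2 M)))
      have h6 : y ∈ (zpowers (y * a * y⁻¹ * a⁻¹) : Set G) * (o2 M : Set G) := by
        rw [← Subgroup.coe_mul_of_left_le_normalizer_right _ _ h5]
        exact h2
      obtain ⟨c, hc, q, hq, hcq⟩ := h6
      exact ⟨c, h3 hc, q, hq, hcq.symm⟩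
    obtain ⟨c, hc, q, hq, hcq⟩ := h4
    have hqN : q ∈ NP M x := by
      have e : q = c⁻¹ * y := by rw [hcq]; group
      rw [e]
      exact mul_mem (inv_mem (hle hc)) hyN
    have h5 : y ∈ K := by
      obtain ⟨k, hk⟩ := o2_isPGroup M ⟨q, hq⟩
      have hk1 : q ^ 2 ^ k = 1 := congrArg Subtype.val hk
      refine mem_of_pow (k := k) Nat.prime_two ?_ ?_
      · rw [hyr]
        exact fun hd => h.odd ((Nat.prime_dvd_prime_iff_eq Nat.prime_two h.prime).1 hd).symm
      · -- `y ^ 2 ^ k ≡ q ^ 2 ^ k = 1` modulo `K`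
        have h6 : ∀ n : ℕ, (c * q) ^ n * (q ^ n)⁻¹ ∈ K := by
          intro n
          induction n with
          | zero => simp
          | succ n ih =>
            have e : (c * q) ^ (n + 1) * (q ^ (n + 1))⁻¹ =
                (c * q) ^ n * c * ((c * q) ^ n)⁻¹ * ((c * q) ^ n * (q ^ n)⁻¹) := by
              rw [pow_succ, pow_succ]; group
            rw [e]
            refine mul_mem ((mem_normalizer_iff.1 (hn (pow_mem (mul_mem (hle hc) hqN) n)) c).1 hc) ih
        have h7 := h6 (2 ^ k)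
        rw [hk1, inv_one, mul_one, ← hcq] at h7
        exact h7
    have h6 : r ∣ Nat.card K := by
      rw [← hyr]
      exact Subgroup.orderOf_dvd_natCard _ h5
    rw [NP, closure_le]
    rintro _ ⟨g, hg, rfl⟩
    refine mem_of_normal hG.cyc hle hn h.prime h.odd h6 (mem_NP hg) ?_
    rw [← h.ord, ← MulAut.conj_apply]
    exact orderOf_injective (MulAut.conj g).toMonoidHom (MulAut.conj g).injective x

/-- **existence of a moved piece** -/
theorem exists_pc (hG : Hyp G) (hM : o2 M ≠ ⊥) (hA : IsPGroup 2 A) (hAM : A ≤ M) (hA2 : ¬ A ≤ o2 M) :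
    ∃ N, Pc M N ∧ Moves M A N := by
  have hQ : (pCore 2 M).Normal := Lib.Cores.pCore_normal 2
  have hO : pCore 2 (M ⧸ pCore 2 M) = ⊥ := Lib.Cores.pCore_quotient_pCore 2
  have hcX : OddCyc M := oddCyc_subgroup hG.cyc M
  have hcq : OddCyc (M ⧸ pCore 2 M) := oddCyc_quotient hcX (pCore 2 M)
  obtain ⟨π, hπ⟩ : ∃ π : M →* M ⧸ pCore 2 M, π = QuotientGroup.mk' (pCore 2 M) := ⟨_, rfl⟩
  have hπs : Function.Surjective π := by rw [hπ]; exact QuotientGroup.mk'_surjective _
  have hπk : π.ker = pCore 2 M := by rw [hπ]; exact QuotientGroup.ker_mk' _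
  have hmem : ∀ m : M, π m = 1 ↔ (m : G) ∈ o2 M := by
    intro m
    rw [← MonoidHom.mem_ker, hπk]
    constructor
    · intro h; exact ⟨m, h, rfl⟩
    · rintro ⟨m', hm', e⟩
      rwa [← Subtype.ext (show (m' : G) = m from e)]
  have hA' : IsPGroup 2 ((A.subgroupOf M).map π) := (hA.comap_subtype (K := M)).map π
  have hA1 : (A.subgroupOf M).map π ≠ ⊥ := by
    intro h0
    apply hA2
    intro a ha
    rw [Subgroup.map_eq_bot_iff, hπk] at h0
    exact ⟨⟨a, hAM ha⟩, h0 (show (⟨a, hAM ha⟩ : M) ∈ A.subgroupOf M from ha), rfl⟩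
  rcases exists_moved_abs hO hcq hA' hA1 with ⟨K, hK, a, ha, k, hk, hak⟩ | ⟨r, x, hr, hr2, hxr, hxn, a, ha, hax⟩
  · obtain ⟨L, h1, h2, h3, h4, -⟩ := exists_normal hcX hK
    obtain ⟨a, ha, rfl⟩ := ha
    rw [← h4, ← hπ] at hk
    obtain ⟨l, hl, rfl⟩ := hk
    refine ⟨L.map M.subtype, Or.inl (cp_of_internal h1 h2 h3), a, ha, l, ⟨l, hl, rfl⟩, fun h0 => hak ?_⟩
    have h5 := (hmem (a * l * a⁻¹ * l⁻¹)).2 h0
    rw [map_mul, map_mul, map_mul, map_inv, map_inv] at h5
    exact mul_inv_eq_iff_eq_mul.1 (mul_inv_eq_one.1 h5)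
  · obtain ⟨a, ha, rfl⟩ := ha
    obtain ⟨y, j, hyj, hxy, hyx⟩ := exists_lift π hπs (k := 1) hr (by rw [hxr, pow_one])
    -- `y` has order `r`
    have hyr : y ^ r = 1 := by
      have h1 : π (y ^ r) = 1 := by
        rw [map_pow]
        obtain ⟨n, hn⟩ := hyx
        simp only at hn
        rw [← hn, ← zpow_natCast, ← zpow_mul, mul_comm, zpow_mul, zpow_natCast, ← hxr, pow_orderOf_eq_one, one_zpow]
      rw [← MonoidHom.mem_ker, hπk] at h1
      obtain ⟨n, hn⟩ := Lib.Cores.pCore_isPGroup 2 (⟨_, h1⟩ : pCore 2 M)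
      have h2 : (y ^ r) ^ 2 ^ n = 1 := congrArg Subtype.val hn
      have h3 : y ^ r ∈ (⊥ : Subgroup M) := by
        refine mem_of_pow (k := n) Nat.prime_two ?_ (by rw [h2]; exact one_mem _)
        intro hd
        have h4 : 2 ∣ orderOf y := hd.trans (orderOf_pow_dvd r)
        rw [hyj] at h4
        exact hr2 ((Nat.prime_dvd_prime_iff_eq Nat.prime_two hr).1 (Nat.prime_two.dvd_of_dvd_pow h4)).symm
      exact mem_bot.1 h3
    have hy1 : y ≠ 1 := by
      rintro rfl
      rw [map_one, zpowers_one_eq_bot, mem_bot] at hxy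
      rw [hxy, orderOf_one] at hxr
      exact hr.one_lt.ne hxr
    have hfr : Fact r.Prime := ⟨hr⟩
    have hyo : orderOf y = r := orderOf_eq_prime hyr hy1
    have hzz : zpowers (π y) = zpowers x := le_antisymm (zpowers_le.2 hyx) (zpowers_le.2 hxy)
    have h4 : ((zpowers (π y)).comap π).Normal := by
      rw [hzz]; exact hxn.comap π
    have h5 : (zpowers (π y)).comap π = zpowers y ⊔ pCore 2 M := by
      rw [← MonoidHom.map_zpowers, Subgroup.comap_map_eq, hπk]
    rw [h5] at h4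
    have h6 : (zpowers y ⊔ pCore 2 M).map M.subtype = zpowers (y : G) ⊔ o2 M := by
      rw [Subgroup.map_sup, MonoidHom.map_zpowers]
      rfl
    have hRM : RM M r (y : G) :=
      { prime := hr, odd := hr2, mem := y.2, ord := by rw [Subgroup.orderOf_coe, hyo],
        norm := by
          intro g hg
          rw [← h6]
          exact ⟨_, h4.conj_mem y (le_sup_left (a := zpowers y) (mem_zpowers y)) ⟨g, hg⟩, rfl⟩ }
    refine ⟨NP M y, Or.inr ⟨r, y, hRM, rfl⟩, a, ha, y, self_mem_NP M y, fun h0 => hax ?_⟩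
    have h7 := (hmem (a * y * a⁻¹ * y⁻¹)).2 h0
    rw [map_mul, map_mul, map_mul, map_inv, map_inv] at h7
    have h8 : Commute (π a) (π y) := mul_inv_eq_iff_eq_mul.1 (mul_inv_eq_one.1 h7)
    obtain ⟨n, hn⟩ := hxy
    simp only at hn
    rw [← hn]
    exact (h8.zpow_right n)

/-- `O₂(N) ≠ 1` for a piece of a group of characteristic 2 -/
theorem Pc.o2_ne_bot (h : Pc M N) (hM : M ⊓ centralizer (o2 M : Set G) ≤ o2 M) : o2 N ≠ ⊥ := by
  rcases h with h | ⟨r, x, h, rfl⟩
  · exact h.o2_ne_bot hM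
  · intro h0
    have h1 : NP M x ⊓ o2 M ≤ o2 (NP M x) := le_o2 ((o2_isPGroup M).to_le inf_le_right) inf_le_left (by
      refine le_normalizer_of_forall fun l hl m hm => Subgroup.mem_inf.2 ⟨?_, ?_⟩
      · exact mul_mem (mul_mem hl hm.1) (inv_mem hl)
      · exact conj_mem_of_normalizer (le_normalizer_o2 M) (NP_le h.mem hl) hm.2)
    rw [h0, le_bot_iff] at h1
    have h2 : x ∈ M ⊓ centralizer (o2 M : Set G) := by
      refine Subgroup.mem_inf.2 ⟨h.mem, ?_⟩
      rw [mem_centralizer_iff]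
      intro q hq
      have h3 : q * x * q⁻¹ * x⁻¹ ∈ NP M x ⊓ o2 M := by
        refine Subgroup.mem_inf.2 ⟨mul_mem (mem_NP (o2_le M hq)) (inv_mem (self_mem_NP M x)), ?_⟩
        have e : q * x * q⁻¹ * x⁻¹ = q * (x * q⁻¹ * x⁻¹) := by group
        rw [e]
        exact mul_mem hq (conj_mem_of_normalizer (le_normalizer_o2 M) h.mem (inv_mem hq))
      rw [h1, mem_bot] at h3
      calc q * x = q * x * q⁻¹ * x⁻¹ * (x * q) := by group
        _ = x * q := by rw [h3, one_mul]
    exact h.not_two (o2_isPGroup M) (hM h2)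

end PC

end Cfsg.Agent.OddCyclic.UniStruct
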