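import Cfsg.Agent.OddCyclic.RedSeven
import Cfsg.Agent.OddCyclic.RedPl
import Cfsg.Agent.OddCyclic.CycConj
import Cfsg.Agent.MinSimple.LemXPerm

/-!
# S0342, (C2), 2.2: the types (L3a), (L3b), (L3c) of `X`

The outcomes `Flag`, `One` of `RedSeven.main` for the action of `X` on `Y`, lifted to `SevY`, `BcY`.
-/

set_option autoImplicit false
set_option linter.unusedSectionVars false

namespace Cfsg.Agent.OddCyclic.RedSevenX

open Subgroup Cfsg Cfsg.Agent.ZN Cfsg.Agent.MinSimple Cfsg.Agent.MinSimple.DBlkApi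
open Cfsg.Agent.ZN.ChoiceBase (AA cj)
open Cfsg.Agent.MinSimple.LemX (nc)
open Cfsg.Agent.OddCyclic.T1Module Cfsg.Agent.OddCyclic.FFBasic Cfsg.Agent.OddCyclic.FFRed
open Cfsg.Agent.OddCyclic.RedFam Cfsg.Agent.OddCyclic.RedTy Cfsg.Agent.OddCyclic.RedRep Cfsg.Agent.OddCyclic.RedPl
open Cfsg.Agent.OddCyclic.RedSeven
open Cfsg.Agent.OddCyclic.COneDefs (LBlk)
open Cfsg.Agent.OddCyclic.RedX (Loc)
open Cfsg.Agent.OddCyclic.T1Defs (OddCyc)

universe u

variable {G : Type u} [Group G] {X T Y : Subgroup G}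
variable {H V : Type u} [Group H] [CommGroup V] {r : X →* H} {ρ : H →* MulAut V} {ι : V →* G}

/-! ### images and preimages -/

/-- the preimage in `G` -/
def pre (r : X →* H) (L : Subgroup H) : Subgroup G := (L.comap r).map X.subtype

theorem mem_pre {L : Subgroup H} {g : G} : g ∈ pre r L ↔ ∃ hg : g ∈ X, r ⟨g, hg⟩ ∈ L := by
  constructor
  · rintro ⟨x, hx, rfl⟩
    exact ⟨x.2, hx⟩
  · rintro ⟨hg, h⟩
    exact ⟨⟨g, hg⟩, h, rfl⟩

theorem pre_le (L : Subgroup H) : pre r L ≤ X := map_subtype_le _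

/-- the image in `H` -/
def img (r : X →* H) (A : Subgroup G) : Subgroup H := (A.subgroupOf X).map r

theorem mem_img {A : Subgroup G} {h : H} : h ∈ img r A ↔ ∃ x : X, (x : G) ∈ A ∧ r x = h := by
  constructor
  · rintro ⟨x, hx, rfl⟩
    exact ⟨x, mem_subgroupOf.1 hx, rfl⟩
  · rintro ⟨x, hx, rfl⟩
    exact ⟨x, mem_subgroupOf.2 hx, rfl⟩

theorem img_le_iff {A : Subgroup G} (hA : A ≤ X) {L : Subgroup H} : img r A ≤ L ↔ A ≤ pre r L := by
  constructor
  · intro h a ha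
    exact mem_pre.2 ⟨hA ha, h (mem_img.2 ⟨⟨a, hA ha⟩, ha, rfl⟩)⟩
  · intro h b hb
    obtain ⟨x, hx, rfl⟩ := mem_img.1 hb
    obtain ⟨hg, h1⟩ := mem_pre.1 (h hx)
    exact h1

theorem sSup_fam (hT : T ≤ X) : sSup (famOf X T r) = img r (jj T) := by
  apply le_antisymm
  · refine sSup_le ?_
    rintro _ ⟨A, hA, rfl⟩
    intro b hb
    obtain ⟨x, hx, rfl⟩ := mem_img.1 hb
    exact mem_img.2 ⟨x, ChoiceBase.le_jj hA hx, rfl⟩
  · rw [img_le_iff ((ZN.jj_le T).trans hT), ChoiceBase.jj_eq]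
    refine sSup_le fun A hA => ?_
    have h1 : A ≤ X := (ChoiceBase.le_jj hA).trans ((ZN.jj_le T).trans hT)
    rw [← img_le_iff h1]
    exact le_sSup ⟨A, hA, rfl⟩

theorem pre_norm {L : Subgroup H} [hL : L.Normal] : X ≤ normalizer (pre r L : Set G) := by
  rw [le_normalizer_iff]
  intro x hx g hg
  obtain ⟨hg, h1⟩ := mem_pre.1 hg
  refine mem_pre.2 ⟨X.mul_mem (X.mul_mem hx hg) (X.inv_mem hx), ?_⟩
  have h2 : (⟨x * g * x⁻¹, X.mul_mem (X.mul_mem hx hg) (X.inv_mem hx)⟩ : X) = ⟨x, hx⟩ * ⟨g, hg⟩ * ⟨x, hx⟩⁻¹ := rfl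
  rw [h2, map_mul, map_mul, map_inv]
  exact hL.conj_mem _ h1 _

/-- `r` maps `C_X(Y)` to `1` -/
theorem cent_iff (hr : Rep X Y r ρ ι) {x : X} : r x = 1 ↔ (x : G) ∈ centralizer (Y : Set G) := by
  rw [hr.r_eq_one, mem_centralizer_iff]
  exact ⟨fun h y hy => (h y hy).symm, fun h y hy => (h y hy).symm⟩

theorem El3.map {x : X} (h : El3 (x : G)) : ∃ k : ℕ, (r x) ^ 3 ^ k = 1 := by
  obtain ⟨k, hk⟩ := h
  refine ⟨k, ?_⟩
  rw [← map_pow, show x ^ 3 ^ k = 1 from Subtype.ext hk, map_one]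

/-- the image of `kk X T` -/
theorem exists_kk [Finite G] (hT : T ≤ X) (hsurj : Function.Surjective r) {L : Subgroup H} (hL : L.Normal)
    (hs : IsSimpleGroup L) (hle : img r (jj T) ≤ L) (hne : img r (jj T) ≠ ⊥) :
    kk X T ≤ pre r L ∧ ∀ l ∈ L, ∃ x : X, (x : G) ∈ kk X T ∧ r x = l := by
  have h1 : kk X T ≤ pre r L := LemX.nc_le ((img_le_iff ((ZN.jj_le T).trans hT)).1 hle) pre_norm
  have hkX : kk X T ≤ X := h1.trans (pre_le L)
  refine ⟨h1, ?_⟩
  have h2 : (img r (kk X T)).Normal := by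
    refine ⟨fun h hh g => ?_⟩
    obtain ⟨x, hx, rfl⟩ := mem_img.1 hh
    obtain ⟨y, rfl⟩ := hsurj g
    refine mem_img.2 ⟨y * x * y⁻¹, ?_, by rw [map_mul, map_mul, map_inv]⟩
    exact Four.conj_mem (LemX.le_normalizer_nc X (jj T) y.2) hx
  have h3 : img r (kk X T) ≤ L := (img_le_iff hkX).2 h1
  have h4 : ((img r (kk X T)).subgroupOf L).Normal := h2.subgroupOf L
  rcases hs.eq_bot_or_eq_top_of_normal _ h4 with h5 | h5
  · exfalso
    rw [Subgroup.subgroupOf_eq_bot, disjoint_iff, inf_eq_left.2 h3] at h5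
    apply hne
    rw [eq_bot_iff, ← h5]
    intro b hb
    obtain ⟨x, hx, rfl⟩ := mem_img.1 hb
    exact mem_img.2 ⟨x, LemX.le_nc X (jj T) hx, rfl⟩
  · rw [subgroupOf_eq_top] at h5
    exact fun l hl => mem_img.1 (h5 hl)

/-- `Y ⊓ C(kk)` is the image of `C_V(L)` -/
theorem cent_kk [Finite G] (hr : Rep X Y r ρ ι) (hT : T ≤ X) {L : Subgroup H} (hL : L.Normal)
    (hs : IsSimpleGroup L) (hle : img r (jj T) ≤ L) (hne : img r (jj T) ≠ ⊥) {v : V} :
    ι v ∈ centralizer (kk X T : Set G) ↔ v ∈ CS ρ L := by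
  obtain ⟨h1, h2⟩ := exists_kk hT hr.surj hL hs hle hne
  constructor
  · intro hv l hl
    obtain ⟨x, hx, rfl⟩ := h2 l hl
    exact hr.fix.2 (mem_centralizer_iff.1 hv x hx)
  · intro hv
    rw [mem_centralizer_iff]
    intro g hg
    obtain ⟨hgX, h3⟩ := mem_pre.1 (h1 hg)
    exact hr.fix.1 (hv _ h3)

/-- `Y ⊓ C(J)` is the image of `C_V(J)` -/
theorem cent_jj (hr : Rep X Y r ρ ι) (hT : T ≤ X) {A : Subgroup G} (hA : A ≤ T) {v : V} :
    ι v ∈ centralizer (A : Set G) ↔ v ∈ CS ρ (img r A) := by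
  constructor
  · intro hv l hl
    obtain ⟨x, hx, rfl⟩ := mem_img.1 hl
    exact hr.fix.2 (mem_centralizer_iff.1 hv x hx)
  · intro hv
    rw [mem_centralizer_iff]
    intro g hg
    exact hr.fix.1 (hv _ (mem_img.2 ⟨⟨g, hT (hA hg)⟩, hg, rfl⟩))

theorem card_map_ι (hr : Rep X Y r ρ ι) (P : Subgroup V) : Nat.card (P.map ι) = Nat.card P :=
  Subgroup.card_map_of_injective hr.iinj

theorem map_ι_le (hr : Rep X Y r ρ ι) (P : Subgroup V) : P.map ι ≤ Y := by
  rw [← hr.range]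
  rintro _ ⟨v, -, rfl⟩
  exact ⟨v, rfl⟩

/-- `x` normalises `ι P` if `r x` stabilises `P` -/
theorem mem_norm_of [Finite G] (hr : Rep X Y r ρ ι) {P : Subgroup V} {x : X} (h : ∀ p ∈ P, ρ (r x) p ∈ P) :
    (x : G) ∈ normalizer ((P.map ι : Subgroup G) : Set G) := by
  refine VModule.mem_normalizer_of_map_le ?_
  rintro _ ⟨_, ⟨p, hp, rfl⟩, rfl⟩
  refine ⟨ρ (r x) p, h p hp, ?_⟩
  rw [hr.act]
  rfl

theorem of_mem_norm (hr : Rep X Y r ρ ι) {P : Subgroup V} {x : X}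
    (h : (x : G) ∈ normalizer ((P.map ι : Subgroup G) : Set G)) : ∀ p ∈ P, ρ (r x) p ∈ P := by
  intro p hp
  obtain ⟨q, hq, he⟩ := Four.conj_mem h ⟨p, hp, rfl⟩
  have h1 : ι q = ι (ρ (r x) p) := by rw [hr.act]; exact he
  rw [← hr.iinj h1]
  exact hq

/-- the index of `C_A(Y)` in `A` -/
theorem relIndex_cent [Finite G] (hr : Rep X Y r ρ ι) {A : Subgroup G} (hA : A ≤ X) :
    (A ⊓ centralizer (Y : Set G)).relIndex A = Nat.card (img r A) := by
  let f : A →* H := r.comp (Subgroup.inclusion hA)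
  have h1 : f.range = img r A := by
    ext h
    rw [mem_img]
    constructor
    · rintro ⟨a, rfl⟩
      exact ⟨⟨a, hA a.2⟩, a.2, rfl⟩
    · rintro ⟨x, hx, rfl⟩
      exact ⟨⟨x, hx⟩, rfl⟩
  have h2 : f.ker = (A ⊓ centralizer (Y : Set G)).subgroupOf A := by
    ext a
    rw [MonoidHom.mem_ker, mem_subgroupOf]
    change r ⟨a, hA a.2⟩ = 1 ↔ _
    rw [cent_iff hr]
    exact ⟨fun h => ⟨a.2, h⟩, fun h => h.2⟩
  rw [← h1, ← Subgroup.index_ker f, h2]
  rfl

/-! ### no `SL₂(q)`-block -/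

theorem not_vl_le_rl [Finite G] {B L : Subgroup G} {q : ℕ} (h : LBlk B L q) : ¬ vl B L ≤ rl B L := by
  intro h1
  apply RedLBlk.not_zl_le_rl h
  refine RedLBlk.le_rl_of_triv h le_rfl (fun l hl p hp => FinalBridge.zl_conj_of_mem hl hp) ?_
  intro b hb p hp
  apply h1
  have h2 : p * b * p⁻¹ * b⁻¹ ∈ vl B L := Subgroup.commutator_mem_commutator hp (h.le hb)
  have h3 := (vl B L).inv_mem h2
  have e : (p * b * p⁻¹ * b⁻¹)⁻¹ = b * p * b⁻¹ * p⁻¹ := by group
  rwa [e] at h3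

theorem exists_hom_of_lblk [Finite G] (hY : YC X T Y) (hr : Rep X Y r ρ ι) {L : Subgroup G} {q : ℕ} (hLX : L ≤ X)
    (hL : LBlk (bau T) L q) : ∃ (E : Subgroup H) (F : Type) (_ : Field F) (_ : Fintype F) (_ : CharP F 2)
      (π : E →* Matrix.SpecialLinearGroup (Fin 2) F), Function.Surjective π ∧ 4 ≤ Fintype.card F := by
  have hf3 : Fact (Nat.Prime 3) := ⟨Nat.prime_three⟩
  obtain ⟨F, _, _, _, φ, hφ, hker, hq⟩ := hL.iso
  have h4 : 4 ≤ Fintype.card F := hq ▸ hL.four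
  have hvY : vl (bau T) L ≤ Y := hY.vl_le L hLX (Or.inr ⟨q, hL⟩)
  let f : L →* img r L :=
    (r.comp (Subgroup.inclusion hLX)).codRestrict (img r L) fun x => mem_img.2 ⟨⟨x, hLX x.2⟩, x.2, rfl⟩
  have hf : Function.Surjective f := by
    rintro ⟨h, hh⟩
    obtain ⟨x, hx, rfl⟩ := mem_img.1 hh
    exact ⟨⟨x, hx⟩, rfl⟩
  have hfker : ∀ x : L, f x = 1 → (x : G) ∈ centralizer (Y : Set G) := by
    intro x hx
    have h1 : r ⟨x, hLX x.2⟩ = 1 := congrArg Subtype.val hx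
    exact (cent_iff hr).1 h1
  have hle : f.ker ≤ φ.ker := by
    have hn : (f.ker.map φ).Normal := (inferInstance : f.ker.Normal).map φ hφ
    have hs := isSimpleGroup_sl2 (F := F) h4
    rcases hs.eq_bot_or_eq_top_of_normal _ hn with h1 | h1
    · rwa [Subgroup.map_eq_bot_iff] at h1
    · exfalso
      have h2 : 3 ∣ Nat.card f.ker := by
        have h3 := Subgroup.card_map_dvd f.ker φ
        rw [h1, Subgroup.card_top] at h3
        exact (RedSeven.three_dvd F).trans h3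
      obtain ⟨⟨x, hx⟩, ho⟩ := exists_prime_orderOf_dvd_card' (G := f.ker) 3 h2
      rw [Subgroup.orderOf_mk] at ho
      have hxc := hfker x (MonoidHom.mem_ker.1 hx)
      apply not_vl_le_rl hL
      intro v hv
      refine hL.fpf x x.2 (by rw [Subgroup.orderOf_coe]; exact ho) v (vl_le_zl _ _ hv) ?_
      exact (mem_centralizer_iff.1 hxc v (hvY hv)).symm
  refine ⟨img r L, F, inferInstance, inferInstance, inferInstance,
    MonoidHom.liftOfRightInverse f (Function.surjInv hf) (Function.rightInverse_surjInv hf) ⟨φ, hle⟩, ?_, h4⟩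
  intro y
  obtain ⟨x, rfl⟩ := hφ y
  exact ⟨f x, MonoidHom.liftOfRightInverse_comp_apply f _ _ ⟨φ, hle⟩ x⟩

theorem nolin [Finite G] [Finite H] (hY : YC X T Y) (hr : Rep X Y r ρ ι) {T' : Subgroup H} {𝒜 : Set (Subgroup H)}
    {L : Subgroup H} (hL : Lv T' 𝒜 L) {L' : Subgroup G} {q : ℕ} (hLX : L' ≤ X) : ¬ LBlk (bau T) L' q := by
  intro h
  obtain ⟨E, F, _, _, _, π, hπ, h4⟩ := exists_hom_of_lblk hY hr hLX h
  exact hL.no_sl2 h4 π hπ

/-! ### (L3a) -/

section sev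

variable [Finite G] [Finite H] [Finite V] {L : Subgroup H} {N P : Subgroup V} {z : V}

theorem img_bau (hY : YC X T Y) (hr : Rep X Y r ρ ι) (hf : Flag ρ (im X T r) (famOf X T r) L N P z) :
    img r (bau T) = im X T r ⊓ L := by
  have hTX := hY.TX
  have h1 : img r (jj T) = im X T r ⊓ L := by rw [← sSup_fam hTX, hf.sSup_eq]
  apply le_antisymm
  · rintro b hb
    obtain ⟨x, hx, rfl⟩ := mem_img.1 hb
    refine ⟨mem_img.2 ⟨x, ZN.bau_le T hx, rfl⟩, hf.cent' _ fun v hv => ?_⟩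
    rw [← h1, ← cent_jj hr hTX (ZN.jj_le T)] at hv
    exact hr.fix.2 (bau_fix hY (hr.mem v) (fun a ha => mem_centralizer_iff.1 hv a ha) x hx)
  · rw [← h1]
    intro b hb
    obtain ⟨x, hx, rfl⟩ := mem_img.1 hb
    exact mem_img.2 ⟨x, ZN.jj_le_bau T hx, rfl⟩

theorem sev (hc : OddCyc G) (hY : YC X T Y) (hr : Rep X Y r ρ ι)
    (hL : Lv (im X T r) (famOf X T r) L) (hf : Flag ρ (im X T r) (famOf X T r) L N P z) :
    SevY X T Y (N.map ι) (P.map ι) (ι z) := by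
  have hTX := hY.TX
  have himj : img r (jj T) = im X T r ⊓ L := by rw [← sSup_fam hTX, hf.sSup_eq]
  have hle : img r (jj T) ≤ L := by rw [himj]; exact inf_le_right
  have hne : img r (jj T) ≠ ⊥ := by
    intro h0
    have := hL.cardT
    rw [← himj, h0, Subgroup.card_bot] at this
    omega
  have hkk : ∀ v : V, ι v ∈ centralizer (kk X T : Set G) ↔ v ∈ CS ρ L := fun v =>
    cent_kk hr hTX hL.norm hL.simple hle hne
  have hTn : T ≤ normalizer ((P.map ι : Subgroup G) : Set G) := fun t ht =>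
    mem_norm_of (x := ⟨t, hTX ht⟩) hr fun p hp => hf.T_P _ (mem_im hTX ht) p hp
  have hPY : P.map ι ≤ Y := map_ι_le hr P
  refine ⟨map_ι_le hr N, fun x hx => mem_norm_of (x := ⟨x, hx⟩) hr fun p hp => hf.inv _ p hp,
    by rw [card_map_ι hr, hf.cardN], ?_, ?_, ?_, ?_, ?_, Subgroup.map_mono hf.le, ⟨z, hf.mem, rfl⟩, ?_, hTn, ?_, ?_, ?_,
    fun L' q hL' => nolin hY hr hL hL', ?_, ?_⟩
  · -- full
    intro φ
    let e : N ≃* N.map ι := Subgroup.equivMapOfInjective N ι hr.iinj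
    obtain ⟨x, -, hx⟩ := hf.full ((e.trans φ).trans e.symm)
    obtain ⟨x₀, rfl⟩ := hr.surj x
    refine ⟨x₀, x₀.2, fun n => ?_⟩
    obtain ⟨m, rfl⟩ := e.surjective n
    have h1 : φ (e m) = e (((e.trans φ).trans e.symm) m) := by
      change φ (e m) = e (e.symm (φ (e m)))
      rw [e.apply_symm_apply]
    have h2 : ∀ k : N, ((e k : N.map ι) : G) = ι k := fun k => rfl
    rw [h1, h2, h2, hx, hr.act]
  · -- split
    intro y hy
    obtain ⟨v, rfl⟩ := hr.exists_v hy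
    have h1 : v ∈ N ⊔ CS ρ L := by rw [hf.sup]; trivial
    obtain ⟨n, hn, w, hw, rfl⟩ := Subgroup.mem_sup.1 h1
    rw [map_mul]
    exact mul_mem (mem_sup_left ⟨n, hn, rfl⟩) (mem_sup_right ⟨hr.mem w, (hkk w).2 hw⟩)
  · -- disj
    rw [eq_bot_iff]
    rintro _ ⟨⟨n, hn, rfl⟩, h1⟩
    have h2 : n ∈ N ⊓ CS ρ L := ⟨hn, (hkk n).1 h1⟩
    rw [hf.disj, mem_bot] at h2
    rw [h2, map_one]
    exact one_mem _
  · -- three
    intro x hx h3 y hy
    obtain ⟨v, rfl⟩ := hr.exists_v hy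
    have h1 := (hL.three _ (El3.map (r := r) (x := ⟨x, hx⟩) h3)).1
    refine ⟨_, hf.comm _ h1 v, ?_⟩
    rw [map_mul, map_inv, hr.act]
  · -- index
    rw [relIndex_cent hr ((ZN.bau_le T).trans hTX), img_bau hY hr hf, hL.cardT]
  · exact fun h => hf.ne (hr.iinj (h.trans (map_one ι).symm))
  · exact fun t ht => hr.fix.1 (hf.T_z _ (mem_im hTX ht))
  · -- block
    obtain ⟨h, -, hpl⟩ := hf.plane
    obtain ⟨y, rfl⟩ := hr.surj h
    obtain ⟨L', k, h1, -, h2, h3⟩ := exists_blk_of_plane hc hY.toLoc (hPY.trans hY.le)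
      (by rw [card_map_ι hr, hf.cardP]) ((ZN.bau_le T).trans hTn) (by
        obtain ⟨_, ⟨A, hA, rfl⟩, _, ⟨a, ha, rfl⟩, p, hp, hne⟩ := hpl.moved
        exact ⟨a, ZN.jj_le_bau T (ChoiceBase.le_jj hA (mem_subgroupOf.1 ha)), ι p, ⟨p, hp, rfl⟩,
          fun h => hne (hr.fix.2 h)⟩)
      ⟨y, y.2, mem_norm_of hr hpl.inv, by
        rintro _ ⟨p, hp, rfl⟩ hp1 h4
        have h5 : p = 1 := hpl.fpf p hp (hr.fix.2 (mul_inv_eq_iff_eq_mul.1 h4))
        exact hp1 (by rw [h5, map_one])⟩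
    exact ⟨L', k, h1, h2, h3⟩
  · -- only
    intro L' k hL' hblk
    obtain ⟨y, -, -, hpl⟩ := pl_of_blk hY hr hL' hblk
    rw [← hf.only _ _ hpl, Subgroup.map_comap_eq, hr.range]
    exact (inf_eq_right.2 (hY.vl_le L' hL' (Or.inl ⟨k, hblk⟩))).symm
  · -- generation
    set M : Subgroup G := (X ⊓ normalizer ((P.map ι : Subgroup G) : Set G)) ⊔ (X ⊓ centralizer ({ι z} : Set G)) with hM
    have hMX : M ≤ X := sup_le inf_le_left inf_le_left
    have hLM : L ≤ img r M := by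
      refine hf.gen _ ?_ ?_
      · intro h _ hh
        obtain ⟨x, rfl⟩ := hr.surj h
        exact mem_img.2 ⟨x, mem_sup_left ⟨x.2, mem_norm_of hr hh⟩, rfl⟩
      · intro h _ hh
        obtain ⟨x, rfl⟩ := hr.surj h
        have h1 : (x : G) ∈ centralizer ({ι z} : Set G) := mem_centralizer_singleton_iff.2 (hr.fix.1 hh)
        exact mem_img.2 ⟨x, mem_sup_right ⟨x.2, h1⟩, rfl⟩
    have hkk' := (exists_kk hTX hr.surj hL.norm hL.simple hle hne).1
    have hkM : kk X T ≤ M := by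
      intro g hg
      obtain ⟨hgX, h1⟩ := mem_pre.1 (hkk' hg)
      obtain ⟨m, hm, hrm⟩ := mem_img.1 (hLM h1)
      have h2 : r (⟨g, hgX⟩ * m⁻¹) = 1 := by rw [map_mul, map_inv, hrm, mul_inv_cancel]
      rw [cent_iff hr] at h2
      have h3 : g * (m : G)⁻¹ ∈ M := by
        refine mem_sup_right ⟨X.mul_mem hgX (X.inv_mem m.2), ?_⟩
        exact centralizer_le (Set.singleton_subset_iff.2 (hr.mem z)) h2
      have h4 := M.mul_mem h3 hm
      rwa [inv_mul_cancel_right] at h4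
    refine (Basic.frattini_jj hTX hY.two hY.syl (LemX.le_normalizer_nc X (jj T)) (LemX.le_nc X (jj T))).trans ?_
    exact sup_le_sup_right hkM _
  · -- normal closure
    have hPc : P.map ι ≤ nc (X ⊓ centralizer (zc T : Set G)) (P.map ι) := LemX.le_nc _ _
    have h1 := hf.ncl ((nc (X ⊓ centralizer (zc T : Set G)) (P.map ι)).comap ι)
      (Subgroup.map_le_iff_le_comap.1 hPc) ?_
    · exact Subgroup.map_le_iff_le_comap.2 h1
    intro h hh hfix w hw
    obtain ⟨x, rfl⟩ := hr.surj h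
    rw [mem_comap] at hw ⊢
    rw [hr.act]
    have hx : (x : G) ∈ X ⊓ centralizer (zc T : Set G) := by
      refine mem_inf.2 ⟨x.2, mem_centralizer_iff.2 ?_⟩
      intro t ht
      obtain ⟨v, rfl⟩ := hr.exists_v (hY.zc_le ht)
      refine (hr.fix.1 (hfix v ?_)).symm
      rintro _ hb
      obtain ⟨y, hy, rfl⟩ := mem_img.1 hb
      exact hr.fix.2 (zc_comm ht hy)
    exact Four.conj_mem (LemX.le_normalizer_nc _ _ hx) hw

end sev

/-! ### 3-elements centralising `Y` -/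

/-- a central element of odd prime order does not lie in the commutator subgroup -/
theorem not_mem_commutator {E : Type*} [Group E] [Finite E] (h : OddCyc E) {p : ℕ} (hp : p.Prime) (hp2 : p ≠ 2) {z : E}
    (hz : z ∈ center E) (hzp : orderOf z = p) : z ∉ commutator E := by
  intro hzc
  have hpf : Fact p.Prime := ⟨hp⟩
  obtain ⟨P⟩ : Nonempty (Sylow p E) := inferInstance
  have hcyc := h p P hp hp2
  have hPc : IsMulCommutative (P : Subgroup E) := ⟨⟨fun a b => by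
    obtain ⟨g, hg⟩ := hcyc.exists_generator
    obtain ⟨m, rfl⟩ := Subgroup.mem_zpowers_iff.mp (hg a)
    obtain ⟨n, rfl⟩ := Subgroup.mem_zpowers_iff.mp (hg b)
    rw [← zpow_add, ← zpow_add, add_comm]⟩⟩
  let _ : CommGroup (P : Subgroup E) := { (inferInstance : Group (P : Subgroup E)) with
    mul_comm := hPc.is_comm.comm }
  have key : ∀ (k : ℕ) (g₀ : E), g₀⁻¹ * z ^ k * g₀ ∈ (P : Subgroup E) →
      g₀⁻¹ * z ^ k * g₀ = z ^ k := by
    intro k g₀ _
    have h1 : g₀ * z ^ k = z ^ k * g₀ :=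
      (mem_center_iff.mp ((center E).pow_mem hz k) g₀)
    rw [mul_assoc, ← h1, inv_mul_cancel_left]
  have h2 := MonoidHom.transfer_eq_pow (MonoidHom.id (P : Subgroup E)) z key
  have h3 : z ∈ (MonoidHom.transfer (MonoidHom.id (P : Subgroup E))).ker :=
    Abelianization.commutator_subset_ker _ hzc
  rw [MonoidHom.mem_ker, h2] at h3
  have h5 : z ^ (P : Subgroup E).index = 1 := congrArg Subtype.val h3
  have h6 : p ∣ (P : Subgroup E).index := by
    have h7 : orderOf z ∣ (P : Subgroup E).index := orderOf_dvd_of_pow_eq_one h5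
    rwa [hzp] at h7
  exact P.not_dvd_index h6

theorem perfect_of {L : Type*} [Group L] [Finite L] (hs : IsSimpleGroup L) (hc : Nat.card L = 168) :
    commutator L = ⊤ := by
  rcases hs.eq_bot_or_eq_top_of_normal (commutator L) inferInstance with h | h
  · exfalso
    have h32 := COneSeven.l32 hs hc
    obtain ⟨a, b, hab⟩ := h32.four
    obtain ⟨g, hg⟩ := h32.conj a b hab.a1 hab.aa hab.b1 hab.bb
    have h1 : g * a * g⁻¹ * a⁻¹ ∈ commutator L := by
      have := Subgroup.commutator_mem_commutator (mem_top g : g ∈ (⊤ : Subgroup L)) (mem_top a : a ∈ (⊤ : Subgroup L))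
      exact this
    rw [h, mem_bot, hg, mul_inv_eq_one] at h1
    exact hab.ne h1.symm
  · exact h

/-- no element of order 3 in the kernel of a map onto a group with a normal simple subgroup of order 168 -/
theorem false_of_three {K : Type*} [Group K] [Finite K] (hc : OddCyc K) {H : Type*} [Group H] {r : K →* H}
    (hr : Function.Surjective r) {L : Subgroup H} (hs : IsSimpleGroup L) (hcard : Nat.card L = 168) {x : K}
    (hx : r x = 1) (hx3 : orderOf x = 3) : False := by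
  have hfL : Finite L := Nat.finite_of_card_ne_zero (by rw [hcard]; norm_num)
  have hLL : ⁅L, L⁆ = L := by
    have h1 := perfect_of hs hcard
    have h2 := Subgroup.map_commutator (⊤ : Subgroup L) ⊤ L.subtype
    have h3 : (⊤ : Subgroup L).map L.subtype = L := by
      rw [← MonoidHom.range_eq_map, Subgroup.range_subtype]
    rw [h3] at h2
    rw [← h2]
    have h4 : ⁅(⊤ : Subgroup L), ⊤⁆ = ⊤ := h1
    rw [h4, h3]
  have hx33 : x ^ 3 = 1 := by rw [← hx3, pow_orderOf_eq_one]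
  -- lifts to the normaliser of `⟨x⟩`
  have hlift : ∀ h : H, ∃ g : K, r g = h ∧ (g * x * g⁻¹ = x ∨ g * x * g⁻¹ = x⁻¹) := by
    intro h
    obtain ⟨g₀, rfl⟩ := hr h
    have h1 : orderOf (g₀ * x * g₀⁻¹) = 3 := by
      rw [← hx3, ← MulAut.conj_apply]
      exact orderOf_injective (MulAut.conj g₀).toMonoidHom (MulAut.conj g₀).injective x
    obtain ⟨c, hc1, hc2⟩ := CycConj.zpowers_conj hc 3 r.ker x (g₀ * x * g₀⁻¹) hx
      (by rw [MonoidHom.mem_ker, map_mul, map_mul, map_inv, hx, mul_one, mul_inv_cancel]) hx3 h1 (by decide)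
    refine ⟨c * g₀, by rw [map_mul, MonoidHom.mem_ker.1 hc1, one_mul], ?_⟩
    have e : c * g₀ * x * (c * g₀)⁻¹ = c * (g₀ * x * g₀⁻¹) * c⁻¹ := by group
    rw [e]
    have h2 : c * (g₀ * x * g₀⁻¹) * c⁻¹ ∈ zpowers x := by rw [← hc2]; exact mem_zpowers _
    obtain ⟨m, hm, he⟩ := exists_pow_of_mem (orderOf_pos x) h2
    rw [hx3] at hm
    rw [← he]
    interval_cases m
    · exfalso
      rw [pow_zero] at he
      have h3 : g₀ * x * g₀⁻¹ = 1 := by
        have : g₀ * x * g₀⁻¹ = c⁻¹ * (c * (g₀ * x * g₀⁻¹) * c⁻¹) * c := by group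
        rw [this, ← he]; group
      rw [h3, orderOf_one] at h1
      omega
    · left; exact pow_one x
    · right
      rw [eq_inv_iff_mul_eq_one, ← pow_succ]
      exact hx33
  set D : Subgroup K := centralizer {x} with hD
  have hLD : L ≤ D.map r := by
    rw [← hLL, Subgroup.commutator_le]
    intro l _ l' _
    obtain ⟨g, rfl, hg⟩ := hlift l
    obtain ⟨g', rfl, hg'⟩ := hlift l'
    refine ⟨g * g' * g⁻¹ * g'⁻¹, ?_, by rw [map_mul, map_mul, map_mul, map_inv, map_inv]; rfl⟩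
    have key : ∀ (a : K) (y : K), (a * x * a⁻¹ = x ∨ a * x * a⁻¹ = x⁻¹) → (y = x ∨ y = x⁻¹) →
        (a * y * a⁻¹ = y ∧ a * x * a⁻¹ = x) ∨ (a * y * a⁻¹ = y⁻¹ ∧ a * x * a⁻¹ = x⁻¹) := by
      rintro a y (h1 | h1) (rfl | rfl)
      · exact Or.inl ⟨h1, h1⟩
      · left
        refine ⟨?_, h1⟩
        have : a * x⁻¹ * a⁻¹ = (a * x * a⁻¹)⁻¹ := by group
        rw [this, h1]
      · exact Or.inr ⟨h1, h1⟩
      · right
        refine ⟨?_, h1⟩
        have : a * x⁻¹ * a⁻¹ = (a * x * a⁻¹)⁻¹ := by group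
        rw [this, h1]
    have hinvg : ∀ a : K, (a * x * a⁻¹ = x ∨ a * x * a⁻¹ = x⁻¹) → (a⁻¹ * x * a⁻¹⁻¹ = x ∨ a⁻¹ * x * a⁻¹⁻¹ = x⁻¹) := by
      rintro a (h1 | h1)
      · left
        have : a⁻¹ * x * a⁻¹⁻¹ = a⁻¹ * (a * x * a⁻¹) * a := by rw [h1]; group
        rw [this]; group
      · right
        have : a⁻¹ * x * a⁻¹⁻¹ = (a⁻¹ * (a * x * a⁻¹) * a)⁻¹ := by rw [h1]; group
        rw [this]; group
    change _ ∈ D
    rw [hD, mem_centralizer_singleton_iff]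
    rw [← mul_inv_eq_iff_eq_mul]
    have e : g * g' * g⁻¹ * g'⁻¹ * x * (g * g' * g⁻¹ * g'⁻¹)⁻¹ =
        g * (g' * (g⁻¹ * (g'⁻¹ * x * g'⁻¹⁻¹) * g⁻¹⁻¹) * g'⁻¹) * g⁻¹ := by group
    rw [e]
    rcases hg with hg | hg <;> rcases hg' with hg' | hg'
    · have h1 : g'⁻¹ * x * g'⁻¹⁻¹ = x := by
        have : g'⁻¹ * x * g'⁻¹⁻¹ = g'⁻¹ * (g' * x * g'⁻¹) * g' := by rw [hg']; group
        rw [this]; group
      have h2 : g⁻¹ * x * g⁻¹⁻¹ = x := by
        have : g⁻¹ * x * g⁻¹⁻¹ = g⁻¹ * (g * x * g⁻¹) * g := by rw [hg]; group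
        rw [this]; group
      rw [h1, h2, hg', hg]
    · have h1 : g'⁻¹ * x * g'⁻¹⁻¹ = x⁻¹ := by
        have : g'⁻¹ * x * g'⁻¹⁻¹ = (g'⁻¹ * (g' * x * g'⁻¹) * g')⁻¹ := by rw [hg']; group
        rw [this]; group
      have h2 : g⁻¹ * x⁻¹ * g⁻¹⁻¹ = x⁻¹ := by
        have : g⁻¹ * x⁻¹ * g⁻¹⁻¹ = (g⁻¹ * (g * x * g⁻¹) * g)⁻¹ := by rw [hg]; group
        rw [this]; group
      have h3 : g' * x⁻¹ * g'⁻¹ = x := by
        have : g' * x⁻¹ * g'⁻¹ = (g' * x * g'⁻¹)⁻¹ := by group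
        rw [this, hg', inv_inv]
      rw [h1, h2, h3, hg]
    · have h1 : g'⁻¹ * x * g'⁻¹⁻¹ = x := by
        have : g'⁻¹ * x * g'⁻¹⁻¹ = g'⁻¹ * (g' * x * g'⁻¹) * g' := by rw [hg']; group
        rw [this]; group
      have h2 : g⁻¹ * x * g⁻¹⁻¹ = x⁻¹ := by
        have : g⁻¹ * x * g⁻¹⁻¹ = (g⁻¹ * (g * x * g⁻¹) * g)⁻¹ := by rw [hg]; group
        rw [this]; group
      have h3 : g' * x⁻¹ * g'⁻¹ = x⁻¹ := by
        have : g' * x⁻¹ * g'⁻¹ = (g' * x * g'⁻¹)⁻¹ := by group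
        rw [this, hg']
      have h4 : g * x⁻¹ * g⁻¹ = x := by
        have : g * x⁻¹ * g⁻¹ = (g * x * g⁻¹)⁻¹ := by group
        rw [this, hg, inv_inv]
      rw [h1, h2, h3, h4]
    · have h1 : g'⁻¹ * x * g'⁻¹⁻¹ = x⁻¹ := by
        have : g'⁻¹ * x * g'⁻¹⁻¹ = (g'⁻¹ * (g' * x * g'⁻¹) * g')⁻¹ := by rw [hg']; group
        rw [this]; group
      have h2 : g⁻¹ * x⁻¹ * g⁻¹⁻¹ = x := by
        have : g⁻¹ * x⁻¹ * g⁻¹⁻¹ = g⁻¹ * (g * x * g⁻¹) * g := by rw [hg]; group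
        rw [this]; group
      have h4 : g * x⁻¹ * g⁻¹ = x := by
        have : g * x⁻¹ * g⁻¹ = (g * x * g⁻¹)⁻¹ := by group
        rw [this, hg, inv_inv]
      rw [h1, h2, hg', h4]
  set E : Subgroup K := D ⊓ L.comap r with hE
  have hxE : x ∈ E := by
    refine mem_inf.2 ⟨?_, ?_⟩
    · rw [hD, mem_centralizer_singleton_iff]
    · rw [mem_comap, hx]; exact one_mem _
  have hcE : OddCyc E := CompBasic.oddCyc_subgroup hc E
  have hEL : E.map r = L := by
    apply le_antisymm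
    · rintro _ ⟨g, hg, rfl⟩
      exact hg.2
    · intro l hl
      obtain ⟨g, hg, rfl⟩ := hLD hl
      exact ⟨g, mem_inf.2 ⟨hg, hl⟩, rfl⟩
  have h3 : 3 ∣ Nat.card (commutator E) := by
    have h4 : ((commutator E).map (r.comp E.subtype)) = L := by
      rw [commutator_def, Subgroup.map_commutator]
      have h5 : (⊤ : Subgroup E).map (r.comp E.subtype) = L := by
        rw [← Subgroup.map_map, ← MonoidHom.range_eq_map, Subgroup.range_subtype, hEL]
      rw [h5, hLL]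
    have h5 := Subgroup.card_map_dvd (commutator E) (r.comp E.subtype)
    rw [h4, hcard] at h5
    exact (by norm_num : (3 : ℕ) ∣ 168).trans h5
  have h4 : orderOf (⟨x, hxE⟩ : E) = 3 := by rw [Subgroup.orderOf_mk, hx3]
  have h5 : (⟨x, hxE⟩ : E) ∈ commutator E :=
    CompBasic.mem_of_orderOf hcE Nat.prime_three (by norm_num) inferInstance h3 h4
  refine not_mem_commutator hcE Nat.prime_three (by norm_num) ?_ h4 h5
  rw [mem_center_iff]
  intro g
  apply Subtype.ext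
  have h6 : (g : K) ∈ centralizer {x} := g.2.1
  exact mem_centralizer_singleton_iff.1 h6

/-- `3 ∤ |C_X(Y)|` -/
theorem three_cent [Finite G] (hc : OddCyc G) (hr : Rep X Y r ρ ι) {L : Subgroup H} (hs : IsSimpleGroup L)
    (hcard : Nat.card L = 168) {x : G} (hx : x ∈ X) (h3 : El3 x) (hxY : ∀ y ∈ Y, x * y = y * x) : x = 1 := by
  by_contra hx1
  obtain ⟨n, hn⟩ := h3
  obtain ⟨m, -, ho⟩ := (Nat.dvd_prime_pow Nat.prime_three).1 (orderOf_dvd_of_pow_eq_one hn)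
  have hm : m ≠ 0 := by
    rintro rfl
    rw [pow_zero, orderOf_eq_one_iff] at ho
    exact hx1 ho
  obtain ⟨j, rfl⟩ := Nat.exists_eq_succ_of_ne_zero hm
  have h1 : orderOf (x ^ 3 ^ j) = 3 := by
    rw [orderOf_pow' x (by positivity), ho, pow_succ]
    rw [Nat.gcd_eq_right (Dvd.intro _ rfl), Nat.mul_div_cancel_left 3 (by positivity)]
  have h2 : r (⟨x, hx⟩ ^ 3 ^ j) = 1 := by
    rw [map_pow, hr.r_eq_one.2 hxY, one_pow]
  refine false_of_three (K := X) (CompBasic.oddCyc_subgroup hc X) hr.surj hs hcard h2 ?_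
  rw [← Subgroup.orderOf_coe]
  exact h1

/-! ### (L3b), (L3c) -/

section bc

variable [Finite G] [Finite H] [Finite V] {L F : Subgroup H}

theorem sSup_eq (hf : One ρ (im X T r) (famOf X T r) L F) : sSup (famOf X T r) = F := by
  apply le_antisymm
  · refine sSup_le fun A hA => ?_
    rcases hf.only A hA with h | h
    · rw [h]; exact bot_le
    · exact h.le
  · exact le_sSup hf.mem

theorem bc (hc : OddCyc G) (hY : YC X T Y) (hr : Rep X Y r ρ ι)
    (hL : Lv (im X T r) (famOf X T r) L) (hf : One ρ (im X T r) (famOf X T r) L F) :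
    BcY X T Y (pre r L) := by
  have hTX := hY.TX
  have hLn := hL.norm
  have himj : img r (jj T) = F := by rw [← sSup_fam hTX, sSup_eq hf]
  have hle : img r (jj T) ≤ L := by rw [himj]; exact hf.le.trans inf_le_right
  have hne : img r (jj T) ≠ ⊥ := by
    intro h0
    have := hf.card
    rw [← himj, h0, Subgroup.card_bot] at this
    omega
  have hkk : ∀ v : V, ι v ∈ centralizer (kk X T : Set G) ↔ v ∈ CS ρ L := fun v =>
    cent_kk hr hTX hL.norm hL.simple hle hne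
  have hcj : ∀ v : V, ι v ∈ centralizer (jj T : Set G) ↔ v ∈ CS ρ F := fun v => by
    rw [← himj]; exact cent_jj hr hTX (ZN.jj_le T)
  have hYC : X ⊓ centralizer (Y : Set G) ≤ X ⊓ centralizer (zc T : Set G) :=
    inf_le_inf_left _ (centralizer_le hY.zc_le)
  have hjL : jj T ≤ pre r L := (img_le_iff ((ZN.jj_le T).trans hTX)).1 hle
  have hjX : jj T ≤ X := (ZN.jj_le T).trans hTX
  have hTjN : ∀ x : X, (x : G) ∈ jj T → (x : G) ∈ X ⊓ normalizer (jj T : Set G) := fun x hx =>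
    mem_inf.2 ⟨x.2, Subgroup.le_normalizer hx⟩
  -- lifting the normaliser of `F`
  have hlift : ∀ x : X, r x ∈ normalizer (F : Set H) → ∃ l : X, r l ∈ F ∧ ∃ n : X, (n : G) ∈ X ⊓ normalizer (jj T : Set G) ∧
      x = l * n := by
    intro x hx
    have h1 : T ≤ pre r (normalizer (F : Set H)) := fun t ht => mem_pre.2 ⟨hTX ht, hf.norm (mem_im hTX ht)⟩
    have h2 : pre r (normalizer (F : Set H)) ≤ normalizer ((pre r F : Subgroup G) : Set G) := by
      rw [le_normalizer_iff]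
      intro g hg y hy
      obtain ⟨hgX, hg1⟩ := mem_pre.1 hg
      obtain ⟨hyX, hy1⟩ := mem_pre.1 hy
      refine mem_pre.2 ⟨X.mul_mem (X.mul_mem hgX hyX) (X.inv_mem hgX), ?_⟩
      have h3 : (⟨g * y * g⁻¹, X.mul_mem (X.mul_mem hgX hyX) (X.inv_mem hgX)⟩ : X) =
          ⟨g, hgX⟩ * ⟨y, hyX⟩ * ⟨g, hgX⟩⁻¹ := rfl
      rw [h3, map_mul, map_mul, map_inv]
      exact (mem_normalizer_iff.1 hg1 _).1 hy1
    obtain ⟨l, hl, n, hn, he⟩ := LemXPerm.exists_frattini h1 hY.two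
      (DBlkReduce.not_dvd_of_le hY.syl h1 (pre_le _)) h2 (x := (x : G)) (mem_pre.2 ⟨x.2, hx⟩)
    obtain ⟨hlX, hl1⟩ := mem_pre.1 hl
    have hnX : n ∈ X := pre_le _ hn.1
    have h4 : jj (T ⊓ pre r F) = jj T :=
      ZN.jj_eq_of_le (le_inf (ZN.jj_le T) ((img_le_iff hjX).1 himj.le)) inf_le_left
    refine ⟨⟨l, hlX⟩, hl1, ⟨n, hnX⟩, ⟨hnX, ?_⟩, Subtype.ext he⟩
    have h5 := normalizer_le_normalizer_jj _ hn.2
    rwa [h4] at h5
  have hzcF : ∀ x : X, (∀ v ∈ CS ρ (im X T r ⊓ L), ρ (r x) v = v) → (x : G) ∈ X ⊓ centralizer (zc T : Set G) := by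
    intro x hx
    refine mem_inf.2 ⟨x.2, mem_centralizer_iff.2 ?_⟩
    intro t ht
    obtain ⟨v, rfl⟩ := hr.exists_v (hY.zc_le ht)
    refine (hr.fix.1 (hx v ?_)).symm
    rintro _ hb
    obtain ⟨y, hy, rfl⟩ := mem_img.1 (inf_le_left (b := L) hb : _ ∈ im X T r)
    exact hr.fix.2 (zc_comm ht hy)
  have hzbau : ∀ v : V, ι v ∈ zc (bau T) ↔ v ∈ CS ρ F := by
    intro v
    rw [← hcj]
    constructor
    · intro h
      rw [mem_centralizer_iff]
      exact fun a ha => zc_comm h (ZN.jj_le_bau T ha)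
    · intro h
      exact mem_zc_bau hY (hr.mem v) (fun a ha => mem_centralizer_iff.1 h a ha)
  refine ⟨pre_le L, pre_norm, ?_, ?_, hjL, ?_, ?_, ?_, ?_, ?_, ?_, ?_, ?_, ?_, ?_⟩
  · -- cent_le
    intro x hx
    refine mem_pre.2 ⟨hx.1, ?_⟩
    rw [(cent_iff hr (x := ⟨x, hx.1⟩)).2 hx.2]
    exact one_mem _
  · -- simple
    let π : pre r L →* L := (r.comp (Subgroup.inclusion (pre_le L))).codRestrict L fun x => (mem_pre.1 x.2).2
    refine ⟨L, inferInstance, π, ?_, ?_, hL.simple, hL.card⟩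
    · rintro ⟨l, hl⟩
      obtain ⟨x, rfl⟩ := hr.surj l
      exact ⟨⟨x, mem_pre.2 ⟨x.2, hl⟩⟩, rfl⟩
    · ext x
      rw [MonoidHom.mem_ker, mem_subgroupOf]
      have h1 : π x = 1 ↔ r ⟨x, pre_le L x.2⟩ = 1 := by
        rw [← Subtype.coe_inj]; rfl
      rw [h1, cent_iff hr]
  · -- four
    rw [relIndex_cent hr hjX, himj, hf.card]
  · -- fix
    intro a ha haY y hy hay b hb
    obtain ⟨v, rfl⟩ := hr.exists_v hy
    have h1 : r ⟨a, hjX ha⟩ ∈ F := by rw [← himj]; exact mem_img.2 ⟨_, ha, rfl⟩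
    have h2 : r ⟨a, hjX ha⟩ ≠ 1 := fun h => haY ((cent_iff hr).1 h)
    have h3 : v ∈ fx ρ (r ⟨a, hjX ha⟩) := hr.fix.2 hay
    rw [hf.fix _ h1 h2, ← hcj] at h3
    exact mem_centralizer_iff.1 h3 b hb
  · -- index
    have h1 : (Y ⊓ centralizer (jj T : Set G)).relIndex Y = (CS ρ F).index := by
      have e1 : Y ⊓ centralizer (jj T : Set G) = (CS ρ F).map ι := by
        ext y
        constructor
        · rintro ⟨hy, h⟩
          obtain ⟨v, rfl⟩ := hr.exists_v hy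
          exact ⟨v, (hcj v).1 h, rfl⟩
        · rintro ⟨v, hv, rfl⟩
          exact ⟨hr.mem v, (hcj v).2 hv⟩
      have e2 : Y = (⊤ : Subgroup V).map ι := by rw [← MonoidHom.range_eq_map, hr.range]
      rw [e1]
      nth_rewrite 1 [e2]
      rw [Subgroup.relIndex_map_map_of_injective _ _ hr.iinj, Subgroup.relIndex_top_right]
    rw [h1]
    exact hf.index
  · -- img
    intro A hA
    have hAX : A ≤ X := (ChoiceBase.le_jj hA).trans hjX
    rcases hf.only _ ⟨A, hA, rfl⟩ with h | h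
    · left
      intro a ha
      have h1 : r ⟨a, hAX ha⟩ ∈ (A.subgroupOf X).map r := ⟨⟨a, hAX ha⟩, ha, rfl⟩
      rw [h, mem_bot] at h1
      exact (cent_iff hr).1 h1
    · right
      intro g hg
      have h1 : r ⟨g, hjX hg⟩ ∈ img r A := by
        change _ ∈ (A.subgroupOf X).map r
        rw [h, ← himj]
        exact mem_img.2 ⟨_, hg, rfl⟩
      obtain ⟨a, ha, he⟩ := mem_img.1 h1
      have h2 : r (a⁻¹ * ⟨g, hjX hg⟩) = 1 := by rw [map_mul, map_inv, he, inv_mul_cancel]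
      rw [cent_iff hr] at h2
      have h3 : g = (a : G) * ((a : G)⁻¹ * g) := by group
      rw [h3]
      exact mul_mem (mem_sup_left ha) (mem_sup_right ⟨X.mul_mem (X.inv_mem a.2) (hjX hg), h2⟩)
  · -- generation
    set M : Subgroup G := (X ⊓ centralizer (zc T : Set G)) ⊔ (X ⊓ normalizer (jj T : Set G)) with hM
    have hLM : L ≤ img r M := by
      refine hf.gen _ ?_ ?_
      · intro h _ hh
        obtain ⟨x, rfl⟩ := hr.surj h
        obtain ⟨l, hl, n, hn, rfl⟩ := hlift x hh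
        rw [map_mul]
        refine mul_mem ?_ (mem_img.2 ⟨n, mem_sup_right hn, rfl⟩)
        rw [← himj] at hl
        obtain ⟨j, hj, he⟩ := mem_img.1 hl
        rw [← he]
        exact mem_img.2 ⟨j, mem_sup_right (hTjN j hj), rfl⟩
      · intro h _ hh
        obtain ⟨x, rfl⟩ := hr.surj h
        exact mem_img.2 ⟨x, mem_sup_left (hzcF x hh), rfl⟩
    have hpM : pre r L ≤ M := by
      intro g hg
      obtain ⟨hgX, h1⟩ := mem_pre.1 hg
      obtain ⟨m, hm, hrm⟩ := mem_img.1 (hLM h1)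
      have h2 : r (⟨g, hgX⟩ * m⁻¹) = 1 := by rw [map_mul, map_inv, hrm, mul_inv_cancel]
      rw [cent_iff hr] at h2
      have h3 : g * (m : G)⁻¹ ∈ M :=
        mem_sup_left (hYC (mem_inf.2 ⟨X.mul_mem hgX (X.inv_mem m.2), h2⟩))
      have h4 := M.mul_mem h3 hm
      rwa [inv_mul_cancel_right] at h4
    refine (Basic.frattini_jj hTX hY.two hY.syl pre_norm hjL).trans ?_
    exact sup_le hpM (le_sup_right)
  · -- no block
    rintro L' hL' (⟨k, h⟩ | ⟨q, h⟩)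
    · obtain ⟨y, -, -, hpl⟩ := pl_of_blk hY hr hL' h
      exact hf.noplane _ _ hpl
    · exact nolin hY hr hL hL' h
  · -- bau T ≠ T
    intro hbT
    obtain ⟨t, ht, v, hv, hne⟩ := hf.moved
    obtain ⟨x, hx, rfl⟩ := mem_img.1 (inf_le_left (b := L) ht : _ ∈ im X T r)
    apply hne
    have h1 := (hzbau v).2 hv
    rw [hbT] at h1
    exact hr.fix.2 (zc_comm h1 hx)
  · -- alternative
    have e1 : Nat.card (Y ⊓ zc (bau T) : Subgroup G) = Nat.card (CS ρ F) := by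
      rw [← card_map_ι hr (CS ρ F)]
      congr 2
      ext y
      constructor
      · rintro ⟨hy, h⟩
        obtain ⟨v, rfl⟩ := hr.exists_v hy
        exact ⟨v, (hzbau v).1 h, rfl⟩
      · rintro ⟨v, hv, rfl⟩
        exact ⟨hr.mem v, (hzbau v).2 hv⟩
    have e2 : Nat.card (Y ⊓ centralizer (kk X T : Set G) : Subgroup G) = Nat.card (CS ρ L) := by
      rw [← card_map_ι hr (CS ρ L)]
      congr 2
      ext y
      constructor
      · rintro ⟨hy, h⟩
        obtain ⟨v, rfl⟩ := hr.exists_v hy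
        exact ⟨v, (hkk v).1 h, rfl⟩
      · rintro ⟨v, hv, rfl⟩
        exact ⟨hr.mem v, (hkk v).2 hv⟩
    rw [e1, e2]
    rcases hf.alt with h | ⟨b, -, hb3, hbN, v, hv, hne⟩
    · exact Or.inl h
    right
    obtain ⟨x, rfl⟩ := hr.surj b
    obtain ⟨l, hl, n, hn, rfl⟩ := hlift x hbN
    set b := r (l * n) with hb
    have hstab : ∀ w ∈ CS ρ F, ρ b w ∈ CS ρ F := fun w hw => CS_stable hbN hw
    have hact : ∀ w ∈ CS ρ F, ρ (r n) w = ρ b w := by
      intro w hw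
      have h1 : r n = (r l)⁻¹ * b := by rw [hb, map_mul]; group
      rw [h1, map_mul, MulAut.mul_apply]
      exact (hstab w hw) _ (F.inv_mem hl)
    have hactk : ∀ k : ℕ, ∀ w ∈ CS ρ F, ρ (r n ^ k) w = ρ (b ^ k) w ∧ ρ (b ^ k) w ∈ CS ρ F := by
      intro k
      induction k with
      | zero => intro w hw; rw [pow_zero, pow_zero]; exact ⟨rfl, by rw [map_one]; exact hw⟩
      | succ k ih =>
        intro w hw
        rw [pow_succ, pow_succ, map_mul, map_mul, MulAut.mul_apply, MulAut.mul_apply, hact w hw]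
        exact ih _ (hstab w hw)
    obtain ⟨a, m, hm, hem⟩ := Nat.exists_eq_pow_mul_and_not_dvd (orderOf_pos (n : G)).ne' 3 (by norm_num)
    refine ⟨(n : G) ^ m, pow_mem n.2 m, ⟨a, ?_⟩, pow_mem hn.2 m, ι v, ⟨hr.mem v, (hzbau v).2 hv⟩, ?_⟩
    · rw [← pow_mul, mul_comm, ← hem, pow_orderOf_eq_one]
    · intro h
      have h1 : ρ (r (n ^ m)) v = v := hr.fix.2 h
      rw [map_pow, (hactk m v hv).1] at h1
      apply hne
      have h2 : v ∈ fx ρ (b ^ m) := h1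
      have h3 : v ∈ fx ρ (b ^ (m * m)) := by rw [pow_mul]; exact fx_pow ρ h2 m
      -- `m * m ≡ 1 mod 3`
      obtain ⟨c, hc1⟩ : ∃ c, m * m = 3 * c + 1 := by
        have : m % 3 = 1 ∨ m % 3 = 2 := by omega
        have h4 : m * m % 3 = 1 := by
          rcases this with h5 | h5 <;> rw [Nat.mul_mod, h5]
        exact ⟨m * m / 3, by omega⟩
      rw [hc1, pow_succ, pow_mul, hb3, one_pow, one_mul] at h3
      exact h3
  · exact fun x hx h3 hxY => three_cent hc hr hL.simple hL.card hx h3 hxY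
  · intro x hx h3
    have h1 := (hL.three _ (El3.map (r := r) (x := ⟨x, hx⟩) h3)).2
    refine three_cent hc hr hL.simple hL.card (pow_mem hx 3) ?_ ?_
    · obtain ⟨k, hk⟩ := h3
      exact ⟨k, by rw [← pow_mul, mul_comm, pow_mul, hk, one_pow]⟩
    · have h2 : r (⟨x, hx⟩ ^ 3) = 1 := by rw [map_pow]; exact h1
      exact hr.r_eq_one.1 h2

end bc

/-- **the case of a normal simple subgroup of order 168** -/
theorem main [Finite G] [Finite H] [Finite V] (hc : OddCyc G) (hY : YC X T Y) (hr : Rep X Y r ρ ι)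
    (hF : Fam ρ (im X T r) (famOf X T r)) {A : Subgroup H} (hA : A ∈ famOf X T r) (hA1 : A ≠ ⊥)
    (h7 : RedFFDefs.OutSeven A) : (∃ (N V : Subgroup G) (z : G), SevY X T Y N V z) ∨ ∃ L : Subgroup G, BcY X T Y L := by
  obtain ⟨L, hL, ⟨N, P, z, hf⟩ | ⟨F, hf⟩⟩ := RedSeven.main hF hA hA1 h7
  · exact Or.inl ⟨_, _, _, sev hc hY hr hL hf⟩
  · exact Or.inr ⟨_, bc hc hY hr hL hf⟩

end Cfsg.Agent.OddCyclic.RedSevenX
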