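import Cfsg.Agent.OddCyclic.EmpFFSevenD

/-!
# The module `N ⊕ N` of `L₃(2)`: the decomposition
-/

set_option autoImplicit false
set_option linter.unusedSectionVars false

namespace Cfsg.Agent.OddCyclic.EmpFFNN

open Subgroup Cfsg.Agent.OddCyclic.T1Module Cfsg.Agent.OddCyclic.T1Defs
  Cfsg.Agent.OddCyclic.FFBasic Cfsg.Agent.OddCyclic.FFRed Cfsg.Agent.OddCyclic.BTwoLin.SocleGen
  Cfsg.Agent.OddCyclic.EmpFFSevenD

variable {H V : Type*} [Group H] [Finite H] [CommGroup V] [Finite V] {ρ : H →* MulAut V} {T : Subgroup H}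

/-- `V = V₁ ⊕ V₂` with `V₁ ≃ V₂` as `H`-modules -/
theorem exists_decomp (h : NN ρ T) : ∃ V₁ V₂ : Subgroup V, V₁ ⊓ V₂ = ⊥ ∧ V₁ ⊔ V₂ = ⊤ ∧ Nat.card V₁ = 8 ∧
    Nat.card V₂ = 8 ∧ (∀ g, ∀ v ∈ V₁, ρ g v ∈ V₁) ∧ (∀ g, ∀ v ∈ V₂, ρ g v ∈ V₂) ∧
    ∃ θ : V₁ ≃* V₂, ∀ (g : H) (v w : V₁), (w : V) = ρ g v → ((θ w : V₂) : V) = ρ g (θ v) := by
  classical
  -- three fixed points
  obtain ⟨z, hz, z', hz', hz1, hz'1, hne⟩ : ∃ z ∈ CS ρ T, ∃ z' ∈ CS ρ T, z ≠ 1 ∧ z' ≠ 1 ∧ z ≠ z' := by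
    by_contra hcon
    push Not at hcon
    obtain ⟨z, hz, hz1⟩ : ∃ z ∈ CS ρ T, z ≠ 1 := by
      by_contra hcon'
      push Not at hcon'
      have h1 : CS ρ T = ⊥ := by rw [eq_bot_iff]; exact fun v hv => Subgroup.mem_bot.2 (hcon' v hv)
      have h2 := h.cardZ
      rw [h1, Subgroup.card_bot] at h2
      omega
    have h1 : ((CS ρ T : Subgroup V) : Set V) ⊆ (({1, z} : Finset V) : Set V) := by
      intro v hv
      simp only [Finset.coe_insert, Finset.coe_singleton, Set.mem_insert_iff, Set.mem_singleton_iff]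
      by_cases hv1 : v = 1
      · exact Or.inl hv1
      · exact Or.inr (hcon z hz v hv hz1 hv1).symm
    have h2 := Set.ncard_le_ncard h1 (Set.toFinite _)
    rw [Set.ncard_coe_finset] at h2
    have h3 : Set.ncard ((CS ρ T : Subgroup V) : Set V) = 4 := by
      rw [← Nat.card_coe_set_eq]; exact h.cardZ
    have h4 := Finset.card_le_two (a := (1 : V)) (b := z)
    omega
  have hzz : z * z' ∈ CS ρ T := mul_mem hz hz'
  obtain ⟨V₁, a1, a2, a3, a4, a5⟩ := h.sub z hz hz1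
  obtain ⟨V₂, b1, b2, b3, b4, b5⟩ := h.sub z' hz' hz'1
  have key : ∀ {x y : V}, x ∈ CS ρ T → y ∈ CS ρ T → x ≠ 1 → y ≠ 1 → x ≠ y → ∀ {X Y : Subgroup V},
      (∀ g, ∀ w ∈ X, ρ g w ∈ X) → (∀ w ∈ X, w ≠ 1 → ∃ g, ρ g x = w) → (∀ v ∈ X, v ∈ CS ρ T → v = 1 ∨ v = x) →
      (∀ w ∈ Y, w ≠ 1 → ∃ g, ρ g y = w) → ∀ w ∈ X, w ∈ Y → w = 1 := by
    intro x y _ hy _ hy1 hxy X Y c1 c2 c3 d1 w hwX hwY
    by_contra hw1
    obtain ⟨g, hg⟩ := d1 w hwY hw1
    have h1 : y ∈ X := by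
      have h2 := c1 g⁻¹ w hwX
      rw [← hg, ← MulAut.mul_apply, ← map_mul, inv_mul_cancel, map_one] at h2
      exact h2
    rcases c3 y h1 hy with h2 | h2
    · exact hy1 h2
    · exact hxy h2.symm
  have h12 : ∀ w ∈ V₁, w ∈ V₂ → w = 1 := key hz hz' hz1 hz'1 hne a3 a4 a5 b4
  have hzz1 : z * z' ≠ 1 := by
    intro h1
    have h2 : z' ∈ V₁ := by
      rw [eq_inv_of_mul_eq_one_right h1]; exact inv_mem a1
    exact hz'1 (h12 z' h2 b1)
  obtain ⟨V₃, c1, c2, c3, c4, c5⟩ := h.sub (z * z') hzz hzz1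
  have h31 : ∀ w ∈ V₃, w ∈ V₁ → w = 1 := key hzz hz hzz1 hz1 (fun h1 => hz'1 (mul_eq_left.1 h1)) c3 c4 c5 a4
  have h32 : ∀ w ∈ V₃, w ∈ V₂ → w = 1 := key hzz hz' hzz1 hz'1 (fun h1 => hz1 (mul_eq_right.1 h1)) c3 c4 c5 b4
  have h1 : V₁ ⊓ V₂ = ⊥ := by
    rw [eq_bot_iff]
    exact fun v hv => Subgroup.mem_bot.2 (h12 v hv.1 hv.2)
  -- `V = V₁ × V₂`
  let f : V₁ × V₂ →* V :=
    { toFun := fun p => p.1 * p.2
      map_one' := by simp
      map_mul' := fun p q => by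
        simp only [Prod.fst_mul, Prod.snd_mul, Subgroup.coe_mul]
        exact mul_mul_mul_comm _ _ _ _ }
  have hfi : Function.Injective f := by
    rw [injective_iff_map_eq_one]
    rintro ⟨⟨a, ha⟩, ⟨b, hb⟩⟩ hab
    have hab' : a * b = 1 := hab
    have h2 : a = b⁻¹ := eq_inv_of_mul_eq_one_left hab'
    have h3 : a = 1 := h12 a ha (by rw [h2]; exact inv_mem hb)
    have h4 : b = 1 := by rw [h3, one_mul] at hab'; exact hab'
    exact Prod.ext (Subtype.ext h3) (Subtype.ext h4)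
  have hfb : Function.Bijective f := by
    rw [Nat.bijective_iff_injective_and_card]
    refine ⟨hfi, ?_⟩
    rw [Nat.card_prod, a2, b2, h.cardV]
  let e := MulEquiv.ofBijective f hfb
  have he : ∀ p : V₁ × V₂, e p = (p.1 : V) * (p.2 : V) := fun p => rfl
  have hsup : V₁ ⊔ V₂ = ⊤ := by
    rw [eq_top_iff]
    intro v _
    obtain ⟨p, rfl⟩ := e.surjective v
    rw [he]
    exact mul_mem (mem_sup_left p.1.2) (mem_sup_right p.2.2)
  have hp : ∀ v : V, ((e.symm v).1 : V) * ((e.symm v).2 : V) = v := fun v => by rw [← he, e.apply_symm_apply]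
  have huniq : ∀ {a b a' b' : V}, a ∈ V₁ → b ∈ V₂ → a' ∈ V₁ → b' ∈ V₂ → a * b = a' * b' → a = a' ∧ b = b' := by
    intro a b a' b' ha hb ha' hb' hab
    have h2 := hfi (a₁ := (⟨a, ha⟩, ⟨b, hb⟩)) (a₂ := (⟨a', ha'⟩, ⟨b', hb'⟩)) hab
    exact ⟨congrArg (fun p : V₁ × V₂ => (p.1 : V)) h2, congrArg (fun p : V₁ × V₂ => (p.2 : V)) h2⟩
  have heq : ∀ (g : H) (v : V), (((e.symm (ρ g v)).1 : V₁) : V) = ρ g (e.symm v).1 ∧
      (((e.symm (ρ g v)).2 : V₂) : V) = ρ g (e.symm v).2 := by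
    intro g v
    apply huniq (e.symm (ρ g v)).1.2 (e.symm (ρ g v)).2.2 (a3 g _ (e.symm v).1.2) (b3 g _ (e.symm v).2.2)
    rw [hp, ← map_mul, hp]
  -- the projections restricted to the diagonal
  let p1 : V₃ →* V₁ := (MonoidHom.fst V₁ V₂).comp (e.symm.toMonoidHom.comp V₃.subtype)
  let p2 : V₃ →* V₂ := (MonoidHom.snd V₁ V₂).comp (e.symm.toMonoidHom.comp V₃.subtype)
  have hp1 : ∀ v : V₃, p1 v = (e.symm (v : V)).1 := fun v => rfl
  have hp2 : ∀ v : V₃, p2 v = (e.symm (v : V)).2 := fun v => rfl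
  have hb1 : Function.Bijective p1 := by
    rw [Nat.bijective_iff_injective_and_card]
    refine ⟨?_, by rw [c2, a2]⟩
    rw [injective_iff_map_eq_one]
    intro v hv
    rw [hp1] at hv
    have h2 := hp (v : V)
    rw [hv, Subgroup.coe_one, one_mul] at h2
    exact Subtype.ext (h32 v v.2 (by rw [← h2]; exact (e.symm (v : V)).2.2))
  have hb2 : Function.Bijective p2 := by
    rw [Nat.bijective_iff_injective_and_card]
    refine ⟨?_, by rw [c2, b2]⟩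
    rw [injective_iff_map_eq_one]
    intro v hv
    rw [hp2] at hv
    have h2 := hp (v : V)
    rw [hv, Subgroup.coe_one, mul_one] at h2
    exact Subtype.ext (h31 v v.2 (by rw [← h2]; exact (e.symm (v : V)).1.2))
  let α := MulEquiv.ofBijective p1 hb1
  let β := MulEquiv.ofBijective p2 hb2
  refine ⟨V₁, V₂, h1, hsup, a2, b2, a3, b3, α.symm.trans β, ?_⟩
  intro g v w hw
  obtain ⟨x, rfl⟩ := α.surjective v
  change ((β (α.symm w) : V₂) : V) = ρ g ((β (α.symm (α x)) : V₂) : V)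
  rw [α.symm_apply_apply]
  have h2 : α ⟨ρ g x, c3 g x x.2⟩ = w := by
    apply Subtype.ext
    rw [hw]
    exact (heq g (x : V)).1
  rw [← h2, α.symm_apply_apply]
  exact (heq g (x : V)).2

end Cfsg.Agent.OddCyclic.EmpFFNN
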