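import Mathlib
import Cfsg.Agent.OddCyclic.FFMain
import Cfsg.Agent.OddCyclic.UniPiece
import Cfsg.Agent.OddCyclic.T1MinParAbs
import Cfsg.Agent.Involutions.BaerSuzuki
import Cfsg.Agent.Lib.NormalAbelian

/-!
# (Empty): the types of the minimal groups over a Sylow 2-subgroup, abstractly

`H` a finite group with cyclic odd Sylow subgroups, simple subgroups in `KZero`, `O₂(H) = 1`, `T` a Sylow 2-subgroup,
`A ≠ 1` an elementary abelian normal subgroup of `T` contained in `O₂(X)` for every proper subgroup `X ≥ T`.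

* `MinA.types` : `|A| = 2`, or `H = K T`, `K` simple normal with `C_H(K) = 1`, `A ≤ K`, and `K ≅ SL₂(2^f)` or a Suzuki
  group.
-/

set_option autoImplicit false
set_option linter.unusedSectionVars false

namespace Cfsg.Agent.OddCyclic.EmpTypes

open Subgroup Cfsg Cfsg.Agent.ZN Cfsg.Agent.ZN.Block
open Cfsg.Agent.OddCyclic.T1Defs (OddCyc)
open Cfsg.Agent.OddCyclic.PumpMain (KZero)
open Cfsg.Agent.SignalizersComponents.Components

universe u

variable {H : Type u} [Group H] [Finite H]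

/-- the hypothesis -/
structure MinA (T : Sylow 2 H) (A : Subgroup H) : Prop where
  cyc : OddCyc H
  kz : ∀ J : Subgroup H, IsSimpleGroup J → (∃ x y : J, x * y ≠ y * x) → KZero J
  core : pCore 2 H = ⊥
  le : A ≤ (T : Subgroup H)
  norm : (T : Subgroup H) ≤ normalizer (A : Set H)
  sq : ∀ a ∈ A, a * a = 1
  ne : A ≠ ⊥
  min : ∀ X : Subgroup H, (T : Subgroup H) ≤ X → X ≠ ⊤ → A ≤ o2 X

/-- a nontrivial 2-subgroup is not normal -/
theorem normalizer_ne_top (hO : pCore 2 H = ⊥) {N : Subgroup H} (hN : IsPGroup 2 N) (hN1 : N ≠ ⊥) :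
    normalizer (N : Set H) ≠ ⊤ := by
  intro h
  have h1 : N.Normal := normalizer_eq_top_iff.1 h
  exact hN1 (le_bot_iff.1 (hO ▸ Lib.Cores.le_pCore h1 hN))

theorem isPGroup_zpowers_of {t : H} (ht : ∃ n : ℕ, t ^ 2 ^ n = 1) : IsPGroup 2 (zpowers t) := by
  obtain ⟨n, hn⟩ := ht
  rintro ⟨_, k, rfl⟩
  refine ⟨n, Subtype.ext ?_⟩
  show (t ^ k) ^ 2 ^ n = 1
  rw [← zpow_natCast, ← zpow_mul, mul_comm, zpow_mul, zpow_natCast, hn, one_zpow]

theorem pow_of_mem {P : Subgroup H} (hP : IsPGroup 2 P) {x : H} (hx : x ∈ P) : ∃ n : ℕ, x ^ 2 ^ n = 1 := by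
  obtain ⟨n, hn⟩ := hP ⟨x, hx⟩
  exact ⟨n, congrArg Subtype.val hn⟩

namespace MinA

variable {T : Sylow 2 H} {A : Subgroup H}

theorem two (h : MinA T A) : IsPGroup 2 A := T.isPGroup'.to_le h.le

/-- a nontrivial subgroup of `T` normalised by `T` contains a central involution of `T` -/
theorem exists_central {N : Subgroup H} (hNT : N ≤ (T : Subgroup H)) (hTN : (T : Subgroup H) ≤ normalizer (N : Set H))
    (hN : N ≠ ⊥) : ∃ t ∈ N, t ≠ 1 ∧ ∀ s ∈ (T : Subgroup H), s * t = t * s := by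
  have hf : Fact (Nat.Prime 2) := ⟨Nat.prime_two⟩
  have hnil : Group.IsNilpotent (T : Subgroup H) := T.isPGroup'.isNilpotent
  have h1 : (N.subgroupOf (T : Subgroup H)).Normal := by
    refine ⟨fun x hx s => ?_⟩
    exact (mem_normalizer_iff.1 (hTN s.2) x).1 hx
  have h2 : N.subgroupOf (T : Subgroup H) ≠ ⊥ := by
    intro h
    apply hN
    rw [Subgroup.subgroupOf_eq_bot, disjoint_iff, inf_of_le_left hNT] at h
    exact h
  obtain ⟨⟨z, hz⟩, hz1⟩ := Subgroup.ne_bot_iff_exists_ne_one.1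
    (Lib.NormalAbelian.normal_inf_center_ne_bot (N.subgroupOf (T : Subgroup H)) h2)
  refine ⟨z, hz.1, fun h => hz1 (Subtype.ext (Subtype.ext h)), fun s hs => ?_⟩
  exact congrArg Subtype.val (mem_center_iff.1 hz.2 ⟨s, hs⟩)

theorem le_o2_normalizer (h : MinA T A) {N : Subgroup H} (hN : IsPGroup 2 N) (hN1 : N ≠ ⊥)
    (hT : (T : Subgroup H) ≤ normalizer (N : Set H)) : A ≤ o2 (normalizer (N : Set H)) :=
  h.min _ hT (normalizer_ne_top h.core hN hN1)

theorem le_o2_centralizer (h : MinA T A) {t : H} (ht : t ∈ (T : Subgroup H)) (ht1 : t ≠ 1)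
    (htT : ∀ s ∈ (T : Subgroup H), s * t = t * s) : A ≤ o2 (centralizer ({t} : Set H)) := by
  refine h.min _ (fun s hs => mem_centralizer_singleton_iff.2 (htT s hs)) fun htop => ?_
  refine normalizer_ne_top h.core (isPGroup_zpowers_of (pow_of_mem T.isPGroup' ht)) (zpowers_ne_bot.2 ht1) ?_
  rw [eq_top_iff, ← htop]
  refine le_trans (le_of_eq ?_) (centralizer_le_normalizer _)
  rw [zpowers_eq_closure, centralizer_closure]

theorem o2_le {X : Subgroup H} (hX : (T : Subgroup H) ≤ X) : o2 X ≤ (T : Subgroup H) := UniStruct.o2_le_sylow T hX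

theorem card_two_of (h : MinA T A) {a : H} (hA : ∀ b ∈ A, b = 1 ∨ b = a) : Nat.card A = 2 := by
  have h1 := FFPsl.card_le_two_of hA
  have h2 : Nat.card A ≠ 1 := fun h0 => h.ne (Subgroup.card_eq_one.1 h0)
  have h3 := Nat.card_pos (α := A)
  omega

/-! ### the case of a normal subgroup of prime order -/

theorem card_of_prime (h : MinA T A) {p : ℕ} {x : H} (hp : p.Prime) (hp2 : p ≠ 2) (hx : orderOf x = p)
    (hn : (zpowers x).Normal) (hm : ∃ a ∈ A, a * x ≠ x * a) : Nat.card A = 2 := by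
  have hf2 : Fact (Nat.Prime 2) := ⟨Nat.prime_two⟩
  have hodd : Odd (orderOf x) := by rw [hx]; exact hp.odd_of_ne_two hp2
  -- 2-elements of `⟨x⟩` are trivial
  have htriv : ∀ y ∈ zpowers x, (∃ n : ℕ, y ^ 2 ^ n = 1) → y = 1 := by
    rintro y hy ⟨n, hn⟩
    have h1 : orderOf y ∣ orderOf x := orderOf_dvd_of_mem_zpowers hy
    exact orderOf_eq_one_iff.1 (Nat.eq_one_of_dvd_coprimes
      (Nat.Coprime.pow_right n (Nat.coprime_two_right.2 hodd)) h1 (orderOf_dvd_of_pow_eq_one hn))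
  have htop : zpowers x ⊔ (T : Subgroup H) = ⊤ := by
    by_contra hcon
    have h1 := h.min _ le_sup_right hcon
    obtain ⟨a, ha, hax⟩ := hm
    apply hax
    have h2 : a * x * a⁻¹ * x⁻¹ ∈ zpowers x := mul_mem (hn.conj_mem x (mem_zpowers x) a) (inv_mem (mem_zpowers x))
    have h3 : a * x * a⁻¹ * x⁻¹ ∈ o2 (zpowers x ⊔ (T : Subgroup H)) := by
      have e : a * x * a⁻¹ * x⁻¹ = a * (x * a⁻¹ * x⁻¹) := by group
      rw [e]
      exact mul_mem (h1 ha) (o2_conj (le_sup_left (a := zpowers x) (mem_zpowers x)) (inv_mem (h1 ha)))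
    have h4 := htriv _ h2 (pow_of_mem (o2_isPGroup _) h3)
    exact mul_inv_eq_iff_eq_mul.1 (mul_inv_eq_one.1 h4)
  have hC : ∀ s ∈ (T : Subgroup H), s * x = x * s → s = 1 := by
    intro s hs hsx
    have hCn : (T : Subgroup H) ⊓ centralizer ({x} : Set H) ≤ pCore 2 H := by
      refine Lib.Cores.le_pCore ?_ (T.isPGroup'.to_le inf_le_left)
      rw [← normalizer_eq_top_iff, eq_top_iff, ← htop, sup_le_iff]
      constructor
      · refine le_trans ?_ (centralizer_le_normalizer _)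
        rw [zpowers_le, mem_centralizer_iff]
        intro y hy
        exact mem_centralizer_singleton_iff.1 hy.2
      · refine Block.le_normalizer_of_forall ?_
        rintro l hl m ⟨hm1, hm2⟩
        refine Subgroup.mem_inf.2 ⟨mul_mem (mul_mem hl hm1) (inv_mem hl), ?_⟩
        rw [mem_centralizer_singleton_iff]
        obtain ⟨k, hk⟩ := hn.conj_mem x (mem_zpowers x) l⁻¹
        have hk' : x ^ k = l⁻¹ * x * l := by
          have : x ^ k = l⁻¹ * x * l⁻¹⁻¹ := hk
          rwa [inv_inv] at this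
        have h6 : Commute m (x ^ k) := (show Commute m x from mem_centralizer_singleton_iff.1 hm2).zpow_right k
        rw [hk'] at h6
        have h7 : m * (l⁻¹ * x * l) = l⁻¹ * x * l * m := h6
        calc l * m * l⁻¹ * x = l * (m * (l⁻¹ * x * l)) * l⁻¹ := by group
          _ = l * (l⁻¹ * x * l * m) * l⁻¹ := by rw [h7]
          _ = x * (l * m * l⁻¹) := by group
    have h5 := hCn (Subgroup.mem_inf.2 ⟨hs, mem_centralizer_singleton_iff.2 hsx⟩)
    rwa [h.core, mem_bot] at h5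
  obtain ⟨a, ha, hax⟩ := hm
  have hinv : ∀ b ∈ A, b ≠ 1 → b * x * b⁻¹ = x⁻¹ := by
    intro b hb hb1
    rcases FFRed.eq_or_inv hp hx (h.sq b hb) (hn.conj_mem x (mem_zpowers x) b) with h1 | h1
    · exact absurd (hC b (h.le hb) h1) hb1
    · exact h1
  have ha1 : a ≠ 1 := by rintro rfl; exact hax (by group)
  refine h.card_two_of (a := a) fun b hb => ?_
  by_cases hb1 : b = 1
  · exact Or.inl hb1
  · right
    have h1 := hinv a ha ha1
    have h2 := hinv b hb hb1
    have h3 : (a * b) * x * (a * b)⁻¹ = x := by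
      calc (a * b) * x * (a * b)⁻¹ = a * (b * x * b⁻¹) * a⁻¹ := by group
        _ = (a * x * a⁻¹)⁻¹ := by rw [h2]; group
        _ = x := by rw [h1, inv_inv]
    have h4 := hC _ (mul_mem (h.le ha) (h.le hb)) (mul_inv_eq_iff_eq_mul.1 h3)
    have h5 : a⁻¹ = a := inv_eq_of_mul_eq_one_left (h.sq a ha)
    rw [← h5]
    exact (inv_eq_of_mul_eq_one_right h4).symm

/-! ### a component moved by `A` -/

theorem comp (h : MinA T A) {K : Subgroup H} (hK : IsComponent K) (hm : ∃ a ∈ A, ∃ k ∈ K, a * k ≠ k * a) :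
    K ⊔ (T : Subgroup H) = ⊤ ∧ centralizer (K : Set H) = ⊥ := by
  have hf2 : Fact (Nat.Prime 2) := ⟨Nat.prime_two⟩
  have hKn : K.Normal := UniStruct.normal h.cyc hK
  have hKs : IsSimpleGroup K := UniStruct.simple h.core h.cyc hK
  have hKnp : ¬ IsPGroup 2 K := by
    intro h1
    exact component_ne_bot hK (le_bot_iff.1 (h.core ▸ Lib.Cores.le_pCore hKn h1))
  have htop : K ⊔ (T : Subgroup H) = ⊤ := by
    by_contra hcon
    have h1 := h.min _ le_sup_right hcon
    -- `K ⊓ O₂ = 1`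
    have h2 : (o2 (K ⊔ (T : Subgroup H))).subgroupOf K = ⊥ := by
      have h3 : ((o2 (K ⊔ (T : Subgroup H))).subgroupOf K).Normal := by
        refine ⟨fun x hx l => ?_⟩
        exact o2_conj (le_sup_left (a := K) l.2) hx
      rcases hKs.eq_bot_or_eq_top_of_normal _ h3 with h4 | h4
      · exact h4
      · exfalso
        apply hKnp
        rw [Subgroup.subgroupOf_eq_top] at h4
        exact (o2_isPGroup _).to_le h4
    obtain ⟨a, ha, k, hk, hak⟩ := hm
    apply hak
    have h3 : a * k * a⁻¹ * k⁻¹ ∈ K := mul_mem (hKn.conj_mem k hk a) (inv_mem hk)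
    have h4 : a * k * a⁻¹ * k⁻¹ ∈ o2 (K ⊔ (T : Subgroup H)) := by
      have e : a * k * a⁻¹ * k⁻¹ = a * (k * a⁻¹ * k⁻¹) := by group
      rw [e]
      exact mul_mem (h1 ha) (o2_conj (le_sup_left (a := K) hk) (inv_mem (h1 ha)))
    have h5 : (⟨_, h3⟩ : K) ∈ (o2 (K ⊔ (T : Subgroup H))).subgroupOf K := h4
    rw [h2, mem_bot] at h5
    exact mul_inv_eq_iff_eq_mul.1 (mul_inv_eq_one.1 (congrArg Subtype.val h5))
  refine ⟨htop, ?_⟩
  have hCK : ∀ x ∈ centralizer (K : Set H), x ∈ K → x = 1 := by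
    intro x hx hxK
    have h1 : (⟨x, hxK⟩ : K) ∈ center K := by
      rw [mem_center_iff]
      exact fun g => Subtype.ext (mem_centralizer_iff.1 hx g g.2)
    rw [UniStruct.center_eq_bot h.core h.cyc hK, mem_bot] at h1
    exact congrArg Subtype.val h1
  have hC2 : IsPGroup 2 (centralizer (K : Set H)) := by
    rintro ⟨c, hc⟩
    have h1 : c ∈ K ⊔ (T : Subgroup H) := by rw [htop]; exact mem_top _
    rw [Subgroup.mem_sup_of_normal_left] at h1
    obtain ⟨e, he, t, ht, rfl⟩ := h1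
    obtain ⟨n, hn⟩ := pow_of_mem T.isPGroup' ht
    refine ⟨n, Subtype.ext ?_⟩
    show (e * t) ^ 2 ^ n = 1
    apply hCK _ (pow_mem hc _)
    rw [← QuotientGroup.eq_one_iff, QuotientGroup.mk_pow, QuotientGroup.mk_mul,
      (QuotientGroup.eq_one_iff e).2 he, one_mul, ← QuotientGroup.mk_pow, hn, QuotientGroup.mk_one]
  exact le_bot_iff.1 (h.core ▸ Lib.Cores.le_pCore inferInstance hC2)

end MinA

end Cfsg.Agent.OddCyclic.EmpTypes
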