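import Mathlib
import Cfsg.Agent.OddCyclic.EmpTypes

/-!
# (Empty): the types of the minimal groups: `SL₂(2^f)`
-/

set_option autoImplicit false
set_option linter.unusedSectionVars false

namespace Cfsg.Agent.OddCyclic.EmpTypes

open Subgroup Cfsg Cfsg.Agent.ZN Cfsg.Agent.ZN.Block
open Cfsg.Agent.OddCyclic.T1Defs (OddCyc)
open Cfsg.Agent.OddCyclic.PumpMain (KZero)
open Cfsg.Agent.SignalizersComponents.Components
open Cfsg.Agent.OddCyclic.T1Sl2 Cfsg.Agent.OddCyclic.FFOuter
open Cfsg.Agent.Classification.QDW.TypeHom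
open Cfsg.Agent.Lib.SL2Mat (fieldAut)

universe u

variable {H : Type u} [Group H] [Finite H]

/-- an automorphism of `SL₂(q)` normalising the upper unipotent group and centralising the torus modulo it is inner -/
theorem typ_eq_one {F : Type*} [Field F] [Fintype F] [CharP F 2] {β : MulAut (Matrix.SpecialLinearGroup (Fin 2) F)}
    (h1 : ∀ x ∈ T1Sl2.SU F, β x ∈ T1Sl2.SU F) (h2 : ∀ s : Fˣ, β (dg s) * (dg s)⁻¹ ∈ T1Sl2.SU F) : typ β = 1 := by
  obtain ⟨g, hg⟩ := L2Model.exists_form β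
  obtain ⟨σ, hσ⟩ : ∃ σ, σ = typ β := ⟨_, rfl⟩
  rw [← hσ] at hg ⊢
  have h3 : g 1 0 = 0 := by
    have h4 := h1 (up 1) (up_mem 1)
    rw [hg, MulAut.mul_apply, fieldAut_up', map_one, MulAut.conj_apply, mem_SU] at h4
    have h5 := h4.2
    rw [mul10, mul10, mul11, up00, up10, up01, up11, inv00, inv10] at h5
    have h6 : g 1 0 * g 1 0 = 0 := by linear_combination -h5
    exact mul_self_eq_zero.1 h6
  have h4 : g 0 0 * g 1 1 = 1 := by
    have := T1Sl2.det g
    rw [h3, mul_zero, sub_zero] at this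
    exact this
  have key : ∀ s : Fˣ, σ (s : F) = s := by
    intro s
    have h5 := h2 s
    rw [hg, MulAut.mul_apply, MulAut.conj_apply, mem_SU] at h5
    have h6 := h5.1
    have e1 : ∀ i j, fieldAut σ (dg s) i j = σ (dg s i j) := fun i j => fieldAut_apply σ (dg s) i j
    rw [mul00, mul00, mul00, mul01, mul01, mul00, mul01, e1, e1, e1, e1, dg00, dg01, dg10, dg11, map_zero, inv00,
      inv01, inv10, inv11, inv00, inv10, dg11, dg10, h3] at h6
    have h7 : (s : F) * ((s⁻¹ : Fˣ) : F) = 1 := by rw [← Units.val_mul, mul_inv_cancel, Units.val_one]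
    have h8 : σ (s : F) * ((s⁻¹ : Fˣ) : F) = 1 := by
      linear_combination h6 + (-σ (s : F) * ((s⁻¹ : Fˣ) : F)) * h4
    calc σ (s : F) = σ (s : F) * ((s : F) * ((s⁻¹ : Fˣ) : F)) := by rw [h7, mul_one]
      _ = (σ (s : F) * ((s⁻¹ : Fˣ) : F)) * s := by ring
      _ = s := by rw [h8, one_mul]
  ext x
  by_cases hx : x = 0
  · rw [hx, map_zero, map_zero]
  · exact key (Units.mk0 x hx)

namespace MinA

variable {T : Sylow 2 H} {A : Subgroup H}

theorem le_sl2 (h : MinA T A) {K : Subgroup H} [hKn : K.Normal] (hC : centralizer (K : Set H) = ⊥) {F : Type*}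
    [Field F] [Fintype F] [CharP F 2] (e₀ : Matrix.SpecialLinearGroup (Fin 2) F ≃* K) : A ≤ K := by
  have hf2 : Fact (Nat.Prime 2) := ⟨Nat.prime_two⟩
  obtain ⟨Q, hQ⟩ := Cfsg.Agent.S0542.result 2 K hKn.isSubnormal T
  -- choose the coordinates
  obtain ⟨e, he⟩ : ∃ e : Matrix.SpecialLinearGroup (Fin 2) F ≃* K, ∀ x, x ∈ T1Sl2.SU F ↔ (e x : H) ∈ (T : Subgroup H) := by
    let P : Sylow 2 (Matrix.SpecialLinearGroup (Fin 2) F) := Q.comapOfInjective e₀.toMonoidHom e₀.injective (by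
      rw [MonoidHom.range_eq_top.2 e₀.surjective]; exact le_top)
    have hP : ∀ x, x ∈ P ↔ (e₀ x : H) ∈ (T : Subgroup H) := by
      intro x
      have h1 : x ∈ P ↔ e₀ x ∈ (Q : Subgroup K) := Iff.rfl
      rw [h1, hQ]
      rfl
    obtain ⟨g, hg⟩ := MulAction.exists_smul_eq (Matrix.SpecialLinearGroup (Fin 2) F) (T1Sl2.SU F) P
    refine ⟨(MulAut.conj g).trans e₀, fun x => ?_⟩
    have h1 : (((MulAut.conj g).trans e₀) x : K) = e₀ (g * x * g⁻¹) := rfl
    rw [h1, ← hP, ← hg, mem_smul]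
    have h2 : g⁻¹ * (g * x * g⁻¹) * g = x := by group
    rw [h2]
  obtain ⟨N, hN⟩ : ∃ N : Subgroup H, N = (T : Subgroup H) ⊓ K := ⟨_, rfl⟩
  have hNe : ∀ x ∈ N, ∃ y ∈ T1Sl2.SU F, (e y : H) = x := by
    intro x hx
    rw [hN] at hx
    refine ⟨e.symm ⟨x, hx.2⟩, ?_, ?_⟩
    · rw [he, e.apply_symm_apply]
      exact hx.1
    · rw [e.apply_symm_apply]
  have hTN : (T : Subgroup H) ≤ normalizer (N : Set H) := by
    refine Block.le_normalizer_of_forall fun l hl m hm => ?_
    rw [hN] at hm ⊢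
    exact Subgroup.mem_inf.2 ⟨mul_mem (mul_mem hl hm.1) (inv_mem hl), hKn.conj_mem m hm.2 l⟩
  have hN2 : IsPGroup 2 N := T.isPGroup'.to_le (hN.le.trans inf_le_left)
  have hN1 : N ≠ ⊥ := by
    intro h0
    have h1 : (e (up 1) : H) ∈ N := by
      rw [hN]
      exact Subgroup.mem_inf.2 ⟨(he _).1 (up_mem 1), (e (up 1)).2⟩
    rw [h0, mem_bot] at h1
    have h2 : (up (1 : F)) = 1 := by
      apply e.injective
      rw [map_one]
      exact Subtype.ext h1
    have h3 := congrArg (fun z : Matrix.SpecialLinearGroup (Fin 2) F => z 0 1) h2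
    simp only [up01, one01] at h3
    exact one_ne_zero h3
  have hO := h.le_o2_normalizer hN2 hN1 hTN
  have hOT := o2_le hTN
  intro a ha
  -- `a` is inner
  have h1 : typ (ac e a) = 1 := by
    refine typ_eq_one (fun x hx => ?_) (fun s => ?_)
    · rw [he, e_ac]
      exact mul_mem (mul_mem (h.le ha) ((he x).1 hx)) (inv_mem (h.le ha))
    · rw [he]
      have h2 : (e (ac e a (dg s) * (dg s)⁻¹) : H) = a * (e (dg s) : H) * a⁻¹ * (e (dg s) : H)⁻¹ := by
        rw [map_mul, Subgroup.coe_mul, e_ac, map_inv, Subgroup.coe_inv]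
      rw [h2]
      apply hOT
      have h3 : (e (dg s) : H) ∈ normalizer (N : Set H) := by
        have h5 : ∀ x ∈ N, (e (dg s) : H) * x * (e (dg s) : H)⁻¹ ∈ N := by
          intro x hx
          obtain ⟨y, hy, rfl⟩ := hNe x hx
          have h6 : (e (dg s) : H) * e y * (e (dg s) : H)⁻¹ = (e (dg s * y * (dg s)⁻¹) : H) := by
            rw [map_mul, map_mul, map_inv]; rfl
          rw [h6, hN]
          refine Subgroup.mem_inf.2 ⟨(he _).1 ?_, (e _).2⟩
          rw [mem_SU] at hy ⊢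
          rw [mul00, mul00, mul01, mul10, mul10, mul11, inv00, inv10, dg00, dg01, dg10, dg11, hy.1, hy.2]
          constructor
          · have h7 : (s : F) * ((s⁻¹ : Fˣ) : F) = 1 := by rw [← Units.val_mul, mul_inv_cancel, Units.val_one]
            linear_combination h7
          · ring
        have h6 : ∀ x ∈ N, (e (dg s) : H)⁻¹ * x * (e (dg s) : H) ∈ N := by
          intro x hx
          obtain ⟨y, hy, rfl⟩ := hNe x hx
          have h6 : (e (dg s) : H)⁻¹ * e y * (e (dg s) : H) = (e ((dg s)⁻¹ * y * dg s) : H) := by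
            rw [map_mul, map_mul, map_inv]; rfl
          rw [h6, hN]
          refine Subgroup.mem_inf.2 ⟨(he _).1 ?_, (e _).2⟩
          rw [mem_SU] at hy ⊢
          rw [mul00, mul00, mul01, mul10, mul10, mul11, inv00, inv01, inv10, inv11, dg00, dg01, dg10, dg11, hy.1, hy.2]
          constructor
          · have h7 : (s : F) * ((s⁻¹ : Fˣ) : F) = 1 := by rw [← Units.val_mul, mul_inv_cancel, Units.val_one]
            linear_combination h7
          · ring
        rw [mem_normalizer_iff]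
        intro x
        refine ⟨h5 x, fun hx => ?_⟩
        have := h6 _ hx
        have e1 : (e (dg s) : H)⁻¹ * ((e (dg s) : H) * x * (e (dg s) : H)⁻¹) * (e (dg s) : H) = x := by group
        rwa [e1] at this
      have e2 : a * (e (dg s) : H) * a⁻¹ * (e (dg s) : H)⁻¹ = a * ((e (dg s) : H) * a⁻¹ * (e (dg s) : H)⁻¹) := by group
      rw [e2]
      exact mul_mem (hO ha) (o2_conj h3 (inv_mem (hO ha)))
  obtain ⟨s, hs⟩ := (L2Model.inner_iff _).1 h1
  rw [← ac_coe e s] at hs
  have h2 := (ac_eq_iff e _ _).1 hs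
  have h3 : (e s : H)⁻¹ * a ∈ centralizer (K : Set H) := by
    rw [mem_centralizer_iff]
    intro l hl
    have h4 := h2 l hl
    calc l * ((e s : H)⁻¹ * a) = (e s : H)⁻¹ * ((e s : H) * l * (e s : H)⁻¹) * a := by group
      _ = (e s : H)⁻¹ * (a * l * a⁻¹) * a := by rw [h4]
      _ = (e s : H)⁻¹ * a * l := by group
  rw [hC, mem_bot, inv_mul_eq_one] at h3
  rw [← h3]
  exact (e s).2

end MinA

end Cfsg.Agent.OddCyclic.EmpTypes
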