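import Cfsg.Agent.OddCyclic.FFPsl
import Cfsg.Agent.GH.L2AutFour

/-!
# `L₃(2) ≅ PSL₂(7)`: the facts on four-groups used for the offender theorem

`L32 L` : `|L| = 168`, one class of involutions, four-groups are self-centralising with automiser `S₃`,
`L` is generated by three involutions `w, b, c` with `bcw` of order 7.
-/

set_option autoImplicit false
set_option linter.unusedSectionVars false

namespace Cfsg.Agent.OddCyclic.FFThree

open Matrix Cfsg.Agent.Lib.SL2Mat Cfsg.Agent.GH.L2Aut Cfsg.Agent.Lib.PSL2Torus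

/-- the facts on `L₃(2)` -/
structure L32 (L : Type*) [Group L] : Prop where
  card : Nat.card L = 168
  four : ∃ a b : L, Four a b
  conj : ∀ a b : L, a ≠ 1 → a * a = 1 → b ≠ 1 → b * b = 1 → ∃ g, g * a * g⁻¹ = b
  fuse : ∀ a b : L, Four a b → ∃ y, y * y * y = 1 ∧ y * a * y⁻¹ = b ∧ y * b * y⁻¹ = a * b
  swap : ∀ a b : L, Four a b → ∃ d, d * a * d⁻¹ = b ∧ d * b * d⁻¹ = a
  cent : ∀ a b x : L, Four a b → x * a = a * x → x * b = b * x → x = 1 ∨ x = a ∨ x = b ∨ x = a * b
  gen : ∃ w b c : L, w * w = 1 ∧ w ≠ 1 ∧ b * b = 1 ∧ b ≠ 1 ∧ c * c = 1 ∧ c ≠ 1 ∧ orderOf (b * c * w) = 7 ∧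
    Subgroup.closure {w, b * c * w} = ⊤

variable {F : Type*} [Field F] [Finite F] {L : Type*} [Group L] (R : Cfsg.Agent.GH.L2Aut.Rep F L)

theorem exists_cast (hF : Nat.card F = 7) (t : F) : ∃ n : ℕ, t = (n : F) := by
  have := Fintype.ofFinite F
  rw [Nat.card_eq_fintype_card] at hF
  let e := ZMod.ringEquivOfPrime F (by norm_num : Nat.Prime 7) hF
  refine ⟨(e.symm t).val, ?_⟩
  have h1 : ((e.symm t).val : ZMod 7) = e.symm t := ZMod.natCast_zmod_val _
  have h2 : e ((e.symm t).val : ZMod 7) = t := by rw [h1]; exact e.apply_symm_apply t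
  rw [map_natCast] at h2
  exact h2.symm

theorem cast_seven (hF : Nat.card F = 7) : (7 : F) = 0 := by
  have h1 := FFPsl.charP (F := F) (by rw [hF]; norm_num)
  rw [hF] at h1
  have h2 := CharP.cast_eq_zero F 7
  exact_mod_cast h2

include R in
theorem l32_of (hF : Nat.card F = 7) : L32 L := by
  have hF7 := cast_seven hF
  have h3 : (3 : F) ≠ 0 := FFPsl.three_ne (by rw [hF]; norm_num) (by rw [hF])
  have hsub : ∀ σ τ : F ≃+* F, σ = τ := by
    intro σ τ
    ext t
    obtain ⟨n, rfl⟩ := exists_cast hF t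
    rw [map_natCast, map_natCast]
  have hπinj : ∀ x : SpecialLinearGroup (Fin 2) F, ent x 0 0 = 0 → R.π x ≠ 1 := by
    intro x h0 h1
    rw [R.ker] at h1
    rcases h1 with h1 | h1
    · rw [h1] at h0; exact one_ne_zero h0
    · rw [h1] at h0
      have : -(1 : F) = 0 := h0
      exact one_ne_zero (neg_eq_zero.1 this)
  refine ⟨?_, R.exists_four, ?_, ?_, ?_, ?_, ?_⟩
  · have := Fintype.ofFinite F
    have h1 := Cfsg.Agent.ClassicalGeometry.PSL2Basic.card_SL2 (F := F)
    rw [← Nat.card_eq_fintype_card, hF] at h1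
    have h2 : Nat.card R.π.ker = 2 := by
      have h4 : (R.π.ker : Set (SpecialLinearGroup (Fin 2) F)) = {1, -1} := by
        ext x
        simp only [SetLike.mem_coe, MonoidHom.mem_ker, Set.mem_insert_iff, Set.mem_singleton_iff]
        exact R.ker x
      rw [← SetLike.coe_sort_coe, h4, Nat.card_coe_set_eq, Set.ncard_pair R.neg_one_ne_one.symm]
    have h4 := R.π.ker.card_mul_index
    rw [h2, Subgroup.index_ker, MonoidHom.range_eq_top.2 R.surj, Subgroup.card_top, h1] at h4
    omega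
  · intro a b ha1 ha hb1 hb
    exact conj_inv_hom R.π R.two R.surj R.ker ha1 ha hb1 hb
  · intro a b h
    obtain ⟨Φ, y, δ, -, -, -, -, h1, -, h2, h4, -⟩ := R.exists_frame h
    exact ⟨y, h1, h2, h4⟩
  · intro a b h
    obtain ⟨Φ, y, δ, -, -, -, -, -, -, -, -, -, h1, h2, -, h4, -⟩ := R.exists_frame h
    have h5 : IsSquare (2 : F) := ⟨3, by linear_combination -hF7⟩
    obtain ⟨d, hd⟩ := h4.2 h5
    refine ⟨d, ?_, ?_⟩
    · rw [← MulAut.conj_apply, hd, h1]
    · rw [← MulAut.conj_apply, hd, h2]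
  · intro a b x h hxa hxb
    obtain ⟨Φ, y, δ, -, -, -, -, -, -, -, -, -, -, -, -, -, h1, -⟩ := R.exists_frame h
    obtain ⟨u, hu, hu'⟩ := h1 (MulAut.conj x) (by rw [MulAut.conj_apply, hxa, mul_inv_cancel_right])
      (by rw [MulAut.conj_apply, hxb, mul_inv_cancel_right])
    have h2 : Φ (R.fld (MulAut.conj x)) = 1 := by
      rw [hsub (R.fld (MulAut.conj x)) 1, map_one]
    rw [h2, mul_one] at hu'
    rw [R.conj_injective hu']
    exact hu
  · let M : SpecialLinearGroup (Fin 2) F := mk 1 3 4 (-1) (by linear_combination (-2) * hF7)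
    let z : SpecialLinearGroup (Fin 2) F := up 1 * jm F
    have hjj : jm F * jm F = -1 := by
      refine ext_ent ?_ ?_ ?_ ?_
      · rw [ent_mul]; show 0 * 0 + (-1) * 1 = -(1 : F); ring
      · rw [ent_mul]; show 0 * (-1) + (-1) * 0 = -(0 : F); ring
      · rw [ent_mul]; show 1 * 0 + 0 * 1 = -(0 : F); ring
      · rw [ent_mul]; show 1 * (-1) + 0 * 0 = -(1 : F); ring
    have hMM : M * M = -1 := by
      refine ext_ent ?_ ?_ ?_ ?_
      · rw [ent_mul]; show 1 * 1 + 3 * 4 = -(1 : F); linear_combination 2 * hF7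
      · rw [ent_mul]; show 1 * 3 + 3 * (-1) = -(0 : F); ring
      · rw [ent_mul]; show 4 * 1 + (-1) * 4 = -(0 : F); ring
      · rw [ent_mul]; show 4 * 3 + (-1) * (-1) = -(1 : F); linear_combination 2 * hF7
    have e00 : ent (M * z) 0 0 = 4 := by
      rw [ent_mul, ent_mul, ent_mul]
      show 1 * (1 * 0 + 1 * 1) + 3 * (0 * 0 + 1 * 1) = (4 : F); ring
    have e01 : ent (M * z) 0 1 = -1 := by
      rw [ent_mul, ent_mul, ent_mul]
      show 1 * (1 * (-1) + 1 * 0) + 3 * (0 * (-1) + 1 * 0) = -(1 : F); ring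
    have e10 : ent (M * z) 1 0 = 3 := by
      rw [ent_mul, ent_mul, ent_mul]
      show 4 * (1 * 0 + 1 * 1) + (-1) * (0 * 0 + 1 * 1) = (3 : F); ring
    have e11 : ent (M * z) 1 1 = -4 := by
      rw [ent_mul, ent_mul, ent_mul]
      show 4 * (1 * (-1) + 1 * 0) + (-1) * (0 * (-1) + 1 * 0) = -(4 : F); ring
    have hMz : (M * z) * (M * z) = -1 := by
      refine ext_ent ?_ ?_ ?_ ?_
      · rw [ent_mul, e00, e01, e10]; show 4 * 4 + (-1) * 3 = -(1 : F); linear_combination 2 * hF7
      · rw [ent_mul, e00, e01, e11]; show 4 * (-1) + (-1) * (-4) = -(0 : F); ring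
      · rw [ent_mul, e00, e10, e11]; show 3 * 4 + (-4) * 3 = -(0 : F); ring
      · rw [ent_mul, e01, e10, e11]; show 3 * (-1) + (-4) * (-4) = -(1 : F); linear_combination 2 * hF7
    have hsq : ∀ x : SpecialLinearGroup (Fin 2) F, x * x = -1 → R.π x * R.π x = 1 := by
      intro x hx
      rw [← map_mul, hx, R.ker]; exact Or.inr rfl
    have hne : ∀ x : SpecialLinearGroup (Fin 2) F, x * x = -1 → R.π x ≠ 1 := by
      intro x hx h1
      rw [R.ker] at h1
      rcases h1 with h1 | h1
      · rw [h1, mul_one] at hx; exact R.neg_one_ne_one hx.symm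
      · rw [h1, neg_mul_neg, mul_one] at hx; exact R.neg_one_ne_one hx.symm
    have hbcw : R.π M * R.π (M * z) * R.π (jm F) = R.π (up 1) := by
      rw [← map_mul, ← map_mul]
      have : M * (M * z) * jm F = up 1 := by
        rw [← mul_assoc, hMM]
        show -1 * (up 1 * jm F) * jm F = up 1
        rw [neg_one_mul, neg_mul, mul_assoc, hjj, mul_neg, mul_one, neg_neg]
      rw [this]
    refine ⟨R.π (jm F), R.π M, R.π (M * z), hsq _ hjj, hne _ hjj, hsq _ hMM, hne _ hMM, hsq _ hMz, hne _ hMz, ?_, ?_⟩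
    · rw [hbcw]
      have : Fact (Nat.Prime 7) := ⟨by norm_num⟩
      apply orderOf_eq_prime
      · rw [← map_pow, FFPsl.up_pow]
        have : ((7 : ℕ) : F) = 0 := by exact_mod_cast hF7
        rw [this, up_zero, map_one]
      · intro h
        rw [R.ker] at h
        rcases h with h | h
        · have := congrArg (fun w => ent w 0 1) h
          simp only [up_01, ent_one_01] at this
          exact one_ne_zero this
        · have h1 : (1 : F) = -0 := congrArg (fun w => ent w 0 1) h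
          rw [neg_zero] at h1
          exact one_ne_zero h1
    · rw [hbcw, eq_top_iff]
      intro x _
      obtain ⟨X, rfl⟩ := R.surj x
      set S := Subgroup.closure ({R.π (jm F), R.π (up 1)} : Set L) with hS
      have hj : R.π (jm F) ∈ S := Subgroup.subset_closure (Or.inl rfl)
      have hu1 : R.π (up 1) ∈ S := Subgroup.subset_closure (Or.inr rfl)
      have hu : ∀ t : F, R.π (up t) ∈ S := by
        intro t
        obtain ⟨n, rfl⟩ := exists_cast hF t
        rw [← FFPsl.up_pow, map_pow]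
        exact pow_mem hu1 n
      have hl : ∀ t : F, R.π (lo t) ∈ S := by
        intro t
        have h1 : lo t = -(jm F * up (-t) * jm F) := by
          refine ext_ent ?_ ?_ ?_ ?_
          · show 1 = -(ent (jm F * up (-t) * jm F) 0 0)
            rw [ent_mul, ent_mul, ent_mul]
            show (1 : F) = -((0 * 1 + (-1) * 0) * 0 + (0 * (-t) + (-1) * 1) * 1); ring
          · show 0 = -(ent (jm F * up (-t) * jm F) 0 1)
            rw [ent_mul, ent_mul, ent_mul]
            show (0 : F) = -((0 * 1 + (-1) * 0) * (-1) + (0 * (-t) + (-1) * 1) * 0); ring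
          · show t = -(ent (jm F * up (-t) * jm F) 1 0)
            rw [ent_mul, ent_mul, ent_mul]
            show (t : F) = -((1 * 1 + 0 * 0) * 0 + (1 * (-t) + 0 * 1) * 1); ring
          · show 1 = -(ent (jm F * up (-t) * jm F) 1 1)
            rw [ent_mul, ent_mul, ent_mul]
            show (1 : F) = -((1 * 1 + 0 * 0) * (-1) + (1 * (-t) + 0 * 1) * 0); ring
        rw [h1, R.π_neg, map_mul, map_mul]
        exact mul_mem (mul_mem hj (hu _)) hj
      obtain ⟨a, b, c, d, rfl⟩ := exists_up_lo X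
      rw [map_mul, map_mul, map_mul]
      exact mul_mem (mul_mem (mul_mem (hu a) (hl b)) (hu c)) (hl d)

end Cfsg.Agent.OddCyclic.FFThree
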