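import Mathlib
import Cfsg.Agent.OddCyclic.EmpTypes
import Cfsg.Agent.OddCyclic.FFThreeDefs
import Cfsg.Agent.GH.L2AutD

/-!
# (Empty): the types of the minimal groups: `PSL₂(p)`
-/

set_option autoImplicit false
set_option linter.unusedSectionVars false

namespace Cfsg.Agent.OddCyclic.EmpTypes

open Subgroup Cfsg Cfsg.Agent.ZN Cfsg.Agent.ZN.Block
open Cfsg.Agent.OddCyclic.T1Defs (OddCyc)
open Cfsg.Agent.GH.L2Aut
open Cfsg.Agent.Lib.SL2Mat Cfsg.Agent.Lib.PSL2Torus

universe u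

/-- an element of order `> 2` commuting with a given involution of `PSL₂(p)`, `p ≥ 7` -/
theorem exists_big {F : Type*} [Field F] [Finite F] {L : Type*} [Group L] (R : Cfsg.Agent.GH.L2Aut.Rep F L) (hF : (Nat.card F).Prime)
    (h7 : 7 ≤ Nat.card F) {t : L} (ht : t * t = 1) (ht1 : t ≠ 1) : ∃ y : L, y * t = t * y ∧ y * y ≠ 1 := by
  have hch := FFPsl.charP hF
  have hne : ∀ n : ℕ, 0 < n → n < 7 → (n : F) ≠ 0 := by
    intro n hn hn7 h0
    have h1 := (CharP.cast_eq_zero_iff F (Nat.card F) n).1 h0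
    have h2 := Nat.le_of_dvd hn h1
    omega
  have h2 : (2 : F) ≠ 0 := R.two
  have h3 : (3 : F) ≠ 0 := by exact_mod_cast hne 3 (by norm_num) (by norm_num)
  have h5 : (5 : F) ≠ 0 := by exact_mod_cast hne 5 (by norm_num) (by norm_num)
  let M : Matrix.SpecialLinearGroup (Fin 2) F := mk (3 / 5) (-(4 / 5)) (4 / 5) (3 / 5) (by field_simp; norm_num)
  have hjj : jm F * jm F = -1 := by
    refine ext_ent ?_ ?_ ?_ ?_
    · rw [ent_mul]; show 0 * 0 + (-1) * 1 = -(1 : F); ring
    · rw [ent_mul]; show 0 * (-1) + (-1) * 0 = -(0 : F); ring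
    · rw [ent_mul]; show 1 * 0 + 0 * 1 = -(0 : F); ring
    · rw [ent_mul]; show 1 * (-1) + 0 * 0 = -(1 : F); ring
  have hjM : jm F * M = M * jm F := by
    refine ext_ent ?_ ?_ ?_ ?_
    · rw [ent_mul, ent_mul]; show 0 * (3 / 5) + (-1) * (4 / 5) = (3 / 5 : F) * 0 + -(4 / 5) * 1; ring
    · rw [ent_mul, ent_mul]; show 0 * -(4 / 5) + (-1) * (3 / 5) = (3 / 5 : F) * (-1) + -(4 / 5) * 0; ring
    · rw [ent_mul, ent_mul]; show 1 * (3 / 5) + 0 * (4 / 5) = (4 / 5 : F) * 0 + (3 / 5) * 1; ring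
    · rw [ent_mul, ent_mul]; show 1 * -(4 / 5) + 0 * (3 / 5) = (4 / 5 : F) * (-1) + (3 / 5) * 0; ring
  have hMM : R.π M * R.π M ≠ 1 := by
    rw [← map_mul, Ne, R.ker]
    have h10 : ent (M * M) 1 0 = 24 / 25 := by
      rw [ent_mul, show (25 : F) = 5 * 5 by norm_num]; show (4 / 5 : F) * (3 / 5) + (3 / 5) * (4 / 5) = 24 / (5 * 5)
      field_simp; norm_num
    have h24 : (24 / 25 : F) ≠ 0 := by
      have e1 : (24 : F) = 2 * 2 * 2 * 3 := by norm_num
      have e2 : (25 : F) = 5 * 5 := by norm_num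
      rw [e1, e2]
      exact div_ne_zero (mul_ne_zero (mul_ne_zero (mul_ne_zero h2 h2) h2) h3) (mul_ne_zero h5 h5)
    rintro (h | h)
    · apply h24
      rw [← h10, h]; rfl
    · apply h24
      rw [← h10, h]
      show -(0 : F) = 0
      exact neg_zero
  have hw : R.π (jm F) * R.π (jm F) = 1 := by rw [← map_mul, hjj, R.ker]; exact Or.inr rfl
  have hw1 : R.π (jm F) ≠ 1 := by
    intro h
    rw [R.ker] at h
    rcases h with h | h
    · rw [h, mul_one] at hjj; exact R.neg_one_ne_one hjj.symm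
    · rw [h, neg_mul_neg, mul_one] at hjj; exact R.neg_one_ne_one hjj.symm
  obtain ⟨g, hg⟩ := conj_inv_hom R.π R.two R.surj R.ker hw1 hw ht1 ht
  refine ⟨g * R.π M * g⁻¹, ?_, ?_⟩
  · rw [← hg]
    have h1 : R.π (jm F) * R.π M = R.π M * R.π (jm F) := by rw [← map_mul, hjM, map_mul]
    calc g * R.π M * g⁻¹ * (g * R.π (jm F) * g⁻¹) = g * (R.π M * R.π (jm F)) * g⁻¹ := by group
      _ = g * (R.π (jm F) * R.π M) * g⁻¹ := by rw [h1]
      _ = g * R.π (jm F) * g⁻¹ * (g * R.π M * g⁻¹) := by group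
  · intro h
    apply hMM
    have h1 : g * R.π M * g⁻¹ * (g * R.π M * g⁻¹) = g * (R.π M * R.π M) * g⁻¹ := by group
    rw [h1] at h
    calc R.π M * R.π M = g⁻¹ * (g * (R.π M * R.π M) * g⁻¹) * g := by group
      _ = 1 := by rw [h]; group

variable {H : Type u} [Group H] [Finite H]

namespace MinA

variable {T : Sylow 2 H} {A : Subgroup H}

theorem psl (h : MinA T A) {K : Subgroup H} [hKn : K.Normal] (hC : centralizer (K : Set H) = ⊥) {F : Type*}
    [Field F] [Finite F] (R : Cfsg.Agent.GH.L2Aut.Rep F K) (hF : (Nat.card F).Prime) (h7 : 7 ≤ Nat.card F) : Nat.card A = 2 := by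
  classical
  have hf2 : Fact (Nat.Prime 2) := ⟨Nat.prime_two⟩
  obtain ⟨ψ, hψ⟩ : ∃ ψ : H →* MulAut K, ψ = MulAut.conjNormal := ⟨_, rfl⟩
  have hψa : ∀ (x : H) (k : K), ((ψ x k : K) : H) = x * k * x⁻¹ := by
    intro x k; rw [hψ, MulAut.conjNormal_apply]
  have hinj : ∀ x y : H, ψ x = ψ y → x = y := by
    intro x y hxy
    have h1 : y⁻¹ * x ∈ centralizer (K : Set H) := by
      rw [mem_centralizer_iff]
      intro k hk
      have h2 := hψa x ⟨k, hk⟩
      rw [hxy, hψa y ⟨k, hk⟩] at h2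
      have h2' : y * k * y⁻¹ = x * k * x⁻¹ := h2
      calc k * (y⁻¹ * x) = y⁻¹ * (y * k * y⁻¹) * x := by group
        _ = y⁻¹ * (x * k * x⁻¹) * x := by rw [h2']
        _ = y⁻¹ * x * k := by group
    rw [hC, mem_bot, inv_mul_eq_one] at h1
    exact h1.symm
  have hPGL : ∀ x : H, ψ x ∈ R.PGL := fun x => PGLTorus.mem_PGL_of_prime R hF (ψ x)
  have hconj : ∀ k : K, ψ (k : H) = MulAut.conj k := by
    intro k
    ext x
    rw [hψa]
    rfl
  have hInn : ∀ x : H, ψ x ∈ Inn K → x ∈ K := by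
    rintro x ⟨k, hk⟩
    rw [← hconj] at hk
    rw [← hinj _ _ hk]
    exact k.2
  have hAcomm : ∀ a ∈ A, ∀ b ∈ A, a * b = b * a := fun a ha b hb => FFRed.comm_of_sq h.sq ha hb
  by_contra hcard
  have hex : ∀ t : H, ∃ a ∈ A, a ≠ 1 ∧ a ≠ t := by
    intro t
    by_contra hcon
    push Not at hcon
    refine hcard (h.card_two_of (a := t) fun b hb => ?_)
    by_cases hb1 : b = 1
    · exact Or.inl hb1
    · exact Or.inr (hcon b hb hb1)
  -- `A ⊓ K ≠ 1`
  have hAK : A ⊓ K ≠ ⊥ := by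
    obtain ⟨a₁, ha₁, ha₁', -⟩ := hex 1
    obtain ⟨a₂, ha₂, ha₂', ha₂₁⟩ := hex a₁
    intro h0
    have hbot : ∀ x ∈ A, x ∈ K → x = 1 := by
      intro x hx hxK
      have : x ∈ A ⊓ K := ⟨hx, hxK⟩
      rwa [h0, mem_bot] at this
    have h1 : ψ a₁ ∉ Inn K := fun h1 => ha₁' (hbot _ ha₁ (hInn _ h1))
    have h2 : ψ a₂ ∉ Inn K := fun h1 => ha₂' (hbot _ ha₂ (hInn _ h1))
    have h3 := R.mul_mem_inn (hPGL a₁) h1 (hPGL a₂) h2
    rw [← map_mul] at h3
    have h4 := hbot _ (mul_mem ha₁ ha₂) (hInn _ h3)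
    apply ha₂₁
    have h5 : a₁⁻¹ = a₁ := inv_eq_of_mul_eq_one_left (h.sq a₁ ha₁)
    rw [← h5]
    exact (inv_eq_of_mul_eq_one_right h4).symm
  have hTAK : (T : Subgroup H) ≤ normalizer ((A ⊓ K : Subgroup H) : Set H) := by
    refine Block.le_normalizer_of_forall fun l hl m hm => ?_
    exact Subgroup.mem_inf.2 ⟨(mem_normalizer_iff.1 (h.norm hl) m).1 hm.1, hKn.conj_mem m hm.2 l⟩
  obtain ⟨t, ⟨htA, htK⟩, ht1, htT⟩ := exists_central (inf_le_left.trans h.le) hTAK hAK
  have htt : t * t = 1 := h.sq t htA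
  have hO := h.le_o2_centralizer (h.le htA) ht1 htT
  -- the structure of the centraliser of `t`
  have hψt1 : ψ t ≠ 1 := fun h1 => ht1 (hinj _ _ (by rw [h1, map_one]))
  obtain ⟨A₀, hA₀, htA₀, hcomm, huniq, hcov⟩ := R.inv_cent (hPGL t) hψt1 (by rw [← map_mul, htt, map_one])
  have hcov' : ∀ x : H, x * t = t * x → ψ x ∈ A₀ ∨ (x * x = 1 ∧ ∀ y : H, ψ y ∈ A₀ → x * y * x⁻¹ = y⁻¹) := by
    intro x hx
    rcases hcov (ψ x) (hPGL x) (by rw [← map_mul, hx, map_mul]) with h1 | ⟨h1, h2⟩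
    · exact Or.inl h1
    · right
      refine ⟨hinj _ _ (by rw [map_mul, h1, map_one]), fun y hy => hinj _ _ ?_⟩
      rw [map_mul, map_mul, map_inv, map_inv]
      exact h2 _ hy
  have huniq' : ∀ x : H, ψ x ∈ A₀ → x * x = 1 → x = 1 ∨ x = t := by
    intro x hx hxx
    rcases huniq (ψ x) hx (by rw [← map_mul, hxx, map_one]) with h1 | h1
    · exact Or.inl (hinj _ _ (by rw [h1, map_one]))
    · exact Or.inr (hinj _ _ h1)
  have hcomm' : ∀ x y : H, ψ x ∈ A₀ → ψ y ∈ A₀ → x * y = y * x := by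
    intro x y hx hy
    refine hinj _ _ ?_
    rw [map_mul, map_mul]
    exact hcomm _ hx _ hy
  have hmul' : ∀ x y : H, ψ x ∈ A₀ → ψ y ∈ A₀ → ψ (x * y) ∈ A₀ := by
    intro x y hx hy
    rw [map_mul]
    exact mul_mem hx hy
  -- elements of `A ∖ ⟨t⟩` invert `A₀`
  have hAinv : ∀ a ∈ A, a ≠ 1 → a ≠ t → ∀ y : H, ψ y ∈ A₀ → a * y * a⁻¹ = y⁻¹ := by
    intro a ha ha1 hat
    rcases hcov' a (hAcomm a ha t htA) with h1 | h1
    · exact absurd (huniq' a h1 (h.sq a ha)) (by rintro (h2 | h2); exacts [ha1 h2, hat h2])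
    · exact h1.2
  obtain ⟨a, haA, ha1, hat⟩ := hex t
  have haa : a * a = 1 := h.sq a haA
  have hai : a⁻¹ = a := inv_eq_of_mul_eq_one_left haa
  have hti : t⁻¹ = t := inv_eq_of_mul_eq_one_left htt
  have hat' : a * t = t * a := hAcomm a haA t htA
  -- `C_H(t) = T`
  have hX : IsPGroup 2 (centralizer ({t} : Set H)) := by
    rintro ⟨x, hx⟩
    have hxt : x * t = t * x := mem_centralizer_singleton_iff.1 hx
    have key : ∃ n : ℕ, x ^ 2 ^ n = 1 := by
      rcases hcov' x hxt with h1 | h1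
      · have h2 := hAinv a haA ha1 hat x h1
        have h3 : x⁻¹ * x⁻¹ ∈ o2 (centralizer ({t} : Set H)) := by
          have e : x⁻¹ * x⁻¹ = a * (x * a⁻¹ * x⁻¹) := by
            calc x⁻¹ * x⁻¹ = a * x * a⁻¹ * x⁻¹ := by rw [h2]
              _ = a * (x * a⁻¹ * x⁻¹) := by group
          rw [e]
          exact mul_mem (hO haA) (o2_conj hx (inv_mem (hO haA)))
        obtain ⟨n, hn⟩ := pow_of_mem (o2_isPGroup _) h3
        refine ⟨n + 1, ?_⟩
        have h4 : (x⁻¹ * x⁻¹) ^ 2 ^ n = (x ^ 2 ^ (n + 1))⁻¹ := by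
          rw [← pow_two, ← pow_mul, pow_succ, mul_comm (2 ^ n) 2, inv_pow]
        rw [h4, inv_eq_one] at hn
        exact hn
      · exact ⟨1, by rw [pow_one, pow_two]; exact h1.1⟩
    obtain ⟨n, hn⟩ := key
    exact ⟨n, Subtype.ext hn⟩
  have hTX : (T : Subgroup H) ≤ centralizer ({t} : Set H) := fun s hs => mem_centralizer_singleton_iff.2 (htT s hs)
  have hXT : centralizer ({t} : Set H) = (T : Subgroup H) := T.is_maximal' hX hTX
  have hT' : ∀ x : H, x * t = t * x → x ∈ (T : Subgroup H) := fun x hx => hXT ▸ mem_centralizer_singleton_iff.2 hx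
  -- `y`
  obtain ⟨⟨y, hyK⟩, hyt, hyy⟩ := exists_big R hF h7 (t := ⟨t, htK⟩) (Subtype.ext htt)
    (fun h1 => ht1 (congrArg Subtype.val h1))
  have hyt : y * t = t * y := congrArg Subtype.val hyt
  have hyy : y * y ≠ 1 := fun h1 => hyy (Subtype.ext h1)
  have hyT : y ∈ (T : Subgroup H) := hT' y hyt
  have hyA₀ : ψ y ∈ A₀ := (hcov' y hyt).resolve_right fun h1 => hyy h1.1
  by_cases hex2 : ∃ b ∈ A, b ∈ K ∧ b ≠ 1 ∧ b ≠ t
  · -- case 1
    clear hat' haa hai ha1 hat haA a
    obtain ⟨a, haA, haK, ha1, hat⟩ := hex2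
    have haa : a * a = 1 := h.sq a haA
    have hai : a⁻¹ = a := inv_eq_of_mul_eq_one_left haa
    have hat' : a * t = t * a := hAcomm a haA t htA
    have hay : a * y * a⁻¹ = y⁻¹ := hAinv a haA ha1 hat y hyA₀
    have hyya : y * a * y⁻¹ = y * y * a := by
      have h1 : a * y⁻¹ = y * a := by
        calc a * y⁻¹ = a * (a * y * a⁻¹) := by rw [hay]
          _ = (a * a) * y * a⁻¹ := by group
          _ = y * a := by rw [haa, one_mul, hai]
      rw [mul_assoc, h1, ← mul_assoc]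
    have hyyA : y * y ∈ A := by
      have h1 : y * a * y⁻¹ ∈ A := (mem_normalizer_iff.1 (h.norm hyT) a).1 haA
      rw [hyya] at h1
      have h2 := mul_mem h1 haA
      rwa [mul_assoc, haa, mul_one] at h2
    have hyyt : y * y = t := (huniq' _ (hmul' _ _ hyA₀ hyA₀) (h.sq _ hyyA)).resolve_left hyy
    have hyi : y⁻¹ = t * y := by
      rw [inv_eq_iff_mul_eq_one, ← mul_assoc, hyt, mul_assoc, hyyt, htt]
    obtain ⟨c, hc⟩ : ∃ c, c = y * a := ⟨_, rfl⟩
    have hcc : c * c = 1 := by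
      calc c * c = y * (a * y * a⁻¹) * (a * a) := by rw [hc]; group
        _ = 1 := by rw [hay, haa, mul_one, mul_inv_cancel]
    have hct : c * t = t * c := by
      rw [hc, mul_assoc, hat', ← mul_assoc, hyt, mul_assoc]
    have hc1 : c ≠ 1 := by
      intro h1
      apply hyy
      have h2 : y = a := by
        rw [← hai]
        exact eq_inv_of_mul_eq_one_left (hc ▸ h1)
      rw [h2, haa]
    have hct1 : t ≠ c := by
      intro h1
      apply hyy
      have h2 : y = t * a := by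
        calc y = (y * a) * a := by rw [mul_assoc, haa, mul_one]
          _ = t * a := by rw [← hc, ← h1]
      rw [h2]
      calc t * a * (t * a) = t * (a * t) * a := by group
        _ = (t * t) * (a * a) := by rw [hat']; group
        _ = 1 := by rw [htt, haa, one_mul]
    have hcK : c ∈ K := hc ▸ mul_mem hyK haK
    have hf : Four t c := ⟨htt, hcc, ht1, hc1, hct1, hct.symm⟩
    have hfK : Four (⟨t, htK⟩ : K) ⟨c, hcK⟩ := ⟨Subtype.ext htt, Subtype.ext hcc, fun h1 => ht1 (congrArg Subtype.val h1),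
      fun h1 => hc1 (congrArg Subtype.val h1), fun h1 => hct1 (congrArg Subtype.val h1), Subtype.ext hct.symm⟩
    have hfa : Four (⟨t, htK⟩ : K) ⟨a, haK⟩ := ⟨Subtype.ext htt, Subtype.ext haa, fun h1 => ht1 (congrArg Subtype.val h1),
      fun h1 => ha1 (congrArg Subtype.val h1), fun h1 => hat (congrArg Subtype.val h1).symm, Subtype.ext hat'.symm⟩
    obtain ⟨Φ, ⟨g, hgK⟩, δ, -, -, -, -, hg3, -, hg1, hg2, -⟩ := R.exists_frame hfK
    have hg3 : g * g * g = 1 := congrArg Subtype.val hg3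
    have hg1 : g * t * g⁻¹ = c := congrArg Subtype.val hg1
    have hg2 : g * c * g⁻¹ = t * c := congrArg Subtype.val hg2
    -- the four-group `N = ⟨t, c⟩`
    obtain ⟨N, hN⟩ : ∃ N : Subgroup H, N = hf.sub := ⟨_, rfl⟩
    have hmem : ∀ x, x ∈ N ↔ x = 1 ∨ x = t ∨ x = c ∨ x = t * c := by
      intro x; rw [hN]; exact Iff.rfl
    have hN2 : IsPGroup 2 N := by
      rintro ⟨x, hx⟩
      refine ⟨1, Subtype.ext ?_⟩
      show x ^ 2 ^ 1 = 1
      rw [pow_one, pow_two]
      rcases (hmem x).1 hx with rfl | rfl | rfl | rfl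
      · exact one_mul 1
      · exact htt
      · exact hcc
      · calc t * c * (t * c) = t * (c * t) * c := by group
          _ = (t * t) * (c * c) := by rw [hct]; group
          _ = 1 := by rw [htt, hcc, one_mul]
    have hN1 : N ≠ ⊥ := by
      intro h0
      have : t ∈ N := (hmem t).2 (Or.inr (Or.inl rfl))
      rw [h0, mem_bot] at this
      exact ht1 this
    have hTN : (T : Subgroup H) ≤ normalizer (N : Set H) := by
      refine Block.le_normalizer_of_forall fun s hs m hm => ?_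
      have hst : s * t * s⁻¹ = t := by rw [htT s hs, mul_inv_cancel_right]
      -- `s a s⁻¹`
      have hsa : s * a * s⁻¹ = a ∨ s * a * s⁻¹ = t * a := by
        have h1 : s * a * s⁻¹ ∈ A := (mem_normalizer_iff.1 (h.norm hs) a).1 haA
        have h2 : s * a * s⁻¹ ∈ K := hKn.conj_mem a haK s
        obtain ⟨x, hx⟩ : ∃ x, x = s * a * s⁻¹ := ⟨_, rfl⟩
        rw [← hx] at h1 h2 ⊢
        have h3 := R.fix_four hfa (hPGL x) (Subtype.ext (by
            rw [hψa]
            show x * t * x⁻¹ = t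
            rw [hAcomm x h1 t htA, mul_inv_cancel_right])) (Subtype.ext (by
            rw [hψa]
            show x * a * x⁻¹ = a
            rw [hAcomm x h1 a haA, mul_inv_cancel_right]))
        rcases h3 with h3 | h3 | h3 | h3
        · exfalso
          have h4 : x = 1 := hinj _ _ (by rw [h3, map_one])
          rw [hx, mul_inv_eq_one] at h4
          exact ha1 (mul_eq_left.1 h4)
        · exfalso
          rw [← hconj] at h3
          have h4 : x = t := hinj _ _ h3
          rw [hx] at h4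
          apply hat
          calc a = s⁻¹ * (s * a * s⁻¹) * s := by group
            _ = s⁻¹ * (s * t * s⁻¹) * s := by rw [h4, hst]
            _ = t := by group
        · rw [← hconj] at h3
          exact Or.inl (hinj _ _ h3)
        · rw [← hconj] at h3
          exact Or.inr (hinj _ _ h3)
      -- `s y s⁻¹`
      have hsy : s * y * s⁻¹ = y ∨ s * y * s⁻¹ = t * y := by
        obtain ⟨x, hx⟩ : ∃ x, x = s * y * s⁻¹ := ⟨_, rfl⟩
        have hxx : x * x = t := by
          calc x * x = s * (y * y) * s⁻¹ := by rw [hx]; group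
            _ = t := by rw [hyyt, hst]
        have hxt : x * t = t * x := by
          rw [← hxx]; group
        have hxA₀ : ψ x ∈ A₀ := (hcov' x hxt).resolve_right fun h1 => ht1 (hxx ▸ h1.1)
        have hxy := hcomm' x y hxA₀ hyA₀
        have h1 : (x * y) * (x * y) = 1 := by
          calc (x * y) * (x * y) = x * (y * x) * y := by group
            _ = (x * x) * (y * y) := by rw [← hxy]; group
            _ = 1 := by rw [hxx, hyyt, htt]
        rw [← hx]
        rcases huniq' _ (hmul' _ _ hxA₀ hyA₀) h1 with h2 | h2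
        · right
          rw [← hyi]
          exact eq_inv_of_mul_eq_one_left h2
        · left
          have h3 : x = t * y⁻¹ := by rw [← h2, mul_inv_cancel_right]
          rw [h3, hyi, ← mul_assoc, htt, one_mul]
      have hsc : s * c * s⁻¹ ∈ N := by
        have e : s * c * s⁻¹ = (s * y * s⁻¹) * (s * a * s⁻¹) := by rw [hc]; group
        rw [e]
        have e2 : ∀ z : H, t * (t * z) = z := fun z => by rw [← mul_assoc, htt, one_mul]
        rcases hsy with h1 | h1 <;> rcases hsa with h2 | h2 <;> rw [h1, h2, hmem]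
        · exact Or.inr (Or.inr (Or.inl hc.symm))
        · right; right; right
          rw [← mul_assoc, hyt, mul_assoc, hc]
        · right; right; right
          rw [mul_assoc, hc]
        · right; right; left
          rw [mul_assoc, ← mul_assoc y, hyt, mul_assoc t y, e2, hc]
      rcases (hmem m).1 hm with rfl | rfl | rfl | rfl
      · rw [mul_one, mul_inv_cancel]; exact one_mem _
      · rw [hst]; exact hm
      · exact hsc
      · have e : s * (t * c) * s⁻¹ = (s * t * s⁻¹) * (s * c * s⁻¹) := by group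
        rw [e, hst]
        exact mul_mem ((hmem t).2 (Or.inr (Or.inl rfl))) hsc
    have hON := h.le_o2_normalizer hN2 hN1 hTN
    have hgN : ∀ m ∈ N, g * m * g⁻¹ ∈ N := by
      intro m hm
      rcases (hmem m).1 hm with rfl | rfl | rfl | rfl
      · rw [mul_one, mul_inv_cancel]; exact one_mem _
      · rw [hg1, hmem]; exact Or.inr (Or.inr (Or.inl rfl))
      · rw [hg2, hmem]; exact Or.inr (Or.inr (Or.inr rfl))
      · have e : g * (t * c) * g⁻¹ = (g * t * g⁻¹) * (g * c * g⁻¹) := by group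
        rw [e, hg1, hg2, ← mul_assoc, hct, mul_assoc, hcc, mul_one, hmem]
        exact Or.inr (Or.inl rfl)
    have hgi : g⁻¹ = g * g := inv_eq_of_mul_eq_one_left hg3
    have hgnorm : g ∈ normalizer (N : Set H) := by
      rw [mem_normalizer_iff]
      intro m
      refine ⟨hgN m, fun hm => ?_⟩
      have h1 := hgN _ (hgN _ hm)
      have e : g * (g * (g * m * g⁻¹) * g⁻¹) * g⁻¹ = (g * g * g) * m * (g * g * g)⁻¹ := by group
      rwa [e, hg3, one_mul, inv_one, mul_one] at h1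
    obtain ⟨w, hw⟩ : ∃ w, w = g * a * g⁻¹ * a⁻¹ := ⟨_, rfl⟩
    have hwO : w ∈ o2 (normalizer (N : Set H)) := by
      rw [hw]
      exact mul_mem (o2_conj hgnorm (hON haA)) (inv_mem (hON haA))
    -- the action of `a`, `g⁻¹`, `w`
    have hact : a * t * a⁻¹ = t := by rw [hat', mul_inv_cancel_right]
    have hacc : a * c * a⁻¹ = t * c := by
      calc a * c * a⁻¹ = (a * y * a⁻¹) * a := by rw [hc]; group
        _ = t * c := by rw [hay, hyi, mul_assoc, ← hc]
    have hact' : a⁻¹ * t * a = t := by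
      rw [hai]
      rw [hai] at hact
      exact hact
    have hacc' : a⁻¹ * c * a = t * c := by
      rw [hai]
      rw [hai] at hacc
      exact hacc
    have hg1' : g⁻¹ * c * g = t := by rw [← hg1]; group
    have hg2' : g⁻¹ * (t * c) * g = c := by rw [← hg2]; group
    have hg3' : g⁻¹ * t * g = t * c := by
      calc g⁻¹ * t * g = (g⁻¹ * (t * c) * g) * (g⁻¹ * c * g)⁻¹ := by group
        _ = t * c := by rw [hg1', hg2', hti, hct]
    have hwt : w * t * w⁻¹ = t * c := by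
      calc w * t * w⁻¹ = g * (a * (g⁻¹ * (a⁻¹ * t * a) * g) * a⁻¹) * g⁻¹ := by rw [hw]; group
        _ = g * (a * (t * c) * a⁻¹) * g⁻¹ := by rw [hact', hg3']
        _ = g * ((a * t * a⁻¹) * (a * c * a⁻¹)) * g⁻¹ := by group
        _ = g * c * g⁻¹ := by rw [hact, hacc, ← mul_assoc t t, htt, one_mul]
        _ = t * c := hg2
    have hwc : w * c * w⁻¹ = t := by
      calc w * c * w⁻¹ = g * (a * (g⁻¹ * (a⁻¹ * c * a) * g) * a⁻¹) * g⁻¹ := by rw [hw]; group
        _ = g * (a * c * a⁻¹) * g⁻¹ := by rw [hacc', hg2']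
        _ = (g * t * g⁻¹) * (g * c * g⁻¹) := by rw [hacc]; group
        _ = t := by rw [hg1, hg2, ← mul_assoc, hct, mul_assoc, hcc, mul_one]
    have hwtc : w * (t * c) * w⁻¹ = c := by
      calc w * (t * c) * w⁻¹ = (w * t * w⁻¹) * (w * c * w⁻¹) := by group
        _ = c := by rw [hwt, hwc, mul_assoc, hct, ← mul_assoc, htt, one_mul]
    have hw3 : w ^ 3 ^ 1 ∈ centralizer ({t} : Set H) := by
      rw [mem_centralizer_singleton_iff, ← mul_inv_eq_iff_eq_mul]
      calc w ^ 3 ^ 1 * t * (w ^ 3 ^ 1)⁻¹ = w * (w * (w * t * w⁻¹) * w⁻¹) * w⁻¹ := by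
            rw [pow_one, pow_succ, pow_two]; group
        _ = t := by rw [hwt, hwtc, hwc]
    obtain ⟨n, hn⟩ := pow_of_mem (o2_isPGroup _) hwO
    have hw0 : ¬ 3 ∣ orderOf w := by
      intro h3
      have h4 : 3 ∣ 2 ^ n := h3.trans (orderOf_dvd_of_pow_eq_one hn)
      exact absurd (Nat.prime_three.dvd_of_dvd_pow h4) (by norm_num)
    have hw4 := UniStruct.mem_of_pow Nat.prime_three hw0 hw3
    rw [mem_centralizer_singleton_iff] at hw4
    rw [hw4, mul_inv_cancel_right] at hwt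
    exact hc1 (left_eq_mul.1 hwt)
  · -- case 2
    push Not at hex2
    have haK : a ∉ K := fun haK => hat (hex2 a haA haK ha1)
    have haI : ψ a ∉ Inn K := fun h1 => haK (hInn _ h1)
    obtain ⟨Q, hQ⟩ := Cfsg.Agent.S0542.result 2 K hKn.isSubnormal T
    have hQm : ∀ x : K, x ∈ Q ↔ (x : H) ∈ (T : Subgroup H) := by
      intro x
      have h1 : x ∈ Q ↔ x ∈ (Q : Subgroup K) := Iff.rfl
      rw [h1, hQ]
      rfl
    obtain ⟨z, hzQ, hzz, hz1, hφz, -, hfix⟩ := R.dtype_fix Q (hPGL a) haI (by rw [← map_mul, haa, map_one]) (by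
      intro s hs
      rw [hQm] at hs ⊢
      rw [hψa]
      exact mul_mem (mul_mem (h.le haA) hs) (inv_mem (h.le haA)))
    obtain ⟨f₁, f₂, hf₁, hf₂, hff⟩ := R.exists_four_mem Q
    -- `[x, a] ∈ {1, t}`
    have hc : ∀ x ∈ Q, (x = 1 ∨ x = z) ∨ (x : H) * a * (x : H)⁻¹ * a⁻¹ = t := by
      intro x hx
      have h1 : (x : H) * a * (x : H)⁻¹ * a⁻¹ ∈ A := by
        refine mul_mem ?_ (inv_mem haA)
        exact (mem_normalizer_iff.1 (h.norm ((hQm x).1 hx)) a).1 haA
      have h2 : (x : H) * a * (x : H)⁻¹ * a⁻¹ ∈ K := by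
        have e : (x : H) * a * (x : H)⁻¹ * a⁻¹ = x * (a * (x : H)⁻¹ * a⁻¹) := by group
        rw [e]
        exact mul_mem x.2 (hKn.conj_mem _ (inv_mem x.2) a)
      by_cases h3 : (x : H) * a * (x : H)⁻¹ * a⁻¹ = 1
      · left
        refine hfix x hx (Subtype.ext ?_)
        rw [hψa]
        have h4 : (x : H) * a = a * x := by
          rw [mul_inv_eq_one] at h3
          exact mul_inv_eq_iff_eq_mul.1 h3
        rw [← h4, mul_inv_cancel_right]
      · exact Or.inr (hex2 _ h1 h2 h3)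
    have hdiff : ∀ x ∈ Q, ∀ x' ∈ Q, (x : H) * a * (x : H)⁻¹ * a⁻¹ = t → (x' : H) * a * (x' : H)⁻¹ * a⁻¹ = t →
        x⁻¹ * x' = 1 ∨ x⁻¹ * x' = z := by
      intro x hx x' hx' h1 h2
      refine hfix _ (mul_mem (inv_mem hx) hx') (Subtype.ext ?_)
      rw [hψa]
      show a * ((x : H)⁻¹ * x') * a⁻¹ = (x : H)⁻¹ * x'
      have h3 : (x : H) * a * (x : H)⁻¹ = (x' : H) * a * (x' : H)⁻¹ := by
        have := h1.trans h2.symm
        exact mul_right_cancel this
      calc a * ((x : H)⁻¹ * x') * a⁻¹ = (x : H)⁻¹ * ((x : H) * a * (x : H)⁻¹) * x' * a⁻¹ := by group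
        _ = (x : H)⁻¹ * ((x' : H) * a * (x' : H)⁻¹) * x' * a⁻¹ := by rw [h3]
        _ = (x : H)⁻¹ * x' := by group
    have hyQ : (⟨y, hyK⟩ : K) ∈ Q := (hQm _).2 hyT
    have hyc : y * a * y⁻¹ * a⁻¹ = t := by
      rcases hc _ hyQ with (h1 | h1) | h1
      · exfalso
        have h2 : y = 1 := congrArg Subtype.val h1
        exact hyy (by rw [h2, one_mul])
      · exfalso
        have h2 : y = z := congrArg Subtype.val h1
        have h3 : (z : H) * z = 1 := congrArg Subtype.val hzz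
        exact hyy (by rw [h2, h3])
      · exact h1
    have hfz : ∀ f ∈ Q, f * f = 1 → f ≠ 1 → f = z ∨ f = ⟨y, hyK⟩ * z := by
      intro f hf hff hf1
      rcases hc f hf with (h1 | h1) | h1
      · exact absurd h1 hf1
      · exact Or.inl h1
      · right
        rcases hdiff _ hyQ f hf hyc h1 with h2 | h2
        · exfalso
          rw [inv_mul_eq_one] at h2
          apply hyy
          rw [← h2] at hff
          exact congrArg Subtype.val hff
        · rw [← h2, mul_inv_cancel_left]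
    have h12 : f₁ * f₂ ∈ Q := mul_mem hf₁ hf₂
    have hr := hff.right
    have k1 := hfz f₁ hf₁ hff.aa hff.a1
    have k2 := hfz f₂ hf₂ hff.bb hff.b1
    have k3 := hfz _ h12 hr.bb hr.b1
    have n12 := hff.ne
    have n13 : f₁ ≠ f₁ * f₂ := hr.ne
    have n23 : f₂ ≠ f₁ * f₂ := fun h1 => hff.a1 (right_eq_mul.1 h1)
    rcases k1 with k1 | k1 <;> rcases k2 with k2 | k2 <;> rcases k3 with k3 | k3
    · exact n12 (k1.trans k2.symm)
    · exact n12 (k1.trans k2.symm)
    · exact n13 (k1.trans k3.symm)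
    · exact n23 (k2.trans k3.symm)
    · exact n23 (k2.trans k3.symm)
    · exact n13 (k1.trans k3.symm)
    · exact n12 (k1.trans k2.symm)
    · exact n12 (k1.trans k2.symm)

end MinA

end Cfsg.Agent.OddCyclic.EmpTypes
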