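import Mathlib
import Cfsg.Agent.OddCyclic.EmpTypesLin
import Cfsg.Agent.OddCyclic.EmpTypesPsl

/-!
# (Empty): the types of the minimal groups

* `MinA.types` : `|A| = 2`, or `H = K T`, `K` simple normal with `C_H(K) = 1`, `A ≤ K`, and `K ≅ SL₂(2^f)` or a Suzuki
  group;
* `MinA.exists_wit` : there is `k` such that `A^k` and `A^{ka}` do not commute for every `1 ≠ a ∈ A`.
-/

set_option autoImplicit false
set_option linter.unusedSectionVars false

namespace Cfsg.Agent.OddCyclic.EmpTypes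

open Subgroup Cfsg Cfsg.Agent.ZN Cfsg.Agent.ZN.Block
open Cfsg.Agent.OddCyclic.T1Defs (OddCyc)
open Cfsg.Agent.OddCyclic.PumpMain (KZero)
open Cfsg.Agent.SignalizersComponents.Components

universe u

variable {H : Type u} [Group H] [Finite H]

/-- an element of `H` inducing an inner automorphism on `K` lies in `K` if `C_H(K) = 1` -/
theorem mem_of_inner {K : Subgroup H} (hC : centralizer (K : Set H) = ⊥) {a g : H} (hg : g ∈ K)
    (h : ∀ l ∈ K, a * l * a⁻¹ = g * l * g⁻¹) : a ∈ K := by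
  have h3 : g⁻¹ * a ∈ centralizer (K : Set H) := by
    rw [mem_centralizer_iff]
    intro l hl
    have h4 := h l hl
    calc l * (g⁻¹ * a) = g⁻¹ * (g * l * g⁻¹) * a := by group
      _ = g⁻¹ * (a * l * a⁻¹) * a := by rw [h4]
      _ = g⁻¹ * a * l := by group
  rw [hC, mem_bot, inv_mul_eq_one] at h3
  rw [← h3]
  exact hg

theorem zmod_two : ∀ x y : Multiplicative (ZMod 2), x ≠ 1 → y ≠ 1 → x = y := by decide

/-- groups with TI Sylow 2-subgroups -/
theorem wit_of_ti {K : Type*} [Group K] [Finite K] (hTI : ∀ P Q : Sylow 2 K, ∀ x : K, x ∈ P → x ∈ Q → x ≠ 1 → P = Q)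
    (Q : Sylow 2 K) {k : K} (hk : k • Q ≠ Q) {a x : K} (ha : a ∈ Q) (ha1 : a ≠ 1) (hx : x ∈ Q) (hx1 : x ≠ 1) :
    ¬ Commute (k * x * k⁻¹) (a * (k * x * k⁻¹) * a⁻¹) := by
  have hf2 : Fact (Nat.Prime 2) := ⟨Nat.prime_two⟩
  have hmem : ∀ (g : K) (P : Sylow 2 K) (y : K), y ∈ P → g * y * g⁻¹ ∈ g • P := by
    intro g P y hy
    have h1 : g * y * g⁻¹ ∈ ((g • P : Sylow 2 K) : Subgroup K) := by
      rw [Sylow.coe_subgroup_smul]
      exact ⟨y, hy, rfl⟩
    exact h1
  -- 2-elements fixing a Sylow subgroup lie in it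
  have hfix : ∀ (P P' : Sylow 2 K) (y : K), y ∈ P' → y • P = P → y ∈ P := by
    intro P P' y hy hyP
    have h1 : y ∈ (P' : Subgroup K) ⊓ normalizer ((P : Subgroup K) : Set K) :=
      ⟨hy, Sylow.smul_eq_iff_mem_normalizer.1 hyP⟩
    have h2 : y ∈ (P' : Subgroup K) ⊓ (P : Subgroup K) := by
      rw [← P'.isPGroup'.inf_normalizer_sylow P]
      exact h1
    exact h2.2
  intro hcomm
  obtain ⟨u, hu⟩ : ∃ u, u = k * x * k⁻¹ := ⟨_, rfl⟩
  rw [← hu] at hcomm
  have huP : u ∈ k • Q := hu ▸ hmem k Q x hx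
  have hu1 : u ≠ 1 := by
    rw [hu]
    intro h0
    exact hx1 (conj_eq_one_iff.1 h0)
  have hvP : a * u * a⁻¹ ∈ a • k • Q := hmem a _ u huP
  have hv1 : a * u * a⁻¹ ≠ 1 := fun h0 => hu1 (conj_eq_one_iff.1 h0)
  have h1 : u • a • k • Q = a • k • Q := by
    refine hTI _ _ (a * u * a⁻¹) ?_ hvP hv1
    have h2 := hmem u _ _ hvP
    rwa [hcomm.eq, mul_inv_cancel_right] at h2
  have h2 := hfix _ _ u huP h1
  have h3 : a • k • Q = k • Q := hTI _ _ u h2 huP hu1
  have h4 := hfix _ Q a ha h3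
  exact hk (hTI _ _ a h4 ha ha1)

namespace MinA

variable {T : Sylow 2 H} {A : Subgroup H}

open Cfsg.Agent.SporRec.J1.Defs (Local) in
theorem jone (h : MinA T A) {K : Subgroup H} [hKn : K.Normal] (hC : centralizer (K : Set H) = ⊥) (hJ : Local K) {k : K}
    (hk : orderOf k = 2) : Nat.card A = 2 := by
  have hf2 : Fact (Nat.Prime 2) := ⟨Nat.prime_two⟩
  have hKtop : ∀ a : H, a ∈ K := by
    intro a
    obtain ⟨g, hg⟩ := JInner.inner hJ k hk (MulAut.conjNormal a : MulAut K)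
    refine mem_of_inner hC g.2 fun l hl => ?_
    have h1 := congrArg Subtype.val (hg ⟨l, hl⟩)
    rw [MulAut.conjNormal_apply] at h1
    exact h1
  obtain ⟨t, htA, ht1, htT⟩ := exists_central h.le h.norm h.ne
  have htt : t * t = 1 := h.sq t htA
  have hO := h.le_o2_centralizer (h.le htA) ht1 htT
  have hto : orderOf (⟨t, hKtop t⟩ : K) = 2 := by
    rw [Subgroup.orderOf_mk]
    exact orderOf_eq_prime (by rw [pow_two, htt]) ht1
  obtain ⟨f⟩ := hJ.cent _ hto
  obtain ⟨C, hCe⟩ : ∃ C : Subgroup K, C = centralizer ({(⟨t, hKtop t⟩ : K)} : Set K) := ⟨_, rfl⟩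
  rw [← hCe] at f
  have hCm : ∀ x : K, x ∈ C ↔ (x : H) * t = t * x := by
    intro x
    rw [hCe, mem_centralizer_singleton_iff]
    exact Subtype.ext_iff
  let φ : C →* H := K.subtype.comp C.subtype
  have hφ : Function.Injective φ := K.subtype_injective.comp C.subtype_injective
  obtain ⟨N, hN⟩ : ∃ N : Subgroup C, N = (o2 (centralizer ({t} : Set H))).comap φ := ⟨_, rfl⟩
  have hNn : N.Normal := by
    rw [hN]
    refine ⟨fun x hx g => ?_⟩
    rw [mem_comap, map_mul, map_mul, map_inv]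
    refine o2_conj ?_ hx
    rw [mem_centralizer_singleton_iff]
    exact (hCm g).1 g.2
  have hN2 : IsPGroup 2 N := by
    rw [hN]
    exact (o2_isPGroup _).comap_of_injective φ hφ
  let π : C →* alternatingGroup (Fin 5) := (MonoidHom.snd _ _).comp f.toMonoidHom
  have hπs : Function.Surjective π := by
    intro b
    obtain ⟨c, hc⟩ := f.surjective (1, b)
    exact ⟨c, by show (f c).2 = b; rw [hc]⟩
  have hNπ : N.map π = ⊥ := by
    have h1 : (N.map π).Normal := hNn.map π hπs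
    have hs : IsSimpleGroup (alternatingGroup (Fin 5)) := alternatingGroup.isSimpleGroup_five
    rcases hs.eq_bot_or_eq_top_of_normal _ h1 with h2 | h2
    · exact h2
    · exfalso
      have h3 : IsPGroup 2 (N.map π) := hN2.map π
      obtain ⟨n, hn⟩ := IsPGroup.iff_card.1 h3
      rw [h2, Subgroup.card_top] at hn
      have h4 : Nat.card (alternatingGroup (Fin 5)) = 60 := by
        rw [Nat.card_eq_fintype_card]; decide +kernel
      rw [h4] at hn
      have h5 : 3 ∣ 2 ^ n := by rw [← hn]; norm_num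
      exact absurd (Nat.prime_three.dvd_of_dvd_pow h5) (by norm_num)
  have hAC : ∀ a ∈ A, (⟨a, hKtop a⟩ : K) ∈ C := by
    intro a ha
    rw [hCm]
    exact FFRed.comm_of_sq h.sq ha htA
  have hf : ∀ a (ha : a ∈ A), (f ⟨⟨a, hKtop a⟩, hAC a ha⟩).2 = 1 := by
    intro a ha
    have h1 : (⟨⟨a, hKtop a⟩, hAC a ha⟩ : C) ∈ N := by
      rw [hN]; exact hO ha
    have h2 : π ⟨⟨a, hKtop a⟩, hAC a ha⟩ ∈ N.map π := ⟨_, h1, rfl⟩
    rw [hNπ, mem_bot] at h2
    exact h2
  have hf1 : ∀ a (ha : a ∈ A), a ≠ 1 → (f ⟨⟨a, hKtop a⟩, hAC a ha⟩).1 ≠ 1 := by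
    intro a ha ha1 h0
    apply ha1
    have h1 : f ⟨⟨a, hKtop a⟩, hAC a ha⟩ = 1 := Prod.ext h0 (hf a ha)
    have h2 := (map_eq_one_iff f f.injective).1 h1
    exact congrArg (fun c : C => ((c : K) : H)) h2
  refine h.card_two_of (a := t) fun b hb => ?_
  by_cases hb1 : b = 1
  · exact Or.inl hb1
  · right
    have h1 : f ⟨⟨b, hKtop b⟩, hAC b hb⟩ = f ⟨⟨t, hKtop t⟩, hAC t htA⟩ :=
      Prod.ext (zmod_two _ _ (hf1 b hb hb1) (hf1 t htA ht1)) ((hf b hb).trans (hf t htA).symm)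
    have h2 := f.injective h1
    exact congrArg (fun c : C => ((c : K) : H)) h2

/-- **the types of the minimal groups** -/
theorem types (h : MinA T A) : Nat.card A = 2 ∨ ∃ K : Subgroup H, K.Normal ∧ IsSimpleGroup K ∧
    centralizer (K : Set H) = ⊥ ∧ K ⊔ (T : Subgroup H) = ⊤ ∧ A ≤ K ∧
      ((∃ (F : Type) (_ : Field F) (_ : Fintype F) (_ : CharP F 2), 4 ≤ Fintype.card F ∧
        Nonempty (K ≃* Matrix.SpecialLinearGroup (Fin 2) F)) ∨ Cfsg.Lie.IsoSuzuki K) := by
  have hf2 : Fact (Nat.Prime 2) := ⟨Nat.prime_two⟩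
  rcases UniStruct.exists_moved_abs h.core h.cyc h.two h.ne with ⟨K, hK, hm⟩ | ⟨p, x, hp, hp2, hx, hn, hm⟩
  · obtain ⟨htop, hC⟩ := h.comp hK hm
    have hKn : K.Normal := UniStruct.normal h.cyc hK
    have hKs : IsSimpleGroup K := UniStruct.simple h.core h.cyc hK
    have hab : ∃ x y : K, x * y ≠ y * x := by
      by_contra hcon
      push Not at hcon
      have h1 := hK.2.1
      exact Group.IsPerfect.not_isMulCommutative K ⟨⟨hcon⟩⟩
    have hz : center K = ⊥ := UniStruct.center_eq_bot h.core h.cyc hK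
    have key : ∀ (F : Type) [Field F] [Fintype F] [CharP F 2], 4 ≤ Fintype.card F →
        (K ≃* Matrix.SpecialLinearGroup (Fin 2) F) → Nat.card A = 2 ∨ ∃ K : Subgroup H, K.Normal ∧ IsSimpleGroup K ∧
    centralizer (K : Set H) = ⊥ ∧ K ⊔ (T : Subgroup H) = ⊤ ∧ A ≤ K ∧
      ((∃ (F : Type) (_ : Field F) (_ : Fintype F) (_ : CharP F 2), 4 ≤ Fintype.card F ∧
        Nonempty (K ≃* Matrix.SpecialLinearGroup (Fin 2) F)) ∨ Cfsg.Lie.IsoSuzuki K) := by
      intro F _ _ _ h4 e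
      exact Or.inr ⟨K, hKn, hKs, hC, htop, h.le_sl2 hC e.symm, Or.inl ⟨F, _, _, inferInstance, h4, ⟨e⟩⟩⟩
    rcases h.kz K hKs hab with ⟨F, _, _, hp, h5, ⟨e⟩⟩ | ⟨F, _, _, f, hf, hF, ⟨e⟩⟩ | hs | ⟨hJ, k, hk⟩
    · have hodd : Odd (Fintype.card F) := hp.odd_of_ne_two (by omega)
      by_cases h5' : Fintype.card F = 5
      · obtain ⟨K', _, _, _, hK4, ⟨e'⟩⟩ := T1Socle.exists_four h5'
        exact key K' (by rw [hK4]) (e.trans e')
      · have h7 : 7 ≤ Fintype.card F := by
          have h6 : Fintype.card F ≠ 6 := by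
            intro h6
            rw [h6] at hp
            revert hp
            norm_num
          omega
        have R := Cfsg.Agent.GH.L2Aut.Rep.ofEquiv (Cfsg.Agent.GH.L2Aut.two_ne_zero_of_odd hodd) e
        left
        exact h.psl hC R (by rw [Nat.card_eq_fintype_card]; exact hp) (by rw [Nat.card_eq_fintype_card]; exact h7)
    · have h4 : 4 ≤ Fintype.card F := by
        rw [hF]
        calc 4 = 2 ^ 2 := by norm_num
          _ ≤ 2 ^ f := Nat.pow_le_pow_right (by norm_num) hf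
      have hch : CharP F 2 := by
        have hch := ringChar.charP F
        have h1 : ringChar F ∣ 2 ^ f := by
          rw [← hF, ← CharP.cast_eq_zero_iff F (ringChar F), Nat.cast_card_eq_zero]
        have h2 : (ringChar F).Prime := CharP.char_is_prime F (ringChar F)
        have h3 : ringChar F = 2 := (Nat.prime_dvd_prime_iff_eq h2 Nat.prime_two).1 (h2.dvd_of_dvd_pow h1)
        rwa [h3] at hch
      obtain ⟨g⟩ := WeakTI.PslTwo.nonempty_equiv (F := F)
      exact key F h4 (e.trans g.symm)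
    · have hKt : K = ⊤ := T1MinParAbs.eq_top_of_suzuki h.core T.isPGroup' hKn hz hs htop
      exact Or.inr ⟨K, hKn, hKs, hC, htop, by rw [hKt]; exact le_top, Or.inr hs⟩
    · exact Or.inl (h.jone hC hJ hk)
  · exact Or.inl (h.card_of_prime hp hp2 hx hn hm)

/-- **the witness** -/
theorem exists_wit (h : MinA T A) : ∃ k : H, ∀ a ∈ A, a ≠ 1 → ∃ x ∈ A, ∃ y ∈ A,
    ¬ Commute (k * x * k⁻¹) (a * (k * y * k⁻¹) * a⁻¹) := by
  have hf2 : Fact (Nat.Prime 2) := ⟨Nat.prime_two⟩
  rcases h.types with hc | ⟨K, hKn, hKs, hC, htop, hAK, hK⟩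
  · -- `|A| = 2`
    obtain ⟨⟨a, ha⟩, ha1'⟩ := Subgroup.ne_bot_iff_exists_ne_one.1 h.ne
    have ha1 : a ≠ 1 := fun h => ha1' (Subtype.ext h)
    have haa := h.sq a ha
    have hai : a⁻¹ = a := inv_eq_of_mul_eq_one_left haa
    obtain ⟨y, hy1, hyo, hay⟩ := Cfsg.Agent.Involutions.BaerSuzuki.exists_odd_inverted a haa (by
      intro h1
      apply ha1
      have h2 : a ∈ pCore 2 H := Lib.Cores.le_pCore Subgroup.normalClosure_normal h1
        (Subgroup.subset_normalClosure (by simp))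
      rwa [h.core, mem_bot] at h2)
    refine ⟨y, fun b hb hb1 => ⟨a, ha, a, ha, ?_⟩⟩
    have hba : b = a := by
      obtain ⟨x, hx1, hx2⟩ := (Nat.card_eq_two_iff' (1 : A)).1 hc
      have e1 := hx2 ⟨a, ha⟩ (fun h0 => ha1 (congrArg Subtype.val h0))
      have e2 := hx2 ⟨b, hb⟩ (fun h0 => hb1 (congrArg Subtype.val h0))
      exact congrArg Subtype.val (e2.trans e1.symm)
    subst hba
    intro hcomm
    have h1 : b * y⁻¹ = y * b := by
      calc b * y⁻¹ = b * (b * y * b⁻¹) := by rw [hay]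
        _ = (b * b) * y * b⁻¹ := by group
        _ = y * b := by rw [haa, one_mul, hai]
    have h2 : b * y = y⁻¹ * b := by rw [← hay, inv_mul_cancel_right]
    -- `y b y⁻¹ = y² b`, `b (y² b) b⁻¹ = b y²`
    have h3 : y * b * y⁻¹ = y * y * b := by rw [mul_assoc, h1, ← mul_assoc]
    have h4 : b * (y * y * b) * b⁻¹ = y⁻¹ * y⁻¹ * b := by
      calc b * (y * y * b) * b⁻¹ = (b * y) * y := by group
        _ = (y⁻¹ * b) * y := by rw [h2]
        _ = y⁻¹ * (b * y) := mul_assoc _ _ _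
        _ = y⁻¹ * (y⁻¹ * b) := by rw [h2]
        _ = y⁻¹ * y⁻¹ * b := (mul_assoc _ _ _).symm
    rw [h3, h4] at hcomm
    have h5 : y * y * b * (y⁻¹ * y⁻¹ * b) = y * y * y * y := by
      calc y * y * b * (y⁻¹ * y⁻¹ * b) = y * y * (b * y⁻¹) * y⁻¹ * b := by group
        _ = y * y * (y * b) * y⁻¹ * b := by rw [h1]
        _ = y * y * y * (b * y⁻¹) * b := by group
        _ = y * y * y * (y * b) * b := by rw [h1]
        _ = y * y * y * y * (b * b) := by group
        _ = y * y * y * y := by rw [haa, mul_one]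
    have h6 : y⁻¹ * y⁻¹ * b * (y * y * b) = y⁻¹ * y⁻¹ * y⁻¹ * y⁻¹ := by
      calc y⁻¹ * y⁻¹ * b * (y * y * b) = y⁻¹ * y⁻¹ * (b * y) * y * b := by group
        _ = y⁻¹ * y⁻¹ * (y⁻¹ * b) * y * b := by rw [h2]
        _ = y⁻¹ * y⁻¹ * y⁻¹ * (b * y) * b := by group
        _ = y⁻¹ * y⁻¹ * y⁻¹ * (y⁻¹ * b) * b := by rw [h2]
        _ = y⁻¹ * y⁻¹ * y⁻¹ * y⁻¹ * (b * b) := by group
        _ = y⁻¹ * y⁻¹ * y⁻¹ * y⁻¹ := by rw [haa, mul_one]
    have h7 : y ^ 8 = 1 := by
      have h8 := hcomm.eq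
      rw [h5, h6] at h8
      calc y ^ 8 = (y * y * y * y) * (y * y * y * y) := by
            simp only [pow_succ, pow_zero, one_mul, mul_assoc]
        _ = (y⁻¹ * y⁻¹ * y⁻¹ * y⁻¹) * (y * y * y * y) := by rw [← h8]
        _ = 1 := by group
    apply hy1
    have h8 : orderOf y ∣ 2 ^ 3 := orderOf_dvd_of_pow_eq_one h7
    exact orderOf_eq_one_iff.1 (Nat.eq_one_of_dvd_coprimes
      (Nat.Coprime.pow_right 3 (Nat.coprime_two_right.2 hyo)) dvd_rfl h8)
  · -- TI
    have hTI : ∀ P Q : Sylow 2 K, ∀ x : K, x ∈ P → x ∈ Q → x ≠ 1 → P = Q := by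
      rcases hK with ⟨F, _, _, _, h4, ⟨e⟩⟩ | hs
      · intro P Q x hP hQ hx
        by_contra hne
        have hr : ∀ P : Sylow 2 K, (P : Subgroup K) ≤ e.symm.toMonoidHom.range := by
          intro P
          rw [MonoidHom.range_eq_top.2 e.symm.surjective]
          exact le_top
        have hne' : P.comapOfInjective e.symm.toMonoidHom e.symm.injective (hr P) ≠
            Q.comapOfInjective e.symm.toMonoidHom e.symm.injective (hr Q) := by
          intro h0
          apply hne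
          apply Sylow.ext
          have h1 : (P : Subgroup K).comap e.symm.toMonoidHom = (Q : Subgroup K).comap e.symm.toMonoidHom :=
            congrArg (fun S : Sylow 2 (Matrix.SpecialLinearGroup (Fin 2) F) =>
              (S : Subgroup (Matrix.SpecialLinearGroup (Fin 2) F))) h0
          exact Subgroup.comap_injective e.symm.surjective h1
        have hm : ∀ P : Sylow 2 K, x ∈ P → e x ∈ P.comapOfInjective e.symm.toMonoidHom e.symm.injective (hr P) := by
          intro P hP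
          show e.symm (e x) ∈ (P : Subgroup K)
          rw [e.symm_apply_apply]
          exact hP
        have h1 := T1Sl2.sylow_ti hne' (hm P hP) (hm Q hQ)
        exact hx ((map_eq_one_iff e e.injective).1 h1)
      · intro P Q x hP hQ hx
        exact FFSz.sylow_ti hs hP hQ hx
    obtain ⟨Q, hQ⟩ := Cfsg.Agent.S0542.result 2 K hKn.isSubnormal T
    have hQm : ∀ x : K, x ∈ Q ↔ (x : H) ∈ (T : Subgroup H) := by
      intro x
      have h1 : x ∈ Q ↔ x ∈ (Q : Subgroup K) := Iff.rfl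
      rw [h1, hQ]
      rfl
    obtain ⟨⟨b, hb⟩, hb1'⟩ := Subgroup.ne_bot_iff_exists_ne_one.1 h.ne
    have hb1 : b ≠ 1 := fun h => hb1' (Subtype.ext h)
    obtain ⟨k, hk⟩ : ∃ k : K, k • Q ≠ Q := by
      by_contra hcon
      push Not at hcon
      have hn : (Q : Subgroup K).Normal := by
        rw [← normalizer_eq_top_iff, eq_top_iff]
        intro k _
        exact Sylow.smul_eq_iff_mem_normalizer.1 (hcon k)
      rcases hKs.eq_bot_or_eq_top_of_normal _ hn with h1 | h1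
      · have h2 : (⟨b, hAK hb⟩ : K) ∈ (Q : Subgroup K) := (hQm _).2 (h.le hb)
        rw [h1, mem_bot] at h2
        exact hb1 (congrArg Subtype.val h2)
      · have h2 : IsPGroup 2 K := by
          have h3 := Q.isPGroup'
          rw [h1] at h3
          exact h3.of_equiv topEquiv
        have h3 := Lib.Cores.le_pCore hKn h2
        rw [h.core, le_bot_iff] at h3
        have h4 := hAK hb
        rw [h3, mem_bot] at h4
        exact hb1 h4
    refine ⟨k, fun a ha ha1 => ⟨b, hb, b, hb, fun hcomm => ?_⟩⟩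
    refine wit_of_ti hTI Q hk (a := ⟨a, hAK ha⟩) (x := ⟨b, hAK hb⟩) ((hQm _).2 (h.le ha))
      (fun h0 => ha1 (congrArg Subtype.val h0)) ((hQm _).2 (h.le hb)) (fun h0 => hb1 (congrArg Subtype.val h0)) ?_
    exact Subtype.ext hcomm.eq

end MinA

end Cfsg.Agent.OddCyclic.EmpTypes
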