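import Mathlib
import Cfsg.Agent.OddCyclic.EmpSTB
import Cfsg.Agent.OddCyclic.L2Model

/-!
# (Empty), part III, (6.8): modules of `SL₂(F)` with vectors fixed by a Borel subgroup of `SL₂(F_σ)`

`Bz τ σ V₀` : `V₀` is centralised by the upper triangular matrices with entries in the fixed field `F_σ` of `σ`, and
`V₀ ∩ C_V(SL₂(F_σ)) = 1`. Then `|V₀| ^ |F_σ| ≤ |V : C_V(u)|²` for the involutions `u`, and
`|V₀| ^ (|F_σ| - 1) ≤ |V : C_V(A)|` if `A` contains (a conjugate of) all `up t`, `t ∈ F_σ`.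
-/

set_option autoImplicit false
set_option maxHeartbeats 400000

namespace Cfsg.Agent.OddCyclic.EmpB

open Matrix Cfsg.Agent.OddCyclic.T1Module Cfsg.Agent.OddCyclic.T1Sl2 Cfsg.Agent.OddCyclic.FFBasic

section mat

variable {F : Type*} [Field F] [Fintype F] [CharP F 2]

/-- the matrices with entries fixed by `σ` -/
def XX (σ : F ≃+* F) : Subgroup (SpecialLinearGroup (Fin 2) F) where
  carrier := {x | ∀ i j, σ (x i j) = x i j}
  mul_mem' := by
    intro x y hx hy i j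
    fin_cases i <;> fin_cases j
    · show σ ((x * y) 0 0) = (x * y) 0 0
      rw [mul00, map_add, map_mul, map_mul, hx 0 0, hx 0 1, hy 0 0, hy 1 0]
    · show σ ((x * y) 0 1) = (x * y) 0 1
      rw [mul01, map_add, map_mul, map_mul, hx 0 0, hx 0 1, hy 0 1, hy 1 1]
    · show σ ((x * y) 1 0) = (x * y) 1 0
      rw [mul10, map_add, map_mul, map_mul, hx 1 0, hx 1 1, hy 0 0, hy 1 0]
    · show σ ((x * y) 1 1) = (x * y) 1 1
      rw [mul11, map_add, map_mul, map_mul, hx 1 0, hx 1 1, hy 0 1, hy 1 1]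
  one_mem' := by
    intro i j
    fin_cases i <;> fin_cases j
    · exact map_one σ
    · exact map_zero σ
    · exact map_zero σ
    · exact map_one σ
  inv_mem' := by
    intro x hx i j
    fin_cases i <;> fin_cases j
    · show σ (x⁻¹ 0 0) = x⁻¹ 0 0
      rw [inv00]; exact hx 1 1
    · show σ (x⁻¹ 0 1) = x⁻¹ 0 1
      rw [inv01, map_neg, hx 0 1]
    · show σ (x⁻¹ 1 0) = x⁻¹ 1 0
      rw [inv10, map_neg, hx 1 0]
    · show σ (x⁻¹ 1 1) = x⁻¹ 1 1
      rw [inv11]; exact hx 0 0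

omit [Fintype F] [CharP F 2] in
theorem mem_XX {σ : F ≃+* F} {x : SpecialLinearGroup (Fin 2) F} : x ∈ XX σ ↔ ∀ i j, σ (x i j) = x i j := Iff.rfl

/-- the upper triangular matrices with entries fixed by `σ` -/
def BB (σ : F ≃+* F) : Subgroup (SpecialLinearGroup (Fin 2) F) where
  carrier := {x | x ∈ XX σ ∧ x 1 0 = 0}
  mul_mem' := by
    rintro x y ⟨hx, hx'⟩ ⟨hy, hy'⟩
    exact ⟨(XX σ).mul_mem hx hy, by rw [mul10, hx', hy']; ring⟩
  one_mem' := ⟨(XX σ).one_mem, one10⟩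
  inv_mem' := by
    rintro x ⟨hx, hx'⟩
    exact ⟨(XX σ).inv_mem hx, by rw [inv10, hx', neg_zero]⟩

omit [Fintype F] [CharP F 2] in
theorem mem_BB {σ : F ≃+* F} {x : SpecialLinearGroup (Fin 2) F} : x ∈ BB σ ↔ x ∈ XX σ ∧ x 1 0 = 0 := Iff.rfl

omit [Fintype F] [CharP F 2] in
theorem up_mem_XX {σ : F ≃+* F} {t : F} : up t ∈ XX σ ↔ σ t = t := by
  constructor
  · intro h
    exact h 0 1
  · intro h i j
    fin_cases i <;> fin_cases j
    · exact map_one σ
    · exact h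
    · exact map_zero σ
    · exact map_one σ

omit [Fintype F] in
theorem ww_mem_XX {σ : F ≃+* F} : ww F ∈ XX σ := by
  intro i j
  fin_cases i <;> fin_cases j
  · exact map_zero σ
  · exact map_one σ
  · exact map_one σ
  · exact map_zero σ

omit [CharP F 2] in
theorem card_fixed (σ : F ≃+* F) : Nat.card (UI F ⊓ XX σ : Subgroup (SpecialLinearGroup (Fin 2) F)) =
    Nat.card {t : F // σ t = t} := by
  refine Nat.card_congr (Equiv.ofBijective (fun x => ⟨(x : SpecialLinearGroup (Fin 2) F) 0 1, x.2.2 0 1⟩) ⟨?_, ?_⟩)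
  · rintro ⟨x, hx, hx'⟩ ⟨y, hy, hy'⟩ h
    have h1 : x 0 1 = y 0 1 := congrArg Subtype.val h
    refine Subtype.ext ?_
    show x = y
    rw [eq_up hx, eq_up hy, h1]
  · rintro ⟨t, ht⟩
    exact ⟨⟨up t, up_mem t, up_mem_XX.mpr ht⟩, Subtype.ext rfl⟩

variable {V : Type*} [CommGroup V] [Finite V]

structure Bz (τ : SpecialLinearGroup (Fin 2) F →* MulAut V) (σ : F ≃+* F) (V₀ : Subgroup V) : Prop where
  sq : ∀ v : V, v * v = 1
  bor : V₀ ≤ CS τ (BB σ)
  int : V₀ ⊓ CS τ (XX σ) = ⊥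

variable {τ : SpecialLinearGroup (Fin 2) F →* MulAut V} {σ : F ≃+* F} {V₀ : Subgroup V}

omit [Fintype F] in
theorem cov {x : SpecialLinearGroup (Fin 2) F} (hx : x ∈ XX σ) :
    x ∈ BB σ ∨ ∃ u ∈ UI F ⊓ XX σ, (u * ww F)⁻¹ * x ∈ BB σ := by
  by_cases hc : x 1 0 = 0
  · exact Or.inl ⟨hx, hc⟩
  · right
    have ht : σ (x 0 0 / x 1 0) = x 0 0 / x 1 0 := by rw [map_div₀, hx, hx]
    refine ⟨up (x 0 0 / x 1 0), ⟨up_mem _, up_mem_XX.mpr ht⟩,
      (XX σ).mul_mem ((XX σ).inv_mem ((XX σ).mul_mem (up_mem_XX.mpr ht) ww_mem_XX)) hx, ?_⟩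
    rw [mul10, inv10, inv11, mul10, mul00]
    simp only [up00, up01, up10, up11, ww00, ww10]
    field_simp
    ring

omit [Fintype F] in
theorem uw_not {u : SpecialLinearGroup (Fin 2) F} (hu : u ∈ UI F ⊓ XX σ) : u * ww F ∉ BB σ := by
  rintro ⟨-, h2⟩
  have hu' : u 1 0 = 0 := hu.1.2
  have hd := T1Sl2.det u
  rw [mul10] at h2
  simp only [ww00, ww10, mul_zero, mul_one, zero_add] at h2
  rw [h2, hu'] at hd
  simp at hd

omit [Fintype F] in
theorem uw_inj {u : SpecialLinearGroup (Fin 2) F} (hu : u ∈ UI F ⊓ XX σ) (h : (ww F)⁻¹ * u * ww F ∈ BB σ) :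
    u = 1 := by
  have h2 := h.2
  obtain ⟨t, rfl⟩ : ∃ t, u = up t := ⟨_, eq_up hu.1⟩
  rw [mul10, mul10, mul11, inv10, inv11] at h2
  simp only [ww00, ww10, up00, up10, up01, up11, mul_zero, mul_one, zero_add, add_zero, zero_mul] at h2
  have : t = 0 := by linear_combination -h2
  rw [this, up_zero]

theorem Bz.exists_mod (h : Bz τ σ V₀) : ∃ M : Subgroup V,
    Nat.card M = Nat.card V₀ ^ Nat.card {t : F // σ t = t} ∧
      ∀ J ≤ UI F ⊓ XX σ, Nat.card (M ⊓ CS τ J : Subgroup V) = Nat.card V₀ ^ J.relIndex (UI F ⊓ XX σ) := by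
  obtain ⟨M, -, -, h2, h3⟩ := EmpSTB.stb τ h.sq (X := XX σ) (B := BB σ) (U := UI F ⊓ XX σ) (w := ww F) inf_le_right
    ww_mem_XX ((isPGroup_UI F).to_le inf_le_left) (fun x hx => cov hx) (fun u hu => uw_not hu)
    (fun u hu h => uw_inj hu h) h.bor h.int
  exact ⟨M, by rw [h2, card_fixed], h3⟩

theorem CS_zpowers {H : Type*} [Group H] (ρ : H →* MulAut V) (a : H) : CS ρ (Subgroup.zpowers a) = fx ρ a := by
  ext v
  constructor
  · intro hv
    exact hv _ (Subgroup.mem_zpowers _)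
  · intro hv x hx
    obtain ⟨n, rfl⟩ := Subgroup.mem_zpowers_iff.mp hx
    cases n with
    | ofNat n =>
      show ρ (a ^ ((n : ℕ) : ℤ)) v = v
      rw [zpow_natCast]
      exact fx_pow ρ hv n
    | negSucc n =>
      show ρ (a ^ (Int.negSucc n)) v = v
      rw [zpow_negSucc]
      exact fx_inv ρ (fx_pow ρ hv (n + 1))

omit [Fintype F] in
theorem up_conj {s : F} (hs0 : s ≠ 0) (t : F) :
    dg (Units.mk0 s hs0) * up t * (dg (Units.mk0 s hs0))⁻¹ = up (s * s * t) := by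
  apply ext2
  · simp only [mul00, mul01, inv00, inv10, up00, up01, up10, up11, dg00, dg01, dg10, dg11,
      Units.val_mk0, Units.val_inv_eq_inv_val]
    field_simp
    ring
  · simp only [mul00, mul01, inv01, inv11, up00, up01, up10, up11, dg00, dg01, dg10, dg11,
      Units.val_mk0, Units.val_inv_eq_inv_val]
    ring
  · simp only [mul10, mul11, inv00, inv10, up00, up01, up10, up11, dg00, dg01, dg10, dg11,
      Units.val_mk0, Units.val_inv_eq_inv_val]
    ring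
  · simp only [mul10, mul11, inv01, inv11, up00, up01, up10, up11, dg00, dg01, dg10, dg11,
      Units.val_mk0, Units.val_inv_eq_inv_val]
    field_simp
    ring

/-- `|V₀| ^ |F_σ| ≤ |V : C_V(u)|²` -/
theorem Bz.index_sq (h : Bz τ σ V₀) {u : SpecialLinearGroup (Fin 2) F} (hu : u * u = 1) (hu1 : u ≠ 1) :
    Nat.card V₀ ^ Nat.card {t : F // σ t = t} ≤ (fx τ u).index ^ 2 := by
  obtain ⟨g, t, rfl⟩ := exists_conj_up hu
  have ht : t ≠ 0 := by
    rintro rfl
    apply hu1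
    rw [up_zero]; group
  obtain ⟨s, hs⟩ := exists_sqrt t
  have hs0 : s ≠ 0 := by
    rintro rfl
    exact ht (by rw [← hs, mul_zero])
  rw [index_fx_conj, ← hs, show s * s = s * s * 1 by ring, ← up_conj hs0, index_fx_conj]
  have h1 := EmpSTB.stb_index τ h.sq (X := XX σ) (B := BB σ) (U := UI F ⊓ XX σ) (w := ww F) inf_le_right ww_mem_XX
    ((isPGroup_UI F).to_le inf_le_left) (fun x hx => cov hx) (fun u hu => uw_not hu) (fun u hu h => uw_inj hu h)
    h.bor h.int (W := ⊤) le_top (fun _ _ _ _ => Subgroup.mem_top _) (A := Subgroup.zpowers (up 1)) (a := up 1)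
    (Subgroup.mem_zpowers _) ⟨up_mem 1, up_mem_XX.mpr (map_one σ)⟩ ?_
  · rw [card_fixed, Subgroup.relIndex_top_right, CS_zpowers] at h1
    exact h1
  · intro h1
    have := congrArg (fun x : SpecialLinearGroup (Fin 2) F => x 0 1) h1
    rw [one01] at this
    exact one_ne_zero this

/-- `|V₀| ^ (|F_σ| - 1) ≤ |V : C_V(A)|` if `A` contains a conjugate of all `up t`, `t ∈ F_σ` -/
theorem Bz.index_full (h : Bz τ σ V₀) {A : Subgroup (SpecialLinearGroup (Fin 2) F)} {g : SpecialLinearGroup (Fin 2) F}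
    (hA : ∀ t, σ t = t → g * up t * g⁻¹ ∈ A) :
    Nat.card V₀ ^ (Nat.card {t : F // σ t = t} - 1) ≤ (CS τ A).index := by
  obtain ⟨M, h2, h3⟩ := h.exists_mod
  have h4 := h3 _ le_rfl
  rw [Subgroup.relIndex_self, pow_one] at h4
  have h5 : Nat.card (M ⊓ CS τ (UI F ⊓ XX σ) : Subgroup V) * (CS τ (UI F ⊓ XX σ)).relIndex M = Nat.card M := by
    have e := Subgroup.card_mul_index ((CS τ (UI F ⊓ XX σ)).subgroupOf M)
    rw [← e, inf_comm, ← Subgroup.subgroupOf_map_subtype, Subgroup.card_map_of_injective M.subtype_injective]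
    rfl
  have ne : ∀ A W : Subgroup V, A.relIndex W ≠ 0 := fun A W => Subgroup.index_ne_zero_of_finite
  have h6 : (CS τ (UI F ⊓ XX σ)).relIndex M ≤ (CS τ (UI F ⊓ XX σ)).index := by
    rw [← Subgroup.relIndex_top_right]
    exact Subgroup.relIndex_le_of_le_right le_top (ne _ _)
  have h7 : CS τ A ≤ (CS τ (UI F ⊓ XX σ)).map (τ g : V ≃* V).toMonoidHom := by
    intro v hv
    refine ⟨τ g⁻¹ v, ?_, ?_⟩
    · rintro x ⟨hx, hx'⟩
      obtain ⟨t, rfl⟩ : ∃ t, x = up t := ⟨_, eq_up hx⟩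
      have h8 : τ (g * up t * g⁻¹) v = v := hv _ (hA t (up_mem_XX.mp hx'))
      rw [← MulAut.mul_apply, ← map_mul]
      conv_rhs => rw [← h8]
      rw [← MulAut.mul_apply, ← map_mul]
      congr 2
      group
    · show τ g (τ g⁻¹ v) = v
      rw [← MulAut.mul_apply, ← map_mul, mul_inv_cancel, map_one]
      rfl
  have h8 : (CS τ (UI F ⊓ XX σ)).index ≤ (CS τ A).index := by
    rw [← index_map τ g]
    exact Nat.le_of_dvd (Nat.pos_of_ne_zero Subgroup.index_ne_zero_of_finite) (Subgroup.index_dvd_of_le h7)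
  refine le_trans ?_ (h6.trans h8)
  have hc : 0 < Nat.card V₀ := Nat.card_pos
  have hq : 0 < Nat.card {t : F // σ t = t} := by
    haveI : Nonempty {t : F // σ t = t} := ⟨⟨1, map_one σ⟩⟩
    exact Nat.card_pos
  obtain ⟨k, hk⟩ := Nat.exists_eq_succ_of_ne_zero hq.ne'
  rw [h4, h2, hk, pow_succ, mul_comm] at h5
  rw [hk]
  have h9 := Nat.eq_of_mul_eq_mul_right hc h5
  show Nat.card V₀ ^ k ≤ _
  rw [h9]

end mat

end Cfsg.Agent.OddCyclic.EmpB
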