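import Mathlib
import Cfsg.Agent.OddCyclic.EmpBMat
import Cfsg.Agent.OddCyclic.FFOuter
import Cfsg.Agent.OddCyclic.L2Borel

/-!
# (Empty), part III, (6.8): the abstract theorem for `K = SL₂(F)`

`Sl ρ K S A V₀ f a a' c` : `K ⊴ H`, `C_H(K) = 1`, `V₀ ≤ C_V(S)`, `V₀ ∩ C_V(K) = 1`, `|V₀| = 2 ^ f`, `A ≤ S` elementary
abelian of order `2 ^ a` with `|V : C_V(A)| ≤ 2 ^ (a' + c)`, `a' ≤ a`, `c ≤ a`, `f ≤ a` if `c ≠ 0`; `f ≥ 3` odd. If `V₀` is
centralised by a Borel subgroup of `K` (`false_one`), or by a Borel subgroup of `C_K(φ)` (`false_two`): contradiction.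
-/

set_option autoImplicit false
set_option maxHeartbeats 400000
set_option linter.unusedSectionVars false

namespace Cfsg.Agent.OddCyclic.EmpB

open Matrix Cfsg.Agent.OddCyclic.T1Module Cfsg.Agent.OddCyclic.T1Sl2 Cfsg.Agent.OddCyclic.FFBasic
  Cfsg.Agent.Lib.AutSL2 Cfsg.Agent.Lib.AutSL2Out Cfsg.Agent.Classification.QDW.TypeHom
open Cfsg.Agent.Lib.SL2Mat (fieldAut)
open Cfsg.Agent.OddCyclic.FFOuter (ac e_ac ac_coe ac_eq_iff)

section coord

variable {F : Type*} [Field F] [Fintype F] [CharP F 2]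

theorem fieldAut_mem_XX {σ : F ≃+* F} {x : SpecialLinearGroup (Fin 2) F} (hx : x ∈ XX σ) : fieldAut σ x = x := by
  apply ext2
  · rw [FFOuter.fieldAut_apply]; exact hx 0 0
  · rw [FFOuter.fieldAut_apply]; exact hx 0 1
  · rw [FFOuter.fieldAut_apply]; exact hx 1 0
  · rw [FFOuter.fieldAut_apply]; exact hx 1 1

theorem mem_XX_of {σ : F ≃+* F} {x : SpecialLinearGroup (Fin 2) F} (hx : fieldAut σ x = x) : x ∈ XX σ := by
  intro i j
  rw [← FFOuter.fieldAut_apply, hx]

/-- an involutory outer automorphism normalising the unipotent group is conjugate to a field automorphism under the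
Borel subgroup -/
theorem exists_coord {α : MulAut (SpecialLinearGroup (Fin 2) F)} (h : α * α = 1) (hn : typ α ≠ 1)
    (hU : ∀ x ∈ UI F, α x ∈ UI F) :
    ∃ c : SpecialLinearGroup (Fin 2) F, c 1 0 = 0 ∧ α = MulAut.conj c * fieldAut (typ α) * (MulAut.conj c)⁻¹ := by
  obtain ⟨s, hs⟩ := L2Model.exists_std h hn
  obtain ⟨σ, hσ⟩ : ∃ σ, σ = typ α := ⟨_, rfl⟩
  rw [← hσ] at hs ⊢
  by_cases hc : s 1 0 = 0
  · exact ⟨s, hc, hs⟩
  obtain ⟨b, hb⟩ : ∃ b, α (up 1) = up b := ⟨_, eq_up (hU _ (up_mem 1))⟩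
  have e1 : fieldAut σ (s⁻¹ * up 1 * s) = s⁻¹ * up b * s := by
    rw [← hb, hs, MulAut.mul_apply, MulAut.mul_apply, ← map_inv, MulAut.conj_apply, MulAut.conj_apply, inv_inv]
    group
  have e2 : ∀ r : F, (s⁻¹ * up r * s) 0 0 = 1 + r * s 1 0 * s 1 1 := by
    intro r
    have hd := T1Sl2.det s
    rw [mul00, mul00, mul01, inv00, inv01]
    simp only [up00, up01, up10, up11]
    linear_combination hd
  have e3 : ∀ r : F, (s⁻¹ * up r * s) 1 0 = - (r * s 1 0 * s 1 0) := by
    intro r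
    rw [mul10, mul10, mul11, inv10, inv11]
    simp only [up00, up01, up10, up11]
    ring
  have e4 : σ (1 + 1 * s 1 0 * s 1 1) = 1 + b * s 1 0 * s 1 1 := by
    rw [← e2, ← e2, ← e1, FFOuter.fieldAut_apply]
  have e5 : σ (- (1 * s 1 0 * s 1 0)) = - (b * s 1 0 * s 1 0) := by
    rw [← e3, ← e3, ← e1, FFOuter.fieldAut_apply]
  have hs' : σ (s 1 0) ≠ 0 := fun h0 => hc ((map_eq_zero σ).mp h0)
  have e6 : σ (s 1 1 / s 1 0) = s 1 1 / s 1 0 := by
    rw [map_add, map_one, map_mul, map_mul, map_one, one_mul] at e4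
    rw [map_neg, map_mul, map_mul, map_one, one_mul] at e5
    have e7 : σ (s 1 0) * σ (s 1 1) = b * s 1 0 * s 1 1 := by linear_combination e4
    have e8 : σ (s 1 0) * σ (s 1 0) = b * s 1 0 * s 1 0 := by linear_combination -e5
    have e9 : σ (s 1 0) * (σ (s 1 1) * s 1 0 - s 1 1 * σ (s 1 0)) = 0 := by
      linear_combination s 1 0 * e7 - s 1 1 * e8
    have e10 := (mul_eq_zero.mp e9).resolve_left hs'
    rw [map_div₀, div_eq_div_iff hs' hc]
    linear_combination e10
  refine ⟨s * (up (s 1 1 / s 1 0) * ww F), ?_, ?_⟩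
  · rw [mul10, mul00, mul10]
    simp only [up00, up01, up10, up11, ww00, ww10]
    have h2 : (2 : F) = 0 := CharTwo.two_eq_zero
    field_simp
    linear_combination s 1 1 * h2
  · have hk : up (s 1 1 / s 1 0) * ww F ∈ XX σ := (XX σ).mul_mem (up_mem_XX.mpr e6) ww_mem_XX
    have hk' := fieldAut_mem_XX hk
    rw [hs]
    have h3 := L2Model.fieldAut_mul_conj σ (up (s 1 1 / s 1 0) * ww F)
    rw [hk'] at h3
    rw [map_mul, _root_.mul_inv_rev]
    calc MulAut.conj s * fieldAut σ * (MulAut.conj s)⁻¹ =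
        MulAut.conj s * (fieldAut σ * MulAut.conj (up (s 1 1 / s 1 0) * ww F)) *
          (MulAut.conj (up (s 1 1 / s 1 0) * ww F))⁻¹ * (MulAut.conj s)⁻¹ := by group
      _ = _ := by rw [h3]; group

end coord

variable {H : Type*} [Group H] [Finite H] {V : Type*} [CommGroup V] [Finite V] {ρ : H →* MulAut V}
  {K S A : Subgroup H} [K.Normal] {V₀ : Subgroup V} {f a a' c : ℕ}

structure Sl (ρ : H →* MulAut V) (K S A : Subgroup H) (V₀ : Subgroup V) (f a a' c : ℕ) : Prop where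
  sq : ∀ v : V, v * v = 1
  cK : Subgroup.centralizer (K : Set H) = ⊥
  fixS : V₀ ≤ CS ρ S
  int : V₀ ⊓ CS ρ K = ⊥
  card : Nat.card V₀ = 2 ^ f
  A_le : A ≤ S
  A_sq : ∀ x ∈ A, x * x = 1
  card_A : Nat.card A = 2 ^ a
  idx : (CS ρ A).index ≤ 2 ^ (a' + c)
  a_pos : 1 ≤ a
  a'_le : a' ≤ a
  c_le : c ≤ a
  c_imp : c ≠ 0 → f ≤ a
  f3 : 3 ≤ f
  fodd : Odd f
  seven : 7 ∣ Nat.card K → f ≠ 3

section

variable {F : Type*} [Field F] [Fintype F] [CharP F 2] (e : SpecialLinearGroup (Fin 2) F ≃* K)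

/-- `V` as a module of `SL₂(F)` -/
def tau (ρ : H →* MulAut V) (e : SpecialLinearGroup (Fin 2) F ≃* K) : SpecialLinearGroup (Fin 2) F →* MulAut V :=
  ρ.comp (K.subtype.comp e.toMonoidHom)

theorem tau_apply (x : SpecialLinearGroup (Fin 2) F) : tau ρ e x = ρ (e x : H) := rfl

theorem fx_tau (x : SpecialLinearGroup (Fin 2) F) : fx (tau ρ e) x = fx ρ (e x : H) := rfl

theorem Sl.mem_K (h : Sl ρ K S A V₀ f a a' c) {x : H} (hx : typ (ac e x) = 1) : x ∈ K := by
  obtain ⟨s, hs⟩ := (L2Model.inner_iff _).1 hx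
  rw [← ac_coe e s, ac_eq_iff] at hs
  have h1 : (e s : H)⁻¹ * x ∈ Subgroup.centralizer (K : Set H) := by
    rw [Subgroup.mem_centralizer_iff]
    intro l hl
    have h2 := hs l hl
    have h3 : x * l = (e s : H) * l * (e s : H)⁻¹ * x := by rw [← h2]; group
    rw [mul_assoc, h3]; group
  rw [h.cK, Subgroup.mem_bot, inv_mul_eq_one] at h1
  rw [← h1]
  exact (e s).2

theorem ac_UI (hU : ∀ x, (e x : H) ∈ S ↔ x ∈ UI F) {b : H} (hb : b ∈ S) : ∀ x ∈ UI F, ac e b x ∈ UI F := by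
  intro x hx
  rw [← hU] at hx ⊢
  rw [e_ac]
  exact S.mul_mem (S.mul_mem hb hx) (S.inv_mem hb)

theorem Sl.comm (h : Sl ρ K S A V₀ f a a' c) {x y : H} (hx : x ∈ A) (hy : y ∈ A) : x * y = y * x := by
  have h1 := h.A_sq _ (A.mul_mem hx hy)
  have h2 : x⁻¹ = x := inv_eq_of_mul_eq_one_right (h.A_sq x hx)
  have h3 : y⁻¹ = y := inv_eq_of_mul_eq_one_right (h.A_sq y hy)
  calc x * y = (x * y)⁻¹ := (inv_eq_of_mul_eq_one_right h1).symm
    _ = y * x := by rw [_root_.mul_inv_rev, h2, h3]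

/-- the fixed points of an outer involution of `A` on the unipotent group -/
theorem Sl.card_out (h : Sl ρ K S A V₀ f a a' c) (hU : ∀ x, (e x : H) ∈ S ↔ x ∈ UI F) {w : H} (hw : w ∈ A)
    (hwK : w ∉ K) : Nat.card (A ⊓ K : Subgroup H) ^ 2 ≤ Fintype.card F ∧
      (∃ g ∈ S ⊓ K, w * g * w⁻¹ * g⁻¹ ∈ S ⊓ K ∧ w * g * w⁻¹ * g⁻¹ ≠ 1) ∧
      Nat.card A = 2 * Nat.card (A ⊓ K : Subgroup H) := by
  have hwS := h.A_le hw
  have hn : typ (ac e w) ≠ 1 := fun h1 => hwK (h.mem_K e h1)
  obtain ⟨t, s, hα⟩ := L2Borel.exists_form_UI (ac_UI e hU hwS)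
  set σ := typ (ac e w) with hσ
  have hact : ∀ r : F, w * (e (up r) : H) * w⁻¹ = (e (up (s * s * σ r)) : H) := by
    intro r
    rw [← e_ac, hα]
    congr 2
    exact L2Borel.form_tu t s σ r
  have hc := L2Borel.card_fixed_sq_le hn ((s : F) * s)
  have hcF : Nat.card F = Fintype.card F := Nat.card_eq_fintype_card
  refine ⟨?_, ?_, ?_⟩
  · refine le_trans (Nat.pow_le_pow_left ?_ 2) (hc.trans hcF.le)
    have hex : ∀ x : (A ⊓ K : Subgroup H), ∃ r : F, (e (up r) : H) = x := by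
      intro x
      have h1 : e.symm ⟨x, x.2.2⟩ ∈ UI F := by
        rw [← hU, e.apply_symm_apply]
        exact h.A_le x.2.1
      refine ⟨(e.symm ⟨x, x.2.2⟩) 0 1, ?_⟩
      rw [← eq_up h1, e.apply_symm_apply]
    choose r hr using hex
    refine Nat.card_le_card_of_injective
      (fun x => (⟨r x, ?_⟩ : {b : F // (s : F) * s * σ b = b})) ?_
    · have h2 := hact (r x)
      rw [hr, h.comm hw x.2.1, mul_inv_cancel_right, ← hr x] at h2
      exact (L2Borel.tu_inj (e.injective (Subtype.ext h2))).symm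
    · intro x y hxy
      have h3 : r x = r y := congrArg Subtype.val hxy
      refine Subtype.ext ?_
      rw [← hr x, ← hr y, h3]
  · have hex : ∃ r : F, (s : F) * s * σ r ≠ r := by
      by_contra hall
      push Not at hall
      have h1 : Nat.card {b : F // (s : F) * s * σ b = b} = Nat.card F :=
        Nat.card_congr (Equiv.subtypeUnivEquiv hall)
      rw [h1, hcF] at hc
      have h2 : 1 < Fintype.card F := Fintype.one_lt_card
      nlinarith
    obtain ⟨r, hr⟩ := hex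
    have h1 : w * (e (up r) : H) * w⁻¹ * (e (up r) : H)⁻¹ = (e (up ((s : F) * s * σ r + r)) : H) := by
      rw [hact r, ← Subgroup.coe_inv, ← map_inv, L2Borel.tu_inv, ← Subgroup.coe_mul, ← map_mul, up_mul]
    have h2 : ∀ r : F, (e (up r) : H) ∈ S ⊓ K := fun r => ⟨(hU _).mpr (up_mem r), (e _).2⟩
    refine ⟨e (up r), h2 r, ?_, ?_⟩
    · rw [h1]; exact h2 _
    · rw [h1]
      intro h3
      have h4 : up ((s : F) * s * σ r + r) = up 0 := by
        apply e.injective
        apply Subtype.ext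
        rw [h3, up_zero, map_one]; rfl
      exact hr (CharTwo.add_eq_zero.mp (L2Borel.tu_inj h4))
  · have hmul : ∀ {x : H}, x ∈ A → x ∉ K → x * w ∈ K := by
      intro x hx hxK
      have hn' : typ (ac e x) ≠ 1 := fun h1 => hxK (h.mem_K e h1)
      have hsq : ∀ y ∈ A, typ (ac e y) * typ (ac e y) = 1 := by
        intro y hy
        rw [← map_mul, ← map_mul, h.A_sq y hy, map_one, map_one]
      refine h.mem_K e ?_
      rw [map_mul, map_mul, L2Borel.ringAut_invol (hsq x hx) (hsq w hw) hn' hn]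
      exact hsq w hw
    have h1 : K.relIndex A = 2 := by
      rw [Subgroup.relIndex, Subgroup.index_eq_two_iff]
      refine ⟨⟨w, hw⟩, fun b => ?_⟩
      rw [Subgroup.mem_subgroupOf, Subgroup.mem_subgroupOf]
      show Xor ((b : H) * w ∈ K) ((b : H) ∈ K)
      by_cases hb : (b : H) ∈ K
      · refine Or.inr ⟨hb, fun h1 => hwK ?_⟩
        have := mul_mem (inv_mem hb) h1
        rwa [inv_mul_cancel_left] at this
      · exact Or.inl ⟨hmul b.2 hb, hb⟩
    have h2 := Subgroup.card_mul_index (K.subgroupOf A)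
    have h3 : Nat.card (K.subgroupOf A) = Nat.card (A ⊓ K : Subgroup H) := by
      rw [inf_comm, ← Subgroup.subgroupOf_map_subtype, Subgroup.card_map_of_injective A.subtype_injective]
    have h4 : (K.subgroupOf A).index = 2 := h1
    rw [h3, h4] at h2
    rw [← h2, mul_comm]

theorem Sl.card_inf_le (h : Sl ρ K S A V₀ f a a' c) (hU : ∀ x, (e x : H) ∈ S ↔ x ∈ UI F) :
    Nat.card (A ⊓ K : Subgroup H) ≤ Fintype.card F := by
  rw [← card_UI (F := F)]
  refine Nat.card_le_card_of_injective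
    (fun x : (A ⊓ K : Subgroup H) => (⟨e.symm ⟨x, x.2.2⟩, ?_⟩ : UI F)) ?_
  · rw [← hU, e.apply_symm_apply]
    exact h.A_le x.2.1
  · intro x y hxy
    have h1 := e.symm.injective (congrArg Subtype.val hxy)
    exact Subtype.ext (congrArg (Subtype.val : K → H) h1)

/-- the 2-rank: `|A| ≤ q` -/
theorem Sl.card_le (h : Sl ρ K S A V₀ f a a' c) (hU : ∀ x, (e x : H) ∈ S ↔ x ∈ UI F) (h4 : 4 ≤ Fintype.card F) :
    Nat.card A ≤ Fintype.card F := by
  by_cases hA : A ≤ K
  · rw [← inf_eq_left.mpr hA]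
    exact h.card_inf_le e hU
  · obtain ⟨w, hw, hwK⟩ := SetLike.not_le_iff_exists.1 hA
    obtain ⟨h1, -, h3⟩ := h.card_out e hU hw hwK
    rw [h3]
    nlinarith

/-- If `A ∩ K = 1`, there is an involution of `K` with `|V : C_V(u)| ≤ 4`. -/
theorem Sl.exists_u (h : Sl ρ K S A V₀ f a a' c) (hU : ∀ x, (e x : H) ∈ S ↔ x ∈ UI F) (hA : A ⊓ K = ⊥) :
    ∃ u : SpecialLinearGroup (Fin 2) F, u * u = 1 ∧ u ≠ 1 ∧ (fx (tau ρ e) u).index ≤ 4 := by
  have hne : ∃ w ∈ A, w ≠ 1 := by
    by_contra hcon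
    push Not at hcon
    have h1 : A = ⊥ := (Subgroup.eq_bot_iff_forall _).mpr hcon
    have h2 := h.card_A
    rw [h1, Subgroup.card_bot] at h2
    have h3 := Nat.one_lt_two_pow (n := a) (by have := h.a_pos; omega)
    omega
  obtain ⟨w, hw, hw1⟩ := hne
  have hwK : w ∉ K := fun h1 => hw1 (Subgroup.mem_bot.mp (hA ▸ (⟨hw, h1⟩ : w ∈ A ⊓ K)))
  obtain ⟨-, ⟨g, hg, hu, hu1⟩, h3⟩ := h.card_out e hU hw hwK
  rw [hA, Subgroup.card_bot, mul_one, h.card_A] at h3
  have ha : a = 1 := Nat.pow_right_injective (le_refl 2) (by simpa using h3)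
  have hc : c = 0 := by
    by_contra hc
    have := h.c_imp hc
    have := h.f3
    omega
  have hidx : (fx ρ w).index ≤ 2 := by
    have h5 : CS ρ A ≤ fx ρ w := fun v hv => hv w hw
    have h6 := Nat.le_of_dvd (Nat.pos_of_ne_zero Subgroup.index_ne_zero_of_finite) (Subgroup.index_dvd_of_le h5)
    refine h6.trans (h.idx.trans ?_)
    have h7 := h.a'_le
    calc 2 ^ (a' + c) ≤ 2 ^ 1 := Nat.pow_le_pow_right (by norm_num) (by omega)
      _ = 2 := by norm_num
  refine ⟨e.symm ⟨w * g * w⁻¹ * g⁻¹, hu.2⟩, ?_, ?_, ?_⟩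
  · have h8 : e.symm ⟨w * g * w⁻¹ * g⁻¹, hu.2⟩ ∈ UI F := by
      rw [← hU, e.apply_symm_apply]; exact hu.1
    rw [eq_up h8, up_mul, CharTwo.add_self_eq_zero, up_zero]
  · intro h9
    apply hu1
    have h10 := congrArg e h9
    rw [e.apply_symm_apply, map_one] at h10
    exact congrArg Subtype.val h10
  · rw [fx_tau, e.apply_symm_apply]
    show (fx ρ (w * g * w⁻¹ * g⁻¹)).index ≤ 4
    have h11 : fx ρ w ⊓ fx ρ (g * w⁻¹ * g⁻¹) ≤ fx ρ (w * g * w⁻¹ * g⁻¹) := by
      rintro v ⟨h12, h13⟩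
      have h14 := fx_mul ρ h12 h13
      rwa [show w * (g * w⁻¹ * g⁻¹) = w * g * w⁻¹ * g⁻¹ by group] at h14
    have h15 := Nat.le_of_dvd (Nat.pos_of_ne_zero Subgroup.index_ne_zero_of_finite) (Subgroup.index_dvd_of_le h11)
    have h16 : (fx ρ (g * w⁻¹ * g⁻¹)).index ≤ 2 := by
      rw [index_fx_conj]
      have : fx ρ w⁻¹ = fx ρ w := by
        ext v
        exact ⟨fun h => by have := fx_inv ρ h; rwa [inv_inv] at this, fun h => fx_inv ρ h⟩
      rw [this]; exact hidx
    have h17 : (fx ρ w ⊓ fx ρ (g * w⁻¹ * g⁻¹)).index ≤ (fx ρ w).index * (fx ρ (g * w⁻¹ * g⁻¹)).index :=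
      Subgroup.index_inf_le
    nlinarith

theorem le_of_pow_le {n m : ℕ} (h : 2 ^ n ≤ 2 ^ m) : n ≤ m := (Nat.pow_le_pow_iff_right (by norm_num)).mp h

/-- the general numerical conclusion: `f |F_σ| ≤ 4`, or `f |F_σ| ≤ 2 (a' + c)` -/
theorem Sl.num (h : Sl ρ K S A V₀ f a a' c) (hU : ∀ x, (e x : H) ∈ S ↔ x ∈ UI F) {σ : F ≃+* F}
    (hz : Bz (tau ρ e) σ V₀) : f * Nat.card {t : F // σ t = t} ≤ 2 * (a' + c) := by
  have h2 : 2 ≤ Nat.card {t : F // σ t = t} := by
    have : Nontrivial {t : F // σ t = t} := ⟨⟨⟨0, map_zero σ⟩, ⟨1, map_one σ⟩, fun h => zero_ne_one (congrArg Subtype.val h)⟩⟩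
    exact Finite.one_lt_card
  have hf := h.f3
  by_cases hA : A ⊓ K = ⊥
  · exfalso
    obtain ⟨u, hu, hu1, hi⟩ := h.exists_u e hU hA
    have h3 := hz.index_sq hu hu1
    rw [h.card, ← pow_mul] at h3
    have h4 : (fx (tau ρ e) u).index ^ 2 ≤ 2 ^ 4 := by nlinarith
    have h5 := le_of_pow_le (h3.trans h4)
    nlinarith
  · obtain ⟨u, hu, hu1⟩ : ∃ u ∈ A ⊓ K, u ≠ 1 := by
      by_contra hcon
      push Not at hcon
      exact hA ((Subgroup.eq_bot_iff_forall _).mpr hcon)
    have h3 := hz.index_sq (u := e.symm ⟨u, hu.2⟩) (by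
        rw [← map_mul, ← map_one e.symm]
        congr 1
        exact Subtype.ext (h.A_sq u hu.1)) (fun h9 => hu1 (by
        have h10 := congrArg e h9
        rw [e.apply_symm_apply, map_one] at h10
        exact congrArg Subtype.val h10))
    rw [h.card, ← pow_mul, fx_tau, e.apply_symm_apply] at h3
    have h5 : CS ρ A ≤ fx ρ u := fun v hv => hv u hu.1
    have h6 := Nat.le_of_dvd (Nat.pos_of_ne_zero Subgroup.index_ne_zero_of_finite) (Subgroup.index_dvd_of_le h5)
    have h7 : (fx ρ u).index ^ 2 ≤ (2 ^ (a' + c)) ^ 2 := Nat.pow_le_pow_left (h6.trans h.idx) 2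
    rw [← pow_mul] at h7
    have h8 := le_of_pow_le (h3.trans h7)
    omega

theorem odd_dg (s : Fˣ) : Odd (orderOf (dg s)) := by
  classical
  have h1 : orderOf (dg s) ∣ orderOf s := orderOf_map_dvd dgHom s
  have h2 : orderOf s ∣ Nat.card Fˣ := orderOf_dvd_natCard s
  obtain ⟨n, hn, hF⟩ := card_pow F
  have h3 : Nat.card Fˣ = 2 ^ n - 1 := by
    rw [Nat.card_eq_fintype_card, Fintype.card_units, hF]
  have h4 : Odd (2 ^ n - 1) := by
    have h5 : Even (2 ^ n) := (Nat.even_pow' hn.ne').2 even_two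
    have h6 : 0 < 2 ^ n := by positivity
    rcases h5 with ⟨r, hr⟩
    exact ⟨r - 1, by omega⟩
  rw [h3] at h2
  exact h4.of_dvd_nat (h1.trans h2)

theorem dg_conj (s : Fˣ) (t : F) : dg s * up t * (dg s)⁻¹ = up (s * s * t) := L2Borel.td_conj_tu s t

theorem borel_UI {c₀ x : SpecialLinearGroup (Fin 2) F} (hc : c₀ 1 0 = 0) : c₀ * x * c₀⁻¹ ∈ UI F ↔ x ∈ UI F := by
  have key : ∀ {c₀ x : SpecialLinearGroup (Fin 2) F}, c₀ 1 0 = 0 → x ∈ UI F → c₀ * x * c₀⁻¹ ∈ UI F := by
    intro c₀ x hc hx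
    obtain ⟨t, s, rfl⟩ := borel_decomp hc
    rw [eq_up hx]
    have : up t * dg s * up (x 0 1) * (up t * dg s)⁻¹ = up t * (dg s * up (x 0 1) * (dg s)⁻¹) * (up t)⁻¹ := by group
    rw [this, dg_conj]
    exact (UI F).mul_mem ((UI F).mul_mem (up_mem _) (up_mem _)) ((UI F).inv_mem (up_mem _))
  refine ⟨fun h => ?_, key hc⟩
  have h1 := key (c₀ := c₀⁻¹) (by rw [inv10, hc, neg_zero]) h
  rwa [show c₀⁻¹ * (c₀ * x * c₀⁻¹) * c₀⁻¹⁻¹ = x by group] at h1

theorem dg_norm (hU : ∀ x, (e x : H) ∈ S ↔ x ∈ UI F) (s : Fˣ) :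
    (e (dg s) : H) ∈ Subgroup.normalizer ((S ⊓ K : Subgroup H) : Set H) := by
  rw [Subgroup.mem_normalizer_iff]
  intro n
  have hK : (e (dg s) : H) * n * (e (dg s) : H)⁻¹ ∈ K ↔ n ∈ K := by
    constructor
    · intro h1
      have := K.mul_mem (K.mul_mem (K.inv_mem (e (dg s)).2) h1) (e (dg s)).2
      rwa [show (e (dg s) : H)⁻¹ * ((e (dg s) : H) * n * (e (dg s) : H)⁻¹) * (e (dg s) : H) = n by group] at this
    · intro h1
      exact K.mul_mem (K.mul_mem (e (dg s)).2 h1) (K.inv_mem (e (dg s)).2)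
  have hS : ∀ hn : n ∈ K, ((e (dg s) : H) * n * (e (dg s) : H)⁻¹ ∈ S ↔ n ∈ S) := by
    intro hn
    obtain ⟨x, hx⟩ := e.surjective ⟨n, hn⟩
    have h1 : n = e x := (congrArg Subtype.val hx).symm
    have h2 : (e (dg s) : H) * n * (e (dg s) : H)⁻¹ = e (dg s * x * (dg s)⁻¹) := by
      rw [h1, map_mul, map_mul, map_inv]; rfl
    rw [h2, h1, hU, hU]
    exact borel_UI rfl
  constructor
  · rintro ⟨h1, h2⟩
    exact ⟨(hS h2).mpr h1, hK.mpr h2⟩
  · rintro ⟨h1, h2⟩
    exact ⟨(hS (hK.mp h2)).mp h1, hK.mp h2⟩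

theorem Sl.bor (h : Sl ρ K S A V₀ f a a' c) (hU : ∀ x, (e x : H) ∈ S ↔ x ∈ UI F) {σ : F ≃+* F}
    (hB : ∀ s : Fˣ, σ s = s → V₀ ≤ fx ρ (e (dg s) : H)) : V₀ ≤ CS (tau ρ e) (BB σ) := by
  rintro v hv x ⟨hx, hx'⟩
  obtain ⟨t, s, rfl⟩ := borel_decomp hx'
  have h1 : σ s = s := by
    have h2 := hx 0 0
    rw [mul00] at h2
    simpa using h2
  have h3 : v ∈ fx (tau ρ e) (up t) := h.fixS hv _ ((hU _).mpr (up_mem t))
  exact fx_mul (tau ρ e) h3 (hB s h1 hv)

theorem two_mul_le_pow {g : ℕ} (hg : 1 ≤ g) : 2 * g ≤ 2 ^ g := by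
  obtain ⟨k, rfl⟩ := Nat.exists_eq_succ_of_ne_zero (by omega : g ≠ 0)
  rw [pow_succ]
  have := Nat.lt_two_pow_self (n := k)
  simp only [Nat.succ_eq_add_one]
  omega

/-- **(I)**: `V₀` centralised by a Borel subgroup of `K` -/
theorem Sl.false_one (h : Sl ρ K S A V₀ f a a' c) (hU : ∀ x, (e x : H) ∈ S ↔ x ∈ UI F) (h4 : 4 ≤ Fintype.card F)
    (hB : ∀ x ∈ K, Odd (orderOf x) → x ∈ Subgroup.normalizer ((S ⊓ K : Subgroup H) : Set H) → V₀ ≤ fx ρ x) :
    False := by
  have hodd : ∀ s : Fˣ, Odd (orderOf (e (dg s) : H)) := by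
    intro s
    have : orderOf (e (dg s) : H) = orderOf (dg s) := by
      rw [Subgroup.orderOf_coe, MulEquiv.orderOf_eq]
    rw [this]; exact odd_dg s
  have hz : Bz (tau ρ e) (1 : F ≃+* F) V₀ :=
    { sq := h.sq
      bor := h.bor e hU fun s _ => hB _ (e _).2 (hodd s) (dg_norm e hU s)
      int := by
        rw [eq_bot_iff, ← h.int]
        refine inf_le_inf_left _ ?_
        intro v hv x hx
        have h1 := hv (e.symm ⟨x, hx⟩) (fun i j => rfl)
        rw [tau_apply, e.apply_symm_apply] at h1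
        exact h1 }
  have h5 := h.num e hU hz
  have h6 : Nat.card {t : F // (1 : F ≃+* F) t = t} = Fintype.card F := by
    rw [← Nat.card_eq_fintype_card]
    exact Nat.card_congr (Equiv.subtypeUnivEquiv fun _ => rfl)
  obtain ⟨g, hg, hF⟩ := card_pow F
  have h7 := h.card_le e hU h4
  rw [h.card_A, hF] at h7
  have h8 := le_of_pow_le h7
  rw [h6, hF] at h5
  have h9 := two_mul_le_pow hg
  have := h.f3
  have := h.a'_le
  have := h.c_le
  nlinarith

theorem exists_coord' (h : Sl ρ K S A V₀ f a a' c) (hU : ∀ x, (e x : H) ∈ S ↔ x ∈ UI F) {φ : H} (hφ : φ ∈ S)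
    (hφK : φ ∉ K) (hφ2 : φ * φ = 1) : ∃ (e' : SpecialLinearGroup (Fin 2) F ≃* K) (σ : F ≃+* F),
      (∀ x, (e' x : H) ∈ S ↔ x ∈ UI F) ∧ σ ≠ 1 ∧ σ * σ = 1 ∧
      ∀ x, φ * (e' x : H) * φ⁻¹ = (e' (fieldAut σ x) : H) := by
  have h1 : ac e φ * ac e φ = 1 := by rw [← map_mul, hφ2, map_one]
  have h2 : typ (ac e φ) ≠ 1 := fun h3 => hφK (h.mem_K e h3)
  obtain ⟨c₀, hc, hα⟩ := exists_coord h1 h2 (ac_UI e hU hφ)
  have h3 : typ (ac e φ) * typ (ac e φ) = 1 := by rw [← map_mul, h1, map_one]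
  obtain ⟨σ, hσ⟩ : ∃ σ, σ = typ (ac e φ) := ⟨_, rfl⟩
  rw [← hσ] at hα h2 h3
  refine ⟨(MulAut.conj c₀).trans e, σ, ?_, h2, h3, ?_⟩
  · intro x
    show (e (c₀ * x * c₀⁻¹) : H) ∈ S ↔ _
    rw [hU, borel_UI hc]
  · intro x
    show φ * (e (c₀ * x * c₀⁻¹) : H) * φ⁻¹ = (e (c₀ * fieldAut σ x * c₀⁻¹) : H)
    rw [← e_ac]
    congr 2
    rw [hα, MulAut.mul_apply, MulAut.mul_apply, ← map_inv, MulAut.conj_apply, MulAut.conj_apply]
    congr 3
    group

/-- `C_K(φ)` and the unipotent group generate `K` -/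
theorem Sl.int_two (h : Sl ρ K S A V₀ f a a' c) (hU : ∀ x, (e x : H) ∈ S ↔ x ∈ UI F) {φ : H} {σ : F ≃+* F}
    (hφ : ∀ x, φ * (e x : H) * φ⁻¹ = (e (fieldAut σ x) : H))
    (hst : ∀ x ∈ K, orderOf x = 3 → x * φ = φ * x → ∀ v ∈ V₀, v ≠ 1 → ρ x v = v → V₀ ≤ fx ρ x) :
    V₀ ⊓ CS (tau ρ e) (XX σ) = ⊥ := by
  rw [Subgroup.eq_bot_iff_forall]
  rintro v ⟨hv, hv'⟩
  by_contra hv1
  have h2 : (2 : F) = 0 := CharTwo.two_eq_zero
  obtain ⟨x, hx⟩ : ∃ x : SpecialLinearGroup (Fin 2) F, x = T1Sl2.mk 0 1 1 1 (by linear_combination -h2) := ⟨_, rfl⟩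
  have hxX : x ∈ XX σ := by
    rw [hx]
    intro i j
    fin_cases i <;> fin_cases j
    · exact map_zero σ
    · exact map_one σ
    · exact map_one σ
    · exact map_one σ
  have hx3 : orderOf x = 3 := order_three (by rw [hx, mk00, mk11]; ring)
  have hx10 : x 1 0 ≠ 0 := by rw [hx, mk10]; exact one_ne_zero
  have hcomm : (e x : H) * φ = φ * (e x : H) := by
    have h3 := hφ x
    rw [fieldAut_mem_XX hxX] at h3
    exact (mul_inv_eq_iff_eq_mul.mp h3).symm
  have hfx : V₀ ≤ fx ρ (e x : H) := by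
    refine hst _ (e x).2 ?_ hcomm v hv hv1 (hv' x hxX)
    rw [Subgroup.orderOf_coe, MulEquiv.orderOf_eq, hx3]
  let L : Subgroup (SpecialLinearGroup (Fin 2) F) :=
    { carrier := {y | V₀ ≤ fx (tau ρ e) y}
      mul_mem' := fun {y z} hy hz u hu => fx_mul _ (hy hu) (hz hu)
      one_mem' := fun u _ => by rw [fx_one]; trivial
      inv_mem' := fun {y} hy u hu => fx_inv _ (hy hu) }
  have hL : L = ⊤ := by
    refine (le_normalizer_or (SU F) L ?_).resolve_left ?_
    · intro y hy u hu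
      exact h.fixS hu _ ((hU y).mpr hy)
    · intro hle
      have h4 : x ∈ Subgroup.normalizer (((SU F : Sylow 2 (SpecialLinearGroup (Fin 2) F)) :
        Subgroup (SpecialLinearGroup (Fin 2) F)) : Set (SpecialLinearGroup (Fin 2) F)) := hle hfx
      rw [mem_norm, smul_SU_eq] at h4
      exact hx10 h4
  have h5 : v ∈ V₀ ⊓ CS ρ K := by
    refine ⟨hv, fun y hy => ?_⟩
    have h6 : e.symm ⟨y, hy⟩ ∈ L := by rw [hL]; trivial
    have h7 := h6 hv
    rw [fx_tau, e.apply_symm_apply] at h7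
    exact h7
  rw [h.int] at h5
  exact hv1 (Subgroup.mem_bot.mp h5)

omit [Finite H] [Finite V] in
theorem exists_line {T : Set F} (hT : ∀ x ∈ T, ∀ y ∈ T, x + y ∈ T) (hc : Nat.card F < Nat.card T ^ 2) (ω : F) :
    ∃ x ∈ T, x ≠ 0 ∧ ω * x ∈ T := by
  classical
  have hninj : ¬ Function.Injective (fun p : T × T => (p.1 : F) + ω * p.2) := by
    intro hinj
    have h1 := Nat.card_le_card_of_injective _ hinj
    rw [Nat.card_prod, ← sq] at h1
    omega
  rw [Function.Injective] at hninj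
  push Not at hninj
  obtain ⟨⟨p, r⟩, ⟨p', r'⟩, h1, h2⟩ := hninj
  simp only at h1
  have e2 : (2 : F) = 0 := CharTwo.two_eq_zero
  have h3 : ω * ((r : F) + r') = (p : F) + p' := by linear_combination h1 + (ω * r' - p) * e2
  refine ⟨(r : F) + r', hT _ r.2 _ r'.2, ?_, ?_⟩
  · intro h4
    apply h2
    rw [h4, mul_zero] at h3
    exact Prod.ext (Subtype.ext (CharTwo.add_eq_zero.mp h3.symm)) (Subtype.ext (CharTwo.add_eq_zero.mp h4))
  · rw [h3]
    exact hT _ p.2 _ p'.2

/-- **(II)**: `V₀` centralised by a Borel subgroup of `C_K(φ)` -/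
theorem Sl.false_two (h : Sl ρ K S A V₀ f a a' c) (hU₀ : ∀ x, (e x : H) ∈ S ↔ x ∈ UI F) (h4 : 4 ≤ Fintype.card F)
    {φ : H} (hφS : φ ∈ S) (hφK : φ ∉ K) (hφ2 : φ * φ = 1)
    (hB : ∀ x ∈ K, Odd (orderOf x) → x * φ = φ * x → x ∈ Subgroup.normalizer ((S ⊓ K : Subgroup H) : Set H) →
      V₀ ≤ fx ρ x)
    (hst : ∀ x ∈ K, orderOf x = 3 → x * φ = φ * x → ∀ v ∈ V₀, v ≠ 1 → ρ x v = v → V₀ ≤ fx ρ x) :
    False := by
  obtain ⟨e', σ, hU, hσ1, hσ2, hφ⟩ := exists_coord' e h hU₀ hφS hφK hφ2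
  have hodd : ∀ s : Fˣ, Odd (orderOf (e' (dg s) : H)) := by
    intro s
    have : orderOf (e' (dg s) : H) = orderOf (dg s) := by
      rw [Subgroup.orderOf_coe, MulEquiv.orderOf_eq]
    rw [this]; exact odd_dg s
  have hz : Bz (tau ρ e') σ V₀ :=
    { sq := h.sq
      bor := by
        refine h.bor e' hU fun s hs => hB _ (e' _).2 (hodd s) ?_ (dg_norm e' hU s)
        have h3 := hφ (dg s)
        rw [fieldAut_mem_XX (σ := σ)] at h3
        · exact (mul_inv_eq_iff_eq_mul.mp h3).symm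
        · intro i j
          fin_cases i <;> fin_cases j
          · exact hs
          · exact map_zero σ
          · exact map_zero σ
          · show σ ((s⁻¹ : Fˣ) : F) = ((s⁻¹ : Fˣ) : F)
            rw [Units.val_inv_eq_inv_val, map_inv₀, hs]
      int := h.int_two e' hU hφ hst }
  have h5 := h.num e' hU hz
  obtain ⟨K₁, hK₁, hcK⟩ := exists_fixed_card hσ2 hσ1
  have hcF : Nat.card F = Fintype.card F := Nat.card_eq_fintype_card
  have h6 : Nat.card {t : F // σ t = t} = Nat.card K₁ :=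
    Nat.card_congr (Equiv.subtypeEquivRight fun t => (hK₁ t).symm)
  obtain ⟨g, hg⟩ : ∃ g, Nat.card K₁ = 2 ^ g := by
    obtain ⟨n, hn, hF⟩ := card_pow F
    rw [hcF, hF] at hcK
    have h7 : Nat.card K₁ ∣ 2 ^ n := ⟨Nat.card K₁, by rw [hcK, pow_two]⟩
    obtain ⟨g, -, hg⟩ := (Nat.dvd_prime_pow Nat.prime_two).mp h7
    exact ⟨g, hg⟩
  rw [hg] at hcK h6
  have hF : Fintype.card F = 2 ^ (2 * g) := by rw [← hcF, hcK, ← pow_mul, mul_comm]
  have hg1 : 1 ≤ g := by
    rcases Nat.eq_zero_or_pos g with h0 | h0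
    · rw [h0] at hF
      simp at hF
      omega
    · exact h0
  have h7 := h.card_le e' hU h4
  rw [h.card_A, hF] at h7
  have h8 := le_of_pow_le h7
  rw [h6] at h5
  have h9 := two_mul_le_pow hg1
  have hf := h.f3
  have ha' := h.a'_le
  have hc := h.c_le
  by_cases hc0 : c = 0
  · subst hc0
    nlinarith
  have hfa := h.c_imp hc0
  have h10 : 3 * 2 ^ g ≤ 8 * g := by nlinarith
  have hg3 : g ≤ 3 := by
    by_contra hcon
    have h11 : 4 * g ≤ 2 ^ g := by
      obtain ⟨k, rfl⟩ : ∃ k, g = k + 2 := ⟨g - 2, by omega⟩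
      have h12 : k + 1 ≤ 2 ^ k := Nat.lt_two_pow_self
      have h13 : 4 * (k + 2) ≤ 4 * 2 ^ k := by
        obtain ⟨m, rfl⟩ : ∃ m, k = m + 2 := ⟨k - 2, by omega⟩
        have h14 : m + 1 ≤ 2 ^ m := Nat.lt_two_pow_self
        rw [pow_add]
        omega
      rw [pow_add]
      omega
    omega
  have hodd := h.fodd
  interval_cases g
  · omega
  · -- `q = 16`, `f = 3`
    norm_num at h5 hF h6
    have hf3 : f = 3 := by
      obtain ⟨r, hr⟩ := hodd
      omega
    subst hf3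
    have h11 : 4 ≤ Nat.card (A ⊓ K : Subgroup H) := by
      by_cases hA : A ≤ K
      · rw [inf_eq_left.mpr hA, h.card_A]
        calc 4 = 2 ^ 2 := by norm_num
          _ ≤ 2 ^ a := Nat.pow_le_pow_right (by norm_num) (by omega)
      · obtain ⟨w, hw, hwK⟩ := SetLike.not_le_iff_exists.1 hA
        obtain ⟨-, -, h12⟩ := h.card_out e' hU hw hwK
        rw [h.card_A] at h12
        have h13 : 2 ^ 3 ≤ 2 ^ a := Nat.pow_le_pow_right (by norm_num) (by omega)
        omega
    obtain ⟨g₀, hg₀⟩ : ∃ g₀ : SpecialLinearGroup (Fin 2) F, ∀ t, σ t = t →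
        g₀ * up t * g₀⁻¹ ∈ A.comap (K.subtype.comp e'.toMonoidHom) := by
      by_cases hA : A ≤ K
      · -- `A ≤ K`
        let T : Set F := {t | (e' (up t) : H) ∈ A}
        have hT : ∀ x ∈ T, ∀ y ∈ T, x + y ∈ T := by
          intro x hx y hy
          have h12 := A.mul_mem (show (e' (up x) : H) ∈ A from hx) (show (e' (up y) : H) ∈ A from hy)
          rwa [← Subgroup.coe_mul, ← map_mul, up_mul] at h12
        have hTA : Nat.card T = Nat.card A := by
          refine Nat.card_congr (Equiv.ofBijective (fun t : T => (⟨(e' (up (t : F)) : H), t.2⟩ : A)) ⟨?_, ?_⟩)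
          · intro x y hxy
            have h12 : (e' (up (x : F)) : H) = (e' (up (y : F)) : H) := congrArg (Subtype.val : A → H) hxy
            exact Subtype.ext (L2Borel.tu_inj (e'.injective (Subtype.ext h12)))
          · rintro ⟨x, hx⟩
            have h12 : e'.symm ⟨x, hA hx⟩ ∈ UI F := by
              rw [← hU, e'.apply_symm_apply]; exact h.A_le hx
            have h13 : (e' (up ((e'.symm ⟨x, hA hx⟩) 0 1)) : H) = x := by
              rw [← eq_up h12, e'.apply_symm_apply]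
            exact ⟨⟨(e'.symm ⟨x, hA hx⟩) 0 1, by show (e' (up _) : H) ∈ A; rw [h13]; exact hx⟩, Subtype.ext h13⟩
        have hTc : Nat.card F < Nat.card T ^ 2 := by
          rw [hTA, h.card_A, hcF, hF]
          have h13 : 2 ^ 3 ≤ 2 ^ a := Nat.pow_le_pow_right (by norm_num) (by omega)
          nlinarith
        obtain ⟨ω, hω, hω0, hω1⟩ : ∃ ω, σ ω = ω ∧ ω ≠ 0 ∧ ω ≠ 1 := by
          by_contra hcon
          push Not at hcon
          have h13 : Nat.card {t : F // σ t = t} ≤ Nat.card (Bool) := by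
            refine Nat.card_le_card_of_injective
              (fun t : {t : F // σ t = t} => @decide ((t : F) = 0) (Classical.dec _)) ?_
            intro x y hxy
            simp only [decide_eq_decide] at hxy
            refine Subtype.ext ?_
            by_cases hx : (x : F) = 0
            · rw [hx, hxy.mp hx]
            · have hy : (y : F) ≠ 0 := fun h => hx (hxy.mpr h)
              rw [hcon x x.2 hx, hcon y y.2 hy]
          rw [h6] at h13
          simp at h13
        obtain ⟨x, hx, hx0, hωx⟩ := exists_line hT hTc ω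
        have hfour : ∀ t, σ t = t → t = 0 ∨ t = 1 ∨ t = ω ∨ t = 1 + ω := by
          classical
          have := Fintype.ofFinite {t : F // σ t = t}
          let z0 : {t : F // σ t = t} := ⟨0, map_zero σ⟩
          let z1 : {t : F // σ t = t} := ⟨1, map_one σ⟩
          let z2 : {t : F // σ t = t} := ⟨ω, hω⟩
          let z3 : {t : F // σ t = t} := ⟨1 + ω, by rw [map_add, map_one, hω]⟩
          have hcard : ({z0, z1, z2, z3} : Finset {t : F // σ t = t}).card = 4 := by
            have e2 : (2 : F) = 0 := CharTwo.two_eq_zero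
            rw [Finset.card_insert_of_notMem, Finset.card_insert_of_notMem, Finset.card_insert_of_notMem,
              Finset.card_singleton]
            · rw [Finset.mem_singleton]
              intro h13
              have h14 : ω = 1 + ω := congrArg Subtype.val h13
              have h15 : (1 : F) = 0 := by linear_combination -h14
              exact one_ne_zero h15
            · rw [Finset.mem_insert, Finset.mem_singleton]
              rintro (h13 | h13)
              · exact hω1 (congrArg Subtype.val h13).symm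
              · have h14 : (1 : F) = 1 + ω := congrArg Subtype.val h13
                exact hω0 (by linear_combination -h14)
            · rw [Finset.mem_insert, Finset.mem_insert, Finset.mem_singleton]
              rintro (h13 | h13 | h13)
              · exact zero_ne_one (congrArg Subtype.val h13 : (0 : F) = 1)
              · exact hω0 (congrArg Subtype.val h13 : (0 : F) = ω).symm
              · have h14 : (0 : F) = 1 + ω := congrArg Subtype.val h13
                exact hω1 (by linear_combination h14 + ω * e2 - e2 + e2)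
          have huniv : ({z0, z1, z2, z3} : Finset {t : F // σ t = t}) = Finset.univ := by
            apply Finset.eq_univ_of_card
            rw [hcard, ← Nat.card_eq_fintype_card, h6]
          intro t ht
          have h13 : (⟨t, ht⟩ : {t : F // σ t = t}) ∈ ({z0, z1, z2, z3} : Finset {t : F // σ t = t}) := by
            rw [huniv]; exact Finset.mem_univ _
          rw [Finset.mem_insert, Finset.mem_insert, Finset.mem_insert, Finset.mem_singleton] at h13
          rcases h13 with h13 | h13 | h13 | h13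
          · exact Or.inl (congrArg Subtype.val h13)
          · exact Or.inr (Or.inl (congrArg Subtype.val h13))
          · exact Or.inr (Or.inr (Or.inl (congrArg Subtype.val h13)))
          · exact Or.inr (Or.inr (Or.inr (congrArg Subtype.val h13)))
        obtain ⟨s, hs⟩ := T1Sl2.exists_sqrt x
        have hs0 : s ≠ 0 := by
          rintro rfl
          exact hx0 (by rw [← hs, mul_zero])
        refine ⟨dg (Units.mk0 s hs0), fun t ht => ?_⟩
        rw [up_conj hs0, hs]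
        show x * t ∈ T
        rcases hfour t ht with rfl | rfl | rfl | rfl
        · rw [mul_zero]
          show (e' (up 0) : H) ∈ A
          rw [up_zero, map_one]; exact A.one_mem
        · rw [mul_one]; exact hx
        · rw [mul_comm]; exact hωx
        · rw [mul_add, mul_one, mul_comm x ω]
          exact hT _ hx _ hωx
      · -- outer
        obtain ⟨ψ, hψ, hψK⟩ := SetLike.not_le_iff_exists.1 hA
        have hψS := h.A_le hψ
        have hu : ψ * φ⁻¹ ∈ K := by
          refine h.mem_K e' ?_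
          have n1 : typ (ac e' ψ) ≠ 1 := fun h1 => hψK (h.mem_K e' h1)
          have n2 : typ (ac e' φ) ≠ 1 := fun h1 => hφK (h.mem_K e' h1)
          have s1 : typ (ac e' ψ) * typ (ac e' ψ) = 1 := by
            rw [← map_mul, ← map_mul, h.A_sq ψ hψ, map_one, map_one]
          have s2 : typ (ac e' φ) * typ (ac e' φ) = 1 := by
            rw [← map_mul, ← map_mul, hφ2, map_one, map_one]
          rw [map_mul, map_mul, map_inv, map_inv, L2Borel.ringAut_invol s1 s2 n1 n2, mul_inv_cancel]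
        have huS : ψ * φ⁻¹ ∈ S := S.mul_mem hψS (S.inv_mem hφS)
        obtain ⟨r, hr⟩ : ∃ r : F, (e' (up r) : H) = ψ * φ⁻¹ := by
          have h12 : e'.symm ⟨_, hu⟩ ∈ UI F := by
            rw [← hU, e'.apply_symm_apply]; exact huS
          exact ⟨(e'.symm ⟨_, hu⟩) 0 1, by rw [← eq_up h12, e'.apply_symm_apply]⟩
        have hex : ∀ x : (A ⊓ K : Subgroup H), ∃ t : F, (e' (up t) : H) = x := by
          intro x
          have h1 : e'.symm ⟨x, x.2.2⟩ ∈ UI F := by
            rw [← hU, e'.apply_symm_apply]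
            exact h.A_le x.2.1
          exact ⟨(e'.symm ⟨x, x.2.2⟩) 0 1, by rw [← eq_up h1, e'.apply_symm_apply]⟩
        choose τ hτ using hex
        have hfix : ∀ x : (A ⊓ K : Subgroup H), σ (τ x) = τ x := by
          intro x
          have h12 : ψ * (x : H) * ψ⁻¹ = x := by rw [h.comm hψ x.2.1, mul_inv_cancel_right]
          have h13 : φ * (x : H) * φ⁻¹ = x := by
            have h14 : ψ = (e' (up r) : H) * φ := by rw [hr]; group
            have h15 : (e' (up r) : H) * (φ * (x : H) * φ⁻¹) * (e' (up r) : H)⁻¹ = x := by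
              calc _ = ((e' (up r) : H) * φ) * (x : H) * ((e' (up r) : H) * φ)⁻¹ := by group
                _ = ψ * (x : H) * ψ⁻¹ := by rw [← h14]
                _ = x := h12
            have h16 : φ * (x : H) * φ⁻¹ = (e' (up r) : H)⁻¹ * x * (e' (up r) : H) := by
              calc φ * (x : H) * φ⁻¹ = (e' (up r) : H)⁻¹ * ((e' (up r) : H) * (φ * (x : H) * φ⁻¹) *
                    (e' (up r) : H)⁻¹) * (e' (up r) : H) := by group
                _ = _ := by rw [h15]
            rw [h16, ← hτ x, mul_assoc, ← Subgroup.coe_mul, ← map_mul, L2Borel.tu_comm, map_mul,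
              Subgroup.coe_mul, inv_mul_cancel_left]
          rw [← hτ x, hφ, FFOuter.fieldAut_up'] at h13
          exact L2Borel.tu_inj (e'.injective (Subtype.ext h13))
        have hbij : Function.Bijective (fun x : (A ⊓ K : Subgroup H) => (⟨τ x, hfix x⟩ : {t : F // σ t = t})) := by
          have hinj : Function.Injective (fun x : (A ⊓ K : Subgroup H) => (⟨τ x, hfix x⟩ : {t : F // σ t = t})) := by
            intro x y hxy
            have h12 : τ x = τ y := congrArg Subtype.val hxy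
            refine Subtype.ext ?_
            rw [← hτ x, ← hτ y, h12]
          refine (Nat.bijective_iff_injective_and_card _).mpr ⟨hinj, le_antisymm (Nat.card_le_card_of_injective _ hinj) ?_⟩
          rw [h6]; exact h11
        refine ⟨1, fun t ht => ?_⟩
        obtain ⟨x, hx⟩ := hbij.2 ⟨t, ht⟩
        have h12 : τ x = t := congrArg Subtype.val hx
        rw [one_mul, inv_one, mul_one]
        show (e' (up t) : H) ∈ A
        rw [← h12, hτ]
        exact x.2.1
    have h12 := hz.index_full hg₀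
    rw [h6, h.card] at h12
    have h13 : CS ρ A ≤ CS (tau ρ e') (A.comap (K.subtype.comp e'.toMonoidHom)) := fun v hv x hx => hv _ hx
    have h14 := Nat.le_of_dvd (Nat.pos_of_ne_zero Subgroup.index_ne_zero_of_finite) (Subgroup.index_dvd_of_le h13)
    have h15 : 2 ^ (a' + c) ≤ 2 ^ 8 := Nat.pow_le_pow_right (by norm_num) (by omega)
    have h16 := h12.trans (h14.trans (h.idx.trans h15))
    norm_num at h16
  · norm_num at h5 hF
    have hf3 : f = 3 := by
      obtain ⟨r, hr⟩ := hodd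
      omega
    refine h.seven ?_ hf3
    rw [← Nat.card_congr e'.toEquiv, card_sl2', hF]
    norm_num

end

end Cfsg.Agent.OddCyclic.EmpB
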