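import Mathlib
import Cfsg.Agent.OddCyclic.EmpBDefs
import Cfsg.Agent.OddCyclic.Emp3.Sec
import Cfsg.Agent.OddCyclic.EmpBSl

/-!
# (Empty), part III, section 6: the group induced by `N S` on `W/Y`

`Qd X W Y r ρ π` : `r : X →* H` surjective, `ρ : H →* MulAut M` injective, `π : W →* M` surjective with kernel `Y`.
-/

set_option autoImplicit false
set_option maxHeartbeats 400000
set_option linter.unusedSectionVars false

namespace Cfsg.Agent.OddCyclic.EmpB

open Subgroup
open Cfsg.Agent.ZN (o2 jj)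
open Cfsg.Agent.ZN.Block (o2_isPGroup le_o2 o2_le)
open Cfsg.Agent.OddCyclic.Emp3.Noo (cq mem_cq)
open Cfsg.Agent.OddCyclic.Emp3.Sec
open Cfsg.Agent.OddCyclic.T1Module Cfsg.Agent.OddCyclic.FFBasic

universe u

section abs

variable {X H : Type*} [Group X] [Group H]

/-- elements of odd order of an image are images of elements of odd order -/
theorem exists_odd_lift [Finite X] (r : X →* H) {N : Subgroup X} {x : H} (hx : x ∈ N.map r) (ho : Odd (orderOf x)) :
    ∃ n ∈ N, Odd (orderOf n) ∧ r n = x := by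
  obtain ⟨n, hn, rfl⟩ := hx
  obtain ⟨k, l, hl, hkl⟩ := Nat.exists_eq_two_pow_mul_odd (n := orderOf n) (orderOf_pos n).ne'
  have hcop : Nat.Coprime (2 ^ k) (orderOf (r n)) := Nat.Coprime.pow_left k (Nat.coprime_two_left.mpr ho)
  obtain ⟨j, hj⟩ : ∃ j : ℕ, (r n) ^ (2 ^ k * j) = r n := by
    have h1 := Nat.exists_mul_mod_eq_one_of_coprime (k := orderOf (r n)) (n := 2 ^ k) hcop
    by_cases h2 : 1 < orderOf (r n)
    · obtain ⟨j, -, hj⟩ := h1 h2
      refine ⟨j, ?_⟩
      rw [← pow_mod_orderOf, hj, pow_one]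
    · have h3 : orderOf (r n) = 1 := by
        have := ho.pos
        omega
      rw [orderOf_eq_one_iff] at h3
      exact ⟨0, by rw [h3, one_pow]⟩
  refine ⟨n ^ (2 ^ k * j), N.pow_mem hn _, ?_, by rw [map_pow, hj]⟩
  have h4 : orderOf (n ^ (2 ^ k)) = l := by
    rw [orderOf_pow, hkl, Nat.gcd_mul_right_left, Nat.mul_div_cancel_left _ (by positivity)]
  have h5 : orderOf (n ^ (2 ^ k * j)) ∣ l := by
    rw [pow_mul, ← h4]
    exact orderOf_pow_dvd j
  exact hl.of_dvd_nat h5

/-- a normal `2`-subgroup is contained in every `2`-subgroup of odd index -/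
theorem le_of_normal_two [Finite H] {S C : Subgroup H} (hS2 : IsPGroup 2 S) (hSi : ¬ 2 ∣ S.index) (hC : C.Normal)
    (hC2 : IsPGroup 2 C) : C ≤ S := by
  have : Fact (Nat.Prime 2) := ⟨Nat.prime_two⟩
  have h1 : IsPGroup 2 (S ⊔ C : Subgroup H) := hS2.to_sup_of_normal_right hC2
  have h2 := (hS2.toSylow hSi).is_maximal' h1 le_sup_left
  have h3 : S ⊔ C = S := h2
  rw [← h3]
  exact le_sup_right

end abs

variable {G : Type u} [Group G]

/-- the group induced by `X` on `W/Y` -/
structure Qd {H M : Type u} [Group H] [CommGroup M] (X W Y : Subgroup G) (r : X →* H) (ρ : H →* MulAut M)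
    (π : W →* M) : Prop where
  rs : Function.Surjective r
  ρi : Function.Injective ρ
  πs : Function.Surjective π
  π1 : ∀ w : W, π w = 1 ↔ (w : G) ∈ Y
  act : ∀ (x : X) (w w' : W), (w' : G) = x * w * (x : G)⁻¹ → ρ (r x) (π w) = π w'
  nW : X ≤ normalizer (W : Set G)

theorem exists_qd [Finite G] {X W Y : Subgroup G} (h : IsSec X W Y) :
    ∃ (H M : Type u) (_ : Group H) (_ : CommGroup M) (_ : Finite H) (_ : Finite M) (r : X →* H) (ρ : H →* MulAut M)
      (π : W →* M), Qd X W Y r ρ π := by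
  have : Finite (MulAut h.M) := inferInstance
  refine ⟨h.act.range, h.M, inferInstance, inferInstance, inferInstance, inferInstance, h.act.rangeRestrict,
    h.act.range.subtype, h.pr, ?_⟩
  exact
  { rs := h.act.rangeRestrict_surjective
    ρi := h.act.range.subtype_injective
    πs := h.pr_surj
    π1 := fun w => h.pr_eq_one
    act := fun x w w' hw => by
      show h.act x (h.pr w) = h.pr w'
      rw [h.act_pr]
      congr 1
      exact Subtype.ext hw.symm
    nW := h.nW }

namespace Qd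

variable {H M : Type u} [Group H] [CommGroup M] {X W Y : Subgroup G} {r : X →* H} {ρ : H →* MulAut M} {π : W →* M}

/-- image of a subgroup of `X` -/
def im (X : Subgroup G) (r : X →* H) (B : Subgroup G) : Subgroup H := (B.subgroupOf X).map r

/-- image of a subgroup of `W` -/
def imM (W : Subgroup G) (π : W →* M) (F : Subgroup G) : Subgroup M := (F.subgroupOf W).map π

/-- preimage in `X` -/
def pr (X : Subgroup G) (r : X →* H) (Q : Subgroup H) : Subgroup G := (Q.comap r).map X.subtype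

theorem mem_im {B : Subgroup G} {x : X} (hx : (x : G) ∈ B) : r x ∈ im X r B := ⟨x, hx, rfl⟩

theorem mem_imM {F : Subgroup G} {w : W} (hw : (w : G) ∈ F) : π w ∈ imM W π F := ⟨w, hw, rfl⟩

theorem mem_pr {Q : Subgroup H} {x : X} : (x : G) ∈ pr X r Q ↔ r x ∈ Q := by
  constructor
  · rintro ⟨y, hy, hyx⟩
    have : y = x := Subtype.ext hyx
    rw [← this]; exact hy
  · intro h
    exact ⟨x, h, rfl⟩

theorem pr_le {Q : Subgroup H} : pr X r Q ≤ X := map_subtype_le _

theorem im_mono {A B : Subgroup G} (h : A ≤ B) : im X r A ≤ im X r B := by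
  rintro _ ⟨x, hx, rfl⟩
  exact ⟨x, h hx, rfl⟩

variable (q : Qd X W Y r ρ π)

include q

theorem fix_iff (x : X) (w : W) : ρ (r x) (π w) = π w ↔ (x : G) * w * (x : G)⁻¹ * (w : G)⁻¹ ∈ Y := by
  have hm : (x : G) * w * (x : G)⁻¹ ∈ W := (mem_normalizer_iff.1 (q.nW x.2) w).1 w.2
  rw [q.act x w ⟨_, hm⟩ rfl, ← mul_inv_eq_one, ← map_inv, ← map_mul, q.π1]
  rfl

/-- elements of `X` normalise preimages of subgroups normalised by their images -/
theorem mem_norm_pr {Q : Subgroup H} {x : X} (hx : r x ∈ normalizer (Q : Set H)) :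
    (x : G) ∈ normalizer (pr X r Q : Set G) := by
  rw [mem_normalizer_iff]
  intro g
  have key : ∀ g : X, (g : G) ∈ pr X r Q ↔ (x : G) * g * (x : G)⁻¹ ∈ pr X r Q := by
    intro g
    have h1 : (x : G) * g * (x : G)⁻¹ = ((x * g * x⁻¹ : X) : G) := rfl
    rw [h1, mem_pr, mem_pr, map_mul, map_mul, map_inv]
    exact mem_normalizer_iff.1 hx (r g)
  constructor
  · intro h1
    exact (key ⟨g, pr_le h1⟩).1 h1
  · intro h1
    have h2 : g ∈ X := by
      have h3 := X.mul_mem (X.mul_mem (X.inv_mem x.2) (pr_le h1)) x.2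
      rwa [show (x : G)⁻¹ * (x * g * (x : G)⁻¹) * x = g by group] at h3
    exact (key ⟨g, h2⟩).2 h1

/-- `|V : C_V(A)|` -/
theorem index_le [Finite G] {A : Subgroup G} (hA : A ≤ X) :
    (CS ρ (im X r A)).index ≤ (W ⊓ centralizer (A : Set G)).relIndex W := by
  have h1 : (W ⊓ centralizer (A : Set G)).subgroupOf W ≤ (CS ρ (im X r A)).comap π := by
    intro w hw
    have hw' : (w : G) ∈ W ⊓ centralizer (A : Set G) := hw
    rintro _ ⟨a, ha, rfl⟩
    rw [q.fix_iff]
    have h2 : (a : G) * w = w * a := mem_centralizer_iff.1 hw'.2 a ha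
    rw [h2, mul_inv_cancel_right, mul_inv_cancel]
    exact one_mem _
  have h2 := index_comap_of_surjective (CS ρ (im X r A)) q.πs
  rw [← h2]
  exact Nat.le_of_dvd (Nat.pos_of_ne_zero index_ne_zero_of_finite) (index_dvd_of_le h1)

/-- `|F/Y|` -/
theorem card_imM [Finite G] {F : Subgroup G} (hYF : Y ≤ F) (hFW : F ≤ W) :
    Nat.card (imM W π F) * Nat.card Y = Nat.card F := by
  let f : F →* M := π.comp (inclusion hFW)
  have h1 : f.range = imM W π F := by
    ext v
    constructor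
    · rintro ⟨x, rfl⟩
      exact ⟨inclusion hFW x, x.2, rfl⟩
    · rintro ⟨w, hw, rfl⟩
      exact ⟨⟨w, hw⟩, rfl⟩
  have h2 : f.ker = Y.subgroupOf F := by
    ext x
    rw [MonoidHom.mem_ker]
    exact q.π1 _
  have h3 := f.ker.card_mul_index
  rw [index_ker, h1, h2] at h3
  rw [← h3, mul_comm]
  congr 1
  exact (Nat.card_congr (subgroupOfEquivOfLe hYF).toEquiv).symm

theorem mem_of_imM {F : Subgroup G} (hYF : Y ≤ F) {w : W} (hw : π w ∈ imM W π F) : (w : G) ∈ F := by
  obtain ⟨w', hw', he⟩ := hw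
  have h1 : π (w'⁻¹ * w) = 1 := by rw [map_mul, map_inv, he, inv_mul_cancel]
  have h2 := hYF ((q.π1 _).1 h1)
  have h3 := mul_mem (show (w' : G) ∈ F from hw') h2
  have e : (w' : G) * ((w'⁻¹ * w : W) : G) = w := by simp
  rwa [e] at h3

end Qd

end Cfsg.Agent.OddCyclic.EmpB
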