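import Mathlib
import Cfsg.Agent.OddCyclic.EmpBQd
import Cfsg.Agent.ZN.Facts

/-!
# (Empty), part III, section 6: the group induced by `N S` on `W/Y`, general facts

`Bx0` with `N/O₂(N)` simple: `O₂(N)` is the kernel of `N` on `W/Y`, etc.
-/

set_option autoImplicit false
set_option maxHeartbeats 400000
set_option linter.unusedSectionVars false

namespace Cfsg.Agent.OddCyclic.EmpB

open Subgroup
open Cfsg.Agent.ZN (o2 jj)
open Cfsg.Agent.ZN.Block (o2_isPGroup le_o2 o2_le)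
open Cfsg.Agent.OddCyclic.Emp3.Noo (cq mem_cq)
open Cfsg.Agent.OddCyclic.Emp3.Sec
open Cfsg.Agent.OddCyclic.T1Module Cfsg.Agent.OddCyclic.FFBasic
open Qd (im imM pr mem_im mem_imM mem_pr pr_le im_mono)

universe u

variable {G : Type u} [Group G] [Finite G]

theorem le_norm_of {C A : Subgroup G} (h : ∀ c ∈ C, ∀ a ∈ A, c * a * c⁻¹ ∈ A) : C ≤ normalizer (A : Set G) := by
  intro c hc
  rw [mem_normalizer_iff]
  intro a
  refine ⟨fun ha => h c hc a ha, fun ha => ?_⟩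
  have h1 := h c⁻¹ (C.inv_mem hc) _ ha
  rwa [show c⁻¹ * (c * a * c⁻¹) * c⁻¹⁻¹ = a by group] at h1

variable {S : Sylow 2 G} {N W Y F A : Subgroup G} {f a a' c : ℕ}

theorem Bx0.isSec (b : Bx0 S N W Y F A f a a' c) : IsSec (N ⊔ S) W Y where
  nW := sup_le b.NW b.SW
  nY := sup_le (b.NY.trans (centralizer_le_normalizer _)) b.SY
  comm := b.W_comm

variable {H M : Type u} [Group H] [CommGroup M] [Finite H] [Finite M] {r : (N ⊔ S : Subgroup G) →* H}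
  {ρ : H →* MulAut M} {π : W →* M}

/-- the situation -/
structure Gx (S : Sylow 2 G) (N W Y F A : Subgroup G) (f a a' c : ℕ) (r : (N ⊔ S : Subgroup G) →* H)
    (ρ : H →* MulAut M) (π : W →* M) : Prop where
  b : Bx0 S N W Y F A f a a' c
  q : Qd (N ⊔ S) W Y r ρ π
  simp : IsSimpleGroup (N ⧸ pCore 2 N)
  nab : ∃ x ∈ N, ∃ y ∈ N, x * y * x⁻¹ * y⁻¹ ∉ o2 N

namespace Gx

variable (g : Gx S N W Y F A f a a' c r ρ π)

include g

theorem N_le : N ≤ N ⊔ S := le_sup_left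
omit g in
theorem S_le : (S : Subgroup G) ≤ N ⊔ S := le_sup_right

theorem sq : ∀ v : M, v * v = 1 := by
  intro v
  obtain ⟨w, rfl⟩ := g.q.πs v
  rw [← map_mul]
  have : w * w = 1 := Subtype.ext (g.b.W_sq w w.2)
  rw [this, map_one]

theorem YW : Y ≤ W := g.b.YF.trans g.b.FW

theorem norm_N : (N ⊔ S : Subgroup G) ≤ normalizer (N : Set G) := sup_le le_normalizer g.b.nN

/-- a subgroup of `M` containing `F/Y` and invariant under `N` is everything -/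
theorem gen {V₁ : Subgroup M} (h1 : imM W π F ≤ V₁) (h2 : ∀ n : (N ⊔ S : Subgroup G), (n : G) ∈ N → ∀ v ∈ V₁, ρ (r n) v ∈ V₁) :
    V₁ = ⊤ := by
  have h3 : W ≤ (V₁.comap π).map W.subtype := by
    refine g.b.gen _ ?_ ?_
    · intro x hx
      exact ⟨⟨x, g.b.FW hx⟩, h1 ⟨⟨x, g.b.FW hx⟩, hx, rfl⟩, rfl⟩
    · refine le_norm_of ?_
      rintro n hn _ ⟨w, hw, rfl⟩
      have hm : n * (w : G) * n⁻¹ ∈ W := (mem_normalizer_iff.1 (g.b.NW hn) w).1 w.2
      refine ⟨⟨_, hm⟩, ?_, rfl⟩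
      show π ⟨_, hm⟩ ∈ V₁
      rw [← g.q.act ⟨n, g.N_le hn⟩ w ⟨_, hm⟩ rfl]
      exact h2 _ hn _ hw
  rw [eq_top_iff]
  intro v _
  obtain ⟨w, rfl⟩ := g.q.πs v
  obtain ⟨w', hw', he⟩ := h3 w.2
  have : w' = w := Subtype.ext he
  rw [← this]; exact hw'

/-- a subgroup `D` of `X` normalised by `N` and trivial on `F/Y` is trivial on `W/Y` -/
theorem trivial_of {D : Subgroup H} (hD : ∀ n : (N ⊔ S : Subgroup G), (n : G) ∈ N → ∀ d ∈ D, (r n)⁻¹ * d * r n ∈ D)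
    (h1 : imM W π F ≤ CS ρ D) : D = ⊥ := by
  have h2 := g.gen h1 (by
    intro n hn v hv d hd
    have h3 := hv _ (hD n hn d hd)
    have h4 : ρ d (ρ (r n) v) = ρ (r n) (ρ ((r n)⁻¹ * d * r n) v) := by
      rw [← MulAut.mul_apply, ← MulAut.mul_apply, ← map_mul, ← map_mul]
      congr 2
      group
    rw [h4, h3])
  rw [eq_bot_iff_forall]
  intro d hd
  apply g.q.ρi
  rw [map_one]
  ext v
  have : v ∈ CS ρ D := by rw [h2]; trivial
  exact this d hd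

theorem o2_le_X : o2 N ≤ N ⊔ S := (o2_le N).trans le_sup_left

theorem conj_o2 {n t : G} (hn : n ∈ N) (ht : t ∈ o2 N) : n * t * n⁻¹ ∈ o2 N :=
  (mem_normalizer_iff.1 (Cfsg.Agent.OddCyclic.Emp3.Noo.normalizer_le_o2 N (le_normalizer hn)) t).1 ht

/-- `O₂(N)` is trivial on `W/Y` -/
theorem im_o2 : im (N ⊔ S) r (o2 N) = ⊥ := by
  refine g.trivial_of ?_ ?_
  · rintro n hn _ ⟨t, ht, rfl⟩
    have h1 := g.conj_o2 (N.inv_mem hn) ht
    rw [inv_inv] at h1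
    rw [← map_inv, ← map_mul, ← map_mul]
    exact ⟨n⁻¹ * t * n, h1, rfl⟩
  · rintro _ ⟨w, hw, rfl⟩ _ ⟨t, ht, rfl⟩
    rw [g.q.fix_iff]
    exact g.b.FQ t ht w hw

theorem r_eq_one {t : (N ⊔ S : Subgroup G)} (ht : (t : G) ∈ o2 N) : r t = 1 := by
  have h1 : r t ∈ im (N ⊔ S) r (o2 N) := mem_im ht
  rw [g.im_o2] at h1
  exact mem_bot.mp h1

theorem not_triv : ¬ imM W π F ≤ CS ρ (im (N ⊔ S) r N) := by
  intro h1
  have h2 : F ≤ Y := by
    intro v hv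
    refine g.b.fix v hv fun n hn => ?_
    have h3 := h1 (mem_imM (w := ⟨v, g.b.FW hv⟩) hv) _ (mem_im (x := ⟨n, g.N_le hn⟩) hn)
    exact (g.q.fix_iff _ _).1 h3
  have h3 := Subgroup.card_le_of_le h2
  have h4 := g.b.card_F
  have h5 : 0 < Nat.card Y := Nat.card_pos
  have h6 : 2 ^ 2 ≤ 2 ^ f := Nat.pow_le_pow_right (by norm_num) g.b.f_two
  nlinarith

/-- `N → H` -/
def rN (r : (N ⊔ S : Subgroup G) →* H) : N →* H := r.comp (inclusion le_sup_left)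

omit g in
theorem rN_range : (rN r).range = im (N ⊔ S) r N := by
  ext x
  constructor
  · rintro ⟨n, rfl⟩
    exact ⟨inclusion le_sup_left n, n.2, rfl⟩
  · rintro ⟨n, hn, rfl⟩
    exact ⟨⟨n, hn⟩, rfl⟩

theorem rN_ker : (rN r).ker = pCore 2 N := by
  have h1 : pCore 2 N ≤ (rN r).ker := by
    intro t ht
    exact g.r_eq_one (t := inclusion le_sup_left t) ⟨t, ht, rfl⟩
  have := g.simp
  have h2 : ((rN r).ker.map (QuotientGroup.mk' (pCore 2 N))).Normal :=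
    Subgroup.Normal.map inferInstance _ (QuotientGroup.mk'_surjective _)
  rcases h2.eq_bot_or_eq_top with h3 | h3
  · refine le_antisymm ?_ h1
    rwa [Subgroup.map_eq_bot_iff, QuotientGroup.ker_mk'] at h3
  · exfalso
    apply g.not_triv
    have h4 : (rN r).ker = ⊤ := by
      have h5 := congrArg (Subgroup.comap (QuotientGroup.mk' (pCore 2 N))) h3
      rw [Subgroup.comap_map_eq, QuotientGroup.ker_mk', Subgroup.comap_top, sup_eq_left.mpr h1] at h5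
      exact h5
    rintro v - x hx
    rw [← rN_range] at hx
    obtain ⟨n, rfl⟩ := hx
    have h5 : n ∈ (rN r).ker := by rw [h4]; trivial
    rw [MonoidHom.mem_ker] at h5
    rw [h5, map_one]; rfl

theorem mem_o2_iff {n : (N ⊔ S : Subgroup G)} (hn : (n : G) ∈ N) : r n = 1 ↔ (n : G) ∈ o2 N := by
  constructor
  · intro h1
    have h2 : (⟨n, hn⟩ : N) ∈ (rN r).ker := h1
    rw [g.rN_ker] at h2
    exact ⟨⟨n, hn⟩, h2, rfl⟩
  · exact g.r_eq_one

/-- `K ≅ N / O₂(N)` -/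
theorem nonempty_equiv : Nonempty ((N ⧸ pCore 2 N) ≃* im (N ⊔ S) r N) := by
  have h1 := QuotientGroup.quotientKerEquivRange (rN r)
  exact ⟨((QuotientGroup.quotientMulEquivOfEq g.rN_ker).symm.trans h1).trans (MulEquiv.subgroupCongr rN_range)⟩

theorem card_K : Nat.card (im (N ⊔ S) r N) = (o2 N).relIndex N := by
  obtain ⟨e⟩ := g.nonempty_equiv
  rw [← Nat.card_congr e.toEquiv, ← index_eq_card, relIndex]
  congr 1
  rw [o2, subgroupOf, comap_map_eq_self_of_injective N.subtype_injective]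

theorem K_normal : (im (N ⊔ S) r N).Normal := by
  constructor
  rintro _ ⟨n, hn, rfl⟩ y
  obtain ⟨x, rfl⟩ := g.q.rs y
  rw [← map_inv, ← map_mul, ← map_mul]
  exact ⟨x * n * x⁻¹, (mem_normalizer_iff.1 (g.norm_N x.2) n).1 hn, rfl⟩

/-- `H = K S` -/
theorem sup_eq_top : im (N ⊔ S) r N ⊔ im (N ⊔ S) r S = ⊤ := by
  rw [im, im, ← Subgroup.map_sup, ← subgroupOf_sup g.N_le S_le, subgroupOf_self, ← MonoidHom.range_eq_map,
    MonoidHom.range_eq_top]
  exact g.q.rs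

theorem not_dvd_S : ¬ 2 ∣ ((S : Subgroup G).subgroupOf (N ⊔ S)).index := by
  intro h1
  have : Fact (Nat.Prime 2) := ⟨Nat.prime_two⟩
  have h2 : (S : Subgroup G).relIndex (N ⊔ S) ∣ (S : Subgroup G).index := relIndex_dvd_index_of_le S_le
  exact S.not_dvd_index (h1.trans h2)

theorem two_S : IsPGroup 2 (im (N ⊔ S) r S) :=
  (S.isPGroup'.comap_of_injective _ (N ⊔ S : Subgroup G).subtype_injective).map r

theorem not_dvd_im : ¬ 2 ∣ (im (N ⊔ S) r S).index := fun h1 =>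
  g.not_dvd_S (h1.trans (index_map_dvd _ g.q.rs))

/-- `H/K` is a 2-group -/
theorem exists_pow (y : H) : ∃ k : ℕ, y ^ 2 ^ k ∈ im (N ⊔ S) r N := by
  have := g.K_normal
  have h1 : y ∈ im (N ⊔ S) r N ⊔ im (N ⊔ S) r S := by rw [g.sup_eq_top]; trivial
  obtain ⟨n, hn, s, hs, rfl⟩ := Subgroup.mem_sup_of_normal_left.mp h1
  obtain ⟨k, hk⟩ := g.two_S ⟨s, hs⟩
  have hk' : s ^ 2 ^ k = 1 := congrArg Subtype.val hk
  refine ⟨k, ?_⟩
  rw [← QuotientGroup.eq_one_iff, QuotientGroup.mk_pow, QuotientGroup.mk_mul, (QuotientGroup.eq_one_iff n).mpr hn,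
    one_mul, ← QuotientGroup.mk_pow, hk', QuotientGroup.mk_one]

theorem inf_centralizer : Subgroup.centralizer (im (N ⊔ S) r N : Set H) ⊓ im (N ⊔ S) r N = ⊥ := by
  have := g.simp
  obtain ⟨e⟩ := g.nonempty_equiv
  have hs : IsSimpleGroup (im (N ⊔ S) r N) := e.symm.isSimpleGroup
  let C : Subgroup (im (N ⊔ S) r N) := Subgroup.center _
  rcases (inferInstance : C.Normal).eq_bot_or_eq_top with h1 | h1
  · rw [eq_bot_iff_forall]
    rintro x ⟨hx1, hx2⟩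
    have h2 : (⟨x, hx2⟩ : im (N ⊔ S) r N) ∈ C := by
      rw [Subgroup.mem_center_iff]
      intro y
      exact Subtype.ext (mem_centralizer_iff.1 hx1 y y.2)
    rw [h1, mem_bot] at h2
    exact congrArg Subtype.val h2
  · exfalso
    obtain ⟨x, hx, y, hy, hxy⟩ := g.nab
    apply hxy
    have h2 : (⟨_, mem_im (r := r) (x := ⟨x, g.N_le hx⟩) hx⟩ : im (N ⊔ S) r N) ∈ C := by rw [h1]; trivial
    rw [Subgroup.mem_center_iff] at h2
    have h3 : r ⟨y, g.N_le hy⟩ * r ⟨x, g.N_le hx⟩ = r ⟨x, g.N_le hx⟩ * r ⟨y, g.N_le hy⟩ :=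
      congrArg Subtype.val (h2 ⟨_, mem_im (r := r) (x := ⟨y, g.N_le hy⟩) hy⟩)
    have h4 : x * y * x⁻¹ * y⁻¹ ∈ N := N.mul_mem (N.mul_mem (N.mul_mem hx hy) (N.inv_mem hx)) (N.inv_mem hy)
    refine (g.mem_o2_iff (n := ⟨_, g.N_le h4⟩) h4).1 ?_
    have h5 : (⟨x * y * x⁻¹ * y⁻¹, g.N_le h4⟩ : (N ⊔ S : Subgroup G)) =
      ⟨x, g.N_le hx⟩ * ⟨y, g.N_le hy⟩ * (⟨x, g.N_le hx⟩)⁻¹ * (⟨y, g.N_le hy⟩)⁻¹ := rfl
    rw [h5, map_mul, map_mul, map_mul, map_inv, map_inv, ← h3]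
    group

/-- `C_H(K)` is a normal 2-group, contained in the image of `S` -/
theorem two_centralizer : IsPGroup 2 (Subgroup.centralizer (im (N ⊔ S) r N : Set H)) := by
  rintro ⟨c, hc⟩
  obtain ⟨k, hk⟩ := g.exists_pow c
  refine ⟨k, Subtype.ext ?_⟩
  have h1 : c ^ 2 ^ k ∈ Subgroup.centralizer (im (N ⊔ S) r N : Set H) ⊓ im (N ⊔ S) r N :=
    ⟨pow_mem hc _, hk⟩
  rw [g.inf_centralizer, mem_bot] at h1
  exact h1

theorem centralizer_le : Subgroup.centralizer (im (N ⊔ S) r N : Set H) ≤ im (N ⊔ S) r S := by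
  have := g.K_normal
  exact le_of_normal_two g.two_S g.not_dvd_im inferInstance g.two_centralizer

/-- the kernel of `r` is a 2-group -/
theorem ker_le : r.ker ≤ (S : Subgroup G).subgroupOf (N ⊔ S) := by
  refine le_of_normal_two (S.isPGroup'.comap_of_injective _ (N ⊔ S : Subgroup G).subtype_injective) g.not_dvd_S
    inferInstance ?_
  rintro ⟨x, hx⟩
  have hn : (N.subgroupOf (N ⊔ S)).Normal := by
    constructor
    intro n hn y
    exact (mem_normalizer_iff.1 (g.norm_N y.2) n).1 hn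
  have h1 : x ∈ N.subgroupOf (N ⊔ S) ⊔ (S : Subgroup G).subgroupOf (N ⊔ S) := by
    rw [← subgroupOf_sup g.N_le S_le, subgroupOf_self]; trivial
  obtain ⟨n, hn', s, hs, rfl⟩ := Subgroup.mem_sup_of_normal_left.mp h1
  obtain ⟨k, hk⟩ := (S.isPGroup'.comap_of_injective _ (N ⊔ S : Subgroup G).subtype_injective) ⟨s, hs⟩
  have hk' : s ^ 2 ^ k = 1 := congrArg Subtype.val hk
  have h2 : (n * s) ^ 2 ^ k ∈ N.subgroupOf (N ⊔ S) := by
    rw [← QuotientGroup.eq_one_iff, QuotientGroup.mk_pow, QuotientGroup.mk_mul, (QuotientGroup.eq_one_iff n).mpr hn',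
      one_mul, ← QuotientGroup.mk_pow, hk', QuotientGroup.mk_one]
  have h3 : r ((n * s) ^ 2 ^ k) = 1 := by
    rw [map_pow, show r (n * s) = 1 from hx, one_pow]
  have h4 := (g.mem_o2_iff (mem_subgroupOf.mp h2)).1 h3
  obtain ⟨l, hl⟩ := o2_isPGroup N ⟨_, h4⟩
  have hl' : (((n * s) ^ 2 ^ k : (N ⊔ S : Subgroup G)) : G) ^ 2 ^ l = 1 := congrArg Subtype.val hl
  refine ⟨k + l, Subtype.ext (Subtype.ext ?_)⟩
  show (((n * s : (N ⊔ S : Subgroup G)) ^ 2 ^ (k + l) : (N ⊔ S : Subgroup G)) : G) = 1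
  rw [pow_add, pow_mul]
  exact hl'

theorem pr_le_S {Q : Subgroup H} (hQ : Q ≤ im (N ⊔ S) r S) : pr (N ⊔ S) r Q ≤ S := by
  rintro _ ⟨x, hx, rfl⟩
  obtain ⟨s, hs, he⟩ := hQ hx
  have h1 : s⁻¹ * x ∈ r.ker := by
    rw [MonoidHom.mem_ker, map_mul, map_inv, he, inv_mul_cancel]
  have h2 := g.ker_le h1
  have h3 := S.mul_mem (show (s : G) ∈ (S : Subgroup G) from hs) h2
  have e : (s : G) * ((s⁻¹ * x : (N ⊔ S : Subgroup G)) : G) = x := by simp
  rwa [Subgroup.coe_subtype, e] at h3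

/-- **the transfer of (N')** -/
theorem fix_of_norm {Q : Subgroup H} (hQ : Q ≤ im (N ⊔ S) r S) (hJ : jj (S : Subgroup G) ≤ pr (N ⊔ S) r Q) {x : H}
    (hx : x ∈ im (N ⊔ S) r N) (ho : Odd (orderOf x)) (hn : x ∈ normalizer (Q : Set H)) : imM W π F ≤ fx ρ x := by
  obtain ⟨n, hnN, hno, rfl⟩ := exists_odd_lift r hx ho
  have h1 : (n : G) ∈ normalizer (pr (N ⊔ S) r Q : Set G) := g.q.mem_norm_pr hn
  have h2 : (n : G) ∈ normalizer (jj (S : Subgroup G) : Set G) := by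
    rw [← Cfsg.Agent.ZN.jj_eq_of_le hJ (g.pr_le_S hQ)]
    exact Cfsg.Agent.ZN.normalizer_le_normalizer_jj _ h1
  have h3 := g.b.N' n hnN (by rwa [Subgroup.orderOf_coe]) h2
  rintro _ ⟨w, hw, rfl⟩
  show ρ (r n) (π w) = π w
  rw [g.q.fix_iff]
  have h4 : (w : G) * n = n * w := mem_centralizer_iff.1 h3 w hw
  rw [← h4, mul_inv_cancel_right, mul_inv_cancel]
  exact one_mem _

end Gx

end Cfsg.Agent.OddCyclic.EmpB
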