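import Cfsg.Agent.OddCyclic.EmpBSz
import Cfsg.Agent.OddCyclic.Emp3.Dispatch
import Cfsg.Agent.S1162

/-!
# (Empty), part III: (6.7) and (6.8) in the form of the assembly
-/

set_option autoImplicit false

namespace Cfsg.Agent.OddCyclic.EmpB

open Subgroup
open Cfsg.Agent.OddCyclic.Emp3.Dispatch (SlKill SzKill)

universe u

variable (G : Type u) [Group G] [Finite G]

/-- (6.8) -/
theorem slKill : SlKill G := by
  intro S N W Y F A f a a' c b E _ _ _ h4 ⟨e⟩
  exact b.false_of_sl h4 e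

/-- (6.7) -/
theorem szKill : SzKill G := by
  intro S N W Y F A f a a' c b hSz
  refine b.false_of_sz ?_ hSz
  obtain ⟨F', _, _, m, hm, hF, ⟨e⟩⟩ := hSz
  have hs : IsSimpleGroup (Cfsg.Lie.Sz F' (2 ^ (m + 1))) := Cfsg.Agent.S1162.result hm hF
  exact e.isSimpleGroup

end Cfsg.Agent.OddCyclic.EmpB
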