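import Mathlib
import Cfsg.Agent.OddCyclic.EmpBGrp

/-!
# (Empty), part III, (6.8): `N/O₂(N) ≅ SL₂(F)` is impossible
-/

set_option autoImplicit false
set_option maxHeartbeats 400000
set_option linter.unusedSectionVars false

namespace Cfsg.Agent.OddCyclic.EmpB

open Subgroup
open Cfsg.Agent.ZN (o2 jj)
open Cfsg.Agent.ZN.Block (o2_isPGroup le_o2 o2_le)
open Cfsg.Agent.OddCyclic.Emp3.Noo (cq mem_cq mem_cq_of)
open Cfsg.Agent.OddCyclic.Emp3.Sec
open Cfsg.Agent.OddCyclic.T1Module Cfsg.Agent.OddCyclic.FFBasic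
open Qd (im imM pr mem_im mem_imM mem_pr pr_le im_mono)
open Cfsg.Agent.OddCyclic.FFOuter (ac e_ac ac_coe ac_eq_iff)
open Cfsg.Agent.OddCyclic.T1Sl2 (UI)
open Cfsg.Agent.PLocal.ThompsonJ (isElementaryAbelian_iff)
open Cfsg.Agent.Classification.QDW.TypeHom (typ)

universe u

section abs

variable {H : Type*} [Group H] [Finite H]

/-- `|K : K ∩ S| = |H : S|` for `H = K S` -/
theorem relIndex_eq_index {K S : Subgroup H} [K.Normal] (h : K ⊔ S = ⊤) : S.relIndex K = S.index := by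
  have h1 := K.card_mul_index
  have h2 := S.card_mul_index
  have h3 : K.relIndex S = K.index := by
    have := relIndex_sup_right (H := S) (K := K)
    rw [sup_comm, h, relIndex_top_right] at this
    exact this.symm
  have h4 := card_mul_index (K.subgroupOf S)
  have h5 := card_mul_index (S.subgroupOf K)
  have h6 : Nat.card (K.subgroupOf S) = Nat.card (K ⊓ S : Subgroup H) := by
    rw [← subgroupOf_map_subtype, card_map_of_injective S.subtype_injective]
  have h7 : Nat.card (S.subgroupOf K) = Nat.card (K ⊓ S : Subgroup H) := by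
    rw [inf_comm, ← subgroupOf_map_subtype, card_map_of_injective K.subtype_injective]
  have h8 : (K.subgroupOf S).index = K.index := h3
  rw [h6, h8] at h4
  rw [h7] at h5
  show (S.subgroupOf K).index = S.index
  have p1 : 0 < Nat.card (K ⊓ S : Subgroup H) := Nat.card_pos
  have p2 : 0 < K.index := Nat.pos_of_ne_zero index_ne_zero_of_finite
  have h9 : Nat.card (K ⊓ S : Subgroup H) * K.index * S.index =
      Nat.card (K ⊓ S : Subgroup H) * (S.subgroupOf K).index * K.index := by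
    rw [h4, h5, h2, h1]
  have h10 : (Nat.card (K ⊓ S : Subgroup H) * K.index) * S.index =
      (Nat.card (K ⊓ S : Subgroup H) * K.index) * (S.subgroupOf K).index := by
    rw [h9]; ring
  exact (Nat.eq_of_mul_eq_mul_left (Nat.mul_pos p1 p2) h10).symm

/-- coordinates for `K ≅ SL₂(F)` with the Sylow subgroup of `K` in `S` upper triangular -/
theorem exists_e {K S : Subgroup H} [K.Normal] (h : K ⊔ S = ⊤) (hS2 : IsPGroup 2 S) (hSi : ¬ 2 ∣ S.index)
    {F : Type*} [Field F] [Fintype F] [CharP F 2] (e₀ : Matrix.SpecialLinearGroup (Fin 2) F ≃* K) :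
    ∃ e : Matrix.SpecialLinearGroup (Fin 2) F ≃* K, ∀ x, (e x : H) ∈ S ↔ x ∈ UI F := by
  have : Fact (Nat.Prime 2) := ⟨Nat.prime_two⟩
  let P : Subgroup (Matrix.SpecialLinearGroup (Fin 2) F) := (S.subgroupOf K).comap e₀.toMonoidHom
  have hP2 : IsPGroup 2 P :=
    (hS2.comap_of_injective _ K.subtype_injective).comap_of_injective _ e₀.injective
  have hPi : ¬ 2 ∣ P.index := by
    have h1 : P.index = (S.subgroupOf K).index := index_comap_of_surjective _ e₀.surjective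
    rw [h1]
    have h2 : (S.subgroupOf K).index = S.index := relIndex_eq_index h
    rw [h2]; exact hSi
  obtain ⟨g, hg⟩ := MulAction.exists_smul_eq (Matrix.SpecialLinearGroup (Fin 2) F) (T1Sl2.SU F) (hP2.toSylow hPi)
  refine ⟨(MulAut.conj g).trans e₀, fun x => ?_⟩
  show (e₀ (g * x * g⁻¹) : H) ∈ S ↔ _
  have h1 : (e₀ (g * x * g⁻¹) : H) ∈ S ↔ g * x * g⁻¹ ∈ hP2.toSylow hPi := Iff.rfl
  rw [h1, ← hg, T1Sl2.mem_smul]
  have h2 : g⁻¹ * (g * x * g⁻¹) * g = x := by group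
  rw [h2]
  rfl

end abs

variable {G : Type u} [Group G] [Finite G]

variable {S : Sylow 2 G} {N W Y F A : Subgroup G} {f a a' c : ℕ}
  {H M : Type u} [Group H] [CommGroup M] [Finite H] [Finite M] {r : (N ⊔ S : Subgroup G) →* H}
  {ρ : H →* MulAut M} {π : W →* M}

namespace Gx

variable (g : Gx S N W Y F A f a a' c r ρ π)

include g

/-- if `S` is trivial on `F/Y`, then `C_H(K) = 1` -/
theorem centralizer_eq_bot (hFS : ∀ s ∈ (S : Subgroup G), ∀ v ∈ F, s * v * s⁻¹ * v⁻¹ ∈ Y) :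
    Subgroup.centralizer (im (N ⊔ S) r N : Set H) = ⊥ := by
  refine g.trivial_of ?_ ?_
  · intro n hn d hd
    have h1 : r n ∈ im (N ⊔ S) r N := mem_im hn
    have h2 := mem_centralizer_iff.1 hd (r n) h1
    rwa [mul_assoc, ← h2, inv_mul_cancel_left]
  · rintro _ ⟨w, hw, rfl⟩ d hd
    obtain ⟨s, hs, rfl⟩ := g.centralizer_le hd
    rw [g.q.fix_iff]
    exact hFS s hs w hw

theorem mem_ker_iff (hC : Subgroup.centralizer (im (N ⊔ S) r N : Set H) = ⊥) {x : (N ⊔ S : Subgroup G)} :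
    r x = 1 ↔ (x : G) ∈ cq N := by
  constructor
  · intro hx
    refine mem_cq_of (g.norm_N x.2) fun n hn => ?_
    have hm : (x : G) * n * (x : G)⁻¹ * n⁻¹ ∈ N :=
      N.mul_mem ((mem_normalizer_iff.1 (g.norm_N x.2) n).1 hn) (N.inv_mem hn)
    refine (g.mem_o2_iff (n := ⟨_, g.N_le hm⟩) hm).1 ?_
    have h1 : (⟨(x : G) * n * (x : G)⁻¹ * n⁻¹, g.N_le hm⟩ : (N ⊔ S : Subgroup G)) =
      x * ⟨n, g.N_le hn⟩ * x⁻¹ * (⟨n, g.N_le hn⟩)⁻¹ := rfl
    rw [h1, map_mul, map_mul, map_mul, map_inv, map_inv, hx]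
    group
  · intro hx
    have h1 : r x ∈ Subgroup.centralizer (im (N ⊔ S) r N : Set H) := by
      rw [mem_centralizer_iff]
      rintro _ ⟨n, hn, rfl⟩
      have h2 := (mem_cq.1 hx).2 n hn
      have h3 : r (x * n * x⁻¹ * n⁻¹) = 1 := g.r_eq_one h2
      rw [map_mul, map_mul, map_mul, map_inv, map_inv, mul_inv_eq_one, mul_inv_eq_iff_eq_mul] at h3
      exact h3.symm
    rw [hC] at h1
    exact mem_bot.mp h1

theorem card_im_A (hC : Subgroup.centralizer (im (N ⊔ S) r N : Set H) = ⊥) :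
    Nat.card (im (N ⊔ S) r A) = 2 ^ a := by
  have hAX : A ≤ N ⊔ S := g.b.A_le.trans S_le
  rw [im, ← relIndex_ker, ← inf_relIndex_right, ← g.b.card_A, ← relIndex_subgroupOf hAX]
  congr 1
  ext x
  rw [mem_inf, mem_subgroupOf, MonoidHom.mem_ker, mem_subgroupOf, mem_inf, g.mem_ker_iff hC, and_comm]

theorem im_A_sq : ∀ x ∈ im (N ⊔ S) r A, x * x = 1 := by
  rintro _ ⟨x, hx, rfl⟩
  rw [← map_mul]
  have : x * x = 1 := Subtype.ext (g.b.A_sq x hx)
  rw [this, map_one]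

/-- the abstract configuration -/
theorem sl (b : Bx S N W Y F A f a a' c) :
    Sl ρ (im (N ⊔ S) r N) (im (N ⊔ S) r S) (im (N ⊔ S) r A) (imM W π F) f a a' c where
  sq := g.sq
  cK := g.centralizer_eq_bot b.FS
  fixS := by
    rintro _ ⟨w, hw, rfl⟩ _ ⟨s, hs, rfl⟩
    rw [g.q.fix_iff]
    exact b.FS s hs w hw
  int := by
    rw [eq_bot_iff_forall]
    rintro v ⟨⟨w, hw, rfl⟩, h1⟩
    rw [g.q.π1]
    refine b.fix w hw fun n hn => ?_
    exact (g.q.fix_iff ⟨n, g.N_le hn⟩ w).1 (h1 _ (mem_im (x := ⟨n, g.N_le hn⟩) hn))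
  card := by
    have h1 := g.q.card_imM b.YF b.FW
    rw [b.card_F] at h1
    exact Nat.eq_of_mul_eq_mul_right Nat.card_pos h1
  A_le := im_mono b.A_le
  A_sq := g.im_A_sq
  card_A := g.card_im_A (g.centralizer_eq_bot b.FS)
  idx := (g.q.index_le (b.A_le.trans S_le)).trans b.idx
  a_pos := b.a_pos
  a'_le := b.a'_le
  c_le := b.c_le
  c_imp := b.c_imp
  f3 := b.f3
  fodd := b.fodd
  seven := by
    rw [g.card_K]
    exact b.seven

/-- (St+) for elements of order 3 -/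
theorem fix_of_three (b : Bx S N W Y F A f a a' c) {x : H} (hx : x ∈ im (N ⊔ S) r N) (h3 : orderOf x = 3) {v : M}
    (hv : v ∈ imM W π F) (hv1 : v ≠ 1) (hxv : ρ x v = v) : imM W π F ≤ fx ρ x := by
  obtain ⟨n, hnN, hno, rfl⟩ := exists_odd_lift r hx (by rw [h3]; decide)
  have hn3 : orderOf n = 3 := by
    have h4 : r (n ^ 3) = 1 := by rw [map_pow, ← h3, pow_orderOf_eq_one]
    have h5 : (n ^ 3 : (N ⊔ S : Subgroup G)) ∈ N.subgroupOf (N ⊔ S) := (N.subgroupOf (N ⊔ S)).pow_mem hnN 3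
    have h6 := (g.mem_o2_iff (mem_subgroupOf.mp h5)).1 h4
    obtain ⟨l, hl⟩ := o2_isPGroup N ⟨_, h6⟩
    have hl' : ((n ^ 3 : (N ⊔ S : Subgroup G)) : G) ^ 2 ^ l = 1 := congrArg Subtype.val hl
    have hl'' : n ^ (3 * 2 ^ l) = 1 := by
      rw [pow_mul]
      exact Subtype.ext hl'
    have h7 : orderOf n ∣ 3 := by
      refine Nat.Coprime.dvd_of_dvd_mul_right ?_ (orderOf_dvd_of_pow_eq_one hl'')
      exact Nat.Coprime.pow_right l (Nat.coprime_two_right.mpr hno)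
    rcases (Nat.dvd_prime Nat.prime_three).1 h7 with h8 | h8
    · exfalso
      rw [orderOf_eq_one_iff] at h8
      rw [h8, map_one, orderOf_one] at h3
      omega
    · exact h8
  obtain ⟨w, hw, rfl⟩ := hv
  have hwY : (w : G) ∉ Y := fun h => hv1 ((g.q.π1 w).2 h)
  have h1 : (n : G) * w * (n : G)⁻¹ * (w : G)⁻¹ ∈ Y := (g.q.fix_iff n w).1 hxv
  -- `n w n⁻¹ = y w` with `y ∈ Y` centralised by `n`; `y³ = 1`
  obtain ⟨y, hy⟩ : ∃ y, y = (n : G) * w * (n : G)⁻¹ * (w : G)⁻¹ := ⟨_, rfl⟩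
  rw [← hy] at h1
  have hny : (n : G) * y * (n : G)⁻¹ = y := by
    have h4 : y * (n : G) = n * y := mem_centralizer_iff.1 (b.NY (show (n : G) ∈ N from hnN)) y h1
    rw [← h4, mul_inv_cancel_right]
  have hyw : (n : G) * w * (n : G)⁻¹ = y * w := by rw [hy]; group
  have hyy : y * y = 1 := b.W_sq y (g.YW h1)
  have e2 : (n : G) * (y * w) * (n : G)⁻¹ = w := by
    calc (n : G) * (y * w) * (n : G)⁻¹ = ((n : G) * y * (n : G)⁻¹) * ((n : G) * w * (n : G)⁻¹) := by group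
      _ = y * (y * w) := by rw [hny, hyw]
      _ = (y * y) * w := by group
      _ = w := by rw [hyy, one_mul]
  have hn3' : (n : G) ^ 3 = 1 := by
    have := pow_orderOf_eq_one n
    rw [hn3] at this
    exact congrArg Subtype.val this
  have hcomm : (n : G) * w = w * n := by
    have e3 : (n : G) ^ 3 * w * ((n : G) ^ 3)⁻¹ = y * w := by
      calc (n : G) ^ 3 * w * ((n : G) ^ 3)⁻¹ =
          (n : G) * ((n : G) * ((n : G) * w * (n : G)⁻¹) * (n : G)⁻¹) * (n : G)⁻¹ := by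
            rw [pow_succ, pow_two]; group
        _ = y * w := by rw [hyw, e2, hyw]
    rw [hn3', one_mul, inv_one, mul_one] at e3
    rw [← e3] at hyw
    exact mul_inv_eq_iff_eq_mul.mp hyw
  have h9 := b.stp n hnN (by rw [Subgroup.orderOf_coe, hn3]; exact Nat.prime_three)
    (by rw [Subgroup.orderOf_coe, hn3]; decide) w hw hwY hcomm
  rintro _ ⟨w', hw', rfl⟩
  show ρ (r n) (π w') = π w'
  rw [g.q.fix_iff]
  have h4 : (w' : G) * n = n * w' := mem_centralizer_iff.1 h9 w' hw'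
  rw [← h4, mul_inv_cancel_right, mul_inv_cancel]
  exact one_mem _

end Gx

/-- **(6.8)** -/
theorem Bx.false_of_sl (b : Bx S N W Y F A f a a' c) {Fd : Type} [Field Fd] [Fintype Fd] [CharP Fd 2]
    (h4 : 4 ≤ Fintype.card Fd) (e₀ : (N ⧸ pCore 2 N) ≃* Matrix.SpecialLinearGroup (Fin 2) Fd) : False := by
  obtain ⟨H, M, _, _, _, _, r, ρ, π, q⟩ := exists_qd b.isSec
  have hsimp : IsSimpleGroup (N ⧸ pCore 2 N) := by
    have := isSimpleGroup_sl2 h4
    exact e₀.isSimpleGroup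
  have g : Gx S N W Y F A f a a' c r ρ π :=
    { b := b.toBx0
      q := q
      simp := hsimp
      nab := by
        by_contra hcon
        push Not at hcon
        have h1 : Subgroup.center (Matrix.SpecialLinearGroup (Fin 2) Fd) = ⊤ := by
          rw [eq_top_iff]
          intro z _
          rw [mem_center_iff]
          intro y
          obtain ⟨z', hz⟩ := QuotientGroup.mk'_surjective (pCore 2 N) (e₀.symm z)
          obtain ⟨y', hy⟩ := QuotientGroup.mk'_surjective (pCore 2 N) (e₀.symm y)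
          have h2 := hcon y' y'.2 z' z'.2
          have h3 : y' * z' * y'⁻¹ * z'⁻¹ ∈ pCore 2 N := by
            obtain ⟨w, hw, he⟩ := h2
            have : w = y' * z' * y'⁻¹ * z'⁻¹ := Subtype.ext he
            rw [← this]; exact hw
          rw [← QuotientGroup.eq_one_iff] at h3
          change QuotientGroup.mk' (pCore 2 N) (y' * z' * y'⁻¹ * z'⁻¹) = 1 at h3
          rw [map_mul, map_mul, map_mul, map_inv, map_inv, hz, hy, mul_inv_eq_one, mul_inv_eq_iff_eq_mul] at h3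
          have h5 := congrArg e₀ h3
          rwa [map_mul, map_mul, e₀.apply_symm_apply, e₀.apply_symm_apply] at h5
        rw [center_sl2] at h1
        have := isSimpleGroup_sl2 h4 (F := Fd)
        exact bot_ne_top h1 }
  have hK := g.K_normal
  obtain ⟨e₁⟩ := g.nonempty_equiv
  obtain ⟨e, hU⟩ := exists_e g.sup_eq_top g.two_S g.not_dvd_im (e₀.symm.trans e₁)
  have hsl := g.sl b
  by_cases hJ : jj (S : Subgroup G) ≤ pr (N ⊔ S) r (im (N ⊔ S) r S ⊓ im (N ⊔ S) r N)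
  · -- (I)
    exact hsl.false_one e hU h4 fun x hx ho hn => g.fix_of_norm inf_le_left hJ hx ho hn
  · -- (II)
    obtain ⟨B, hB, hBn⟩ : ∃ B, Cfsg.Agent.ZN.IsMaxIn (S : Subgroup G) B ∧
        ¬ B ≤ pr (N ⊔ S) r (im (N ⊔ S) r S ⊓ im (N ⊔ S) r N) := by
      by_contra hcon
      push Not at hcon
      exact hJ (Cfsg.Agent.ZN.jj_le_of_forall hcon)
    obtain ⟨φ₀, hφ₀, hφn⟩ := SetLike.not_le_iff_exists.1 hBn
    have hφX : φ₀ ∈ N ⊔ S := Gx.S_le (hB.1 hφ₀)
    have hinv : ∀ {B : Subgroup G}, Cfsg.Agent.ZN.IsMaxIn (S : Subgroup G) B → ∀ x : (N ⊔ S : Subgroup G), (x : G) ∈ B →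
        r x * r x = 1 := by
      intro B hB x hx
      have h1 := (isElementaryAbelian_iff.1 hB.2.1).2 x hx
      rw [← map_mul]
      have : x * x = 1 := Subtype.ext (by rw [pow_two] at h1; exact h1)
      rw [this, map_one]
    obtain ⟨φ, hφ⟩ : ∃ φ, φ = r ⟨φ₀, hφX⟩ := ⟨_, rfl⟩
    have hφS : φ ∈ im (N ⊔ S) r S := by rw [hφ]; exact mem_im (x := ⟨φ₀, hφX⟩) (hB.1 hφ₀)
    have hφK : φ ∉ im (N ⊔ S) r N := by
      intro h1
      apply hφn
      exact (mem_pr (x := ⟨φ₀, hφX⟩)).2 ⟨by rw [← hφ]; exact hφS, by rw [← hφ]; exact h1⟩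
    have hφ2 : φ * φ = 1 := by rw [hφ]; exact hinv hB _ hφ₀
    have hJ2 : jj (S : Subgroup G) ≤ pr (N ⊔ S) r ((im (N ⊔ S) r S ⊓ im (N ⊔ S) r N) ⊔ zpowers φ) := by
      refine Cfsg.Agent.ZN.jj_le_of_forall fun B' hB' x hx => ?_
      have hxX : x ∈ N ⊔ S := Gx.S_le (hB'.1 hx)
      refine (mem_pr (x := ⟨x, hxX⟩)).2 ?_
      have hxS : r ⟨x, hxX⟩ ∈ im (N ⊔ S) r S := mem_im (x := ⟨x, hxX⟩) (hB'.1 hx)
      by_cases hxK : r ⟨x, hxX⟩ ∈ im (N ⊔ S) r N
      · exact (le_sup_left : _ ≤ (im (N ⊔ S) r S ⊓ im (N ⊔ S) r N) ⊔ zpowers φ) ⟨hxS, hxK⟩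
      · have hx2 := hinv hB' ⟨x, hxX⟩ hx
        have n1 : typ (ac e (r ⟨x, hxX⟩)) ≠ 1 := fun h1 => hxK (hsl.mem_K e h1)
        have n2 : typ (ac e φ) ≠ 1 := fun h1 => hφK (hsl.mem_K e h1)
        have s1 : typ (ac e (r ⟨x, hxX⟩)) * typ (ac e (r ⟨x, hxX⟩)) = 1 := by
          rw [← map_mul, ← map_mul, hx2, map_one, map_one]
        have s2 : typ (ac e φ) * typ (ac e φ) = 1 := by
          rw [← map_mul, ← map_mul, hφ2, map_one, map_one]
        have h1 : r ⟨x, hxX⟩ * φ⁻¹ ∈ im (N ⊔ S) r N := by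
          refine hsl.mem_K e ?_
          rw [map_mul, map_mul, map_inv, map_inv, L2Borel.ringAut_invol s1 s2 n1 n2, mul_inv_cancel]
        have h2 : r ⟨x, hxX⟩ = (r ⟨x, hxX⟩ * φ⁻¹) * φ := by group
        have h3 : r ⟨x, hxX⟩ * φ⁻¹ ∈ (im (N ⊔ S) r S ⊓ im (N ⊔ S) r N) ⊔ zpowers φ :=
          (le_sup_left : im (N ⊔ S) r S ⊓ im (N ⊔ S) r N ≤ _)
            ⟨(im (N ⊔ S) r S).mul_mem hxS ((im (N ⊔ S) r S).inv_mem hφS), h1⟩
        have h5 : φ ∈ (im (N ⊔ S) r S ⊓ im (N ⊔ S) r N) ⊔ zpowers φ :=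
          (le_sup_right : zpowers φ ≤ _) (mem_zpowers φ)
        rw [h2]
        exact Subgroup.mul_mem _ h3 h5
    refine hsl.false_two e hU h4 hφS hφK hφ2 ?_ ?_
    · intro x hx ho hxφ hn
      refine g.fix_of_norm (sup_le inf_le_left (by rw [zpowers_le]; exact hφS)) hJ2 hx ho ?_
      refine normalizer_inf_normalizer_le_normalizer_sup _ _ ⟨hn, ?_⟩
      refine centralizer_le_normalizer _ ?_
      rw [mem_centralizer_iff]
      rintro z hz
      obtain ⟨k, rfl⟩ := mem_zpowers_iff.mp hz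
      have hc : Commute x φ := hxφ
      exact (hc.zpow_right k).eq.symm
    · intro x hx h3 _ v hv hv1 hxv
      exact g.fix_of_three b hx h3 hv hv1 hxv

end Cfsg.Agent.OddCyclic.EmpB
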