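import Mathlib
import Cfsg.Agent.OddCyclic.EmpBSlG
import Cfsg.Agent.OddCyclic.T1SzFacts
import Cfsg.Agent.ThreePrime.SzDataExists
import Cfsg.Agent.ThreePrime.ACFacts

/-!
# (Empty), part III, (6.7): `N/O₂(N) ≅ Sz(q)` is impossible
-/

set_option autoImplicit false
set_option maxHeartbeats 400000
set_option linter.unusedSectionVars false

namespace Cfsg.Agent.OddCyclic.EmpB

open Subgroup
open Cfsg.Agent.ZN (o2 jj)
open Cfsg.Agent.ZN.Block (o2_isPGroup le_o2 o2_le)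
open Cfsg.Agent.OddCyclic.Emp3.Noo (cq mem_cq mem_cq_of)
open Cfsg.Agent.OddCyclic.Emp3.Sec
open Cfsg.Agent.OddCyclic.T1Module Cfsg.Agent.OddCyclic.FFBasic
open Qd (im imM pr mem_im mem_imM mem_pr pr_le im_mono)
open Cfsg.Agent.ThreePrime Cfsg.Agent.ThreePrime.SzRel

universe u

section abs

variable {J : Type*} [Group J] [Finite J] {V : Type*} [CommGroup V] [Finite V]

/-- a parametrisation for a given Sylow subgroup -/
theorem exists_rel_sylow (h : Cfsg.Lie.IsoSuzuki J) (P : Sylow 2 J) :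
    ∃ (F : Type) (_ : Field F) (_ : Fintype F) (R : SzRel.Rel J F), 8 ≤ Nat.card F ∧ R.T = (P : Subgroup J) := by
  have : Fact (Nat.Prime 2) := ⟨Nat.prime_two⟩
  obtain ⟨F, iF, iF', m, hm, hF, ⟨R₀⟩⟩ := exists_rel h
  have h8 : 8 ≤ Nat.card F := by
    rw [Nat.card_eq_fintype_card, hF]
    exact SzRel.Rel.eight_le hm
  obtain ⟨P₀, hP₀⟩ := R₀.exists_sylow_eq hm hF
  obtain ⟨g, hg⟩ := MulAction.exists_smul_eq J P₀ P
  let R : SzRel.Rel J F := R₀.map (MulAut.conj g)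
  have hT : R.T = (P : Subgroup J) := by
    rw [← hg]
    ext x
    rw [Sylow.coe_subgroup_smul, Subgroup.mem_pointwise_smul_iff_inv_smul_mem, hP₀]
    constructor
    · rintro ⟨a, b, rfl⟩
      refine ⟨a, b, ?_⟩
      show (MulAut.conj g)⁻¹ (MulAut.conj g (R₀.u a b)) = _
      rw [MulAut.inv_apply_self]
    · rintro ⟨a, b, hx⟩
      refine ⟨a, b, ?_⟩
      show x = MulAut.conj g (R₀.u a b)
      rw [← hx]
      show x = MulAut.conj g ((MulAut.conj g)⁻¹ x)
      rw [MulAut.apply_inv_self]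
  exact ⟨F, iF, iF', R, h8, hT⟩

/-- `|V₀| ^ |P| ≤ |V : C_V(x)|²` -/
theorem sz_stb (h : Cfsg.Lie.IsoSuzuki J) (P : Sylow 2 J) (hV : ∀ v : V, v * v = 1) (τ : J →* MulAut V)
    {V₀ : Subgroup V} (hB : V₀ ≤ CS τ (normalizer ((P : Subgroup J) : Set J))) (hd : V₀ ⊓ CS τ ⊤ = ⊥) {x : J}
    (hx : x ∈ P) (hx1 : x ≠ 1) : Nat.card V₀ ^ Nat.card P ≤ (fx τ x).index ^ 2 := by
  obtain ⟨F, iF, iF', R, h8, hT⟩ := exists_rel_sylow h P
  have h1 := EmpSTB.stb_index τ hV (X := ⊤) (B := normalizer ((P : Subgroup J) : Set J)) (U := (P : Subgroup J))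
    (w := R.w) le_top (mem_top _) P.isPGroup' ?_ ?_ ?_ hB hd (W := ⊤) le_top (fun _ _ _ _ => mem_top _)
    (A := zpowers x) (a := x) (mem_zpowers x) hx hx1
  · rwa [relIndex_top_right, CS_zpowers] at h1
  · intro g _
    rcases R.bruhat g with ⟨a, b, k, rfl⟩ | ⟨a, b, c, e, k, rfl⟩
    · left
      rw [← hT]
      exact R.ud_mem_normalizer a b k
    · right
      refine ⟨R.u a b, by rw [← hT]; exact R.u_mem a b, ?_⟩
      rw [← hT, show (R.u a b * R.w)⁻¹ * (R.u a b * R.w * (R.u c e * R.d k)) = R.u c e * R.d k by group]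
      exact R.ud_mem_normalizer c e k
  · intro y hy h2
    have h3 : R.w ∈ normalizer ((P : Subgroup J) : Set J) := by
      have := mul_mem (inv_mem (le_normalizer hy)) h2
      rwa [inv_mul_cancel_left] at this
    rw [← hT] at h3
    exact R.w_not_mem_normalizer h3
  · intro y hy h2
    rw [← hT] at hy h2
    obtain ⟨a, b, rfl⟩ := hy
    obtain ⟨c, e, k, hk⟩ := R.norm h2
    rw [R.w_inv] at hk
    obtain ⟨rfl, rfl⟩ := R.inter a b c e k hk
    exact R.u_zero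

end abs

variable {G : Type u} [Group G] [Finite G]

variable {S : Sylow 2 G} {N W Y F A : Subgroup G} {f a a' c : ℕ}
  {H M : Type u} [Group H] [CommGroup M] [Finite H] [Finite M] {r : (N ⊔ S : Subgroup G) →* H}
  {ρ : H →* MulAut M} {π : W →* M}

namespace Gx

variable (g : Gx S N W Y F A f a a' c r ρ π)

include g

/-- `[x, N] ≤ O₂(N)` for `x` with trivial image -/
theorem mem_cq_of_eq_one {x : (N ⊔ S : Subgroup G)} (hx : r x = 1) : (x : G) ∈ cq N := by
  refine mem_cq_of (g.norm_N x.2) fun n hn => ?_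
  have hm : (x : G) * n * (x : G)⁻¹ * n⁻¹ ∈ N :=
    N.mul_mem ((mem_normalizer_iff.1 (g.norm_N x.2) n).1 hn) (N.inv_mem hn)
  refine (g.mem_o2_iff (n := ⟨_, g.N_le hm⟩) hm).1 ?_
  have h1 : (⟨(x : G) * n * (x : G)⁻¹ * n⁻¹, g.N_le hm⟩ : (N ⊔ S : Subgroup G)) =
    x * ⟨n, g.N_le hn⟩ * x⁻¹ * (⟨n, g.N_le hn⟩)⁻¹ := rfl
  rw [h1, map_mul, map_mul, map_mul, map_inv, map_inv, hx]
  group

theorem centralizer_of_mem_cq {x : (N ⊔ S : Subgroup G)} (hx : (x : G) ∈ cq N) :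
    r x ∈ Subgroup.centralizer (im (N ⊔ S) r N : Set H) := by
  rw [mem_centralizer_iff]
  rintro _ ⟨n, hn, rfl⟩
  have h2 := (mem_cq.1 hx).2 n hn
  have h3 : r (x * n * x⁻¹ * n⁻¹) = 1 := g.r_eq_one h2
  rw [map_mul, map_mul, map_mul, map_inv, map_inv, mul_inv_eq_one, mul_inv_eq_iff_eq_mul] at h3
  exact h3.symm

theorem card_im_A' (hA : ∀ x : (N ⊔ S : Subgroup G), (x : G) ∈ A → (x : G) ∈ cq N → r x = 1) :
    Nat.card (im (N ⊔ S) r A) = 2 ^ a := by
  have hAX : A ≤ N ⊔ S := g.b.A_le.trans S_le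
  rw [im, ← relIndex_ker, ← inf_relIndex_right, ← g.b.card_A, ← relIndex_subgroupOf hAX]
  congr 1
  ext x
  rw [mem_inf, mem_subgroupOf, MonoidHom.mem_ker, mem_subgroupOf, mem_inf]
  constructor
  · rintro ⟨h1, h2⟩
    exact ⟨h2, g.mem_cq_of_eq_one h1⟩
  · rintro ⟨h1, h2⟩
    exact ⟨hA x h1 h2, h1⟩

end Gx

/-- the numbers -/
theorem sz_num {f a a' c m : ℕ} (hf : 2 ≤ f) (ha' : a' ≤ a) (hc : c ≤ a) (hm : a ≤ m) (hm6 : 6 ≤ m)
    (h : f * 2 ^ m ≤ 2 * (a' + c)) : False := by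
  have h1 := two_mul_le_pow (g := m - 1) (by omega)
  have h2 : 2 ^ m = 2 * 2 ^ (m - 1) := by
    rw [← pow_succ']
    congr 1
    omega
  rw [h2] at h
  have h3 := Nat.mul_le_mul_right (2 * 2 ^ (m - 1)) hf
  omega

/-- **(6.7)** -/
theorem Bx0.false_of_sz (b : Bx0 S N W Y F A f a a' c) (hsimp : IsSimpleGroup (N ⧸ pCore 2 N))
    (hSz : Cfsg.Lie.IsoSuzuki (N ⧸ pCore 2 N)) : False := by
  have : Fact (Nat.Prime 2) := ⟨Nat.prime_two⟩
  obtain ⟨H, M, _, _, _, _, r, ρ, π, q⟩ := exists_qd b.isSec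
  have g : Gx S N W Y F A f a a' c r ρ π :=
    { b := b
      q := q
      simp := hsimp
      nab := by
        obtain ⟨P₀⟩ : Nonempty (Sylow 2 (N ⧸ pCore 2 N)) := inferInstance
        obtain ⟨F', _, _, R, h8, hT⟩ := exists_rel_sylow hSz P₀
        obtain ⟨t, ht⟩ := R.exists_theta_ne h8
        by_contra hcon
        push Not at hcon
        have hcomm : ∀ y z : N ⧸ pCore 2 N, y * z = z * y := by
          intro y z
          obtain ⟨y', rfl⟩ := QuotientGroup.mk'_surjective (pCore 2 N) y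
          obtain ⟨z', rfl⟩ := QuotientGroup.mk'_surjective (pCore 2 N) z
          have h2 := hcon y' y'.2 z' z'.2
          have h3 : y' * z' * y'⁻¹ * z'⁻¹ ∈ pCore 2 N := by
            obtain ⟨w, hw, he⟩ := h2
            have : w = y' * z' * y'⁻¹ * z'⁻¹ := Subtype.ext he
            rw [← this]; exact hw
          rw [← QuotientGroup.eq_one_iff] at h3
          change QuotientGroup.mk' (pCore 2 N) (y' * z' * y'⁻¹ * z'⁻¹) = 1 at h3
          rwa [map_mul, map_mul, map_mul, map_inv, map_inv, mul_inv_eq_one, mul_inv_eq_iff_eq_mul] at h3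
        have h4 := (R.comm_iff 1 0 t 0).1 (hcomm _ _)
        rw [map_one, mul_one, one_mul] at h4
        exact ht h4 }
  have hK := g.K_normal
  obtain ⟨e₁⟩ := g.nonempty_equiv
  have hKs : Cfsg.Lie.IsoSuzuki (im (N ⊔ S) r N) := Cfsg.Agent.ThreePrime.ACFacts.isoSuzuki_of_equiv e₁.symm hSz
  have hP2 : IsPGroup 2 ((im (N ⊔ S) r S).subgroupOf (im (N ⊔ S) r N)) :=
    g.two_S.comap_of_injective _ (im (N ⊔ S) r N).subtype_injective
  have hPi : ¬ 2 ∣ ((im (N ⊔ S) r S).subgroupOf (im (N ⊔ S) r N)).index := by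
    have h1 : ((im (N ⊔ S) r S).subgroupOf (im (N ⊔ S) r N)).index = (im (N ⊔ S) r S).index :=
      relIndex_eq_index g.sup_eq_top
    rw [h1]; exact g.not_dvd_im
  obtain ⟨P, hP⟩ : ∃ P : Sylow 2 (im (N ⊔ S) r N), (P : Subgroup (im (N ⊔ S) r N)) =
    (im (N ⊔ S) r S).subgroupOf (im (N ⊔ S) r N) := ⟨hP2.toSylow hPi, rfl⟩
  obtain ⟨D, hD⟩ := exists_szData hKs P
  have hmemP : ∀ x : im (N ⊔ S) r N, x ∈ P ↔ (x : H) ∈ im (N ⊔ S) r S := by
    intro x
    have : x ∈ P ↔ x ∈ (P : Subgroup (im (N ⊔ S) r N)) := Iff.rfl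
    rw [this, hP, mem_subgroupOf]
  -- (1) 2-elements are inner
  have hin : ∀ s ∈ im (N ⊔ S) r S, ∃ j : im (N ⊔ S) r N, j ∈ P ∧
      (j : H)⁻¹ * s ∈ Subgroup.centralizer (im (N ⊔ S) r N : Set H) := by
    intro s hs
    obtain ⟨n, hn⟩ := g.two_S ⟨s, hs⟩
    have hn' : s ^ 2 ^ n = 1 := congrArg Subtype.val hn
    obtain ⟨j, hj⟩ := hD.inner (MulAut.conjNormal s) ⟨n, by rw [← map_pow, hn', map_one]⟩
    have h1 : (j : H)⁻¹ * s ∈ Subgroup.centralizer (im (N ⊔ S) r N : Set H) := by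
      rw [mem_centralizer_iff]
      intro k hk
      have h2 := congrArg (fun α : MulAut (im (N ⊔ S) r N) => ((α ⟨k, hk⟩ : im (N ⊔ S) r N) : H)) hj
      simp only [MulAut.conjNormal_apply, MulAut.conj_apply] at h2
      have h3 : s * k * s⁻¹ = (j : H) * k * (j : H)⁻¹ := h2
      have h4 : s * k = (j : H) * k * (j : H)⁻¹ * s := by rw [← h3]; group
      rw [mul_assoc, h4]; group
    refine ⟨j, ?_, h1⟩
    rw [hmemP]
    have h2 := g.centralizer_le h1
    have h3 := (im (N ⊔ S) r S).mul_mem hs ((im (N ⊔ S) r S).inv_mem h2)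
    rwa [show s * ((j : H)⁻¹ * s)⁻¹ = j by group] at h3
  -- (2) odd elements
  have hodd : ∀ h : im (N ⊔ S) r N, h ∈ normalizer ((P : Subgroup (im (N ⊔ S) r N)) : Set (im (N ⊔ S) r N)) →
      Odd (orderOf h) → imM W π F ≤ fx ρ (h : H) := by
    intro h hh ho
    refine g.fix_of_norm (Q := im (N ⊔ S) r S) le_rfl ?_ h.2 (by rwa [Subgroup.orderOf_coe]) ?_
    · intro x hx
      have hxS := Cfsg.Agent.ZN.jj_le _ hx
      exact (mem_pr (x := ⟨x, Gx.S_le hxS⟩)).2 (mem_im hxS)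
    · have h1 : (normalizer ((P : Subgroup (im (N ⊔ S) r N)) : Set (im (N ⊔ S) r N))).map
          (im (N ⊔ S) r N).subtype ≤ normalizer (im (N ⊔ S) r S : Set H) := by
        refine le_norm_of ?_
        rintro _ ⟨k, hk, rfl⟩ s hs
        obtain ⟨j, hj, hc⟩ := hin s hs
        have h2 : (k * j * k⁻¹ : im (N ⊔ S) r N) ∈ P := (mem_normalizer_iff.1 hk j).1 hj
        rw [hmemP] at h2
        have h3 := mem_centralizer_iff.1 hc k k.2
        have h4 : (k : H) * s * (k : H)⁻¹ = ((k * j * k⁻¹ : im (N ⊔ S) r N) : H) * ((j : H)⁻¹ * s) := by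
          rw [coe_mul, coe_mul, coe_inv]
          calc (k : H) * s * (k : H)⁻¹ = (k : H) * j * ((j : H)⁻¹ * s) * (k : H)⁻¹ := by group
            _ = (k : H) * j * ((k : H)⁻¹ * ((k : H) * ((j : H)⁻¹ * s))) * (k : H)⁻¹ := by group
            _ = (k : H) * j * ((k : H)⁻¹ * (((j : H)⁻¹ * s) * (k : H))) * (k : H)⁻¹ := by rw [h3]
            _ = _ := by group
        show (k : H) * s * (k : H)⁻¹ ∈ _
        rw [h4]
        exact (im (N ⊔ S) r S).mul_mem h2 (g.centralizer_le hc)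
      exact h1 ⟨h, hh, rfl⟩
  -- (3) `P` fixes `V₀`
  have hDodd : ∀ d ∈ D, Odd (orderOf d) := fun d hd =>
    hD.odd.of_dvd_nat (by
      have := orderOf_dvd_natCard (⟨d, hd⟩ : D)
      rwa [Subgroup.orderOf_mk] at this)
  obtain ⟨d, hd, hd1⟩ : ∃ d ∈ D, d ≠ 1 := by
    by_contra hcon
    push Not at hcon
    have h8 := hD.card
    obtain ⟨x, hx1⟩ : ∃ x : ((P : Subgroup (im (N ⊔ S) r N)) ⊓ Subgroup.centralizer ((P : Subgroup (im (N ⊔ S) r N)) :
        Set (im (N ⊔ S) r N)) : Subgroup (im (N ⊔ S) r N)), x ≠ 1 := by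
      by_contra hall
      push Not at hall
      have h9 : Nat.card ((P : Subgroup (im (N ⊔ S) r N)) ⊓ Subgroup.centralizer ((P : Subgroup (im (N ⊔ S) r N)) :
        Set (im (N ⊔ S) r N)) : Subgroup (im (N ⊔ S) r N)) ≤ 1 := by
        rw [Finite.card_le_one_iff_subsingleton]
        exact ⟨fun x y => by rw [hall x, hall y]⟩
      omega
    have h10 : ∀ y : ((P : Subgroup (im (N ⊔ S) r N)) ⊓ Subgroup.centralizer ((P : Subgroup (im (N ⊔ S) r N)) :
        Set (im (N ⊔ S) r N)) : Subgroup (im (N ⊔ S) r N)), y = 1 ∨ y = x := by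
      intro y
      by_cases hy : y = 1
      · exact Or.inl hy
      · right
        obtain ⟨d, hd, hdx⟩ := hD.trans x x.2.1 y y.2.1 (fun h => hx1 (Subtype.ext h)) (fun h => hy (Subtype.ext h))
          ((hD.sq_iff x x.2.1).2 fun z hz => (mem_centralizer_iff.1 x.2.2 z hz).symm)
          ((hD.sq_iff y y.2.1).2 fun z hz => (mem_centralizer_iff.1 y.2.2 z hz).symm)
        rw [hcon d hd, one_mul, inv_one, mul_one] at hdx
        exact Subtype.ext hdx.symm
    have h11 : Nat.card ((P : Subgroup (im (N ⊔ S) r N)) ⊓ Subgroup.centralizer ((P : Subgroup (im (N ⊔ S) r N)) :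
        Set (im (N ⊔ S) r N)) : Subgroup (im (N ⊔ S) r N)) ≤ Nat.card Bool := by
      refine Nat.card_le_card_of_surjective (fun t : Bool => if t then 1 else x) ?_
      intro y
      rcases h10 y with h | h
      · exact ⟨true, by simp [h]⟩
      · exact ⟨false, by simp [h]⟩
    have h12 := h8.trans h11
    rw [Nat.card_eq_fintype_card, Fintype.card_bool] at h12
    omega
  have hdN := hD.D_le hd
  have hPfix : ∀ p : im (N ⊔ S) r N, p ∈ P → imM W π F ≤ fx ρ (p : H) := by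
    have hmem : ∀ s : im (N ⊔ S) r N, s ∈ P → s * d * s⁻¹ * d⁻¹ ∈ P := by
      intro s hs
      have h1 : d * s⁻¹ * d⁻¹ ∈ P := (mem_normalizer_iff.1 hdN s⁻¹).1 ((P : Subgroup (im (N ⊔ S) r N)).inv_mem hs)
      have h2 := (P : Subgroup (im (N ⊔ S) r N)).mul_mem hs h1
      rwa [show s * (d * s⁻¹ * d⁻¹) = s * d * s⁻¹ * d⁻¹ by group] at h2
    have hinj : Function.Injective (fun s : P => (⟨s * d * (s : im (N ⊔ S) r N)⁻¹ * d⁻¹, hmem s s.2⟩ : P)) := by
      intro s t hst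
      have h1 : (s : im (N ⊔ S) r N) * d * (s : im (N ⊔ S) r N)⁻¹ * d⁻¹ = t * d * (t : im (N ⊔ S) r N)⁻¹ * d⁻¹ :=
        congrArg Subtype.val hst
      have h2 := mul_right_cancel h1
      have h3 : d * ((t : im (N ⊔ S) r N)⁻¹ * s) * d⁻¹ = (t : im (N ⊔ S) r N)⁻¹ * s := by
        have h4 : (t : im (N ⊔ S) r N)⁻¹ * s * d = d * ((t : im (N ⊔ S) r N)⁻¹ * s) := by
          calc (t : im (N ⊔ S) r N)⁻¹ * s * d = (t : im (N ⊔ S) r N)⁻¹ * (s * d * (s : im (N ⊔ S) r N)⁻¹) * s := by group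
            _ = (t : im (N ⊔ S) r N)⁻¹ * (t * d * (t : im (N ⊔ S) r N)⁻¹) * s := by rw [h2]
            _ = _ := by group
        rw [← h4]; group
      rcases hD.fpf d hd _ ((P : Subgroup (im (N ⊔ S) r N)).mul_mem ((P : Subgroup (im (N ⊔ S) r N)).inv_mem t.2) s.2) h3
        with h4 | h4
      · exact absurd h4 hd1
      · exact Subtype.ext (inv_mul_eq_one.mp h4).symm
    intro p hp
    obtain ⟨s, hs⟩ := (Finite.injective_iff_surjective.mp hinj) ⟨p, hp⟩
    have h1 : (s : im (N ⊔ S) r N) * d * (s : im (N ⊔ S) r N)⁻¹ * d⁻¹ = p := congrArg Subtype.val hs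
    have h2 : (s : im (N ⊔ S) r N) * d * (s : im (N ⊔ S) r N)⁻¹ ∈
        normalizer ((P : Subgroup (im (N ⊔ S) r N)) : Set (im (N ⊔ S) r N)) :=
      mul_mem (mul_mem (le_normalizer s.2) hdN) (inv_mem (le_normalizer s.2))
    have h3 : Odd (orderOf ((s : im (N ⊔ S) r N) * d * (s : im (N ⊔ S) r N)⁻¹)) := by
      have h4 : orderOf ((s : im (N ⊔ S) r N) * d * (s : im (N ⊔ S) r N)⁻¹) = orderOf d := by
        have := orderOf_injective (MulAut.conj (s : im (N ⊔ S) r N)).toMonoidHom (MulAut.conj _).injective d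
        simpa using this
      rw [h4]; exact hDodd d hd
    have h5 := hodd _ h2 h3
    have h6 := hodd _ (inv_mem hdN) (by rw [orderOf_inv]; exact hDodd d hd)
    intro v hv
    rw [← h1, coe_mul]
    exact fx_mul ρ (h5 hv) (h6 hv)
  -- (4)
  have hN : imM W π F ≤ CS (ρ.comp (im (N ⊔ S) r N).subtype)
      (normalizer ((P : Subgroup (im (N ⊔ S) r N)) : Set (im (N ⊔ S) r N))) := by
    intro v hv n hn
    obtain ⟨t, ht, d', hd', rfl⟩ := hD.norm n hn
    exact fx_mul ρ (hPfix t ht hv) (hodd d' (hD.D_le hd') (hDodd d' hd') hv)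
  have hint : imM W π F ⊓ CS (ρ.comp (im (N ⊔ S) r N).subtype) ⊤ = ⊥ := by
    rw [eq_bot_iff_forall]
    rintro v ⟨⟨w, hw, rfl⟩, h1⟩
    rw [q.π1]
    refine b.fix w hw fun n hn => ?_
    exact (q.fix_iff ⟨n, g.N_le hn⟩ w).1 (h1 ⟨_, mem_im (x := ⟨n, g.N_le hn⟩) hn⟩ (mem_top _))
  -- (5) the image of `A` is in `P`
  have hCfix : ∀ x ∈ Subgroup.centralizer (im (N ⊔ S) r N : Set H), imM W π F ≤ fx ρ x → x = 1 := by
    have h1 : (Subgroup.centralizer (im (N ⊔ S) r N : Set H) ⊓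
        ({ carrier := {x | imM W π F ≤ fx ρ x}
           mul_mem' := fun {x y} hx hy u hu => fx_mul _ (hx hu) (hy hu)
           one_mem' := fun u _ => by rw [fx_one]; trivial
           inv_mem' := fun {x} hx u hu => fx_inv _ (hx hu) } : Subgroup H) : Subgroup H) = ⊥ := by
      refine g.trivial_of ?_ ?_
      · rintro n hn x ⟨hx, hx'⟩
        have h2 := mem_centralizer_iff.1 hx (r n) (mem_im hn)
        rw [mul_assoc, ← h2, inv_mul_cancel_left]
        exact ⟨hx, hx'⟩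
      · rintro v hv x ⟨hx, hx'⟩
        exact hx' hv
    intro x hx hx'
    have h2 : x ∈ (⊥ : Subgroup H) := by
      rw [← h1]
      exact ⟨hx, hx'⟩
    exact mem_bot.mp h2
  have hAP : ∀ x : (N ⊔ S : Subgroup G), (x : G) ∈ A → ∃ j : im (N ⊔ S) r N, j ∈ P ∧ (j : H) = r x := by
    intro x hx
    obtain ⟨j, hj, hc⟩ := hin (r x) (mem_im (b.A_le hx))
    refine ⟨j, hj, ?_⟩
    have h1 : imM W π F ≤ fx ρ (r x) := by
      rintro _ ⟨w, hw, rfl⟩
      show ρ (r x) (π w) = π w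
      rw [q.fix_iff]
      have h4 : (w : G) * x = x * w := mem_centralizer_iff.1 (b.A_cent hx) w hw
      rw [← h4, mul_inv_cancel_right, mul_inv_cancel]
      exact one_mem _
    have h2 := hCfix _ hc fun v hv => fx_mul ρ (fx_inv ρ (hPfix j hj hv)) (h1 hv)
    exact inv_mul_eq_one.mp h2
  have hcA := g.card_im_A' (by
    intro x hx hxc
    obtain ⟨j, hj, hjx⟩ := hAP x hx
    have h1 : r x ∈ Subgroup.centralizer (im (N ⊔ S) r N : Set H) ⊓ im (N ⊔ S) r N :=
      ⟨g.centralizer_of_mem_cq hxc, by rw [← hjx]; exact j.2⟩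
    rw [g.inf_centralizer] at h1
    exact mem_bot.mp h1)
  obtain ⟨m, hm⟩ := (IsPGroup.iff_card (p := 2)).1 P.isPGroup'
  have ham : a ≤ m := by
    have h1 : Nat.card (im (N ⊔ S) r A) ≤ Nat.card P := by
      have h2 : im (N ⊔ S) r A ≤ (P : Subgroup (im (N ⊔ S) r N)).map (im (N ⊔ S) r N).subtype := by
        rintro _ ⟨x, hx, rfl⟩
        obtain ⟨j, hj, hjx⟩ := hAP x hx
        exact ⟨j, hj, hjx⟩
      have h3 := Subgroup.card_le_of_le h2
      rwa [card_map_of_injective (im (N ⊔ S) r N).subtype_injective] at h3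
    rw [hcA] at h1
    have h4 : 2 ^ a ≤ 2 ^ m := by rw [← hm]; exact h1
    exact le_of_pow_le h4
  have hm6 : 6 ≤ m := by
    have h1 := T1SzFacts.szMore hKs P
    have h2 := h1.card_eq
    have h3 := h1.eight_le
    have h4 : 2 ^ 6 ≤ 2 ^ m := by
      rw [← hm]
      have h5 : Nat.card P = Nat.card (P : Subgroup (im (N ⊔ S) r N)) := rfl
      rw [h2]
      nlinarith
    exact le_of_pow_le h4
  obtain ⟨u, hu, hu1⟩ : ∃ u ∈ im (N ⊔ S) r A, u ≠ 1 := by
    by_contra hcon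
    push Not at hcon
    have h1 : im (N ⊔ S) r A = ⊥ := (eq_bot_iff_forall _).mpr hcon
    rw [h1, card_bot] at hcA
    have h3 := Nat.one_lt_two_pow (n := a) (by have := b.a_pos; omega)
    omega
  obtain ⟨x, hx, rfl⟩ := hu
  obtain ⟨j, hj, hjx⟩ := hAP x hx
  have hfin := sz_stb hKs P g.sq (ρ.comp (im (N ⊔ S) r N).subtype) hN hint hj (by
    rintro rfl
    exact hu1 hjx.symm)
  have hV0 : Nat.card (imM W π F) = 2 ^ f := by
    have h1 := q.card_imM b.YF b.FW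
    rw [b.card_F] at h1
    exact Nat.eq_of_mul_eq_mul_right Nat.card_pos h1
  have hidx : (fx (ρ.comp (im (N ⊔ S) r N).subtype) j).index ≤ 2 ^ (a' + c) := by
    have h1 : fx (ρ.comp (im (N ⊔ S) r N).subtype) j = fx ρ (r x) := by rw [← hjx]; rfl
    rw [h1]
    have h2 : CS ρ (im (N ⊔ S) r A) ≤ fx ρ (r x) := fun v hv => hv _ (mem_im hx)
    refine (Nat.le_of_dvd (Nat.pos_of_ne_zero index_ne_zero_of_finite) (index_dvd_of_le h2)).trans ?_
    exact (q.index_le (b.A_le.trans Gx.S_le)).trans b.idx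
  have h1 : (2 ^ f) ^ 2 ^ m ≤ (2 ^ (a' + c)) ^ 2 := by
    have h2 := hfin.trans (Nat.pow_le_pow_left hidx 2)
    rw [hV0] at h2
    have h3 : Nat.card P = 2 ^ m := hm
    rwa [h3] at h2
  rw [← pow_mul, ← pow_mul] at h1
  have h2 := le_of_pow_le h1
  exact sz_num b.f_two b.a'_le b.c_le ham hm6 (by omega)

end Cfsg.Agent.OddCyclic.EmpB
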