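import Cfsg.Agent.OddCyclic.PGLTorus
import Cfsg.Agent.LFourR.Mat2

/-!
# Elements of `PSL₂(q)`, `q` odd, inverted by a given involution of `PGL₂(q)`
-/

set_option autoImplicit false
set_option linter.unusedSectionVars false

namespace Cfsg.Agent.OddCyclic.FFPslMat

open Matrix Cfsg.Agent.Lib.SL2Mat Cfsg.Agent.GH.L2Aut

variable {F : Type*} [Field F]

local notation "SL2" => Matrix.SpecialLinearGroup (Fin 2) F
local notation "M2" => Matrix (Fin 2) (Fin 2) F

/-- an anisotropic vector orthogonal to `M` -/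
theorem exists_orth (h2 : (2 : F) ≠ 0) (p q r : F) :
    ∃ x y z : F, 2 * p * x + q * z + r * y = 0 ∧ x * x + y * z ≠ 0 := by
  by_cases hp : p = 0
  · refine ⟨1, 0, 0, by rw [hp]; ring, by simp⟩
  · have h2p : 2 * p ≠ 0 := mul_ne_zero h2 hp
    by_cases hr : r = 0
    · by_cases hq : q = 0
      · exact ⟨0, 1, 1, by rw [hr, hq]; ring, by simp⟩
      · refine ⟨-(q / (2 * p)), 0, 1, ?_, ?_⟩
        · field_simp; ring
        · rw [zero_mul, add_zero]
          exact mul_ne_zero (neg_ne_zero.2 (div_ne_zero hq h2p)) (neg_ne_zero.2 (div_ne_zero hq h2p))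
    · refine ⟨-(r / (2 * p)), 1, 0, ?_, ?_⟩
      · field_simp; ring
      · rw [mul_zero, add_zero]
        exact mul_ne_zero (neg_ne_zero.2 (div_ne_zero hr h2p)) (neg_ne_zero.2 (div_ne_zero hr h2p))

/-- elements of trace `t ≠ ±2` orthogonal to `M` -/
theorem inv_exists [Finite F] (h2 : (2 : F) ≠ 0) {M : M2} (hM : M.trace = 0) (hd : M.det ≠ 0) (t : F) :
    ∃ x : SL2, ent x 0 0 + ent x 1 1 = t ∧ (M * x.1).trace = 0 := by
  classical
  have := Fintype.ofFinite F
  have hq : Odd (Fintype.card F) := by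
    rw [Nat.odd_iff, ← Nat.card_eq_fintype_card]
    exact Cfsg.Agent.Lib.PSL2Torus.odd_card h2
  rw [Matrix.trace_fin_two] at hM
  rw [Matrix.det_fin_two] at hd
  set p := M 0 0 with hp
  set q := M 0 1 with hq'
  set r := M 1 0 with hr
  have h11 : M 1 1 = -p := by linear_combination hM
  have hne : p * p + q * r ≠ 0 := by
    intro h
    apply hd
    rw [h11]
    linear_combination -h
  obtain ⟨x, y, z, h1, h3⟩ := exists_orth h2 p q r
  obtain ⟨α, β, h4⟩ := Cfsg.Agent.LFourR.Mat2.exists_norm hq (-(p * p + q * r)) ((t * t / 4 - 1) / (x * x + y * z))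
    (neg_ne_zero.2 hne)
  have h44 : (4 : F) ≠ 0 := by
    have : (4 : F) = 2 * 2 := by norm_num
    rw [this]; exact mul_ne_zero h2 h2
  have h5 : (x * x + y * z) * (α ^ 2 - (p * p + q * r) * β ^ 2) = t * t / 4 - 1 := by
    have : α ^ 2 - (p * p + q * r) * β ^ 2 = (t * t / 4 - 1) / (x * x + y * z) := by rw [← h4]; ring
    rw [this]
    exact mul_div_cancel₀ _ h3
  have h6 : t / 2 * (t / 2) = t * t / 4 := by field_simp; ring
  have hdet : (t / 2 + α * x + β * (p * x + q * z)) * (t / 2 - α * x - β * (p * x + q * z)) -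
      (α * y + β * (p * y - q * x)) * (α * z + β * (r * x - p * z)) = 1 := by
    linear_combination h6 - h5 - (α * β * x + β * β * (p * x + q * z)) * h1
  refine ⟨mk (t / 2 + α * x + β * (p * x + q * z)) (α * y + β * (p * y - q * x)) (α * z + β * (r * x - p * z))
    (t / 2 - α * x - β * (p * x + q * z)) hdet, ?_, ?_⟩
  · rw [mk_00, mk_11]
    field_simp
    ring
  · have e00 : (mk (t / 2 + α * x + β * (p * x + q * z)) (α * y + β * (p * y - q * x)) (α * z + β * (r * x - p * z))
      (t / 2 - α * x - β * (p * x + q * z)) hdet).1 0 0 = t / 2 + α * x + β * (p * x + q * z) := rfl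
    have e01 : (mk (t / 2 + α * x + β * (p * x + q * z)) (α * y + β * (p * y - q * x)) (α * z + β * (r * x - p * z))
      (t / 2 - α * x - β * (p * x + q * z)) hdet).1 0 1 = α * y + β * (p * y - q * x) := rfl
    have e10 : (mk (t / 2 + α * x + β * (p * x + q * z)) (α * y + β * (p * y - q * x)) (α * z + β * (r * x - p * z))
      (t / 2 - α * x - β * (p * x + q * z)) hdet).1 1 0 = α * z + β * (r * x - p * z) := rfl
    have e11 : (mk (t / 2 + α * x + β * (p * x + q * z)) (α * y + β * (p * y - q * x)) (α * z + β * (r * x - p * z))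
      (t / 2 - α * x - β * (p * x + q * z)) hdet).1 1 1 = t / 2 - α * x - β * (p * x + q * z) := rfl
    rw [Matrix.trace_fin_two, Matrix.mul_apply, Matrix.mul_apply, Fin.sum_univ_two, Fin.sum_univ_two, e00, e01, e10, e11,
      ← hp, ← hq', ← hr, h11]
    linear_combination (α + β * p) * h1

/-- `M` of trace zero inverts `x` if `tr(Mx) = 0` -/
theorem mul_eq {M : M2} (hM : M.trace = 0) {x : SL2} (h : (M * x.1).trace = 0) : M * x.1 = (x⁻¹).1 * M := by
  rw [Matrix.trace_fin_two] at hM h
  rw [Matrix.mul_apply, Matrix.mul_apply, Fin.sum_univ_two, Fin.sum_univ_two] at h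
  have h11 : M 1 1 = - M 0 0 := by linear_combination hM
  have e : (x⁻¹).1 = !![x.1 1 1, -x.1 0 1; -x.1 1 0, x.1 0 0] := by
    rw [Matrix.SpecialLinearGroup.coe_inv, Matrix.adjugate_fin_two]
  rw [e]
  ext i j
  rw [Matrix.mul_apply, Matrix.mul_apply, Fin.sum_univ_two, Fin.sum_univ_two]
  rw [h11] at h
  fin_cases i <;> fin_cases j
  · simp; linear_combination h
  · simp [h11]; ring
  · simp [h11]; ring
  · simp [h11]; linear_combination h

variable {L : Type*} [Group L] (R : Cfsg.Agent.GH.L2Aut.Rep F L) [Finite F]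

theorem gl_inv {g : GL (Fin 2) F} (hg : g.1.trace = 0) {x : SL2} (h : (g.1 * x.1).trace = 0) :
    R.gl g (R.π x) = (R.π x)⁻¹ := by
  rw [R.gl_apply, ← map_inv]
  congr 1
  apply Subtype.ext
  rw [conjGL_val]
  show g.1 * x.1 * g⁻¹.1 = (x⁻¹).1
  rw [mul_eq hg h, Matrix.mul_assoc]
  have : g.1 * g⁻¹.1 = 1 := by rw [← Units.val_mul, mul_inv_cancel]; rfl
  rw [this, Matrix.mul_one]

/-- traceless matrices with `tr(MN) = 0` anticommute -/
theorem anticomm {M N : M2} (hM : M.trace = 0) (hN : N.trace = 0) (h : (M * N).trace = 0) : M * N = -(N * M) := by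
  rw [Matrix.trace_fin_two] at hM hN h
  rw [Matrix.mul_apply, Matrix.mul_apply, Fin.sum_univ_two, Fin.sum_univ_two] at h
  have hM11 : M 1 1 = - M 0 0 := by linear_combination hM
  have hN11 : N 1 1 = - N 0 0 := by linear_combination hN
  rw [hM11, hN11] at h
  ext i j
  rw [Matrix.neg_apply, Matrix.mul_apply, Matrix.mul_apply, Fin.sum_univ_two, Fin.sum_univ_two]
  fin_cases i <;> fin_cases j
  · simp; linear_combination h
  · simp [hM11, hN11]; ring
  · simp [hM11, hN11]; ring
  · simp [hM11, hN11]; linear_combination h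

/-- there are no four pairwise anticommuting traceless matrices `A, B, C, AB` -/
theorem no_three {A B C : GL (Fin 2) F} (hA : A.1.trace = 0) (hB : B.1.trace = 0) (hC : C.1.trace = 0)
    (hAB : (A.1 * B.1).trace = 0) (hAC : (A.1 * C.1).trace = 0) (hBC : (B.1 * C.1).trace = 0)
    (hABC : (A.1 * B.1 * C.1).trace = 0) (h2 : (2 : F) ≠ 0) : False := by
  have h1 := anticomm hA hC hAC
  have h3 := anticomm hB hC hBC
  have h4 := anticomm hAB hC hABC
  have h5 : A.1 * B.1 * C.1 = C.1 * (A.1 * B.1) := by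
    rw [Matrix.mul_assoc, h3, Matrix.mul_neg, ← Matrix.mul_assoc, h1, Matrix.neg_mul, neg_neg, Matrix.mul_assoc]
  rw [h5] at h4
  have h6 : (2 : F) • (C.1 * (A.1 * B.1)) = 0 := by
    rw [two_smul]
    nth_rewrite 1 [h4]
    exact neg_add_cancel _
  have h7 : C.1 * (A.1 * B.1) = 0 := (smul_eq_zero.1 h6).resolve_left h2
  have h8 := congrArg Matrix.det h7
  rw [Matrix.det_mul, Matrix.det_mul, Matrix.det_zero] at h8
  have hn : ∀ g : GL (Fin 2) F, g.1.det ≠ 0 := fun g => (Matrix.GeneralLinearGroup.det g).ne_zero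
  exact mul_ne_zero (hn C) (mul_ne_zero (hn A) (hn B)) h8

/-- an involution of split type inverts a transvection -/
theorem split_inv {g : GL (Fin 2) F} (hg : g.1.trace = 0) {s : F} (hs : s * s = -g.1.det) :
    ∃ u : SL2, R.π u ≠ 1 ∧ (∀ n : ℕ, (n : F) = 0 → u ^ n = 1) ∧ R.gl g (R.π u) = (R.π u)⁻¹ := by
  have h2 := R.two
  have hd0 : g.1.det ≠ 0 := (Matrix.GeneralLinearGroup.det g).ne_zero
  have hd := hs
  rw [Matrix.trace_fin_two] at hg
  rw [Matrix.det_fin_two] at hd
  set p := g.1 0 0 with hp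
  set q := g.1 0 1 with hq'
  set r := g.1 1 0 with hr
  have h11 : g.1 1 1 = -p := by linear_combination hg
  rw [h11] at hd
  have hd' : s * s = p * p + q * r := by linear_combination hd
  -- the nilpotent matrix `(x y; z -x)` orthogonal to `g`
  obtain ⟨x, y, z, hne, h1, h3⟩ : ∃ x y z : F, ¬ (x = 0 ∧ y = 0 ∧ z = 0) ∧ 2 * p * x + q * z + r * y = 0 ∧
      x * x + y * z = 0 := by
    by_cases hr0 : r = 0
    · exact ⟨0, 1, 0, by simp, by rw [hr0]; ring, by ring⟩
    · refine ⟨-(r * (p + s)), (p + s) * (p + s), -(r * r), ?_, ?_, by ring⟩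
      · rintro ⟨-, -, h⟩
        exact mul_ne_zero hr0 hr0 (neg_eq_zero.1 h)
      · linear_combination r * hd'
  have hdet : (1 + x) * (1 - x) - y * z = 1 := by linear_combination -h3
  let u : SL2 := mk (1 + x) y z (1 - x) hdet
  let N : M2 := !![x, y; z, -x]
  have huN : u.1 = 1 + N := by
    ext i j
    fin_cases i <;> fin_cases j
    · show 1 + x = (1 : M2) 0 0 + x
      simp
    · show y = (1 : M2) 0 1 + y
      simp
    · show z = (1 : M2) 1 0 + z
      simp
    · show 1 - x = (1 : M2) 1 1 + -x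
      simp [sub_eq_add_neg]
  have hNN : N * N = 0 := by
    ext i j
    rw [Matrix.mul_apply, Fin.sum_univ_two]
    fin_cases i <;> fin_cases j
    · show x * x + y * z = 0
      exact h3
    · show x * y + y * -x = 0
      ring
    · show z * x + -x * z = 0
      ring
    · show z * y + -x * -x = 0
      linear_combination h3
  refine ⟨u, ?_, ?_, ?_⟩
  · intro h
    rw [R.ker] at h
    rcases h with h | h
    · apply hne
      refine ⟨?_, ?_, ?_⟩
      · have := congrArg (fun w => ent w 0 0) h
        simp only [u, mk_00, ent_one_00] at this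
        linear_combination this
      · have := congrArg (fun w => ent w 0 1) h
        simpa only [u, mk_01, ent_one_01] using this
      · have := congrArg (fun w => ent w 1 0) h
        simpa only [u, mk_10, ent_one_10] using this
    · have e0 : 1 + x = -1 := congrArg (fun w => ent w 0 0) h
      have e1 : 1 - x = -1 := congrArg (fun w => ent w 1 1) h
      have e2 : (2 : F) * 2 = 0 := by linear_combination e0 + e1
      rcases mul_eq_zero.1 e2 with h | h <;> exact h2 h
  · intro n hn
    apply Subtype.ext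
    rw [Matrix.SpecialLinearGroup.coe_pow]
    show u.1 ^ n = 1
    rw [huN, Cfsg.Agent.OddCyclic.PGLTorus.one_add_pow hNN, hn, zero_smul, add_zero]
  · refine gl_inv R (by rw [Matrix.trace_fin_two]; exact hg) ?_
    rw [Matrix.trace_fin_two, Matrix.mul_apply, Matrix.mul_apply, Fin.sum_univ_two, Fin.sum_univ_two]
    show p * (1 + x) + q * z + (r * y + g.1 1 1 * (1 - x)) = 0
    rw [h11]
    linear_combination h1

/-- trace one: order three in `L` -/
theorem order_three_one (h3 : (3 : F) ≠ 0) {x : SL2} (h : ent x 0 0 + ent x 1 1 = 1) : R.π x ^ 3 = 1 ∧ R.π x ≠ 1 := by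
  have h2 := R.two
  have hd := det_eq x
  constructor
  · rw [← map_pow, R.ker]
    right
    have e11 : ent x 1 1 = 1 - ent x 0 0 := by linear_combination h
    rw [e11] at hd
    have key : x * x * x = -1 := by
      refine ext_ent ?_ ?_ ?_ ?_
      · show _ = -(1 : F)
        rw [ent_mul, ent_mul, ent_mul, e11]
        linear_combination (-1 - ent x 0 0) * hd
      · show _ = -(0 : F)
        rw [ent_mul, ent_mul, ent_mul, e11]
        linear_combination (-ent x 0 1) * hd
      · show _ = -(0 : F)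
        rw [ent_mul, ent_mul, ent_mul, e11]
        linear_combination (-ent x 1 0) * hd
      · show _ = -(1 : F)
        rw [ent_mul, ent_mul, ent_mul, e11]
        linear_combination (-2 + ent x 0 0) * hd
    rw [pow_succ, pow_two, key]
  · intro h4
    rw [R.ker] at h4
    rcases h4 with rfl | rfl
    · rw [ent_one_00, ent_one_11] at h
      have : (1 : F) = 0 := by linear_combination h
      exact one_ne_zero this
    · have h5 : -(1 : F) + -1 = 1 := h
      apply h3
      linear_combination -h5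

end Cfsg.Agent.OddCyclic.FFPslMat
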