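import Cfsg.Agent.OddCyclic.EmpNSMain
import Cfsg.Agent.OddCyclic.EmpE.Struct

/-!
# (Empty): `V` is an FF-module (assembly of sections 4 and 5 of blueprints/S0342-Empty-NS-helper347.md)

* `Noo ρ Θ` : no over-offender in `Θ`;
* `EOut` : output of [E];
* `false_of` : `ENS S`, (*), (NFF) is impossible, given [E] and [F].
-/

set_option autoImplicit false
set_option linter.unusedSectionVars false

namespace Cfsg.Agent.OddCyclic.EmpNSEnd

open Subgroup Cfsg Cfsg.Agent.ZN Cfsg.Agent.ZN.ChoiceBase Cfsg.Agent.ZN.ChoiceSit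
open Cfsg.Agent.MinSimple Cfsg.Agent.MinSimple.EmptyTI Cfsg.Agent.MinSimple.EmptySix
open Cfsg.Agent.MinSimple.EmptyE.Closed (LL CC cl mem_cl cl_eq cl_le vv_comm vv_sq vv_mul_self vv_inv
  isPGroup_vv vv_le_jj vv_le jj_le_centralizer_vv conj_mem_vv cj_vv)
open Cfsg.Agent.OddCyclic.EmpFrame
open Cfsg.Agent.OddCyclic.EmpNSBase
open Cfsg.Agent.OddCyclic.EmpNSCrit Cfsg.Agent.OddCyclic.EmpNSPair Cfsg.Agent.OddCyclic.EmpNSRep
open Cfsg.Agent.OddCyclic.EmpNSDefs Cfsg.Agent.OddCyclic.EmpNSAct Cfsg.Agent.OddCyclic.EmpNSDir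
open Cfsg.Agent.OddCyclic.EmpNSMain
open Cfsg.Agent.OddCyclic.T1Module (CS mem_CS)
open Cfsg.Agent.OddCyclic.KZeroCongr (KS)
open Cfsg.Agent.OddCyclic.EmpE.Struct (Simp)

universe u v

/-- no over-offender in `Θ` -/
def Noo {H : Type u} [Group H] {M : Type v} [CommGroup M] (ρ : H →* MulAut M) (Θ : Subgroup H) : Prop :=
  ∀ B : Subgroup H, B ≤ Θ → (∀ b ∈ B, b * b = 1) →
    (∀ b ∈ B, ∀ b' ∈ B, ∀ w : M, ρ b' (ρ b w * w⁻¹) = ρ b w * w⁻¹) → Nat.card B ≤ (CS ρ B).index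

/-- `K ≃ SL₂(F)` normal in `H`, `W/C_W(K)` natural -/
structure NatCase {H : Type u} [Group H] {M : Type v} [CommGroup M] (ρ : H →* MulAut M) (Y X C Θ K : Subgroup H)
    (F : Type) [Field F] [Fintype F] : Prop where
  simp : Simp Y X C K
  four : 4 ≤ Fintype.card F
  iso : Nonempty (Matrix.SpecialLinearGroup (Fin 2) F ≃* K)
  le : ∀ B : Subgroup H, B ≤ Θ → (∀ b ∈ B, b * b = 1) → B ≤ K ∧ Nat.card B ≤ Fintype.card F

/-- output of [E] -/
def EOut {H : Type u} [Group H] {M : Type v} [CommGroup M] (ρ : H →* MulAut M) (Y X C Θ : Subgroup H) : Prop :=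
  (∀ (B A : Subgroup H) (N : Subgroup M) (g : H), Dir ρ X C Θ B A N g → Nat.card B ≤ 2) ∨
  ∃ (K : Subgroup H) (F : Type) (_ : Field F) (_ : Fintype F) (_ : CharP F 2), NatCase ρ Y X C Θ K F ∧
    (∀ (B A : Subgroup H) (N : Subgroup M) (g : H), Dir ρ X C Θ B A N g → (CS ρ K).index = Fintype.card F ^ 2)

variable {G : Type u} [Group G] [Finite G] {S : Sylow 2 G}

theorem false_of (h : ENS S) (ks : KS G)
    (star : ∀ g : G, vv (S : Subgroup G) ⊓ cj g (vv (S : Subgroup G)) ≠ ⊥ →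
      cj g (vv (S : Subgroup G)) ≤ centralizer (vv (S : Subgroup G) : Set G)) (nff : NFF (vv (S : Subgroup G)))
    (hE : ∀ (H : Type u) (_ : Group H) (_ : Finite H) (M : Type u) (_ : CommGroup M) (_ : Finite M)
      (ρ : H →* MulAut M) (Y X C Θ J : Subgroup H) (W₀ : Subgroup M), HW ρ Y X C Θ J W₀ → Noo ρ Θ ∧ EOut ρ Y X C Θ)
    (hF : ∀ (F T P Θ : Subgroup G) (g : G) (H : Type u) (_ : Group H) (_ : Finite H) (M : Type u) (_ : CommGroup M)
      (_ : Finite M) (ρ : H →* MulAut M) (r : P →* H) (π : ww (S : Subgroup G) F T P →* M), FP S F T P →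
      Rp P (ww (S : Subgroup G) F T P) F ρ r π → Crit S F T P Θ g →
      HW ρ (im r (centralizer (vv (S : Subgroup G) : Set G) ⊔ T)) (im r (LL (S : Subgroup G)))
        (im r (centralizer (F : Set G))) (im r Θ) (im r (jj (S : Subgroup G))) (imw π (vp (S : Subgroup G) F T)) →
      ∀ (K : Subgroup H) (F' : Type) (_ : Field F') (_ : Fintype F') (_ : CharP F' 2),
      NatCase ρ (im r (centralizer (vv (S : Subgroup G) : Set G) ⊔ T)) (im r (LL (S : Subgroup G)))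
        (im r (centralizer (F : Set G))) (im r Θ) K F' → (CS ρ K).index = Fintype.card F' ^ 2 →
      2 * F.relIndex (vv (S : Subgroup G)) ≤ Fintype.card F' ^ 2 → False) : False := by
  obtain ⟨F, T, P, fp⟩ := exists_fp h ks star
  obtain ⟨Θ, g, c⟩ := exists_crit fp
  obtain ⟨M, _, _, H, _, _, ρ, r, π, R⟩ := exists_rp (FP.P_le_ww (F := F) (T := T) (S := S)) fp.P_le_N
    (fun a ha b hb => fp.ww_comm ha hb)
  have hw := mk_hw fp R c.Θ_le c.Θ_norm c.cop
  obtain ⟨noo, out⟩ := hE H _ inferInstance M _ inferInstance ρ _ _ _ _ _ _ hw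
  obtain ⟨x, y, d⟩ := exists_pairData fp nff c R noo
  have h1 := d.ineq fp nff R
  have h4 := four_le fp nff
  obtain ⟨A, N, a, d₁⟩ := d.dir₁
  obtain ⟨A', N', a', d₂⟩ := d.dir₂
  rcases out with h2 | ⟨K, F', _, _, _, nat, hidx⟩
  · have h5 := h2 _ _ _ _ d₁
    have h6 := h2 _ _ _ _ d₂
    rcases h1 with h1 | h1
    · omega
    · have h7 := Nat.mul_le_mul h5 h6
      omega
  · refine hF F T P Θ g H _ inferInstance M _ inferInstance ρ r π fp R c hw K F' _ _ inferInstance nat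
      (hidx _ _ _ _ d₁) ?_
    have h5 := (nat.le _ d₁.BΘ d₁.Bsq).2
    have h6 := (nat.le _ d₂.BΘ d₂.Bsq).2
    rcases h1 with h1 | h1
    · have h7 := nat.four
      rw [h1, sq]
      exact Nat.mul_le_mul (by omega) h5
    · rw [sq]
      exact h1.trans (Nat.mul_le_mul h5 h6)

end Cfsg.Agent.OddCyclic.EmpNSEnd
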