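import Cfsg.Agent.OddCyclic.BTwoLin.SocleGen
import Cfsg.Agent.OddCyclic.COneXL

/-!
# (Empty), section 6 of blueprints/S0342-Empty-NS-helper347.md: the FF list, abstract part

`Gen ρ T` : `H` acts faithfully on the elementary abelian 2-group `V`, `T` is a Sylow 2-subgroup of `H`,
`V = ⟨C_V(T)^H⟩`, and (`bad`) every `1 ≠ z ∈ C_V(T)` is contained in a `C_H(z)`-invariant subgroup `C ≥ C_V(T)`
containing no `H`-invariant subgroup `≠ 1` (`C = cl z`).

* `Gen.irr` : (IRR): `K ⊴ H`, `K ≠ 1`, and `Y C_V(K) = V` for every `K`-invariant `Y ≥ C_V(T)`: then `C_V(K) = 1`.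
-/

set_option autoImplicit false
set_option linter.unusedSectionVars false

namespace Cfsg.Agent.OddCyclic.EmpFFAbs

open Subgroup Cfsg.Agent.OddCyclic.T1Module Cfsg.Agent.OddCyclic.T1Defs Cfsg.Agent.LieExceptional.CITDefs
  Cfsg.Agent.OddCyclic.PumpMain Cfsg.Agent.OddCyclic.FFBasic Cfsg.Agent.OddCyclic.FFStruct
  Cfsg.Agent.OddCyclic.FFRed Cfsg.Agent.OddCyclic.FFSl2 Cfsg.Agent.OddCyclic.RedFFDefs
  Cfsg.Agent.OddCyclic.BTwoLin.SocleGen

variable {H V : Type*} [Group H] [CommGroup V] {ρ : H →* MulAut V} {T A : Subgroup H}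

/-- the setting -/
structure Gen (ρ : H →* MulAut V) (T : Subgroup H) : Prop where
  sq : ∀ v : V, v * v = 1
  inj : Function.Injective ρ
  two : IsPGroup 2 T
  index : ¬ 2 ∣ T.index
  gen : ∀ W : Subgroup V, CS ρ T ≤ W → (∀ h, ∀ w ∈ W, ρ h w ∈ W) → W = ⊤
  bad : ∀ z ∈ CS ρ T, z ≠ 1 → ∃ C : Subgroup V, CS ρ T ≤ C ∧ (∀ h, ρ h z = z → ∀ v ∈ C, ρ h v ∈ C) ∧
    ∀ W : Subgroup V, W ≤ C → (∀ h, ∀ w ∈ W, ρ h w ∈ W) → W = ⊥

theorem CS_inv {K : Subgroup H} [hK : K.Normal] (h : H) {v : V} (hv : v ∈ CS ρ K) : ρ h v ∈ CS ρ K := by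
  intro k hk
  have h1 := hv (h⁻¹ * k * h) (by have := hK.conj_mem k hk h⁻¹; rwa [inv_inv] at this)
  calc ρ k (ρ h v) = ρ h (ρ (h⁻¹ * k * h) v) := by
        rw [← MulAut.mul_apply, ← MulAut.mul_apply, ← map_mul, ← map_mul]
        congr 2; group
    _ = ρ h v := by rw [h1]

/-- a 2-group acting on a 2-group `≠ 1` has a fixed point `≠ 1` -/
theorem exists_fixed [Finite V] (hV : ∀ v : V, v * v = 1) (hT : IsPGroup 2 T) {W : Subgroup V} (hW : W ≠ ⊥)
    (hst : ∀ t ∈ T, ∀ w ∈ W, ρ t w ∈ W) : ∃ z ∈ W, z ∈ CS ρ T ∧ z ≠ 1 := by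
  have : Fact (Nat.Prime 2) := ⟨Nat.prime_two⟩
  let _ : MulAction T W :=
    { smul := fun t w => ⟨ρ t w, hst t t.2 w w.2⟩
      one_smul := fun w => Subtype.ext (by
        change ρ ((1 : T) : H) w = w
        rw [Subgroup.coe_one, map_one]; rfl)
      mul_smul := fun s t w => Subtype.ext (by
        change ρ ((s * t : T) : H) w = ρ s (ρ t w)
        rw [Subgroup.coe_mul, map_mul]; rfl) }
  have h1 : 2 ∣ Nat.card W := by
    obtain ⟨n, hn⟩ := (IsPGroup.iff_card (p := 2)).1 ((isPGroup_two hV).to_subgroup W)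
    rw [hn]
    refine dvd_pow_self 2 ?_
    rintro rfl
    rw [pow_zero, Subgroup.card_eq_one] at hn
    exact hW hn
  have h2 : (1 : W) ∈ MulAction.fixedPoints T W := by
    intro t
    apply Subtype.ext
    change ρ (t : H) 1 = 1
    rw [map_one]
  obtain ⟨z, hz, hz1⟩ := hT.exists_fixed_point_of_prime_dvd_card_of_fixed_point W h1 h2
  exact ⟨z, z.2, fun t ht => congrArg Subtype.val (hz ⟨t, ht⟩), fun h => hz1 (Subtype.ext h.symm)⟩

namespace Gen

variable (h : Gen ρ T)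

include h

theorem ne {k : H} (hk : k ≠ 1) : ∃ v, ρ k v ≠ v := by
  by_contra hcon
  push Not at hcon
  apply hk
  apply h.inj
  rw [map_one]
  ext v
  exact hcon v

theorem CS_ne_top {K : Subgroup H} (hK : K ≠ ⊥) : CS ρ K ≠ ⊤ := by
  intro h1
  obtain ⟨⟨k, hk⟩, hk1⟩ := Subgroup.ne_bot_iff_exists_ne_one.1 hK
  obtain ⟨v, hv⟩ := h.ne (k := k) fun h => hk1 (Subtype.ext h)
  have h2 : v ∈ CS ρ K := by rw [h1]; trivial
  exact hv (h2 k hk)

/-- **(IRR)** -/
theorem irr [Finite V] {K : Subgroup H} [hK : K.Normal] (hK1 : K ≠ ⊥)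
    (hirr : ∀ Y : Subgroup V, CS ρ T ≤ Y → (∀ k ∈ K, ∀ v ∈ Y, ρ k v ∈ Y) → Y ⊔ CS ρ K = ⊤) : CS ρ K = ⊥ := by
  by_contra hne
  obtain ⟨z, hz, hzT, hz1⟩ := exists_fixed h.sq h.two hne (fun t _ w hw => CS_inv t hw)
  obtain ⟨C, hC1, hC2, hC3⟩ := h.bad z hzT hz1
  have hCK : ∀ k ∈ K, ∀ v ∈ C, ρ k v ∈ C := fun k hk => hC2 k (hz k hk)
  have h1 := hirr C hC1 hCK
  -- `[V, K]`
  let W : Subgroup V := closure {w | ∃ k ∈ K, ∃ v, w = ρ k v * v⁻¹}
  have hWC : W ≤ C := by
    rw [closure_le]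
    rintro _ ⟨k, hk, v, rfl⟩
    have h2 : v ∈ C ⊔ CS ρ K := by rw [h1]; trivial
    rw [Subgroup.mem_sup] at h2
    obtain ⟨c, hc, d, hd, rfl⟩ := h2
    have h3 : ρ k (c * d) * (c * d)⁻¹ = ρ k c * c⁻¹ := by
      rw [map_mul, hd k hk, mul_inv]
      rw [mul_mul_mul_comm, mul_inv_cancel, mul_one]
    rw [h3]
    exact mul_mem (hCK k hk c hc) (inv_mem hc)
  have hWinv : ∀ g, ∀ w ∈ W, ρ g w ∈ W := by
    intro g w hw
    have h2 : W ≤ W.comap (ρ g : V ≃* V).toMonoidHom := by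
      rw [closure_le]
      rintro _ ⟨k, hk, v, rfl⟩
      change ρ g (ρ k v * v⁻¹) ∈ W
      refine subset_closure ⟨g * k * g⁻¹, hK.conj_mem k hk g, ρ g v, ?_⟩
      rw [map_mul (ρ g), map_inv (ρ g), ← MulAut.mul_apply, ← MulAut.mul_apply, ← map_mul, ← map_mul,
        inv_mul_cancel_right]
    exact h2 hw
  have h2 := hC3 W hWC hWinv
  apply h.CS_ne_top hK1
  rw [eq_top_iff]
  intro v _ k hk
  have h3 : ρ k v * v⁻¹ ∈ W := subset_closure ⟨k, hk, v, rfl⟩
  rw [h2, Subgroup.mem_bot, mul_inv_eq_one] at h3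
  exact h3

/-- `O₂(H) = 1` -/
theorem o2 {D : Subgroup H} [hD : D.Normal] (h2 : IsPGroup 2 D) [Finite H] : D = ⊥ := by
  by_contra hne
  have : Fact (Nat.Prime 2) := ⟨Nat.prime_two⟩
  have hDT : D ≤ T := by
    obtain ⟨P, hP⟩ := h.two.exists_le_sylow
    have hTP : T = P := by
      refine Subgroup.eq_of_le_of_card_ge hP ?_
      have h3 := (P : Subgroup H).index_dvd_of_le (H := T) hP
      have h4 := T.relIndex_mul_index (K := (P : Subgroup H)) hP
      have h5 : T.relIndex P = 1 := by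
        obtain ⟨n, hn⟩ := (IsPGroup.iff_card (p := 2)).1 P.isPGroup'
        have h6 : T.relIndex P ∣ 2 ^ n := by
          rw [← hn]; exact Subgroup.relIndex_dvd_card T (P : Subgroup H)
        obtain ⟨m, -, hm⟩ := (Nat.dvd_prime_pow Nat.prime_two).1 h6
        rcases Nat.eq_zero_or_pos m with h7 | h7
        · rw [hm, h7, pow_zero]
        · exfalso
          apply h.index
          rw [← h4, hm]
          exact (dvd_pow_self 2 h7.ne').mul_right _
      rw [Subgroup.relIndex_eq_one] at h5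
      exact Nat.card_le_card_of_injective _ (Subgroup.inclusion_injective h5)
    rw [hTP]
    have h3 : IsPGroup 2 (D ⊔ (P : Subgroup H) : Subgroup H) := h2.to_sup_of_normal_left P.isPGroup'
    have h4 := P.is_maximal' h3 le_sup_right
    rw [← h4]
    exact le_sup_left
  exact h.CS_ne_top hne (h.gen _ (CS_anti hDT) (fun g w hw => CS_inv g hw))

/-- (IRR) with indices -/
theorem irr_index [Finite V] {K : Subgroup H} [hK : K.Normal] (hK1 : K ≠ ⊥)
    (hlow : ∀ Y : Subgroup V, (∀ k ∈ K, ∀ v ∈ Y, ρ k v ∈ Y) → ¬ Y ≤ CS ρ K →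
      (CS ρ K).index ≤ (CS ρ K).relIndex Y) : CS ρ K = ⊥ := by
  refine h.irr hK1 fun Y hY hYK => ?_
  have h1 : ¬ Y ≤ CS ρ K := fun h1 => h.CS_ne_top hK1 (h.gen _ (hY.trans h1) fun g w hw => CS_inv g hw)
  have h2 := hlow Y hYK h1
  have h3 : (CS ρ K).relIndex (Y ⊔ CS ρ K) * (Y ⊔ CS ρ K).index = (CS ρ K).index :=
    Subgroup.relIndex_mul_index le_sup_right
  rw [Subgroup.relIndex_sup_right] at h3
  have h4 : 0 < (CS ρ K).relIndex Y := Nat.pos_of_ne_zero (by
    rw [Subgroup.relIndex]; exact Subgroup.index_ne_zero_of_finite)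
  rw [← Subgroup.index_eq_one]
  have h5 : (Y ⊔ CS ρ K).index ≠ 0 := Subgroup.index_ne_zero_of_finite
  have h6 : (CS ρ K).relIndex Y * (Y ⊔ CS ρ K).index ≤ (CS ρ K).relIndex Y * 1 := by
    rw [h3, mul_one]; exact h2
  have h7 := Nat.le_of_mul_le_mul_left h6 h4
  omega

/-! ### the four types -/

/-- `S₃` -/
theorem outS3 [Finite H] [Finite V] {y : H} (hy : orderOf y = 3) (hyn : (zpowers y).Normal) (hi : (fx ρ y).index = 4) :
    fx ρ y = ⊥ ∧ Nat.card V = 4 := by
  have hCS : CS ρ (zpowers y) = fx ρ y := by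
    apply le_antisymm (CS_le_fx (mem_zpowers y))
    intro v hv z hz
    obtain ⟨n, rfl⟩ := hz
    exact FFPsl.fx_zpow ρ hv n
  have hy1 : zpowers y ≠ ⊥ := by
    intro h1
    rw [zpowers_eq_bot] at h1
    rw [h1, orderOf_one] at hy
    omega
  have h1 : CS ρ (zpowers y) = ⊥ := by
    refine h.irr_index hy1 fun Y hY hne => ?_
    rw [hCS] at hne ⊢
    rw [hi]
    let σ := res ρ (zpowers y) Y hY
    let y' : zpowers y := ⟨y, mem_zpowers y⟩
    have ho' : orderOf y' = 3 := by rw [← Subgroup.orderOf_coe]; exact hy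
    obtain ⟨v, hv, hvn⟩ := SetLike.not_le_iff_exists.1 hne
    obtain ⟨d, hd, h2, h3⟩ := prim (ρ := σ) (fun w => Subtype.ext (h.sq w)) Nat.prime_three (by norm_num) ho'
      ⟨⟨v, hv⟩, fun h4 => hvn (congrArg Subtype.val h4)⟩
    have h4 : (fx σ y').index = (fx ρ y).relIndex Y := by
      rw [show fx σ y' = (fx ρ y).subgroupOf Y from fx_res hY y']; rfl
    rw [← h4, h2]
    have h5 : 2 ≤ d := by
      by_contra hcon
      have : d = 1 := by omega
      subst this
      norm_num at h3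
    calc 4 = 2 ^ 2 := rfl
      _ ≤ 2 ^ d := Nat.pow_le_pow_right (by norm_num) h5
  rw [hCS] at h1
  refine ⟨h1, ?_⟩
  rw [h1, Subgroup.index_bot] at hi
  exact hi

/-- simple normal subgroups with an element of prime order acting irreducibly enough -/
theorem simple_case [Finite H] [Finite V] {L : Subgroup H} (hL : L.Normal) (hs : IsSimpleGroup L) {y : H} {r m : ℕ}
    (hyL : y ∈ L) (hr : r.Prime) (hr2 : r ≠ 2) (hy : orderOf y = r) (hi : (CS ρ L).index = 2 ^ m)
    (hm : ∀ d, 0 < d → r ∣ 2 ^ d - 1 → m ≤ d) : CS ρ L = ⊥ := by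
  have hL1 : L ≠ ⊥ := by
    rintro rfl
    rw [Subgroup.mem_bot] at hyL
    rw [hyL, orderOf_one] at hy
    exact hr.one_lt.ne hy
  have hy1 : y ≠ 1 := by
    rintro rfl
    rw [orderOf_one] at hy
    exact hr.one_lt.ne hy
  refine h.irr_index hL1 fun Y hY hne => ?_
  rw [hi]
  let σ := res ρ L Y hY
  let y' : L := ⟨y, hyL⟩
  have ho' : orderOf y' = r := by rw [← Subgroup.orderOf_coe]; exact hy
  have hne' : ∃ w, σ y' w ≠ w := by
    by_contra hcon
    push Not at hcon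
    apply hne
    have h1 := fix_of_one hs hY hyL hy1 fun w hw => congrArg Subtype.val (hcon ⟨w, hw⟩)
    exact fun v hv g hg => h1 g hg v hv
  obtain ⟨d, hd, h2, h3⟩ := prim (ρ := σ) (fun w => Subtype.ext (h.sq w)) hr hr2 ho' hne'
  have h4 : (fx σ y').index = (fx ρ y).relIndex Y := by
    rw [show fx σ y' = (fx ρ y).subgroupOf Y from fx_res hY y']; rfl
  have h5 : (fx ρ y).relIndex Y ≤ (CS ρ L).relIndex Y := by
    refine Subgroup.relIndex_le_of_le_left ?_ ?_
    · exact CS_le_fx hyL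
    · rw [Subgroup.relIndex]; exact Subgroup.index_ne_zero_of_finite
  refine le_trans ?_ h5
  rw [← h4, h2]
  exact Nat.pow_le_pow_right (by norm_num) (hm d hd h3)

/-- `SL₂(q)` -/
theorem outLin [Finite H] [Finite V] {L : Subgroup H} (hL : L.Normal) {F : Type*} [Field F] [Fintype F] [CharP F 2]
    (h4 : 4 ≤ Fintype.card F) (e : L ≃* Matrix.SpecialLinearGroup (Fin 2) F)
    (hi : (CS ρ L).index = Fintype.card F ^ 2) : CS ρ L = ⊥ ∧ Nat.card V = Fintype.card F ^ 2 := by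
  have hs : IsSimpleGroup L := by
    have := isSimpleGroup_sl2 (F := F) h4
    exact e.isSimpleGroup
  obtain ⟨a, ha, ha1⟩ := exists_ne_one (T1Sl2.SU F)
  have haa : a * a = 1 := T1Sl2.sylow_elem (T1Sl2.SU F) a ha
  have hL1 : L ≠ ⊥ := by
    intro h1
    apply ha1
    have h2 : ((e.symm a : L) : H) = 1 := (Subgroup.mem_bot).1 (h1.le (e.symm a).2)
    have h3 : e.symm a = 1 := Subtype.ext h2
    rwa [map_eq_one_iff e.symm e.symm.injective] at h3
  have h1 : CS ρ L = ⊥ := by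
    refine h.irr_index hL1 fun Y hY hne => ?_
    rw [hi]
    let σ : Matrix.SpecialLinearGroup (Fin 2) F →* MulAut Y := (res ρ L Y hY).comp e.symm.toMonoidHom
    have hne' : ∃ g w, σ g w ≠ w := by
      by_contra hcon
      push Not at hcon
      apply hne
      intro v hv g hg
      have h2 := hcon (e ⟨g, hg⟩) ⟨v, hv⟩
      have h3 := congrArg Subtype.val h2
      change ρ ((e.symm (e ⟨g, hg⟩) : L) : H) v = v at h3
      rwa [e.symm_apply_apply] at h3
    obtain ⟨y, -, -, hy⟩ := sl2_exists h4 (fun w => Subtype.ext (h.sq w)) σ hne' haa ha1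
    refine hy.trans ?_
    have h5 : fx σ y = (fx ρ (e.symm y : H)).subgroupOf Y := fx_res hY (e.symm y)
    rw [h5]
    change (fx ρ (e.symm y : H)).relIndex Y ≤ _
    refine Subgroup.relIndex_le_of_le_left (CS_le_fx (e.symm y).2) ?_
    rw [Subgroup.relIndex]; exact Subgroup.index_ne_zero_of_finite
  refine ⟨h1, ?_⟩
  rw [h1, Subgroup.index_bot] at hi
  exact hi

/-- `S₅` -/
theorem outFive [Finite H] [Finite V] {K : Subgroup H} (e : K ≃* Equiv.Perm (Fin 5)) (hn : (COneXL.alt K e).Normal)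
    (hsw : ∀ i j : Fin 5, i ≠ j → (fx ρ (e.symm (Equiv.swap i j) : H)).index = 2) :
    CS ρ (COneXL.alt K e) = ⊥ ∧ Nat.card V = 16 := by
  have hs := COneXL.simple_alt (e := e)
  have hcard := COneXL.card_alt (e := e)
  have hf : Fact (Nat.Prime 5) := ⟨Nat.prime_five⟩
  obtain ⟨y, hy⟩ := exists_prime_orderOf_dvd_card' (G := COneXL.alt K e) 5 (by rw [hcard]; norm_num)
  have hy' : orderOf (y : H) = 5 := by rw [Subgroup.orderOf_coe]; exact hy
  have h5 : ∀ d, 0 < d → 5 ∣ 2 ^ d - 1 → 4 ≤ d := by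
    intro d hd h1
    by_contra hcon
    have : d = 1 ∨ d = 2 ∨ d = 3 := by omega
    rcases this with rfl | rfl | rfl <;> norm_num at h1
  -- upper bound
  have h1 : (CS ρ K).index ≤ 16 := by
    have hgen := Equiv.Perm.mclosure_swap_castSucc_succ 4
    have h2 : fx ρ (e.symm (Equiv.swap 0 1) : H) ⊓ fx ρ (e.symm (Equiv.swap 1 2) : H) ⊓
        (fx ρ (e.symm (Equiv.swap 2 3) : H) ⊓ fx ρ (e.symm (Equiv.swap 3 4) : H)) ≤ CS ρ K := by
      rintro v ⟨⟨a1, a2⟩, a3, a4⟩ k hk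
      let N : Submonoid (Equiv.Perm (Fin 5)) :=
        { carrier := {g | ρ (e.symm g : H) v = v}
          one_mem' := by
            change ρ ((e.symm 1 : K) : H) v = v
            rw [map_one, Subgroup.coe_one, map_one]; rfl
          mul_mem' := fun {a b} ha hb => by
            change ρ ((e.symm (a * b) : K) : H) v = v
            rw [map_mul, Subgroup.coe_mul, map_mul, MulAut.mul_apply, hb, ha] }
      have h3 : (⊤ : Submonoid (Equiv.Perm (Fin 5))) ≤ N := by
        rw [← hgen, Submonoid.closure_le]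
        rintro _ ⟨i, rfl⟩
        fin_cases i
        · exact a1
        · exact a2
        · exact a3
        · exact a4
      have h4 : e ⟨k, hk⟩ ∈ N := h3 (Submonoid.mem_top _)
      change ρ ((e.symm (e ⟨k, hk⟩) : K) : H) v = v at h4
      rwa [e.symm_apply_apply] at h4
    refine (index_le_of_le h2).trans ?_
    refine Subgroup.index_inf_le.trans ?_
    refine (Nat.mul_le_mul Subgroup.index_inf_le Subgroup.index_inf_le).trans ?_
    rw [hsw 0 1 (by decide), hsw 1 2 (by decide), hsw 2 3 (by decide), hsw 3 4 (by decide)]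
  have h2 : (CS ρ (COneXL.alt K e)).index ≤ 16 := (index_le_of_le (CS_anti COneXL.alt_le)).trans h1
  have hy1 : (y : H) ≠ 1 := by
    intro h3
    rw [h3, orderOf_one] at hy'
    norm_num at hy'
  obtain ⟨d, hd, h6, h7⟩ := prim (ρ := ρ) h.sq Nat.prime_five (by norm_num) hy' (h.ne hy1)
  have h8 := index_le_of_le (CS_le_fx (ρ := ρ) y.2)
  have h9 : 16 ≤ (fx ρ (y : H)).index := by
    rw [h6]
    calc 16 = 2 ^ 4 := by norm_num
      _ ≤ 2 ^ d := Nat.pow_le_pow_right (by norm_num) (h5 d hd h7)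
  have h10 : (CS ρ (COneXL.alt K e)).index = 2 ^ 4 := by
    have h11 : (2 : ℕ) ^ 4 = 16 := by norm_num
    omega
  have h11 := h.simple_case hn hs y.2 Nat.prime_five (by norm_num) hy' h10 h5
  refine ⟨h11, ?_⟩
  rw [h11, Subgroup.index_bot] at h10
  rw [h10]; norm_num

/-- `L₃(2)` on `2³` -/
theorem outSeven_one [Finite H] [Finite V] {L : Subgroup H} (hL : L.Normal) (hs : IsSimpleGroup L)
    (hcard : Nat.card L = 168) (hi : (CS ρ L).index = 8) : CS ρ L = ⊥ ∧ Nat.card V = 8 := by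
  have hf : Fact (Nat.Prime 7) := ⟨by norm_num⟩
  obtain ⟨y, hy⟩ := exists_prime_orderOf_dvd_card' (G := L) 7 (by rw [hcard]; norm_num)
  have hy' : orderOf (y : H) = 7 := by rw [Subgroup.orderOf_coe]; exact hy
  have h1 := h.simple_case hL hs y.2 (by norm_num : Nat.Prime 7) (by norm_num) hy' (m := 3) hi fun d hd h1 => by
    by_contra hcon
    have : d = 1 ∨ d = 2 := by omega
    rcases this with rfl | rfl <;> norm_num at h1
  refine ⟨h1, ?_⟩
  rw [h1, Subgroup.index_bot] at hi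
  exact hi

end Gen

end Cfsg.Agent.OddCyclic.EmpFFAbs
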