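import Cfsg.Agent.OddCyclic.EmpNSDir

/-!
# (Empty), `V` not FF: existence of the frame and the assembly of section 4

* `Star S` : (*) two lines with non-trivial intersection commute;
* `exists_fp`;
* `exists_maxP`, `exists_frame`;
* `exists_pair_nff` : the pair of lines, from (NFF) and the no-over-offender lemma.
-/

set_option autoImplicit false
set_option linter.unusedSectionVars false

namespace Cfsg.Agent.OddCyclic.EmpNSMain

open Subgroup Cfsg Cfsg.Agent.ZN Cfsg.Agent.ZN.ChoiceBase Cfsg.Agent.ZN.ChoiceSit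
open Cfsg.Agent.MinSimple Cfsg.Agent.MinSimple.EmptyTI Cfsg.Agent.MinSimple.EmptySix
open Cfsg.Agent.MinSimple.EmptyE.Closed (LL CC cl mem_cl cl_eq cl_le vv_comm vv_sq vv_mul_self vv_inv
  isPGroup_vv vv_le_jj vv_le jj_le_centralizer_vv conj_mem_vv cj_vv)
open Cfsg.Agent.OddCyclic.EmpFrame
open Cfsg.Agent.OddCyclic.EmpNSBase
open Cfsg.Agent.OddCyclic.EmpNSBase.FP (vv_le_uu ww_le_uu vp_le_ww P_le_uu P_le_ww cj_vv_le_uu cj_vp_le_ww vp_le kk_le_P)
open Cfsg.Agent.OddCyclic.EmpNSCrit Cfsg.Agent.OddCyclic.EmpNSPair Cfsg.Agent.OddCyclic.EmpNSRep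
open Cfsg.Agent.OddCyclic.EmpNSDefs Cfsg.Agent.OddCyclic.EmpNSAct Cfsg.Agent.OddCyclic.EmpNSDir
open Cfsg.Agent.OddCyclic.T1Module (CS mem_CS)
open Cfsg.Agent.OddCyclic.KZeroCongr (KS)

universe u v

variable {G : Type u} [Group G] [Finite G] {S : Sylow 2 G}

/-- if `C_G(D) ≤ L` then `D` is good -/
theorem good_of_centralizer_le {D : Subgroup G}
    (h : centralizer (D : Set G) ≤ LL (S : Subgroup G)) : Good (S : Subgroup G) D := by
  refine good_of_jd_le (jcl_le fun g hg => ?_)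
  have h1 := cj_mono g (jj_le_centralizer_vv (S := S))
  rwa [cj_centralizer, cj_eq_of_mem_normalizer (h hg)] at h1

theorem exists_fp (h : ENS S) (ks : KS G)
    (star : ∀ g : G, vv (S : Subgroup G) ⊓ cj g (vv (S : Subgroup G)) ≠ ⊥ →
      cj g (vv (S : Subgroup G)) ≤ centralizer (vv (S : Subgroup G) : Set G)) : ∃ F T P, FP S F T P := by
  -- `F`
  obtain ⟨F, ⟨hFV, hFb⟩, hFm⟩ : ∃ F : Subgroup G, (F ≤ vv (S : Subgroup G) ∧ ¬ Good (S : Subgroup G) F) ∧
      ∀ D : Subgroup G, D ≤ vv (S : Subgroup G) → ¬ Good (S : Subgroup G) D → Nat.card D ≤ Nat.card F := by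
    obtain ⟨F, hF, hm⟩ := Set.exists_max_image
      {D : Subgroup G | D ≤ vv (S : Subgroup G) ∧ ¬ Good (S : Subgroup G) D} (fun D => Nat.card D)
      (Set.toFinite _) ⟨zc (S : Subgroup G), zc_le_vv _, h.not_good_of_le_zc le_rfl⟩
    exact ⟨F, hF, fun D h1 h2 => hm D ⟨h1, h2⟩⟩
  have hF1 : F ≠ ⊥ := by
    intro h0
    have h1 := hFm (zc (S : Subgroup G)) (zc_le_vv _) (h.not_good_of_le_zc le_rfl)
    rw [h0, Subgroup.card_bot] at h1
    exact h.zc_ne_bot (card_eq_one.1 (le_antisymm h1 Nat.card_pos))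
  -- `T`
  have hJF : jj (S : Subgroup G) ≤ centralizer (F : Set G) := jj_le_centralizer_vv.trans (centralizer_le hFV)
  obtain ⟨T, hT, hJT⟩ := exists_syl (S.isPGroup'.to_le (ChoiceBase.jj_le _)) (hJF.trans (centralizer_le_normalizer _))
  have hTN := EmptyTI.le_normalizer_jj S hT.2.1 hJT
  have hTL : T ≤ LL (S : Subgroup G) := hTN.trans (normalizer_jj_le_vv _)
  -- `P`
  have hex : ∃ P : Subgroup G, (centralizer (vv (S : Subgroup G) : Set G) ⊔ T ≤ P ∧ P ≤ centralizer (F : Set G) ⊔ T ∧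
      ¬ P ≤ LL (S : Subgroup G)) ∧ ∀ X : Subgroup G, centralizer (vv (S : Subgroup G) : Set G) ⊔ T ≤ X → X ≤ P →
        ¬ X ≤ LL (S : Subgroup G) → X = P := by
    obtain ⟨P, hP, hmin⟩ := Set.Finite.exists_minimal (s := {P : Subgroup G |
        centralizer (vv (S : Subgroup G) : Set G) ⊔ T ≤ P ∧ P ≤ centralizer (F : Set G) ⊔ T ∧
        ¬ P ≤ LL (S : Subgroup G)}) (Set.toFinite _) ⟨centralizer (F : Set G) ⊔ T,
          sup_le_sup_right (centralizer_le hFV) _, le_rfl, fun h1 => hFb (good_of_centralizer_le (le_sup_left.trans h1))⟩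
    exact ⟨P, hP, fun X h1 h2 h3 => le_antisymm h2 (hmin ⟨h1, h2.trans hP.2.1, h3⟩ h2)⟩
  obtain ⟨P, ⟨hP1, hP2, hP3⟩, hP4⟩ := hex
  exact ⟨F, T, P, h, ks, star, hFV, hF1, hFb, hFm, hT, hJT, hP1, hP2, hP3, hP4⟩

section

variable {F T P Θ : Subgroup G} {g : G} {H : Type v} [Group H] [Finite H] {M : Type v} [CommGroup M] [Finite M]
  {ρ : H →* MulAut M} {r : P →* H} {π : ww (S : Subgroup G) F T P →* M}

/-- (2) from (NFF) and the no-over-offender lemma -/
theorem two_of_nff (h : FP S F T P) (nff : NFF (vv (S : Subgroup G))) (c : Crit S F T P Θ g)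
    (R : Rp P (ww (S : Subgroup G) F T P) F ρ r π)
    (noo : ∀ B : Subgroup H, B ≤ im r Θ → (∀ b ∈ B, b * b = 1) →
      (∀ b ∈ B, ∀ b' ∈ B, ∀ w : M, ρ b' (ρ b w * w⁻¹) = ρ b w * w⁻¹) → Nat.card B ≤ (CS ρ B).index) :
    Two S F T P g := by
  intro x hx hn
  refine two_of_le h c R hx (jb_of_nff (nff.cj _) (line_sq _) fun w hw => h.ww_sq hw) ?_ hn
  refine noo _ (im_mono ((line_le hx).trans c.left)) ?_ ?_
  · intro b hb
    obtain ⟨v, hvP, hv, rfl⟩ := mem_im.1 hb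
    rw [← map_mul]
    have e : (⟨v, hvP⟩ : P) * ⟨v, hvP⟩ = 1 := Subtype.ext (line_sq _ v hv)
    rw [e, map_one]
  · intro b hb b' hb' w
    obtain ⟨v, hvP, hv, rfl⟩ := mem_im.1 hb
    obtain ⟨v', hvP', hv', rfl⟩ := mem_im.1 hb'
    obtain ⟨⟨w, hw⟩, rfl⟩ := R.π_surj w
    have h1 := quad h c (line_le hx hv) (line_le hx hv') hw
    rw [Rp.comm_eq R hvP hw (conj_ww hvP hw), Rp.fix_iff R hvP' h1.1 (conj_ww hvP' h1.1), h1.2,
      mul_inv_cancel_right, mul_inv_cancel]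
    exact one_mem _

/-- `|im r V'| = |V' : V' ∩ K_P|` -/
theorem card_im (h : FP S F T P) (R : Rp P (ww (S : Subgroup G) F T P) F ρ r π) {X : Subgroup G} (hX : X ≤ P) :
    Nat.card (im r X) = (kk (S : Subgroup G) F T P).relIndex X := by
  have h1 : (⊥ : Subgroup H).relIndex (im r X) = ((⊥ : Subgroup H).comap r).relIndex (X.subgroupOf P) :=
    (relIndex_comap _ _ _).symm
  rw [relIndex_bot_left] at h1
  rw [h1, ← relIndex_subgroupOf hX]
  congr 1
  ext ⟨p, hp⟩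
  rw [mem_comap, mem_bot, mem_subgroupOf]
  exact r_eq_one h R hp

/-- the two directions of the critical pair -/
structure PairData (S : Sylow 2 G) (F T P Θ : Subgroup G) {H : Type v} [Group H] {M : Type v}
    [CommGroup M] (ρ : H →* MulAut M) (r : P →* H) (π : ww (S : Subgroup G) F T P →* M) (g x y : G) : Prop where
  crit : Crit S F T P Θ g
  pr : Pr S F T P g x y
  dir₁ : ∃ A N a, Dir ρ (im r (LL (S : Subgroup G))) (im r (centralizer (F : Set G))) (im r Θ)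
      (im r (cj (g * x) (vv (S : Subgroup G)))) A N a
  dir₂ : ∃ A N a, Dir ρ (im r (LL (S : Subgroup G))) (im r (centralizer (F : Set G))) (im r Θ)
      (im r (cj (g⁻¹ * y) (vv (S : Subgroup G)))) A N a

theorem exists_pairData (h : FP S F T P) (nff : NFF (vv (S : Subgroup G))) (c : Crit S F T P Θ g)
    (R : Rp P (ww (S : Subgroup G) F T P) F ρ r π)
    (noo : ∀ B : Subgroup H, B ≤ im r Θ → (∀ b ∈ B, b * b = 1) →
      (∀ b ∈ B, ∀ b' ∈ B, ∀ w : M, ρ b' (ρ b w * w⁻¹) = ρ b w * w⁻¹) → Nat.card B ≤ (CS ρ B).index) :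
    ∃ x y, PairData S F T P Θ ρ r π g x y := by
  obtain ⟨x, y, d⟩ := exists_pair h c (two_of_nff h nff c R noo) (two_of_nff h nff c.symm R noo)
  have jb : ∀ k : G, JB (cj k (vv (S : Subgroup G))) (ww (S : Subgroup G) F T P) := fun k =>
    jb_of_nff (nff.cj k) (line_sq k) fun w hw => h.ww_sq hw
  exact ⟨x, y, c, d, ⟨_, _, _, mk_dir h c R d.hx d.nx (fun h1 => d.kx (inf_le_left.trans h1)) (jb _)⟩,
    ⟨_, _, _, mk_dir h c.symm R d.hy d.ny d.ky (jb _)⟩⟩

/-- (7) in terms of the images -/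
theorem PairData.ineq (h : FP S F T P) (nff : NFF (vv (S : Subgroup G)))
    (R : Rp P (ww (S : Subgroup G) F T P) F ρ r π) {x y : G} (d : PairData S F T P Θ ρ r π g x y) :
    F.relIndex (vv (S : Subgroup G)) = Nat.card (im r (cj (g * x) (vv (S : Subgroup G)))) ∨
      2 * F.relIndex (vv (S : Subgroup G)) ≤ Nat.card (im r (cj (g * x) (vv (S : Subgroup G)))) *
        Nat.card (im r (cj (g⁻¹ * y) (vv (S : Subgroup G)))) := by
  rw [card_im h R (line_le_P h d.crit d.pr.hx), card_im h R (line_le_P h d.crit.symm d.pr.hy)]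
  exact ineq_two h d.crit d.pr nff

end

end Cfsg.Agent.OddCyclic.EmpNSMain
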