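import Cfsg.Agent.OddCyclic.EmpNSCrit

/-!
# (Empty), `V` not FF: the critical pair `p = P`, `r = gP`, facts in `G` ((1), (3), (4), (7) of 4.1)

Lines on `p`: `cj x V`, `x ∈ P`; lines on `r`: `cj (g * x) V`, `x ∈ P`.

* `Two S F T P g` : (2): a line on `r` normalised by `W_p` is centralised by `W_p`;
* `JB V' W` : the `j`-bound;
* `inf_F` (1); `mem_F_of_comm` (3); `not_comm`, `not_le_kk` (4); `exists_pair`;
* `ineq_two` (7).
-/

set_option autoImplicit false
set_option linter.unusedSectionVars false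

namespace Cfsg.Agent.OddCyclic.EmpNSPair

open Subgroup Cfsg Cfsg.Agent.ZN Cfsg.Agent.ZN.ChoiceBase Cfsg.Agent.ZN.ChoiceSit
open Cfsg.Agent.MinSimple Cfsg.Agent.MinSimple.EmptyTI Cfsg.Agent.MinSimple.EmptySix
open Cfsg.Agent.MinSimple.EmptyE.Closed (LL CC cl mem_cl cl_eq cl_le vv_comm vv_sq vv_mul_self vv_inv
  isPGroup_vv vv_le_jj vv_le jj_le_centralizer_vv conj_mem_vv cj_vv)
open Cfsg.Agent.OddCyclic.EmpFrame
open Cfsg.Agent.OddCyclic.EmpNSBase
open Cfsg.Agent.OddCyclic.EmpNSBase.FP (vv_le_uu ww_le_uu vp_le_ww P_le_uu P_le_ww cj_vv_le_uu cj_vp_le_ww vp_le kk_le_P)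
open Cfsg.Agent.OddCyclic.EmpNSCrit

universe u

variable {G : Type u} [Group G]

theorem isPGroup_of_sq {A : Subgroup G} (h : ∀ a ∈ A, a * a = 1) : IsPGroup 2 A := by
  rintro ⟨x, hx⟩
  refine ⟨1, Subtype.ext ?_⟩
  show x ^ 2 ^ 1 = 1
  rw [pow_one, sq, h x hx]

theorem relIndex_mul_card [Finite G] (A B : Subgroup G) :
    A.relIndex B * Nat.card (B ⊓ A : Subgroup G) = Nat.card B := by
  have h1 := relIndex_mul_relIndex (⊥ : Subgroup G) (B ⊓ A) B bot_le inf_le_left
  rw [relIndex_bot_left, relIndex_bot_left, inf_relIndex_left] at h1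
  rw [mul_comm]; exact h1

theorem relIndex_eq_pow [Finite G] {A B : Subgroup G} (h : IsPGroup 2 B) : ∃ n : ℕ, A.relIndex B = 2 ^ n := by
  have hf : Fact (Nat.Prime 2) := ⟨Nat.prime_two⟩
  exact h.index (A.subgroupOf B)

/-- the `j`-bound for `W` acting on `V'`: `2 |N'/C_{N'}(V')| ≤ |V'/C_{V'}(N')|` -/
def JB (V' W : Subgroup G) : Prop :=
  ∀ N : Subgroup G, N ≤ W → N ≤ normalizer (V' : Set G) → ¬ N ≤ centralizer (V' : Set G) →
    2 * (centralizer (V' : Set G)).relIndex N ≤ (centralizer (N : Set G)).relIndex V'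

/-- (NFF) gives the `j`-bound -/
theorem jb_of_nff [Finite G] {V' W : Subgroup G} (hV : NFF V') (hV2 : ∀ v ∈ V', v * v = 1) (hW : ∀ w ∈ W, w * w = 1) :
    JB V' W := by
  intro N hNW hNn hNc
  have hcm : ∀ a ∈ N, ∀ b ∈ N, a * b * a⁻¹ * b⁻¹ = 1 := by
    intro a ha b hb
    have h1 := comm_of_sq' (A := N) (fun x hx => hW x (hNW hx)) ha hb
    rw [h1]; group
  have h1 := hV N hNn (fun a ha => by rw [hW a (hNW ha)]; exact one_mem _)
    (fun a ha b hb => by rw [hcm a ha b hb]; exact one_mem _) hNc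
  have hpV : IsPGroup 2 V' := isPGroup_of_sq hV2
  have hpN : IsPGroup 2 N := isPGroup_of_sq fun x hx => hW x (hNW hx)
  obtain ⟨i, hi⟩ := relIndex_eq_pow (A := centralizer (V' : Set G)) hpN
  obtain ⟨j, hj⟩ := relIndex_eq_pow (A := centralizer (N : Set G)) hpV
  have e1 := relIndex_mul_card (centralizer (V' : Set G)) N
  have e2 := relIndex_mul_card (centralizer (N : Set G)) V'
  rw [← e1, ← e2] at h1
  have hp1 : 0 < Nat.card (V' ⊓ centralizer (N : Set G) : Subgroup G) := Nat.card_pos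
  have hp2 : 0 < Nat.card (N ⊓ centralizer (V' : Set G) : Subgroup G) := Nat.card_pos
  have h2 : (centralizer (V' : Set G)).relIndex N < (centralizer (N : Set G)).relIndex V' := by
    have h3 : (centralizer (V' : Set G)).relIndex N *
        (Nat.card (N ⊓ centralizer (V' : Set G) : Subgroup G) * Nat.card (V' ⊓ centralizer (N : Set G) : Subgroup G)) <
      (centralizer (N : Set G)).relIndex V' *
        (Nat.card (N ⊓ centralizer (V' : Set G) : Subgroup G) * Nat.card (V' ⊓ centralizer (N : Set G) : Subgroup G)) := by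
      calc _ = (centralizer (V' : Set G)).relIndex N * Nat.card (N ⊓ centralizer (V' : Set G) : Subgroup G) *
            Nat.card (V' ⊓ centralizer (N : Set G) : Subgroup G) := by ring
        _ < _ := h1
        _ = _ := by ring
    exact lt_of_mul_lt_mul_right h3 (Nat.zero_le _)
  rw [hi, hj] at h2 ⊢
  have h3 : i < j := (Nat.pow_lt_pow_iff_right (by norm_num)).1 h2
  calc 2 * 2 ^ i = 2 ^ (i + 1) := by rw [pow_succ]; ring
    _ ≤ 2 ^ j := Nat.pow_le_pow_right (by norm_num) h3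

variable [Finite G] {S : Sylow 2 G} {F T P Θ : Subgroup G} {g : G}

/-- (2) -/
def Two (S : Sylow 2 G) (F T P : Subgroup G) (g : G) : Prop :=
  ∀ x ∈ P, ww (S : Subgroup G) F T P ≤ normalizer (cj (g * x) (vv (S : Subgroup G)) : Set G) →
    ww (S : Subgroup G) F T P ≤ centralizer (cj (g * x) (vv (S : Subgroup G)) : Set G)

section

variable (h : FP S F T P)
include h

/-- (*) for two arbitrary lines -/
theorem star' (a b : G) (hab : cj a (vv (S : Subgroup G)) ⊓ cj b (vv (S : Subgroup G)) ≠ ⊥) :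
    cj b (vv (S : Subgroup G)) ≤ centralizer (cj a (vv (S : Subgroup G)) : Set G) := by
  have h1 : vv (S : Subgroup G) ⊓ cj (a⁻¹ * b) (vv (S : Subgroup G)) ≠ ⊥ := by
    intro h0
    apply hab
    have h2 := congrArg (cj a) h0
    rw [cj_inf, cj_cj, mul_inv_cancel_left] at h2
    exact h2.trans (Subgroup.map_bot _)
  have h2 := cj_mono a (h.star _ h1)
  rwa [cj_cj, mul_inv_cancel_left, cj_centralizer] at h2

/-- (1) a line not centralising `U_p` meets `F_p` trivially -/
theorem inf_F {k : G} (hk : ¬ cj k (vv (S : Subgroup G)) ≤ centralizer (uu (S : Subgroup G) P : Set G)) :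
    F ⊓ cj k (vv (S : Subgroup G)) = ⊥ := by
  by_contra hcon
  apply hk
  rw [le_centralizer_iff, uu]
  refine iSup_le fun y => ?_
  rw [le_centralizer_iff]
  refine star' h y k fun h0 => hcon (le_bot_iff.1 ?_)
  rw [← h0]
  exact inf_le_inf_right _ (h.F_le_cj y.2)

theorem cj_F {x : G} (hx : x ∈ P) : cj x F = F := cj_eq_of_mem_normalizer (h.P_le_N hx)

end

section

variable (h : FP S F T P) (c : Crit S F T P Θ g)
include h c

theorem cj_uu_le_cent : cj g (uu (S : Subgroup G) P) ≤ centralizer (vv (S : Subgroup G) : Set G) := c.left.trans c.Θ_le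

theorem cj_uu_le_P : cj g (uu (S : Subgroup G) P) ≤ P := (cj_uu_le_cent h c).trans h.C_le_P

theorem uu_le_cent : uu (S : Subgroup G) P ≤ centralizer (cj g (vv (S : Subgroup G)) : Set G) := by
  have h1 := cj_uu_le_cent h c.symm
  rwa [cj_le_iff, inv_inv, cj_centralizer] at h1

theorem uu_le_cjP : uu (S : Subgroup G) P ≤ cj g P := by
  have h1 := cj_uu_le_P h c.symm
  rwa [cj_le_iff, inv_inv] at h1

/-- `F_r` centralises `U_p` -/
theorem uu_le_cent_F : uu (S : Subgroup G) P ≤ centralizer (cj g F : Set G) :=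
  (uu_le_cent h c).trans (centralizer_le (cj_mono g h.F_le))

/-- `F_p` centralises `U_r` -/
theorem cj_uu_le_cent_F : cj g (uu (S : Subgroup G) P) ≤ centralizer (F : Set G) :=
  (cj_uu_le_cent h c).trans (centralizer_le h.F_le)

omit h c in
theorem line_le {x : G} (hx : x ∈ P) : cj (g * x) (vv (S : Subgroup G)) ≤ cj g (uu (S : Subgroup G) P) := by
  rw [← cj_cj]
  exact cj_mono g (cj_vv_le_uu hx)

theorem line_le_P {x : G} (hx : x ∈ P) : cj (g * x) (vv (S : Subgroup G)) ≤ P := (line_le hx).trans (cj_uu_le_P h c)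

/-- quadratic action -/
theorem quad {a b w : G} (ha : a ∈ cj g (uu (S : Subgroup G) P)) (hb : b ∈ cj g (uu (S : Subgroup G) P))
    (hw : w ∈ ww (S : Subgroup G) F T P) : a * w * a⁻¹ * w⁻¹ ∈ ww (S : Subgroup G) F T P ∧
      b * (a * w * a⁻¹ * w⁻¹) = (a * w * a⁻¹ * w⁻¹) * b := by
  have h1 : a * w * a⁻¹ ∈ ww (S : Subgroup G) F T P :=
    (mem_normalizer_iff.1 (P_le_ww (cj_uu_le_P h c ha)) w).1 hw
  have h2 : w * a⁻¹ * w⁻¹ ∈ cj g (uu (S : Subgroup G) P) := by
    have h3 : w ∈ normalizer (cj g (uu (S : Subgroup G) P) : Set G) := by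
      rw [← cj_normalizer]
      exact cj_mono g P_le_uu (uu_le_cjP h c (ww_le_uu hw))
    exact (mem_normalizer_iff.1 h3 _).1 (inv_mem ha)
  refine ⟨mul_mem h1 (inv_mem hw), ?_⟩
  have h3 : a * w * a⁻¹ * w⁻¹ ∈ cj g (uu (S : Subgroup G) P) := by
    have e : a * w * a⁻¹ * w⁻¹ = a * (w * a⁻¹ * w⁻¹) := by group
    rw [e]
    exact mul_mem ha h2
  have h4 : cj g (uu (S : Subgroup G) P) ≤ centralizer (cj g (uu (S : Subgroup G) P) : Set G) := by
    rw [← cj_centralizer]
    exact cj_mono g h.uu_comm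
  exact (mem_centralizer_iff.1 (h4 h3) b hb)

/-- elements of `U_p` normalising a line on `r`, in terms of `P` -/
theorem mem_normalizer_line {x w : G} :
    w ∈ normalizer (cj (g * x) (vv (S : Subgroup G)) : Set G) ↔ x⁻¹ * (g⁻¹ * w * g) * x ∈ LL (S : Subgroup G) := by
  rw [← cj_normalizer, mem_cj]
  have e : (g * x)⁻¹ * w * (g * x) = x⁻¹ * (g⁻¹ * w * g) * x := by group
  rw [e]

/-- (3) `C_{V'}(w) = F_r` for `V'` on `r`, `w ∈ U_p - N(V')` -/
theorem mem_F_of_comm {x : G} (hx : x ∈ P) {w : G} (hw : w ∈ uu (S : Subgroup G) P)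
    (hwn : w ∉ normalizer (cj (g * x) (vv (S : Subgroup G)) : Set G)) {v : G}
    (hv : v ∈ cj (g * x) (vv (S : Subgroup G))) (hvw : w * v = v * w) : v ∈ cj g F := by
  have hp : g⁻¹ * w * g ∈ P := mem_cj.1 (uu_le_cjP h c hw)
  have hk : x⁻¹ * (g⁻¹ * w * g) * x ∈ P := mul_mem (mul_mem (inv_mem hx) hp) hx
  have hkL : x⁻¹ * (g⁻¹ * w * g) * x ∉ LL (S : Subgroup G) := fun h1 => hwn ((mem_normalizer_line h c).2 h1)
  have hne : cj (x⁻¹ * (g⁻¹ * w * g) * x) (vv (S : Subgroup G)) ≠ vv (S : Subgroup G) := fun h1 =>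
    hkL (mem_normalizer_iff_cj.2 h1)
  have h1 := h.inf_eq (h.F_le_cj hk) hne
  have hv1 := mem_cj.1 hv
  have h2 : (g * x)⁻¹ * v * (g * x) ∈ cj (x⁻¹ * (g⁻¹ * w * g) * x) (vv (S : Subgroup G)) := by
    rw [mem_cj]
    have e : (x⁻¹ * (g⁻¹ * w * g) * x)⁻¹ * ((g * x)⁻¹ * v * (g * x)) * (x⁻¹ * (g⁻¹ * w * g) * x) =
      (g * x)⁻¹ * (w⁻¹ * (v * w)) * (g * x) := by group
    rw [e, ← hvw, inv_mul_cancel_left]
    exact hv1
  have h3 : (g * x)⁻¹ * v * (g * x) ∈ F := by
    rw [← h1]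
    exact ⟨hv1, h2⟩
  have h4 : v ∈ cj (g * x) F := mem_cj.2 h3
  rwa [← cj_cj, cj_F h hx] at h4

/-- `F_r` lies in all lines on `r` -/
theorem cj_F_le {x : G} (hx : x ∈ P) : cj g F ≤ cj (g * x) (vv (S : Subgroup G)) := by
  rw [← cj_F h hx, cj_cj]
  exact cj_mono _ h.F_le

/-- `K_r` fixes the lines on `r` -/
theorem cj_kk_le {x : G} (hx : x ∈ P) : cj g (kk (S : Subgroup G) F T P) ≤
    normalizer (cj (g * x) (vv (S : Subgroup G)) : Set G) := by
  intro k hk
  have h1 := h.kk_fix (mem_cj.1 hk) hx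
  rw [← cj_cj, ← cj_normalizer, mem_cj]
  exact mem_normalizer_iff_cj.2 h1

omit c in
theorem kk_le_line {x : G} (hx : x ∈ P) : kk (S : Subgroup G) F T P ≤
    normalizer (cj x (vv (S : Subgroup G)) : Set G) := fun k hk => mem_normalizer_iff_cj.2 (h.kk_fix hk hx)

/-- a subgroup of `P` centralising `W` lies in `K_P` -/
theorem mem_kk_of_cent {v : G} (hvP : v ∈ P) (hv : v ∈ centralizer (ww (S : Subgroup G) F T P : Set G)) :
    v ∈ kk (S : Subgroup G) F T P := by
  rw [h.mem_kk]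
  refine ⟨hvP, fun w hw => ?_⟩
  rw [← mem_centralizer_iff.1 hv w hw, mul_inv_cancel_right, mul_inv_cancel]
  exact one_mem _

/-- `W_p` fixing `V_+(T')` fixes the line -/
theorem normalizer_of_cent {X : Subgroup G} (hX : X ≤ centralizer (cj g (ww (S : Subgroup G) F T P) : Set G)) {x : G}
    (hx : x ∈ P) : X ≤ normalizer (cj (g * x) (vv (S : Subgroup G)) : Set G) := by
  have h1 : cj (g * x) (vp (S : Subgroup G) F T) ≤ cj g (ww (S : Subgroup G) F T P) := by
    rw [← cj_cj]
    exact cj_mono g (cj_vp_le_ww hx)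
  have h2 : X ≤ normalizer (cj (g * x) (vp (S : Subgroup G) F T) : Set G) :=
    (hX.trans (centralizer_le h1)).trans (centralizer_le_normalizer _)
  rw [← cj_normalizer] at h2 ⊢
  exact h2.trans (cj_mono _ (h.good_vp.normalizer_le vp_le))

/-- (4) -/
theorem not_comm (t1 : Two S F T P g) (t2 : Two S F T P g⁻¹) :
    ¬ ww (S : Subgroup G) F T P ≤ centralizer (cj g (ww (S : Subgroup G) F T P) : Set G) := by
  intro h1
  have key : ∀ k : G, Crit S F T P Θ k → Two S F T P k →
      ww (S : Subgroup G) F T P ≤ centralizer (cj k (ww (S : Subgroup G) F T P) : Set G) →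
      ww (S : Subgroup G) F T P ≤ centralizer (cj k (uu (S : Subgroup G) P) : Set G) := by
    intro k ck tk hk
    rw [le_centralizer_iff, cj_le_iff, uu]
    refine iSup_le fun x => ?_
    rw [← cj_le_iff, cj_cj, le_centralizer_iff]
    exact tk x x.2 (normalizer_of_cent h ck hk x.2)
  have h2 := key _ c t1 h1
  have h1' : ww (S : Subgroup G) F T P ≤ centralizer (cj g⁻¹ (ww (S : Subgroup G) F T P) : Set G) := by
    rw [le_centralizer_iff, cj_le_iff, inv_inv, cj_centralizer]
    exact h1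
  have h3 := key _ c.symm t2 h1'
  have h3' : cj g (ww (S : Subgroup G) F T P) ≤ centralizer (uu (S : Subgroup G) P : Set G) := by
    rw [cj_le_iff, cj_centralizer]
    exact h3
  -- all lines on `p` and `r` normalise each other
  apply c.ncomm
  rw [cj_le_iff, uu]
  refine iSup_le fun x => ?_
  rw [← cj_le_iff, cj_cj, le_centralizer_iff]
  refine iSup_le fun y => ?_
  have h4 : cj (y : G) (vv (S : Subgroup G)) ≤ normalizer (cj (g * (x : G)) (vv (S : Subgroup G)) : Set G) :=
    normalizer_of_cent h c ((cj_vv_le_uu y.2).trans (le_centralizer_iff.1 h3')) x.2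
  have h5 : cj (g * (x : G)) (vv (S : Subgroup G)) ≤ normalizer (cj (y : G) (vv (S : Subgroup G)) : Set G) := by
    have h6 : cj (g * (x : G)) (vv (S : Subgroup G)) ≤ centralizer (cj (y : G) (vp (S : Subgroup G) F T) : Set G) :=
      (line_le x.2).trans ((le_centralizer_iff.1 h2).trans (centralizer_le (cj_vp_le_ww y.2)))
    have h7 := h6.trans (centralizer_le_normalizer _)
    rw [← cj_normalizer] at h7 ⊢
    exact h7.trans (cj_mono _ (h.good_vp.normalizer_le vp_le))
  by_cases h0 : cj (g * (x : G)) (vv (S : Subgroup G)) ⊓ cj (y : G) (vv (S : Subgroup G)) = ⊥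
  · intro a ha
    rw [mem_centralizer_iff]
    intro b hb
    have h6 : b * a * b⁻¹ * a⁻¹ ∈ cj (g * (x : G)) (vv (S : Subgroup G)) ⊓ cj (y : G) (vv (S : Subgroup G)) := by
      refine ⟨?_, ?_⟩
      · have hb : b ∈ cj (g * (x : G)) (vv (S : Subgroup G)) := hb
        have hb' : b⁻¹ ∈ cj (g * (x : G)) (vv (S : Subgroup G)) := inv_mem hb
        have h7 := (mem_normalizer_iff.1 (h4 ha) b⁻¹).1 hb'
        have e : b * a * b⁻¹ * a⁻¹ = b * (a * b⁻¹ * a⁻¹) := by group
        rw [e]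
        exact mul_mem hb h7
      · have ha' : a⁻¹ ∈ cj (y : G) (vv (S : Subgroup G)) := inv_mem ha
        exact Subgroup.mul_mem _ ((mem_normalizer_iff.1 (h5 hb) a).1 ha) ha'
    rw [h0, mem_bot] at h6
    calc b * a = b * a * b⁻¹ * a⁻¹ * (a * b) := by group
      _ = a * b := by rw [h6, one_mul]
  · exact star' h _ _ h0

/-- (4) -/
theorem not_le_kk (t1 : Two S F T P g) (t2 : Two S F T P g⁻¹) :
    ¬ ww (S : Subgroup G) F T P ≤ cj g (kk (S : Subgroup G) F T P) := by
  intro h1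
  apply not_comm h c t1 t2
  rw [le_centralizer_iff]
  refine (cj_mono g ww_le_uu).trans ?_
  rw [cj_le_iff, uu]
  refine iSup_le fun x => ?_
  rw [← cj_le_iff, cj_cj, le_centralizer_iff]
  exact t1 x x.2 (h1.trans (cj_kk_le h c x.2))

/-- the lines `V'` on `r` used below -/
theorem exists_line (t1 : Two S F T P g) (t2 : Two S F T P g⁻¹) :
    ∃ x ∈ P, ¬ cj (g * x) (vv (S : Subgroup G)) ⊓ cj g (ww (S : Subgroup G) F T P) ≤ kk (S : Subgroup G) F T P := by
  by_contra hcon
  push Not at hcon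
  refine not_le_kk h c.symm t2 (by rwa [inv_inv]) ?_
  rw [ww]
  refine iSup_le fun x => ?_
  rw [← cj_le_iff, cj_cj]
  refine le_trans (le_inf (cj_mono _ vp_le) ?_) (hcon x x.2)
  rw [← cj_cj]
  exact cj_mono g (cj_vp_le_ww x.2)

/-- (2), second form -/
theorem not_normalizer (t1 : Two S F T P g) {x : G} (hx : x ∈ P)
    (hk : ¬ cj (g * x) (vv (S : Subgroup G)) ≤ kk (S : Subgroup G) F T P) :
    ¬ ww (S : Subgroup G) F T P ≤ normalizer (cj (g * x) (vv (S : Subgroup G)) : Set G) := by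
  intro h1
  apply hk
  intro v hv
  exact mem_kk_of_cent h c (line_le_P h c hx hv) (le_centralizer_iff.1 (t1 x hx h1) hv)

end

/-- the lines `V'` on `r` and `V''` on `p` -/
structure Pr (S : Sylow 2 G) (F T P : Subgroup G) (g x y : G) : Prop where
  hx : x ∈ P
  hy : y ∈ P
  kx : ¬ cj (g * x) (vv (S : Subgroup G)) ⊓ cj g (ww (S : Subgroup G) F T P) ≤ kk (S : Subgroup G) F T P
  nx : ¬ ww (S : Subgroup G) F T P ≤ normalizer (cj (g * x) (vv (S : Subgroup G)) : Set G)
  yx : ¬ cj y (vv (S : Subgroup G)) ⊓ ww (S : Subgroup G) F T P ≤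
    normalizer (cj (g * x) (vv (S : Subgroup G)) : Set G)
  ky : ¬ cj (g⁻¹ * y) (vv (S : Subgroup G)) ≤ kk (S : Subgroup G) F T P
  ny : ¬ ww (S : Subgroup G) F T P ≤ normalizer (cj (g⁻¹ * y) (vv (S : Subgroup G)) : Set G)

theorem exists_pair (h : FP S F T P) (c : Crit S F T P Θ g) (t1 : Two S F T P g) (t2 : Two S F T P g⁻¹) :
    ∃ x y, Pr S F T P g x y := by
  obtain ⟨x, hx, kx⟩ := exists_line h c t1 t2
  have kx' : ¬ cj (g * x) (vv (S : Subgroup G)) ≤ kk (S : Subgroup G) F T P := fun h1 => kx (inf_le_left.trans h1)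
  have nx := not_normalizer h c t1 hx kx'
  obtain ⟨y, hy, yx⟩ : ∃ y ∈ P, ¬ cj y (vv (S : Subgroup G)) ⊓ ww (S : Subgroup G) F T P ≤
      normalizer (cj (g * x) (vv (S : Subgroup G)) : Set G) := by
    by_contra hcon
    push Not at hcon
    apply nx
    have h1 : (⨆ y : P, cj (y : G) (vp (S : Subgroup G) F T) : Subgroup G) ≤
        normalizer (cj (g * x) (vv (S : Subgroup G)) : Set G) := by
      refine iSup_le fun y => ?_
      exact (le_inf (cj_mono _ vp_le) (cj_vp_le_ww y.2)).trans (hcon y y.2)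
    exact h1
  have ky : ¬ cj (g⁻¹ * y) (vv (S : Subgroup G)) ≤ kk (S : Subgroup G) F T P := by
    intro h1
    apply yx
    refine inf_le_left.trans ?_
    have h2 : cj y (vv (S : Subgroup G)) ≤ cj g (kk (S : Subgroup G) F T P) := by
      have h3 := cj_mono g h1
      rwa [cj_cj, mul_inv_cancel_left] at h3
    exact h2.trans (cj_kk_le h c hx)
  exact ⟨x, y, hx, hy, kx, nx, yx, ky, not_normalizer h c.symm t2 hy ky⟩

section

variable (h : FP S F T P) (c : Crit S F T P Θ g) {x y : G} (d : Pr S F T P g x y)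
include h c d

/-- `V'` and `V''` do not commute -/
theorem not_comm_lines : ¬ cj y (vv (S : Subgroup G)) ≤ centralizer (cj (g * x) (vv (S : Subgroup G)) : Set G) :=
  fun h1 => d.yx ((inf_le_left.trans h1).trans (centralizer_le_normalizer _))

theorem lines_inf : cj (g * x) (vv (S : Subgroup G)) ⊓ cj y (vv (S : Subgroup G)) = ⊥ := by
  by_contra hcon
  exact not_comm_lines h c d (star' h _ _ hcon)

/-- `C_{V'}(V'') = F_r` -/
theorem cent_inf : cj (g * x) (vv (S : Subgroup G)) ⊓ centralizer (cj y (vv (S : Subgroup G)) : Set G) = cj g F := by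
  apply le_antisymm
  · obtain ⟨w, ⟨hwV, hwW⟩, hwn⟩ := SetLike.not_le_iff_exists.1 d.yx
    rintro v ⟨hv, hvc⟩
    exact mem_F_of_comm h c d.hx (ww_le_uu hwW) hwn hv (mem_centralizer_iff.1 hvc w hwV)
  · refine le_inf (cj_F_le h c d.hx) ?_
    rw [le_centralizer_iff]
    exact (cj_vv_le_uu d.hy).trans (uu_le_cent_F h c)

theorem F_le_kk : cj g F ≤ kk (S : Subgroup G) F T P := by
  intro v hv
  refine mem_kk_of_cent h c (line_le_P h c d.hx (cj_F_le h c d.hx hv)) ?_
  exact le_centralizer_iff.1 (ww_le_uu.trans (uu_le_cent_F h c)) hv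

/-- `[V' ∩ K_p, V'' ∩ K_r] = 1` -/
theorem comm_inf : cj (g * x) (vv (S : Subgroup G)) ⊓ kk (S : Subgroup G) F T P ≤
    centralizer ((cj y (vv (S : Subgroup G)) ⊓ cj g (kk (S : Subgroup G) F T P) : Subgroup G) : Set G) := by
  rintro a ⟨haV, haK⟩
  rw [mem_centralizer_iff]
  rintro b hb
  have hbV : b ∈ cj y (vv (S : Subgroup G)) := hb.1
  have hbK : b ∈ cj g (kk (S : Subgroup G) F T P) := hb.2
  have h1 := kk_le_line h d.hy haK
  have h2 := cj_kk_le h c d.hx hbK
  have h3 : b * a * b⁻¹ * a⁻¹ ∈ cj (g * x) (vv (S : Subgroup G)) ⊓ cj y (vv (S : Subgroup G)) := by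
    have ha' : a⁻¹ ∈ cj (g * x) (vv (S : Subgroup G)) := inv_mem haV
    refine ⟨Subgroup.mul_mem _ ((mem_normalizer_iff.1 h2 a).1 haV) ha', ?_⟩
    have e : b * a * b⁻¹ * a⁻¹ = b * (a * b⁻¹ * a⁻¹) := by group
    rw [e]
    have hb' : b⁻¹ ∈ cj y (vv (S : Subgroup G)) := inv_mem hbV
    exact mul_mem hbV ((mem_normalizer_iff.1 h1 _).1 hb')
  rw [lines_inf h c d, mem_bot] at h3
  calc b * a = b * a * b⁻¹ * a⁻¹ * (a * b) := by group
    _ = a * b := by rw [h3, one_mul]

/-- (7), without `j`-bound: `|V : F| = |V'K_p/K_p| |V' ∩ K_p : F_r|` -/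
theorem delta_eq : F.relIndex (vv (S : Subgroup G)) =
    (kk (S : Subgroup G) F T P).relIndex (cj (g * x) (vv (S : Subgroup G))) *
      (centralizer (cj y (vv (S : Subgroup G)) : Set G)).relIndex
        (cj (g * x) (vv (S : Subgroup G)) ⊓ kk (S : Subgroup G) F T P) := by
  have e1 : F.relIndex (vv (S : Subgroup G)) = (cj g F).relIndex (cj (g * x) (vv (S : Subgroup G))) := by
    rw [← cj_F h d.hx, cj_cj]
    have h1 := relIndex_map_map_of_injective F (vv (S : Subgroup G)) (f := (MulAut.conj (g * x)).toMonoidHom) (MulAut.conj (g * x)).injective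
    rw [cj_F h d.hx]
    exact h1.symm
  have e2 : (centralizer (cj y (vv (S : Subgroup G)) : Set G)).relIndex
      (cj (g * x) (vv (S : Subgroup G)) ⊓ kk (S : Subgroup G) F T P) =
      (cj g F).relIndex (cj (g * x) (vv (S : Subgroup G)) ⊓ kk (S : Subgroup G) F T P) := by
    rw [← inf_relIndex_right (centralizer (cj y (vv (S : Subgroup G)) : Set G)),
      ← inf_relIndex_right (cj g F)]
    congr 1
    apply le_antisymm
    · rintro a ⟨ha, ha'⟩
      refine ⟨?_, ha'⟩
      rw [← cent_inf h c d]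
      exact ⟨ha'.1, ha⟩
    · rintro a ⟨ha, ha'⟩
      refine ⟨?_, ha'⟩
      rw [← cent_inf h c d] at ha
      exact ha.2
  rw [e1, e2]
  have h1 := relIndex_mul_relIndex (cj g F) (cj (g * x) (vv (S : Subgroup G)) ⊓ kk (S : Subgroup G) F T P)
    (cj (g * x) (vv (S : Subgroup G))) (le_inf (cj_F_le h c d.hx) (F_le_kk h c d)) inf_le_left
  rw [inf_relIndex_left] at h1
  rw [← h1, mul_comm]

/-- (7), (II): `|V : F| = |V'K_p/K_p|` or `2 |V : F| ≤ |V'K_p/K_p| |V''K_r/K_r|` -/
theorem ineq_two (nff : NFF (vv (S : Subgroup G))) :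
    F.relIndex (vv (S : Subgroup G)) = (kk (S : Subgroup G) F T P).relIndex (cj (g * x) (vv (S : Subgroup G))) ∨
      2 * F.relIndex (vv (S : Subgroup G)) ≤
        (kk (S : Subgroup G) F T P).relIndex (cj (g * x) (vv (S : Subgroup G))) *
          (kk (S : Subgroup G) F T P).relIndex (cj (g⁻¹ * y) (vv (S : Subgroup G))) := by
  have h1 := delta_eq h c d
  obtain ⟨D, hD⟩ : ∃ D, D = cj (g * x) (vv (S : Subgroup G)) ⊓ kk (S : Subgroup G) F T P := ⟨_, rfl⟩
  rw [← hD] at h1
  by_cases hDc : D ≤ centralizer (cj y (vv (S : Subgroup G)) : Set G)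
  · left
    rw [relIndex_eq_one.2 hDc, mul_one] at h1
    exact h1
  · right
    have hsq : ∀ k : G, ∀ v ∈ cj k (vv (S : Subgroup G)), v * v = 1 := by
      rintro k _ ⟨v, hv, rfl⟩
      rw [← map_mul, vv_mul_self hv, map_one]
    have hDn : D ≤ normalizer (cj y (vv (S : Subgroup G)) : Set G) := by
      rw [hD]
      exact inf_le_right.trans (kk_le_line h d.hy)
    have h2 := jb_of_nff (W := D) (nff.cj y) (hsq y) (fun w hw => hsq (g * x) w (by
      rw [hD] at hw
      exact hw.1)) D le_rfl hDn hDc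
    have h3 : (centralizer (D : Set G)).relIndex (cj y (vv (S : Subgroup G))) ≤
        (kk (S : Subgroup G) F T P).relIndex (cj (g⁻¹ * y) (vv (S : Subgroup G))) := by
      have e1 : (kk (S : Subgroup G) F T P).relIndex (cj (g⁻¹ * y) (vv (S : Subgroup G))) =
          (cj g (kk (S : Subgroup G) F T P)).relIndex (cj y (vv (S : Subgroup G))) := by
        have h4 := relIndex_map_map_of_injective (kk (S : Subgroup G) F T P) (cj (g⁻¹ * y) (vv (S : Subgroup G)))
          (f := (MulAut.conj g).toMonoidHom) (MulAut.conj g).injective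
        have e2 : (cj (g⁻¹ * y) (vv (S : Subgroup G))).map (MulAut.conj g).toMonoidHom = cj y (vv (S : Subgroup G)) := by
          show cj g (cj (g⁻¹ * y) (vv (S : Subgroup G))) = _
          rw [cj_cj, mul_inv_cancel_left]
        rw [← h4]
        exact congrArg _ e2
      rw [e1, ← inf_relIndex_left (cj y (vv (S : Subgroup G))) (cj g (kk (S : Subgroup G) F T P))]
      refine relIndex_le_of_le_left ?_ ?_
      · have h5 := comm_inf h c d
        rw [← hD] at h5
        exact le_centralizer_iff.1 h5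
      · exact index_ne_zero_of_finite
    rw [h1]
    calc 2 * ((kk (S : Subgroup G) F T P).relIndex (cj (g * x) (vv (S : Subgroup G))) *
          (centralizer (cj y (vv (S : Subgroup G)) : Set G)).relIndex D) =
        (kk (S : Subgroup G) F T P).relIndex (cj (g * x) (vv (S : Subgroup G))) *
          (2 * (centralizer (cj y (vv (S : Subgroup G)) : Set G)).relIndex D) := by ring
      _ ≤ _ := Nat.mul_le_mul_left _ (h2.trans h3)

end

/-- (NFF): hyperplanes are good, so `|V : F| ≥ 4` -/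
theorem four_le (h : FP S F T P) (nff : NFF (vv (S : Subgroup G))) : 4 ≤ F.relIndex (vv (S : Subgroup G)) := by
  obtain ⟨n, hn⟩ := relIndex_eq_pow (A := F) (isPGroup_vv (S := S))
  by_contra hcon
  have h1 : n = 0 ∨ n = 1 := by
    rcases Nat.lt_or_ge n 2 with h2 | h2
    · omega
    · exfalso
      apply hcon
      rw [hn]
      calc 4 = 2 ^ 2 := by norm_num
        _ ≤ 2 ^ n := Nat.pow_le_pow_right (by norm_num) h2
  rcases h1 with rfl | rfl
  · rw [pow_zero, relIndex_eq_one] at hn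
    exact h.F_ne_vv (le_antisymm h.F_le hn)
  · rw [pow_one] at hn
    apply h.bad
    refine h.ens.good_of_odd h.F_le h.F_ne fun a haL haF _ => ?_
    -- `A = C_L(F)` acts as a group of transvections
    obtain ⟨A, hA⟩ : ∃ A, A = LL (S : Subgroup G) ⊓ centralizer (F : Set G) := ⟨_, rfl⟩
    have hAL : A ≤ normalizer (vv (S : Subgroup G) : Set G) := hA ▸ inf_le_left
    have hAF : A ≤ centralizer (F : Set G) := hA ▸ inf_le_right
    by_contra hac
    have hAc : ¬ A ≤ centralizer (vv (S : Subgroup G) : Set G) := fun h1 => hac (h1 (by rw [hA]; exact ⟨haL, haF⟩))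
    -- `V = F ∪ v₀F`
    have hmem : ∀ a ∈ A, ∀ v ∈ vv (S : Subgroup G), a * v * a⁻¹ * v⁻¹ ∈ F := by
      intro a ha v hv
      have hav : a * v * a⁻¹ ∈ vv (S : Subgroup G) := (mem_normalizer_iff.1 (hAL ha) v).1 hv
      by_cases hvF : v ∈ F
      · rw [← mem_centralizer_iff.1 (hAF ha) v hvF, mul_inv_cancel_right, mul_inv_cancel]
        exact one_mem _
      · have h2 : a * v * a⁻¹ ∉ F := by
          intro h3
          apply hvF
          have h4 := mem_centralizer_iff.1 (hAF ha) _ h3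
          have e : a * v * a⁻¹ * a = a * v := by group
          rw [e] at h4
          have h5 : a * v * a⁻¹ = v := by
            have h6 : a * (a * v * a⁻¹) = a * v := h4.symm
            exact mul_left_cancel h6
          rw [← h5]
          exact h3
        have h3 := (index_eq_two_iff (H := F.subgroupOf (vv (S : Subgroup G)))).1 hn
        obtain ⟨⟨t, ht⟩, ht2⟩ := h3
        have h4 := ht2 ⟨v, hv⟩
        have h5 := ht2 ⟨a * v * a⁻¹, hav⟩
        have h6 : v * t ∈ F := by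
          rcases h4 with ⟨h7, -⟩ | ⟨h7, -⟩
          · exact h7
          · exact absurd h7 hvF
        have h7 : a * v * a⁻¹ * t ∈ F := by
          rcases h5 with ⟨h7, -⟩ | ⟨h7, -⟩
          · exact h7
          · exact absurd h7 h2
        have h8 := mul_mem h7 (inv_mem h6)
        have e : a * v * a⁻¹ * t * (v * t)⁻¹ = a * v * a⁻¹ * v⁻¹ := by group
        rwa [e] at h8
    -- squares and commutators
    have hdd : ∀ a ∈ A, ∀ b ∈ A, ∀ v ∈ vv (S : Subgroup G), a * b * v * (a * b)⁻¹ =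
        (a * v * a⁻¹ * v⁻¹) * (b * v * b⁻¹ * v⁻¹) * v := by
      intro a ha b hb v hv
      have h2 := hmem b hb v hv
      have h3 := mem_centralizer_iff.1 (hAF ha) _ h2
      have h4 : (b * v * b⁻¹ * v⁻¹) * (a * v * a⁻¹ * v⁻¹) = (a * v * a⁻¹ * v⁻¹) * (b * v * b⁻¹ * v⁻¹) :=
        vv_comm (h.F_le h2) (h.F_le (hmem a ha v hv))
      calc a * b * v * (a * b)⁻¹ = a * (b * v * b⁻¹ * v⁻¹) * v * a⁻¹ := by group
        _ = (b * v * b⁻¹ * v⁻¹) * a * v * a⁻¹ := by rw [h3]
        _ = (b * v * b⁻¹ * v⁻¹) * (a * v * a⁻¹ * v⁻¹) * v := by group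
        _ = (a * v * a⁻¹ * v⁻¹) * (b * v * b⁻¹ * v⁻¹) * v := by rw [h4]
    have hcent : ∀ z : G, (∀ v ∈ vv (S : Subgroup G), z * v * z⁻¹ = v) → z ∈ centralizer (vv (S : Subgroup G) : Set G) := by
      intro z hz
      rw [mem_centralizer_iff]
      intro v hv
      have h2 := hz v hv
      calc v * z = z * v * z⁻¹ * z := by rw [h2]
        _ = z * v := by group
    have h2 := nff A hAL ?_ ?_ hAc
    · -- `|C_V(A)| ≥ |F|`
      have h3 : Nat.card F ≤ Nat.card (vv (S : Subgroup G) ⊓ centralizer (A : Set G) : Subgroup G) :=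
        Subgroup.card_le_of_le (le_inf h.F_le (le_centralizer_iff.1 hAF))
      have e1 := relIndex_mul_card F (vv (S : Subgroup G))
      rw [hn, inf_eq_right.2 h.F_le] at e1
      have e2 := relIndex_mul_card (centralizer (vv (S : Subgroup G) : Set G)) A
      have h4 : (centralizer (vv (S : Subgroup G) : Set G)).relIndex A ≠ 1 := fun h5 => hAc (relIndex_eq_one.1 h5)
      have h5 : (centralizer (vv (S : Subgroup G) : Set G)).relIndex A ≠ 0 := index_ne_zero_of_finite
      have h6 : 2 ≤ (centralizer (vv (S : Subgroup G) : Set G)).relIndex A := by omega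
      rw [← e1, ← e2] at h2
      have h7 : (centralizer (vv (S : Subgroup G) : Set G)).relIndex A *
          Nat.card (A ⊓ centralizer (vv (S : Subgroup G) : Set G) : Subgroup G) * Nat.card F ≤
          2 * Nat.card F * Nat.card (A ⊓ centralizer (vv (S : Subgroup G) : Set G) : Subgroup G) :=
        (Nat.mul_le_mul_left _ h3).trans h2.le
      have h8 : 2 * Nat.card F * Nat.card (A ⊓ centralizer (vv (S : Subgroup G) : Set G) : Subgroup G) ≤
          (centralizer (vv (S : Subgroup G) : Set G)).relIndex A *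
          Nat.card (A ⊓ centralizer (vv (S : Subgroup G) : Set G) : Subgroup G) *
            Nat.card (vv (S : Subgroup G) ⊓ centralizer (A : Set G) : Subgroup G) := by
        calc _ = 2 * Nat.card (A ⊓ centralizer (vv (S : Subgroup G) : Set G) : Subgroup G) * Nat.card F := by ring
          _ ≤ _ := Nat.mul_le_mul (Nat.mul_le_mul_right _ h6) h3
      exact absurd h2 (not_lt.2 h8)
    · intro a ha
      refine hcent _ fun v hv => ?_
      rw [hdd a ha a ha v hv, vv_mul_self (h.F_le (hmem a ha v hv)), one_mul]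
    · intro a ha b hb
      have h3 : a * b * (b * a)⁻¹ = a * b * a⁻¹ * b⁻¹ := by group
      rw [← h3]
      refine hcent _ fun v hv => ?_
      have h4 := hdd a ha b hb v hv
      have h5 := hdd b hb a ha v hv
      have h6 : (b * v * b⁻¹ * v⁻¹) * (a * v * a⁻¹ * v⁻¹) = (a * v * a⁻¹ * v⁻¹) * (b * v * b⁻¹ * v⁻¹) :=
        vv_comm (h.F_le (hmem b hb v hv)) (h.F_le (hmem a ha v hv))
      rw [h6, ← h4] at h5
      -- `ba v (ba)⁻¹ = ab v (ab)⁻¹` for all `v`, so apply it to `v' = (ba)⁻¹ v (ba)`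
      have hv' : (b * a)⁻¹ * v * (b * a) ∈ vv (S : Subgroup G) := by
        have h7 := (mem_normalizer_iff.1 (hAL (inv_mem (mul_mem hb ha))) v).1 hv
        rwa [inv_inv] at h7
      have h7 := hdd a ha b hb _ hv'
      have h8 := hdd b hb a ha _ hv'
      have h9 : (b * ((b * a)⁻¹ * v * (b * a)) * b⁻¹ * ((b * a)⁻¹ * v * (b * a))⁻¹) *
          (a * ((b * a)⁻¹ * v * (b * a)) * a⁻¹ * ((b * a)⁻¹ * v * (b * a))⁻¹) =
          (a * ((b * a)⁻¹ * v * (b * a)) * a⁻¹ * ((b * a)⁻¹ * v * (b * a))⁻¹) *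
          (b * ((b * a)⁻¹ * v * (b * a)) * b⁻¹ * ((b * a)⁻¹ * v * (b * a))⁻¹) :=
        vv_comm (h.F_le (hmem b hb _ hv')) (h.F_le (hmem a ha _ hv'))
      rw [h9, ← h7] at h8
      calc a * b * (b * a)⁻¹ * v * (a * b * (b * a)⁻¹)⁻¹ = a * b * ((b * a)⁻¹ * v * (b * a)) * (a * b)⁻¹ := by group
        _ = b * a * ((b * a)⁻¹ * v * (b * a)) * (b * a)⁻¹ := h8.symm
        _ = v := by group

end Cfsg.Agent.OddCyclic.EmpNSPair
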