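import Cfsg.Agent.OddCyclic.EmpFFAbs
import Cfsg.Agent.OddCyclic.COneSeven

/-!
# (Empty), section 6 of blueprints/S0342-Empty-NS-helper347.md: `L₃(2)` in the FF list

`Sev ρ T L A` : `L ≃ L₃(2)` normal in `H`, `A ≤ L` a four-group with `C_V(a) = C_V(A)` of index 4 for `1 ≠ a ∈ A`.
Then `H = L`, `|V| = 64` and `⟨z^H⟩` has order 8 for `1 ≠ z ∈ C_V(T)`.
-/

set_option autoImplicit false
set_option linter.unusedSectionVars false

namespace Cfsg.Agent.OddCyclic.EmpFFSeven

open Subgroup Cfsg.Agent.OddCyclic.T1Module Cfsg.Agent.OddCyclic.T1Defs Cfsg.Agent.LieExceptional.CITDefs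
  Cfsg.Agent.OddCyclic.PumpMain Cfsg.Agent.OddCyclic.FFBasic Cfsg.Agent.OddCyclic.FFStruct
  Cfsg.Agent.OddCyclic.FFRed Cfsg.Agent.OddCyclic.FFSl2 Cfsg.Agent.OddCyclic.RedFFDefs
  Cfsg.Agent.OddCyclic.BTwoLin.SocleGen Cfsg.Agent.OddCyclic.EmpFFAbs Cfsg.Agent.OddCyclic.FFThree
  Cfsg.Agent.GH.L2Aut

section local32

variable {L : Type*} [Group L] [Finite L]

/-- automorphisms fixing a four-group pointwise are inner -/
theorem cent_inner (hs : IsSimpleGroup L) (hc : Nat.card L = 168) {a b : L} (hf : Four a b) {α : MulAut L}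
    (ha : α a = a) (hb : α b = b) : ∃ u, α = MulAut.conj u := by
  have : Fact (Nat.Prime 7) := ⟨by norm_num⟩
  obtain ⟨e⟩ := Cfsg.Agent.S0495.result (G := L) hc (F := ZMod 7) (ZMod.card 7)
  have R := Cfsg.Agent.GH.L2Aut.Rep.ofEquiv (F := ZMod 7) COneSeven.two_ne e
  obtain ⟨Φ, y, δ, -, -, -, -, -, -, -, -, -, -, -, -, -, h1, -⟩ := R.exists_frame hf
  obtain ⟨u, -, hu⟩ := h1 α ha hb
  refine ⟨u, ?_⟩
  have h2 : R.fld α = 1 := Subsingleton.elim _ _
  rw [hu, h2, map_one, mul_one]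

/-- ordered pairs of generators of a four-group are conjugate -/
theorem pairs (h : L32 L) {a b a' b' : L} (hf : Four a b) (ha' : a' = a ∨ a' = b ∨ a' = a * b)
    (hb' : b' = a ∨ b' = b ∨ b' = a * b) (hne : a' ≠ b') : ∃ k, k * a' * k⁻¹ = a ∧ k * b' * k⁻¹ = b := by
  obtain ⟨y, -, hy1, hy2⟩ := h.fuse a b hf
  obtain ⟨d, hd1, hd2⟩ := h.swap a b hf
  have hab := hf.comm
  have hy3 : y * (a * b) * y⁻¹ = a := by
    have : y * (a * b) * y⁻¹ = (y * a * y⁻¹) * (y * b * y⁻¹) := by group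
    rw [this, hy1, hy2, hab, ← mul_assoc, hf.bb, one_mul]
  have hd3 : d * (a * b) * d⁻¹ = a * b := by
    have : d * (a * b) * d⁻¹ = (d * a * d⁻¹) * (d * b * d⁻¹) := by group
    rw [this, hd1, hd2, hab]
  have inv : ∀ {x w k : L}, k * x * k⁻¹ = w → k⁻¹ * w * k⁻¹⁻¹ = x := by
    intro x w k h1
    rw [← h1]; group
  rcases ha' with rfl | rfl | rfl <;> rcases hb' with rfl | rfl | rfl
  · exact absurd rfl hne
  · exact ⟨1, by group, by group⟩
  · refine ⟨y⁻¹ * d, ?_, ?_⟩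
    · have : y⁻¹ * d * a' * (y⁻¹ * d)⁻¹ = y⁻¹ * (d * a' * d⁻¹) * y⁻¹⁻¹ := by group
      rw [this, hd1, inv hy1]
    · have : y⁻¹ * d * (a' * b) * (y⁻¹ * d)⁻¹ = y⁻¹ * (d * (a' * b) * d⁻¹) * y⁻¹⁻¹ := by group
      rw [this, hd3, inv hy2]
  · exact ⟨d, hd2, hd1⟩
  · exact absurd rfl hne
  · exact ⟨y⁻¹, inv hy1, inv hy2⟩
  · exact ⟨y, hy3, hy1⟩
  · refine ⟨y * d, ?_, ?_⟩
    · have : y * d * (a * b') * (y * d)⁻¹ = y * (d * (a * b') * d⁻¹) * y⁻¹ := by group
      rw [this, hd3, hy3]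
    · have : y * d * b' * (y * d)⁻¹ = y * (d * b' * d⁻¹) * y⁻¹ := by group
      rw [this, hd2, hy1]
  · exact absurd rfl hne

end local32

section bo

variable {X V : Type*} [Group X] [CommGroup V] {ρ : X →* MulAut V}

theorem CS_conj (A : Subgroup X) (g : X) : CS ρ (A.map (MulAut.conj g).toMonoidHom) =
    (CS ρ A).map (ρ g : V ≃* V).toMonoidHom := by
  have key : ∀ (A : Subgroup X) (g : X) (v : V), v ∈ CS ρ A → ρ g v ∈ CS ρ (A.map (MulAut.conj g).toMonoidHom) := by
    rintro A g v hv _ ⟨a, ha, rfl⟩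
    change ρ (g * a * g⁻¹) (ρ g v) = ρ g v
    rw [← MulAut.mul_apply, ← map_mul, inv_mul_cancel_right, map_mul, MulAut.mul_apply, hv a ha]
  ext v
  constructor
  · intro hv
    refine ⟨ρ g⁻¹ v, ?_, ?_⟩
    · have h1 := key _ g⁻¹ v hv
      have h2 : (A.map (MulAut.conj g).toMonoidHom).map (MulAut.conj g⁻¹).toMonoidHom = A := by
        rw [Subgroup.map_map]
        have : (MulAut.conj g⁻¹).toMonoidHom.comp (MulAut.conj g).toMonoidHom = MonoidHom.id X := by
          ext x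
          change g⁻¹ * (g * x * g⁻¹) * g⁻¹⁻¹ = x
          group
        rw [this, Subgroup.map_id]
      rwa [h2] at h1
    · change ρ g (ρ g⁻¹ v) = v
      rw [← MulAut.mul_apply, ← map_mul, mul_inv_cancel, map_one]; rfl
  · rintro ⟨w, hw, rfl⟩
    exact key A g w hw

theorem bo_conj {A : Subgroup X} (hA : BO ρ A) (g : X) : BO ρ (A.map (MulAut.conj g).toMonoidHom) := by
  have hcard : ∀ (B : Subgroup X) (g : X), Nat.card (B.map (MulAut.conj g).toMonoidHom) = Nat.card B :=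
    fun B g => Subgroup.card_map_of_injective (MulAut.conj g).injective
  have hcs : ∀ (B : Subgroup X) (g : X), Nat.card (CS ρ (B.map (MulAut.conj g).toMonoidHom)) = Nat.card (CS ρ B) := by
    intro B g
    rw [CS_conj]
    exact Subgroup.card_map_of_injective (ρ g).injective
  constructor
  · rintro _ ⟨a, ha, rfl⟩
    change g * a * g⁻¹ * (g * a * g⁻¹) = 1
    have : g * a * g⁻¹ * (g * a * g⁻¹) = g * (a * a) * g⁻¹ := by group
    rw [this, hA.sq a ha]; group
  · intro B hB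
    have h1 : B.map (MulAut.conj g⁻¹).toMonoidHom ≤ A := by
      rintro _ ⟨b, hb, rfl⟩
      obtain ⟨a, ha, rfl⟩ := hB hb
      change g⁻¹ * (g * a * g⁻¹) * g⁻¹⁻¹ ∈ A
      have : g⁻¹ * (g * a * g⁻¹) * g⁻¹⁻¹ = a := by group
      rw [this]; exact ha
    have h2 := hA.best _ h1
    rwa [hcard, hcs, ← hcard A g, ← hcs A g] at h2

end bo

variable {H V : Type*} [Group H] [Finite H] [CommGroup V] [Finite V] {ρ : H →* MulAut V} {T L A : Subgroup H}

/-- the second module of `L₃(2)` -/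
structure Sev (ρ : H →* MulAut V) (T L A : Subgroup H) : Prop where
  g : Gen ρ T
  cyc : OddCyc H
  norm : L.Normal
  simple : IsSimpleGroup L
  card : Nat.card L = 168
  le : A ≤ L
  bo : BO ρ A
  idx : ∀ a ∈ L, a ≠ 1 → a * a = 1 → (fx ρ a).index = 4
  four : Nat.card A = 4
  fix : ∀ a ∈ A, a ≠ 1 → fx ρ a = CS ρ A

namespace Sev

theorem l32 (h : Sev ρ T L A) : L32 L := COneSeven.l32 h.simple h.card

theorem mod (h : Sev ρ T L A) : Mod (ρ.comp L.subtype) :=
  ⟨h.l32, h.g.sq, fun _ hy => h.g.ne fun h1 => hy (Subtype.ext h1)⟩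

theorem bo' (_h : Sev ρ T L A) {B : Subgroup H} (hB : BO ρ B) (hBL : B ≤ L) :
    BO (ρ.comp L.subtype) (B.subgroupOf L) :=
  FFLoc.bo_comap hB L.subtype_injective (by rw [Subgroup.range_subtype]; exact hBL)

theorem ne_bot' {B : Subgroup H} (hB : Nat.card B = 4) (hBL : B ≤ L) : B.subgroupOf L ≠ ⊥ := by
  intro h1
  have h2 : Nat.card (B.subgroupOf L) = Nat.card B := Nat.card_congr (Subgroup.subgroupOfEquivOfLe hBL).toEquiv
  rw [h1, Subgroup.card_bot, hB] at h2
  omega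

open scoped Pointwise in
/-- elements of `H` act on `A` as elements of `L` -/
theorem exists_mul (h : Sev ρ T L A) (x : H) : ∃ l ∈ L, ∃ c ∈ centralizer (L : Set H), x = l * c := by
  have hLn := h.norm
  have hf2 : Fact (Nat.Prime 2) := ⟨Nat.prime_two⟩
  -- a Sylow 2-subgroup of `L` containing `A`
  have hp : ∀ B : Subgroup H, Nat.card B = 4 → B ≤ L → IsPGroup 2 (B.subgroupOf L) := by
    intro B hB hBL
    exact IsPGroup.of_card (n := 2) (by
      rw [Nat.card_congr (Subgroup.subgroupOfEquivOfLe hBL).toEquiv, hB]; norm_num)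
  obtain ⟨S, hS⟩ := (hp A h.four h.le).exists_le_sylow
  set B := A.map (MulAut.conj x).toMonoidHom with hBdef
  have hBL : B ≤ L := by
    rintro _ ⟨a, ha, rfl⟩
    exact hLn.conj_mem a (h.le ha) x
  have hB4 : Nat.card B = 4 := by
    rw [hBdef, Subgroup.card_map_of_injective (MulAut.conj x).injective, h.four]
  obtain ⟨Q, hQ⟩ := (hp B hB4 hBL).exists_le_sylow
  obtain ⟨l, hl⟩ := MulAction.exists_smul_eq L Q S
  set n : H := (l : H) * x with hn
  have hn4 : Nat.card (A.map (MulAut.conj n).toMonoidHom) = 4 := by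
    rw [Subgroup.card_map_of_injective (MulAut.conj n).injective, h.four]
  have hnL : A.map (MulAut.conj n).toMonoidHom ≤ L := by
    rintro _ ⟨a, ha, rfl⟩
    exact hLn.conj_mem a (h.le ha) n
  have hnS : (A.map (MulAut.conj n).toMonoidHom).subgroupOf L ≤ S := by
    intro y hy
    rw [Subgroup.mem_subgroupOf] at hy
    obtain ⟨a, ha, hay⟩ := hy
    rw [← hl]
    change y ∈ (MulAut.conj l • (Q : Subgroup L))
    rw [Subgroup.mem_pointwise_smul_iff_inv_smul_mem]
    apply hQ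
    rw [Subgroup.mem_subgroupOf]
    refine ⟨a, ha, ?_⟩
    rw [← map_inv, MulAut.smul_def, MulAut.conj_apply]
    change x * a * x⁻¹ = (l : H)⁻¹ * y * (l : H)⁻¹⁻¹
    rw [← hay]
    change x * a * x⁻¹ = (l : H)⁻¹ * (n * a * n⁻¹) * (l : H)⁻¹⁻¹
    rw [hn]; group
  have heq : (A.map (MulAut.conj n).toMonoidHom).subgroupOf L = A.subgroupOf L := by
    refine FFThree.unique h.mod ?_ S (h.bo' (bo_conj h.bo n) hnL) (ne_bot' hn4 hnL) hnS (h.bo' h.bo h.le)
      (ne_bot' h.four h.le) hS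
    intro a ha1 ha
    exact h.idx a a.2 (fun h1 => ha1 (Subtype.ext h1)) (congrArg Subtype.val ha)
  have hnA : ∀ a ∈ A, n * a * n⁻¹ ∈ A := by
    intro a ha
    have h1 : (⟨n * a * n⁻¹, hLn.conj_mem a (h.le ha) n⟩ : L) ∈ (A.map (MulAut.conj n).toMonoidHom).subgroupOf L :=
      Subgroup.mem_subgroupOf.2 ⟨a, ha, rfl⟩
    rw [heq] at h1
    exact Subgroup.mem_subgroupOf.1 h1
  -- generators of `A`
  have hA4 : IsFour (A.subgroupOf L) := ⟨by
    rw [Nat.card_congr (Subgroup.subgroupOfEquivOfLe h.le).toEquiv, h.four], fun a ha =>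
    Subtype.ext (h.bo.sq a (Subgroup.mem_subgroupOf.1 ha))⟩
  obtain ⟨a, ha, b, hb, hab, hmem⟩ := hA4.exists_four
  have key : ∀ w ∈ A.subgroupOf L, w ≠ 1 → MulAut.conjNormal n w = a ∨ MulAut.conjNormal n w = b ∨
      MulAut.conjNormal n w = a * b := by
    intro w hw hw1
    have h1 : MulAut.conjNormal n w ∈ A.subgroupOf L := by
      rw [Subgroup.mem_subgroupOf, MulAut.conjNormal_apply]
      exact hnA _ (Subgroup.mem_subgroupOf.1 hw)
    rcases (hmem _).1 h1 with h2 | h2 | h2 | h2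
    · exfalso
      apply hw1
      rwa [map_eq_one_iff _ (MulAut.conjNormal n).injective] at h2
    · exact Or.inl h2
    · exact Or.inr (Or.inl h2)
    · exact Or.inr (Or.inr h2)
  obtain ⟨k, hk1, hk2⟩ := pairs h.l32 hab (key a ha hab.a1) (key b hb hab.b1)
    (fun h1 => hab.ne ((MulAut.conjNormal n).injective h1))
  obtain ⟨u, hu⟩ := cent_inner h.simple h.card hab (α := MulAut.conj k * MulAut.conjNormal n)
    (by rw [MulAut.mul_apply, MulAut.conj_apply]; exact hk1) (by rw [MulAut.mul_apply, MulAut.conj_apply]; exact hk2)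
  refine ⟨(l : H)⁻¹ * (k : H)⁻¹ * u, mul_mem (mul_mem (inv_mem l.2) (inv_mem k.2)) u.2, (u : H)⁻¹ * k * l * x, ?_, ?_⟩
  · rw [mem_centralizer_iff]
    intro y hy
    have h1 := congrArg (fun α : MulAut L => ((α ⟨y, hy⟩ : L) : H)) hu
    simp only [MulAut.mul_apply, MulAut.conj_apply] at h1
    change (k : H) * ((MulAut.conjNormal n (⟨y, hy⟩ : L) : L) : H) * (k : H)⁻¹ = u * y * (u : H)⁻¹ at h1
    rw [MulAut.conjNormal_apply] at h1
    change (k : H) * (n * y * n⁻¹) * (k : H)⁻¹ = u * y * (u : H)⁻¹ at h1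
    rw [hn] at h1
    have h2 : y = (u : H)⁻¹ * ((k : H) * ((l : H) * x * y * ((l : H) * x)⁻¹) * (k : H)⁻¹) * u := by rw [h1]; group
    calc y * ((u : H)⁻¹ * k * l * x)
        = (u : H)⁻¹ * ((k : H) * ((l : H) * x * y * ((l : H) * x)⁻¹) * (k : H)⁻¹) * u * ((u : H)⁻¹ * k * l * x) := by
          rw [← h2]
      _ = (u : H)⁻¹ * k * l * x * y := by group
  · group

theorem prim73 : Prim 7 3 := by
  refine ⟨by norm_num, by norm_num, fun d => ?_⟩
  have h1 : ∀ k r : ℕ, 2 ^ (3 * k + r) % 7 = 2 ^ r % 7 := by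
    intro k r
    induction k with
    | zero => simp
    | succ k ih =>
      have : 2 ^ (3 * (k + 1) + r) = 8 * 2 ^ (3 * k + r) := by ring
      rw [this]; omega
  have h2 : 1 ≤ 2 ^ d := Nat.one_le_two_pow
  have h3 := h1 (d / 3) (d % 3)
  rw [Nat.div_add_mod] at h3
  have h4 : d % 3 = 0 ∨ d % 3 = 1 ∨ d % 3 = 2 := by omega
  rcases h4 with h5 | h5 | h5
  · rw [h5] at h3; norm_num at h3; omega
  · rw [h5] at h3; norm_num at h3; omega
  · rw [h5] at h3; norm_num at h3; omega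

theorem idx64 (h : Sev ρ T L A) : (CS ρ L).index ≤ 64 := by
  obtain ⟨w, b, c, hw, hw1, hb, hb1, hc, hc1, -, hg⟩ := h.l32.gen
  have h1 : fx ρ (w : H) ⊓ (fx ρ (b : H) ⊓ fx ρ (c : H)) ≤ CS ρ L := by
    rintro v ⟨h1, h2, h3⟩ x hx
    let N : Subgroup L :=
      { carrier := {g | ρ (g : H) v = v}
        mul_mem' := fun {a b} ha hb => by
          change ρ ((a : H) * b) v = v
          rw [map_mul, MulAut.mul_apply, hb, ha]
        one_mem' := by
          change ρ ((1 : L) : H) v = v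
          rw [Subgroup.coe_one, map_one]; rfl
        inv_mem' := fun {a} ha => fx_inv ρ (v := v) ha }
    have h4 : closure {w, b * c * w} ≤ N := by
      rw [closure_le]
      rintro _ (rfl | rfl)
      · exact h1
      · exact N.mul_mem (N.mul_mem h2 h3) h1
    rw [hg] at h4
    exact h4 (Subgroup.mem_top ⟨x, hx⟩)
  have h2 : ∀ a : L, a * a = 1 → a ≠ 1 → (fx ρ (a : H)).index = 4 := fun a ha ha1 =>
    h.idx a a.2 (fun h => ha1 (Subtype.ext h)) (congrArg Subtype.val ha)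
  refine (index_le_of_le h1).trans (Subgroup.index_inf_le.trans ?_)
  refine (Nat.mul_le_mul_left _ Subgroup.index_inf_le).trans ?_
  rw [h2 w hw hw1, h2 b hb hb1, h2 c hc hc1]

/-- elements of order 7 -/
theorem exists_seven (h : Sev ρ T L A) : ∃ u ∈ L, orderOf u = 7 := by
  have hf : Fact (Nat.Prime 7) := ⟨by norm_num⟩
  obtain ⟨y, hy⟩ := exists_prime_orderOf_dvd_card' (G := L) 7 (by rw [h.card]; norm_num)
  exact ⟨y, y.2, by rw [Subgroup.orderOf_coe]; exact hy⟩

theorem card_le (h : Sev ρ T L A) {u : H} (huL : u ∈ L) : Nat.card (cm ρ u).range ≤ 64 := by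
  rw [card_range_cm]
  exact (index_le_of_le (CS_le_fx huL)).trans h.idx64

/-- primes dividing the order of `C_H(L)` -/
theorem coprime (h : Sev ρ T L A) {c : H} (hc : c ∈ centralizer (L : Set H)) {r : ℕ} (hr : r.Prime)
    (hcr : orderOf c = r) (hr2 : r ≠ 2) : r ≠ 3 ∧ r ≠ 7 := by
  have h1 : ¬ r ∣ Nat.card L := by
    intro h1
    have h2 := CompBasic.mem_of_orderOf h.cyc hr hr2 h.norm h1 hcr
    obtain ⟨u, huL, hu⟩ := h.exists_seven
    have h3 : (⟨c, h2⟩ : L) ∈ center L := by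
      rw [Subgroup.mem_center_iff]
      intro g
      exact Subtype.ext ((mem_centralizer_iff.mp hc) g g.2)
    have h4 := h.simple
    rcases h4.eq_bot_or_eq_top_of_normal (center L) inferInstance with h5 | h5
    · rw [h5, Subgroup.mem_bot] at h3
      have h6 : c = 1 := congrArg Subtype.val h3
      rw [h6, orderOf_one] at hcr
      exact hr.one_lt.ne hcr
    · obtain ⟨a, b, hab⟩ := h.l32.four
      obtain ⟨y, -, hy, -⟩ := h.l32.fuse a b hab
      have h6 : a ∈ center L := by rw [h5]; trivial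
      rw [Subgroup.mem_center_iff] at h6
      apply hab.ne
      rw [← hy, h6 y, mul_inv_cancel_right]
  rw [h.card] at h1
  constructor
  · rintro rfl; exact h1 (by norm_num)
  · rintro rfl; exact h1 (by norm_num)

/-- `r`-elements of `C_H(L)` centralise `[V, u]` -/
theorem fix_seven (h : Sev ρ T L A) {u : H} (huL : u ∈ L) (hu : orderOf u = 7) {r : ℕ} (hr : r.Prime)
    (hr2 : r ≠ 2) : ∀ (j : ℕ) {c : H}, c ∈ centralizer (L : Set H) → c ^ r ^ j = 1 →
      ∀ v ∈ (cm ρ u).range, ρ c v = v := by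
  intro j
  induction j with
  | zero =>
    intro c _ hcj v _
    rw [pow_zero, pow_one] at hcj
    rw [hcj, map_one]; rfl
  | succ j ih =>
    intro c hc hcj
    have hcr : ∀ v ∈ (cm ρ u).range, ρ (c ^ r) v = v := ih (pow_mem hc r) (by
      rw [← pow_mul, ← pow_succ']; exact hcj)
    have hcu : c * u = u * c := ((mem_centralizer_iff.mp hc) u huL).symm
    set R := (cm ρ u).range with hR
    have hst : ∀ g ∈ zpowers c, ∀ v ∈ R, ρ g v ∈ R := by
      rintro _ ⟨n, rfl⟩ v hv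
      exact apply_mem_range ρ ((show Commute c u from hcu).zpow_left n).eq hv
    by_contra hcon
    push Not at hcon
    obtain ⟨v, hv, hv1⟩ := hcon
    let σ : MulAut R := res ρ (zpowers c) R hst ⟨c, mem_zpowers c⟩
    have hσ : ∀ w : R, ((σ w : R) : V) = ρ c w := fun w => rfl
    have hσn : ∀ (n : ℕ) (w : R), (((σ ^ n) w : R) : V) = ρ (c ^ n) w := by
      intro n
      induction n with
      | zero => intro w; rw [pow_zero, pow_zero, map_one]; rfl
      | succ n ihn =>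
        intro w
        rw [pow_succ, MulAut.mul_apply, ihn, hσ, pow_succ, map_mul, MulAut.mul_apply]
    have hσr : σ ^ r = 1 := by
      ext w
      rw [hσn, hcr w w.2]; rfl
    have hσ1 : σ ≠ 1 := by
      intro h1
      apply hv1
      have := hσ ⟨v, hv⟩
      rw [h1] at this
      exact this.symm
    have hf : Fact r.Prime := ⟨hr⟩
    have hσo : orderOf σ = r := orderOf_eq_prime hσr hσ1
    have hRsq : ∀ w : R, w * w = 1 := fun w => Subtype.ext (h.g.sq w)
    obtain ⟨d, hd, h1, h2⟩ := prim (ρ := MonoidHom.id (MulAut R)) hRsq hr hr2 hσo ⟨⟨v, hv⟩, fun h1 => hv1 (by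
      have := congrArg Subtype.val h1
      exact this)⟩
    rw [← card_range_cm] at h1
    have h3 := card_inv (ρ := ρ) h.g.sq prim73 hu (W := ((cm (MonoidHom.id (MulAut R)) σ).range).map R.subtype) (by
      rintro _ ⟨w, -, rfl⟩
      exact w.2) (by
      rintro _ ⟨_, ⟨w, rfl⟩, rfl⟩
      refine ⟨cm (MonoidHom.id (MulAut R)) σ ⟨ρ u w, apply_mem_range ρ rfl w.2⟩, ⟨_, rfl⟩, ?_⟩
      change ρ c (ρ u w) * (ρ u w)⁻¹ = ρ u (ρ c w * (w : V)⁻¹)
      rw [map_mul (ρ u), map_inv (ρ u), ← MulAut.mul_apply, ← MulAut.mul_apply, ← map_mul, ← map_mul, hcu])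
    obtain ⟨d', hd', h3d⟩ := h3
    rw [Subgroup.card_map_of_injective R.subtype_injective, h1] at hd'
    have h4 : d = d' := Nat.pow_right_injective (le_refl 2) hd'
    subst h4
    have h5 : Nat.card (cm (MonoidHom.id (MulAut R)) σ).range ≤ Nat.card R :=
      Nat.card_le_card_of_injective _ Subtype.val_injective
    rw [h1] at h5
    have h6 : 2 ^ d ≤ 2 ^ 6 := h5.trans (h.card_le huL)
    have h7 := (Nat.pow_le_pow_iff_right (by norm_num)).1 h6
    have h8 : r = 3 ∨ r = 7 := by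
      have h9 : d = 3 ∨ d = 6 := by omega
      have h10 : r ∣ 3 * 3 * 7 := by
        rcases h9 with rfl | rfl
        · exact Dvd.dvd.mul_left (by norm_num at h2; exact h2) _
        · norm_num at h2 ⊢; exact h2
      rcases (Nat.Prime.dvd_mul hr).1 h10 with h11 | h11
      · rcases (Nat.Prime.dvd_mul hr).1 h11 with h12 | h12
        · exact Or.inl ((Nat.prime_dvd_prime_iff_eq hr Nat.prime_three).1 h12)
        · exact Or.inl ((Nat.prime_dvd_prime_iff_eq hr Nat.prime_three).1 h12)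
      · exact Or.inr ((Nat.prime_dvd_prime_iff_eq hr (by norm_num)).1 h11)
    -- an element of order `r`
    have h9 : c ≠ 1 := by
      rintro rfl
      apply hv1
      rw [map_one]; rfl
    have h10 : r ∣ orderOf c := by
      obtain ⟨k, -, hk⟩ := (Nat.dvd_prime_pow hr).1 (orderOf_dvd_of_pow_eq_one hcj)
      rw [hk]
      refine dvd_pow_self r ?_
      rintro rfl
      rw [pow_zero, orderOf_eq_one_iff] at hk
      exact h9 hk
    have h11 := h.coprime (c := c ^ (orderOf c / r)) (pow_mem hc _) hr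
      (orderOf_pow_orderOf_div (orderOf_pos c).ne' h10) hr2
    rcases h8 with h8 | h8
    · exact h11.1 h8
    · exact h11.2 h8

/-- `r`-elements of `C_H(L)` centralise `V/C_V(L)` -/
theorem comm_mem (h : Sev ρ T L A) {r : ℕ} (hr : r.Prime) (hr2 : r ≠ 2) {j : ℕ} {c : H}
    (hc : c ∈ centralizer (L : Set H)) (hcj : c ^ r ^ j = 1) (v : V) : ρ c v * v⁻¹ ∈ CS ρ L := by
  obtain ⟨u, huL, hu⟩ := h.exists_seven
  have hu1 : u ≠ 1 := by rintro rfl; rw [orderOf_one] at hu; omega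
  have hodd : Odd (orderOf c) := by
    obtain ⟨k, -, hk⟩ := (Nat.dvd_prime_pow hr).1 (orderOf_dvd_of_pow_eq_one hcj)
    rw [hk]
    exact (hr.odd_of_ne_two hr2).pow
  have hst : ∀ g ∈ L, ∀ w ∈ (cm ρ c).range, ρ g w ∈ (cm ρ c).range := fun g hg w hw =>
    apply_mem_range ρ ((mem_centralizer_iff.mp hc) g hg) hw
  have h1 : ∀ w ∈ (cm ρ c).range, ρ u w = w := by
    intro w hw
    have h2 : ρ u w * w⁻¹ ∈ (cm ρ c).range := mul_mem (hst u huL w hw) (inv_mem hw)
    have h3 := h.fix_seven huL hu hr hr2 j hc hcj (ρ u w * w⁻¹) ⟨w, rfl⟩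
    exact mul_inv_eq_one.1 (eq_one_of_fix h.g.sq hodd h2 h3)
  have h2 := fix_of_one h.simple hst huL hu1 h1
  intro g hg
  exact h2 g hg _ ⟨v, rfl⟩

end Sev

end Cfsg.Agent.OddCyclic.EmpFFSeven
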