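import Cfsg.Agent.OddCyclic.EmpFFSeven

/-!
# (Empty), section 6: the second module of `L₃(2)`, end of the proof

`Sev ρ T L A` : `C_V(L) = 1`, `L = H`, `|V| = 64` and `⟨z^H⟩` has order 8 for `1 ≠ z ∈ C_V(T)`.
-/

set_option autoImplicit false
set_option linter.unusedSectionVars false

namespace Cfsg.Agent.OddCyclic.EmpFFSevenB

open Subgroup Cfsg.Agent.OddCyclic.T1Module Cfsg.Agent.OddCyclic.T1Defs Cfsg.Agent.LieExceptional.CITDefs
  Cfsg.Agent.OddCyclic.PumpMain Cfsg.Agent.OddCyclic.FFBasic Cfsg.Agent.OddCyclic.FFStruct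
  Cfsg.Agent.OddCyclic.FFRed Cfsg.Agent.OddCyclic.FFSl2 Cfsg.Agent.OddCyclic.RedFFDefs
  Cfsg.Agent.OddCyclic.BTwoLin.SocleGen Cfsg.Agent.OddCyclic.EmpFFAbs Cfsg.Agent.OddCyclic.FFThree
  Cfsg.Agent.OddCyclic.EmpFFSeven

variable {H V : Type*} [Group H] [Finite H] [CommGroup V] [Finite V] {ρ : H →* MulAut V} {T L A : Subgroup H}

/-- `C_H(L)` moves `C_V(T)` inside `C_V(L)` only -/
theorem central_one (h : Sev ρ T L A) {z : V} (hz : z ∈ CS ρ T) :
    ∀ c ∈ centralizer (L : Set H), ρ c z * z⁻¹ ∈ CS ρ L := by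
  have hLn := h.norm
  have hD : ∀ g, ∀ v ∈ CS ρ L, ρ g v ∈ CS ρ L := fun g v hv => CS_inv g hv
  let St : Subgroup H :=
    { carrier := {g | ρ g z * z⁻¹ ∈ CS ρ L}
      mul_mem' := fun {a b} ha hb => by
        change ρ (a * b) z * z⁻¹ ∈ CS ρ L
        have h1 : ρ (a * b) z * z⁻¹ = ρ a (ρ b z * z⁻¹) * (ρ a z * z⁻¹) := by
          rw [map_mul, MulAut.mul_apply, map_mul (ρ a), map_inv (ρ a)]
          group
        rw [h1]
        exact mul_mem (hD _ _ hb) ha
      one_mem' := by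
        change ρ 1 z * z⁻¹ ∈ CS ρ L
        rw [map_one, MulAut.one_apply, mul_inv_cancel]
        exact one_mem _
      inv_mem' := fun {a} ha => by
        change ρ a⁻¹ z * z⁻¹ ∈ CS ρ L
        have h2 : ρ a⁻¹ (ρ a z) = z := by
          rw [← MulAut.mul_apply, ← map_mul, inv_mul_cancel, map_one]; rfl
        have h1 : ρ a⁻¹ z * z⁻¹ = (ρ a⁻¹ (ρ a z * z⁻¹))⁻¹ := by
          rw [map_mul (ρ a⁻¹), h2, map_inv (ρ a⁻¹)]
          group
        rw [h1]
        exact inv_mem (hD _ _ ha) }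
  have key : (St.subgroupOf (centralizer (L : Set H))).index = 1 := by
    rw [Nat.eq_one_iff_not_exists_prime_dvd]
    intro r hr hdvd
    have hf : Fact r.Prime := ⟨hr⟩
    by_cases hr2 : r = 2
    · subst hr2
      have h1 : T.subgroupOf (centralizer (L : Set H)) ≤ St.subgroupOf (centralizer (L : Set H)) := by
        intro x hx
        rw [Subgroup.mem_subgroupOf] at hx ⊢
        change ρ (x : H) z * z⁻¹ ∈ CS ρ L
        rw [hz x hx, mul_inv_cancel]
        exact one_mem _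
      have h2 := Cfsg.Agent.Lib.SylowNormalInf.not_dvd_relIndex (h.g.two.toSylow h.g.index)
        (centralizer (L : Set H))
      exact h2 (hdvd.trans (Subgroup.index_dvd_of_le h1))
    · let P : Sylow r (centralizer (L : Set H)) := default
      have h1 : (P : Subgroup (centralizer (L : Set H))) ≤ St.subgroupOf (centralizer (L : Set H)) := by
        intro x hx
        obtain ⟨j, hj⟩ := P.isPGroup' ⟨x, hx⟩
        have h2 : (x : H) ^ r ^ j = 1 := by
          have := congrArg (fun y : P => ((y : centralizer (L : Set H)) : H)) hj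
          exact this
        exact h.comm_mem hr hr2 x.2 h2 z
      exact P.not_dvd_index (hdvd.trans (Subgroup.index_dvd_of_le h1))
  rw [Subgroup.index_eq_one] at key
  intro c hc
  have h1 : (⟨c, hc⟩ : centralizer (L : Set H)) ∈ St.subgroupOf (centralizer (L : Set H)) := by
    rw [key]; trivial
  exact h1

theorem central (h : Sev ρ T L A) {c : H} (hc : c ∈ centralizer (L : Set H)) (v : V) :
    ρ c v * v⁻¹ ∈ CS ρ L := by
  have hLn := h.norm
  let U : Subgroup V :=
    { carrier := {v | ∀ c ∈ centralizer (L : Set H), ρ c v * v⁻¹ ∈ CS ρ L}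
      mul_mem' := fun {a b} ha hb c hc => by
        have h1 : ρ c (a * b) * (a * b)⁻¹ = (ρ c a * a⁻¹) * (ρ c b * b⁻¹) := by
          rw [map_mul, mul_inv]
          exact mul_mul_mul_comm _ _ _ _
        rw [h1]
        exact mul_mem (ha c hc) (hb c hc)
      one_mem' := fun c _ => by
        rw [map_one, mul_inv_cancel]; exact one_mem _
      inv_mem' := fun {a} ha c hc => by
        have h1 : ρ c a⁻¹ * a⁻¹⁻¹ = (ρ c a * a⁻¹)⁻¹ := by
          rw [map_inv, mul_inv]
        rw [h1]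
        exact inv_mem (ha c hc) }
  have h1 : U = ⊤ := by
    refine h.g.gen U (fun z hz => central_one h hz) ?_
    intro g w hw c hc
    have h2 : g⁻¹ * c * g ∈ centralizer (L : Set H) := by
      have := (inferInstance : (centralizer (L : Set H)).Normal).conj_mem c hc g⁻¹
      rwa [inv_inv] at this
    have h3 : ρ c (ρ g w) * (ρ g w)⁻¹ = ρ g (ρ (g⁻¹ * c * g) w * w⁻¹) := by
      have h4 : g * (g⁻¹ * c * g) = c * g := by group
      rw [map_mul (ρ g), map_inv (ρ g), ← MulAut.mul_apply, ← MulAut.mul_apply, ← map_mul, ← map_mul, h4]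
    rw [h3]
    exact CS_inv g (hw _ h2)
  have h2 : v ∈ U := by rw [h1]; trivial
  exact h2 c hc

/-- `C_V(L) = 1` -/
theorem bot (h : Sev ρ T L A) : CS ρ L = ⊥ := by
  have hLn := h.norm
  have hL1 : L ≠ ⊥ := by
    intro h1
    have h2 := h.card
    rw [h1, Subgroup.card_bot] at h2
    omega
  refine h.g.irr hL1 fun Y hY hYL => ?_
  refine h.g.gen _ (hY.trans le_sup_left) ?_
  intro x w hw
  obtain ⟨l, hl, c, hc, rfl⟩ := h.exists_mul x
  rw [Subgroup.mem_sup] at hw
  obtain ⟨y, hy, d, hd, rfl⟩ := hw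
  have h1 : ρ c y ∈ Y ⊔ CS ρ L := by
    have h2 : ρ c y = y * (ρ c y * y⁻¹) := by rw [mul_comm y, inv_mul_cancel_right]
    rw [h2]
    exact mul_mem (Subgroup.mem_sup_left hy) (Subgroup.mem_sup_right (central h hc y))
  have h2 : ∀ w ∈ Y ⊔ CS ρ L, ρ l w ∈ Y ⊔ CS ρ L := by
    intro w hw
    rw [Subgroup.mem_sup] at hw
    obtain ⟨y, hy, d, hd, rfl⟩ := hw
    rw [map_mul]
    exact mul_mem (Subgroup.mem_sup_left (hYL l hl y hy)) (Subgroup.mem_sup_right (CS_inv l hd))
  rw [map_mul, map_mul, MulAut.mul_apply, MulAut.mul_apply]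
  exact mul_mem (h2 _ h1) (Subgroup.mem_sup_right (CS_inv l (CS_inv c hd)))

theorem eq_top (h : Sev ρ T L A) : L = ⊤ := by
  rw [eq_top_iff]
  intro x _
  obtain ⟨l, hl, c, hc, rfl⟩ := h.exists_mul x
  have h1 : c = 1 := by
    apply h.g.inj
    rw [map_one]
    ext v
    have h2 := central h hc v
    rw [bot h, Subgroup.mem_bot, mul_inv_eq_one] at h2
    exact h2
  rw [h1, mul_one]
  exact hl

theorem card_V (h : Sev ρ T L A) : Nat.card V ≤ 64 := by
  have h1 := h.idx64
  rwa [bot h, Subgroup.index_bot] at h1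

end Cfsg.Agent.OddCyclic.EmpFFSevenB
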