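import Cfsg.Agent.OddCyclic.EmpFFSevenB

/-!
# (Empty), section 6: the structure of the module `N ⊕ N` of `L₃(2)`
-/

set_option autoImplicit false
set_option linter.unusedSectionVars false

namespace Cfsg.Agent.OddCyclic.EmpFFSevenC

open Subgroup Cfsg.Agent.OddCyclic.T1Module Cfsg.Agent.OddCyclic.T1Defs Cfsg.Agent.LieExceptional.CITDefs
  Cfsg.Agent.OddCyclic.PumpMain Cfsg.Agent.OddCyclic.FFBasic Cfsg.Agent.OddCyclic.FFStruct
  Cfsg.Agent.OddCyclic.FFRed Cfsg.Agent.OddCyclic.FFSl2 Cfsg.Agent.OddCyclic.RedFFDefs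
  Cfsg.Agent.OddCyclic.BTwoLin.SocleGen Cfsg.Agent.OddCyclic.EmpFFAbs Cfsg.Agent.OddCyclic.FFThree
  Cfsg.Agent.OddCyclic.EmpFFSeven Cfsg.Agent.OddCyclic.EmpFFSevenB

variable {H V : Type*} [Group H] [Finite H] [CommGroup V] [Finite V] {ρ : H →* MulAut V}

/-- `L₃(2)` with all involutions of index 4, `A` a four-group with `C_V(a) = C_V(A)` -/
structure Two (ρ : H →* MulAut V) (T : Sylow 2 H) (A : Subgroup H) : Prop where
  simple : IsSimpleGroup (⊤ : Subgroup H)
  l32 : L32 H
  sq : ∀ v : V, v * v = 1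
  inj : Function.Injective ρ
  bot : CS ρ (⊤ : Subgroup H) = ⊥
  le : A ≤ T
  four : IsFour A
  fix : ∀ a ∈ A, a ≠ 1 → fx ρ a = CS ρ A
  idx : ∀ a : H, a ≠ 1 → a * a = 1 → (fx ρ a).index = 4
  cardV : Nat.card V ≤ 64

namespace Two

variable {T : Sylow 2 H} {A : Subgroup H}

/-- the orbit -/
noncomputable def om (ρ : H →* MulAut V) (z : V) : Finset V := (Set.toFinite (Set.range fun h : H => ρ h z)).toFinset

theorem mem_om {z x : V} : x ∈ om ρ z ↔ ∃ h, ρ h z = x := by
  rw [om, Set.Finite.mem_toFinset, Set.mem_range]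

theorem self_mem (z : V) : z ∈ om ρ z := mem_om.2 ⟨1, by rw [map_one]; rfl⟩

theorem apply_mem {z x : V} (hx : x ∈ om ρ z) (g : H) : ρ g x ∈ om ρ z := by
  obtain ⟨h, rfl⟩ := mem_om.1 hx
  exact mem_om.2 ⟨g * h, by rw [map_mul]; rfl⟩

theorem om_eq {z x : V} (hx : x ∈ om ρ z) : om ρ x = om ρ z := by
  obtain ⟨h, rfl⟩ := mem_om.1 hx
  ext y
  rw [mem_om, mem_om]
  constructor
  · rintro ⟨g, rfl⟩
    exact ⟨g * h, by rw [map_mul]; rfl⟩
  · rintro ⟨g, rfl⟩
    refine ⟨g * h⁻¹, ?_⟩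
    rw [← MulAut.mul_apply, ← map_mul, inv_mul_cancel_right]

/-- the stabiliser -/
def st (ρ : H →* MulAut V) (z : V) : Subgroup H where
  carrier := {h | ρ h z = z}
  mul_mem' := fun {a b} ha hb => by
    change ρ (a * b) z = z
    rw [map_mul, MulAut.mul_apply, hb, ha]
  one_mem' := by change ρ 1 z = z; rw [map_one]; rfl
  inv_mem' := fun {a} ha => fx_inv ρ (v := z) ha

theorem mem_st {z : V} {h : H} : h ∈ st ρ z ↔ ρ h z = z := Iff.rfl

theorem card_om (z : V) : (om ρ z).card = (st ρ z).index := by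
  let _ : MulAction H V := MulAction.compHom V ρ
  have h1 := MulAction.index_stabilizer H z
  have h2 : MulAction.stabilizer H z = st ρ z := by
    ext h; exact Iff.rfl
  rw [h2] at h1
  rw [h1]
  have h3 : MulAction.orbit H z = (om ρ z : Set V) := by
    ext x
    rw [Finset.mem_coe, mem_om]
    exact Iff.rfl
  rw [h3, Set.ncard_coe_finset]

variable (h : Two ρ T A) {z : V}

include h

theorem exists_par : ∃ B, Par ρ T A B := FFThree.par h.l32 T h.four h.le h.fix

theorem card_H : Nat.card H = 168 := h.l32.card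

/-- the stabiliser of a fixed point of `T` -/
theorem dvd_st (hz : z ∈ CS ρ (T : Subgroup H)) : 24 ∣ Nat.card (st ρ z) := by
  obtain ⟨B, hB⟩ := h.exists_par
  have hBN : normalizer (B : Set H) ≤ st ρ z := fun x hx => hB.cent x hx z hz
  have h8 : 8 ∣ Nat.card (normalizer (B : Set H)) := by
    have h2 := Subgroup.card_dvd_of_le (sylow_le_normalizer h.l32 T hB.four hB.le)
    change Nat.card T ∣ _ at h2
    rwa [card_sylow h.l32 T] at h2
  have h3 : 3 ∣ Nat.card (normalizer (B : Set H)) := by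
    obtain ⟨s, hs, t, ht, hst, hmem⟩ := hB.four.exists_four
    obtain ⟨y, hyN, hy3, hy1, -⟩ := fuse_mem h.l32 hst hmem
    have hy1' : y ≠ 1 := by
      rintro rfl
      rw [one_mul, inv_one, mul_one] at hy1
      exact hst.ne hy1
    have : Fact (Nat.Prime 3) := ⟨Nat.prime_three⟩
    have h5 : orderOf y = 3 := orderOf_eq_prime (by rw [pow_succ, pow_two]; exact hy3) hy1'
    rw [← h5, ← Subgroup.orderOf_mk y hyN]
    exact orderOf_dvd_natCard _
  exact (Nat.Coprime.mul_dvd_of_dvd_of_dvd (by norm_num : Nat.Coprime 8 3) h8 h3).trans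
    (Subgroup.card_dvd_of_le hBN)

theorem eq_one_of_all (hz : ∀ g, ρ g z = z) : z = 1 := by
  have h1 : z ∈ CS ρ (⊤ : Subgroup H) := fun g _ => hz g
  rwa [h.bot, Subgroup.mem_bot] at h1

theorem index_st (hz : z ∈ CS ρ (T : Subgroup H)) (hz1 : z ≠ 1) : (st ρ z).index = 7 := by
  obtain ⟨k, hk⟩ := h.dvd_st hz
  have h1 := (st ρ z).card_mul_index
  rw [h.card_H, hk] at h1
  have h2 : k * (st ρ z).index = 7 := by
    have h3 : 24 * (k * (st ρ z).index) = 24 * 7 := by rw [← mul_assoc, h1]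
    exact Nat.eq_of_mul_eq_mul_left (by norm_num) h3
  have h3 : (st ρ z).index = 1 ∨ (st ρ z).index = 7 := (Nat.dvd_prime (by norm_num)).1 ⟨k, by rw [mul_comm]; exact h2.symm⟩
  rcases h3 with h3 | h3
  · exfalso
    rw [Subgroup.index_eq_one] at h3
    apply hz1
    apply h.eq_one_of_all
    intro g
    have : g ∈ st ρ z := by rw [h3]; trivial
    exact this
  · exact h3

theorem card_seven (hz : z ∈ CS ρ (T : Subgroup H)) (hz1 : z ≠ 1) : (om ρ z).card = 7 := by
  rw [card_om, h.index_st hz hz1]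

theorem one_notMem (hz1 : z ≠ 1) : (1 : V) ∉ om ρ z := by
  intro h1
  obtain ⟨g, hg⟩ := mem_om.1 h1
  apply hz1
  exact (map_eq_one_iff (ρ g) (ρ g).injective).1 hg

/-- an element of order 7 moves every point of the orbit -/
theorem seven_ne (hz : z ∈ CS ρ (T : Subgroup H)) (hz1 : z ≠ 1) {u : H} (hu : orderOf u = 7) {k : ℕ} (hk : ¬ 7 ∣ k) :
    ρ (u ^ k) z ≠ z := by
  intro h1
  have h2 : u ^ k ∈ st ρ z := h1
  have h3 : orderOf (u ^ k) = 7 := by
    rw [orderOf_pow, hu, (Nat.Coprime.gcd_eq_one ((Nat.Prime.coprime_iff_not_dvd (by norm_num)).2 hk))]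
  have h4 : 7 ∣ Nat.card (st ρ z) := by
    rw [← h3, ← Subgroup.orderOf_mk (u ^ k) h2]
    exact orderOf_dvd_natCard _
  have h5 := (st ρ z).card_mul_index
  rw [h.index_st hz hz1, h.card_H] at h5
  omega

theorem om_range [DecidableEq V] (hz : z ∈ CS ρ (T : Subgroup H)) (hz1 : z ≠ 1) {u : H} (hu : orderOf u = 7) :
    (Finset.range 7).image (fun k => ρ (u ^ k) z) = om ρ z := by
  apply Finset.eq_of_subset_of_card_le
  · intro x hx
    obtain ⟨k, -, rfl⟩ := Finset.mem_image.1 hx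
    exact apply_mem (self_mem z) _
  · rw [h.card_seven hz hz1, Finset.card_image_of_injOn, Finset.card_range]
    have key : ∀ i j : ℕ, i < j → j < 7 → ρ (u ^ i) z ≠ ρ (u ^ j) z := by
      intro i j hij hj h1
      apply h.seven_ne hz hz1 hu (k := j - i) (by
        intro h2
        have := Nat.le_of_dvd (by omega) h2
        omega)
      have h2 : u ^ j = u ^ i * u ^ (j - i) := by rw [← pow_add]; congr 1; omega
      rw [h2, map_mul, MulAut.mul_apply] at h1
      exact ((ρ (u ^ i)).injective h1).symm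
    intro i hi j hj hij
    rw [Finset.coe_range, Set.mem_Iio] at hi hj
    by_contra hne
    rcases Nat.lt_or_gt_of_ne hne with h1 | h1
    · exact key i j h1 hj hij
    · exact key j i h1 hi hij.symm

/-- the product over the orbit -/
theorem prod_om (z : V) : ∏ x ∈ om ρ z, x = 1 := by
  classical
  apply h.eq_one_of_all
  intro g
  rw [map_prod]
  refine Finset.prod_bij (fun x _ => ρ g x) (fun x hx => apply_mem hx g) (fun x _ y _ hxy => (ρ g).injective hxy)
    (fun y hy => ⟨ρ g⁻¹ y, apply_mem hy _, ?_⟩) (fun _ _ => rfl)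
  rw [← MulAut.mul_apply, ← map_mul, mul_inv_cancel, map_one]; rfl

/-- the submodule generated by `z` -/
def sub (ρ : H →* MulAut V) (z : V) : Subgroup V := closure (om ρ z : Set V)

omit h in
theorem om_sub {x : V} (hx : x ∈ om ρ z) : x ∈ sub ρ z := subset_closure hx

omit h in
theorem sub_inv (z : V) (g : H) : ∀ w ∈ sub ρ z, ρ g w ∈ sub ρ z := by
  have h1 : sub ρ z ≤ (sub ρ z).comap (ρ g : V ≃* V).toMonoidHom := by
    rw [sub, closure_le]
    intro x hx
    exact subset_closure (apply_mem hx g)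
  exact fun w hw => h1 hw

/-- some points are moved by `A` -/
theorem exists_moved (hz1 : z ≠ 1) : ∃ q ∈ om ρ z, q ∉ CS ρ A := by
  by_contra hcon
  push Not at hcon
  have h1 : sub ρ z ≤ CS ρ A := by
    rw [sub, closure_le]
    exact hcon
  obtain ⟨a, ha, ha1, -⟩ := h.four.exists_third 1
  have h2 := fix_of_one h.simple (W := sub ρ z) (fun g _ w hw => sub_inv z g w hw) (mem_top a) ha1
    (fun w hw => h1 hw a ha)
  exact hz1 (h.eq_one_of_all fun g => h2 g (mem_top g) z (om_sub (self_mem z)))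

/-- the four-point orbits of `A` -/
theorem exists_quad [DecidableEq V] {q : V} (hq : q ∈ om ρ z) (hqA : q ∉ CS ρ A) :
    ∃ Q : Finset V, Q ⊆ om ρ z ∧ Q.card = 4 ∧ (∀ x ∈ Q, x ∉ CS ρ A) ∧ (∀ x ∈ Q, ∃ a ∈ A, ρ a q = x) ∧
      (∀ a ∈ A, ρ a q ∈ Q) ∧ ∏ x ∈ Q, x = 1 := by
  obtain ⟨a, ha, b, hb, hab, hmem⟩ := h.four.exists_four
  have hne : ∀ x ∈ A, x ≠ 1 → ∀ v, v ∉ CS ρ A → ρ x v ≠ v := by
    intro x hx hx1 v hv h1
    apply hv
    rw [← h.fix x hx hx1]
    exact h1
  have hmul : ∀ x y : H, ρ x (ρ y q) = ρ (x * y) q := fun x y => by rw [map_mul]; rfl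
  have hinj : ∀ x ∈ A, ∀ y ∈ A, ρ x q = ρ y q → x = y := by
    intro x hx y hy hxy
    by_contra hxy1
    apply hne (y⁻¹ * x) (mul_mem (inv_mem hy) hx) (fun h1 => hxy1 (by
      rw [inv_mul_eq_one] at h1; exact h1.symm)) q hqA
    rw [map_mul, MulAut.mul_apply, hxy, ← MulAut.mul_apply, ← map_mul, inv_mul_cancel, map_one]; rfl
  have habA : a * b ∈ A := mul_mem ha hb
  have hd1 : q ≠ ρ a q := (hne a ha hab.a1 q hqA).symm
  have hd2 : q ≠ ρ b q := (hne b hb hab.b1 q hqA).symm
  have hd3 : q ≠ ρ (a * b) q := (hne (a * b) habA hab.right.b1 q hqA).symm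
  have hd4 : ρ a q ≠ ρ b q := fun h1 => hab.ne (hinj a ha b hb h1)
  have hd5 : ρ a q ≠ ρ (a * b) q := fun h1 => hab.b1 (mul_eq_left.1 (hinj a ha _ habA h1).symm)
  have hd6 : ρ b q ≠ ρ (a * b) q := fun h1 => hab.a1 (mul_eq_right.1 (hinj b hb _ habA h1).symm)
  have hout : ∀ x ∈ A, ρ x q ∉ CS ρ A := by
    intro x hx h1
    apply hqA
    intro y hy
    have h2 := h1 y hy
    rw [hmul] at h2
    have h3 := hinj _ (mul_mem hy hx) _ hx h2
    have h4 : y = 1 := mul_eq_right.1 h3
    rw [h4, map_one]; rfl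
  refine ⟨{q, ρ a q, ρ b q, ρ (a * b) q}, ?_, ?_, ?_, ?_, ?_, ?_⟩
  · intro x hx
    simp only [Finset.mem_insert, Finset.mem_singleton] at hx
    rcases hx with rfl | rfl | rfl | rfl
    · exact hq
    · exact apply_mem hq _
    · exact apply_mem hq _
    · exact apply_mem hq _
  · rw [Finset.card_insert_of_notMem, Finset.card_insert_of_notMem, Finset.card_insert_of_notMem,
      Finset.card_singleton]
    · simpa using hd6
    · simp only [Finset.mem_insert, Finset.mem_singleton, not_or]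
      exact ⟨hd4, hd5⟩
    · simp only [Finset.mem_insert, Finset.mem_singleton, not_or]
      exact ⟨hd1, hd2, hd3⟩
  · intro x hx
    simp only [Finset.mem_insert, Finset.mem_singleton] at hx
    rcases hx with rfl | rfl | rfl | rfl
    · exact hqA
    · exact hout a ha
    · exact hout b hb
    · exact hout _ habA
  · intro x hx
    simp only [Finset.mem_insert, Finset.mem_singleton] at hx
    rcases hx with rfl | rfl | rfl | rfl
    · exact ⟨1, one_mem A, by rw [map_one]; rfl⟩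
    · exact ⟨a, ha, rfl⟩
    · exact ⟨b, hb, rfl⟩
    · exact ⟨a * b, habA, rfl⟩
  · intro x hx
    simp only [Finset.mem_insert, Finset.mem_singleton]
    rcases (hmem x).1 hx with rfl | rfl | rfl | rfl
    · left; rw [map_one]; rfl
    · exact Or.inr (Or.inl rfl)
    · exact Or.inr (Or.inr (Or.inl rfl))
    · exact Or.inr (Or.inr (Or.inr rfl))
  · rw [Finset.prod_insert, Finset.prod_insert, Finset.prod_insert, Finset.prod_singleton]
    · have h1 : q * ρ a q ∈ fx ρ a := by
        change ρ a (q * ρ a q) = q * ρ a q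
        rw [map_mul, hmul, hab.aa, map_one, MulAut.one_apply, mul_comm]
      rw [h.fix a ha hab.a1] at h1
      have h2 : ρ b (q * ρ a q) = q * ρ a q := h1 b hb
      rw [map_mul, hmul, ← hab.comm] at h2
      calc q * (ρ a q * (ρ b q * ρ (a * b) q)) = (q * ρ a q) * (ρ b q * ρ (a * b) q) := (mul_assoc _ _ _).symm
        _ = (q * ρ a q) * (q * ρ a q) := by rw [h2]
        _ = 1 := h.sq _
    · simpa using hd6
    · simp only [Finset.mem_insert, Finset.mem_singleton, not_or]
      exact ⟨hd4, hd5⟩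
    · simp only [Finset.mem_insert, Finset.mem_singleton, not_or]
      exact ⟨hd1, hd2, hd3⟩

/-- the orbit splits into a line and a quadrangle -/
theorem exists_split [DecidableEq V] (hz : z ∈ CS ρ (T : Subgroup H)) (hz1 : z ≠ 1) :
    ∃ F Q : Finset V, om ρ z = F ∪ Q ∧ Disjoint F Q ∧ F.card = 3 ∧ Q.card = 4 ∧ (∀ x ∈ F, x ∈ CS ρ A) ∧
      (∀ x ∈ Q, x ∉ CS ρ A) ∧ ∏ x ∈ F, x = 1 ∧ ∏ x ∈ Q, x = 1 := by
  classical
  obtain ⟨q, hq, hqA⟩ := h.exists_moved hz1
  obtain ⟨Q, h1, h2, h3, h4, h5, h6⟩ := h.exists_quad hq hqA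
  set F := (om ρ z).filter (fun x => x ∈ CS ρ A) with hF
  have hFA : ∀ x ∈ F, x ∈ CS ρ A := fun x hx => (Finset.mem_filter.1 hx).2
  have hdisj : ∀ Q : Finset V, (∀ x ∈ Q, x ∉ CS ρ A) → Disjoint F Q := fun Q hQ =>
    Finset.disjoint_left.2 fun x hx hxQ => hQ x hxQ (hFA x hx)
  have hc7 := h.card_seven hz hz1
  have hcover : om ρ z = F ∪ Q := by
    apply Finset.Subset.antisymm
    · intro x hx
      by_contra hcon
      rw [Finset.mem_union, not_or] at hcon
      have hxA : x ∉ CS ρ A := fun h7 => hcon.1 (Finset.mem_filter.2 ⟨hx, h7⟩)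
      obtain ⟨Q', g1, g2, g3, g4, g5, -⟩ := h.exists_quad hx hxA
      have g6 : Disjoint Q Q' := by
        refine Finset.disjoint_left.2 fun y hy hy' => hcon.2 ?_
        obtain ⟨a, ha, hay⟩ := h4 y hy
        obtain ⟨b, hb, hby⟩ := g4 y hy'
        have : x = ρ (b⁻¹ * a) q := by
          rw [map_mul, MulAut.mul_apply, hay, ← hby, ← MulAut.mul_apply, ← map_mul, inv_mul_cancel, map_one]; rfl
        rw [this]
        exact h5 _ (mul_mem (inv_mem hb) ha)
      have g7 := Finset.card_le_card (Finset.union_subset h1 g1)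
      rw [Finset.card_union_of_disjoint g6, h2, g2, hc7] at g7
      omega
    · exact Finset.union_subset (Finset.filter_subset _ _) h1
  have hFQ := hdisj Q h3
  refine ⟨F, Q, hcover, hFQ, ?_, h2, hFA, h3, ?_, h6⟩
  · have h7 := Finset.card_union_of_disjoint hFQ
    rw [← hcover, hc7, h2] at h7
    omega
  · have h7 := h.prod_om z
    rw [hcover, Finset.prod_union hFQ, h6, mul_one] at h7
    exact h7

omit h in
theorem card_zp (hV : ∀ v : V, v * v = 1) (v : V) : Nat.card (zpowers v) ≤ 2 := by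
  rw [Nat.card_zpowers]
  exact orderOf_le_of_pow_eq_one (by norm_num) (by rw [pow_two]; exact hV v)

/-- `|⟨z^H⟩| ≤ 32` -/
theorem card_sub_le (hz : z ∈ CS ρ (T : Subgroup H)) (hz1 : z ≠ 1) : Nat.card (sub ρ z) ≤ 32 := by
  classical
  obtain ⟨F, Q, h1, h2, h3, h4, -, -, h5, h6⟩ := h.exists_split hz hz1
  obtain ⟨a, b, c, hab, hac, hbc, rfl⟩ := Finset.card_eq_three.1 h3
  rw [Finset.prod_insert (by simp [hab, hac]), Finset.prod_insert (by simpa using hbc), Finset.prod_singleton] at h5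
  obtain ⟨d, e, hd, hde, he⟩ := Finset.card_eq_succ.1 h4
  obtain ⟨f, g, k, hfg, hfk, hgk, rfl⟩ := Finset.card_eq_three.1 he
  rw [← hde, Finset.prod_insert hd, Finset.prod_insert (by simp [hfg, hfk]), Finset.prod_insert (by simpa using hgk),
    Finset.prod_singleton] at h6
  have h7 : sub ρ z ≤ (zpowers a ⊔ zpowers b) ⊔ (zpowers d ⊔ (zpowers f ⊔ zpowers g)) := by
    rw [sub, closure_le]
    intro x hx
    rw [Finset.mem_coe, h1, ← hde] at hx
    simp only [Finset.mem_union, Finset.mem_insert, Finset.mem_singleton] at hx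
    have ma : a ∈ (zpowers a ⊔ zpowers b) ⊔ (zpowers d ⊔ (zpowers f ⊔ zpowers g)) :=
      mem_sup_left (mem_sup_left (mem_zpowers a))
    have mb : b ∈ (zpowers a ⊔ zpowers b) ⊔ (zpowers d ⊔ (zpowers f ⊔ zpowers g)) :=
      mem_sup_left (mem_sup_right (mem_zpowers b))
    have md : d ∈ (zpowers a ⊔ zpowers b) ⊔ (zpowers d ⊔ (zpowers f ⊔ zpowers g)) :=
      mem_sup_right (mem_sup_left (mem_zpowers d))
    have mf : f ∈ (zpowers a ⊔ zpowers b) ⊔ (zpowers d ⊔ (zpowers f ⊔ zpowers g)) :=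
      mem_sup_right (mem_sup_right (mem_sup_left (mem_zpowers f)))
    have mg : g ∈ (zpowers a ⊔ zpowers b) ⊔ (zpowers d ⊔ (zpowers f ⊔ zpowers g)) :=
      mem_sup_right (mem_sup_right (mem_sup_right (mem_zpowers g)))
    rcases hx with (rfl | rfl | rfl) | (rfl | rfl | rfl | rfl)
    · exact ma
    · exact mb
    · have : x = a * b := (eq_of_mul_eq_one h.sq (by rw [mul_assoc]; exact h5)).symm
      rw [this]; exact mul_mem ma mb
    · exact md
    · exact mf
    · exact mg
    · have : x = d * f * g := (eq_of_mul_eq_one h.sq (by rw [mul_assoc, mul_assoc]; exact h6)).symm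
      rw [this]; exact mul_mem (mul_mem md mf) mg
  have h8 := Subgroup.card_le_of_le h7
  have e1 := card_sup_le (zpowers a ⊔ zpowers b) (zpowers d ⊔ (zpowers f ⊔ zpowers g))
  have e2 := card_sup_le (zpowers a) (zpowers b)
  have e3 := card_sup_le (zpowers d) (zpowers f ⊔ zpowers g)
  have e4 := card_sup_le (zpowers f) (zpowers g)
  have ca := card_zp h.sq a
  have cb := card_zp h.sq b
  have cd := card_zp h.sq d
  have cf := card_zp h.sq f
  have cg := card_zp h.sq g
  have e2' := e2.trans (Nat.mul_le_mul ca cb)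
  have e4' := e4.trans (Nat.mul_le_mul cf cg)
  have e3' := e3.trans (Nat.mul_le_mul cd e4')
  have e1' := e1.trans (Nat.mul_le_mul e2' e3')
  exact h8.trans e1'

/-- `⟨z^H⟩ ≤ [V, u]` -/
theorem sub_le (hz : z ∈ CS ρ (T : Subgroup H)) (hz1 : z ≠ 1) {u : H} (hu : orderOf u = 7) :
    sub ρ z ≤ (cm ρ u).range := by
  classical
  set M := (cm ρ u).range with hM
  have h1 : ∀ k : ℕ, ρ (u ^ k) z * z⁻¹ ∈ M := by
    intro k
    induction k with
    | zero => rw [pow_zero, map_one, MulAut.one_apply, mul_inv_cancel]; exact one_mem _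
    | succ k ih =>
      have h2 : ρ (u ^ (k + 1)) z * z⁻¹ = (ρ u (ρ (u ^ k) z) * (ρ (u ^ k) z)⁻¹) * (ρ (u ^ k) z * z⁻¹) := by
        rw [pow_succ', map_mul, MulAut.mul_apply]
        group
      rw [h2]
      exact mul_mem ⟨_, rfl⟩ ih
  have h2 : ∏ k ∈ Finset.range 7, ρ (u ^ k) z = 1 := by
    rw [← h.prod_om z, ← h.om_range hz hz1 hu, Finset.prod_image]
    have h3 := h.om_range hz hz1 hu
    have h4 := h.card_seven hz hz1
    rw [← h3] at h4
    exact Finset.card_image_iff.1 (by rw [h4, Finset.card_range])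
  have h3 : ∏ k ∈ Finset.range 7, (ρ (u ^ k) z * z⁻¹) ∈ M := prod_mem fun k _ => h1 k
  rw [Finset.prod_mul_distrib, h2, one_mul, Finset.prod_const, Finset.card_range, inv_eq_self h.sq] at h3
  have h4 : z ^ 7 = z := by
    have : z ^ 7 = (z * z) ^ 3 * z := by rw [← pow_two, ← pow_mul, ← pow_succ]
    rw [this, h.sq z, one_pow, one_mul]
  rw [h4] at h3
  rw [sub, closure_le]
  intro x hx
  rw [← h.om_range hz hz1 hu, Finset.mem_coe, Finset.mem_image] at hx
  obtain ⟨k, -, rfl⟩ := hx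
  have := mul_mem (h1 k) h3
  rwa [inv_mul_cancel_right] at this

omit h in
theorem sub_ne (hz1 : z ≠ 1) : sub ρ z ≠ ⊥ := by
  intro h1
  have h2 := om_sub (self_mem (ρ := ρ) z)
  rw [h1, Subgroup.mem_bot] at h2
  exact hz1 h2

theorem exists_seven : ∃ u : H, orderOf u = 7 := by
  have hf : Fact (Nat.Prime 7) := ⟨by norm_num⟩
  exact exists_prime_orderOf_dvd_card' (G := H) 7 (by rw [h.card_H]; norm_num)

theorem card_sub (hz : z ∈ CS ρ (T : Subgroup H)) (hz1 : z ≠ 1) : Nat.card (sub ρ z) = 8 := by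
  obtain ⟨u, hu⟩ := h.exists_seven
  obtain ⟨d, hd, h3⟩ := card_inv (ρ := ρ) h.sq Sev.prim73 hu (h.sub_le hz hz1 hu) (fun w hw => sub_inv z u w hw)
  have h1 := h.card_sub_le hz hz1
  rw [hd] at h1
  have h2 : 2 ^ d ≤ 2 ^ 5 := h1
  have h4 := (Nat.pow_le_pow_iff_right (by norm_num)).1 h2
  have h5 : d ≠ 0 := by
    rintro rfl
    rw [pow_zero, Subgroup.card_eq_one] at hd
    exact sub_ne hz1 hd
  have h6 : d = 3 := by omega
  rw [hd, h6]; norm_num

theorem mem_of_sub (hz : z ∈ CS ρ (T : Subgroup H)) (hz1 : z ≠ 1) {x : V} (hx : x ∈ sub ρ z) (hx1 : x ≠ 1) :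
    x ∈ om ρ z := by
  classical
  by_contra hcon
  have h1 : ((insert x (insert 1 (om ρ z)) : Finset V) : Set V) ⊆ (sub ρ z : Set V) := by
    intro y hy
    simp only [Finset.coe_insert, Set.mem_insert_iff] at hy
    rcases hy with rfl | rfl | hy
    · exact hx
    · exact one_mem _
    · exact om_sub hy
  have h2 := Set.ncard_le_ncard h1 (Set.toFinite _)
  rw [Set.ncard_coe_finset, Finset.card_insert_of_notMem (by
    rw [Finset.mem_insert, not_or]; exact ⟨hx1, hcon⟩), Finset.card_insert_of_notMem (h.one_notMem hz1),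
    h.card_seven hz hz1, ← Nat.card_coe_set_eq] at h2
  have h3 : Nat.card (sub ρ z : Set V) = 8 := h.card_sub hz hz1
  omega

/-- `C_W(A)` has order 4 -/
theorem card_A (hz : z ∈ CS ρ (T : Subgroup H)) (hz1 : z ≠ 1) :
    Nat.card (sub ρ z ⊓ CS ρ A : Subgroup V) = 4 := by
  classical
  obtain ⟨F, Q, h1, h2, h3, h4, h5, h6, -, -⟩ := h.exists_split hz hz1
  have h7 : ((sub ρ z ⊓ CS ρ A : Subgroup V) : Set V) = ((insert 1 F : Finset V) : Set V) := by
    ext x
    rw [Finset.coe_insert, Set.mem_insert_iff, Finset.mem_coe, SetLike.mem_coe]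
    constructor
    · rintro ⟨hx, hxA⟩
      by_cases hx1 : x = 1
      · exact Or.inl hx1
      · right
        have h8 := h.mem_of_sub hz hz1 hx hx1
        rw [h1, Finset.mem_union] at h8
        exact h8.resolve_right fun h9 => h6 x h9 hxA
    · rintro (rfl | hx)
      · exact one_mem _
      · exact ⟨om_sub (by rw [h1]; exact Finset.mem_union_left _ hx), h5 x hx⟩
  have h8 : (1 : V) ∉ F := fun h9 => h.one_notMem hz1 (by rw [h1]; exact Finset.mem_union_left _ h9)
  have h9 : Nat.card (sub ρ z ⊓ CS ρ A : Subgroup V) = Nat.card ((sub ρ z ⊓ CS ρ A : Subgroup V) : Set V) := rfl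
  rw [h9, h7, Nat.card_coe_set_eq, Set.ncard_coe_finset, Finset.card_insert_of_notMem h8, h3]

/-- `C_W(T) = ⟨z⟩` -/
theorem eq_of_mem (hz : z ∈ CS ρ (T : Subgroup H)) (hz1 : z ≠ 1) {x : V} (hx : x ∈ sub ρ z)
    (hxT : x ∈ CS ρ (T : Subgroup H)) : x = 1 ∨ x = z := by
  by_contra hcon
  push Not at hcon
  obtain ⟨B, hB⟩ := h.exists_par
  have h1 : sub ρ z ⊓ CS ρ (T : Subgroup H) ≤ sub ρ z ⊓ CS ρ A := inf_le_inf_left _ (CS_anti h.le)
  have h2 : sub ρ z ⊓ CS ρ (T : Subgroup H) = sub ρ z ⊓ CS ρ A := by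
    apply Subgroup.eq_of_le_of_card_ge h1
    rw [h.card_A hz hz1]
    by_contra hlt
    push Not at hlt
    obtain ⟨n, hn⟩ := (IsPGroup.iff_card (p := 2)).1
      ((isPGroup_two h.sq).to_subgroup (sub ρ z ⊓ CS ρ (T : Subgroup H)))
    have h3 : Nat.card (sub ρ z ⊓ CS ρ (T : Subgroup H) : Subgroup V) ≤ 2 := by
      rw [hn] at hlt ⊢
      have h4 : 2 ^ n < 2 ^ 2 := hlt
      have h5 := (Nat.pow_lt_pow_iff_right (by norm_num)).1 h4
      calc 2 ^ n ≤ 2 ^ 1 := Nat.pow_le_pow_right (by norm_num) (by omega)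
        _ = 2 := pow_one 2
    classical
    have h4 : (({1, z, x} : Finset V) : Set V) ⊆ ((sub ρ z ⊓ CS ρ (T : Subgroup H) : Subgroup V) : Set V) := by
      intro y hy
      simp only [Finset.coe_insert, Finset.coe_singleton, Set.mem_insert_iff, Set.mem_singleton_iff] at hy
      rcases hy with rfl | rfl | rfl
      · exact one_mem _
      · exact ⟨om_sub (self_mem _), hz⟩
      · exact ⟨hx, hxT⟩
    have h5 := Set.ncard_le_ncard h4 (Set.toFinite _)
    rw [Set.ncard_coe_finset, Finset.card_insert_of_notMem, Finset.card_insert_of_notMem, Finset.card_singleton,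
      ← Nat.card_coe_set_eq] at h5
    · have h6 : Nat.card ((sub ρ z ⊓ CS ρ (T : Subgroup H) : Subgroup V) : Set V) ≤ 2 := h3
      omega
    · simp only [Finset.mem_singleton]; exact fun h6 => hcon.2 h6.symm
    · simp only [Finset.mem_insert, Finset.mem_singleton, not_or]; exact ⟨hz1.symm, hcon.1.symm⟩
  -- now `C_W(A)` is invariant under `H`
  set E := sub ρ z ⊓ CS ρ A with hE
  have key : ∀ g ∈ normalizer (A : Set H) ⊔ normalizer (B : Set H), ∀ v ∈ E, ρ g v ∈ E := by
    let N : Subgroup H :=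
      { carrier := {g | E.map (ρ g : V ≃* V).toMonoidHom = E}
        mul_mem' := fun {a b} ha hb => by
          change E.map (ρ (a * b) : V ≃* V).toMonoidHom = E
          have h3 : (ρ (a * b) : V ≃* V).toMonoidHom = ((ρ a : V ≃* V).toMonoidHom).comp (ρ b : V ≃* V).toMonoidHom := by
            rw [map_mul]; rfl
          rw [h3, ← Subgroup.map_map, show E.map (ρ b : V ≃* V).toMonoidHom = E from hb]
          exact ha
        one_mem' := by
          change E.map (ρ 1 : V ≃* V).toMonoidHom = E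
          rw [map_one]; exact Subgroup.map_id _
        inv_mem' := fun {a} ha => by
          change E.map (ρ a⁻¹ : V ≃* V).toMonoidHom = E
          nth_rewrite 1 [← show E.map (ρ a : V ≃* V).toMonoidHom = E from ha]
          rw [Subgroup.map_map]
          have h1 : ((ρ a⁻¹ : V ≃* V).toMonoidHom).comp (ρ a : V ≃* V).toMonoidHom = MonoidHom.id V := by
            ext v
            change ρ a⁻¹ (ρ a v) = v
            rw [← MulAut.mul_apply, ← map_mul, inv_mul_cancel, map_one]; rfl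
          rw [h1, Subgroup.map_id] }
    have hN : ∀ g, (∀ v ∈ E, ρ g v ∈ E) → g ∈ N := by
      intro g hg
      change E.map (ρ g : V ≃* V).toMonoidHom = E
      apply Subgroup.eq_of_le_of_card_ge
      · rintro _ ⟨v, hv, rfl⟩
        exact hg v hv
      · rw [Subgroup.card_map_of_injective (ρ g).injective]
    have h3 : normalizer (A : Set H) ⊔ normalizer (B : Set H) ≤ N := by
      refine sup_le ?_ ?_
      · intro g hg
        refine hN g fun v hv => ⟨sub_inv z g v hv.1, ?_⟩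
        exact CS_stable hg hv.2
      · intro g hg
        refine hN g fun v hv => ?_
        have hv' := hv
        rw [← h2] at hv'
        rw [hB.cent g hg v hv'.2]
        exact hv
    intro g hg v hv
    have h4 : E.map (ρ g : V ≃* V).toMonoidHom = E := h3 hg
    rw [← h4]
    exact ⟨v, hv, rfl⟩
  obtain ⟨u, hu⟩ := h.exists_seven
  have h3 := fix_of_card_lt h.sq Sev.prim73 hu (W := E) (key u (by rw [hB.gen]; trivial)) (by
    rw [h.card_A hz hz1]; norm_num)
  have hzE : z ∈ E := ⟨om_sub (self_mem z), CS_anti h.le hz⟩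
  have h4 := fix_of_one h.simple (W := E) (fun g _ => key g (by rw [hB.gen]; trivial)) (mem_top u)
    (by rintro rfl; rw [orderOf_one] at hu; omega) h3
  exact hz1 (h.eq_one_of_all fun g => h4 g (mem_top g) z hzE)

/-- the whole module -/
theorem two (hgen : ∀ W : Subgroup V, CS ρ (T : Subgroup H) ≤ W → (∀ h, ∀ w ∈ W, ρ h w ∈ W) → W = ⊤)
    (hV : Nontrivial V) : Nat.card V = 64 ∧ Nat.card (CS ρ (T : Subgroup H)) = 4 := by
  classical
  -- a fixed point
  obtain ⟨z, hz, hz1⟩ : ∃ z ∈ CS ρ (T : Subgroup H), z ≠ 1 := by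
    by_contra hcon
    push Not at hcon
    have h1 := hgen ⊥ (fun v hv => Subgroup.mem_bot.2 (hcon v hv)) (fun g w hw => by
      rw [Subgroup.mem_bot] at hw ⊢; rw [hw, map_one])
    obtain ⟨v, hv⟩ := exists_ne (1 : V)
    have h2 : v ∈ (⊥ : Subgroup V) := by rw [h1]; trivial
    exact hv (Subgroup.mem_bot.1 h2)
  -- a second one
  obtain ⟨z', hz', hzz⟩ : ∃ z' ∈ CS ρ (T : Subgroup H), z' ∉ sub ρ z := by
    by_contra hcon
    push Not at hcon
    have h1 := hgen (sub ρ z) hcon (sub_inv z)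
    have h2 := h.card_sub hz hz1
    have h3 := h.card_A hz hz1
    rw [h1, Subgroup.card_top] at h2
    rw [h1, top_inf_eq] at h3
    obtain ⟨a, ha, ha1, -⟩ := h.four.exists_third 1
    have h4 := (fx ρ a).card_mul_index
    rw [h.idx a ha1 (h.four.sq a ha), h.fix a ha ha1, h3, h2] at h4
    omega
  have hz'1 : z' ≠ 1 := by rintro rfl; exact hzz (one_mem _)
  have h1 : ∀ v ∈ sub ρ z, v ∈ sub ρ z' → v = 1 := by
    intro v hv hv'
    by_contra hv1
    have h2 := h.mem_of_sub hz hz1 hv hv1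
    have h3 := h.mem_of_sub hz' hz'1 hv' hv1
    apply hzz
    apply om_sub
    rw [← om_eq h2, om_eq h3]
    exact self_mem z'
  have h2 := card_mul_le (A := sub ρ z) (B := sub ρ z') (C := sub ρ z ⊔ sub ρ z') le_sup_left le_sup_right h1
  rw [h.card_sub hz hz1, h.card_sub hz' hz'1] at h2
  have h3 := Subgroup.card_le_card_group (sub ρ z ⊔ sub ρ z')
  have h4 := h.cardV
  have h5 : Nat.card V = 64 := by omega
  refine ⟨h5, ?_⟩
  have h6 : sub ρ z ⊔ sub ρ z' = ⊤ := Subgroup.eq_top_of_le_card _ (by rw [h5]; exact h2)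
  have h7 : CS ρ (T : Subgroup H) ≤ zpowers z ⊔ zpowers z' := by
    intro v hv
    have h8 : v ∈ sub ρ z ⊔ sub ρ z' := by rw [h6]; trivial
    rw [Subgroup.mem_sup] at h8
    obtain ⟨w, hw, w', hw', rfl⟩ := h8
    have h9 : ∀ t ∈ (T : Subgroup H), ρ t w = w ∧ ρ t w' = w' := by
      intro t ht
      have h10 := hv t ht
      rw [map_mul] at h10
      have h11 : ρ t w * w⁻¹ = w' * (ρ t w')⁻¹ := by
        rw [mul_inv_eq_iff_eq_mul, mul_right_comm, ← mul_comm w w', ← h10, mul_inv_cancel_right]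
      have h12 : ρ t w * w⁻¹ = 1 := h1 _ (mul_mem (sub_inv z t w hw) (inv_mem hw)) (by
        rw [h11]; exact mul_mem hw' (inv_mem (sub_inv z' t w' hw')))
      rw [h12] at h11
      exact ⟨mul_inv_eq_one.1 h12, (mul_inv_eq_one.1 h11.symm).symm⟩
    rcases h.eq_of_mem hz hz1 hw (fun t ht => (h9 t ht).1) with h13 | h13 <;>
      rcases h.eq_of_mem hz' hz'1 hw' (fun t ht => (h9 t ht).2) with h14 | h14 <;> rw [h13, h14]
    · rw [one_mul]; exact one_mem _
    · rw [one_mul]; exact mem_sup_right (mem_zpowers z')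
    · rw [mul_one]; exact mem_sup_left (mem_zpowers z)
    · exact mul_mem (mem_sup_left (mem_zpowers z)) (mem_sup_right (mem_zpowers z'))
  have h8 : Nat.card (CS ρ (T : Subgroup H)) ≤ 4 := by
    refine (Subgroup.card_le_of_le h7).trans ((card_sup_le _ _).trans ?_)
    exact Nat.mul_le_mul (card_zp h.sq z) (card_zp h.sq z')
  have h9 : 2 * 2 ≤ Nat.card (CS ρ (T : Subgroup H)) := by
    have h10 : zpowers z ≤ CS ρ (T : Subgroup H) := by rw [zpowers_le]; exact hz
    have h11 : zpowers z' ≤ CS ρ (T : Subgroup H) := by rw [zpowers_le]; exact hz'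
    have h12 := card_mul_le h10 h11 (fun v hv hv' => h1 v
      (by have := (zpowers_le (H := sub ρ z)).2 (om_sub (self_mem z)); exact this hv)
      (by have := (zpowers_le (H := sub ρ z')).2 (om_sub (self_mem z')); exact this hv'))
    have h13 : ∀ v : V, v ≠ 1 → Nat.card (zpowers v) = 2 := by
      intro v hv
      have : Fact (Nat.Prime 2) := ⟨Nat.prime_two⟩
      rw [Nat.card_zpowers]
      exact orderOf_eq_prime (by rw [pow_two]; exact h.sq v) hv
    rwa [h13 z hz1, h13 z' hz'1] at h12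
  omega

end Two

end Cfsg.Agent.OddCyclic.EmpFFSevenC
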