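import Cfsg.Agent.OddCyclic.EmpFFSevenC

/-!
# (Empty), section 6: `L₃(2)`, conclusion
-/

set_option autoImplicit false
set_option linter.unusedSectionVars false

namespace Cfsg.Agent.OddCyclic.EmpFFSevenD

open Subgroup Cfsg.Agent.OddCyclic.T1Module Cfsg.Agent.OddCyclic.T1Defs Cfsg.Agent.LieExceptional.CITDefs
  Cfsg.Agent.OddCyclic.PumpMain Cfsg.Agent.OddCyclic.FFBasic Cfsg.Agent.OddCyclic.FFStruct
  Cfsg.Agent.OddCyclic.FFRed Cfsg.Agent.OddCyclic.FFSl2 Cfsg.Agent.OddCyclic.RedFFDefs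
  Cfsg.Agent.OddCyclic.BTwoLin.SocleGen Cfsg.Agent.OddCyclic.EmpFFAbs Cfsg.Agent.OddCyclic.FFThree
  Cfsg.Agent.OddCyclic.EmpFFSeven Cfsg.Agent.OddCyclic.EmpFFSevenB Cfsg.Agent.OddCyclic.EmpFFSevenC

variable {H V : Type*} [Group H] [Finite H] [CommGroup V] [Finite V] {ρ : H →* MulAut V} {T L A : Subgroup H}

/-- `H = L₃(2)` on `N ⊕ N` -/
structure NN (ρ : H →* MulAut V) (T : Subgroup H) : Prop where
  simple : IsSimpleGroup H
  cardH : Nat.card H = 168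
  cardV : Nat.card V = 64
  cardZ : Nat.card (CS ρ T) = 4
  bot : CS ρ (⊤ : Subgroup H) = ⊥
  idx : ∀ a : H, a ≠ 1 → a * a = 1 → (fx ρ a).index = 4
  /-- `⟨z^H⟩` has order 8 for `1 ≠ z ∈ C_V(T)` -/
  sub : ∀ z ∈ CS ρ T, z ≠ 1 → ∃ W : Subgroup V, z ∈ W ∧ Nat.card W = 8 ∧ (∀ h, ∀ w ∈ W, ρ h w ∈ W) ∧
    (∀ w ∈ W, w ≠ 1 → ∃ h, ρ h z = w) ∧ ∀ v ∈ W, v ∈ CS ρ T → v = 1 ∨ v = z
  axis : ∃ A ≤ T, Nat.card A = 4 ∧ (∀ a ∈ A, a * a = 1) ∧ (∀ a ∈ A, a ≠ 1 → fx ρ a = CS ρ A) ∧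
    ∀ z ∈ CS ρ T, z ≠ 1 → ∃ W : Subgroup V, z ∈ W ∧ Nat.card W = 8 ∧ (∀ h, ∀ w ∈ W, ρ h w ∈ W) ∧
      Nat.card (W ⊓ CS ρ A : Subgroup V) = 4

theorem conj (h : Sev ρ T L A) (g : H) : Sev ρ T L (A.map (MulAut.conj g).toMonoidHom) := by
  have hn := h.norm
  refine ⟨h.g, h.cyc, h.norm, h.simple, h.card, ?_, bo_conj h.bo g, h.idx, ?_, ?_⟩
  · rintro _ ⟨a, ha, rfl⟩
    exact hn.conj_mem a (h.le ha) g
  · rw [Subgroup.card_map_of_injective (MulAut.conj g).injective, h.four]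
  · rintro _ ⟨a, ha, rfl⟩ ha1
    have ha1' : a ≠ 1 := by rintro rfl; exact ha1 (map_one _)
    rw [CS_conj, ← h.fix a ha ha1']
    exact fx_conj ρ g a

theorem exists_le (h : Sev ρ T L A) : ∃ A', A' ≤ T ∧ Sev ρ T L A' := by
  have hf : Fact (Nat.Prime 2) := ⟨Nat.prime_two⟩
  have hA : IsPGroup 2 A := IsPGroup.of_card (n := 2) (by rw [h.four]; norm_num)
  obtain ⟨Q, hQ⟩ := hA.exists_le_sylow
  obtain ⟨g, hg⟩ := MulAction.exists_smul_eq H Q (h.g.two.toSylow h.g.index)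
  refine ⟨A.map (MulAut.conj g).toMonoidHom, ?_, conj h g⟩
  rintro _ ⟨a, ha, rfl⟩
  have h1 : (T : Subgroup H) = ((g • Q : Sylow 2 H) : Subgroup H) := by rw [hg]; rfl
  rw [h1]
  exact ⟨a, hQ ha, rfl⟩

theorem nn_of (h : Sev ρ T L A) : NN ρ T := by
  obtain ⟨A, hAT, h⟩ := exists_le h
  have hL := EmpFFSevenB.eq_top h
  have hbot := EmpFFSevenB.bot h
  have hcV := EmpFFSevenB.card_V h
  subst hL
  have hs : IsSimpleGroup H := by
    have := h.simple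
    exact (Subgroup.topEquiv (G := H)).symm.isSimpleGroup
  have hcard : Nat.card H = 168 := by rw [← h.card, Subgroup.card_top]
  have h2 : Two ρ (h.g.two.toSylow h.g.index) A := by
    refine ⟨h.simple, COneSeven.l32 hs hcard, h.g.sq, h.g.inj, hbot, hAT, ⟨h.four, h.bo.sq⟩, h.fix,
      fun a ha haa => h.idx a (mem_top a) ha haa, hcV⟩
  have hnt : Nontrivial V := by
    by_contra hcon
    rw [not_nontrivial_iff_subsingleton] at hcon
    obtain ⟨u, -, hu⟩ := h.exists_seven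
    have h3 : u ≠ 1 := by rintro rfl; rw [orderOf_one] at hu; omega
    obtain ⟨v, hv⟩ := h.g.ne h3
    exact hv (Subsingleton.elim _ _)
  obtain ⟨h3, h4⟩ := h2.two h.g.gen hnt
  refine ⟨hs, hcard, h3, h4, hbot, h2.idx, ?_, A, hAT, h.four, h.bo.sq, h.fix, ?_⟩
  · intro z hz hz1
    refine ⟨Two.sub ρ z, Two.om_sub (Two.self_mem z), h2.card_sub hz hz1, Two.sub_inv z, ?_, ?_⟩
    · intro w hw hw1
      exact Two.mem_om.1 (h2.mem_of_sub hz hz1 hw hw1)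
    · intro v hv hvT
      exact h2.eq_of_mem hz hz1 hv hvT
  · intro z hz hz1
    exact ⟨Two.sub ρ z, Two.om_sub (Two.self_mem z), h2.card_sub hz hz1, Two.sub_inv z, h2.card_A hz hz1⟩

/-- **`L₃(2)` in the FF list** -/
theorem outSeven (hg : Gen ρ T) (hc : OddCyc H) (hL : L.Normal) (hs : IsSimpleGroup L) (hcard : Nat.card L = 168)
    (hA : BO ρ A) (hA1 : A ≠ ⊥) (hAL : A ≤ L) : (CS ρ L = ⊥ ∧ Nat.card V = 8) ∨ NN ρ T := by
  have hmod : Mod (ρ.comp L.subtype) :=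
    ⟨COneSeven.l32 hs hcard, hg.sq, fun _ hy => hg.ne fun h1 => hy (Subtype.ext h1)⟩
  have hr : A ≤ L.subtype.range := by rw [Subgroup.range_subtype]; exact hAL
  have hbo : BO (ρ.comp L.subtype) (A.subgroupOf L) := FFLoc.bo_comap hA L.subtype_injective hr
  have hne : A.subgroupOf L ≠ ⊥ := by
    intro h1
    apply hA1
    rw [Subgroup.subgroupOf_eq_bot] at h1
    rw [eq_bot_iff]
    exact (le_inf le_rfl hAL).trans (disjoint_iff.1 h1).le
  rcases FFThree.main hmod hbo hne with h1 | ⟨h1, h2, h3⟩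
  · left
    apply hg.outSeven_one hL hs hcard
    rw [← h1.top]
    congr 1
    ext v
    constructor
    · intro hv l _
      exact hv l l.2
    · intro hv l hl
      exact hv ⟨l, hl⟩ (mem_top _)
  · right
    refine nn_of (L := L) (A := A) ⟨hg, hc, hL, hs, hcard, hAL, hA, ?_, ?_, ?_⟩
    · intro a ha ha1 haa
      exact h1 ⟨a, ha⟩ (fun h => ha1 (congrArg Subtype.val h)) (Subtype.ext haa)
    · have := h2.card
      rwa [Nat.card_congr (Subgroup.subgroupOfEquivOfLe hAL).toEquiv] at this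
    · intro a ha ha1
      have h4 := h3 ⟨a, hAL ha⟩ (Subgroup.mem_subgroupOf.2 ha) (fun h => ha1 (congrArg Subtype.val h))
      refine le_antisymm ?_ (CS_le_fx ha)
      intro v hv b hb
      have h5 : v ∈ fx (ρ.comp L.subtype) ⟨a, hAL ha⟩ := hv
      rw [h4] at h5
      exact h5 ⟨b, hAL hb⟩ (Subgroup.mem_subgroupOf.2 hb)

end Cfsg.Agent.OddCyclic.EmpFFSevenD
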