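import Cfsg.Agent.OddCyclic.KOF.Coord

/-!
# K-fact `o4` (S0342, (Empty), CLAIM C)

`V` irreducible nontrivial for `SL₂(F)`, `|F| = q ≥ 4` even, `|V : C_V(a)| ≤ q` for an involution `a`. Then `V` is
natural or `q = q0²` and `V` is the `O₄⁻(q0)`-module; weights of the torus elements of order 3.
-/

set_option autoImplicit false
set_option linter.unusedSectionVars false
set_option linter.unusedVariables false

namespace Cfsg.Agent.OddCyclic.EmpKO4

open Matrix Cfsg.Agent.OddCyclic.FFBasic Cfsg.Agent.OddCyclic.T1Module Cfsg.Agent.OddCyclic.T1Sl2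
open Cfsg.Agent.OddCyclic.KOF
open scoped Pointwise

/-- `[V, U]` -/
def cmm {X V : Type*} [Group X] [CommGroup V] (ρ : X →* MulAut V) (U : Subgroup X) : Subgroup V :=
  Subgroup.closure {w | ∃ u ∈ U, ∃ v, w = ρ u v * v⁻¹}

theorem mem_cmm {X V : Type*} [Group X] [CommGroup V] (ρ : X →* MulAut V) (U : Subgroup X) {u : X} (hu : u ∈ U)
    (v : V) : ρ u v * v⁻¹ ∈ cmm ρ U := Subgroup.subset_closure ⟨u, hu, v, rfl⟩

/-- the output of `o4` for a Sylow 2-subgroup -/
structure O4Out {X V : Type*} [Group X] [CommGroup V] (ρ : X →* MulAut V) (U : Subgroup X) (q : ℕ) : Prop where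
  card_CS : Nat.card (CS ρ U) = q
  index : (cmm ρ U).index = q
  le : CS ρ U ≤ cmm ρ U
  minus : ∀ y ∈ Subgroup.normalizer (U : Set X), orderOf y = 3 → 3 ∣ q - 1 → ∀ v ∈ CS ρ U, ρ y v = v → v = 1
  plus_CS : ∀ y ∈ Subgroup.normalizer (U : Set X), orderOf y = 3 → 3 ∣ q + 1 → ∀ v ∈ CS ρ U, ρ y v = v
  plus_top : ∀ y ∈ Subgroup.normalizer (U : Set X), orderOf y = 3 → 3 ∣ q + 1 → ∀ v, ρ y v * v⁻¹ ∈ cmm ρ U
  plus_mid : ∀ y ∈ Subgroup.normalizer (U : Set X), orderOf y = 3 → 3 ∣ q + 1 → ∀ v ∈ cmm ρ U,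
    ρ y v * v⁻¹ ∈ CS ρ U → v ∈ CS ρ U

variable {F : Type*} [Field F] [Fintype F] [CharP F 2] {V : Type*} [CommGroup V]

/-! ### conjugation -/

/-- the conjugate action -/
def cjr (ρ : SpecialLinearGroup (Fin 2) F →* MulAut V) (g : SpecialLinearGroup (Fin 2) F) :
    SpecialLinearGroup (Fin 2) F →* MulAut V := ρ.comp (MulAut.conj g).toMonoidHom

theorem cjr_apply (ρ : SpecialLinearGroup (Fin 2) F →* MulAut V) (g x : SpecialLinearGroup (Fin 2) F) :
    cjr ρ g x = ρ (g * x * g⁻¹) := rfl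

theorem CS_cjr (ρ : SpecialLinearGroup (Fin 2) F →* MulAut V) (g : SpecialLinearGroup (Fin 2) F)
    (U : Sylow 2 (SpecialLinearGroup (Fin 2) F)) :
    CS (cjr ρ g) (U : Subgroup _) = CS ρ ((g • U : Sylow 2 _) : Subgroup _) := by
  ext v
  rw [mem_CS, mem_CS]
  constructor
  · intro h b hb
    have h1 : b ∈ g • U := hb
    rw [mem_smul] at h1
    have h2 := h _ h1
    rw [cjr_apply] at h2
    have : g * (g⁻¹ * b * g) * g⁻¹ = b := by group
    rwa [this] at h2
  · intro h b hb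
    rw [cjr_apply]
    exact h _ (conj_mem_smul hb)

theorem cmm_cjr (ρ : SpecialLinearGroup (Fin 2) F →* MulAut V) (g : SpecialLinearGroup (Fin 2) F)
    (U : Sylow 2 (SpecialLinearGroup (Fin 2) F)) :
    cmm (cjr ρ g) (U : Subgroup _) = cmm ρ ((g • U : Sylow 2 _) : Subgroup _) := by
  unfold cmm
  congr 1
  ext w
  constructor
  · rintro ⟨u, hu, v, rfl⟩
    exact ⟨g * u * g⁻¹, conj_mem_smul hu, v, rfl⟩
  · rintro ⟨u, hu, v, rfl⟩
    have h1 : u ∈ g • U := hu
    rw [mem_smul] at h1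
    refine ⟨_, h1, v, ?_⟩
    rw [cjr_apply]
    have : g * (g⁻¹ * u * g) * g⁻¹ = u := by group
    rw [this]

theorem O4Out.of_cjr {ρ : SpecialLinearGroup (Fin 2) F →* MulAut V} {g : SpecialLinearGroup (Fin 2) F}
    {U : Sylow 2 (SpecialLinearGroup (Fin 2) F)} {q : ℕ} (h : O4Out (cjr ρ g) (U : Subgroup _) q) :
    O4Out ρ ((g • U : Sylow 2 _) : Subgroup _) q := by
  have hy : ∀ y ∈ Subgroup.normalizer (((g • U : Sylow 2 _) : Subgroup (SpecialLinearGroup (Fin 2) F)) :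
      Set (SpecialLinearGroup (Fin 2) F)), orderOf y = 3 →
      g⁻¹ * y * g ∈ Subgroup.normalizer ((U : Subgroup (SpecialLinearGroup (Fin 2) F)) :
        Set (SpecialLinearGroup (Fin 2) F)) ∧ orderOf (g⁻¹ * y * g) = 3 := by
    intro y hy h3
    constructor
    · rw [mem_norm] at hy ⊢
      rw [conj_smul', hy, inv_smul_smul]
    · have := orderOf_conj' g⁻¹ y
      rwa [inv_inv, h3] at this
  have hr : ∀ y, cjr ρ g (g⁻¹ * y * g) = ρ y := by
    intro y
    rw [cjr_apply]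
    congr 1
    group
  have hC := CS_cjr ρ g U
  have hM := cmm_cjr ρ g U
  refine ⟨?_, ?_, ?_, ?_, ?_, ?_, ?_⟩
  · rw [← hC]; exact h.card_CS
  · rw [← hM]; exact h.index
  · rw [← hM, ← hC]; exact h.le
  · intro y hy1 hy3 hq v hv hf
    obtain ⟨h1, h2⟩ := hy y hy1 hy3
    rw [← hC] at hv
    exact h.minus _ h1 h2 hq v hv (by rw [hr]; exact hf)
  · intro y hy1 hy3 hq v hv
    obtain ⟨h1, h2⟩ := hy y hy1 hy3
    rw [← hC] at hv
    have := h.plus_CS _ h1 h2 hq v hv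
    rwa [hr] at this
  · intro y hy1 hy3 hq v
    obtain ⟨h1, h2⟩ := hy y hy1 hy3
    have := h.plus_top _ h1 h2 hq v
    rwa [hr, hM] at this
  · intro y hy1 hy3 hq v hv hf
    obtain ⟨h1, h2⟩ := hy y hy1 hy3
    have := h.plus_mid _ h1 h2 hq v (by rw [hM]; exact hv) (by rw [hr, hC]; exact hf)
    rwa [hC] at this

/-! ### the natural module -/

/-- the homomorphism to the multiplicative group -/
def mhom (Y : Additive V →+ F) : V →* Multiplicative F where
  toFun v := .ofAdd (Y (.ofMul v))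
  map_one' := by
    change Multiplicative.ofAdd (Y 0) = 1
    rw [map_zero]; rfl
  map_mul' v w := by
    change Multiplicative.ofAdd (Y (.ofMul v + .ofMul w)) = _
    rw [map_add]; rfl

theorem mhom_apply (Y : Additive V →+ F) (v : V) : (mhom Y v).toAdd = Y (.ofMul v) := rfl

theorem Nat2.index {ρ : SpecialLinearGroup (Fin 2) F →* MulAut V} {X Y : Additive V →+ F} (h : Nat2 ρ X Y) :
    (CS ρ ((SU F : Sylow 2 _) : Subgroup (SpecialLinearGroup (Fin 2) F))).index = Fintype.card F := by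
  let Y' : V →* Multiplicative F := mhom Y
  have h1 : CS ρ ((SU F : Sylow 2 _) : Subgroup (SpecialLinearGroup (Fin 2) F)) = Y'.ker := by
    ext v
    rw [mem_CS, MonoidHom.mem_ker]
    have e : Y' v = 1 ↔ Y (.ofMul v) = 0 := Iff.rfl
    rw [e]
    constructor
    · intro h2
      have h3 := h2 (up 1) (up_mem 1)
      have h4 := h.upX 1 v
      rw [h3] at h4
      linear_combination -h4
    · intro h2 b hb
      obtain ⟨t, rfl⟩ := mem_SU_iff.1 hb
      apply h.inj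
      · rw [h.upX, h2]; ring
      · rw [h.upY]
  have h2 : Function.Surjective Y' := by
    intro y
    obtain ⟨v, -, hv⟩ := h.surj 0 y.toAdd
    exact ⟨v, hv⟩
  rw [h1, Subgroup.index_ker, MonoidHom.range_eq_top.2 h2, Subgroup.card_top]
  rw [Nat.card_eq_fintype_card]
  exact Fintype.card_multiplicative F

/-! ### the `O₄⁻`-module -/

/-- `{x | x ^ q = x}`, `q = 2 ^ d` -/
def KK (F : Type*) [Field F] [CharP F 2] (d : ℕ) : AddSubgroup F where
  carrier := {x | x ^ 2 ^ d = x}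
  add_mem' := by
    intro x y hx hy
    change (x + y) ^ 2 ^ d = x + y
    rw [add_pow_char_pow, show x ^ 2 ^ d = x from hx, show y ^ 2 ^ d = y from hy]
  zero_mem' := by
    change (0 : F) ^ 2 ^ d = 0
    rw [zero_pow (by positivity)]
  neg_mem' := by
    intro x hx
    change (-x) ^ 2 ^ d = -x
    rw [CharTwo.neg_eq]
    exact hx

theorem mem_KK {d : ℕ} {x : F} : x ∈ KK F d ↔ x ^ 2 ^ d = x := Iff.rfl

section om4

variable {ρ : SpecialLinearGroup (Fin 2) F →* MulAut V} {d : ℕ} {X Y Z : Additive V →+ F}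

theorem card_KK [Finite V] (h : OM4 ρ (2 ^ d) X Y Z) (hF : Fintype.card F = 2 ^ (d * 2))
    (hc : Nat.card V = (2 ^ d) ^ 4) : Nat.card (KK F d) = 2 ^ d := by
  let f : V → KK F d × F × KK F d := fun v => (⟨X (.ofMul v), h.Xq _⟩, Y (.ofMul v), ⟨Z (.ofMul v), h.Zq _⟩)
  have hf : Function.Bijective f := by
    constructor
    · intro v w hvw
      refine h.inj v w ?_ ?_ ?_
      · exact congrArg (fun p => (p.1 : F)) hvw
      · exact congrArg (fun p => p.2.1) hvw
      · exact congrArg (fun p => (p.2.2 : F)) hvw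
    · rintro ⟨⟨x, hx⟩, y, ⟨z, hz⟩⟩
      obtain ⟨v, h1, h2, h3⟩ := h.surj x y z hx hz
      exact ⟨v, Prod.ext (Subtype.ext h1) (Prod.ext h2 (Subtype.ext h3))⟩
  have h1 := Nat.card_congr (Equiv.ofBijective f hf)
  rw [Nat.card_prod, Nat.card_prod, hc, Nat.card_eq_fintype_card (α := F), hF] at h1
  have h2 : (2 ^ d) ^ 4 = (2 ^ d) ^ 2 * 2 ^ (d * 2) := by
    rw [← pow_mul, ← pow_mul, ← pow_add]
    ring_nf
  have h3 : Nat.card (KK F d) * (2 ^ (d * 2) * Nat.card (KK F d)) = Nat.card (KK F d) ^ 2 * 2 ^ (d * 2) := by ring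
  rw [h2, h3] at h1
  have h4 := Nat.eq_of_mul_eq_mul_right (by positivity) h1
  exact (Nat.pow_left_injective (by norm_num) h4).symm

theorem pow_pow_q (hF : Fintype.card F = 2 ^ (d * 2)) (x : F) : (x ^ 2 ^ d) ^ 2 ^ d = x := by
  rw [← pow_mul, ← pow_add, ← mul_two, ← hF, FiniteField.pow_card]

theorem exists_not_mem_KK [Finite V] (hd : 0 < d) (h : OM4 ρ (2 ^ d) X Y Z) (hF : Fintype.card F = 2 ^ (d * 2))
    (hc : Nat.card V = (2 ^ d) ^ 4) : ∃ x : F, x ^ 2 ^ d ≠ x := by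
  by_contra hcon
  push Not at hcon
  have h1 : KK F d = ⊤ := by
    rw [AddSubgroup.eq_top_iff']
    exact hcon
  have h2 := card_KK h hF hc
  rw [h1, AddSubgroup.card_top, Nat.card_eq_fintype_card, hF] at h2
  have := Nat.pow_right_injective le_rfl h2
  omega

theorem mem_CS_iff [Finite V] (hd : 0 < d) (h : OM4 ρ (2 ^ d) X Y Z) (hF : Fintype.card F = 2 ^ (d * 2))
    (hc : Nat.card V = (2 ^ d) ^ 4) {v : V} :
    v ∈ CS ρ ((SU F : Sylow 2 _) : Subgroup (SpecialLinearGroup (Fin 2) F)) ↔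
      Y (.ofMul v) = 0 ∧ Z (.ofMul v) = 0 := by
  rw [mem_CS]
  constructor
  · intro h2
    have hZ : Z (.ofMul v) = 0 := by
      have h3 := h2 (up 1) (up_mem 1)
      have h4 := h.upY 1 v
      rw [h3] at h4
      linear_combination -h4
    refine ⟨?_, hZ⟩
    by_contra hY
    obtain ⟨c, hcc⟩ := exists_not_mem_KK hd h hF hc
    apply hcc
    set y := Y (.ofMul v) with hy
    have h3 := h2 (up (c / y ^ 2 ^ d)) (up_mem _)
    have h4 := h.upX (c / y ^ 2 ^ d) v
    rw [h3, hZ, ← hy, mul_zero, add_zero] at h4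
    have hyq : y ^ 2 ^ d ≠ 0 := pow_ne_zero _ hY
    have h5 : c / y ^ 2 ^ d * y ^ 2 ^ d = c := by field_simp
    have h6 : (c / y ^ 2 ^ d) ^ 2 ^ d * y = c ^ 2 ^ d := by
      rw [div_pow, pow_pow_q hF]
      field_simp
    rw [h5, h6] at h4
    have h7 : c + c ^ 2 ^ d = 0 := by linear_combination -h4
    have h8 := CharTwo.add_eq_zero.1 h7
    exact h8.symm
  · rintro ⟨hY, hZ⟩ b hb
    obtain ⟨t, rfl⟩ := mem_SU_iff.1 hb
    apply h.inj
    · rw [h.upX, hY, hZ, zero_pow (by positivity)]; ring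
    · rw [h.upY, hY, hZ]; ring
    · rw [h.upZ]

/-- the trace is onto `KK` -/
theorem exists_trace [Finite V] (h : OM4 ρ (2 ^ d) X Y Z) (hF : Fintype.card F = 2 ^ (d * 2))
    (hc : Nat.card V = (2 ^ d) ^ 4) {x : F} (hx : x ^ 2 ^ d = x) : ∃ b : F, b + b ^ 2 ^ d = x := by
  let T : F →+ KK F d :=
    { toFun := fun b => ⟨b + b ^ 2 ^ d, by
        rw [mem_KK, add_pow_char_pow, pow_pow_q hF, add_comm]⟩
      map_zero' := Subtype.ext (by
        change (0 : F) + 0 ^ 2 ^ d = 0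
        rw [zero_pow (by positivity), add_zero])
      map_add' := fun a b => Subtype.ext (by
        change (a + b) + (a + b) ^ 2 ^ d = (a + a ^ 2 ^ d) + (b + b ^ 2 ^ d)
        rw [add_pow_char_pow]; ring) }
  have h1 : T.ker = KK F d := by
    ext b
    rw [AddMonoidHom.mem_ker, mem_KK]
    constructor
    · intro hb
      have h2 : b + b ^ 2 ^ d = 0 := congrArg Subtype.val hb
      exact (CharTwo.add_eq_zero.1 h2).symm
    · intro hb
      apply Subtype.ext
      change b + b ^ 2 ^ d = 0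
      rw [hb, CharTwo.add_self_eq_zero]
  have hK := card_KK h hF hc
  have h2 := T.ker.card_mul_index
  rw [h1, hK, Nat.card_eq_fintype_card (α := F), hF, ← h1, AddSubgroup.index_ker] at h2
  have h3 : Nat.card T.range = 2 ^ d := by
    have h4 : 2 ^ (d * 2) = 2 ^ d * 2 ^ d := by rw [← pow_add, mul_two]
    rw [h4] at h2
    exact Nat.eq_of_mul_eq_mul_left (by positivity) h2
  have h4 : T.range = ⊤ := AddSubgroup.eq_top_of_card_eq _ (by rw [h3, hK])
  have h5 : (⟨x, hx⟩ : KK F d) ∈ T.range := by rw [h4]; trivial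
  obtain ⟨b, hb⟩ := h5
  exact ⟨b, congrArg Subtype.val hb⟩

theorem mem_cmm_iff [Finite V] (hd : 0 < d) (h : OM4 ρ (2 ^ d) X Y Z) (hF : Fintype.card F = 2 ^ (d * 2))
    (hc : Nat.card V = (2 ^ d) ^ 4) {v : V} :
    v ∈ cmm ρ ((SU F : Sylow 2 _) : Subgroup (SpecialLinearGroup (Fin 2) F)) ↔ Z (.ofMul v) = 0 := by
  have hmul : ∀ (T : Additive V →+ F) (a b : V), T (.ofMul (a * b)) = T (.ofMul a) + T (.ofMul b) := fun T a b =>
    map_add T (.ofMul a) (.ofMul b)
  have hinv : ∀ (T : Additive V →+ F) (a : V), T (.ofMul a⁻¹) = - T (.ofMul a) := fun T a =>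
    map_neg T (.ofMul a)
  constructor
  · intro hv
    have h1 : cmm ρ ((SU F : Sylow 2 _) : Subgroup (SpecialLinearGroup (Fin 2) F)) ≤ (mhom Z).ker := by
      unfold cmm
      rw [Subgroup.closure_le]
      rintro w ⟨u, hu, v, rfl⟩
      obtain ⟨t, rfl⟩ := mem_SU_iff.1 hu
      rw [SetLike.mem_coe, MonoidHom.mem_ker]
      change Z (.ofMul (ρ (up t) v * v⁻¹)) = 0
      rw [hmul, hinv, h.upZ, add_neg_cancel]
    exact h1 hv
  · intro hZ
    -- step a
    have ha : ∀ w : V, Y (.ofMul w) = 0 → Z (.ofMul w) = 0 →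
        w ∈ cmm ρ ((SU F : Sylow 2 _) : Subgroup (SpecialLinearGroup (Fin 2) F)) := by
      intro w hwY hwZ
      obtain ⟨b, hb⟩ := exists_trace h hF hc (h.Xq (.ofMul w))
      obtain ⟨u, hu1, hu2, hu3⟩ := h.surj 0 1 0 (zero_pow (by positivity)) (zero_pow (by positivity))
      have h1 : w = ρ (up b) u * u⁻¹ := by
        apply h.inj
        · rw [hmul, hinv, h.upX, hu1, hu2, hu3, one_pow, ← hb]; ring
        · rw [hmul, hinv, h.upY, hu2, hu3, hwY]; ring
        · rw [hmul, hinv, h.upZ, hu3, hwZ]; ring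
      rw [h1]
      exact mem_cmm ρ _ (up_mem b) u
    obtain ⟨w, hw1, hw2, hw3⟩ := h.surj 0 0 1 (zero_pow (by positivity)) (one_pow _)
    set y := Y (.ofMul v) with hy
    have h1 : ρ (up y) w * w⁻¹ ∈ cmm ρ ((SU F : Sylow 2 _) : Subgroup (SpecialLinearGroup (Fin 2) F)) :=
      mem_cmm ρ _ (up_mem y) w
    have h2 : v * (ρ (up y) w * w⁻¹)⁻¹ ∈ cmm ρ ((SU F : Sylow 2 _) : Subgroup (SpecialLinearGroup (Fin 2) F)) := by
      apply ha
      · rw [hmul, hinv, hmul, hinv, h.upY, hw2, hw3, ← hy]; ring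
      · rw [hmul, hinv, hmul, hinv, h.upZ, hw3, hZ]; ring
    have h3 : v = v * (ρ (up y) w * w⁻¹)⁻¹ * (ρ (up y) w * w⁻¹) := by group
    rw [h3]
    exact mul_mem h2 h1

/-- an element of order 3 normalising `SU F` -/
theorem norm_three {y : SpecialLinearGroup (Fin 2) F}
    (hy : y ∈ Subgroup.normalizer (((SU F : Sylow 2 _) : Subgroup (SpecialLinearGroup (Fin 2) F)) :
      Set (SpecialLinearGroup (Fin 2) F))) (h3 : orderOf y = 3) :
    ∃ (t : F) (s : Fˣ), y = up t * dg s ∧ (s : F) ^ 3 = 1 ∧ (s : F) ≠ 1 := by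
  rw [mem_norm, smul_SU_eq] at hy
  obtain ⟨t, s, rfl⟩ := borel_decomp hy
  refine ⟨t, s, rfl, ?_, ?_⟩
  · have h1 : (up t * dg s) * (up t * dg s) * (up t * dg s) = 1 := by
      rw [← sq, ← pow_succ]
      have := pow_orderOf_eq_one (up t * dg s)
      rwa [h3] at this
    have h2 : ((up t * dg s) * (up t * dg s) * (up t * dg s)) 0 0 = 1 := by rw [h1, one00]
    rw [mul00, mul00, mul01, mul10, mul00] at h2
    simp only [up00, up01, up10, up11, dg00, dg01, dg10, dg11] at h2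
    linear_combination h2
  · intro hs
    have hs1 : s = 1 := Units.ext hs
    have h1 : dg s = 1 := by rw [hs1, ← dgHom_apply, map_one]
    rw [h1, mul_one] at h3
    have h2 : up t * up t = 1 := by rw [up_mul, CharTwo.add_self_eq_zero, up_zero]
    have h4 : orderOf (up t) ∣ 2 := orderOf_dvd_of_pow_eq_one (by rw [sq, h2])
    rw [h3] at h4
    omega

theorem pow_three_mul {s : F} (hs : s ^ 3 = 1) (n : ℕ) : s ^ (3 * n) = 1 := by rw [pow_mul, hs, one_pow]

theorem out_SU [Finite V] (hd : 0 < d) (h : OM4 ρ (2 ^ d) X Y Z) (hF : Fintype.card F = 2 ^ (d * 2))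
    (hc : Nat.card V = (2 ^ d) ^ 4) :
    O4Out ρ ((SU F : Sylow 2 _) : Subgroup (SpecialLinearGroup (Fin 2) F)) (2 ^ d) := by
  have hmul : ∀ (T : Additive V →+ F) (a b : V), T (.ofMul (a * b)) = T (.ofMul a) + T (.ofMul b) := fun T a b =>
    map_add T (.ofMul a) (.ofMul b)
  have hinv : ∀ (T : Additive V →+ F) (a : V), T (.ofMul a⁻¹) = - T (.ofMul a) := fun T a =>
    map_neg T (.ofMul a)
  have hK := card_KK h hF hc
  have hρ : ∀ (t : F) (s : Fˣ) (v : V), ρ (up t * dg s) v = ρ (up t) (ρ (dg s) v) := fun t s v => by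
    rw [map_mul]; rfl
  have hq1 : 1 ≤ 2 ^ d := Nat.one_le_two_pow
  refine ⟨?_, ?_, ?_, ?_, ?_, ?_, ?_⟩
  · rw [← hK]
    refine Nat.card_congr (Equiv.ofBijective (fun v => ⟨X (.ofMul v.1), h.Xq _⟩) ⟨?_, ?_⟩)
    · rintro ⟨v, hv⟩ ⟨w, hw⟩ hvw
      rw [mem_CS_iff hd h hF hc] at hv hw
      apply Subtype.ext
      refine h.inj v w (congrArg Subtype.val hvw) (by rw [hv.1, hw.1]) (by rw [hv.2, hw.2])
    · rintro ⟨x, hx⟩
      obtain ⟨v, h1, h2, h3⟩ := h.surj x 0 0 hx (zero_pow (by positivity))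
      exact ⟨⟨v, (mem_CS_iff hd h hF hc).2 ⟨h2, h3⟩⟩, Subtype.ext h1⟩
  · have h1 : cmm ρ ((SU F : Sylow 2 _) : Subgroup (SpecialLinearGroup (Fin 2) F)) = (mhom Z).ker := by
      ext v
      rw [mem_cmm_iff hd h hF hc, MonoidHom.mem_ker]
      exact Iff.rfl
    rw [h1, Subgroup.index_ker, ← hK]
    refine Nat.card_congr ⟨fun z => ⟨z.1.toAdd, ?_⟩, fun z => ⟨.ofAdd z.1, ?_⟩, fun _ => rfl, fun _ => rfl⟩
    · obtain ⟨v, hv⟩ := z.2
      have h2 : z.1.toAdd = Z (.ofMul v) := by rw [← hv]; rfl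
      rw [h2]
      exact h.Zq _
    · obtain ⟨v, -, -, hv⟩ := h.surj 0 0 z.1 (zero_pow (by positivity)) z.2
      refine ⟨v, ?_⟩
      rw [← hv]
      rfl
  · intro v hv
    rw [mem_cmm_iff hd h hF hc]
    exact ((mem_CS_iff hd h hF hc).1 hv).2
  · intro y hy h3 hq v hv hf
    obtain ⟨t, s, rfl, hs3, hs1⟩ := norm_three hy h3
    obtain ⟨hY, hZ⟩ := (mem_CS_iff hd h hF hc).1 hv
    have h4 := congrArg (fun w : V => X (.ofMul w)) hf
    change X (.ofMul (ρ (up t * dg s) v)) = X (.ofMul v) at h4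
    rw [hρ, h.upX, h.dgX, h.dgY, h.dgZ, hY, hZ] at h4
    obtain ⟨k, hk⟩ := hq
    have h5 : 2 ^ d + 1 = 3 * k + 2 := by omega
    rw [h5, pow_add, pow_three_mul hs3, one_mul] at h4
    have h6 : (s : F) ^ 2 ≠ 1 := by
      intro h6
      apply hs1
      rw [pow_succ, h6, one_mul] at hs3
      exact hs3
    have h7 : ((s : F) ^ 2 - 1) * X (.ofMul v) = 0 := by
      rw [mul_zero, zero_pow (by positivity)] at h4
      linear_combination h4
    have h8 : X (.ofMul v) = 0 := (mul_eq_zero.1 h7).resolve_left (sub_ne_zero.2 h6)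
    have hX1 : ∀ T : Additive V →+ F, T (.ofMul (1 : V)) = 0 := fun T => map_zero T
    exact h.inj v 1 (by rw [h8, hX1]) (by rw [hY, hX1]) (by rw [hZ, hX1])
  · intro y hy h3 hq v hv
    obtain ⟨t, s, rfl, hs3, hs1⟩ := norm_three hy h3
    obtain ⟨hY, hZ⟩ := (mem_CS_iff hd h hF hc).1 hv
    obtain ⟨k, hk⟩ := hq
    apply h.inj
    · rw [hρ, h.upX, h.dgX, h.dgY, h.dgZ, hY, hZ, hk, pow_three_mul hs3, mul_zero, zero_pow (by positivity)]
      ring
    · rw [hρ, h.upY, h.dgY, h.dgZ, hY, hZ]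
      ring
    · rw [hρ, h.upZ, h.dgZ, hZ]
      ring
  · intro y hy h3 hq v
    obtain ⟨t, s, rfl, hs3, hs1⟩ := norm_three hy h3
    obtain ⟨k, hk⟩ := hq
    have hs3' : ((s⁻¹ : Fˣ) : F) ^ 3 = 1 := by
      rw [Units.val_inv_eq_inv_val, inv_pow, hs3, inv_one]
    rw [mem_cmm_iff hd h hF hc, hmul, hinv, hρ, h.upZ, h.dgZ, hk, pow_three_mul hs3']
    ring
  · intro y hy h3 hq v hv hf
    obtain ⟨t, s, rfl, hs3, hs1⟩ := norm_three hy h3
    obtain ⟨k, hk⟩ := hq
    have hs3' : ((s⁻¹ : Fˣ) : F) ^ 3 = 1 := by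
      rw [Units.val_inv_eq_inv_val, inv_pow, hs3, inv_one]
    rw [mem_cmm_iff hd h hF hc] at hv
    obtain ⟨h4, h5⟩ := (mem_CS_iff hd h hF hc).1 hf
    rw [mem_CS_iff hd h hF hc]
    refine ⟨?_, hv⟩
    rw [hmul, hinv, hρ, h.upY, h.dgY, h.dgZ, hv, mul_zero, mul_zero, add_zero] at h4
    have hss : (s : F) * ((s⁻¹ : Fˣ) : F) = 1 := by simp
    have h6 : (s : F) * ((s⁻¹ : Fˣ) : F) ^ 2 ^ d = (s : F) ^ 2 := by
      have h7 : ((s⁻¹ : Fˣ) : F) ^ (2 ^ d + 1) = 1 := by rw [hk, pow_three_mul hs3']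
      rw [pow_succ] at h7
      calc (s : F) * ((s⁻¹ : Fˣ) : F) ^ 2 ^ d = (s : F) ^ 2 * (((s⁻¹ : Fˣ) : F) ^ 2 ^ d * ((s⁻¹ : Fˣ) : F)) := by
            linear_combination (-(s : F) * ((s⁻¹ : Fˣ) : F) ^ 2 ^ d) * hss
        _ = (s : F) ^ 2 := by rw [h7, mul_one]
    rw [h6] at h4
    have h8 : (s : F) ^ 2 ≠ 1 := by
      intro h6
      apply hs1
      rw [pow_succ, h6, one_mul] at hs3
      exact hs3
    have h7 : ((s : F) ^ 2 - 1) * Y (.ofMul v) = 0 := by linear_combination h4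
    exact (mul_eq_zero.1 h7).resolve_left (sub_ne_zero.2 h8)

end om4

/-! ### the stabilisers for `q0 = 2` -/

theorem inf_bot {ρ : SpecialLinearGroup (Fin 2) F →* MulAut V} (hne : ∃ g v, ρ g v ≠ v)
    (irr : ∀ W : Subgroup V, (∀ g, ∀ w ∈ W, ρ g w ∈ W) → W = ⊥ ∨ W = ⊤)
    {U U' : Sylow 2 (SpecialLinearGroup (Fin 2) F)} (h : U ≠ U') {v : V} (h1 : v ∈ CS ρ (U : Subgroup _))
    (h2 : v ∈ CS ρ (U' : Subgroup _)) : v = 1 := by
  have h3 : ∀ w ∈ CS ρ (⊤ : Subgroup (SpecialLinearGroup (Fin 2) F)), ∀ g, ρ g w = w := fun w hw g => hw g trivial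
  have hv : v ∈ CS ρ (⊤ : Subgroup (SpecialLinearGroup (Fin 2) F)) := by
    intro b _
    have h4 : (U : Subgroup (SpecialLinearGroup (Fin 2) F)) ⊔ U' ≤ stab ρ v :=
      sup_le (fun b hb => h1 b hb) (fun b hb => h2 b hb)
    rw [sylow_sup h] at h4
    exact h4 (Subgroup.mem_top b)
  rcases irr (CS ρ ⊤) (fun g w hw => by rw [h3 w hw g]; exact hw) with h5 | h5
  · rw [h5, Subgroup.mem_bot] at hv
    exact hv
  · exfalso
    obtain ⟨g, v, hgv⟩ := hne
    exact hgv (h3 v (by rw [h5]; trivial) g)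

/-- the Sylow 2-subgroups `SU F`, `up t • ww • SU F` -/
noncomputable def syl : Option F → Sylow 2 (SpecialLinearGroup (Fin 2) F)
  | none => SU F
  | some t => (up t * ww F) • SU F

theorem syl_injective : Function.Injective (syl (F := F)) := by
  have h0 : ∀ t : F, (up t * ww F) 0 0 = t := fun t => by rw [mul00]; simp
  have h1 : ∀ t : F, (up t * ww F) 1 0 = 1 := fun t => by rw [mul10]; simp
  rintro (_ | t) (_ | s) h
  · rfl
  · exfalso
    have h2 : (up s * ww F) • SU F = SU F := h.symm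
    rw [smul_SU_eq, h1] at h2
    exact one_ne_zero h2
  · exfalso
    have h2 : (up t * ww F) • SU F = SU F := h
    rw [smul_SU_eq, h1] at h2
    exact one_ne_zero h2
  · have h2 : (up t * ww F) • SU F = (up s * ww F) • SU F := h
    rw [smul_SU_eq_iff, h0, h0, h1, h1] at h2
    rw [show t = s by linear_combination h2]

theorem card_stab [Finite V] (hV : ∀ v : V, v * v = 1) {ρ : SpecialLinearGroup (Fin 2) F →* MulAut V}
    (hne : ∃ g v, ρ g v ≠ v)
    (irr : ∀ W : Subgroup V, (∀ g, ∀ w ∈ W, ρ g w ∈ W) → W = ⊥ ∨ W = ⊤)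
    (hF : Fintype.card F = 4) (hc : Nat.card V = 16) {v : V}
    (hv : ∀ U : Sylow 2 (SpecialLinearGroup (Fin 2) F), v ∉ CS ρ (U : Subgroup _)) : Nat.card (stab ρ v) = 6 := by
  classical
  have hnt : Nontrivial V := by
    rw [← Finite.one_lt_card_iff_nontrivial, hc]; norm_num
  have hG : Nat.card (SpecialLinearGroup (Fin 2) F) = 60 := by rw [card_sl2, hF]
  have hdvd : Nat.card (stab ρ v) ∣ 60 := by rw [← hG]; exact Subgroup.card_subgroup_dvd_card _
  -- no element of order 5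
  have h5 : ¬ 5 ∣ Nat.card (stab ρ v) := by
    intro h5
    have : Fact (Nat.Prime 5) := ⟨by norm_num⟩
    obtain ⟨⟨y, hy⟩, hy5⟩ := exists_prime_orderOf_dvd_card' 5 h5
    rw [Subgroup.orderOf_mk] at hy5
    have hy1 : y ≠ 1 := by
      rintro rfl
      rw [orderOf_one] at hy5
      omega
    obtain ⟨d, hd, h6, h7⟩ := prim (ρ := ρ) hV (by norm_num : Nat.Prime 5) (by norm_num) hy5
      (nontrivial_of (by rw [hF]) ρ hne hy1)
    have h8 : 4 ≤ d := by
      by_contra hcon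
      have : d = 1 ∨ d = 2 ∨ d = 3 := by omega
      rcases this with rfl | rfl | rfl <;> norm_num at h7
    have h9 : 16 ≤ (fx ρ y).index := by
      rw [h6]
      calc 16 = 2 ^ 4 := by norm_num
        _ ≤ 2 ^ d := Nat.pow_le_pow_right (by norm_num) h8
    have h10 := (fx ρ y).card_mul_index
    rw [hc] at h10
    have h11 : Nat.card (fx ρ y) = 1 := by
      have : 0 < Nat.card (fx ρ y) := Nat.card_pos
      nlinarith
    have h12 : v ∈ fx ρ y := hy
    rw [Subgroup.card_eq_one.1 h11, Subgroup.mem_bot] at h12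
    apply hv (SU F)
    rw [h12]
    exact one_mem _
  -- no Sylow 2-subgroup
  have h4 : ¬ 4 ∣ Nat.card (stab ρ v) := by
    intro h4
    have : Fact (Nat.Prime 2) := ⟨Nat.prime_two⟩
    obtain ⟨P, hP⟩ := Sylow.exists_subgroup_card_pow_prime (G := stab ρ v) 2 (n := 2) h4
    have hQ : Nat.card (P.map (stab ρ v).subtype) = 4 := by
      rw [Subgroup.card_map_of_injective (stab ρ v).subtype_injective, hP]; norm_num
    have hQ2 : IsPGroup 2 (P.map (stab ρ v).subtype) := IsPGroup.of_card (n := 2) (by rw [hQ]; norm_num)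
    obtain ⟨U, hU⟩ := hQ2.exists_le_sylow
    have hUc : Nat.card (U : Subgroup (SpecialLinearGroup (Fin 2) F)) = 4 := by
      have := card_sylow U
      rw [hF] at this
      exact this
    have hUe : P.map (stab ρ v).subtype = (U : Subgroup (SpecialLinearGroup (Fin 2) F)) :=
      Subgroup.eq_of_le_of_card_ge hU (by rw [hUc, hQ])
    apply hv U
    intro b hb
    rw [← hUe] at hb
    obtain ⟨⟨c, hc⟩, -, rfl⟩ := hb
    exact hc
  -- the vectors fixed by a Sylow 2-subgroup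
  have hcs : ∀ o : Option F, ∃ c : V, c ∈ CS ρ ((syl o : Sylow 2 _) : Subgroup (SpecialLinearGroup (Fin 2) F)) ∧
      c ≠ 1 := by
    intro o
    have h1 := CS_ne_bot ρ hV (syl o)
    obtain ⟨⟨c, hc⟩, hc1⟩ := Subgroup.ne_bot_iff_exists_ne_one.1 h1
    exact ⟨c, hc, fun h => hc1 (Subtype.ext h)⟩
  choose c hc1 hc2 using hcs
  let B : Set V := {w | ∃ U : Sylow 2 (SpecialLinearGroup (Fin 2) F), w ∈ CS ρ (U : Subgroup _)}
  have hB : 6 ≤ Nat.card B := by
    let f : Option (Option F) → B := fun o => match o with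
      | none => ⟨1, SU F, one_mem _⟩
      | some o => ⟨c o, syl o, hc1 o⟩
    have hf : Function.Injective f := by
      rintro (_ | a) (_ | b) hab
      · rfl
      · exact absurd (congrArg Subtype.val hab).symm (hc2 b)
      · exact absurd (congrArg Subtype.val hab) (hc2 a)
      · have h1 : c a = c b := congrArg Subtype.val hab
        by_contra hne'
        have h2 : syl a ≠ syl b := fun h => hne' (by rw [syl_injective h])
        exact hc2 a (inf_bot hne irr h2 (hc1 a) (by rw [h1]; exact hc1 b))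
    have h1 := Nat.card_le_card_of_injective f hf
    rw [Nat.card_eq_fintype_card, Fintype.card_option, Fintype.card_option, hF] at h1
    exact h1
  have hBc : Nat.card B + Nat.card (Bᶜ : Set V) = 16 := by
    rw [← hc, Nat.card_coe_set_eq, Nat.card_coe_set_eq, Set.ncard_add_ncard_compl]
  -- the orbit
  have horb : (stab ρ v).index ≤ Nat.card (Bᶜ : Set V) := by
    rw [Subgroup.index]
    have hmem : ∀ g, ρ g v ∈ Bᶜ := by
      rintro g ⟨U, hU⟩
      apply hv (g⁻¹ • U)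
      have h1 := smul_mem_CS ρ U g⁻¹ hU
      have h2 : ρ g⁻¹ (ρ g v) = v := by
        rw [← MulAut.mul_apply, ← map_mul, inv_mul_cancel, map_one]; rfl
      rwa [h2] at h1
    refine Nat.card_le_card_of_injective (Quotient.lift (fun g => (⟨ρ g v, hmem g⟩ : (Bᶜ : Set V))) ?_) ?_
    · intro a b hab
      apply Subtype.ext
      have h1 : a⁻¹ * b ∈ stab ρ v := QuotientGroup.leftRel_apply.1 hab
      rw [mem_stab] at h1
      change ρ a v = ρ b v
      conv_lhs => rw [← h1]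
      rw [← MulAut.mul_apply, ← map_mul, mul_inv_cancel_left]
    · intro a b
      induction a using Quotient.inductionOn
      induction b using Quotient.inductionOn
      rename_i a b
      intro hab
      have h1 : ρ a v = ρ b v := congrArg Subtype.val hab
      apply Quotient.sound
      change (QuotientGroup.leftRel (stab ρ v)) a b
      rw [QuotientGroup.leftRel_apply, mem_stab, map_mul, MulAut.mul_apply, ← h1, ← MulAut.mul_apply, ← map_mul,
        inv_mul_cancel, map_one]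
      rfl
  have hmul := (stab ρ v).card_mul_index
  rw [hG] at hmul
  have h10 : (stab ρ v).index ≤ 10 := by omega
  have h6 : 6 ≤ Nat.card (stab ρ v) := by
    by_contra hcon
    have : Nat.card (stab ρ v) ≤ 5 := by omega
    nlinarith
  have hle := Nat.le_of_dvd (by norm_num) hdvd
  generalize Nat.card (stab ρ v) = n at *
  clear hmul
  obtain ⟨k, hk⟩ := hdvd
  have hkle : k ≤ 10 := by nlinarith
  interval_cases k <;> omega

/-- **`o4`.** -/
theorem o4 [Finite V] (h4 : 4 ≤ Fintype.card F) (hV : ∀ v : V, v * v = 1)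
    (ρ : SpecialLinearGroup (Fin 2) F →* MulAut V) (hne : ∃ g v, ρ g v ≠ v)
    (irr : ∀ W : Subgroup V, (∀ g, ∀ w ∈ W, ρ g w ∈ W) → W = ⊥ ∨ W = ⊤)
    {a : SpecialLinearGroup (Fin 2) F} (ha : a * a = 1) (ha1 : a ≠ 1) (hi : (fx ρ a).index ≤ Fintype.card F) :
    (∃ U : Sylow 2 (SpecialLinearGroup (Fin 2) F), (CS ρ (U : Subgroup _)).index = Fintype.card F) ∨
      ∃ q0, 2 ≤ q0 ∧ q0 * q0 = Fintype.card F ∧ Nat.card V = q0 ^ 4 ∧
        (∀ U : Sylow 2 (SpecialLinearGroup (Fin 2) F), O4Out ρ (U : Subgroup _) q0) ∧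
        (q0 = 2 → ∀ v : V, (∀ U : Sylow 2 (SpecialLinearGroup (Fin 2) F), v ∉ CS ρ (U : Subgroup _)) →
          Nat.card (stab ρ v) = 6) := by
  by_cases hnat : ∃ U : Sylow 2 (SpecialLinearGroup (Fin 2) F), (CS ρ (U : Subgroup _)).index = Fintype.card F
  · exact Or.inl hnat
  right
  -- every conjugate action is of type `O₄⁻`
  have key : ∀ g : SpecialLinearGroup (Fin 2) F, ∃ d, 0 < d ∧ Fintype.card F = 2 ^ (d * 2) ∧ Nat.card V = (2 ^ d) ^ 4 ∧
      O4Out ρ ((g • SU F : Sylow 2 _) : Subgroup (SpecialLinearGroup (Fin 2) F)) (2 ^ d) := by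
    intro g
    have hne' : ∃ x v, cjr ρ g x v ≠ v := by
      obtain ⟨x, v, hx⟩ := hne
      refine ⟨g⁻¹ * x * g, v, ?_⟩
      rw [cjr_apply, show g * (g⁻¹ * x * g) * g⁻¹ = x by group]
      exact hx
    have irr' : ∀ W : Subgroup V, (∀ x, ∀ w ∈ W, cjr ρ g x w ∈ W) → W = ⊥ ∨ W = ⊤ := by
      intro W hW
      refine irr W fun x w hw => ?_
      have := hW (g⁻¹ * x * g) w hw
      rwa [cjr_apply, show g * (g⁻¹ * x * g) * g⁻¹ = x by group] at this
    have hi' : (fx (cjr ρ g) a).index ≤ Fintype.card F := by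
      have : fx (cjr ρ g) a = fx ρ (g * a * g⁻¹) := rfl
      rw [this, index_fx_conj]
      exact hi
    rcases list2 hV (cjr ρ g) hne' irr' ha ha1 hi' with ⟨-, X, Y, h⟩ | ⟨d, hd, hF, hc, X, Y, Z, h⟩
    · exfalso
      apply hnat
      refine ⟨g • SU F, ?_⟩
      rw [← CS_cjr]
      exact Nat2.index h
    · exact ⟨d, hd, hF, hc, (out_SU hd h hF hc).of_cjr⟩
  obtain ⟨d, hd, hF, hc, -⟩ := key 1
  refine ⟨2 ^ d, ?_, ?_, hc, ?_, ?_⟩
  · calc 2 = 2 ^ 1 := rfl
      _ ≤ 2 ^ d := Nat.pow_le_pow_right (by norm_num) hd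
  · rw [hF, mul_two, pow_add]
  · intro U
    obtain ⟨g, rfl⟩ := exists_smul_SU U
    obtain ⟨d', hd', hF', -, h⟩ := key g
    have h1 : d' = d := by
      rw [hF] at hF'
      have := Nat.pow_right_injective le_rfl hF'
      omega
    rw [h1] at h
    exact h
  · intro hq v hv
    exact card_stab hV hne irr (by rw [hF, pow_mul, hq]; norm_num) (by rw [hc, hq]; norm_num) hv

end Cfsg.Agent.OddCyclic.EmpKO4
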