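import Mathlib
import Cfsg.Agent.OddCyclic.EmpA.Types

/-!
# (Empty), section 3.5: `K ≅ SL₂(q)`, abstractly

`K` a simple normal subgroup of `H`, `C_H(K) = 1`, `T` a Sylow 2-subgroup of `H`, `A ≠ 1` an elementary abelian normal
subgroup of `T`.

* `exists_wit_ti` : the witness if `A ≤ K` and the Sylow 2-subgroups of `K` are TI;
* `le_of_le_o2` : `A ≤ O₂(N_H(T ⊓ K))` implies `A ≤ K`, if `K ≅ SL₂(q)`;
* `inf_ne_bot` : `A ⊓ K ≠ 1` if `K ≅ SL₂(q)`.
-/

set_option autoImplicit false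
set_option linter.unusedSectionVars false

namespace Cfsg.Agent.OddCyclic.EmpKillFive

open Subgroup Cfsg Cfsg.Agent.ZN Cfsg.Agent.ZN.Block
open Cfsg.Agent.OddCyclic.T1Sl2 Cfsg.Agent.OddCyclic.FFOuter Cfsg.Agent.OddCyclic.EmpTypes
open Cfsg.Agent.Classification.QDW.TypeHom
open Cfsg.Agent.Lib.SL2Mat (fieldAut)

universe u

section

variable {H : Type u} [Group H] [Finite H] {T : Sylow 2 H} {A K : Subgroup H}

/-- TI in an isomorphic copy of `SL₂(q)` -/
theorem ti_sl {K : Type*} [Group K] [Finite K] {F : Type*} [Field F] [Fintype F] [CharP F 2]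
    (e : K ≃* Matrix.SpecialLinearGroup (Fin 2) F) : ∀ P Q : Sylow 2 K, ∀ x : K, x ∈ P → x ∈ Q → x ≠ 1 → P = Q := by
  intro P Q x hP hQ hx
  by_contra hne
  have hr : ∀ P : Sylow 2 K, (P : Subgroup K) ≤ e.symm.toMonoidHom.range := by
    intro P
    rw [MonoidHom.range_eq_top.2 e.symm.surjective]
    exact le_top
  have hne' : P.comapOfInjective e.symm.toMonoidHom e.symm.injective (hr P) ≠
      Q.comapOfInjective e.symm.toMonoidHom e.symm.injective (hr Q) := by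
    intro h0
    apply hne
    apply Sylow.ext
    have h1 : (P : Subgroup K).comap e.symm.toMonoidHom = (Q : Subgroup K).comap e.symm.toMonoidHom :=
      congrArg (fun S : Sylow 2 (Matrix.SpecialLinearGroup (Fin 2) F) =>
        (S : Subgroup (Matrix.SpecialLinearGroup (Fin 2) F))) h0
    exact Subgroup.comap_injective e.symm.surjective h1
  have hm : ∀ P : Sylow 2 K, x ∈ P → e x ∈ P.comapOfInjective e.symm.toMonoidHom e.symm.injective (hr P) := by
    intro P hP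
    show e.symm (e x) ∈ (P : Subgroup K)
    rw [e.symm_apply_apply]
    exact hP
  have h1 := T1Sl2.sylow_ti hne' (hm P hP) (hm Q hQ)
  exact hx ((map_eq_one_iff e e.injective).1 h1)

/-- the witness for `A ≤ K`, `K` simple normal with TI Sylow 2-subgroups -/
theorem exists_wit_ti (hKn : K.Normal) (hKs : IsSimpleGroup K) (hcore : pCore 2 H = ⊥)
    (hTI : ∀ P Q : Sylow 2 K, ∀ x : K, x ∈ P → x ∈ Q → x ≠ 1 → P = Q)
    (hAT : A ≤ (T : Subgroup H)) (hA : A ≠ ⊥) (hAK : A ≤ K) : ∃ k : H, ∀ a ∈ A, a ≠ 1 → ∃ x ∈ A, ∃ y ∈ A,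
      ¬ Commute (k * x * k⁻¹) (a * (k * y * k⁻¹) * a⁻¹) := by
  have hf2 : Fact (Nat.Prime 2) := ⟨Nat.prime_two⟩
  obtain ⟨Q, hQ⟩ := Cfsg.Agent.S0542.result 2 K hKn.isSubnormal T
  have hQm : ∀ x : K, x ∈ Q ↔ (x : H) ∈ (T : Subgroup H) := by
    intro x
    have h1 : x ∈ Q ↔ x ∈ (Q : Subgroup K) := Iff.rfl
    rw [h1, hQ]
    rfl
  obtain ⟨⟨b, hb⟩, hb1'⟩ := Subgroup.ne_bot_iff_exists_ne_one.1 hA
  have hb1 : b ≠ 1 := fun h => hb1' (Subtype.ext h)
  obtain ⟨k, hk⟩ : ∃ k : K, k • Q ≠ Q := by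
    by_contra hcon
    push Not at hcon
    have hn : (Q : Subgroup K).Normal := by
      rw [← normalizer_eq_top_iff, eq_top_iff]
      intro k _
      exact Sylow.smul_eq_iff_mem_normalizer.1 (hcon k)
    rcases hKs.eq_bot_or_eq_top_of_normal _ hn with h1 | h1
    · have h2 : (⟨b, hAK hb⟩ : K) ∈ (Q : Subgroup K) := (hQm _).2 (hAT hb)
      rw [h1, mem_bot] at h2
      exact hb1 (congrArg Subtype.val h2)
    · have h2 : IsPGroup 2 K := by
        have h3 := Q.isPGroup'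
        rw [h1] at h3
        exact h3.of_equiv topEquiv
      have h3 := Lib.Cores.le_pCore hKn h2
      rw [hcore, le_bot_iff] at h3
      have h4 := hAK hb
      rw [h3, mem_bot] at h4
      exact hb1 h4
  refine ⟨k, fun a ha ha1 => ⟨b, hb, b, hb, fun hcomm => ?_⟩⟩
  refine wit_of_ti hTI Q hk (a := ⟨a, hAK ha⟩) (x := ⟨b, hAK hb⟩) ((hQm _).2 (hAT ha))
    (fun h0 => ha1 (congrArg Subtype.val h0)) ((hQm _).2 (hAT hb)) (fun h0 => hb1 (congrArg Subtype.val h0)) ?_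
  exact Subtype.ext hcomm.eq

/-- coordinates -/
theorem exists_coord (T : Sylow 2 H) [hKn : K.Normal] {F : Type*} [Field F] [Fintype F] [CharP F 2]
    (e₀ : Matrix.SpecialLinearGroup (Fin 2) F ≃* K) :
    ∃ e : Matrix.SpecialLinearGroup (Fin 2) F ≃* K, ∀ x, x ∈ T1Sl2.SU F ↔ (e x : H) ∈ (T : Subgroup H) := by
  have hf2 : Fact (Nat.Prime 2) := ⟨Nat.prime_two⟩
  obtain ⟨Q, hQ⟩ := Cfsg.Agent.S0542.result 2 K hKn.isSubnormal T
  let P : Sylow 2 (Matrix.SpecialLinearGroup (Fin 2) F) := Q.comapOfInjective e₀.toMonoidHom e₀.injective (by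
    rw [MonoidHom.range_eq_top.2 e₀.surjective]; exact le_top)
  have hP : ∀ x, x ∈ P ↔ (e₀ x : H) ∈ (T : Subgroup H) := by
    intro x
    have h1 : x ∈ P ↔ e₀ x ∈ (Q : Subgroup K) := Iff.rfl
    rw [h1, hQ]
    rfl
  obtain ⟨g, hg⟩ := MulAction.exists_smul_eq (Matrix.SpecialLinearGroup (Fin 2) F) (T1Sl2.SU F) P
  refine ⟨(MulAut.conj g).trans e₀, fun x => ?_⟩
  have h1 : (((MulAut.conj g).trans e₀) x : K) = e₀ (g * x * g⁻¹) := rfl
  rw [h1, ← hP, ← hg, mem_smul]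
  have h2 : g⁻¹ * (g * x * g⁻¹) * g = x := by group
  rw [h2]

/-- `A ≤ O₂(N_H(T ⊓ K))` implies `A ≤ K` -/
theorem le_of_le_o2 (hAT : A ≤ (T : Subgroup H)) [hKn : K.Normal] (hC : centralizer (K : Set H) = ⊥) {F : Type*}
    [Field F] [Fintype F] [CharP F 2] (e₀ : Matrix.SpecialLinearGroup (Fin 2) F ≃* K)
    (hO : A ≤ o2 (normalizer (((T : Subgroup H) ⊓ K : Subgroup H) : Set H))) : A ≤ K := by
  obtain ⟨e, he⟩ := exists_coord T e₀
  obtain ⟨N, hN⟩ : ∃ N : Subgroup H, N = (T : Subgroup H) ⊓ K := ⟨_, rfl⟩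
  rw [← hN] at hO
  have hNe : ∀ x ∈ N, ∃ y ∈ T1Sl2.SU F, (e y : H) = x := by
    intro x hx
    rw [hN] at hx
    refine ⟨e.symm ⟨x, hx.2⟩, ?_, ?_⟩
    · rw [he, e.apply_symm_apply]
      exact hx.1
    · rw [e.apply_symm_apply]
  have hTN : (T : Subgroup H) ≤ normalizer (N : Set H) := by
    refine Block.le_normalizer_of_forall fun l hl m hm => ?_
    rw [hN] at hm ⊢
    exact Subgroup.mem_inf.2 ⟨mul_mem (mul_mem hl hm.1) (inv_mem hl), hKn.conj_mem m hm.2 l⟩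
  have hOT := MinA.o2_le hTN
  intro a ha
  -- `a` is inner
  have h1 : typ (ac e a) = 1 := by
    refine typ_eq_one (fun x hx => ?_) (fun s => ?_)
    · rw [he, e_ac]
      exact mul_mem (mul_mem (hAT ha) ((he x).1 hx)) (inv_mem (hAT ha))
    · rw [he]
      have h2 : (e (ac e a (dg s) * (dg s)⁻¹) : H) = a * (e (dg s) : H) * a⁻¹ * (e (dg s) : H)⁻¹ := by
        rw [map_mul, Subgroup.coe_mul, e_ac, map_inv, Subgroup.coe_inv]
      rw [h2]
      apply hOT
      have h3 : (e (dg s) : H) ∈ normalizer (N : Set H) := by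
        have h5 : ∀ x ∈ N, (e (dg s) : H) * x * (e (dg s) : H)⁻¹ ∈ N := by
          intro x hx
          obtain ⟨y, hy, rfl⟩ := hNe x hx
          have h6 : (e (dg s) : H) * e y * (e (dg s) : H)⁻¹ = (e (dg s * y * (dg s)⁻¹) : H) := by
            rw [map_mul, map_mul, map_inv]; rfl
          rw [h6, hN]
          refine Subgroup.mem_inf.2 ⟨(he _).1 ?_, (e _).2⟩
          rw [mem_SU] at hy ⊢
          rw [mul00, mul00, mul01, mul10, mul10, mul11, inv00, inv10, dg00, dg01, dg10, dg11, hy.1, hy.2]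
          constructor
          · have h7 : (s : F) * ((s⁻¹ : Fˣ) : F) = 1 := by rw [← Units.val_mul, mul_inv_cancel, Units.val_one]
            linear_combination h7
          · ring
        have h6 : ∀ x ∈ N, (e (dg s) : H)⁻¹ * x * (e (dg s) : H) ∈ N := by
          intro x hx
          obtain ⟨y, hy, rfl⟩ := hNe x hx
          have h6 : (e (dg s) : H)⁻¹ * e y * (e (dg s) : H) = (e ((dg s)⁻¹ * y * dg s) : H) := by
            rw [map_mul, map_mul, map_inv]; rfl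
          rw [h6, hN]
          refine Subgroup.mem_inf.2 ⟨(he _).1 ?_, (e _).2⟩
          rw [mem_SU] at hy ⊢
          rw [mul00, mul00, mul01, mul10, mul10, mul11, inv00, inv01, inv10, inv11, dg00, dg01, dg10, dg11, hy.1, hy.2]
          constructor
          · have h7 : (s : F) * ((s⁻¹ : Fˣ) : F) = 1 := by rw [← Units.val_mul, mul_inv_cancel, Units.val_one]
            linear_combination h7
          · ring
        rw [mem_normalizer_iff]
        intro x
        refine ⟨h5 x, fun hx => ?_⟩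
        have := h6 _ hx
        have e1 : (e (dg s) : H)⁻¹ * ((e (dg s) : H) * x * (e (dg s) : H)⁻¹) * (e (dg s) : H) = x := by group
        rwa [e1] at this
      have e2 : a * (e (dg s) : H) * a⁻¹ * (e (dg s) : H)⁻¹ = a * ((e (dg s) : H) * a⁻¹ * (e (dg s) : H)⁻¹) := by group
      rw [e2]
      exact mul_mem (hO ha) (o2_conj h3 (inv_mem (hO ha)))
  obtain ⟨s, hs⟩ := (L2Model.inner_iff _).1 h1
  rw [← ac_coe e s] at hs
  have h2 := (ac_eq_iff e _ _).1 hs
  exact mem_of_inner hC (e s).2 h2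

/-- `A ⊓ K ≠ 1` -/
theorem inf_ne_bot (hTA : (T : Subgroup H) ≤ normalizer (A : Set H)) (hA : A ≠ ⊥)
    [hKn : K.Normal] (hC : centralizer (K : Set H) = ⊥) {F : Type*}
    [Field F] [Fintype F] [CharP F 2] (e₀ : Matrix.SpecialLinearGroup (Fin 2) F ≃* K) : A ⊓ K ≠ ⊥ := by
  intro h0
  obtain ⟨e, he⟩ := exists_coord T e₀
  obtain ⟨⟨a, ha⟩, ha1'⟩ := Subgroup.ne_bot_iff_exists_ne_one.1 hA
  have ha1 : a ≠ 1 := fun h => ha1' (Subtype.ext h)
  have hfix : ∀ x ∈ T1Sl2.SU F, ac e a x = x := by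
    intro x hx
    have hxT := (he x).1 hx
    have h1 : a * (e x : H) * a⁻¹ * (e x : H)⁻¹ ∈ A ⊓ K := by
      refine Subgroup.mem_inf.2 ⟨?_, mul_mem (hKn.conj_mem _ (e x).2 a) (inv_mem (e x).2)⟩
      have e1 : a * (e x : H) * a⁻¹ * (e x : H)⁻¹ = a * ((e x : H) * a⁻¹ * (e x : H)⁻¹) := by group
      rw [e1]
      exact mul_mem ha ((mem_normalizer_iff.1 (hTA hxT) _).1 (inv_mem ha))
    rw [h0, mem_bot, mul_inv_eq_one] at h1
    apply e.injective
    apply Subtype.ext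
    rw [e_ac]
    exact h1
  obtain ⟨g, hg⟩ := L2Model.exists_form (ac e a)
  obtain ⟨σ, hσ⟩ : ∃ σ, σ = typ (ac e a) := ⟨_, rfl⟩
  rw [← hσ] at hg
  have h1 : ∀ t : F, g * up (σ t) = up t * g := by
    intro t
    have h2 := hfix (up t) (up_mem t)
    rw [hg, MulAut.mul_apply, fieldAut_up', MulAut.conj_apply] at h2
    calc g * up (σ t) = (g * up (σ t) * g⁻¹) * g := by group
      _ = up t * g := by rw [h2]
  have h2 := h1 1
  rw [map_one] at h2
  have g10 : g 1 0 = 0 := by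
    have h3 := congrArg (fun z : Matrix.SpecialLinearGroup (Fin 2) F => z 0 0) h2
    simp only [mul00, up00, up01, up10] at h3
    linear_combination -h3
  have g00 : g 0 0 = g 1 1 := by
    have h3 := congrArg (fun z : Matrix.SpecialLinearGroup (Fin 2) F => z 0 1) h2
    simp only [mul01, up00, up01, up11] at h3
    linear_combination h3
  have hd := T1Sl2.det g
  have hg1 : g 0 0 = 1 := by
    have h3 : (g 0 0 - 1) * (g 0 0 - 1) = 0 := by
      have h4 : (2 : F) = 0 := CharTwo.two_eq_zero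
      rw [g10, ← g00] at hd
      linear_combination hd + (1 - g 0 0) * h4
    exact sub_eq_zero.1 (mul_self_eq_zero.1 h3)
  have hσ1 : ∀ t : F, σ t = t := by
    intro t
    have h3 := congrArg (fun z : Matrix.SpecialLinearGroup (Fin 2) F => z 0 1) (h1 t)
    simp only [mul01, up00, up01, up11] at h3
    rw [← g00, hg1] at h3
    linear_combination h3
  have hσ2 : typ (ac e a) = 1 := by
    rw [← hσ]
    ext x
    exact hσ1 x
  obtain ⟨s, hs⟩ := (L2Model.inner_iff _).1 hσ2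
  rw [← ac_coe e s] at hs
  have h3 := (ac_eq_iff e _ _).1 hs
  have h4 : a ∈ A ⊓ K := Subgroup.mem_inf.2 ⟨ha, mem_of_inner hC (e s).2 h3⟩
  rw [h0, mem_bot] at h4
  exact ha1 h4

/-- an element of `K` normalising `A` normalises `T ⊓ K` -/
theorem mem_normalizer_inf (hAT : A ≤ (T : Subgroup H)) (hKn : K.Normal)
    (hTI : ∀ P Q : Sylow 2 K, ∀ x : K, x ∈ P → x ∈ Q → x ≠ 1 → P = Q) (hAK : A ⊓ K ≠ ⊥) {g : H} (hg : g ∈ K)
    (hgA : g ∈ normalizer (A : Set H)) : g ∈ normalizer (((T : Subgroup H) ⊓ K : Subgroup H) : Set H) := by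
  have hf2 : Fact (Nat.Prime 2) := ⟨Nat.prime_two⟩
  obtain ⟨Q, hQ⟩ := Cfsg.Agent.S0542.result 2 K hKn.isSubnormal T
  have hQm : ∀ x : K, x ∈ (Q : Subgroup K) ↔ (x : H) ∈ (T : Subgroup H) := by
    intro x
    rw [hQ]
    rfl
  obtain ⟨⟨x, hx⟩, hx1'⟩ := Subgroup.ne_bot_iff_exists_ne_one.1 hAK
  have hx1 : x ≠ 1 := fun h => hx1' (Subtype.ext h)
  have h1 : (⟨g, hg⟩ : K) • Q = Q := by
    refine hTI _ _ (⟨g, hg⟩ * ⟨x, hx.2⟩ * (⟨g, hg⟩ : K)⁻¹) ?_ ?_ ?_
    · have h2 : (⟨g, hg⟩ * ⟨x, hx.2⟩ * (⟨g, hg⟩ : K)⁻¹ : K) ∈ (((⟨g, hg⟩ : K) • Q : Sylow 2 K) : Subgroup K) := by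
        rw [Sylow.coe_subgroup_smul]
        exact ⟨_, (hQm ⟨x, hx.2⟩).2 (hAT hx.1), rfl⟩
      exact h2
    · refine (hQm _).2 (hAT ?_)
      exact (mem_normalizer_iff.1 hgA x).1 hx.1
    · intro h2
      rw [conj_eq_one_iff] at h2
      exact hx1 (congrArg Subtype.val h2)
  have h2 := Sylow.smul_eq_iff_mem_normalizer.1 h1
  rw [mem_normalizer_iff]
  intro y
  constructor
  · intro hy
    refine Subgroup.mem_inf.2 ⟨?_, hKn.conj_mem _ hy.2 g⟩
    exact (hQm _).1 ((mem_normalizer_iff.1 h2 ⟨y, hy.2⟩).1 ((hQm _).2 hy.1))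
  · intro hy
    have hyK : y ∈ K := by
      have h3 := hKn.conj_mem _ hy.2 g⁻¹
      have e1 : g⁻¹ * (g * y * g⁻¹) * g⁻¹⁻¹ = y := by group
      rwa [e1] at h3
    exact Subgroup.mem_inf.2 ⟨(hQm ⟨y, hyK⟩).1 ((mem_normalizer_iff.1 h2 ⟨y, hyK⟩).2 ((hQm _).2 hy.1)), hyK⟩

/-- `X` is solvable if a normal solvable subgroup covers `X / T` -/
theorem solvable_of_sup {X : Type*} [Group X] [Finite X] {T : Sylow 2 X} {D : Subgroup X} [D.Normal]
    (hD : Group.IsSolvable D) (hs : D ⊔ (T : Subgroup X) = ⊤) : Group.IsSolvable X := by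
  have hf : Fact (Nat.Prime 2) := ⟨Nat.prime_two⟩
  rw [Group.isSolvable_iff_subgroup_quotient D]
  refine ⟨hD, ?_⟩
  let f : (T : Subgroup X) →* X ⧸ D := (QuotientGroup.mk' D).comp (T : Subgroup X).subtype
  have hf : Function.Surjective f := by
    intro w
    obtain ⟨x, rfl⟩ := QuotientGroup.mk'_surjective D w
    have h1 : x ∈ D ⊔ (T : Subgroup X) := by rw [hs]; exact mem_top x
    rw [mem_sup_of_normal_left] at h1
    obtain ⟨d, hd, t, ht, rfl⟩ := h1
    refine ⟨⟨t, ht⟩, ?_⟩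
    change QuotientGroup.mk' D t = QuotientGroup.mk' D (d * t)
    rw [map_mul]
    have : QuotientGroup.mk' D d = 1 := (QuotientGroup.eq_one_iff d).2 hd
    rw [this, one_mul]
  have hT : Group.IsSolvable (T : Subgroup X) := by
    have : Group.IsNilpotent (T : Subgroup X) := T.isPGroup'.isNilpotent
    infer_instance
  exact Group.isSolvable_of_surjective hf

/-- `N_H(T ⊓ K)` is solvable -/
theorem isSolvable_normalizer [hKn : K.Normal] {F : Type*} [Field F] [Fintype F] [CharP F 2]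
    (e₀ : Matrix.SpecialLinearGroup (Fin 2) F ≃* K) (htop : K ⊔ (T : Subgroup H) = ⊤) :
    Group.IsSolvable (normalizer (((T : Subgroup H) ⊓ K : Subgroup H) : Set H)) := by
  have hf2 : Fact (Nat.Prime 2) := ⟨Nat.prime_two⟩
  obtain ⟨e, he⟩ := exists_coord T e₀
  have hTN : (T : Subgroup H) ≤ normalizer (((T : Subgroup H) ⊓ K : Subgroup H) : Set H) := by
    refine Block.le_normalizer_of_forall fun l hl m hm => ?_
    exact Subgroup.mem_inf.2 ⟨mul_mem (mul_mem hl hm.1) (inv_mem hl), hKn.conj_mem m hm.2 l⟩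
  obtain ⟨N, hN⟩ : ∃ N : Subgroup H, N = normalizer (((T : Subgroup H) ⊓ K : Subgroup H) : Set H) := ⟨_, rfl⟩
  rw [← hN] at hTN ⊢
  -- the lower left entry is zero
  have hz : ∀ g : Matrix.SpecialLinearGroup (Fin 2) F, (e g : H) ∈ N → g 1 0 = 0 := by
    intro g hg
    rw [← smul_SU_eq]
    apply Sylow.ext
    refine SetLike.ext fun x => ?_
    rw [show x ∈ ((g • T1Sl2.SU F : Sylow 2 (Matrix.SpecialLinearGroup (Fin 2) F)) :
      Subgroup (Matrix.SpecialLinearGroup (Fin 2) F)) ↔ x ∈ g • T1Sl2.SU F from Iff.rfl, mem_smul,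
      show x ∈ ((T1Sl2.SU F : Sylow 2 (Matrix.SpecialLinearGroup (Fin 2) F)) :
      Subgroup (Matrix.SpecialLinearGroup (Fin 2) F)) ↔ x ∈ T1Sl2.SU F from Iff.rfl, he, he]
    rw [hN, mem_normalizer_iff] at hg
    have h1 := hg (e (g⁻¹ * x * g) : H)
    have e1 : (e g : H) * (e (g⁻¹ * x * g) : H) * (e g : H)⁻¹ = (e x : H) := by
      rw [← Subgroup.coe_mul, ← map_mul, ← Subgroup.coe_inv, ← map_inv, ← Subgroup.coe_mul, ← map_mul]
      congr 2
      group
    rw [e1] at h1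
    constructor
    · intro h2
      exact (h1.1 (Subgroup.mem_inf.2 ⟨h2, (e _).2⟩)).1
    · intro h2
      exact (h1.2 (Subgroup.mem_inf.2 ⟨h2, (e _).2⟩)).1
  have hcomm : ∀ a ∈ N, a ∈ K → ∀ b ∈ N, b ∈ K → a * b * a⁻¹ * b⁻¹ ∈ (T : Subgroup H) ⊓ K := by
    intro a haN haK b hbN hbK
    refine Subgroup.mem_inf.2 ⟨?_, mul_mem (mul_mem (mul_mem haK hbK) (inv_mem haK)) (inv_mem hbK)⟩
    obtain ⟨x, hx⟩ := e.surjective ⟨a, haK⟩
    obtain ⟨y, hy⟩ := e.surjective ⟨b, hbK⟩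
    have hx' : (e x : H) = a := congrArg Subtype.val hx
    have hy' : (e y : H) = b := congrArg Subtype.val hy
    have e1 : a * b * a⁻¹ * b⁻¹ = (e (x * y * x⁻¹ * y⁻¹) : H) := by
      rw [map_mul, map_mul, map_mul, map_inv, map_inv, Subgroup.coe_mul, Subgroup.coe_mul, Subgroup.coe_mul,
        Subgroup.coe_inv, Subgroup.coe_inv, hx', hy']
    rw [e1, ← he, mem_SU]
    have h1 := hz x (by rw [hx']; exact haN)
    have h2 := hz y (by rw [hy']; exact hbN)
    have d1 := T1Sl2.det x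
    have d2 := T1Sl2.det y
    rw [h1, mul_zero, sub_zero] at d1
    rw [h2, mul_zero, sub_zero] at d2
    simp only [mul00, mul01, mul10, mul11, inv00, inv01, inv10, inv11, h1, h2]
    constructor
    · linear_combination (y 0 0 * y 1 1) * d1 + d2
    · ring
  obtain ⟨D, hD⟩ : ∃ D : Subgroup N, D = K.subgroupOf N := ⟨_, rfl⟩
  have hDn : D.Normal := by rw [hD]; exact ⟨fun x hx g => hKn.conj_mem _ hx g⟩
  have hDm : ∀ x : N, x ∈ D ↔ (x : H) ∈ K := fun x => by rw [hD]; rfl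
  -- `D` is solvable
  have hDs : Group.IsSolvable D := by
    obtain ⟨U, hU⟩ : ∃ U : Subgroup D, U = ((T : Subgroup H) ⊓ K).comap (N.subtype.comp D.subtype) := ⟨_, rfl⟩
    have hUm : ∀ x : D, x ∈ U ↔ ((x : N) : H) ∈ (T : Subgroup H) ⊓ K := fun x => by rw [hU]; rfl
    have hUn : U.Normal := by
      refine ⟨fun x hx g => ?_⟩
      rw [hUm] at hx ⊢
      have h1 : ((g : N) : H) ∈ normalizer (((T : Subgroup H) ⊓ K : Subgroup H) : Set H) := hN.le (g : N).2
      exact (mem_normalizer_iff.1 h1 _).1 hx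
    rw [Group.isSolvable_iff_subgroup_quotient U]
    constructor
    · have h1 : IsPGroup 2 U := by
        rw [hU]
        exact (T.isPGroup'.to_le inf_le_left).comap_of_injective _ (N.subtype_injective.comp D.subtype_injective)
      have := h1.isNilpotent
      infer_instance
    · refine Group.isSolvable_of_comm fun a b => ?_
      obtain ⟨a, rfl⟩ := QuotientGroup.mk_surjective a
      obtain ⟨b, rfl⟩ := QuotientGroup.mk_surjective b
      rw [← QuotientGroup.mk_mul, ← QuotientGroup.mk_mul, QuotientGroup.eq, hUm]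
      have h1 := hcomm _ (inv_mem (b : N).2) (inv_mem ((hDm _).1 b.2)) _ (inv_mem (a : N).2) (inv_mem ((hDm _).1 a.2))
      rw [inv_inv, inv_inv] at h1
      show ((((a * b : D)⁻¹ * (b * a) : D) : N) : H) ∈ _
      have e1 : ((((a * b : D)⁻¹ * (b * a) : D) : N) : H) =
          ((b : N) : H)⁻¹ * ((a : N) : H)⁻¹ * ((b : N) : H) * ((a : N) : H) := by
        push_cast
        group
      rw [e1]
      exact h1
  -- `N = D T`
  obtain ⟨T', hT'⟩ : ∃ T' : Sylow 2 N, T' = T.subtype hTN := ⟨_, rfl⟩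
  refine solvable_of_sup (T := T') hDs ?_
  rw [eq_top_iff]
  intro n _
  have h1 : (n : H) ∈ K ⊔ (T : Subgroup H) := by rw [htop]; exact mem_top _
  rw [Subgroup.mem_sup_of_normal_left] at h1
  obtain ⟨k, hk, t, ht, hkt⟩ := h1
  have hkN : k ∈ N := by
    have e1 : k = (n : H) * t⁻¹ := by rw [← hkt]; group
    rw [e1]
    exact mul_mem n.2 (inv_mem (hTN ht))
  have e1 : n = ⟨k, hkN⟩ * ⟨t, hTN ht⟩ := Subtype.ext hkt.symm
  rw [e1]
  refine mul_mem (Subgroup.mem_sup_left ((hDm _).2 hk)) (Subgroup.mem_sup_right ?_)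
  rw [hT']
  exact mem_subgroupOf.2 ht

end

/-! ### Preimages -/

open Cfsg.Agent.ZN.ChoiceBase Cfsg.Agent.ZN.ChoiceSit
open Cfsg.Agent.MinSimple Cfsg.Agent.MinSimple.EmptyTI Cfsg.Agent.MinSimple.EmptySix
open Cfsg.Agent.MinSimple.EmptyE.Closed (LL CC vv_comm vv_sq vv_mul_self vv_inv
  isPGroup_vv vv_le_jj vv_le jj_le_centralizer_vv conj_mem_vv cj_vv)
open Cfsg.Agent.OddCyclic.EmpFrame Cfsg.Agent.OddCyclic.EmpA

variable {G : Type u} [Group G] [Finite G] {S : Sylow 2 G} {R T P : Subgroup G}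
  {H : Type u} [Group H] {π : P →* H} {TH : Sylow 2 H} {A : Subgroup H}

theorem exists_par (q : Quot S R T P π TH A) {X : Subgroup H}
    (hX : (TH : Subgroup H) ≤ X) (hA : ¬ A ≤ o2 X) :
    ∃ Y : Subgroup G, Y ≤ P ∧ Par S R T Y ∧ (∀ (y : G) (hy : y ∈ P), y ∈ Y ↔ π ⟨y, hy⟩ ∈ X) ∧
      (Group.IsSolvable X → Group.IsSolvable Y) := by
  obtain ⟨Y, hY⟩ : ∃ Y : Subgroup G, Y = (X.comap π).map P.subtype := ⟨_, rfl⟩
  have hYP : Y ≤ P := hY ▸ map_subtype_le _
  have hYX : ∀ {y : G} (hy : y ∈ Y), π ⟨y, hYP hy⟩ ∈ X := by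
    intro y hy
    have h1 := hy
    rw [hY] at h1
    obtain ⟨z, hz, rfl⟩ := h1
    exact hz
  have hXY : ∀ {y : G} (hy : y ∈ P), π ⟨y, hy⟩ ∈ X → y ∈ Y := by
    intro y hy h1
    rw [hY]
    exact ⟨⟨y, hy⟩, h1, rfl⟩
  have hTY : T ≤ Y := by
    intro t ht
    refine hXY (q.par.le ht) (hX ?_)
    rw [q.TH_eq]
    exact ⟨_, mem_subgroupOf.2 ht, rfl⟩
  refine ⟨Y, hYP, ⟨q.par.toConf, hTY, hYP.trans q.par.leX, fun hV => hA ?_⟩, fun y hy =>
    ⟨fun h => hYX h, fun h => hXY hy h⟩, fun hXs => ?_⟩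
  · have h1 : ((o2 Y).subgroupOf P).map π ≤ o2 X := by
      have h2 : IsPGroup 2 (((o2 Y).subgroupOf P).map π) :=
        ((Block.o2_isPGroup Y).comap_subtype (K := P)).map π
      refine Block.le_o2 h2 ?_ ?_
      · rintro _ ⟨y, hy, rfl⟩
        exact hYX (ChoiceSit.o2_le _ (mem_subgroupOf.1 hy))
      · refine Block.le_normalizer_of_forall ?_
        rintro x hx _ ⟨y, hy, rfl⟩
        obtain ⟨z, rfl⟩ := q.surj x
        refine ⟨z * y * z⁻¹, ?_, by rw [map_mul, map_mul, map_inv]⟩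
        have h3 : (z : G) ∈ Y := hXY z.2 hx
        exact (mem_normalizer_iff.1 (Block.le_normalizer_o2 Y h3) _).1 hy
    refine le_trans ?_ h1
    rw [q.A_eq]
    exact map_mono (comap_mono hV)
  · -- `Y` is an extension of a 2-group by `X`
    obtain ⟨f, hf⟩ : ∃ f : Y →* X, ∀ y : Y, (f y : H) = π ⟨y, hYP y.2⟩ :=
      ⟨(π.comp (inclusion hYP)).codRestrict X fun y => hYX y.2, fun y => rfl⟩
    have hk : IsPGroup 2 f.ker := by
      rintro ⟨y, hy⟩
      have h1 : π ⟨y, hYP y.2⟩ = 1 := by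
        rw [← hf]
        exact congrArg Subtype.val hy
      obtain ⟨n, hn⟩ := Block.o2_isPGroup P ⟨_, (q.ker _).1 h1⟩
      refine ⟨n, Subtype.ext (Subtype.ext ?_)⟩
      have h2 := congrArg Subtype.val hn
      simpa using h2
    have hks : Group.IsSolvable f.ker := by
      have hf2 : Fact (Nat.Prime 2) := ⟨Nat.prime_two⟩
      have := hk.isNilpotent
      infer_instance
    exact Group.isSolvable_of_ker_le_range f.ker.subtype f (by rw [range_subtype])

end Cfsg.Agent.OddCyclic.EmpKillFive
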