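import Mathlib
import Cfsg.Agent.OddCyclic.EmpA.Types
import Cfsg.Agent.OddCyclic.ClaimC.Sz
import Cfsg.Agent.OddCyclic.EmpNSRep
import Cfsg.Agent.PLocal.SectionFrattini
import Cfsg.Agent.Lib.FrattiniPGroup

/-!
# (Empty), section 3.5: the Suzuki groups

`P/O₂(P) ≥ K ≅ Sz(q')`, `V O₂(P)/O₂(P) ≤ K`: `|V : D| ≤ q'` and `q'² ≤ |D : R|`, `D = V ⊓ O₂(P)`.

The module is `Q/RΦ(Q)`, `Q = O₂(P)`: an element `y` of order `r`, inverted by `v ∈ V - D`, acts nontrivially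
on it, `[Q, v] ≤ D`, and the order of 2 modulo `r` is at least `4 f`, `q' = 2^f`.
-/

set_option autoImplicit false
set_option linter.unusedSectionVars false

namespace Cfsg.Agent.OddCyclic.EmpKillFive

open Subgroup Cfsg Cfsg.Agent.ZN Cfsg.Agent.ZN.ChoiceBase Cfsg.Agent.ZN.ChoiceSit
open Cfsg.Agent.MinSimple Cfsg.Agent.MinSimple.EmptyTI Cfsg.Agent.MinSimple.EmptySix
open Cfsg.Agent.MinSimple.EmptyE.Closed (LL CC vv_comm vv_sq vv_mul_self vv_inv
  isPGroup_vv vv_le_jj vv_le jj_le_centralizer_vv conj_mem_vv cj_vv)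
open Cfsg.Agent.OddCyclic.EmpFrame Cfsg.Agent.OddCyclic.EmpA
open Cfsg.Agent.OddCyclic.EmpNSRep (cw cw_coe)
open Cfsg.Agent.OddCyclic.FFBasic (fx cm cm_apply mem_fx card_range_cm)
open scoped commutatorElement

universe u

variable {G : Type u} [Group G]

/-! ### the action on a section -/

/-- the action of `P` on the abelian section `W/F` -/
structure Sec (P W F : Subgroup G) {M : Type u} [CommGroup M] (ρ : P →* MulAut M) (π : W →* M) : Prop where
  surj : Function.Surjective π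
  one : ∀ w : W, π w = 1 ↔ (w : G) ∈ F
  act : ∀ (p : P) (w : W) (hw : (p : G) * w * (p : G)⁻¹ ∈ W), ρ p (π w) = π ⟨(p : G) * w * (p : G)⁻¹, hw⟩

theorem exists_sec [Finite G] {P W F : Subgroup G} (hPW : P ≤ normalizer (W : Set G))
    (hPF : P ≤ normalizer (F : Set G)) (hWF : W ≤ normalizer (F : Set G))
    (hab : ∀ a ∈ W, ∀ b ∈ W, a * b * a⁻¹ * b⁻¹ ∈ F) :
    ∃ (M : Type u) (_ : CommGroup M) (_ : Finite M) (ρ : P →* MulAut M) (π : W →* M), Sec P W F ρ π := by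
  obtain ⟨N, hN⟩ : ∃ N : Subgroup W, N = F.subgroupOf W := ⟨_, rfl⟩
  have hNn : N.Normal := by rw [hN]; exact normal_subgroupOf_of_le_normalizer hWF
  have hm : ∀ w : W, w ∈ N ↔ (w : G) ∈ F := fun w => by rw [hN]; rfl
  let iC : CommGroup (W ⧸ N) := { (inferInstance : Group (W ⧸ N)) with
    mul_comm := by
      intro a b
      obtain ⟨a, rfl⟩ := QuotientGroup.mk_surjective a
      obtain ⟨b, rfl⟩ := QuotientGroup.mk_surjective b
      show ((a * b : W) : W ⧸ N) = ((b * a : W) : W ⧸ N)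
      rw [QuotientGroup.eq, hm]
      have h1 := hab (b : G)⁻¹ (inv_mem b.2) (a : G)⁻¹ (inv_mem a.2)
      rw [inv_inv, inv_inv] at h1
      show ((a * b : G))⁻¹ * (b * a) ∈ F
      have e : ((a * b : G))⁻¹ * (b * a) = (b : G)⁻¹ * (a : G)⁻¹ * b * a := by group
      rw [e]
      exact h1 }
  have hmap : ∀ (p : G) (hp : p ∈ P), N.map (cw W p (hPW hp)).toMonoidHom = N := by
    have h1 : ∀ (p : G) (hp : p ∈ P), N.map (cw W p (hPW hp)).toMonoidHom ≤ N := by
      rintro p hp _ ⟨w, hw, rfl⟩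
      rw [SetLike.mem_coe, hm] at hw
      rw [hm]
      exact (mem_normalizer_iff.1 (hPF hp) _).1 hw
    intro p hp
    refine le_antisymm (h1 p hp) fun w hw => ?_
    refine ⟨(cw W p (hPW hp)).symm w, ?_, (cw W p (hPW hp)).apply_symm_apply w⟩
    rw [SetLike.mem_coe, hm]
    show p⁻¹ * w * p ∈ F
    have h2 := (mem_normalizer_iff.1 (hPF (inv_mem hp)) (w : G)).1 ((hm w).1 hw)
    rwa [inv_inv] at h2
  let φ : P →* MulAut (W ⧸ N) :=
    { toFun := fun p => QuotientGroup.congr N N (cw W p (hPW p.2)) (hmap p p.2)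
      map_one' := by
        ext x
        obtain ⟨w, rfl⟩ := QuotientGroup.mk_surjective x
        show ((cw W (1 : G) _ w : W) : W ⧸ N) = (w : W ⧸ N)
        congr 1
        apply Subtype.ext
        rw [cw_coe]
        simp
      map_mul' := fun p q => by
        ext x
        obtain ⟨w, rfl⟩ := QuotientGroup.mk_surjective x
        show ((cw W ((p : G) * q) _ w : W) : W ⧸ N) = ((cw W (p : G) _ (cw W (q : G) _ w) : W) : W ⧸ N)
        congr 1
        apply Subtype.ext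
        rw [cw_coe, cw_coe, cw_coe]
        group }
  refine ⟨W ⧸ N, iC, inferInstance, φ, QuotientGroup.mk' N, QuotientGroup.mk'_surjective N, fun w => ?_,
    fun p w hw => rfl⟩
  rw [← hm]
  exact QuotientGroup.eq_one_iff w

/-! ### `RΦ(Q)` -/

variable [Finite G] {S : Sylow 2 G} {R T P : Subgroup G}

/-- `Φ(Q)` -/
def ph (Q : Subgroup G) : Subgroup G := (frattini Q).map Q.subtype

theorem ph_le (Q : Subgroup G) : ph Q ≤ Q := map_subtype_le _

theorem normalizer_le_ph (Q : Subgroup G) : normalizer (Q : Set G) ≤ normalizer (ph Q : Set G) := by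
  refine Block.le_normalizer_of_forall ?_
  rintro g hg _ ⟨x, hx, rfl⟩
  have h1 : (frattini Q).Characteristic := frattini_characteristic
  have h2 := characteristic_iff_map_eq.1 h1 (cw Q g hg)
  refine ⟨cw Q g hg x, ?_, rfl⟩
  have h3 : (cw Q g hg) x ∈ (frattini Q).map (cw Q g hg).toMonoidHom := ⟨x, hx, rfl⟩
  rw [h2] at h3
  exact h3

theorem le_normalizer_sup {X A B : Subgroup G} (hA : X ≤ normalizer (A : Set G)) (hB : X ≤ normalizer (B : Set G)) :
    X ≤ normalizer ((A ⊔ B : Subgroup G) : Set G) := by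
  intro x hx
  rw [mem_normalizer_iff_cj]
  have h1 := mem_normalizer_iff_cj.1 (hA hx)
  have h2 := mem_normalizer_iff_cj.1 (hB hx)
  calc cj x (A ⊔ B) = cj x A ⊔ cj x B := Subgroup.map_sup _ _ _
    _ = A ⊔ B := by rw [h1, h2]

/-- `RΦ(Q)` -/
def ff (R P : Subgroup G) : Subgroup G := R ⊔ ph (o2 P)

theorem le_normalizer_ff (p : Par S R T P) : P ≤ normalizer (ff R P : Set G) :=
  le_normalizer_sup (p.leX.trans (centralizer_le_normalizer _)) ((Block.le_normalizer_o2 P).trans (normalizer_le_ph _))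

theorem exists_secQ (p : Par S R T P) : ∃ (M : Type u) (_ : CommGroup M) (_ : Finite M) (ρ : P →* MulAut M)
    (π : o2 P →* M), Sec P (o2 P) (ff R P) ρ π := by
  have hf : Fact (Nat.Prime 2) := ⟨Nat.prime_two⟩
  refine exists_sec (Block.le_normalizer_o2 P) (le_normalizer_ff p) ((ChoiceSit.o2_le P).trans (le_normalizer_ff p)) ?_
  intro a ha b hb
  apply Subgroup.mem_sup_right
  exact ⟨_, Lib.FrattiniPGroup.commutator_mem_frattini (Block.o2_isPGroup P) ⟨a, ha⟩ ⟨b, hb⟩, rfl⟩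

namespace Sec

section

variable {M : Type u} [CommGroup M] {W F : Subgroup G} {ρ : P →* MulAut M} {π : W →* M}

theorem fix_iff (s : Sec P W F ρ π) (hPW : P ≤ normalizer (W : Set G)) (x : P) (w : W) :
    ρ x (π w) = π w ↔ (x : G) * w * (x : G)⁻¹ * (w : G)⁻¹ ∈ F := by
  have hm : (x : G) * w * (x : G)⁻¹ ∈ W := (mem_normalizer_iff.1 (hPW x.2) w).1 w.2
  rw [s.act x w hm, ← mul_inv_eq_one, ← map_inv, ← map_mul, s.one]
  rfl

end

variable {M : Type u} [CommGroup M] {ρ : P →* MulAut M} {π : o2 P →* M}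

theorem sq (s : Sec P (o2 P) (ff R P) ρ π) (m : M) : m * m = 1 := by
  have hf : Fact (Nat.Prime 2) := ⟨Nat.prime_two⟩
  obtain ⟨w, rfl⟩ := s.surj m
  rw [← map_mul, s.one]
  apply Subgroup.mem_sup_right
  have h1 := Lib.FrattiniPGroup.pow_mem_frattini (Block.o2_isPGroup P) w
  rw [pow_two] at h1
  exact ⟨_, h1, rfl⟩

/-- elements of odd prime order act nontrivially on `Q/RΦ(Q)` -/
theorem moves (p : Par S R T P) (s : Sec P (o2 P) (ff R P) ρ π) {r : ℕ} (hr : r.Prime) (hr2 : r ≠ 2) {y : P}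
    (hy : orderOf y = r) : ∃ m, ρ y m ≠ m := by
  have hf : Fact (Nat.Prime 2) := ⟨Nat.prime_two⟩
  have hfr : Fact r.Prime := ⟨hr⟩
  by_contra hcon
  push Not at hcon
  have hρ : ρ y = 1 := by
    ext m
    exact hcon m
  have hPQ := Block.le_normalizer_o2 P
  have hyo : orderOf (y : G) = r := by rw [Subgroup.orderOf_coe, hy]
  have hcomm : ⁅o2 P, zpowers (y : G)⁆ ≤ ff R P := by
    rw [commutator_le]
    rintro x hx _ ⟨n, rfl⟩
    have h1 : ρ (y ^ n) (π ⟨x, hx⟩) = π ⟨x, hx⟩ := by rw [map_zpow, hρ, one_zpow]; rfl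
    rw [s.fix_iff hPQ] at h1
    have h2 := inv_mem h1
    rw [commutatorElement_def]
    have e : x * (y : G) ^ n * x⁻¹ * ((y : G) ^ n)⁻¹ = (((y ^ n : P) : G) * x * ((y ^ n : P) : G)⁻¹ * x⁻¹)⁻¹ := by
      rw [Subgroup.coe_zpow]; group
    show x * (y : G) ^ n * x⁻¹ * ((y : G) ^ n)⁻¹ ∈ ff R P
    rw [e]
    exact h2
  have hRy : R ≤ centralizer (zpowers (y : G) : Set G) := by
    intro x hx
    rw [mem_centralizer_iff]
    rintro _ ⟨n, rfl⟩
    have h1 : Commute (y : G) x := p.comm y.2 hx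
    exact (h1.zpow_left n).eq
  obtain ⟨C, hC⟩ : ∃ C : Subgroup (o2 P), C = (centralizer (zpowers (y : G) : Set G)).subgroupOf (o2 P) := ⟨_, rfl⟩
  have hff : ff R P ≤ (C ⊔ frattini (o2 P)).map (o2 P).subtype := by
    refine sup_le ?_ (map_mono le_sup_right)
    intro x hx
    exact ⟨⟨x, p.R_le_o2 hx⟩, Subgroup.mem_sup_left (by rw [hC]; exact hRy hx), rfl⟩
  have htop : C ⊔ frattini (o2 P) = ⊤ := by
    rw [eq_top_iff]
    rintro ⟨k, hk⟩ -
    obtain ⟨m, hm, c, hcc, hkmc⟩ :=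
      Cfsg.Agent.Lib.CoprimeCommutator.exists_commutator_mul_fixed_of_isPGroup r
        (zpowers (y : G)) (o2 P) (IsPGroup.of_card (n := 1) (by rw [Nat.card_zpowers, hyo, pow_one]))
        (zpowers_le.2 (hPQ y.2)) (by
          obtain ⟨n, hn⟩ := (IsPGroup.iff_card (p := 2)).1 (Block.o2_isPGroup P)
          rw [hn]
          intro h
          exact hr2 ((Nat.prime_dvd_prime_iff_eq hr Nat.prime_two).1 (hr.dvd_of_dvd_pow h))) k hk
    obtain ⟨m', hm', rfl⟩ := hff (hcomm hm)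
    have hkeq : (⟨k, hk⟩ : o2 P) = m' * ⟨c, hcc.1⟩ := Subtype.ext hkmc
    rw [hkeq]
    exact mul_mem hm' (Subgroup.mem_sup_left (by rw [hC]; exact hcc.2))
  have htop2 := frattini_nongenerating htop
  rw [hC, subgroupOf_eq_top] at htop2
  have h1 : (y : G) ∈ o2 P := by
    apply p.cent
    refine ⟨y.2, ?_⟩
    exact (le_centralizer_iff.1 htop2) (mem_zpowers _)
  obtain ⟨n, hn⟩ := Block.o2_isPGroup P ⟨y, h1⟩
  have h2 : (y : G) ^ 2 ^ n = 1 := congrArg Subtype.val hn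
  have h3 := orderOf_dvd_of_pow_eq_one h2
  rw [hyo] at h3
  exact hr2 ((Nat.prime_dvd_prime_iff_eq hr Nat.prime_two).1 (hr.dvd_of_dvd_pow h3))

/-- `|M : C_M(v)| ≤ |D : R|` for `v ∈ V` -/
theorem index_le (p : Par S R T P) [Finite M] (s : Sec P (o2 P) (ff R P) ρ π) {v : P}
    (hv : (v : G) ∈ vv (S : Subgroup G)) : (fx ρ v).index ≤ R.relIndex (dd (S : Subgroup G) P) := by
  rw [← card_range_cm]
  have hPQ := Block.le_normalizer_o2 P
  have h1 : (cm ρ v).range ≤ ((dd (S : Subgroup G) P).subgroupOf (o2 P)).map π := by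
    rintro _ ⟨m, rfl⟩
    obtain ⟨x, rfl⟩ := s.surj m
    have hm : (v : G) * x * (v : G)⁻¹ ∈ o2 P := (mem_normalizer_iff.1 (hPQ v.2) x).1 x.2
    refine ⟨⟨(v : G) * x * (v : G)⁻¹, hm⟩ * x⁻¹, ?_, ?_⟩
    · have h2 := inv_mem (p.comm_mem_dd hv x.2)
      rw [SetLike.mem_coe, mem_subgroupOf]
      show (v : G) * x * (v : G)⁻¹ * (x : G)⁻¹ ∈ dd (S : Subgroup G) P
      have e : (v : G) * x * (v : G)⁻¹ * (x : G)⁻¹ = ((x : G) * v * (x : G)⁻¹ * (v : G)⁻¹)⁻¹ := by group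
      rw [e]; exact h2
    · rw [cm_apply, map_mul, map_inv, s.act v x hm]
  have h2 : Nat.card (cm ρ v).range ≤ Nat.card (((dd (S : Subgroup G) P).subgroupOf (o2 P)).map π) :=
    Nat.card_le_card_of_injective _ (inclusion_injective h1)
  refine h2.trans ?_
  rw [← relIndex_ker]
  have h3 : R.subgroupOf (o2 P) ≤ π.ker := by
    intro x hx
    rw [MonoidHom.mem_ker, s.one]
    exact Subgroup.mem_sup_left hx
  have h4 : (R.subgroupOf (o2 P)).relIndex ((dd (S : Subgroup G) P).subgroupOf (o2 P)) =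
      R.relIndex (dd (S : Subgroup G) P) := relIndex_subgroupOf inf_le_right
  rw [← h4]
  exact Nat.le_of_dvd (Nat.pos_of_ne_zero index_ne_zero_of_finite) (relIndex_dvd_of_le_left _ h3)

end Sec

/-! ### Lifting -/

/-- lift an element of odd prime order inverted by the image of an involution -/
theorem exists_lift {X H : Type*} [Group X] [Finite X] [Group H] (φ : X →* H) (hφ : Function.Surjective φ)
    (hker : ∀ x, φ x = 1 → ∃ n : ℕ, x ^ 2 ^ n = 1) {v : X} (hv : v * v = 1) {y : H} {r : ℕ} (hr : r.Prime)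
    (hr2 : r ≠ 2) (hy : orderOf y = r) (hi : φ v * y * (φ v)⁻¹ = y⁻¹) : ∃ z : X, orderOf z = r ∧ v * z * v⁻¹ = z⁻¹ := by
  have hodd : Odd r := hr.odd_of_ne_two hr2
  obtain ⟨j, hj⟩ := hodd
  -- `y = (y^(j+1))^2`
  have hyr : y ^ r = 1 := by rw [← hy, pow_orderOf_eq_one]
  have hvi : v⁻¹ = v := inv_eq_of_mul_eq_one_left hv
  obtain ⟨x, hx⟩ := hφ (y ^ (j + 1))
  obtain ⟨u, hu⟩ : ∃ u, u = v * (x⁻¹ * v * x) := ⟨_, rfl⟩
  have hφv : φ v * φ v = 1 := by rw [← map_mul, hv, map_one]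
  have hφvi : (φ v)⁻¹ = φ v := inv_eq_of_mul_eq_one_left hφv
  have hinv : ∀ n : ℕ, φ v * y ^ n * (φ v)⁻¹ = (y⁻¹) ^ n := fun n => by rw [← hi, conj_pow]
  have hφu : φ u = y := by
    rw [hu, map_mul, map_mul, map_mul, map_inv, hx]
    have e1 : φ v * ((y ^ (j + 1))⁻¹ * φ v * y ^ (j + 1)) = (φ v * (y ^ (j + 1)) * (φ v)⁻¹)⁻¹ * (y ^ (j + 1)) := by
      have : φ v * ((y ^ (j + 1))⁻¹ * φ v * y ^ (j + 1)) = φ v * (y ^ (j + 1))⁻¹ * φ v * y ^ (j + 1) := by group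
      rw [this]
      congr 1
      rw [_root_.mul_inv_rev, _root_.mul_inv_rev, inv_inv, hφvi, mul_assoc]
    rw [e1, hinv, inv_pow, inv_inv, ← pow_add]
    have : j + 1 + (j + 1) = r + 1 := by omega
    rw [this, pow_succ, hyr, one_mul]
  have hiu : v * u * v⁻¹ = u⁻¹ := by
    rw [hu, _root_.mul_inv_rev, _root_.mul_inv_rev, _root_.mul_inv_rev, inv_inv, hvi]
    calc v * (v * (x⁻¹ * v * x)) * v = (v * v) * (x⁻¹ * v * x) * v := by group
      _ = x⁻¹ * (v * x) * v := by rw [hv]; group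
  obtain ⟨n, hn⟩ := hker (u ^ r) (by rw [map_pow, hφu, hyr])
  refine ⟨u ^ 2 ^ n, ?_, ?_⟩
  · have h1 : (u ^ 2 ^ n) ^ r = 1 := by rw [← pow_mul, mul_comm, pow_mul, hn]
    have h2 : u ^ 2 ^ n ≠ 1 := by
      intro h3
      have h4 : y ^ 2 ^ n = 1 := by rw [← hφu, ← map_pow, h3, map_one]
      have h5 := orderOf_dvd_of_pow_eq_one h4
      rw [hy] at h5
      exact hr2 ((Nat.prime_dvd_prime_iff_eq hr Nat.prime_two).1 (hr.dvd_of_dvd_pow h5))
    have : Fact r.Prime := ⟨hr⟩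
    exact orderOf_eq_prime h1 h2
  · rw [← conj_pow, hiu, inv_pow]

/-! ### The bound -/

theorem sz_le {H : Type u} [Group H] [Finite H] {φ : P →* H} {TH : Sylow 2 H} {A K : Subgroup H}
    (q : Quot S R T P φ TH A) (hAK : A ≤ K) (hsz : Cfsg.Lie.IsoSuzuki K) :
    ∃ f : ℕ, 3 ≤ f ∧ Odd f ∧ Nat.card K = (2 ^ f) ^ 2 * (2 ^ f - 1) * ((2 ^ f) ^ 2 + 1) ∧
      (dd (S : Subgroup G) P).relIndex (vv (S : Subgroup G)) ≤ 2 ^ f ∧
      2 ^ (2 * f) ≤ R.relIndex (dd (S : Subgroup G) P) := by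
  have p := q.par
  obtain ⟨f, h3, hodd, hcard, hA, hinv⟩ := ClaimC.Sz.sz hsz
  refine ⟨f, h3, hodd, hcard, ?_, ?_⟩
  · rw [← q.card]
    have h1 := hA (A.subgroupOf K) (fun a ha => Subtype.ext (q.sq _ ha))
    rwa [Nat.card_congr (subgroupOfEquivOfLe hAK).toEquiv] at h1
  obtain ⟨v, hv, hvQ⟩ := p.exists_notMem
  have hvP := p.vv_le hv
  have hvv : v * v = 1 := vv_mul_self hv
  obtain ⟨a, ha⟩ : ∃ a, a = φ ⟨v, hvP⟩ := ⟨_, rfl⟩
  have haA : a ∈ A := ha ▸ q.mem_A hv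
  have ha1 : a ≠ 1 := by
    intro h1
    rw [ha, q.ker] at h1
    exact hvQ h1
  obtain ⟨r, y, hr, hr2, hy, hi, hd⟩ := hinv ⟨a, hAK haA⟩ (Subtype.ext (q.sq a haA))
    (fun h1 => ha1 (congrArg Subtype.val h1))
  obtain ⟨z, hz, hzi⟩ := exists_lift φ q.surj (fun x hx => by
      obtain ⟨n, hn⟩ := Block.o2_isPGroup P ⟨x, (q.ker x).1 hx⟩
      have h6 := congrArg (fun z : o2 P => (z : G)) hn
      exact ⟨n, Subtype.ext (by simpa using h6)⟩) (v := ⟨v, hvP⟩) (Subtype.ext hvv) (y := (y : H)) hr hr2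
    (by rw [Subgroup.orderOf_coe, hy]) (by
      rw [← ha]
      exact congrArg Subtype.val hi)
  obtain ⟨M, _, _, ρ, π, s⟩ := exists_secQ p
  have h5 := FFBasic.le_index (V := M) (ρ := ρ) s.sq (k := 2 * f) hr hr2 hz (s.moves p hr hr2 hz) hzi (by
    intro d hd0 hrd
    have := hd d hd0 hrd
    omega)
  exact h5.trans (s.index_le p hv)

end Cfsg.Agent.OddCyclic.EmpKillFive

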