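import Mathlib
import Cfsg.Agent.OddCyclic.EmpKill.Defs
import Cfsg.Agent.OddCyclic.EmpKillFiveSl
import Cfsg.Agent.OddCyclic.EmpKillFiveSz

/-!
# (Empty), kills: Suzuki groups and `SL₂(q)`

* `suz` : a Suzuki component is impossible;
* `sl_le` : `K ≅ SL₂(q)`, `A ≤ K` is impossible;
* `sl_out` : `K ≅ SL₂(q)`: there is a solvable `Y ≤ P` with `Par S R T Y` and a 3-element in `Y ⊓ N_G(V)`.
-/

set_option autoImplicit false
set_option linter.unusedSectionVars false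

namespace Cfsg.Agent.OddCyclic.EmpKillFive

open Subgroup Cfsg Cfsg.Agent.ZN Cfsg.Agent.ZN.ChoiceBase Cfsg.Agent.ZN.ChoiceSit
open Cfsg.Agent.MinSimple Cfsg.Agent.MinSimple.EmptyTI Cfsg.Agent.MinSimple.EmptySix
open Cfsg.Agent.MinSimple.EmptyE.Closed (LL CC vv_comm vv_sq vv_mul_self vv_inv
  isPGroup_vv vv_le_jj vv_le jj_le_centralizer_vv conj_mem_vv cj_vv)
open Cfsg.Agent.OddCyclic.EmpFrame Cfsg.Agent.OddCyclic.EmpA
open Cfsg.Agent.OddCyclic.EmpKill (Out Fr dd_anti)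

universe u

/-- in `SL₂(q)`, `q` even, an element commuting with an involution is an involution -/
theorem sl_sq {F : Type*} [Field F] [CharP F 2] {s x : Matrix.SpecialLinearGroup (Fin 2) F} (hs : s * s = 1)
    (hs1 : s ≠ 1) (h : s * x = x * s) : x * x = 1 := by
  have e00 := congrArg (fun y : Matrix.SpecialLinearGroup (Fin 2) F => y 0 0) h
  have e01 := congrArg (fun y : Matrix.SpecialLinearGroup (Fin 2) F => y 0 1) h
  have e10 := congrArg (fun y : Matrix.SpecialLinearGroup (Fin 2) F => y 1 0) h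
  have f00 := congrArg (fun y : Matrix.SpecialLinearGroup (Fin 2) F => y 0 0) hs
  have f11 := congrArg (fun y : Matrix.SpecialLinearGroup (Fin 2) F => y 1 1) hs
  simp only [T1Sl2.mul00, T1Sl2.mul01, T1Sl2.mul10, T1Sl2.mul11, T1Sl2.one00, T1Sl2.one11] at e00 e01 e10 f00 f11
  have ds := T1Sl2.det s
  have dx := T1Sl2.det x
  have h2 : (2 : F) = 0 := CharTwo.two_eq_zero
  have hs0 : s 0 0 = s 1 1 := by
    have h3 : (s 0 0 - s 1 1) * (s 0 0 - s 1 1) = 0 := by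
      linear_combination f00 + f11 - 2 * ds - 2 * (s 0 1 * s 1 0) * h2
    exact sub_eq_zero.1 (mul_self_eq_zero.1 h3)
  have hx0 : x 0 0 = x 1 1 := by
    by_contra hne
    have hne' : x 1 1 - x 0 0 ≠ 0 := sub_ne_zero.2 (Ne.symm hne)
    have hb : s 0 1 = 0 := by
      have h3 : s 0 1 * (x 1 1 - x 0 0) = 0 := by
        rw [hs0] at e01
        linear_combination e01
      exact (mul_eq_zero.1 h3).resolve_right hne'
    have hc : s 1 0 = 0 := by
      have h3 : s 1 0 * (x 1 1 - x 0 0) = 0 := by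
        rw [hs0] at e10
        linear_combination -e10
      exact (mul_eq_zero.1 h3).resolve_right hne'
    apply hs1
    have ha : s 0 0 = 1 := by
      rw [← hs0, hb, hc] at ds
      have h3 : (s 0 0 - 1) * (s 0 0 - 1) = 0 := by
        linear_combination ds - (s 0 0 - 1) * h2
      exact sub_eq_zero.1 (mul_self_eq_zero.1 h3)
    exact T1Sl2.ext2 (by rw [ha, T1Sl2.one00]) (by rw [hb, T1Sl2.one01]) (by rw [hc, T1Sl2.one10])
      (by rw [← hs0, ha, T1Sl2.one11])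
  rw [← hx0] at dx
  apply T1Sl2.ext2
  · rw [T1Sl2.mul00, T1Sl2.one00]
    linear_combination dx + (x 0 1 * x 1 0) * h2
  · rw [T1Sl2.mul01, T1Sl2.one01, ← hx0]
    linear_combination (x 0 1 * x 0 0) * h2
  · rw [T1Sl2.mul10, T1Sl2.one10, ← hx0]
    linear_combination (x 1 0 * x 0 0) * h2
  · rw [T1Sl2.mul11, T1Sl2.one11, ← hx0]
    linear_combination dx + (x 0 1 * x 1 0) * h2

variable {G : Type u} [Group G] [Finite G] {S : Sylow 2 G} {R T N P : Subgroup G}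
  {H : Type u} [Group H] [Finite H] {π : P →* H} {TH : Sylow 2 H} {A K : Subgroup H} {d : ℕ}

theorem center_eq_bot (f : Fr S R T N P π TH A K d) : center K = ⊥ := by
  have := f.simp
  have hn : (center K).Normal := inferInstance
  rcases f.simp.eq_bot_or_eq_top_of_normal _ hn with h | h
  · exact h
  · exfalso
    obtain ⟨x, y, hxy⟩ := f.nab
    apply hxy
    have h1 : y ∈ center K := by rw [h]; exact mem_top _
    exact mem_center_iff.1 h1 x

theorem suz (f : Fr S R T N P π TH A K d) (hs : Cfsg.Lie.IsoSuzuki K) : False := by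
  have hf2 : Fact (Nat.Prime 2) := ⟨Nat.prime_two⟩
  have q := f.quot
  have hKt : K = ⊤ := T1MinParAbs.eq_top_of_suzuki q.core TH.isPGroup' f.norm (center_eq_bot f) hs f.top
  have hAK : A ≤ K := by rw [hKt]; exact le_top
  obtain ⟨n, hn3, -, hcard, h1, h2⟩ := sz_le q hAK hs
  have hTI : ∀ P Q : Sylow 2 K, ∀ x : K, x ∈ P → x ∈ Q → x ≠ 1 → P = Q :=
    fun P Q x hP hQ hx => FFSz.sylow_ti hs hP hQ hx
  obtain ⟨l, hl⟩ := exists_wit_ti f.norm f.simp q.core hTI q.le q.ne hAK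
  obtain ⟨k, w⟩ := q.wit hl
  rw [f.out.idx q.par w] at h1
  rw [f.out.quo q.par w] at h2
  have hdn : d = n := by
    have h3 : d ≤ n := (Nat.pow_le_pow_iff_right (by norm_num)).1 h1
    have h4 : 2 * n ≤ d * 2 := by
      rw [← pow_mul] at h2
      exact (Nat.pow_le_pow_iff_right (by norm_num)).1 h2
    omega
  subst hdn
  have h8 : 8 ≤ 2 ^ d := by
    calc 8 = 2 ^ 3 := by norm_num
      _ ≤ 2 ^ d := Nat.pow_le_pow_right (by norm_num) hn3
  obtain ⟨l, hl, hld⟩ := Nat.exists_prime_and_dvd (n := 2 ^ d - 1) (by omega)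
  refine f.noprim l hl hld ?_
  rw [hcard]
  exact Dvd.dvd.mul_right (Dvd.dvd.mul_left hld _) _

/-- `3` divides `|SL₂(q)|` -/
theorem three_dvd {F : Type*} [Field F] [Fintype F] [CharP F 2] (e : K ≃* Matrix.SpecialLinearGroup (Fin 2) F) :
    3 ∣ Nat.card K := by
  rw [Nat.card_congr e.toEquiv, T1Sl2.card_sl2']
  obtain ⟨n, hn, hF⟩ := T1Sl2.card_pow F
  obtain ⟨m, hm⟩ : ∃ m, Fintype.card F = m + 1 := ⟨Fintype.card F - 1, by
    have : 0 < Fintype.card F := Fintype.card_pos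
    omega⟩
  have h3 : ¬ 3 ∣ Fintype.card F := by
    rw [hF]
    intro h
    exact absurd (Nat.prime_three.dvd_of_dvd_pow h) (by norm_num)
  rw [hm] at h3 ⊢
  rw [Nat.add_sub_cancel]
  rcases (by omega : m % 3 = 0 ∨ m % 3 = 1) with h | h
  · exact Dvd.dvd.mul_left (Nat.dvd_of_mod_eq_zero h) _
  · exact Dvd.dvd.mul_right (Dvd.dvd.mul_right (Nat.dvd_of_mod_eq_zero (by omega)) _) _

/-- the case `A ≤ K` -/
theorem sl_le (f : Fr S R T N P π TH A K d) {F : Type*} [Field F] [Fintype F] [CharP F 2]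
    (e : K ≃* Matrix.SpecialLinearGroup (Fin 2) F) (hAK : A ≤ K) : False := by
  have hf2 : Fact (Nat.Prime 2) := ⟨Nat.prime_two⟩
  have q := f.quot
  have p := q.par
  obtain ⟨l, hl⟩ := exists_wit_ti f.norm f.simp q.core (ti_sl e) q.le q.ne hAK
  obtain ⟨k, w⟩ := q.wit hl
  obtain ⟨g, hgN, hgV, hg1, ⟨n, hn⟩, P', hP', k', p', w', hgD, -⟩ := f.three (three_dvd e)
  have hD : dd (S : Subgroup G) P = dd (S : Subgroup G) P' := by
    have h1 := dd_anti p p' hP'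
    have h2 := f.out.idx p w
    have h3 := f.out.idx p' w'
    have h4 : (dd (S : Subgroup G) P).relIndex (dd (S : Subgroup G) P') *
        (dd (S : Subgroup G) P').relIndex (vv (S : Subgroup G)) = (dd (S : Subgroup G) P).relIndex (vv (S : Subgroup G)) :=
      relIndex_mul_relIndex _ _ _ h1 inf_le_left
    rw [h2, h3] at h4
    have h5 : (dd (S : Subgroup G) P).relIndex (dd (S : Subgroup G) P') = 1 :=
      Nat.eq_of_mul_eq_mul_right (pow_pos Nat.zero_lt_two d) (by rw [h4, one_mul])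
    exact le_antisymm h1 (relIndex_eq_one.1 h5)
  have hNP : N ≤ P := by rw [f.P_eq]; exact le_sup_left
  -- `π g` centralises `A`
  obtain ⟨x, hx⟩ : ∃ x, x = π ⟨g, hNP hgN⟩ := ⟨_, rfl⟩
  have hxK : x ∈ K := by
    rw [f.K_eq, hx]
    exact ⟨_, mem_subgroupOf.2 hgN, rfl⟩
  have hxA : ∀ a ∈ A, x * a = a * x := by
    intro a ha
    obtain ⟨v, hv, rfl⟩ := q.exists_of_mem ha
    have h1 := hgD v hv
    rw [← hD] at h1
    have h2 : π (⟨g, hNP hgN⟩ * ⟨v, p.vv_le hv⟩ * (⟨g, hNP hgN⟩ : P)⁻¹ * (⟨v, p.vv_le hv⟩ : P)⁻¹) = 1 := by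
      rw [q.ker]
      exact h1.2
    rw [map_mul, map_mul, map_mul, map_inv, map_inv, ← hx] at h2
    rw [mul_inv_eq_one, mul_inv_eq_iff_eq_mul] at h2
    exact h2
  obtain ⟨a, haA, ha1⟩ := (A.bot_or_exists_ne_one).resolve_left q.ne
  -- `x` is an involution
  have hxx : x * x = 1 := by
    obtain ⟨s, hs⟩ : ∃ s, s = e ⟨a, hAK haA⟩ := ⟨_, rfl⟩
    obtain ⟨y, hy⟩ : ∃ y, y = e ⟨x, hxK⟩ := ⟨_, rfl⟩
    have h1 : s * s = 1 := by
      rw [hs, ← map_mul, ← map_one e]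
      congr 1
      exact Subtype.ext (q.sq a haA)
    have h2 : s ≠ 1 := by
      rw [hs, Ne, map_eq_one_iff e e.injective]
      exact fun h => ha1 (congrArg Subtype.val h)
    have h3 : s * y = y * s := by
      rw [hs, hy, ← map_mul, ← map_mul]
      congr 1
      exact Subtype.ext (hxA a haA).symm
    have h4 := sl_sq h1 h2 h3
    rw [hy, ← map_mul, map_eq_one_iff e e.injective] at h4
    exact congrArg Subtype.val h4
  have hx1 : x = 1 := by
    have h1 : x ^ 3 ^ n = 1 := by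
      rw [hx, ← map_pow]
      have h2 : (⟨g, hNP hgN⟩ : P) ^ 3 ^ n = 1 := Subtype.ext hn
      rw [h2, map_one]
    have h2 : x ^ 2 = 1 := by rw [pow_two, hxx]
    have h3 : orderOf x ∣ 3 ^ n := orderOf_dvd_of_pow_eq_one h1
    have h4 : orderOf x ∣ 2 := orderOf_dvd_of_pow_eq_one h2
    exact orderOf_eq_one_iff.1 (Nat.eq_one_of_dvd_coprimes
      (Nat.Coprime.pow_left n (by norm_num : Nat.Coprime 3 2)) h3 h4)
  rw [hx, q.ker] at hx1
  obtain ⟨m, hm⟩ := Block.o2_isPGroup P ⟨g, hx1⟩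
  have hm' : g ^ 2 ^ m = 1 := congrArg Subtype.val hm
  apply hg1
  have h3 : orderOf g ∣ 3 ^ n := orderOf_dvd_of_pow_eq_one hn
  have h4 : orderOf g ∣ 2 ^ m := orderOf_dvd_of_pow_eq_one hm'
  exact orderOf_eq_one_iff.1 (Nat.eq_one_of_dvd_coprimes
    (Nat.Coprime.pow n m (by norm_num : Nat.Coprime 3 2)) h3 h4)

/-- `K ≅ SL₂(q)` -/
theorem sl_out (f : Fr S R T N P π TH A K d) {F : Type*} [Field F] [Fintype F] [CharP F 2]
    (e : K ≃* Matrix.SpecialLinearGroup (Fin 2) F) : ∃ Y ≤ P, Par S R T Y ∧ Group.IsSolvable Y ∧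
      ∃ g ∈ Y, g ∈ N ∧ g ∈ normalizer (vv (S : Subgroup G) : Set G) ∧ g ≠ 1 ∧ (∃ n : ℕ, g ^ 3 ^ n = 1) ∧
        ∃ P' ≤ P, ∃ k : G, Par S R T P' ∧ Wit S P' k ∧
          (∀ v ∈ vv (S : Subgroup G), g * v * g⁻¹ * v⁻¹ ∈ dd (S : Subgroup G) P') ∧
          ∀ v ∈ dd (S : Subgroup G) P', g * v * g⁻¹ * v⁻¹ ∈ R → v ∈ R := by
  have hf2 : Fact (Nat.Prime 2) := ⟨Nat.prime_two⟩
  have q := f.quot
  have hKn := f.norm
  have hTN : (TH : Subgroup H) ≤ normalizer (((TH : Subgroup H) ⊓ K : Subgroup H) : Set H) := by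
    refine Block.le_normalizer_of_forall fun l hl m hm => ?_
    exact Subgroup.mem_inf.2 ⟨mul_mem (mul_mem hl hm.1) (inv_mem hl), hKn.conj_mem m hm.2 l⟩
  obtain ⟨Y, hYP, pY, hY, hYs⟩ := exists_par q hTN (fun h => sl_le f e (le_of_le_o2 q.le f.cent e.symm h))
  obtain ⟨g, hgN, hgV, hg1, hg3, h⟩ := f.three (three_dvd e)
  have hNP : N ≤ P := by rw [f.P_eq]; exact le_sup_left
  refine ⟨Y, hYP, pY, hYs (isSolvable_normalizer e.symm f.top), g, ?_, hgN, hgV, hg1, hg3, h⟩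
  rw [hY g (hNP hgN)]
  refine mem_normalizer_inf q.le f.norm (ti_sl e) (inf_ne_bot q.norm q.ne f.cent e.symm) ?_ ?_
  · rw [f.K_eq]
    exact ⟨_, mem_subgroupOf.2 hgN, rfl⟩
  · have h1 : ∀ (g : G) (hg : g ∈ P), g ∈ normalizer (vv (S : Subgroup G) : Set G) → ∀ a ∈ A,
        π ⟨g, hg⟩ * a * (π ⟨g, hg⟩)⁻¹ ∈ A := by
      intro g hg hgV a ha
      obtain ⟨v, hv, rfl⟩ := q.exists_of_mem ha
      have h2 := q.mem_A ((mem_normalizer_iff.1 hgV v).1 hv)
      have h3 : (⟨g * v * g⁻¹, q.par.vv_le ((mem_normalizer_iff.1 hgV v).1 hv)⟩ : P) =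
          ⟨g, hg⟩ * ⟨v, q.par.vv_le hv⟩ * (⟨g, hg⟩ : P)⁻¹ := rfl
      rw [h3, map_mul, map_mul, map_inv] at h2
      exact h2
    rw [mem_normalizer_iff]
    intro a
    refine ⟨h1 g _ hgV a, fun ha => ?_⟩
    have h2 := h1 g⁻¹ (inv_mem (hNP hgN)) (inv_mem hgV) _ ha
    have h3 : π ⟨g⁻¹, inv_mem (hNP hgN)⟩ = (π ⟨g, hNP hgN⟩)⁻¹ := by
      rw [← map_inv]; rfl
    rw [h3, inv_inv] at h2
    have e1 : (π ⟨g, hNP hgN⟩)⁻¹ * (π ⟨g, hNP hgN⟩ * a * (π ⟨g, hNP hgN⟩)⁻¹) * π ⟨g, hNP hgN⟩ = a := by group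
    rwa [e1] at h2

/-- a moved piece of order `r` in the solvable case -/
theorem exists_rm {Y : Subgroup G} (p : Par S R T Y) (hs : Group.IsSolvable Y) :
    ∃ (r : ℕ) (x : G), UniStruct.RM Y r x ∧ UniStruct.Moves Y (vv (S : Subgroup G)) (UniStruct.NP Y x) := by
  have hM : o2 Y ≠ ⊥ := by
    intro h0
    exact p.toConf.ne (le_bot_iff.1 (h0 ▸ p.R_le_o2))
  obtain ⟨N, hN, hm⟩ := UniStruct.exists_pc p.ens.hyp hM isPGroup_vv p.vv_le p.not
  rcases hN with hN | ⟨r, x, hx, rfl⟩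
  · exfalso
    apply hN.ne_bot
    have h1 : Group.IsSolvable N :=
      Group.isSolvable_of_isSolvable_injective (f := inclusion hN.le) (inclusion_injective hN.le)
    have h2 : N = ⊥ := by
      by_contra hne
      have hnt : Nontrivial N := (Subgroup.nontrivial_iff_ne_bot N).2 hne
      have h3 := Group.IsSolvable.commutator_lt_top_of_nontrivial (G := N)
      have h4 : commutator N = ⊤ := by
        apply Subgroup.map_injective N.subtype_injective
        rw [commutator_def, Subgroup.map_commutator, ← MonoidHom.range_eq_map, Subgroup.range_subtype, hN.perf]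
      exact h3.ne h4
    rw [h2]
    exact IsPGroup.of_bot
  · exact ⟨r, x, hx, hm⟩

/-- `K ≅ SL₂(q)`: input for the kill of the pieces of prime order -/
theorem sl_rm (f : Fr S R T N P π TH A K d) {F : Type*} [Field F] [Fintype F] [CharP F 2]
    (e : K ≃* Matrix.SpecialLinearGroup (Fin 2) F) : ∃ Y ≤ P, ∃ (r : ℕ) (x : G), Par S R T Y ∧
      UniStruct.RM Y r x ∧ UniStruct.Moves Y (vv (S : Subgroup G)) (UniStruct.NP Y x) ∧
      ∃ g ∈ Y, g ∈ N ∧ g ∈ normalizer (vv (S : Subgroup G) : Set G) ∧ g ≠ 1 ∧ (∃ n : ℕ, g ^ 3 ^ n = 1) ∧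
        ∃ P' ≤ P, ∃ k : G, Par S R T P' ∧ Wit S P' k ∧
          (∀ v ∈ vv (S : Subgroup G), g * v * g⁻¹ * v⁻¹ ∈ dd (S : Subgroup G) P') ∧
          ∀ v ∈ dd (S : Subgroup G) P', g * v * g⁻¹ * v⁻¹ ∈ R → v ∈ R := by
  obtain ⟨Y, hYP, pY, hs, h⟩ := sl_out f e
  obtain ⟨r, x, hx, hm⟩ := exists_rm pY hs
  exact ⟨Y, hYP, r, x, pY, hx, hm, h⟩

end Cfsg.Agent.OddCyclic.EmpKillFive
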