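import Mathlib
import Cfsg.Agent.OddCyclic.EmpKill.Defs
import Cfsg.Agent.OddCyclic.EmpKillFiveSz
import Cfsg.Agent.OddCyclic.FFJ1

/-!
# (Empty), kills: `J₁`

* `jone` : a component with the local structure of `J₁` is impossible.
-/

set_option autoImplicit false
set_option linter.unusedSectionVars false

namespace Cfsg.Agent.OddCyclic.EmpKillFive

open Subgroup Cfsg Cfsg.Agent.ZN Cfsg.Agent.ZN.ChoiceBase Cfsg.Agent.ZN.ChoiceSit
open Cfsg.Agent.MinSimple Cfsg.Agent.MinSimple.EmptyTI Cfsg.Agent.MinSimple.EmptySix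
open Cfsg.Agent.MinSimple.EmptyE.Closed (LL CC vv_comm vv_sq vv_mul_self vv_inv
  isPGroup_vv vv_le_jj vv_le jj_le_centralizer_vv conj_mem_vv cj_vv)
open Cfsg.Agent.OddCyclic.EmpFrame Cfsg.Agent.OddCyclic.EmpA
open Cfsg.Agent.OddCyclic.EmpKill (Out Fr dd_anti)
open Cfsg.Agent.OddCyclic.FFBasic (fx)
open Cfsg.Agent.SporRec.J1.Defs (Local)

universe u

variable {G : Type u} [Group G] [Finite G] {S : Sylow 2 G} {R T N P : Subgroup G}
  {H : Type u} [Group H] [Finite H] {π : P →* H} {TH : Sylow 2 H} {A K : Subgroup H} {d : ℕ}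

theorem jone (f : Fr S R T N P π TH A K d) (hJ : Local K) {k : K} (hk : orderOf k = 2) : False := by
  have hf2 : Fact (Nat.Prime 2) := ⟨Nat.prime_two⟩
  have q := f.quot
  have p := q.par
  have hKn := f.norm
  have hc : Nat.card K = 175560 := (JFacts.isJ1_of_local hJ hk).2
  -- `K = H`
  have hKt : ∀ a : H, a ∈ K := by
    intro a
    obtain ⟨g, hg⟩ := JInner.inner hJ k hk (MulAut.conjNormal a : MulAut K)
    refine EmpTypes.mem_of_inner f.cent g.2 fun l hl => ?_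
    have h1 := congrArg Subtype.val (hg ⟨l, hl⟩)
    rw [MulAut.conjNormal_apply] at h1
    exact h1
  -- `|A| ≤ 8`
  have hA8 : Nat.card A ≤ 8 := by
    have h2 : IsPGroup 2 A := TH.isPGroup'.to_le q.le
    obtain ⟨n, hn⟩ := IsPGroup.iff_card.1 h2
    have h3 : Nat.card A ∣ Nat.card K := Subgroup.card_dvd_of_le fun a _ => hKt a
    have h4 : n ≤ 3 := by
      by_contra hlt
      apply hJ.two
      refine Dvd.dvd.trans ?_ h3
      rw [hn]
      exact pow_dvd_pow 2 (show 4 ≤ n by omega)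
    rw [hn]
    exact Nat.pow_le_pow_right (by norm_num) h4
  -- `2^d ≤ 8`
  obtain ⟨g, -, -, -, -, P', hP', k', p', w', -⟩ := f.three (by rw [hc]; norm_num)
  have hDD := dd_anti p p' hP'
  have h1 := f.out.idx p' w'
  have h2 := f.out.quo p' w'
  have h3 : 2 ^ d ≤ 8 := by
    rw [← h1]
    refine le_trans ?_ hA8
    rw [q.card]
    exact relIndex_le_of_le_left hDD (show Subgroup.relIndex _ _ ≠ 0 from index_ne_zero_of_finite)
  have hd : d = 1 := by
    have h4 : d ≤ 3 := by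
      by_contra hcon
      have h5 : 2 ^ 4 ≤ 2 ^ d := Nat.pow_le_pow_right (by norm_num) (by omega)
      omega
    have h5 := f.out.pos
    have h6 : d ≠ 2 := by
      rintro rfl
      exact f.noprim 3 (by norm_num) (by norm_num) (by rw [hc]; norm_num)
    have h7 : d ≠ 3 := by
      rintro rfl
      exact f.noprim 7 (by norm_num) (by norm_num) (by rw [hc]; norm_num)
    omega
  rw [hd] at h2
  -- an involution inverts an element of order 11
  obtain ⟨v, hv, hvQ⟩ := p.exists_notMem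
  have hvP := p.vv_le hv
  have hvv : v * v = 1 := vv_mul_self hv
  obtain ⟨a, ha⟩ : ∃ a, a = π ⟨v, hvP⟩ := ⟨_, rfl⟩
  have haA : a ∈ A := ha ▸ q.mem_A hv
  have ha1 : a ≠ 1 := by
    intro h1
    rw [ha, q.ker] at h1
    exact hvQ h1
  obtain ⟨w, y, hy, hw, hw1, hwy⟩ := FFJ1.exists_real hJ hk
  have hao : orderOf (⟨a, hKt a⟩ : K) = 2 :=
    JInner.two_of_sq (Subtype.ext (q.sq a haA)) fun h1 => ha1 (congrArg Subtype.val h1)
  obtain ⟨g, hg⟩ := hJ.conj _ _ (JInner.two_of_sq hw hw1) hao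
  -- `a` inverts `y' = g y g⁻¹`
  obtain ⟨y', hy'⟩ : ∃ y' : K, y' = g * y * g⁻¹ := ⟨_, rfl⟩
  have hyo : orderOf y' = 11 := by
    rw [hy', ← hy]
    exact (MulAut.conj g).orderOf_eq y
  have hinv : (⟨a, hKt a⟩ : K) * y' * (⟨a, hKt a⟩ : K)⁻¹ = y'⁻¹ := by
    rw [← hg, hy']
    have e : g * w * g⁻¹ * (g * y * g⁻¹) * (g * w * g⁻¹)⁻¹ = g * (w * y * w⁻¹) * g⁻¹ := by group
    rw [e, hwy]
    group
  obtain ⟨z, hz, hzi⟩ := exists_lift π q.surj (fun x hx => by
      obtain ⟨n, hn⟩ := Block.o2_isPGroup P ⟨x, (q.ker x).1 hx⟩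
      have h6 := congrArg (fun z : o2 P => (z : G)) hn
      exact ⟨n, Subtype.ext (by simpa using h6)⟩) (v := ⟨v, hvP⟩) (Subtype.ext hvv) (y := (y' : H)) (r := 11)
    (by norm_num) (by norm_num) (by rw [Subgroup.orderOf_coe, hyo]) (by
      rw [← ha]
      exact congrArg Subtype.val hinv)
  obtain ⟨M, _, _, ρ, σ, s⟩ := exists_secQ p
  have h5 : 2 ^ 5 ≤ (fx ρ ⟨v, hvP⟩).index :=
    FFBasic.le_index (V := M) (ρ := ρ) s.sq (k := 5) (l := 11) (by norm_num) (by norm_num) hz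
      (s.moves p (by norm_num) (by norm_num) hz) hzi FFJ1.ten_le
  have h6 := h5.trans (s.index_le p hv)
  have h7 : R.relIndex (dd (S : Subgroup G) P) ≤ R.relIndex (dd (S : Subgroup G) P') :=
    Nat.le_of_dvd (Nat.pos_of_ne_zero (show Subgroup.relIndex _ _ ≠ 0 from index_ne_zero_of_finite)) (by
      rw [← relIndex_mul_relIndex R _ _ p.R_le_dd hDD]
      exact Dvd.intro _ rfl)
  rw [h2] at h7
  omega

end Cfsg.Agent.OddCyclic.EmpKillFive
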