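import Mathlib
import Cfsg.Agent.OddCyclic.EmpE.Kill
import Cfsg.Agent.OddCyclic.EmpC.Comp
import Cfsg.Agent.OddCyclic.CompMain
import Cfsg.Agent.OddCyclic.FFOuter

/-!
# (Empty), section 3.5: centralisers of elements of order 3

`K` a simple normal subgroup of `H` (in the list `KZero`), `C_H(K) = 1`, `x ∈ K` of order 3, `B` an elementary abelian
2-subgroup of `C_H(x)`: `|B| ≤ 4`.
-/

set_option autoImplicit false
set_option linter.unusedSectionVars false

namespace Cfsg.Agent.OddCyclic.EmpKillFive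

open Subgroup Cfsg Cfsg.Agent.Lib.SL2Mat Cfsg.Agent.OddCyclic.EmpE.Kill
open Cfsg.Agent.Classification.QDW.TypeHom (typ)
open Cfsg.Agent.OddCyclic.FFOuter (ac e_ac ac_coe ac_eq_iff)
open Cfsg.Agent.OddCyclic.PumpMain (KZero)

universe u

/-- in `SL₂(q)`, `q` even, an element commuting with an involution is an involution -/
theorem sq_of_comm {F : Type*} [Field F] [CharP F 2] {s x : Matrix.SpecialLinearGroup (Fin 2) F} (hs : s * s = 1)
    (hs1 : s ≠ 1) (h : s * x = x * s) : x * x = 1 := by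
  have e00 := congrArg (fun y => ent y 0 0) h
  have e01 := congrArg (fun y => ent y 0 1) h
  have e10 := congrArg (fun y => ent y 1 0) h
  have f00 := congrArg (fun y => ent y 0 0) hs
  have f01 := congrArg (fun y => ent y 0 1) hs
  have f10 := congrArg (fun y => ent y 1 0) hs
  have f11 := congrArg (fun y => ent y 1 1) hs
  simp only [ent_mul, ent_one_00, ent_one_01, ent_one_10, ent_one_11] at e00 e01 e10 f00 f01 f10 f11
  have ds := det_eq s
  have dx := det_eq x
  have h2 : (2 : F) = 0 := CharTwo.two_eq_zero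
  -- `ent s 0 0 = ent s 1 1`
  have hs0 : ent s 0 0 = ent s 1 1 := by
    have h3 : (ent s 0 0 - ent s 1 1) * (ent s 0 0 - ent s 1 1) = 0 := by
      linear_combination f00 + f11 - 2 * ds - 2 * (ent s 0 1 * ent s 1 0) * h2
    exact sub_eq_zero.1 (mul_self_eq_zero.1 h3)
  have hx0 : ent x 0 0 = ent x 1 1 := by
    by_contra hne
    have hne' : ent x 1 1 - ent x 0 0 ≠ 0 := sub_ne_zero.2 (Ne.symm hne)
    have hb : ent s 0 1 = 0 := by
      have h3 : ent s 0 1 * (ent x 1 1 - ent x 0 0) = 0 := by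
        rw [hs0] at e01
        linear_combination e01
      exact (mul_eq_zero.1 h3).resolve_right hne'
    have hc : ent s 1 0 = 0 := by
      have h3 : ent s 1 0 * (ent x 1 1 - ent x 0 0) = 0 := by
        rw [hs0] at e10
        linear_combination -e10
      exact (mul_eq_zero.1 h3).resolve_right hne'
    apply hs1
    have ha : ent s 0 0 = 1 := by
      rw [← hs0, hb, hc] at ds
      have h3 : (ent s 0 0 - 1) * (ent s 0 0 - 1) = 0 := by
        linear_combination ds - (ent s 0 0 - 1) * h2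
      exact sub_eq_zero.1 (mul_self_eq_zero.1 h3)
    exact ext_ent (by rw [ha, ent_one_00]) (by rw [hb, ent_one_01]) (by rw [hc, ent_one_10])
      (by rw [← hs0, ha, ent_one_11])
  rw [← hx0] at dx
  apply ext_ent
  · rw [ent_mul, ent_one_00]
    linear_combination dx + (ent x 0 1 * ent x 1 0) * h2
  · rw [ent_mul, ent_one_01, ← hx0]
    linear_combination (ent x 0 1 * ent x 0 0) * h2
  · rw [ent_mul, ent_one_10, ← hx0]
    linear_combination (ent x 1 0 * ent x 0 0) * h2
  · rw [ent_mul, ent_one_11, ← hx0]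
    linear_combination dx + (ent x 0 1 * ent x 1 0) * h2

variable {H : Type u} [Group H] [Finite H] {K : Subgroup H}

/-- `SL₂(q)`, `q` even -/
theorem cent_sl {F : Type*} [Field F] [Fintype F] [CharP F 2] (e : Matrix.SpecialLinearGroup (Fin 2) F ≃* K)
    (hn : K.Normal) (hc : centralizer (K : Set H) = ⊥) {x : H} (hx : x ∈ K) (hx3 : orderOf x = 3) {B : Subgroup H}
    (hB : ∀ b ∈ B, b * b = 1) (hBx : ∀ b ∈ B, b * x = x * b) : Nat.card B ≤ 2 := by
  -- `B ∩ K = 1`
  have h1 : ∀ b ∈ B, b ∈ K → b = 1 := by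
    intro b hb hbK
    by_contra hb1
    have h2 : e.symm ⟨x, hx⟩ * e.symm ⟨x, hx⟩ = 1 := by
      refine sq_of_comm (s := e.symm ⟨b, hbK⟩) ?_ ?_ ?_
      · rw [← map_mul, ← map_one e.symm]
        congr 1
        exact Subtype.ext (hB b hb)
      · intro h2
        apply hb1
        have h3 := congrArg e h2
        rw [e.apply_symm_apply, map_one] at h3
        exact congrArg Subtype.val h3
      · rw [← map_mul, ← map_mul]
        congr 1
        exact Subtype.ext (hBx b hb)
    have h3 : x * x = 1 := by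
      have h4 := congrArg e h2
      rw [map_mul, e.apply_symm_apply, map_one] at h4
      exact congrArg Subtype.val h4
    have h4 : orderOf x ∣ 2 := orderOf_dvd_of_pow_eq_one (by rw [pow_two, h3])
    rw [hx3] at h4
    omega
  have htyp : ∀ a : H, a ∉ K → typ (ac e a) ≠ 1 := by
    intro a ha h2
    obtain ⟨s, hs⟩ := (L2Model.inner_iff _).1 h2
    apply ha
    rw [← ac_coe e s] at hs
    rw [inn hc (e s).2 ((ac_eq_iff e _ _).1 hs)]
    exact (e s).2
  by_cases hBK : ∀ b ∈ B, b ∈ K
  · have : B = ⊥ := by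
      rw [eq_bot_iff]
      intro b hb
      exact mem_bot.2 (h1 b hb (hBK b hb))
    rw [this, card_bot]; norm_num
  push Not at hBK
  obtain ⟨a, ha, haK⟩ := hBK
  refine FFPsl.card_le_two_of (a := a) fun b hb => ?_
  by_cases hbK : b ∈ K
  · exact Or.inl (h1 b hb hbK)
  right
  have hab : a * b ∈ K := by
    by_contra hab
    apply htyp _ hab
    have h4 : typ (ac e a) = typ (ac e b) := by
      refine L2Borel.ringAut_invol ?_ ?_ (htyp a haK) (htyp b hbK)
      · rw [← map_mul, ← map_mul, hB a ha, map_one, map_one]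
      · rw [← map_mul, ← map_mul, hB b hb, map_one, map_one]
    rw [map_mul, map_mul, h4, ← map_mul, ← map_mul, hB b hb, map_one, map_one]
  have h5 := h1 _ (mul_mem ha hb) hab
  have h6 : b = a⁻¹ := eq_inv_of_mul_eq_one_right h5
  rw [h6]
  exact inv_eq_of_mul_eq_one_left (hB a ha)

open Cfsg.Agent.SporRec.J1.Defs in
theorem cent_jone (hn : K.Normal) (hc : centralizer (K : Set H) = ⊥) (hJ : Local K) {k : K} (hk : orderOf k = 2)
    {x : H} (hx : x ∈ K) (hx3 : orderOf x = 3) {B : Subgroup H}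
    (hB : ∀ b ∈ B, b * b = 1) (hBx : ∀ b ∈ B, b * x = x * b) : Nat.card B ≤ 2 := by
  have hBK := jone_le hn hc hJ hk B
  have hf : Fact (Nat.Prime 2) := ⟨Nat.prime_two⟩
  have h1 := hJ.cent3 ⟨x, hx⟩ (by rw [Subgroup.orderOf_mk, hx3])
  have h2 : Nat.card B ∣ 30 := by
    rw [← h1, ← Nat.card_congr (subgroupOfEquivOfLe hBK).toEquiv]
    apply Subgroup.card_dvd_of_le
    intro b hb
    rw [mem_centralizer_singleton_iff]
    exact Subtype.ext (hBx b hb)
  obtain ⟨n, hn'⟩ := (IsPGroup.iff_card (p := 2)).1 (show IsPGroup 2 B from fun b => ⟨1, by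
    rw [pow_one, pow_two]; exact Subtype.ext (hB b b.2)⟩)
  rw [hn'] at h2 ⊢
  by_contra hcon
  have h3 : 2 ≤ n := by
    by_contra h4
    have : n ≤ 1 := by omega
    have := Nat.pow_le_pow_right (n := 2) (by norm_num) this
    omega
  have h4 : 2 ^ 2 ∣ 30 := (pow_dvd_pow 2 h3).trans h2
  norm_num at h4

/-- **the centraliser of an element of order 3** -/
theorem card_cent_le (hn : K.Normal) (hc : centralizer (K : Set H) = ⊥) (hK : KZero K) {x : H} (hx : x ∈ K)
    (hx3 : orderOf x = 3) {B : Subgroup H} (hB : ∀ b ∈ B, b * b = 1) (hBx : ∀ b ∈ B, b * x = x * b) :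
    Nat.card B ≤ 4 := by
  rcases hK with ⟨F, _, _, hp, h5, ⟨e⟩⟩ | ⟨F, _, _, f, hf', hF, ⟨e⟩⟩ | hK | ⟨hJ, k, hk'⟩
  · have hodd : Odd (Fintype.card F) := hp.odd_of_ne_two (by omega)
    have R := Cfsg.Agent.GH.L2Aut.Rep.ofEquiv (Cfsg.Agent.GH.L2Aut.two_ne_zero_of_odd hodd) e
    have hp' : (Nat.card F).Prime := by rw [Nat.card_eq_fintype_card]; exact hp
    exact card_le_four R hc hp' hB
  · have hch : CharP F 2 := by
      have hch := ringChar.charP F
      have h1 : ringChar F ∣ 2 ^ f := by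
        rw [← hF, ← CharP.cast_eq_zero_iff F (ringChar F), Nat.cast_card_eq_zero]
      have h2 : (ringChar F).Prime := CharP.char_is_prime F (ringChar F)
      have h3 : ringChar F = 2 := (Nat.prime_dvd_prime_iff_eq h2 Nat.prime_two).1 (h2.dvd_of_dvd_pow h1)
      rwa [h3] at hch
    obtain ⟨g⟩ := WeakTI.PslTwo.nonempty_equiv (F := F)
    exact (cent_sl (g.trans e.symm) hn hc hx hx3 hB hBx).trans (by norm_num)
  · exfalso
    apply CompMain.not_three_dvd hK
    rw [← hx3, ← Subgroup.orderOf_mk x hx]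
    exact orderOf_dvd_natCard _
  · exact (cent_jone hn hc hJ hk' hx hx3 hB hBx).trans (by norm_num)

end Cfsg.Agent.OddCyclic.EmpKillFive

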