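import Cfsg.Agent.OddCyclic.EmpNSEnd
import Cfsg.Agent.OddCyclic.EmpE.Main
import Cfsg.Agent.OddCyclic.EmpF.Main
import Cfsg.Agent.OddCyclic.EmpA.Types
import Cfsg.Agent.OddCyclic.EmpKill.MainOf
import Cfsg.Agent.OddCyclic.EmpKill.PslP
import Cfsg.Agent.OddCyclic.Emp3.Main

/-!
# (Empty): `ENS S` gives an `S₃`-line

* `star` : (*), the conjugates of `V = vv S` meeting `V` nontrivially centralise it, if (NFF);
* `not_nff` : (NFF) is impossible;
* `exists_sline` : `ENS S` gives an `S₃`-line.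
-/

set_option autoImplicit false
set_option linter.unusedSectionVars false

namespace Cfsg.Agent.OddCyclic.EmpMain

open Subgroup Cfsg Cfsg.Agent.ZN Cfsg.Agent.ZN.ChoiceBase Cfsg.Agent.ZN.ChoiceSit
open Cfsg.Agent.MinSimple Cfsg.Agent.MinSimple.EmptyTI Cfsg.Agent.MinSimple.EmptySix
open Cfsg.Agent.OddCyclic.EmpFrame Cfsg.Agent.OddCyclic.EmpA
open Cfsg.Agent.OddCyclic.KZeroCongr (KS)

universe u

variable {G : Type u} [Group G] [Finite G] {S : Sylow 2 G}

/-- [A] + CLAIM C + [C] : **(*)** -/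
theorem star (h : ENS S) (ks : KS G) (nff : NFF (vv (S : Subgroup G))) : EmpA.Star (S : Subgroup G) := by
  by_contra hcon
  obtain ⟨R, T, c⟩ := exists_conf h nff hcon
  exact EmpKill.main_of c ks fun f _ _ _ Q hF h7 => EmpKill.PslP.false_of f Q hF h7

/-- `V` is an FF-module -/
theorem not_nff (h : ENS S) (ks : KS G) : ¬ NFF (vv (S : Subgroup G)) := fun nff =>
  EmpNSEnd.false_of h ks (star h ks nff) nff
    (fun _ _ _ _ _ _ _ _ _ _ _ _ _ hw => EmpE.Main.main hw)
    (fun F T P Θ g H i1 i2 M i3 i4 ρ r π => EmpF.Main.main nff F T P Θ g H i1 i2 M i3 i4 ρ r π)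

/-- **(Empty)**: an `S₃`-line -/
theorem exists_sline (h : ENS S) (hz : CompStart.SecZero G) : ∃ V z, EmpLine.SLine S V z :=
  Emp3.Main.main h hz (not_nff h hz)

end Cfsg.Agent.OddCyclic.EmpMain
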