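import Cfsg.Agent.OddCyclic.EmpNSEnd
import Cfsg.Agent.OddCyclic.EmpE.Main
import Cfsg.Agent.OddCyclic.EmpF.Main
import Cfsg.Agent.OddCyclic.EmpA.Types
import Cfsg.Agent.OddCyclic.Emp3.MainOf

/-!
# (Empty): the top assembly

* `not_nff` : (NFF) is impossible, from [C] (the kill of the configuration of CLAIM C);
* `false_of` : `ENS S` is impossible, from [C], (III) in the natural case, and the kill of the `S₃`-line.
-/

set_option autoImplicit false
set_option linter.unusedSectionVars false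

namespace Cfsg.Agent.OddCyclic.EmpMainOf

open Subgroup Cfsg Cfsg.Agent.ZN Cfsg.Agent.ZN.ChoiceBase Cfsg.Agent.ZN.ChoiceSit
open Cfsg.Agent.MinSimple Cfsg.Agent.MinSimple.EmptyTI Cfsg.Agent.MinSimple.EmptySix
open Cfsg.Agent.MinSimple.EmptyE.Closed (LL)
open Cfsg.Agent.OddCyclic.EmpFrame Cfsg.Agent.OddCyclic.EmpA
open Cfsg.Agent.OddCyclic.KZeroCongr (KS)

universe u

variable {G : Type u} [Group G] [Finite G] {S : Sylow 2 G}

/-- **(*)** -/
theorem star (h : ENS S) (ks : KS G) (nff : NFF (vv (S : Subgroup G)))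
    (hC : ∀ {R T P : Subgroup G} {k : G}, Mini S R T P → Wit S P k → False) : EmpA.Star (S : Subgroup G) := by
  by_contra hcon
  obtain ⟨R, T, P, k, m, w⟩ := exists_par_wit h ks nff hcon
  exact hC m w

theorem not_nff (h : ENS S) (ks : KS G)
    (hC : ∀ {R T P : Subgroup G} {k : G}, NFF (vv (S : Subgroup G)) → Mini S R T P → Wit S P k → False) :
    ¬ NFF (vv (S : Subgroup G)) := fun nff =>
  EmpNSEnd.false_of h ks (star h ks nff (hC nff)) nff
    (fun _ _ _ _ _ _ _ _ _ _ _ _ _ hw => EmpE.Main.main hw)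
    (fun F T P Θ g H i1 i2 M i3 i4 ρ r π => EmpF.Main.main nff F T P Θ g H i1 i2 M i3 i4 ρ r π)

theorem false_of (h : ENS S) (hz : CompStart.SecZero G)
    (hC : ∀ {R T P : Subgroup G} {k : G}, NFF (vv (S : Subgroup G)) → Mini S R T P → Wit S P k → False)
    (nat : ∀ {H V : Type u} [Group H] [CommGroup V] [Finite H] [Finite V] {r : LL (S : Subgroup G) →* H}
      {ρ : H →* MulAut V} {ι : V →* G} (_ : EmpFF.FFRep S r ρ ι) {L : Subgroup H} {F₀ : Type} [Field F₀]
      [Fintype F₀] [CharP F₀ 2] (_ : EmpFFList.Lin ρ L F₀), ∃ V z, EmpLine.SLine S V z)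
    (hS : ∀ V z, EmpLine.SLine S V z → False) : False := by
  obtain ⟨V, z, h1⟩ := Emp3.MainOf.main h hz (not_nff h hz hC) nat
  exact hS V z h1

end Cfsg.Agent.OddCyclic.EmpMainOf
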