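import Cfsg.Agent.OddCyclic.EmpNSPair
import Cfsg.Agent.OddCyclic.EmpNSRep

/-!
# (Empty), `V` not FF: the abstract data `HW`, `Dir` of `EmpNSDefs` from the frame and the critical pair

* `im r X`, `imw π D` : images of subgroups of `G`;
* `mk_hw` : `HW ρ (im r (C_G(V)T)) (im r L) (im r C_G(F)) (im r Θ) (im r J) (imw π V_+)`;
* `mk_dir` : `Dir` for a line `V' = cj (g * x) V` on `r` with `W_p ≰ N(V')`, `V' ≰ K_p`, and the `j`-bound.
* `two_of_le` : (2) from `|B| ≤ |Wt : C(B)|`.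
-/

set_option autoImplicit false
set_option linter.unusedSectionVars false

namespace Cfsg.Agent.OddCyclic.EmpNSAct

open Subgroup Cfsg Cfsg.Agent.ZN Cfsg.Agent.ZN.ChoiceBase Cfsg.Agent.ZN.ChoiceSit
open Cfsg.Agent.MinSimple Cfsg.Agent.MinSimple.EmptyTI Cfsg.Agent.MinSimple.EmptySix
open Cfsg.Agent.MinSimple.EmptyE.Closed (LL CC cl mem_cl cl_eq cl_le vv_comm vv_sq vv_mul_self vv_inv
  isPGroup_vv vv_le_jj vv_le jj_le_centralizer_vv conj_mem_vv cj_vv)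
open Cfsg.Agent.OddCyclic.EmpFrame
open Cfsg.Agent.OddCyclic.EmpNSBase
open Cfsg.Agent.OddCyclic.EmpNSBase.FP (vv_le_uu ww_le_uu vp_le_ww P_le_uu P_le_ww cj_vv_le_uu cj_vp_le_ww vp_le kk_le_P)
open Cfsg.Agent.OddCyclic.EmpNSCrit Cfsg.Agent.OddCyclic.EmpNSPair Cfsg.Agent.OddCyclic.EmpNSRep
open Cfsg.Agent.OddCyclic.EmpNSDefs
open Cfsg.Agent.OddCyclic.T1Module (CS mem_CS)
open Cfsg.Agent.OddCyclic.CompBasic (oddCyc_subgroup mem_of_orderOf)

universe u v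

variable {G : Type u} [Group G]

/-! ### Images -/

section Images

variable {P W F : Subgroup G} {H : Type v} [Group H] {M : Type v} [CommGroup M]
  {ρ : H →* MulAut M} {r : P →* H} {π : W →* M}

/-- the image in `H` of `X ∩ P` -/
def im (r : P →* H) (X : Subgroup G) : Subgroup H := (X.subgroupOf P).map r

/-- the image in `M` of `D ∩ W` -/
def imw (π : W →* M) (D : Subgroup G) : Subgroup M := (D.subgroupOf W).map π

theorem mem_im {X : Subgroup G} {a : H} : a ∈ im r X ↔ ∃ x, ∃ hx : x ∈ P, x ∈ X ∧ r ⟨x, hx⟩ = a := by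
  constructor
  · rintro ⟨⟨x, hx⟩, hxX, rfl⟩
    exact ⟨x, hx, hxX, rfl⟩
  · rintro ⟨x, hx, hxX, rfl⟩
    exact ⟨⟨x, hx⟩, hxX, rfl⟩

theorem mem_imw {D : Subgroup G} {a : M} : a ∈ imw π D ↔ ∃ x, ∃ hx : x ∈ W, x ∈ D ∧ π ⟨x, hx⟩ = a := by
  constructor
  · rintro ⟨⟨x, hx⟩, hxX, rfl⟩
    exact ⟨x, hx, hxX, rfl⟩
  · rintro ⟨x, hx, hxX, rfl⟩
    exact ⟨⟨x, hx⟩, hxX, rfl⟩

theorem im_mono {X Y : Subgroup G} (h : X ≤ Y) : im r X ≤ im r Y :=
  Subgroup.map_mono fun _ hx => h hx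

theorem im_le_of {X : Subgroup G} {A : Subgroup H} (h : ∀ x (hx : x ∈ P), x ∈ X → r ⟨x, hx⟩ ∈ A) : im r X ≤ A := by
  intro a ha
  obtain ⟨x, hx, hxX, rfl⟩ := mem_im.1 ha
  exact h x hx hxX

theorem mem_im_of {X : Subgroup G} {x : G} (hx : x ∈ P) (h : x ∈ X) : r ⟨x, hx⟩ ∈ im r X :=
  mem_im.2 ⟨x, hx, h, rfl⟩

theorem mem_imw_of {D : Subgroup G} {x : G} (hx : x ∈ W) (h : x ∈ D) : π ⟨x, hx⟩ ∈ imw π D :=
  mem_imw.2 ⟨x, hx, h, rfl⟩

/-- two elements of `W` have the same image iff they are congruent modulo `F` -/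
theorem Rp.eq_iff (R : Rp P W F ρ r π) {a b : G} (ha : a ∈ W) (hb : b ∈ W) :
    π ⟨a, ha⟩ = π ⟨b, hb⟩ ↔ a * b⁻¹ ∈ F := by
  have h1 : π ⟨a, ha⟩ = π ⟨b, hb⟩ ↔ π (⟨a, ha⟩ * (⟨b, hb⟩ : W)⁻¹) = 1 := by
    rw [map_mul, map_inv, mul_inv_eq_one]
  rw [h1, R.π_one]
  rfl

theorem Rp.fix_iff (R : Rp P W F ρ r π) {p w : G} (hp : p ∈ P) (hw : w ∈ W) (hpw : p * w * p⁻¹ ∈ W) :
    ρ (r ⟨p, hp⟩) (π ⟨w, hw⟩) = π ⟨w, hw⟩ ↔ p * w * p⁻¹ * w⁻¹ ∈ F := by
  rw [R.act ⟨p, hp⟩ ⟨w, hw⟩ hpw]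
  exact Rp.eq_iff R hpw hw

/-- the commutator -/
theorem Rp.comm_eq (R : Rp P W F ρ r π) {p w : G} (hp : p ∈ P) (hw : w ∈ W) (hpw : p * w * p⁻¹ ∈ W) :
    ρ (r ⟨p, hp⟩) (π ⟨w, hw⟩) * (π ⟨w, hw⟩)⁻¹ = π ⟨p * w * p⁻¹ * w⁻¹, mul_mem hpw (inv_mem hw)⟩ := by
  rw [R.act ⟨p, hp⟩ ⟨w, hw⟩ hpw, ← map_inv, ← map_mul]
  rfl

theorem exists_rep (r : P →* H) (hr : Function.Surjective r) (a : H) : ∃ p, ∃ hp : p ∈ P, r ⟨p, hp⟩ = a := by
  obtain ⟨⟨p, hp⟩, h⟩ := hr a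
  exact ⟨p, hp, h⟩

end Images

section

variable {C T : Subgroup G}

theorem pow_mem_of_sup (hT : IsPGroup 2 T) (hTC : T ≤ normalizer (C : Set G)) {p : G} (hp : p ∈ C ⊔ T) :
    ∃ n : ℕ, p ^ 2 ^ n ∈ C := by
  have h2 : p ∈ ((C ⊔ T : Subgroup G) : Set G) := hp
  rw [coe_mul_of_right_le_normalizer_left _ _ hTC] at h2
  obtain ⟨c, hc, t, ht, rfl⟩ := h2
  have hc : c ∈ C := hc
  have ht : t ∈ T := ht
  obtain ⟨k, hk⟩ := hT ⟨t, ht⟩
  have hk : t ^ 2 ^ k = 1 := congrArg Subtype.val hk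
  refine ⟨k, ?_⟩
  have h3 : ∀ n : ℕ, (c * t) ^ n * (t ^ n)⁻¹ ∈ C := by
    intro n
    induction n with
    | zero => simp
    | succ n ih =>
      have e : (c * t) ^ (n + 1) * (t ^ (n + 1))⁻¹ =
          (c * t) ^ n * (t ^ n)⁻¹ * (t ^ n * c * (t ^ n)⁻¹) := by
        rw [pow_succ, pow_succ]; group
      rw [e]
      exact mul_mem ih ((mem_normalizer_iff.1 (hTC (pow_mem ht n)) c).1 hc)
  have h4 := h3 (2 ^ k)
  rwa [hk, inv_one, mul_one] at h4

end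

variable [Finite G] {S : Sylow 2 G} {F T P Θ : Subgroup G} {g : G}

/-! ### (10) -/

theorem exists_frattini {X L T : Subgroup G} (hTX : T ≤ X) (hT : IsPGroup 2 T)
    (hTs : ¬ 2 ∣ T.relIndex X) (hL : X ≤ normalizer (L : Set G)) {x : G} (hx : x ∈ X) :
    ∃ l ∈ L, ∃ n ∈ X ⊓ normalizer ((T ⊓ L : Subgroup G) : Set G), x = l * n := by
  have h1 := Basic.frattini hTX hT hTs hL hx
  have h2 : x ∈ ((L ⊔ (X ⊓ normalizer ((T ⊓ L : Subgroup G) : Set G)) : Subgroup G) : Set G) := h1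
  rw [coe_mul_of_right_le_normalizer_left _ _ (inf_le_left.trans hL)] at h2
  obtain ⟨a, ha, b, hb, hab⟩ := h2
  exact ⟨a, ha, b, hb, hab.symm⟩

/-- (10) `J ≰ K_P` -/
theorem jj_not_le (h : FP S F T P) : ¬ jj (S : Subgroup G) ≤ kk (S : Subgroup G) F T P := by
  intro hJ
  apply h.P_not
  intro x hx
  obtain ⟨l, hl, n, hn, rfl⟩ := exists_frattini h.T_le_P h.T_two h.T_dvd h.P_le_kk hx
  have h1 : jj (T ⊓ kk (S : Subgroup G) F T P) = jj (S : Subgroup G) :=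
    EmptyTI.jj_eq S (h.T_two.to_le inf_le_left) (le_inf h.jT hJ)
  have h2 : n ∈ normalizer (jj (S : Subgroup G) : Set G) := by
    rw [← h1]
    exact Basic.normalizer_le_normalizer_jj _ hn.2
  exact mul_mem (h.kk_le_LL hl) (h.ens.normalizer_le_LL h2)

theorem o2_P_ne_bot (h : FP S F T P) : o2 P ≠ ⊥ := by
  have h1 : vv (S : Subgroup G) ≤ centralizer (vv (S : Subgroup G) : Set G) := fun v hv =>
    mem_centralizer_iff.2 fun w hw => vv_comm hw hv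
  have h2 : uu (S : Subgroup G) P ≤ P :=
    (h.uu_comm.trans (centralizer_le vv_le_uu)).trans h.C_le_P
  have h3 : uu (S : Subgroup G) P ≤ o2 P := Block.le_o2 h.uu_two h2 P_le_uu
  intro h0
  rw [h0, le_bot_iff] at h3
  exact h.ens.vv_ne_bot (le_bot_iff.1 (h3 ▸ vv_le_uu))

theorem P_ne_top (h : FP S F T P) : P ≠ ⊤ := by
  intro h0
  have h1 : IsTwoLocal (normalizer (F : Set G)) :=
    ⟨F, isPGroup_vv.to_le h.F_le, h.F_ne, rfl⟩
  have h2 : normalizer (F : Set G) = ⊤ := top_le_iff.1 (h0 ▸ h.P_le_N)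
  obtain ⟨X, -, -, hX⟩ := h.ens.nu _ h1 (h2 ▸ le_top)
  exact hX (h2 ▸ le_top)

variable {H : Type v} [Group H] [Finite H] {M : Type v} [CommGroup M] [Finite M]
  {ρ : H →* MulAut M} {r : P →* H} {π : ww (S : Subgroup G) F T P →* M}

section HWsec

variable (h : FP S F T P) (R : Rp P (ww (S : Subgroup G) F T P) F ρ r π)
include h R

omit h R in
theorem conj_ww {p w : G} (hp : p ∈ P) (hw : w ∈ ww (S : Subgroup G) F T P) : p * w * p⁻¹ ∈ ww (S : Subgroup G) F T P :=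
  (mem_normalizer_iff.1 (P_le_ww hp) w).1 hw

theorem r_eq_one {p : G} (hp : p ∈ P) : r ⟨p, hp⟩ = 1 ↔ p ∈ kk (S : Subgroup G) F T P := by
  rw [h.mem_kk]
  constructor
  · intro h1
    refine ⟨hp, fun w hw => ?_⟩
    rw [← Rp.fix_iff R hp hw (conj_ww hp hw), h1, map_one, MulAut.one_apply]
  · rintro ⟨-, h1⟩
    apply R.inj
    rw [map_one]
    ext w
    obtain ⟨⟨w, hw⟩, rfl⟩ := R.π_surj w
    rw [MulAut.one_apply, Rp.fix_iff R hp hw (conj_ww hp hw)]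
    exact h1 w hw

/-- `r p ∈ im X ↔ p ∈ X` if `K_P ≤ X` -/
theorem mem_im_iff {X : Subgroup G} (hX : kk (S : Subgroup G) F T P ≤ X) {p : G} (hp : p ∈ P) :
    r ⟨p, hp⟩ ∈ im r X ↔ p ∈ X := by
  constructor
  · intro h1
    obtain ⟨x, hx, hxX, h2⟩ := mem_im.1 h1
    have h3 : r ⟨x⁻¹ * p, mul_mem (inv_mem hx) hp⟩ = 1 := by
      have e : (⟨x⁻¹ * p, mul_mem (inv_mem hx) hp⟩ : P) = (⟨x, hx⟩ : P)⁻¹ * ⟨p, hp⟩ := rfl
      rw [e, map_mul, map_inv, h2, inv_mul_cancel]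
    have h4 := mul_mem hxX (hX ((r_eq_one h R _).1 h3))
    rwa [mul_inv_cancel_left] at h4
  · exact mem_im_of hp

/-- a normal subgroup fixing `V_+/F` is trivial -/
theorem eq_bot_of_fix {D : Subgroup H} (hD : D.Normal) (hfix : ∀ d ∈ D, ∀ w ∈ imw π (vp (S : Subgroup G) F T), ρ d w = w) :
    D = ⊥ := by
  rw [eq_bot_iff]
  intro d hd
  obtain ⟨p, hp, rfl⟩ := exists_rep r R.r_surj d
  rw [mem_bot, r_eq_one h R hp]
  rw [h.mem_kk]
  refine ⟨hp, fun w hw => ?_⟩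
  -- the elements centralised by `p` modulo `F`
  have h1 : ∀ x ∈ P, ∀ w ∈ cj x (vp (S : Subgroup G) F T), p * w * p⁻¹ * w⁻¹ ∈ F := by
    rintro x hx _ ⟨v, hv, rfl⟩
    have hv' : v ∈ ww (S : Subgroup G) F T P := vp_le_ww hv
    have h2 : x⁻¹ * p * x ∈ P := mul_mem (mul_mem (inv_mem hx) hp) hx
    have h3 : r ⟨x⁻¹ * p * x, h2⟩ ∈ D := by
      have e : (⟨x⁻¹ * p * x, h2⟩ : P) = (⟨x, hx⟩ : P)⁻¹ * ⟨p, hp⟩ * ⟨x, hx⟩ := rfl
      rw [e, map_mul, map_mul, map_inv]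
      have h4 := hD.conj_mem _ hd (r ⟨x, hx⟩)⁻¹
      rwa [inv_inv] at h4
    have h4 := hfix _ h3 (π ⟨v, hv'⟩) (mem_imw_of hv' hv)
    rw [Rp.fix_iff R h2 hv' (conj_ww h2 hv')] at h4
    have h5 := (mem_normalizer_iff.1 (h.P_le_N hx) _).1 h4
    have e : x * (x⁻¹ * p * x * v * (x⁻¹ * p * x)⁻¹ * v⁻¹) * x⁻¹ =
      p * ((MulAut.conj x).toMonoidHom v) * p⁻¹ * ((MulAut.conj x).toMonoidHom v)⁻¹ := by
      simp [mul_assoc]
    rwa [e] at h5
  have h2 : ∀ w ∈ ww (S : Subgroup G) F T P, w ∈ ww (S : Subgroup G) F T P ∧ p * w * p⁻¹ * w⁻¹ ∈ F := by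
    intro w hw
    have hw0 := hw
    rw [ww] at hw0
    refine Subgroup.iSup_induction' (fun x : P => cj (x : G) (vp (S : Subgroup G) F T))
      (C := fun w _ => w ∈ ww (S : Subgroup G) F T P ∧ p * w * p⁻¹ * w⁻¹ ∈ F)
      (fun x w hw => ⟨cj_vp_le_ww x.2 hw, h1 x x.2 w hw⟩) ⟨one_mem _, ?_⟩ (fun a b _ _ ha hb => ⟨mul_mem ha.1 hb.1, ?_⟩) hw0
    · rw [mul_one, mul_inv_cancel, one_mul, inv_one]
      exact one_mem _
    · have e : p * (a * b) * p⁻¹ * (a * b)⁻¹ = (p * a * p⁻¹ * a⁻¹) * (a * (p * b * p⁻¹ * b⁻¹) * a⁻¹) := by group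
      rw [e]
      have hbW : p * b * p⁻¹ * b⁻¹ ∈ ww (S : Subgroup G) F T P := mul_mem (conj_ww hp hb.1) (inv_mem hb.1)
      rw [h.ww_comm ha.1 hbW, mul_inv_cancel_right]
      exact mul_mem ha.2 hb.2
  exact (h2 w hw).2

theorem mk_fix : ∀ y ∈ im r (centralizer (vv (S : Subgroup G) : Set G) ⊔ T), ∀ w ∈ imw π (vp (S : Subgroup G) F T),
    ρ y w = w := by
  intro y hy w hw
  obtain ⟨p, hp, hpX, rfl⟩ := mem_im.1 hy
  obtain ⟨v, hv, hvV, rfl⟩ := mem_imw.1 hw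
  rw [Rp.fix_iff R hp hv (conj_ww hp hv)]
  exact h.base_vp hpX hvV

theorem index_T : ¬ 2 ∣ (im r T).index := by
  intro h1
  apply h.T_dvd
  exact h1.trans (index_map_dvd _ R.r_surj)

theorem mk_o2 (D : Subgroup H) (hD : D.Normal) (hD2 : IsPGroup 2 D) : D = ⊥ := by
  have hf : Fact (Nat.Prime 2) := ⟨Nat.prime_two⟩
  refine eq_bot_of_fix h R hD fun d hd w hw => ?_
  have hT2 : IsPGroup 2 (im r T) := (h.T_two.comap_of_injective _ P.subtype_injective).map _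
  have h1 := Cfsg.Agent.Lib.Cores.pCore_le_sylow (hT2.toSylow (index_T h R) : Sylow 2 H)
  have h2 : D ≤ im r T := (Cfsg.Agent.Lib.Cores.le_pCore hD hD2).trans h1
  exact mk_fix h R d (im_mono le_sup_right (h2 hd)) w hw

theorem mk_max (X : Subgroup H) (hX : im r (centralizer (vv (S : Subgroup G) : Set G) ⊔ T) ≤ X) :
    X ≤ im r (LL (S : Subgroup G)) ∨ X = ⊤ := by
  by_cases h1 : (X.comap r).map P.subtype ≤ LL (S : Subgroup G)
  · left
    intro a ha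
    obtain ⟨p, hp, rfl⟩ := exists_rep r R.r_surj a
    exact mem_im_of hp (h1 ⟨⟨p, hp⟩, ha, rfl⟩)
  · right
    have h2 : (X.comap r).map P.subtype = P := by
      refine h.min _ (fun y hy => ?_) (map_subtype_le _) h1
      exact ⟨⟨y, h.le_P hy⟩, hX (mem_im_of (h.le_P hy) hy), rfl⟩
    rw [eq_top_iff]
    intro a _
    obtain ⟨p, hp, rfl⟩ := exists_rep r R.r_surj a
    have h3 : p ∈ (X.comap r).map P.subtype := by rw [h2]; exact hp
    obtain ⟨⟨q, hq⟩, hqX, e⟩ := h3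
    have e : q = p := e
    subst e
    exact hqX

theorem im_LL_ne : im r (LL (S : Subgroup G)) ≠ ⊤ := by
  intro h1
  apply h.P_not
  intro p hp
  rw [← mem_im_iff h R h.kk_le_LL hp, h1]
  exact mem_top _

theorem mk_gen (X : Subgroup M) (hX : imw π (vp (S : Subgroup G) F T) ≤ X) (hX2 : ∀ a : H, ∀ x ∈ X, ρ a x ∈ X) :
    X = ⊤ := by
  have h1 : ww (S : Subgroup G) F T P ≤ (X.comap π).map (ww (S : Subgroup G) F T P).subtype := by
    have h2 : (⨆ x : P, cj (x : G) (vp (S : Subgroup G) F T) : Subgroup G) ≤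
        (X.comap π).map (ww (S : Subgroup G) F T P).subtype := by
      refine iSup_le fun x => ?_
      rintro _ ⟨v, hv, rfl⟩
      have hv' : v ∈ ww (S : Subgroup G) F T P := vp_le_ww hv
      have h3 := hX2 (r x) _ (hX (mem_imw_of hv' hv))
      rw [R.act x ⟨v, hv'⟩ (conj_ww x.2 hv')] at h3
      exact ⟨_, h3, rfl⟩
    exact h2
  rw [eq_top_iff]
  intro a _
  obtain ⟨⟨w, hw⟩, rfl⟩ := R.π_surj a
  obtain ⟨⟨q, hq⟩, hqX, e⟩ := h1 hw
  have e : q = w := e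
  subst e
  exact hqX

/-- coprimeness of `Θ` -/
theorem mk_cop (hΘ : Θ ≤ centralizer (vv (S : Subgroup G) : Set G))
    (hc : ∀ q : ℕ, q.Prime → ¬ q ∣ Nat.card (kk (S : Subgroup G) F T P) → ¬ q ∣ Nat.card Θ)
    (K : Subgroup H) (hK : K.Normal) (hKs : IsSimpleGroup K) (q : ℕ) (hq : q.Prime) (hq2 : q ≠ 2)
    (hqK : q ∣ Nat.card K) : ¬ q ∣ Nat.card (im r Θ) := by
  intro hd
  have hqf : Fact q.Prime := ⟨hq⟩
  have hcH : T1Defs.OddCyc H := oddCyc_of_surj (oddCyc_subgroup h.ens.hyp.cyc P) r R.r_surj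
  have hΘP : Θ ≤ P := hΘ.trans h.C_le_P
  by_cases hab : ∃ x y : K, x * y ≠ y * x
  · -- `K` nonabelian
    have h1 := not_dvd_ker (oddCyc_subgroup h.ens.hyp.cyc P) r (K := K)
      (by rw [MonoidHom.range_eq_top.2 R.r_surj]; exact le_top) hKs hab hq hq2 hqK
    have h2 : Nat.card r.ker = Nat.card (kk (S : Subgroup G) F T P) := by
      have e : r.ker.map P.subtype = kk (S : Subgroup G) F T P := by
        ext p
        constructor
        · rintro ⟨⟨p, hp⟩, h3, rfl⟩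
          exact (r_eq_one h R hp).1 h3
        · intro h3
          exact ⟨⟨p, kk_le_P h3⟩, (r_eq_one h R _).2 h3, rfl⟩
      rw [← e]
      exact Nat.card_congr (r.ker.equivMapOfInjective _ P.subtype_injective).toEquiv
    rw [h2] at h1
    have h3 := hc q hq h1
    apply h3
    have h4 : Nat.card (im r Θ) ∣ Nat.card (Θ.subgroupOf P) := card_dvd_of_surjective _
      (r.subgroupMap_surjective (Θ.subgroupOf P))
    rw [Nat.card_congr (subgroupOfEquivOfLe hΘP).toEquiv] at h4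
    exact hd.trans h4
  · -- `K` cyclic of order `q`
    push Not at hab
    obtain ⟨⟨y, hy⟩, hyo⟩ := exists_prime_orderOf_dvd_card' (G := im r Θ) q hd
    rw [Subgroup.orderOf_mk] at hyo
    have hyK : y ∈ K := mem_of_orderOf hcH hq hq2 hK hqK hyo
    have hKΘ : K ≤ im r Θ := by
      have h1 : (zpowers (⟨y, hyK⟩ : K)).Normal :=
        ⟨fun a ha b => by rw [hab b a, mul_inv_cancel_right]; exact ha⟩
      rcases hKs.eq_bot_or_eq_top_of_normal _ h1 with h2 | h2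
      · exfalso
        rw [zpowers_eq_bot] at h2
        have h3 : y = 1 := congrArg Subtype.val h2
        rw [h3, orderOf_one] at hyo
        exact hq.one_lt.ne hyo
      · intro k hk
        have h3 : (⟨k, hk⟩ : K) ∈ zpowers (⟨y, hyK⟩ : K) := by
          rw [h2]; exact mem_top _
        obtain ⟨n, hn⟩ := h3
        have h4 : y ^ n = k := congrArg Subtype.val hn
        rw [← h4]
        exact zpow_mem hy n
    have h1 : K = ⊥ := eq_bot_of_fix h R hK fun d hd w hw =>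
      mk_fix h R d (im_mono (hΘ.trans le_sup_left) (hKΘ hd)) w hw
    have h2 := hKs.toNontrivial
    rw [h1] at h2
    exact absurd (exists_pair_ne (⊥ : Subgroup H)) (by
      rintro ⟨a, b, hab⟩
      exact hab (Subsingleton.elim a b))

theorem mk_hw (hΘ : Θ ≤ centralizer (vv (S : Subgroup G) : Set G))
    (hΘn : LL (S : Subgroup G) ≤ normalizer (Θ : Set G))
    (hc : ∀ q : ℕ, q.Prime → ¬ q ∣ Nat.card (kk (S : Subgroup G) F T P) → ¬ q ∣ Nat.card Θ) :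
    HW ρ (im r (centralizer (vv (S : Subgroup G) : Set G) ⊔ T)) (im r (LL (S : Subgroup G)))
      (im r (centralizer (F : Set G))) (im r Θ) (im r (jj (S : Subgroup G))) (imw π (vp (S : Subgroup G) F T)) where
  sq w := by
    obtain ⟨⟨w, hw⟩, rfl⟩ := R.π_surj w
    rw [← map_mul]
    have e : (⟨w, hw⟩ : ww (S : Subgroup G) F T P) * ⟨w, hw⟩ = 1 := Subtype.ext (h.ww_sq hw)
    rw [e, map_one]
  inj := R.inj
  cyc := oddCyc_of_surj (oddCyc_subgroup h.ens.hyp.cyc P) r R.r_surj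
  kz X hX hab := kZero_of_surj h.ks (P_ne_top h) r R.r_surj hX hab
  tame := tameSec_of_surj (h.ens.hyp.tame P (o2_P_ne_bot h)) r R.r_surj
  o2 := mk_o2 h R
  YM := im_mono h.base_le_LL
  M_ne := im_LL_ne h R
  max := mk_max h R
  syl := by
    intro h1
    exact index_T h R (h1.trans (index_dvd_of_le (im_mono le_sup_right)))
  fix := mk_fix h R
  W₀_ne := by
    obtain ⟨v, hv, hvF⟩ := h.exists_vp
    intro h0
    have h1 : π ⟨v, vp_le_ww hv⟩ ∈ imw π (vp (S : Subgroup G) F T) := mem_imw_of _ hv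
    rw [h0, mem_bot, R.π_one] at h1
    exact hvF h1
  gen := mk_gen h R
  J_ne := by
    intro h0
    apply jj_not_le h
    intro j hj
    rw [← r_eq_one h R (h.T_le_P (h.jT hj)), ← mem_bot, ← h0]
    exact mem_im_of _ hj
  J_le := im_mono (h.jT.trans le_sup_right)
  J_two := ((h.T_two.to_le h.jT).comap_of_injective _ P.subtype_injective).map _
  J_comm := by
    intro m hm j hj
    obtain ⟨p, hp, hpL, rfl⟩ := mem_im.1 hm
    obtain ⟨x, hx, hxJ, rfl⟩ := mem_im.1 hj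
    have h1 : x ∈ centralizer (vv (S : Subgroup G) : Set G) := jj_le_centralizer_vv hxJ
    have h2 : p * x * p⁻¹ ∈ centralizer (vv (S : Subgroup G) : Set G) := by
      have h3 : p ∈ normalizer ((centralizer (vv (S : Subgroup G) : Set G) : Subgroup G) : Set G) := by
        rw [mem_normalizer_iff_cj, cj_centralizer, cj_eq_of_mem_normalizer hpL]
      exact (mem_normalizer_iff.1 h3 x).1 h1
    have h3 : p * x * p⁻¹ * x⁻¹ ∈ centralizer (vv (S : Subgroup G) : Set G) := mul_mem h2 (inv_mem h1)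
    rw [← map_mul, ← map_inv, ← map_mul, ← map_inv, ← map_mul]
    exact mem_im_of (r := r) (h.C_le_P h3) (mem_sup_left h3)
  C_norm := by
    have h1 : ((centralizer (F : Set G)).subgroupOf P).Normal := by
      refine normal_subgroupOf_of_le_normalizer ?_
      intro p hp
      rw [mem_normalizer_iff_cj, cj_centralizer, cj_eq_of_mem_normalizer (h.P_le_N hp)]
    exact h1.map _ R.r_surj
  C_two := by
    intro a
    obtain ⟨p, hp, rfl⟩ := exists_rep r R.r_surj a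
    have hTC : T ≤ normalizer ((centralizer (F : Set G) : Subgroup G) : Set G) := by
      intro t ht
      rw [mem_normalizer_iff_cj, cj_centralizer, cj_eq_of_mem_normalizer (h.T_le_N ht)]
    obtain ⟨n, hn⟩ := pow_mem_of_sup h.T_two hTC (h.P_le hp)
    refine ⟨n, ?_⟩
    rw [← map_pow]
    exact mem_im_of (r := r) (pow_mem hp _) hn
  Θ_le := im_mono (hΘ.trans le_sup_left)
  Θ_norm := by
    intro m hm t ht
    obtain ⟨p, hp, hpL, rfl⟩ := mem_im.1 hm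
    obtain ⟨x, hx, hxJ, rfl⟩ := mem_im.1 ht
    have h3 : p * x * p⁻¹ ∈ Θ := (mem_normalizer_iff.1 (hΘn hpL) x).1 hxJ
    rw [← map_mul, ← map_inv, ← map_mul]
    exact mem_im_of (r := r) (mul_mem (mul_mem hp hx) (inv_mem hp)) h3
  cop := mk_cop h R hΘ hc

end HWsec

end Cfsg.Agent.OddCyclic.EmpNSAct
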