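import Cfsg.Agent.OddCyclic.EmpNSBase
import Cfsg.Agent.Lib.Cores

/-!
# (Empty), `V` not FF: the critical pair

* `RR L P n` : the elements of `(P L)^n P`;
* `Crit S F T P Θ g` : `p = P`, `r = gP` a critical pair; `Θ` = `Θ_L`; symmetric under `g ↦ g⁻¹`;
* `exists_crit`.
-/

set_option autoImplicit false
set_option linter.unusedSectionVars false

namespace Cfsg.Agent.OddCyclic.EmpNSCrit

open Subgroup Cfsg Cfsg.Agent.ZN Cfsg.Agent.ZN.ChoiceBase Cfsg.Agent.ZN.ChoiceSit
open Cfsg.Agent.MinSimple Cfsg.Agent.MinSimple.EmptyTI Cfsg.Agent.MinSimple.EmptySix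
open Cfsg.Agent.MinSimple.EmptyE.Closed (LL CC cl mem_cl cl_eq cl_le vv_comm vv_sq vv_mul_self vv_inv
  isPGroup_vv vv_le_jj vv_le jj_le_centralizer_vv conj_mem_vv cj_vv)
open Cfsg.Agent.OddCyclic.EmpFrame
open Cfsg.Agent.OddCyclic.EmpNSBase
open Cfsg.Agent.OddCyclic.EmpNSBase.FP (vv_le_uu ww_le_uu vp_le_ww P_le_uu P_le_ww cj_vv_le_uu cj_vp_le_ww vp_le kk_le_P)

universe u

variable {G : Type u} [Group G]

/-- the elements of `(P L)^n P` -/
def RR (L P : Subgroup G) : ℕ → G → Prop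
  | 0, g => g ∈ P
  | n + 1, g => ∃ x ∈ P, ∃ b ∈ L, ∃ y, RR L P n y ∧ g = x * b * y

namespace RR

variable {L P : Subgroup G}

theorem left {n : ℕ} {x y : G} (hx : x ∈ P) (hy : RR L P n y) : RR L P n (x * y) := by
  cases n with
  | zero => exact mul_mem hx hy
  | succ n =>
    obtain ⟨x', hx', b, hb, y', hy', rfl⟩ := hy
    exact ⟨x * x', mul_mem hx hx', b, hb, y', hy', by group⟩

theorem right {n : ℕ} {x y : G} (hy : RR L P n y) (hx : x ∈ P) : RR L P n (y * x) := by
  induction n generalizing y with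
  | zero => exact mul_mem hy hx
  | succ n ih =>
    obtain ⟨x', hx', b, hb, y', hy', rfl⟩ := hy
    exact ⟨x', hx', b, hb, y' * x, ih hy', by group⟩

theorem mk {n : ℕ} {b y : G} (hb : b ∈ L) (hy : RR L P n y) : RR L P (n + 1) (b * y) :=
  ⟨1, one_mem _, b, hb, y, hy, by group⟩

theorem exists_right {n : ℕ} {g : G} (hg : RR L P (n + 1) g) : ∃ y, RR L P n y ∧ ∃ b ∈ L, ∃ x ∈ P, g = y * b * x := by
  induction n generalizing g with
  | zero =>
    obtain ⟨x, hx, b, hb, y, hy, rfl⟩ := hg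
    exact ⟨x, hx, b, hb, y, hy, rfl⟩
  | succ n ih =>
    obtain ⟨x, hx, b, hb, y, hy, rfl⟩ := hg
    obtain ⟨y', hy', b', hb', x', hx', rfl⟩ := ih hy
    exact ⟨x * b * y', ⟨x, hx, b, hb, y', hy', rfl⟩, b', hb', x', hx', by group⟩

theorem mk' {n : ℕ} {b y : G} (hy : RR L P n y) (hb : b ∈ L) : RR L P (n + 1) (y * b) := by
  induction n generalizing y with
  | zero => exact ⟨y, hy, b, hb, 1, one_mem _, by group⟩
  | succ n ih =>
    obtain ⟨x', hx', b', hb', y', hy', rfl⟩ := hy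
    exact ⟨x', hx', b', hb', y' * b, ih hy', by group⟩

theorem inv {n : ℕ} {g : G} (hg : RR L P n g) : RR L P n g⁻¹ := by
  induction n generalizing g with
  | zero => exact inv_mem (show g ∈ P from hg)
  | succ n ih =>
    obtain ⟨x, hx, b, hb, y, hy, rfl⟩ := hg
    have h1 := right (mk' (ih hy) (inv_mem hb)) (inv_mem hx)
    have e : (x * b * y)⁻¹ = y⁻¹ * b⁻¹ * x⁻¹ := by group
    rwa [e]

theorem mono {n : ℕ} {g : G} (hg : RR L P n g) : RR L P (n + 1) g := by
  have h1 := mk (one_mem L) hg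
  rwa [one_mul] at h1

theorem mul {m n : ℕ} {a b : G} (ha : RR L P m a) (hb : RR L P n b) : RR L P (m + n) (a * b) := by
  induction m generalizing a with
  | zero => rw [Nat.zero_add]; exact left ha hb
  | succ m ih =>
    obtain ⟨x', hx', b', hb', y', hy', rfl⟩ := ha
    rw [Nat.add_right_comm]
    exact ⟨x', hx', b', hb', y' * b, ih hy', by group⟩

end RR

/-- the join of the conjugates of `X` under a set of elements -/
theorem iSup_conj_le {ι : Sort*} {f : ι → G} {X Y : Subgroup G} (h : ∀ i, cj (f i) X ≤ Y) : ⨆ i, cj (f i) X ≤ Y :=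
  iSup_le h

variable [Finite G]

/-- a join of subgroups of `C` normalised by `C` of order prime to `r` has order prime to `r` -/
theorem not_dvd_iSup {ι : Type*} {C : Subgroup G} {X : ι → Subgroup G} (h1 : ∀ i, X i ≤ C)
    (h2 : ∀ i, C ≤ normalizer (X i : Set G)) {r : ℕ} (hr : r.Prime) (h3 : ∀ i, ¬ r ∣ Nat.card (X i)) :
    ¬ r ∣ Nat.card (⨆ i, X i : Subgroup G) := by
  have h4 : (⨆ i, X i : Subgroup G) ≤ (pPrimeCore r C).map C.subtype := by
    refine iSup_le fun i => ?_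
    have h5 : ((X i).subgroupOf C).Normal := normal_subgroupOf_of_le_normalizer (h2 i)
    have h6 : (Nat.card ((X i).subgroupOf C)).Coprime r := by
      rw [Nat.card_congr (subgroupOfEquivOfLe (h1 i)).toEquiv]
      exact ((Nat.Prime.coprime_iff_not_dvd hr).2 (h3 i)).symm
    have h7 := Subgroup.map_mono (f := C.subtype) (Cfsg.Agent.Lib.Cores.le_pPrimeCore h5 h6)
    rwa [subgroupOf_map_subtype, inf_eq_left.2 (h1 i)] at h7
  intro h5
  have h6 : (Nat.card ((pPrimeCore r C).map C.subtype)).Coprime r := by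
    rw [Nat.card_congr ((pPrimeCore r C).equivMapOfInjective _ C.subtype_injective).toEquiv.symm]
    exact Cfsg.Agent.Lib.Cores.pPrimeCore_coprime r
  exact (Nat.Prime.coprime_iff_not_dvd hr).1 h6.symm (h5.trans (card_dvd_of_le h4))

/-- The critical pair `p = P`, `r = gP`. -/
structure Crit (S : Sylow 2 G) (F T P Θ : Subgroup G) (g : G) : Prop where
  ncomm : ¬ cj g (uu (S : Subgroup G) P) ≤ centralizer (uu (S : Subgroup G) P : Set G)
  left : cj g (uu (S : Subgroup G) P) ≤ Θ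
  right : cj g⁻¹ (uu (S : Subgroup G) P) ≤ Θ
  Θ_le : Θ ≤ centralizer (vv (S : Subgroup G) : Set G)
  Θ_norm : LL (S : Subgroup G) ≤ normalizer (Θ : Set G)
  cop : ∀ r : ℕ, r.Prime → ¬ r ∣ Nat.card (kk (S : Subgroup G) F T P) → ¬ r ∣ Nat.card Θ

variable {S : Sylow 2 G} {F T P : Subgroup G}

theorem Crit.symm {Θ : Subgroup G} {g : G} (c : Crit S F T P Θ g) : Crit S F T P Θ g⁻¹ where
  ncomm h := c.ncomm (by
    have h1 := cj_mono g h
    rw [cj_cj_inv, cj_centralizer] at h1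
    exact le_centralizer_iff.1 h1)
  left := c.right
  right := by
    rw [inv_inv]
    exact c.left
  Θ_le := c.Θ_le
  Θ_norm := c.Θ_norm
  cop := c.cop

/-- `(Lₙ)`: the elements lying in some `RR L P n` -/
def genR (L P : Subgroup G) : Subgroup G where
  carrier := {g | ∃ n, RR L P n g}
  mul_mem' := by
    rintro a b ⟨m, hm⟩ ⟨n, hn⟩
    exact ⟨m + n, hm.mul hn⟩
  one_mem' := ⟨0, one_mem P⟩
  inv_mem' := by
    rintro a ⟨m, hm⟩
    exact ⟨m, hm.inv⟩

theorem exists_not_comm (h : FP S F T P) : ∃ n, ∃ k, RR (LL (S : Subgroup G)) P n k ∧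
    ¬ cj k (uu (S : Subgroup G) P) ≤ centralizer (uu (S : Subgroup G) P : Set G) := by
  by_contra hcon
  push Not at hcon
  obtain ⟨X, hX⟩ : ∃ X, X = genR (LL (S : Subgroup G)) P := ⟨_, rfl⟩
  have hXc : ∀ k ∈ X, cj k (uu (S : Subgroup G) P) ≤ centralizer (uu (S : Subgroup G) P : Set G) := by
    intro k hk
    rw [hX] at hk
    obtain ⟨n, hn⟩ := hk
    exact hcon n k hn
  have hPX : P ≤ X := by
    rw [hX]
    exact fun p hp => ⟨0, hp⟩
  have hLX : LL (S : Subgroup G) ≤ X := by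
    rw [hX]
    intro b hb
    refine ⟨1, ?_⟩
    have h1 := RR.mk (n := 0) (P := P) hb (one_mem P)
    rwa [mul_one] at h1
  obtain ⟨N, hN⟩ : ∃ N, N = (⨆ g : X, cj (g : G) (uu (S : Subgroup G) P) : Subgroup G) := ⟨_, rfl⟩
  have hVN : vv (S : Subgroup G) ≤ N := by
    rw [hN]
    have h1 := le_iSup (fun g : X => cj (g : G) (uu (S : Subgroup G) P)) 1
    rw [show ((1 : X) : G) = 1 from rfl, cj_one] at h1
    exact vv_le_uu.trans h1
  have hNab : N ≤ centralizer (N : Set G) := by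
    rw [hN]
    refine iSup_le fun a => ?_
    rw [le_centralizer_iff]
    refine iSup_le fun b => ?_
    have h1 := cj_mono (a : G) (hXc ((a : G)⁻¹ * b) (mul_mem (inv_mem a.2) b.2))
    rwa [cj_cj, mul_inv_cancel_left, cj_centralizer] at h1
  have hN2 : IsPGroup 2 N := by
    have h1 : ∀ x ∈ N, x * x = 1 := by
      intro x hx
      rw [hN] at hx
      refine Subgroup.iSup_induction' (fun g : X => cj (g : G) (uu (S : Subgroup G) P)) (C := fun x _ => x * x = 1)
        (fun g x hx => ?_) (one_mul 1) (fun x y hx hy hx1 hy1 => ?_) hx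
      · obtain ⟨v, hv, rfl⟩ := hx
        rw [← map_mul, h.uu_sq hv, map_one]
      · have h1 : x * y = y * x := by
          rw [← hN] at hx hy
          exact mem_centralizer_iff.1 (hNab hy) x hx
        calc x * y * (x * y) = x * (y * x) * y := by group
          _ = x * (x * y) * y := by rw [h1]
          _ = (x * x) * (y * y) := by group
          _ = 1 := by rw [hx1, hy1, one_mul]
    rintro ⟨x, hx⟩
    refine ⟨1, Subtype.ext ?_⟩
    show x ^ 2 ^ 1 = 1
    rw [pow_one, sq, h1 x hx]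
  have hN1 : N ≠ ⊥ := fun h0 => h.ens.vv_ne_bot (le_bot_iff.1 (h0 ▸ hVN))
  have hXN : X ≤ normalizer (N : Set G) := by
    rw [hN]
    exact le_normalizer_iSup X _
  have h1 : IsTwoLocal (normalizer (N : Set G)) := ⟨N, hN2, hN1, rfl⟩
  have h2 := h.ens.le_LL_of h1 (h.ens.normalizer_le_LL.trans (hLX.trans hXN))
  exact h.P_not ((hPX.trans hXN).trans h2)

theorem exists_crit (h : FP S F T P) : ∃ Θ g, Crit S F T P Θ g := by
  classical
  obtain ⟨n, hn, hmin⟩ : ∃ n, (∃ k, RR (LL (S : Subgroup G)) P (n + 1) k ∧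
      ¬ cj k (uu (S : Subgroup G) P) ≤ centralizer (uu (S : Subgroup G) P : Set G)) ∧
      ∀ k, RR (LL (S : Subgroup G)) P n k → cj k (uu (S : Subgroup G) P) ≤ centralizer (uu (S : Subgroup G) P : Set G) := by
    obtain ⟨m, hm⟩ : ∃ m, Nat.find (exists_not_comm h) = m := ⟨_, rfl⟩
    have h1 := Nat.find_spec (exists_not_comm h)
    rw [hm] at h1
    cases m with
    | zero =>
      exfalso
      obtain ⟨k, hk, hk1⟩ := h1
      apply hk1
      rw [cj_eq_of_mem_normalizer (P_le_uu (show k ∈ P from hk))]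
      exact h.uu_comm
    | succ n =>
      refine ⟨n, h1, fun k hk => ?_⟩
      by_contra hk1
      have h2 := Nat.find_min (exists_not_comm h) (m := n) (by rw [hm]; exact Nat.lt_succ_self n)
      exact h2 ⟨k, hk, hk1⟩
  obtain ⟨k₀, ⟨x, hx, b, hb, y, hy, rfl⟩, hk₀⟩ := hn
  have hU : ∀ z ∈ P, cj z (uu (S : Subgroup G) P) = uu (S : Subgroup G) P := fun z hz =>
    cj_eq_of_mem_normalizer (P_le_uu hz)
  have h1 : ¬ cj (b * y) (uu (S : Subgroup G) P) ≤ centralizer (uu (S : Subgroup G) P : Set G) := by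
    intro h2
    apply hk₀
    have h3 := cj_mono x h2
    rw [cj_cj, cj_centralizer, hU x hx, ← mul_assoc] at h3
    exact h3
  obtain ⟨k, hk, b', hb', z, hz, e⟩ := RR.exists_right (RR.mk hb hy)
  obtain ⟨g, hg⟩ : ∃ g, g = k * b' := ⟨_, rfl⟩
  have hg2 : g = b * (y * z⁻¹) := by
    rw [hg, ← mul_assoc, e]; group
  have h2 : ¬ cj g (uu (S : Subgroup G) P) ≤ centralizer (uu (S : Subgroup G) P : Set G) := by
    have h3 : cj g (uu (S : Subgroup G) P) = cj (b * y) (uu (S : Subgroup G) P) := by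
      rw [hg2, ← mul_assoc, ← cj_cj, hU _ (inv_mem hz)]
    rwa [h3]
  obtain ⟨E, hE⟩ : ∃ E, E = (⨆ k : {k : G // RR (LL (S : Subgroup G)) P n k}, cj (k : G) (uu (S : Subgroup G) P) :
    Subgroup G) := ⟨_, rfl⟩
  have hEk : ∀ k : G, RR (LL (S : Subgroup G)) P n k → cj k (uu (S : Subgroup G) P) ≤ E := by
    intro k hk
    rw [hE]
    exact le_iSup (fun k : {k : G // RR (LL (S : Subgroup G)) P n k} => cj (k : G) (uu (S : Subgroup G) P)) ⟨k, hk⟩
  have hEU : E ≤ centralizer (uu (S : Subgroup G) P : Set G) := by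
    rw [hE]
    exact iSup_le fun k => hmin k k.2
  have hEV : E ≤ centralizer (vv (S : Subgroup G) : Set G) := hEU.trans (centralizer_le vv_le_uu)
  have hPE : P ≤ normalizer (E : Set G) := by
    intro p hp
    refine mem_normalizer_of_cj_le ?_
    rw [cj_le_iff]
    rw [hE]
    refine iSup_le fun k => ?_
    rw [← cj_le_iff, cj_cj, ← hE]
    exact hEk _ (k.2.left hp)
  have hEK : E ≤ kk (S : Subgroup G) F T P := by
    intro e he
    rw [h.mem_kk]
    refine ⟨h.C_le_P (hEV he), fun w hw => ?_⟩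
    rw [← mem_centralizer_iff.1 (hEU he) w (ww_le_uu hw), mul_inv_cancel_right, mul_inv_cancel]
    exact one_mem _
  refine ⟨⨆ b : LL (S : Subgroup G), cj (b : G) E, g, h2, ?_, ?_, ?_, le_normalizer_iSup _ _, ?_⟩
  · rw [hg2, ← cj_cj]
    exact (cj_mono b (hEk _ (hy.right (inv_mem hz)))).trans
      (le_iSup (fun b : LL (S : Subgroup G) => cj (b : G) E) ⟨b, hb⟩)
  · rw [hg, mul_inv_rev, ← cj_cj]
    exact (cj_mono b'⁻¹ (hEk _ hk.inv)).trans
      (le_iSup (fun b : LL (S : Subgroup G) => cj (b : G) E) ⟨b'⁻¹, inv_mem hb'⟩)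
  · refine iSup_le fun b => ?_
    have h3 := cj_mono (b : G) hEV
    rwa [cj_centralizer, cj_eq_of_mem_normalizer b.2] at h3
  · intro r hr hrK
    refine not_dvd_iSup (C := centralizer (vv (S : Subgroup G) : Set G)) (fun b => ?_) (fun b => ?_) hr fun b => ?_
    · have h3 := cj_mono (b : G) hEV
      rwa [cj_centralizer, cj_eq_of_mem_normalizer b.2] at h3
    · have h3 := cj_mono (b : G) (h.C_le_P.trans hPE)
      rwa [cj_centralizer, cj_eq_of_mem_normalizer b.2, cj_normalizer] at h3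
    · rw [card_cj]
      intro h3
      exact hrK (h3.trans (card_dvd_of_le hEK))

end Cfsg.Agent.OddCyclic.EmpNSCrit
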