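import Cfsg.Agent.OddCyclic.FFRed
import Cfsg.Agent.OddCyclic.UniStruct
import Cfsg.Agent.OddCyclic.PumpMain

/-!
# (Empty), `V` not an FF-module: the abstract data of section 4 of blueprints/S0342-Empty-NS-helper347.md

`H = P/K_P` acts faithfully on `W = W_P/F` (elementary abelian 2-group, written `W`), by `ρ`.

* `Y` = image of `C_G(V)T`, `M = (L ∩ P)/K_P`, the unique maximal subgroup over `Y`;
* `W₀ = V_+/F`, centralised by `Y`, generates `W`;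
* `J` = image of `J`, `[M, J] ≤ Y`;
* `C` = image of `C_P(F)`, of 2-power index;
* `Θ` = image of `Θ_L`: `Θ ≤ Y`, normal in `M`, of order prime to the odd primes dividing the order of a component of `H`.
-/

set_option autoImplicit false

namespace Cfsg.Agent.OddCyclic.EmpNSDefs

open Cfsg.Agent.OddCyclic.T1Module Cfsg.Agent.OddCyclic.FFBasic Cfsg.Agent.OddCyclic.FFRed
open Cfsg.Agent.OddCyclic.T1Defs (OddCyc)
open Cfsg.Agent.OddCyclic.UniStruct (TameSec)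
open Cfsg.Agent.OddCyclic.PumpMain (KZero)

variable {H : Type*} [Group H] {W : Type*} [CommGroup W]

/-- `H = P/K_P` on `W = W_P/F` -/
structure HW (ρ : H →* MulAut W) (Y M C Θ J : Subgroup H) (W₀ : Subgroup W) : Prop where
  sq : ∀ w : W, w * w = 1
  inj : Function.Injective ρ
  cyc : OddCyc H
  kz : ∀ X : Subgroup H, IsSimpleGroup X → (∃ x y : X, x * y ≠ y * x) → KZero X
  tame : TameSec H
  o2 : ∀ D : Subgroup H, D.Normal → IsPGroup 2 D → D = ⊥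
  /-- `M` is the unique maximal subgroup over `Y` -/
  YM : Y ≤ M
  M_ne : M ≠ ⊤
  max : ∀ X : Subgroup H, Y ≤ X → X ≤ M ∨ X = ⊤
  /-- `Y` contains a Sylow 2-subgroup of `H` -/
  syl : ¬ 2 ∣ Y.index
  fix : ∀ y ∈ Y, ∀ w ∈ W₀, ρ y w = w
  W₀_ne : W₀ ≠ ⊥
  gen : ∀ X : Subgroup W, W₀ ≤ X → (∀ h : H, ∀ x ∈ X, ρ h x ∈ X) → X = ⊤
  /-- `J` -/
  J_ne : J ≠ ⊥
  J_le : J ≤ Y
  J_two : IsPGroup 2 J
  J_comm : ∀ m ∈ M, ∀ j ∈ J, m * j * m⁻¹ * j⁻¹ ∈ Y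
  /-- `C` -/
  C_norm : C.Normal
  C_two : ∀ h : H, ∃ n : ℕ, h ^ 2 ^ n ∈ C
  /-- `Θ` -/
  Θ_le : Θ ≤ Y
  Θ_norm : ∀ m ∈ M, ∀ t ∈ Θ, m * t * m⁻¹ ∈ Θ
  cop : ∀ K : Subgroup H, Subgroup.Normal K → IsSimpleGroup K → ∀ r : ℕ, r.Prime → r ≠ 2 → r ∣ Nat.card K →
    ¬ r ∣ Nat.card Θ

/-- One direction of the critical pair `(p, r)`: a line `V'` on `r` with `W_p ≰ N(V')`.
`B` = image of `V'` in `H_p`, `A` = image of `W_p` in `H_r`, `g M` = the line `V'` on `r` (base line = `l_d`),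
`N` = image of `N_{W_p}(V')` in `W_p/F_p`. -/
structure Dir (ρ : H →* MulAut W) (M C Θ : Subgroup H) (B A : Subgroup H) (N : Subgroup W) (g : H) : Prop where
  Bsq : ∀ b ∈ B, b * b = 1
  Asq : ∀ a ∈ A, a * a = 1
  BΘ : B ≤ Θ
  AΘ : A ≤ Θ
  B_ne : B ≠ ⊥
  /-- quadratic action -/
  Bq : ∀ b ∈ B, ∀ b' ∈ B, ∀ w : W, ρ b' (ρ b w * w⁻¹) = ρ b w * w⁻¹
  Aq : ∀ a ∈ A, ∀ a' ∈ A, ∀ w : W, ρ a' (ρ a w * w⁻¹) = ρ a w * w⁻¹
  g_not : g ∉ M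
  /-- `A` moves the line `gM` -/
  A_not : ∃ a ∈ A, g⁻¹ * a * g ∉ M
  /-- inequality (I): `|W : C_W(B)| ≤ |A : N_A(V')| |N : C_N(B)|` -/
  ineq : (CS ρ B).index ≤ ((M.map (MulAut.conj g).toMonoidHom).relIndex A) *
    ((CS ρ B).relIndex N)
  /-- `V` is not FF: for `N' ≤ N` not centralising `V'`, `|V' : C_{V'}(N')| = |B : C_B(N')| ≥ 2 |N' : C_{N'}(B)|` -/
  nff : ∀ N' : Subgroup W, N' ≤ N → ¬ N' ≤ CS ρ B → ∀ B' : Subgroup H, B' ≤ B → (∀ b ∈ B', ∀ n ∈ N', ρ b n = n) →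
    2 * (CS ρ B).relIndex N' ≤ B'.relIndex B
  /-- (CP): `y` of odd order, inverted by some `b' ∈ B`, centralises no `[h, b] ≠ 1`, `h ∈ N`, `b ∈ B` -/
  cp : ∀ h ∈ N, ∀ b ∈ B, ∀ b' ∈ B, ∀ y ∈ C, Odd (orderOf y) → y ≠ 1 → b' * y * b'⁻¹ = y⁻¹ →
    ρ y (ρ b h * h⁻¹) = ρ b h * h⁻¹ → ρ b h = h

end Cfsg.Agent.OddCyclic.EmpNSDefs
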