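import Cfsg.Agent.OddCyclic.EmpNSAct

/-!
# (Empty), `V` not FF: `Dir` of `EmpNSDefs` for a line on `r`

`p = P`, `r = gP`, `V' = cj (g * x) V` a line on `r` (`x ∈ P`) with `W_p ≰ N(V')`, `V' ≰ K_p`:
`B = im r V'`, `A = im r (cj g⁻¹ W)`, `N = imw π N(V')`, coset `r x`.

* `mk_dir`;
* `two_of_le`, `two_of_nff` : (2) from `|B| ≤ |Wt : C(B)|`.
-/

set_option autoImplicit false
set_option linter.unusedSectionVars false

namespace Cfsg.Agent.OddCyclic.EmpNSDir

open Subgroup Cfsg Cfsg.Agent.ZN Cfsg.Agent.ZN.ChoiceBase Cfsg.Agent.ZN.ChoiceSit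
open Cfsg.Agent.MinSimple Cfsg.Agent.MinSimple.EmptyTI Cfsg.Agent.MinSimple.EmptySix
open Cfsg.Agent.MinSimple.EmptyE.Closed (LL CC cl mem_cl cl_eq cl_le vv_comm vv_sq vv_mul_self vv_inv
  isPGroup_vv vv_le_jj vv_le jj_le_centralizer_vv conj_mem_vv cj_vv)
open Cfsg.Agent.OddCyclic.EmpFrame
open Cfsg.Agent.OddCyclic.EmpNSBase
open Cfsg.Agent.OddCyclic.EmpNSBase.FP (vv_le_uu ww_le_uu vp_le_ww P_le_uu P_le_ww cj_vv_le_uu cj_vp_le_ww vp_le kk_le_P)
open Cfsg.Agent.OddCyclic.EmpNSCrit Cfsg.Agent.OddCyclic.EmpNSPair Cfsg.Agent.OddCyclic.EmpNSRep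
open Cfsg.Agent.OddCyclic.EmpNSDefs Cfsg.Agent.OddCyclic.EmpNSAct
open Cfsg.Agent.OddCyclic.T1Module (CS mem_CS)

universe u v

variable {G : Type u} [Group G] [Finite G] {S : Sylow 2 G} {F T P Θ : Subgroup G} {g : G}
variable {H : Type v} [Group H] [Finite H] {M : Type v} [CommGroup M] [Finite M]
  {ρ : H →* MulAut M} {r : P →* H} {π : ww (S : Subgroup G) F T P →* M}

theorem line_sq (k : G) : ∀ v ∈ cj k (vv (S : Subgroup G)), v * v = 1 := by
  rintro _ ⟨v, hv, rfl⟩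
  rw [← map_mul, vv_mul_self hv, map_one]

/-- lifting an element of odd order -/
theorem exists_odd_lift {A : Type*} {B : Type*} [Group A] [Finite A] [Group B] (φ : A →* B) {a : A} {y : B}
    (ha : φ a = y) (hy : Odd (orderOf y)) : ∃ n : ℕ, Odd (orderOf (a ^ n)) ∧ φ (a ^ n) = y := by
  -- `|a| = 2^k m`, `m` odd; `n ≡ 0 (2^k)`, `n ≡ 1 (m)`
  obtain ⟨k, m, hm, hkm⟩ := Nat.exists_eq_two_pow_mul_odd (orderOf_pos a).ne'
  have hco : Nat.Coprime (2 ^ k) m := Nat.Coprime.pow_left k (Nat.coprime_two_left.2 hm)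
  obtain ⟨n, hn1, hn2⟩ := Nat.chineseRemainder hco 0 1
  have hdvd : 2 ^ k ∣ n := (Nat.modEq_zero_iff_dvd).1 hn1
  refine ⟨n, ?_, ?_⟩
  · have h1 : orderOf (a ^ n) ∣ m := by
      apply orderOf_dvd_of_pow_eq_one
      rw [← pow_mul]
      apply orderOf_dvd_iff_pow_eq_one.1
      rw [hkm]
      exact Nat.mul_dvd_mul hdvd dvd_rfl
    exact Odd.of_dvd_nat hm h1
  · rw [map_pow, ha]
    have h1 : orderOf y ∣ m := by
      have h2 : orderOf y ∣ 2 ^ k * m := by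
        rw [← hkm, ← ha]
        exact orderOf_map_dvd φ a
      exact (Nat.Coprime.dvd_of_dvd_mul_left (Nat.Coprime.pow_right k (Nat.coprime_two_right.2 hy)) h2)
    have h2 : n ≡ 1 [MOD orderOf y] := hn2.of_dvd h1
    have h3 := (pow_eq_pow_iff_modEq (x := y)).2 h2
    rw [h3, pow_one]

section

variable (h : FP S F T P) (c : Crit S F T P Θ g) (R : Rp P (ww (S : Subgroup G) F T P) F ρ r π)
include h c R

/-- `C_{Wt}(B)` for `B = im r V'`, on elements of `N_W(V')` -/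
theorem fix_iff_comm {x : G} (hx : x ∈ P)
    (hnc : ¬ cj (g * x) (vv (S : Subgroup G)) ≤ centralizer (uu (S : Subgroup G) P : Set G))
    {v w : G} (hv : v ∈ cj (g * x) (vv (S : Subgroup G))) (hw : w ∈ ww (S : Subgroup G) F T P)
    (hwn : w ∈ normalizer (cj (g * x) (vv (S : Subgroup G)) : Set G)) :
    ρ (r ⟨v, line_le_P h c hx hv⟩) (π ⟨w, hw⟩) = π ⟨w, hw⟩ ↔ v * w = w * v := by
  have hvP := line_le_P h c hx hv
  rw [Rp.fix_iff R hvP hw (conj_ww hvP hw)]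
  constructor
  · intro h1
    have h2 : v * w * v⁻¹ * w⁻¹ ∈ cj (g * x) (vv (S : Subgroup G)) := by
      have hv' : v⁻¹ ∈ cj (g * x) (vv (S : Subgroup G)) := inv_mem hv
      have h3 := (mem_normalizer_iff.1 hwn v⁻¹).1 hv'
      have e : v * w * v⁻¹ * w⁻¹ = v * (w * v⁻¹ * w⁻¹) := by group
      rw [e]
      exact mul_mem hv h3
    have h3 : v * w * v⁻¹ * w⁻¹ ∈ F ⊓ cj (g * x) (vv (S : Subgroup G)) := ⟨h1, h2⟩
    rw [inf_F h hnc, mem_bot] at h3
    calc v * w = v * w * v⁻¹ * w⁻¹ * (w * v) := by group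
      _ = w * v := by rw [h3, one_mul]
  · intro h1
    rw [h1, mul_inv_cancel_right, mul_inv_cancel]
    exact one_mem _

/-- a line moved by `W_p` does not centralise `U_p` -/
theorem not_cent {x : G}
    (nx : ¬ ww (S : Subgroup G) F T P ≤ centralizer (cj (g * x) (vv (S : Subgroup G)) : Set G)) :
    ¬ cj (g * x) (vv (S : Subgroup G)) ≤ centralizer (uu (S : Subgroup G) P : Set G) := fun h1 =>
  nx (ww_le_uu.trans (le_centralizer_iff.1 h1))

/-- preimages of subgroups `N'` of `imw π N(V')` -/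
theorem pre_le {x : G} (hx : x ∈ P) {N' : Subgroup M}
    (hN' : N' ≤ imw π (normalizer (cj (g * x) (vv (S : Subgroup G)) : Set G))) :
    (N'.comap π).map (ww (S : Subgroup G) F T P).subtype ≤ normalizer (cj (g * x) (vv (S : Subgroup G)) : Set G) := by
  rintro _ ⟨⟨w, hw⟩, hwN, rfl⟩
  obtain ⟨w', hw', hwn', e⟩ := mem_imw.1 (hN' hwN)
  rw [Rp.eq_iff R] at e
  have hF : F ≤ normalizer (cj (g * x) (vv (S : Subgroup G)) : Set G) := by
    refine le_trans ?_ (centralizer_le_normalizer _)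
    rw [le_centralizer_iff]
    exact (line_le hx).trans (cj_uu_le_cent_F h c)
  have h1 := mul_mem (inv_mem (hF e)) hwn'
  have e2 : (w' * w⁻¹)⁻¹ * w' = w := by group
  rwa [e2] at h1

theorem relIndex_pre {x : G} (hx : x ∈ P)
    (hnc : ¬ cj (g * x) (vv (S : Subgroup G)) ≤ centralizer (uu (S : Subgroup G) P : Set G)) {N' : Subgroup M}
    (hN' : N' ≤ imw π (normalizer (cj (g * x) (vv (S : Subgroup G)) : Set G))) :
    (CS ρ (im r (cj (g * x) (vv (S : Subgroup G))))).relIndex N' =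
      (centralizer (cj (g * x) (vv (S : Subgroup G)) : Set G)).relIndex
        ((N'.comap π).map (ww (S : Subgroup G) F T P).subtype) := by
  have e1 : N' = (N'.comap π).map π := (map_comap_eq_self_of_surjective R.π_surj N').symm
  conv_lhs => rw [e1]
  rw [← relIndex_comap, ← relIndex_comap, ← inf_relIndex_right, ← inf_relIndex_right (comap _ _)]
  congr 1
  ext ⟨w, hw⟩
  rw [mem_inf, mem_inf]
  refine and_congr_left fun hwN => ?_
  have hwn : w ∈ normalizer (cj (g * x) (vv (S : Subgroup G)) : Set G) :=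
    pre_le h c R hx hN' ⟨⟨w, hw⟩, hwN, rfl⟩
  rw [mem_comap, mem_CS, mem_comap]
  constructor
  · intro h1
    rw [coe_subtype, mem_centralizer_iff]
    intro v hv
    have hv : v ∈ cj (g * x) (vv (S : Subgroup G)) := hv
    exact (fix_iff_comm h c R hx hnc hv hw hwn).1 (h1 _ (mem_im_of _ hv))
  · intro h1 b hb
    obtain ⟨v, hvP, hv, rfl⟩ := mem_im.1 hb
    exact (fix_iff_comm h c R hx hnc hv hw hwn).2 (mem_centralizer_iff.1 h1 v hv)

/-- indices in `B = im r V'` -/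
theorem relIndex_im {X : Subgroup G} {x : G} (hx : x ∈ P) {B' : Subgroup H}
    (hX : ∀ v (hv : v ∈ cj (g * x) (vv (S : Subgroup G))), r ⟨v, line_le_P h c hx hv⟩ ∈ B' → v ∈ X) :
    X.relIndex (cj (g * x) (vv (S : Subgroup G))) ≤ B'.relIndex (im r (cj (g * x) (vv (S : Subgroup G)))) := by
  have e2 : B'.relIndex (im r (cj (g * x) (vv (S : Subgroup G)))) =
      (B'.comap r).relIndex ((cj (g * x) (vv (S : Subgroup G))).subgroupOf P) := (relIndex_comap _ _ _).symm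
  rw [e2, ← relIndex_subgroupOf (line_le_P h c hx), ← inf_relIndex_right (comap r B')]
  refine relIndex_le_of_le_left ?_ index_ne_zero_of_finite
  rintro ⟨v, hvP⟩ ⟨h1, h2⟩
  exact hX v h2 h1

theorem mk_ineq {x : G} (hx : x ∈ P) :
    (CS ρ (im r (cj (g * x) (vv (S : Subgroup G))))).index ≤
      (((im r (LL (S : Subgroup G))).map (MulAut.conj (r ⟨x, hx⟩)).toMonoidHom).relIndex
        (im r (cj g⁻¹ (ww (S : Subgroup G) F T P)))) *
      (CS ρ (im r (cj (g * x) (vv (S : Subgroup G))))).relIndex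
        (imw π (normalizer (cj (g * x) (vv (S : Subgroup G)) : Set G))) := by
  obtain ⟨C, hC⟩ : ∃ C, C = CS ρ (im r (cj (g * x) (vv (S : Subgroup G)))) := ⟨_, rfl⟩
  rw [← hC]
  have hWP : cj g⁻¹ (ww (S : Subgroup G) F T P) ≤ P := (cj_mono _ ww_le_uu).trans (cj_uu_le_P h c.symm)
  -- the index of `N`
  have h1 : (imw π (normalizer (cj (g * x) (vv (S : Subgroup G)) : Set G))).index ≤
      ((im r (LL (S : Subgroup G))).map (MulAut.conj (r ⟨x, hx⟩)).toMonoidHom).relIndex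
        (im r (cj g⁻¹ (ww (S : Subgroup G) F T P))) := by
    have e1 : ((im r (LL (S : Subgroup G))).map (MulAut.conj (r ⟨x, hx⟩)).toMonoidHom).comap r =
        (cj x (LL (S : Subgroup G))).subgroupOf P := by
      ext ⟨p, hp⟩
      rw [mem_comap, mem_subgroupOf, mem_cj, mem_cj]
      have e : (r ⟨x, hx⟩)⁻¹ * r ⟨p, hp⟩ * r ⟨x, hx⟩ =
          r ⟨x⁻¹ * p * x, mul_mem (mul_mem (inv_mem hx) hp) hx⟩ := by
        rw [← map_inv, ← map_mul, ← map_mul]
        rfl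
      rw [e, mem_im_iff h R h.kk_le_LL]
    rw [im, im, ← relIndex_comap]
    have e1' : ((map r ((LL (S : Subgroup G)).subgroupOf P)).map (MulAut.conj (r ⟨x, hx⟩)).toMonoidHom).comap r =
        (cj x (LL (S : Subgroup G))).subgroupOf P := e1
    rw [e1', relIndex_subgroupOf hWP]
    have e2 : (cj x (LL (S : Subgroup G))).relIndex (cj g⁻¹ (ww (S : Subgroup G) F T P)) =
        (normalizer (cj (g * x) (vv (S : Subgroup G)) : Set G)).relIndex (ww (S : Subgroup G) F T P) := by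
      have h4 := relIndex_map_map_of_injective (cj x (LL (S : Subgroup G))) (cj g⁻¹ (ww (S : Subgroup G) F T P))
        (f := (MulAut.conj g).toMonoidHom) (MulAut.conj g).injective
      have e3 : (cj g⁻¹ (ww (S : Subgroup G) F T P)).map (MulAut.conj g).toMonoidHom = ww (S : Subgroup G) F T P := by
        show cj g (cj g⁻¹ (ww (S : Subgroup G) F T P)) = _
        rw [cj_cj_inv]
      have e4 : (cj x (LL (S : Subgroup G))).map (MulAut.conj g).toMonoidHom =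
          normalizer (cj (g * x) (vv (S : Subgroup G)) : Set G) := by
        show cj g (cj x (LL (S : Subgroup G))) = _
        rw [cj_cj, ← cj_normalizer]
      rw [e3, e4] at h4
      exact h4.symm
    rw [e2]
    exact Nat.le_of_dvd (Nat.pos_of_ne_zero index_ne_zero_of_finite) (index_map_dvd _ R.π_surj)
  obtain ⟨N, hN⟩ : ∃ N, N = imw π (normalizer (cj (g * x) (vv (S : Subgroup G)) : Set G)) := ⟨_, rfl⟩
  rw [← hN] at h1 ⊢
  have h2 : C.index ≤ (C ⊓ N).index :=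
    Nat.le_of_dvd (Nat.pos_of_ne_zero index_ne_zero_of_finite) (index_dvd_of_le inf_le_left)
  have h3 := relIndex_mul_index (H := C ⊓ N) (K := N) inf_le_right
  rw [inf_relIndex_right] at h3
  calc C.index ≤ (C ⊓ N).index := h2
    _ = C.relIndex N * N.index := h3.symm
    _ = N.index * C.relIndex N := mul_comm _ _
    _ ≤ _ := Nat.mul_le_mul_right _ h1

/-- (CP) -/
theorem mk_cp {x : G} (hx : x ∈ P)
    (hnc : ¬ cj (g * x) (vv (S : Subgroup G)) ≤ centralizer (uu (S : Subgroup G) P : Set G)) :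
    ∀ n ∈ imw π (normalizer (cj (g * x) (vv (S : Subgroup G)) : Set G)),
      ∀ b ∈ im r (cj (g * x) (vv (S : Subgroup G))), ∀ b' ∈ im r (cj (g * x) (vv (S : Subgroup G))),
      ∀ y ∈ im r (centralizer (F : Set G)), Odd (orderOf y) → y ≠ 1 → b' * y * b'⁻¹ = y⁻¹ →
      ρ y (ρ b n * n⁻¹) = ρ b n * n⁻¹ → ρ b n = n := by
  intro n hn b hb b' hb' y hy hyo hy1 hby hfix
  obtain ⟨w, hw, hwn, rfl⟩ := mem_imw.1 hn
  obtain ⟨v, hvP, hv, rfl⟩ := mem_im.1 hb
  obtain ⟨v', hvP', hv', rfl⟩ := mem_im.1 hb'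
  obtain ⟨z₀, hz₀P, hz₀F, hz₀⟩ := mem_im.1 hy
  -- an odd order lift of `y` in `C_P(F)`
  obtain ⟨z, hzP, hzF, hzo, rfl⟩ : ∃ z, ∃ hz : z ∈ P, z ∈ centralizer (F : Set G) ∧ Odd (orderOf z) ∧
      r ⟨z, hz⟩ = y := by
    obtain ⟨k, hk1, hk2⟩ := exists_odd_lift r hz₀ hyo
    refine ⟨z₀ ^ k, pow_mem hz₀P k, pow_mem hz₀F k, ?_, hk2⟩
    rw [← orderOf_coe] at hk1
    exact hk1
  -- `c = [v, w] ∈ V' ∩ W`
  have hc1 : v * w * v⁻¹ * w⁻¹ ∈ cj (g * x) (vv (S : Subgroup G)) := by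
    have hvi : v⁻¹ ∈ cj (g * x) (vv (S : Subgroup G)) := inv_mem hv
    have h3 := (mem_normalizer_iff.1 hwn v⁻¹).1 hvi
    have e : v * w * v⁻¹ * w⁻¹ = v * (w * v⁻¹ * w⁻¹) := by group
    rw [e]
    exact mul_mem hv h3
  have hvw := conj_ww hvP hw
  have hcW : v * w * v⁻¹ * w⁻¹ ∈ ww (S : Subgroup G) F T P := mul_mem hvw (inv_mem hw)
  obtain ⟨c', hc'⟩ : ∃ c', c' = v * w * v⁻¹ * w⁻¹ := ⟨_, rfl⟩
  rw [Rp.comm_eq R hvP hw hvw, Rp.fix_iff R hzP hcW (conj_ww hzP hcW)] at hfix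
  rw [Rp.fix_iff R hvP hw hvw]
  rw [← hc'] at hc1 hcW hfix ⊢
  suffices hc0 : c' = 1 by
    rw [hc0]; exact one_mem _
  by_contra hcne
  -- `z` centralises `c'`
  have hzc : z * c' = c' * z := by
    obtain ⟨f, hf⟩ : ∃ f, f = z * c' * z⁻¹ * c'⁻¹ := ⟨_, rfl⟩
    rw [← hf] at hfix
    have hfz : f * z = z * f := mem_centralizer_iff.1 hzF f hfix
    have hfc : f * c' = c' * f := h.ww_comm (h.F_le_ww hfix) hcW
    have h1 : z * c' = f * c' * z := by rw [hf]; group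
    have h2 : ∀ k : ℕ, z ^ k * c' = f ^ k * c' * z ^ k := by
      intro k
      induction k with
      | zero => simp
      | succ k ih =>
        have h3 : z * f ^ k = f ^ k * z := by
          have h4 : Commute f z := hfz
          exact (h4.pow_left k).eq.symm
        calc z ^ (k + 1) * c' = z * (z ^ k * c') := by rw [pow_succ']; group
          _ = z * f ^ k * c' * z ^ k := by rw [ih]; group
          _ = f ^ k * (z * c') * z ^ k := by rw [h3]; group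
          _ = f ^ k * (f * c' * z) * z ^ k := by rw [h1]
          _ = f ^ (k + 1) * c' * z ^ (k + 1) := by rw [pow_succ f, pow_succ' z]; group
    have h3 := h2 (orderOf z)
    rw [pow_orderOf_eq_one, one_mul, mul_one] at h3
    have h4 : f ^ orderOf z = 1 := by
      have h5 : f ^ orderOf z * c' = 1 * c' := by rw [one_mul]; exact h3.symm
      exact mul_right_cancel h5
    have hf2 : f ^ 2 = 1 := by rw [sq]; exact h.ww_sq (h.F_le_ww hfix)
    have hf1 : f = 1 := by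
      have h5 : orderOf f ∣ 2 := orderOf_dvd_of_pow_eq_one hf2
      have h6 : orderOf f ∣ orderOf z := orderOf_dvd_of_pow_eq_one h4
      have h7 : orderOf f ∣ Nat.gcd 2 (orderOf z) := Nat.dvd_gcd h5 h6
      rw [(Nat.coprime_two_left.2 hzo).gcd_eq_one] at h7
      exact orderOf_eq_one_iff.1 (Nat.dvd_one.1 h7)
    rw [h1, hf1, one_mul]
  -- `V'` and `V'^z` commute
  have h1 : cj (g * x) (vv (S : Subgroup G)) ⊓ cj (z * (g * x)) (vv (S : Subgroup G)) ≠ ⊥ := by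
    intro h0
    apply hcne
    rw [← mem_bot, ← h0]
    refine ⟨hc1, ?_⟩
    show c' ∈ cj (z * (g * x)) (vv (S : Subgroup G))
    rw [← cj_cj, mem_cj]
    have e : z⁻¹ * c' * z = c' := by
      rw [mul_assoc, ← hzc]; group
    rw [e]
    exact hc1
  have h2 := star' h _ _ h1
  have h3 : z * v' * z⁻¹ ∈ cj (z * (g * x)) (vv (S : Subgroup G)) := by
    rw [← cj_cj, mem_cj]
    have e : z⁻¹ * (z * v' * z⁻¹) * z = v' := by group
    rw [e]
    exact hv'
  have h4 : v' * (z * v' * z⁻¹) = (z * v' * z⁻¹) * v' := mem_centralizer_iff.1 (h2 h3) v' hv'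
  -- in `H`
  obtain ⟨β, hβ⟩ : ∃ β, β = r ⟨v', hvP'⟩ := ⟨_, rfl⟩
  obtain ⟨ζ, hζ⟩ : ∃ ζ, ζ = r ⟨z, hzP⟩ := ⟨_, rfl⟩
  rw [← hβ, ← hζ] at hby
  rw [← hζ] at hyo hy1
  have h5 : β * (ζ * β * ζ⁻¹) = (ζ * β * ζ⁻¹) * β := by
    rw [hβ, hζ, ← map_inv, ← map_mul, ← map_mul, ← map_mul, ← map_mul]
    exact congrArg r (Subtype.ext h4)
  have hββ : β * β = 1 := by
    rw [hβ, ← map_mul]
    have e : (⟨v', hvP'⟩ : P) * ⟨v', hvP'⟩ = 1 := Subtype.ext (line_sq _ v' hv')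
    rw [e, map_one]
  have hβi : β⁻¹ = β := inv_eq_of_mul_eq_one_left hββ
  have hbz : β * ζ = ζ⁻¹ * β := by
    calc β * ζ = β * ζ * β⁻¹ * β := by group
      _ = ζ⁻¹ * β := by rw [hby]
  have hbz' : β * ζ⁻¹ = ζ * β := by
    have h6 := congrArg (fun t => t⁻¹) hby
    simp only [mul_inv_rev, inv_inv] at h6
    calc β * ζ⁻¹ = β * ζ⁻¹ * β⁻¹ * β := by group
      _ = (β * (ζ⁻¹ * β⁻¹)) * β := by group
      _ = ζ * β := by rw [h6]
  -- `β ζ β ζ⁻¹ = ζ⁻²`, `ζ β ζ⁻¹ β = ζ²`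
  have h6 : β * (ζ * β * ζ⁻¹) = ζ⁻¹ * ζ⁻¹ := by
    calc β * (ζ * β * ζ⁻¹) = β * ζ * β * ζ⁻¹ := by group
      _ = ζ⁻¹ * (β * β) * ζ⁻¹ := by rw [hbz]; group
      _ = ζ⁻¹ * ζ⁻¹ := by rw [hββ]; group
  have h7 : ζ * β * ζ⁻¹ * β = ζ * ζ := by
    calc ζ * β * ζ⁻¹ * β = ζ * (β * ζ⁻¹) * β := by group
      _ = ζ * ζ * (β * β) := by rw [hbz']; group
      _ = ζ * ζ := by rw [hββ, mul_one]
  rw [h6, h7] at h5
  have h8 : ζ ^ 4 = 1 := by
    calc ζ ^ 4 = ζ * ζ * (ζ * ζ) := by simp [pow_succ, mul_assoc]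
      _ = ζ⁻¹ * ζ⁻¹ * (ζ * ζ) := by rw [h5]
      _ = 1 := by group
  have h9 : orderOf ζ ∣ 4 := orderOf_dvd_of_pow_eq_one h8
  have h10 : orderOf ζ = 1 := by
    have h11 : Nat.Coprime (orderOf ζ) 4 := by
      have : (4 : ℕ) = 2 ^ 2 := by norm_num
      rw [this]
      exact Nat.Coprime.pow_right 2 (Nat.coprime_two_right.2 hyo)
    exact Nat.Coprime.eq_one_of_dvd h11 h9
  exact hy1 (orderOf_eq_one_iff.1 h10)

theorem mk_dir {x : G} (hx : x ∈ P)
    (nx : ¬ ww (S : Subgroup G) F T P ≤ normalizer (cj (g * x) (vv (S : Subgroup G)) : Set G))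
    (kx : ¬ cj (g * x) (vv (S : Subgroup G)) ≤ kk (S : Subgroup G) F T P)
    (jb : JB (cj (g * x) (vv (S : Subgroup G))) (ww (S : Subgroup G) F T P)) :
    Dir ρ (im r (LL (S : Subgroup G))) (im r (centralizer (F : Set G))) (im r Θ)
      (im r (cj (g * x) (vv (S : Subgroup G)))) (im r (cj g⁻¹ (ww (S : Subgroup G) F T P)))
      (imw π (normalizer (cj (g * x) (vv (S : Subgroup G)) : Set G))) (r ⟨x, hx⟩) := by
  have hnc : ¬ cj (g * x) (vv (S : Subgroup G)) ≤ centralizer (uu (S : Subgroup G) P : Set G) :=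
    not_cent h c R fun h1 => nx (h1.trans (centralizer_le_normalizer _))
  have hWP : cj g⁻¹ (ww (S : Subgroup G) F T P) ≤ cj g⁻¹ (uu (S : Subgroup G) P) := cj_mono _ ww_le_uu
  have hq : ∀ {k : G}, Crit S F T P Θ k → ∀ {X : Subgroup G}, X ≤ cj k (uu (S : Subgroup G) P) →
      ∀ b ∈ im r X, ∀ b' ∈ im r X, ∀ w : M, ρ b' (ρ b w * w⁻¹) = ρ b w * w⁻¹ := by
    intro k ck X hX b hb b' hb' w
    obtain ⟨v, hvP, hv, rfl⟩ := mem_im.1 hb
    obtain ⟨v', hvP', hv', rfl⟩ := mem_im.1 hb'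
    obtain ⟨⟨w, hw⟩, rfl⟩ := R.π_surj w
    have h1 := quad h ck (hX hv) (hX hv') hw
    rw [Rp.comm_eq R hvP hw (conj_ww hvP hw), Rp.fix_iff R hvP' h1.1 (conj_ww hvP' h1.1), h1.2,
      mul_inv_cancel_right, mul_inv_cancel]
    exact one_mem _
  have hs : ∀ {X : Subgroup G}, (∀ x ∈ X, x * x = 1) → ∀ b ∈ im r X, b * b = 1 := by
    intro X hX b hb
    obtain ⟨v, hvP, hv, rfl⟩ := mem_im.1 hb
    rw [← map_mul]
    have e : (⟨v, hvP⟩ : P) * ⟨v, hvP⟩ = 1 := Subtype.ext (hX v hv)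
    rw [e, map_one]
  refine ⟨hs (line_sq _), hs ?_, im_mono ((line_le hx).trans c.left), im_mono (hWP.trans c.right), ?_,
    hq c (line_le hx), hq c.symm hWP, ?_, ?_, mk_ineq h c R hx, ?_, mk_cp h c R hx hnc⟩
  · rintro _ ⟨w, hw, rfl⟩
    rw [← map_mul, h.ww_sq hw, map_one]
  · intro h0
    apply kx
    intro v hv
    rw [← r_eq_one h R (line_le_P h c hx hv), ← mem_bot, ← h0]
    exact mem_im_of _ hv
  · rw [mem_im_iff h R h.kk_le_LL]
    intro hxL
    apply nx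
    rw [← cj_cj, cj_eq_of_mem_normalizer hxL]
    exact (ww_le_uu.trans (uu_le_cent h c)).trans (centralizer_le_normalizer _)
  · obtain ⟨w, hw, hwn⟩ := SetLike.not_le_iff_exists.1 nx
    have h1 : g⁻¹ * w * g ∈ P := mem_cj.1 (uu_le_cjP h c (ww_le_uu hw))
    refine ⟨r ⟨g⁻¹ * w * g, h1⟩, mem_im_of h1 ?_, ?_⟩
    · rw [mem_cj]
      have e : g⁻¹⁻¹ * (g⁻¹ * w * g) * g⁻¹ = w := by group
      rw [e]
      exact hw
    · have e : (r ⟨x, hx⟩)⁻¹ * r ⟨g⁻¹ * w * g, h1⟩ * r ⟨x, hx⟩ =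
          r ⟨x⁻¹ * (g⁻¹ * w * g) * x, mul_mem (mul_mem (inv_mem hx) h1) hx⟩ := by
        rw [← map_inv, ← map_mul, ← map_mul]
        rfl
      rw [e, mem_im_iff h R h.kk_le_LL]
      exact fun h2 => hwn ((mem_normalizer_line h c).2 h2)
  · intro N' hN' hN'c B' hB' hB'N
    obtain ⟨N₁, hN₁⟩ : ∃ N₁, N₁ = (N'.comap π).map (ww (S : Subgroup G) F T P).subtype := ⟨_, rfl⟩
    have h1 := relIndex_pre h c R hx hnc hN'
    have h2 := pre_le h c R hx hN'
    rw [← hN₁] at h1 h2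
    have h3 : N₁ ≤ ww (S : Subgroup G) F T P := by
      rw [hN₁]
      rintro _ ⟨w, -, rfl⟩
      exact w.2
    have h4 : ¬ N₁ ≤ centralizer (cj (g * x) (vv (S : Subgroup G)) : Set G) := by
      intro h5
      apply hN'c
      rw [← relIndex_eq_one, h1]
      exact relIndex_eq_one.2 h5
    have h5 := jb N₁ h3 h2 h4
    rw [h1]
    refine h5.trans (relIndex_im h c R hx fun v hv hvB => ?_)
    rw [mem_centralizer_iff]
    intro w hw
    rw [hN₁] at hw
    obtain ⟨⟨w, hwW⟩, hwN, rfl⟩ := hw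
    have h6 : w ∈ normalizer (cj (g * x) (vv (S : Subgroup G)) : Set G) := by
      apply h2
      rw [hN₁]
      exact ⟨⟨w, hwW⟩, hwN, rfl⟩
    exact ((fix_iff_comm h c R hx hnc hv hwW h6).1 (hB'N _ hvB _ hwN)).symm

/-- (2) for the line `x` from `|B| ≤ |Wt : C(B)|` -/
theorem two_of_le {x : G} (hx : x ∈ P) (jb : JB (cj (g * x) (vv (S : Subgroup G))) (ww (S : Subgroup G) F T P))
    (hB : Nat.card (im r (cj (g * x) (vv (S : Subgroup G)))) ≤
      (CS ρ (im r (cj (g * x) (vv (S : Subgroup G))))).index)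
    (hn : ww (S : Subgroup G) F T P ≤ normalizer (cj (g * x) (vv (S : Subgroup G)) : Set G)) :
    ww (S : Subgroup G) F T P ≤ centralizer (cj (g * x) (vv (S : Subgroup G)) : Set G) := by
  by_contra hcon
  have hnc : ¬ cj (g * x) (vv (S : Subgroup G)) ≤ centralizer (uu (S : Subgroup G) P : Set G) := not_cent h c R hcon
  have h1 := jb _ le_rfl hn hcon
  have h2 : (centralizer (ww (S : Subgroup G) F T P : Set G)).relIndex (cj (g * x) (vv (S : Subgroup G))) ≤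
      (⊥ : Subgroup H).relIndex (im r (cj (g * x) (vv (S : Subgroup G)))) := by
    refine relIndex_im h c R hx fun v hv hvB => ?_
    rw [mem_bot] at hvB
    rw [mem_centralizer_iff]
    intro w hw
    refine ((fix_iff_comm h c R hx hnc hv hw (hn hw)).1 ?_).symm
    rw [hvB, map_one, MulAut.one_apply]
  rw [relIndex_bot_left] at h2
  have h3 := relIndex_pre h c R hx hnc (N' := ⊤) (by
    intro w _
    obtain ⟨⟨w, hw⟩, rfl⟩ := R.π_surj w
    exact mem_imw_of hw (hn hw))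
  have e : ((⊤ : Subgroup M).comap π).map (ww (S : Subgroup G) F T P).subtype = ww (S : Subgroup G) F T P := by
    rw [comap_top, ← MonoidHom.range_eq_map, range_subtype]
  rw [e, relIndex_top_right] at h3
  have h4 : 0 < (centralizer (cj (g * x) (vv (S : Subgroup G)) : Set G)).relIndex (ww (S : Subgroup G) F T P) :=
    Nat.pos_of_ne_zero index_ne_zero_of_finite
  rw [h3] at hB
  omega

end

end Cfsg.Agent.OddCyclic.EmpNSDir
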