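import Cfsg.Agent.OddCyclic.Om5Line
import Cfsg.Agent.OddCyclic.Om5Main

/-!
# (Empty), `V = O₄⁻(2)`: `C_G(z)` has no normal section `SL₂(q)`, `q ≥ 8`, with the natural module

`U ≤ O₂(C)`, `Y = ⟨z^⊥⟩^{B}` the preimage in `W` of the line of `Om5Line`; all conjugates of `Y` under `⟨M, B⟩` commute,
so `⟨M, B⟩` is 2-local.
-/

set_option autoImplicit false
set_option linter.unusedSectionVars false

namespace Cfsg.Agent.OddCyclic.EmpO4

open Subgroup Cfsg Cfsg.Agent.ZN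
open Cfsg.Agent.OddCyclic.Om5
open Cfsg.Agent.MinSimple.Geo (cj mem_cj conj_mem_cj cj_cj lines ws le_ws ws_le mem_lines_cj cj_ws)

universe u

variable {G : Type u} [Group G] [Finite G] {S M U : Subgroup G} {φ : M →* Equiv.Perm (Fin 5)}
  {e : Fin 5 → Fin 5 → G}

/-- The group-level form of the line data: `B ≤ C_G(z)` normalises `Y`. -/
structure LN (h : Sit0 S M U φ e) (B Y : Subgroup G) : Prop where
  BC : B ≤ CC e
  YW : ∀ y ∈ Y, ∀ y' ∈ Y, ∀ c ∈ CC e, y * (c * y' * c⁻¹) = c * y' * c⁻¹ * y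
  YC : Y ≤ CC e
  sq : ∀ y ∈ Y, y * y = 1
  z_mem : sg e 4 ∈ Y
  PY : PP h.toFrame ≤ Y
  norm : ∀ b ∈ B, ∀ y ∈ Y, b * y * b⁻¹ ∈ Y
  cls : ∀ y ∈ Y, y = 1 ∨ y = sg e 4 ∨ ∃ b ∈ B, ∃ i j, i ≠ j ∧ y = b * e i j * b⁻¹
  stab : ∀ c, (∀ u ∈ U, c * u = u * c) → c ∈ B
  big : ∀ d t, (∀ u ∈ U, d * u = u * d) → t ∈ Y → (∀ y ∈ Y, d * y * d⁻¹ = y ∨ d * y * d⁻¹ = t * y) →
    ∀ y ∈ Y, d * y * d⁻¹ = y ∨ d * y * d⁻¹ = y * sg e 4
  two : ∀ d d', (∀ u ∈ U, d * u = u * d) → (∀ u ∈ U, d' * u = u * d') → d * d = 1 → d' * d' = 1 →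
    (∀ y ∈ Y, d * y * d⁻¹ = y ∨ d * y * d⁻¹ = y * sg e 4) ∨ (∀ y ∈ Y, d' * y * d'⁻¹ = y ∨ d' * y * d'⁻¹ = y * sg e 4) ∨
      ∀ y ∈ Y, (d * d') * y * (d * d')⁻¹ = y ∨ (d * d') * y * (d * d')⁻¹ = y * sg e 4
  notM : ¬ B ≤ M

theorem perm_triv : ∀ π : Equiv.Perm (Fin 5), ((π 0 = 0 ∧ π 1 = 1) ∨ (π 0 = 1 ∧ π 1 = 0)) →
    ((π 0 = 0 ∧ π 2 = 2) ∨ (π 0 = 2 ∧ π 2 = 0)) → ((π 0 = 0 ∧ π 3 = 3) ∨ (π 0 = 3 ∧ π 3 = 0)) → π = 1 := by
  decide +kernel

/-- only the identity of `S₅` fixes `z^⊥` -/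
theorem cent_PP (h : Sit0 S M U φ e) {a : G} (ha : ∀ x ∈ PP h.toFrame, a * x = x * a) : ∀ u ∈ U, a * u = u * a := by
  have haM : a ∈ M := h.cent_e (i := 0) (j := 1) (by decide) (ha _ (e_mem_PP h.toFrame (by decide) (by decide)))
  apply h.ker ⟨a, haM⟩
  have key : ∀ i j : Fin 5, i ≠ j → i ≠ 4 → j ≠ 4 → (φ ⟨a, haM⟩ i = i ∧ φ ⟨a, haM⟩ j = j) ∨
      (φ ⟨a, haM⟩ i = j ∧ φ ⟨a, haM⟩ j = i) := by
    intro i j hij hi hj
    have h1 := h.conj ⟨a, haM⟩ i j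
    have h2 : (a : G) * e i j * (a : G)⁻¹ = e i j := by
      rw [ha _ (e_mem_PP h.toFrame hi hj), mul_inv_cancel_right]
    rw [h2] at h1
    rcases h.toFrame.e_inj hij h1 with ⟨h3, h4⟩ | ⟨h3, h4⟩
    · exact Or.inl ⟨h3.symm, h4.symm⟩
    · exact Or.inr ⟨h4.symm, h3.symm⟩
  exact perm_triv _ (key 0 1 (by decide) (by decide) (by decide)) (key 0 2 (by decide) (by decide) (by decide))
    (key 0 3 (by decide) (by decide) (by decide))

namespace LN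

variable {h : Sit0 S M U φ e} {B Y : Subgroup G}

theorem abel (l : LN h B Y) {y y' : G} (hy : y ∈ Y) (hy' : y' ∈ Y) : y * y' = y' * y := by
  have h1 := l.YW y hy y' hy' 1 (one_mem _)
  rwa [one_mul, inv_one, mul_one] at h1

/-- the conjugates of `z` in `Y` -/
theorem eq_z (l : LN h B Y) {g : G} (hg : g * sg e 4 * g⁻¹ ∈ Y) : g * sg e 4 * g⁻¹ = sg e 4 := by
  rcases l.cls _ hg with h1 | h1 | ⟨b, -, i, j, hij, h1⟩
  · exfalso
    apply h.z_ne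
    rwa [mul_inv_eq_one, mul_eq_left] at h1
  · exact h1
  · exfalso
    apply h.not_conj (k := 4) hij (g⁻¹ * b)
    calc g⁻¹ * b * e i j * (g⁻¹ * b)⁻¹ = g⁻¹ * (b * e i j * b⁻¹) * g := by group
      _ = sg e 4 := by rw [← h1]; group

/-- the local lemma -/
theorem loc (l : LN h B Y) {g : G} (h1 : ∀ y ∈ Y, ∀ u ∈ U, g * y * g⁻¹ * u = u * (g * y * g⁻¹))
    (h2 : ∀ y ∈ Y, ∀ u ∈ U, y * (g * u * g⁻¹) = g * u * g⁻¹ * y) :
    ∀ y ∈ Y, ∀ y' ∈ Y, y * (g * y' * g⁻¹) = g * y' * g⁻¹ * y := by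
  by_cases hgC : g ∈ CC e
  · intro y hy y' hy'
    exact l.YW y hy y' hy' g hgC
  -- `z' ∉ Y`
  have hz1 : g * sg e 4 * g⁻¹ ∉ Y := by
    intro h3
    apply hgC
    rw [Sit0.mem_CC]
    exact mul_inv_eq_iff_eq_mul.1 (l.eq_z h3)
  have hz2 : g⁻¹ * sg e 4 * g ∉ Y := by
    intro h3
    apply hgC
    rw [← inv_mem_iff, Sit0.mem_CC]
    have h4 : g⁻¹ * sg e 4 * g⁻¹⁻¹ = sg e 4 := l.eq_z (by rwa [inv_inv])
    exact mul_inv_eq_iff_eq_mul.1 h4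
  have h2' : ∀ y ∈ Y, ∀ u ∈ U, (g⁻¹ * y * g) * u = u * (g⁻¹ * y * g) := by
    intro y hy u hu
    have h3 := h2 y hy u hu
    calc (g⁻¹ * y * g) * u = g⁻¹ * (y * (g * u * g⁻¹)) * g := by group
      _ = g⁻¹ * (g * u * g⁻¹ * y) * g := by rw [h3]
      _ = _ := by group
  have hB1 : ∀ y ∈ Y, g * y * g⁻¹ ∈ B := fun y hy => l.stab _ (h1 y hy)
  have hB2 : ∀ y ∈ Y, g⁻¹ * y * g ∈ B := fun y hy => l.stab _ (h2' y hy)
  have hsq2 : ∀ y ∈ Y, g⁻¹ * y * g * (g⁻¹ * y * g) = 1 := by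
    intro y hy
    calc g⁻¹ * y * g * (g⁻¹ * y * g) = g⁻¹ * (y * y) * g := by group
      _ = 1 := by rw [l.sq y hy]; group
  -- `P d`: `d` acts trivially on `Y / ⟨z⟩`
  set P : G → Prop := fun d => ∀ y ∈ Y, d * y * d⁻¹ = y ∨ d * y * d⁻¹ = y * sg e 4 with hP
  -- elements of `E` commute with all conjugates
  have hE : ∀ y ∈ Y, P (g⁻¹ * y * g) → ∀ y' ∈ Y, y * (g * y' * g⁻¹) = g * y' * g⁻¹ * y := by
    intro y hy hp y' hy'
    rcases hp y' hy' with h3 | h3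
    · have h4 : y * (g * y' * g⁻¹) * y⁻¹ = g * y' * g⁻¹ := by
        calc y * (g * y' * g⁻¹) * y⁻¹ = g * ((g⁻¹ * y * g) * y' * (g⁻¹ * y * g)⁻¹) * g⁻¹ := by group
          _ = _ := by rw [h3]
      exact mul_inv_eq_iff_eq_mul.1 h4
    · exfalso
      apply hz1
      have h4 : y * (g * y' * g⁻¹) * y⁻¹ = g * y' * g⁻¹ * (g * sg e 4 * g⁻¹) := by
        calc y * (g * y' * g⁻¹) * y⁻¹ = g * ((g⁻¹ * y * g) * y' * (g⁻¹ * y * g)⁻¹) * g⁻¹ := by group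
          _ = g * (y' * sg e 4) * g⁻¹ := by rw [h3]
          _ = _ := by group
      have h5 : g * sg e 4 * g⁻¹ = (g * y'⁻¹ * g⁻¹ * y * (g * y'⁻¹ * g⁻¹)⁻¹) * y⁻¹ := by
        calc g * sg e 4 * g⁻¹ = (g * y' * g⁻¹)⁻¹ * (g * y' * g⁻¹ * (g * sg e 4 * g⁻¹)) := by group
          _ = (g * y' * g⁻¹)⁻¹ * (y * (g * y' * g⁻¹) * y⁻¹) := by rw [h4]
          _ = _ := by group
      rw [h5]
      exact mul_mem (l.norm _ (hB1 _ (inv_mem hy')) y hy) (inv_mem hy)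
  intro y hy y0 hy0
  by_cases hall : ∀ y ∈ Y, P (g⁻¹ * y * g)
  · exact hE y hy (hall y hy) y0 hy0
  push Not at hall
  obtain ⟨y1, hy1, hy1P⟩ := hall
  set a := g * y0 * g⁻¹ with ha
  have haY : ∀ y ∈ Y, a * y * a⁻¹ ∈ Y := fun y hy => l.norm _ (hB1 y0 hy0) y hy
  -- `a` acts trivially on `Y / ⟨z⟩`
  have hPa : P a := by
    refine l.big a ((a * y1 * a⁻¹)⁻¹ * y1) (h1 y0 hy0) (mul_mem (inv_mem (haY y1 hy1)) hy1) ?_
    intro y hy
    by_cases hyP : P (g⁻¹ * y * g)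
    · left
      have h3 := hE y hy hyP y0 hy0
      change a * y * a⁻¹ = y
      rw [← h3, mul_inv_cancel_right]
    · right
      have h3 : P (g⁻¹ * (y1 * y) * g) := by
        rcases l.two _ _ (h2' y1 hy1) (h2' y hy) (hsq2 y1 hy1) (hsq2 y hy) with h4 | h4 | h4
        · exact absurd h4 hy1P
        · exact absurd h4 hyP
        · have e1 : g⁻¹ * (y1 * y) * g = g⁻¹ * y1 * g * (g⁻¹ * y * g) := by group
          rw [e1]; exact h4
      have h4 := hE _ (mul_mem hy1 hy) h3 y0 hy0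
      have h5 : a * (y1 * y) * a⁻¹ = y1 * y := by
        rw [← h4, mul_inv_cancel_right]
      calc a * y * a⁻¹ = (a * y1 * a⁻¹)⁻¹ * (a * (y1 * y) * a⁻¹) := by group
        _ = (a * y1 * a⁻¹)⁻¹ * y1 * y := by rw [h5]; group
  rcases hPa y hy with h3 | h3
  · exact (mul_inv_eq_iff_eq_mul.1 h3).symm
  · exfalso
    apply hz2
    have h4 : sg e 4 = y⁻¹ * a * y * a⁻¹ := by
      calc sg e 4 = y⁻¹ * (y * sg e 4) := by group
        _ = y⁻¹ * (a * y * a⁻¹) := by rw [h3]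
        _ = _ := by group
    have h5 : g⁻¹ * sg e 4 * g = (g⁻¹ * y⁻¹ * g) * y0 * (g⁻¹ * y⁻¹ * g)⁻¹ * y0⁻¹ := by
      rw [h4, ha]; group
    rw [h5]
    exact mul_mem (l.norm _ (hB2 _ (inv_mem hy)) y0 hy0) (inv_mem hy0)

/-- words in `M` and `B` -/
inductive Wd (M B : Subgroup G) : ℕ → G → Prop
  | one : Wd M B 0 1
  | cons {n : ℕ} {g m b : G} (hm : m ∈ M) (hb : b ∈ B) (hg : Wd M B n g) : Wd M B (n + 1) (m * b * g)

theorem Wd.last {M B : Subgroup G} : ∀ {n : ℕ} {g : G}, Wd M B (n + 1) g →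
    ∃ g' m b, Wd M B n g' ∧ m ∈ M ∧ b ∈ B ∧ g = g' * m * b := by
  intro n
  induction n with
  | zero =>
    intro g hg
    cases hg with
    | cons hm hb hg' =>
      cases hg'
      exact ⟨1, _, _, Wd.one, hm, hb, by group⟩
  | succ n ih =>
    intro g hg
    cases hg with
    | @cons _ g1 m b hm hb hg' =>
      obtain ⟨g', m', b', h1, h2, h3, h4⟩ := ih hg'
      exact ⟨m * b * g', m', b', Wd.cons hm hb h1, h2, h3, by rw [h4]; group⟩

/-- **the F-trick**: all conjugates of `Y` under words commute -/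
theorem comm_of_wd (l : LN h B Y) : ∀ (n : ℕ) (g : G), Wd M B n g → ∀ y ∈ Y, ∀ y' ∈ Y,
    y * (g * y' * g⁻¹) = g * y' * g⁻¹ * y := by
  intro n
  induction n with
  | zero =>
    intro g hg y hy y' hy'
    cases hg
    rw [one_mul, inv_one, mul_one]
    exact l.abel hy hy'
  | succ n ih =>
    intro g hg
    -- the last letter `b₂ ∈ B` may be dropped
    obtain ⟨g₂, m₂, b₂, hw₂, hm₂, hb₂, hg₂⟩ := hg.last
    have hYb : ∀ {b : G}, b ∈ B → ∀ y ∈ Y, b⁻¹ * y * b ∈ Y := by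
      intro b hb y hy
      have h3 := l.norm _ (inv_mem hb) y hy
      rwa [inv_inv] at h3
    have hloc := l.loc (g := g₂ * m₂) ?_ ?_
    · intro y hy y' hy'
      have h3 := hloc y hy (b₂ * y' * b₂⁻¹) (l.norm _ hb₂ y' hy')
      have e1 : g₂ * m₂ * (b₂ * y' * b₂⁻¹) * (g₂ * m₂)⁻¹ = g * y' * g⁻¹ := by rw [hg₂]; group
      rwa [e1] at h3
    · -- `Y^{g₂ m₂}` centralises `U`
      intro y' hy' u hu
      cases hg with
      | @cons _ g₁ m b hm hb hw₁ =>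
        -- `Y^g` commutes with `Y^m`
        have h3 : ∀ y ∈ Y, (m * y * m⁻¹) * (g₂ * m₂ * y' * (g₂ * m₂)⁻¹) = g₂ * m₂ * y' * (g₂ * m₂)⁻¹ * (m * y * m⁻¹) := by
          intro y hy
          have h4 := ih g₁ hw₁ (b⁻¹ * y * b) (hYb hb y hy) (b₂⁻¹ * y' * b₂) (hYb hb₂ y' hy')
          have e1 : g₂ * m₂ * y' * (g₂ * m₂)⁻¹ = m * b * (g₁ * (b₂⁻¹ * y' * b₂) * g₁⁻¹) * (m * b)⁻¹ := by
            have e2 : g₂ * m₂ = m * b * g₁ * b₂⁻¹ := by rw [hg₂]; group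
            rw [e2]; group
          rw [e1]
          calc (m * y * m⁻¹) * (m * b * (g₁ * (b₂⁻¹ * y' * b₂) * g₁⁻¹) * (m * b)⁻¹)
              = m * b * ((b⁻¹ * y * b) * (g₁ * (b₂⁻¹ * y' * b₂) * g₁⁻¹)) * (m * b)⁻¹ := by group
            _ = m * b * ((g₁ * (b₂⁻¹ * y' * b₂) * g₁⁻¹) * (b⁻¹ * y * b)) * (m * b)⁻¹ := by rw [h4]
            _ = _ := by group
        -- so does `m⁻¹ a m` with `z^⊥`
        set a := g₂ * m₂ * y' * (g₂ * m₂)⁻¹ with ha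
        have h4 : ∀ u ∈ U, (m⁻¹ * a * m) * u = u * (m⁻¹ * a * m) := by
          apply cent_PP h
          intro x hx
          have h5 := h3 x (l.PY hx)
          calc (m⁻¹ * a * m) * x = m⁻¹ * (a * (m * x * m⁻¹)) * m := by group
            _ = m⁻¹ * (m * x * m⁻¹ * a) * m := by rw [h5]
            _ = _ := by group
        have hu' : m⁻¹ * u * m ∈ U := by
          have := h.toFrame.mem_conj (inv_mem hm) hu
          rwa [inv_inv] at this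
        have h5 := h4 _ hu'
        calc a * u = m * ((m⁻¹ * a * m) * (m⁻¹ * u * m)) * m⁻¹ := by group
          _ = m * ((m⁻¹ * u * m) * (m⁻¹ * a * m)) * m⁻¹ := by rw [h5]
          _ = _ := by group
    · -- `Y` centralises `U^{g₂ m₂}`
      intro y hy u hu
      have h3 : ∀ u ∈ U, (g₂⁻¹ * y * g₂) * u = u * (g₂⁻¹ * y * g₂) := by
        apply cent_PP h
        intro x hx
        have h4 := ih g₂ hw₂ y hy x (l.PY hx)
        calc (g₂⁻¹ * y * g₂) * x = g₂⁻¹ * (y * (g₂ * x * g₂⁻¹)) * g₂ := by group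
          _ = g₂⁻¹ * (g₂ * x * g₂⁻¹ * y) * g₂ := by rw [h4]
          _ = _ := by group
      have h4 := h3 _ (h.toFrame.mem_conj hm₂ hu)
      calc y * (g₂ * m₂ * u * (g₂ * m₂)⁻¹) = g₂ * ((g₂⁻¹ * y * g₂) * (m₂ * u * m₂⁻¹)) * g₂⁻¹ := by group
        _ = g₂ * ((m₂ * u * m₂⁻¹) * (g₂⁻¹ * y * g₂)) * g₂⁻¹ := by rw [h4]
        _ = _ := by group

/-- every element of `⟨M, B⟩` is a word -/
theorem exists_wd {M B : Subgroup G} {g : G} (hg : g ∈ M ⊔ B) : ∃ n, Wd M B n g := by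
  have h1 : M ⊔ B = closure ((M : Set G) ∪ B) := by rw [Subgroup.closure_union, Subgroup.closure_eq, Subgroup.closure_eq]
  rw [h1] at hg
  have key : ∀ x ∈ (M : Set G) ∪ B, ∀ y, (∃ n, Wd M B n y) → ∃ n, Wd M B n (x * y) := by
    rintro x (hx | hx) y ⟨n, hn⟩
    · refine ⟨n + 1, ?_⟩
      have := Wd.cons (m := x) (b := 1) hx (one_mem B) hn
      rwa [mul_one] at this
    · refine ⟨n + 1, ?_⟩
      have := Wd.cons (m := 1) (b := x) (one_mem M) hx hn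
      rwa [one_mul] at this
  refine Subgroup.closure_induction_left (p := fun g _ => ∃ n, Wd M B n g) ⟨0, Wd.one⟩ ?_ ?_ hg
  · intro x hx y _ hy
    exact key x hx y hy
  · intro x hx y _ hy
    refine key x⁻¹ ?_ y hy
    rcases hx with hx | hx
    · exact Or.inl (inv_mem hx)
    · exact Or.inr (inv_mem hx)

/-- **`⟨M, B⟩` is 2-local** -/
theorem exists_normal (l : LN h B Y) : ∃ R : Subgroup G, R ≠ ⊥ ∧ IsPGroup 2 R ∧ M ≤ normalizer (R : Set G) ∧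
    B ≤ normalizer (R : Set G) := by
  set K := M ⊔ B with hK
  let A : Set (Subgroup G) := {H | ∃ g ∈ K, H = cj g Y}
  have hcomm : ∀ g ∈ K, ∀ y ∈ Y, ∀ y' ∈ Y, y * (g * y' * g⁻¹) = g * y' * g⁻¹ * y := by
    intro g hg
    obtain ⟨n, hn⟩ := exists_wd hg
    exact l.comm_of_wd n g hn
  have hA : (∀ x ∈ sSup A, ∀ y ∈ sSup A, x * y = y * x) ∧ ∀ x ∈ sSup A, x * x = 1 := by
    apply elem_sSup
    · rintro _ ⟨g, hg, rfl⟩ _ ⟨g', hg', rfl⟩ _ ⟨y, hy, rfl⟩ _ ⟨y', hy', rfl⟩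
      have h1 := hcomm (g⁻¹ * g') (mul_mem (inv_mem hg) hg') y hy y' hy'
      change g * y * g⁻¹ * (g' * y' * g'⁻¹) = g' * y' * g'⁻¹ * (g * y * g⁻¹)
      calc g * y * g⁻¹ * (g' * y' * g'⁻¹) = g * (y * (g⁻¹ * g' * y' * (g⁻¹ * g')⁻¹)) * g⁻¹ := by group
        _ = g * (g⁻¹ * g' * y' * (g⁻¹ * g')⁻¹ * y) * g⁻¹ := by rw [h1]
        _ = _ := by group
    · rintro _ ⟨g, hg, rfl⟩ _ ⟨y, hy, rfl⟩
      change g * y * g⁻¹ * (g * y * g⁻¹) = 1
      have h1 : g * y * g⁻¹ * (g * y * g⁻¹) = g * (y * y) * g⁻¹ := by group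
      rw [h1, l.sq y hy]; group
  have hnorm : K ≤ normalizer ((sSup A : Subgroup G) : Set G) := by
    intro g hg
    refine MinSimple.VModule.mem_normalizer_of_map_le ?_
    rw [Subgroup.map_le_iff_le_comap]
    refine sSup_le ?_
    rintro _ ⟨g', hg', rfl⟩
    rw [← Subgroup.map_le_iff_le_comap]
    change cj g (cj g' Y) ≤ sSup A
    rw [cj_cj]
    exact le_sSup ⟨_, mul_mem hg hg', rfl⟩
  refine ⟨sSup A, ?_, ?_, le_sup_left.trans hnorm, le_sup_right.trans hnorm⟩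
  · intro h1
    have h2 : Y ≤ sSup A := le_sSup ⟨1, one_mem _, (MinSimple.Geo.cj_one Y).symm⟩
    rw [h1] at h2
    exact h.z_ne ((mem_bot).1 (h2 l.z_mem))
  · intro x
    refine ⟨1, ?_⟩
    apply Subtype.ext
    change (x : G) ^ 2 ^ 1 = 1
    rw [pow_one, _root_.sq]
    exact hA.2 x x.2

end LN

/-- the group-level data from the abstract line -/
theorem exists_gl {h : Sit0 S M U φ e} (hU : U ≤ o2 (CC e)) {V : Type u} [CommGroup V] [Finite V] {π : WW e →* V}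
    {ρ : CC e →* MulAut V} {T : Sylow 2 ρ.range} {Λ : Subgroup V} {x s : ρ.range} {μ : V}
    (D : Dat h π ρ T Λ x s μ) {B₀ : Subgroup ρ.range} {Y₀ : Subgroup V} (l : Line ρ.range.subtype Λ μ B₀ Y₀) :
    ∃ B Y : Subgroup G, LN h B Y := by
  have hW := h.ws_elem (h.le_M_of hU)
  have hWW : WW e ≤ ws U (sg e 4) := Crit.WW_le_ws h
  have hWC : WW e ≤ CC e := (h.WW_le (hU (h.mem 0 1))).trans (MinSimple.VModule.o2_le _)
  have hzW := h.z_mem_WW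
  have happ : ∀ (r : CC e) (v : V), ρ.range.subtype (ρ.rangeRestrict r) v = ρ r v := fun r v => rfl
  set B : Subgroup G := (B₀.comap ρ.rangeRestrict).map (CC e).subtype with hB
  set Y : Subgroup G := (Y₀.comap π).map (WW e).subtype with hY
  have hBm : ∀ (c : G) (hc : c ∈ CC e), c ∈ B ↔ ρ.rangeRestrict ⟨c, hc⟩ ∈ B₀ := by
    intro c hc
    constructor
    · rintro ⟨c', hc', rfl⟩; exact hc'
    · intro h1; exact ⟨⟨c, hc⟩, h1, rfl⟩
  have hYm : ∀ (w : G) (hw : w ∈ WW e), w ∈ Y ↔ π ⟨w, hw⟩ ∈ Y₀ := by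
    intro w hw
    constructor
    · rintro ⟨w', hw', rfl⟩; exact hw'
    · intro h1; exact ⟨⟨w, hw⟩, h1, rfl⟩
  have hBC : B ≤ CC e := map_subtype_le _
  have hYWW : Y ≤ WW e := map_subtype_le _
  have hPW := h.PP_le_WW
  have hker : ∀ w : WW e, π w = 1 ↔ (w : G) = 1 ∨ (w : G) = sg e 4 := D.md.ker
  have hz1 : π ⟨sg e 4, hzW⟩ = 1 := (hker _).2 (Or.inr rfl)
  -- equality in `V`
  have heq : ∀ w w' : WW e, π w = π w' → (w : G) = w' ∨ (w : G) = w' * sg e 4 := by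
    intro w w' h1
    have h2 : π (w'⁻¹ * w) = 1 := by rw [map_mul, map_inv, h1, inv_mul_cancel]
    rcases (hker _).1 h2 with h3 | h3
    · left
      have h4 : (w' : G)⁻¹ * w = 1 := h3
      exact (inv_mul_eq_one.1 h4).symm
    · right
      have h4 : (w' : G)⁻¹ * w = sg e 4 := h3
      rw [← h4]; group
  have heq' : ∀ w w' : WW e, ((w : G) = w' ∨ (w : G) = w' * sg e 4) → π w = π w' := by
    rintro w w' (h1 | h1)
    · rw [Subtype.ext h1]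
    · have h2 : w = w' * ⟨sg e 4, hzW⟩ := Subtype.ext h1
      rw [h2, map_mul, hz1, mul_one]
  -- the action
  have hact : ∀ (c : G) (hc : c ∈ CC e) (w : G) (hw : w ∈ WW e),
      ρ ⟨c, hc⟩ (π ⟨w, hw⟩) = π ⟨c * w * c⁻¹, D.md.norm _ hc _ hw⟩ := fun c hc w hw =>
    D.md.act ⟨c, hc⟩ ⟨w, hw⟩ (D.md.norm _ hc _ hw)
  -- elements of `C(U)` centralise `Λ`
  have hcU : ∀ c, (∀ u ∈ U, c * u = u * c) → c ∈ CC e := fun c hc => Sit0.mem_CC.2 (hc _ h.z_mem)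
  have hΛ : ∀ c (hc : c ∈ CC e), (∀ u ∈ U, c * u = u * c) → ∀ v ∈ Λ, ρ ⟨c, hc⟩ v = v := by
    intro c hc hcu v hv
    obtain ⟨w, hw, rfl⟩ := (D.mem v).1 hv
    rw [hact c hc w w.2]
    congr 1
    apply Subtype.ext
    change c * (w : G) * c⁻¹ = w
    rw [hcu _ (h.PP_le_U hw), mul_inv_cancel_right]
  -- triviality on `Y₀`
  have htr : ∀ c (hc : c ∈ CC e), (∀ v ∈ Y₀, ρ ⟨c, hc⟩ v = v) ↔ ∀ y ∈ Y, c * y * c⁻¹ = y ∨ c * y * c⁻¹ = y * sg e 4 := by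
    intro c hc
    constructor
    · intro h1 y hy
      have hyW := hYWW hy
      have h2 := h1 _ ((hYm y hyW).1 hy)
      rw [hact c hc y hyW] at h2
      exact heq _ _ h2
    · intro h1 v hv
      obtain ⟨w, rfl⟩ := D.md.surj v
      rw [hact c hc w w.2]
      exact heq' _ _ (h1 w ((hYm w w.2).2 hv))
  refine ⟨B, Y, ⟨hBC, ?_, hYWW.trans hWC, ?_, ?_, ?_, ?_, ?_, ?_, ?_, ?_, ?_⟩⟩
  · intro y hy y' hy' c hc
    exact hW.1 _ (hWW (hYWW hy)) _ (hWW (conj_mem_WW hc (hYWW hy')))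
  · intro y hy
    exact hW.2 _ (hWW (hYWW hy))
  · rw [hYm _ hzW, hz1]; exact one_mem _
  · intro w hw
    rw [hYm _ (hPW hw)]
    exact l.le ((D.mem _).2 ⟨⟨w, hPW hw⟩, hw, rfl⟩)
  · intro b hb y hy
    have hbC := hBC hb
    have hyW := hYWW hy
    rw [hYm _ (D.md.norm _ hbC _ hyW), ← hact b hbC y hyW]
    exact l.inv _ ((hBm b hbC).1 hb) _ ((hYm y hyW).1 hy)
  · intro y hy
    have hyW := hYWW hy
    by_cases h1 : π ⟨y, hyW⟩ = 1
    · rcases (hker _).1 h1 with h2 | h2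
      · exact Or.inl h2
      · exact Or.inr (Or.inl h2)
    right; right
    obtain ⟨b₀, hb₀, h2⟩ := l.trans _ ((hYm y hyW).1 hy) h1
    obtain ⟨⟨b, hbC⟩, rfl⟩ := ρ.rangeRestrict_surjective b₀
    obtain ⟨w, hw, hwμ⟩ := (D.mem μ).1 D.lam.mu_mem
    have hbB : b ∈ B := (hBm b hbC).2 hb₀
    rw [happ, ← hwμ, hact b hbC w w.2] at h2
    have hwne : (w : G) ≠ 1 := by
      intro h3
      apply D.lam.mu_ne
      rw [← hwμ]
      exact (hker w).2 (Or.inl h3)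
    have hwnz : (w : G) ≠ sg e 4 := by
      intro h3
      apply D.lam.mu_ne
      rw [← hwμ]
      exact (hker w).2 (Or.inr h3)
    rcases heq _ _ h2 with h3 | h3
    · have h3' : y = b * w * b⁻¹ := h3
      rcases PP_cases h.toFrame hw with h4 | ⟨i, j, -, -, hij, h4⟩ | h4
      · exact absurd h4 hwne
      · exact ⟨b, hbB, i, j, hij, by rw [h3', h4]⟩
      · exact absurd h4 hwnz
    · have h3' : y = b * w * b⁻¹ * sg e 4 := h3
      have h5 : y = b * (w * sg e 4) * b⁻¹ := by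
        have h6 : b * sg e 4 = sg e 4 * b := Sit0.mem_CC.1 hbC
        calc y = b * w * b⁻¹ * sg e 4 := h3'
          _ = b * w * b⁻¹ * (sg e 4 * b) * b⁻¹ := by group
          _ = b * w * b⁻¹ * (b * sg e 4) * b⁻¹ := by rw [h6]
          _ = _ := by group
      rcases PP_cases h.toFrame (mul_mem hw (z_mem_PP h.toFrame)) with h4 | ⟨i, j, -, -, hij, h4⟩ | h4
      · exfalso
        apply hwnz
        rw [← mul_inv_eq_one, inv_eq_of_mul_eq_one_left h.z_sq]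
        exact h4
      · exact ⟨b, hbB, i, j, hij, by rw [h5, h4]⟩
      · exfalso
        apply hwne
        exact mul_eq_right.1 h4
  · intro c hc
    have hcC := hcU c hc
    rw [hBm c hcC]
    apply l.stab
    intro v hv
    rw [happ, hΛ c hcC hc v hv]
    exact hv
  · intro d t hd ht hdt
    have hdC := hcU d hd
    have htW := hYWW ht
    rw [← htr d hdC]
    refine l.big (ρ.rangeRestrict ⟨d, hdC⟩) (π ⟨t, htW⟩) (fun v hv => hΛ d hdC hd v hv) ?_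
    intro v hv
    obtain ⟨w, rfl⟩ := D.md.surj v
    rw [happ, hact d hdC w w.2]
    rcases hdt w ((hYm w w.2).2 hv) with h1 | h1
    · left; congr 1; exact Subtype.ext h1
    · right
      rw [mul_comm, ← map_mul]
      congr 1
      exact Subtype.ext h1
  · intro d d' hd hd' hdd hdd'
    have hdC := hcU d hd
    have hdC' := hcU d' hd'
    rw [← htr d hdC, ← htr d' hdC', ← htr (d * d') (mul_mem hdC hdC')]
    have h1 := l.two (ρ.rangeRestrict ⟨d, hdC⟩) (ρ.rangeRestrict ⟨d', hdC'⟩) (fun v hv => hΛ d hdC hd v hv)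
      (fun v hv => hΛ d' hdC' hd' v hv) (by
        rw [← map_mul]
        have h2 : (⟨d, hdC⟩ : CC e) * ⟨d, hdC⟩ = 1 := Subtype.ext hdd
        rw [h2, map_one]) (by
        rw [← map_mul]
        have h2 : (⟨d', hdC'⟩ : CC e) * ⟨d', hdC'⟩ = 1 := Subtype.ext hdd'
        rw [h2, map_one])
    rw [← map_mul] at h1
    exact h1
  · intro hBM
    obtain ⟨b₀, hb₀, v, hv, hbv⟩ := l.move
    obtain ⟨⟨b, hbC⟩, rfl⟩ := ρ.rangeRestrict_surjective b₀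
    have hbM : b ∈ M := hBM ((hBm b hbC).2 hb₀)
    obtain ⟨w, hw, rfl⟩ := (D.mem v).1 hv
    apply hbv
    rw [happ, hact b hbC w w.2]
    exact (D.mem _).2 ⟨_, h.PP_conj (m := ⟨b, hbM⟩) hbC hw, rfl⟩

end Cfsg.Agent.OddCyclic.EmpO4
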