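import Mathlib
import Cfsg.Agent.OddCyclic.EmpFrame

/-!
# (Empty): pieces of `M` moved by `J` (helper6's tools)

`I` the TI-subgroup, `M = N_G(I)`. A piece `N` is a normal subgroup of `M` contained in `J_I` with `N = [N, J]`,
`N_G(N) ≤ M`, which is the only conjugate of `N` in `M` (`Pc`).

* `IsMinJ`, `exists_isMinJ`, `IsMinJ.exists_conj`: every `I_u` contains a conjugate of `I` under `N_G(J)`;
* `Pc.f4` (F4'): `1 ≠ u ∈ Z_J`, `[u, N] = 1` gives `C_G(u) ≤ M` (and `I ≤ I_u`);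
* `Pc.eq_of_comm`: then `N` is the only conjugate of `N` centralising `u`;
* `Pc.nc` (NC): an `N`-invariant subgroup centralised by `J` is centralised by `N`.
-/

set_option autoImplicit false
set_option linter.unusedSectionVars false

namespace Cfsg.Agent.OddCyclic.EmpPc

open Subgroup Cfsg Cfsg.Agent.ZN Cfsg.Agent.ZN.ChoiceBase Cfsg.Agent.ZN.ChoiceSit
open Cfsg.Agent.MinSimple Cfsg.Agent.MinSimple.EmptyTI Cfsg.Agent.MinSimple.EmptySix
open Cfsg.Agent.OddCyclic.EmpFrame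

universe u

variable {G : Type u} [Group G]

/-! ### Locally minimal `I_y` -/

/-- `I_y` is minimal with respect to inclusion -/
structure IsMinJ (S : Subgroup G) (y : G) : Prop where
  mem : y ∈ zj S
  ne : y ≠ 1
  min : ∀ w ∈ iy S y, w ≠ 1 → Nat.card (iy S y) ≤ Nat.card (iy S w)

theorem exists_isMinJ [Finite G] {S : Sylow 2 G} {u : G} (hu : u ∈ zj (S : Subgroup G)) (hu1 : u ≠ 1) :
    ∃ y ∈ iy (S : Subgroup G) u, IsMinJ (S : Subgroup G) y := by
  obtain ⟨y, hy, hmin⟩ := Set.exists_min_image {w : G | w ∈ iy (S : Subgroup G) u ∧ w ≠ 1}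
    (fun w => Nat.card (iy (S : Subgroup G) w)) (Set.toFinite _) ⟨u, mem_iy hu, hu1⟩
  exact ⟨y, hy.1, icl_le _ _ hy.1, hy.2, fun w hw hw1 => hmin w ⟨iy_le_iy hu hy.1 hw, hw1⟩⟩

namespace IsMinJ

variable [Finite G] {S : Sylow 2 G} {y : G}

theorem ne_bot (h : IsMinJ (S : Subgroup G) y) : iy (S : Subgroup G) y ≠ ⊥ := fun h0 => by
  have h1 := mem_iy h.mem
  rw [h0, mem_bot] at h1
  exact h.ne h1

theorem iy_eq (h : IsMinJ (S : Subgroup G) y) {w : G} (hw : w ∈ iy (S : Subgroup G) y)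
    (hw1 : w ≠ 1) : iy (S : Subgroup G) w = iy (S : Subgroup G) y :=
  eq_of_le_of_card_ge (iy_le_iy h.mem hw) (h.min w hw hw1)

theorem jy_eq (h : IsMinJ (S : Subgroup G) y) {w : G} (hw : w ∈ iy (S : Subgroup G) y)
    (hw1 : w ≠ 1) : jy (S : Subgroup G) w = jy (S : Subgroup G) y := by
  refine le_antisymm ?_ (jy_le_jy h.mem hw)
  refine jy_le_jy (icl_le _ _ hw) ?_
  rw [h.iy_eq hw hw1]
  exact mem_iy h.mem

theorem centralizer_le_normalizer_jy (h : IsMinJ (S : Subgroup G) y) {w : G}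
    (hw : w ∈ iy (S : Subgroup G) y) (hw1 : w ≠ 1) :
    centralizer ({w} : Set G) ≤ normalizer ((jy (S : Subgroup G) y : Subgroup G) : Set G) := by
  rw [← h.jy_eq hw hw1]
  exact le_normalizer_jcl _ _

theorem normalizer_eq (h : IsMinJ (S : Subgroup G) y) :
    normalizer ((jy (S : Subgroup G) y : Subgroup G) : Set G) =
      normalizer ((iy (S : Subgroup G) y : Subgroup G) : Set G) := by
  apply le_antisymm
  · intro n hn
    rw [mem_normalizer_iff_cj] at hn ⊢
    rw [iy, icl_eq, ← zc_cj, hn]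
  · intro n hn
    have h1 : n * y * n⁻¹ ∈ iy (S : Subgroup G) y := (mem_normalizer_iff.1 hn y).1 (mem_iy h.mem)
    have h2 : n * y * n⁻¹ ≠ 1 := fun h0 => h.ne (by
      have e : y = n⁻¹ * (n * y * n⁻¹) * n := by group
      rw [e, h0]; group)
    rw [mem_normalizer_iff_cj, cj_jy h.mem (icl_le _ _ h1), h.jy_eq h1 h2]

theorem centralizer_le_normalizer (h : IsMinJ (S : Subgroup G) y) {w : G}
    (hw : w ∈ iy (S : Subgroup G) y) (hw1 : w ≠ 1) :
    centralizer ({w} : Set G) ≤ normalizer ((iy (S : Subgroup G) y : Subgroup G) : Set G) := by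
  rw [← h.normalizer_eq]
  exact h.centralizer_le_normalizer_jy hw hw1

theorem isTwoLocal (h : IsMinJ (S : Subgroup G) y) :
    IsTwoLocal (normalizer ((iy (S : Subgroup G) y : Subgroup G) : Set G)) :=
  ⟨_, (isPGroup_zj S.isPGroup').to_le (icl_le _ _), h.ne_bot, rfl⟩

theorem bau_le (h : IsMinJ (S : Subgroup G) y) :
    bau (S : Subgroup G) ≤ normalizer ((iy (S : Subgroup G) y : Subgroup G) : Set G) :=
  (bau_le_centralizer h.mem).trans (h.centralizer_le_normalizer (mem_iy h.mem) h.ne)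

theorem jcl_eq (h : IsMinJ (S : Subgroup G) y) :
    jcl (jj (S : Subgroup G)) (normalizer ((iy (S : Subgroup G) y : Subgroup G) : Set G)) =
      jy (S : Subgroup G) y := by
  apply le_antisymm
  · refine jcl_le fun g hg => ?_
    rw [← h.normalizer_eq, mem_normalizer_iff_cj] at hg
    rw [← hg]
    exact cj_mono g (le_jcl _ _)
  · exact jcl_mono (h.centralizer_le_normalizer (mem_iy h.mem) h.ne)

theorem icl_eq (h : IsMinJ (S : Subgroup G) y) :
    icl (S : Subgroup G) (normalizer ((iy (S : Subgroup G) y : Subgroup G) : Set G)) =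
      iy (S : Subgroup G) y := by
  rw [EmptyTI.icl_eq, h.jcl_eq, ← EmptyTI.icl_eq]

/-- `Ω₁(Z(T)) ≤ I_y` for a Sylow 2-subgroup `T ≥ B(S)` of `N_G(I_y)`. -/
theorem zc_le (h : IsMinJ (S : Subgroup G) y) (hE : EmpTI.EMPV (S : Subgroup G)) (hG : IsCharacteristicTwoType G)
    {T : Subgroup G} (hT : Syl T (normalizer ((iy (S : Subgroup G) y : Subgroup G) : Set G)))
    (hBT : bau (S : Subgroup G) ≤ T) : zc T ≤ iy (S : Subgroup G) y :=
  hE.zc_le_of hG h.ne_bot (icl_le _ _) (fun _ hw hw1 => h.centralizer_le_normalizer hw hw1)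
    (fun _ hw hw1 => h.iy_eq hw hw1) hT hBT

/-- every minimal `I_y` is conjugate to `I` under `N_G(J)` -/
theorem exists_conj {I : Subgroup G} (hI : TIData (S : Subgroup G) I) (hE : EmpTI.EMPV (S : Subgroup G))
    (hG : IsCharacteristicTwoType G) (hS : (S : Subgroup G) ≠ ⊥) (hy : IsMinJ (S : Subgroup G) y) :
    ∃ n ∈ normalizer (jj (S : Subgroup G) : Set G), cj n I = iy (S : Subgroup G) y := by
  obtain ⟨T, hT, hBT⟩ := exists_syl (S.isPGroup'.to_le (ChoiceBase.bau_le _)) hy.bau_le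
  obtain ⟨S₂, hS₂⟩ := hT.2.1.exists_le_sylow
  have hJ : jj (S : Subgroup G) ≤ (S₂ : Subgroup G) := ((jj_le_bau _).trans hBT).trans hS₂
  have hJ2 : jj (S₂ : Subgroup G) = jj (S : Subgroup G) := jj_eq S S₂.isPGroup' hJ
  obtain ⟨n, hn, hnS⟩ := syl_conj (syl_of_le (EmptyTI.le_normalizer_jj S S.isPGroup' (ChoiceBase.jj_le _)))
    (syl_of_le (EmptyTI.le_normalizer_jj S S₂.isPGroup' hJ))
  obtain ⟨z, hz, hz1⟩ := (zc (S : Subgroup G)).bot_or_exists_ne_one.resolve_left
    (Basic.zc_ne_bot S.isPGroup' hS)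
  have hzn : n * z * n⁻¹ ∈ zc (S₂ : Subgroup G) := by
    rw [← hnS, zc_cj]
    exact ⟨z, hz, rfl⟩
  have hzj : n * z * n⁻¹ ∈ zj (S : Subgroup G) := by
    rw [← zj_congr hJ2]
    exact zc_le_zj _ hzn
  have hzT : n * z * n⁻¹ ∈ zc T := by
    have h1 := ChoiceBase.mem_zc.1 hzn
    exact ChoiceBase.mem_zc.2 ⟨hBT (jj_le_bau _ (zj_le_jj _ hzj)), h1.2.1, fun x hx => h1.2.2 x (hS₂ hx)⟩
  have hzI : n * z * n⁻¹ ∈ iy (S : Subgroup G) y := hy.zc_le hE hG hT hBT hzT
  have hne : n * z * n⁻¹ ≠ 1 := fun h0 => hz1 (by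
    have e : z = n⁻¹ * (n * z * n⁻¹) * n := by group
    rw [e, h0]; group)
  refine ⟨n, hn, ?_⟩
  have h1 : iy (S : Subgroup G) z = I := by
    rw [iy, EmptyTI.icl_eq, hI.jcl_eq z (hI.zc_le hz) hz1, ← hI.eq]
  rw [← h1, cj_iy (zc_le_zj _ hz) hzj, hy.iy_eq hzI hne]

end IsMinJ

/-! ### Pieces -/

/-- A piece of `M = N_G(I)` moved by `J`. -/
structure Pc (S : Subgroup G) (I N : Subgroup G) : Prop where
  le : N ≤ jcl (jj S) (normalizer (I : Set G))
  norm : normalizer (I : Set G) ≤ normalizer (N : Set G)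
  self : normalizer (N : Set G) ≤ normalizer (I : Set G)
  comm : N ≤ ⁅N, jj S⁆
  uniq : ∀ g : G, N ≤ cj g (normalizer (I : Set G)) → cj g N = N

namespace Pc

variable [Finite G] {S : Sylow 2 G} {I N : Subgroup G}

theorem centralizer_I (hI : TIData (S : Subgroup G) I) (p : Pc (S : Subgroup G) I N) :
    N ≤ centralizer (I : Set G) := by
  intro x hx
  rw [mem_centralizer_iff]
  intro y hy
  have h1 : y ∈ zc (jcl (jj (S : Subgroup G)) (normalizer (I : Set G))) := by rw [← hI.eq]; exact hy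
  exact ((ChoiceBase.mem_zc.1 h1).2.2 x (p.le hx)).symm

/-- (NC) -/
theorem nc (p : Pc (S : Subgroup G) I N) {W : Subgroup G} (hN : N ≤ normalizer (W : Set G))
    (hJ : jj (S : Subgroup G) ≤ centralizer (W : Set G)) : N ≤ centralizer (W : Set G) := by
  refine p.comm.trans ?_
  rw [commutator_le]
  intro a ha b hb
  have h1 : a * b * a⁻¹ ∈ centralizer (W : Set G) := by
    rw [mem_centralizer_iff]
    intro w hw
    have h2 : a⁻¹ * w * a ∈ W := by
      have := (mem_normalizer_iff.1 (inv_mem (hN ha)) w).1 hw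
      rwa [inv_inv] at this
    have h3 := mem_centralizer_iff.1 (hJ hb) _ h2
    calc w * (a * b * a⁻¹) = a * (a⁻¹ * w * a * b) * a⁻¹ := by group
      _ = a * b * a⁻¹ * w := by rw [h3]; group
  exact mul_mem h1 (inv_mem (hJ hb))

/-- `N ≤ J_u` if `N` centralises `u` -/
theorem le_jy (p : Pc (S : Subgroup G) I N) {u : G}
    (hN : N ≤ centralizer ({u} : Set G)) : N ≤ jy (S : Subgroup G) u := by
  refine p.comm.trans ?_
  rw [commutator_le]
  intro a ha b hb
  have h1 : a * b * a⁻¹ ∈ jy (S : Subgroup G) u :=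
    cj_le_jcl (hN ha) ⟨b, hb, rfl⟩
  exact mul_mem h1 (inv_mem (le_jcl _ _ hb))

theorem le_conj (p : Pc (S : Subgroup G) I N) {u g : G} (hu : u ∈ zj (S : Subgroup G))
    (hN : N ≤ centralizer ({u} : Set G)) (hg : cj g I ≤ iy (S : Subgroup G) u) : cj g N = N := by
  refine p.uniq g ?_
  rw [cj_normalizer]
  refine (p.le_jy hN).trans ?_
  intro x hx
  have h1 : x ∈ centralizer (cj g I : Set G) := by
    rw [mem_centralizer_iff]
    intro y hy
    exact (icl_comm (hg hy) hx).symm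
  exact centralizer_le_normalizer _ h1

/-- (F4') -/
theorem f4' (h : ENS S) (hI : TIData (S : Subgroup G) I) (p : Pc (S : Subgroup G) I N) {u : G}
    (hu : u ∈ zj (S : Subgroup G)) (hu1 : u ≠ 1) (hN : N ≤ centralizer ({u} : Set G)) :
    centralizer ({u} : Set G) ≤ normalizer (I : Set G) ∧ I ≤ iy (S : Subgroup G) u := by
  obtain ⟨y, hy, hmin⟩ := exists_isMinJ hu hu1
  obtain ⟨n, -, hn⟩ := hmin.exists_conj hI h.empv h.hyp.char2 h.ne_bot
  have h1 : cj n I ≤ iy (S : Subgroup G) u := by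
    rw [hn]
    exact iy_le_iy hu hy
  have h2 : n ∈ normalizer (I : Set G) := p.self (mem_normalizer_iff_cj.2 (p.le_conj hu hN h1))
  have h3 : I ≤ iy (S : Subgroup G) u := by
    rw [← mem_normalizer_iff_cj.1 h2]; exact h1
  refine ⟨fun c hc => p.self (mem_normalizer_iff_cj.2 (p.le_conj hu hN ?_)), h3⟩
  have h4 := cj_mono c h3
  rwa [cj_eq_of_mem_normalizer (le_normalizer_icl S _ hc)] at h4

theorem f4 (h : ENS S) (hI : TIData (S : Subgroup G) I) (p : Pc (S : Subgroup G) I N) {u : G}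
    (hu : u ∈ zj (S : Subgroup G)) (hu1 : u ≠ 1) (hN : N ≤ centralizer ({u} : Set G)) :
    centralizer ({u} : Set G) ≤ normalizer (I : Set G) := (p.f4' h hI hu hu1 hN).1

/-- `N` is the only conjugate of `N` centralising `u` -/
theorem eq_of_comm (h : ENS S) (hI : TIData (S : Subgroup G) I) (p : Pc (S : Subgroup G) I N) {u g : G}
    (hu : u ∈ zj (S : Subgroup G)) (hu1 : u ≠ 1) (hN : N ≤ centralizer ({u} : Set G))
    (hg : cj g N ≤ centralizer ({u} : Set G)) : cj g N = N := by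
  have h1 : N ≤ cj g⁻¹ (normalizer (I : Set G)) := by
    rw [← cj_le_iff]
    exact hg.trans (p.f4 h hI hu hu1 hN)
  have h2 := p.uniq g⁻¹ h1
  rw [← h2, cj_cj_inv, h2]

theorem mem_of_comm (h : ENS S) (hI : TIData (S : Subgroup G) I) (p : Pc (S : Subgroup G) I N) {u g : G}
    (hu : u ∈ zj (S : Subgroup G)) (hu1 : u ≠ 1) (hN : N ≤ centralizer ({u} : Set G))
    (hg : cj g N ≤ centralizer ({u} : Set G)) : g ∈ normalizer (I : Set G) :=
  p.self (mem_normalizer_iff_cj.2 (p.eq_of_comm h hI hu hu1 hN hg))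

end Pc

end Cfsg.Agent.OddCyclic.EmpPc
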