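import Mathlib
import Cfsg.Agent.OddCyclic.EmpFlat
import Cfsg.Agent.OddCyclic.UniPiece

/-!
# (Empty): the pieces of `M = N_G(I)` moved by `J`

`JP S I N`: `N` is a piece of `M = N_G(I)` (component type or `R_r`) moved by `J = J(S)`.

* `ENS.exists_jp`; `JP.comm : [N, J] = N`, `JP.le_jcl`, `JP.le_centralizer : N ≤ C_G(I)`;
* `JP.normalizer_eq : N_G(N) = M`, `JP.uniq`;
* `JP.normalizer_le` (1.2): `N ≤ C_G(D)`, `D ∩ I ≠ 1` gives `N_G(D) ≤ M`; `not_le_centralizer_vv`,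
  `not_le_centralizer_zl`, `not_le_LL`;
* `JP.le_of` (1.3), `JP.centralizer_le` (F4'), `JP.comm_of_le` (NC);
* `ENS.exists_cj_le_iy`;
* `Pc.hom_trivial`, `JP.le_o2` (1.4).
-/

set_option autoImplicit false
set_option linter.unusedSectionVars false

namespace Cfsg.Agent.OddCyclic.EmpFrame

open Subgroup Cfsg Cfsg.Agent.ZN Cfsg.Agent.ZN.ChoiceBase Cfsg.Agent.ZN.ChoiceSit
open Cfsg.Agent.MinSimple Cfsg.Agent.MinSimple.EmptyTI Cfsg.Agent.MinSimple.EmptySix
open Cfsg.Agent.MinSimple.MinParabolic (IsMinPar)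
open Cfsg.Agent.MinSimple.EmptyE.Closed (LL CC cl mem_cl cl_eq cl_le vv_comm vv_sq vv_mul_self vv_inv
  isPGroup_vv vv_le_jj vv_le jj_le_centralizer_vv conj_mem_vv cj_vv)
open Cfsg.Agent.OddCyclic.UniStruct (Pc Moves NP RM Cp)
open scoped commutatorElement

universe u

variable {G : Type u} [Group G] [Finite G] {S : Sylow 2 G} {I N : Subgroup G}

/-- `N` is a piece of `M = N_G(I)` moved by `J` -/
structure JP (S I N : Subgroup G) : Prop where
  pc : Pc (normalizer (I : Set G)) N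
  moves : Moves (normalizer (I : Set G)) (jj S) N

/-- `⁅N, A⁆ ≤ K` if `N` normalises `K ≥ A` -/
theorem commutator_le_of {N A K : Subgroup G} (hN : N ≤ normalizer (K : Set G)) (hA : A ≤ K) : ⁅N, A⁆ ≤ K := by
  rw [commutator_le]
  intro n hn a ha
  rw [commutatorElement_def]
  exact mul_mem ((mem_normalizer_iff.1 (hN hn) a).1 (hA ha)) (inv_mem (hA ha))

theorem isPGroup_jj (S : Sylow 2 G) : IsPGroup 2 (jj (S : Subgroup G)) := S.isPGroup'.to_le (ChoiceBase.jj_le _)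

theorem jj_le_M (hI : TIData (S : Subgroup G) I) : jj (S : Subgroup G) ≤ normalizer (I : Set G) :=
  (ChoiceBase.jj_le _).trans hI.S_le

/-- `J_I = ⟨J^M⟩` centralises `I` -/
theorem jcl_le_centralizer (hI : TIData (S : Subgroup G) I) :
    jcl (jj (S : Subgroup G)) (normalizer (I : Set G)) ≤ centralizer (I : Set G) := by
  intro x hx
  rw [mem_centralizer_iff]
  intro y hy
  have h3 : y ∈ zc (jcl (jj (S : Subgroup G)) (normalizer (I : Set G))) := by rw [← hI.eq]; exact hy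
  exact ((ChoiceBase.mem_zc.1 h3).2.2 x hx).symm

theorem ENS.exists_jp (h : ENS S) (hI : TIData (S : Subgroup G) I) : ∃ N, JP (S : Subgroup G) I N := by
  have hM := o2_ne_bot_of_isTwoLocal (ENS.isTwoLocal_M hI)
  obtain ⟨N, h1, h2⟩ := UniStruct.exists_pc h.hyp hM (isPGroup_jj S) (jj_le_M hI) (fun h0 => by
    have h3 := (Basic.le_normalizer_jj_iff hI.S_le S.isPGroup' (Basic.not_dvd_relIndex S hI.S_le)).2 h0
    exact h.not_M_le hI (h3.trans h.normalizer_le_LL))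
  exact ⟨N, h1, h2⟩

namespace JP

theorem comm (hN : JP (S : Subgroup G) I N) (h : ENS S) (hI : TIData (S : Subgroup G) I) :
    ⁅N, jj (S : Subgroup G)⁆ = N := hN.pc.comm h.hyp (isPGroup_jj S) (jj_le_M hI) hN.moves

theorem le_jcl_of (hN : JP (S : Subgroup G) I N) (h : ENS S) (hI : TIData (S : Subgroup G) I) {X : Subgroup G}
    (hX : N ≤ X) : N ≤ jcl (jj (S : Subgroup G)) X := by
  have h1 := commutator_le_of (hX.trans (le_normalizer_jcl (jj (S : Subgroup G)) X)) (le_jcl _ X)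
  rwa [hN.comm h hI] at h1

theorem le_jcl (hN : JP (S : Subgroup G) I N) (h : ENS S) (hI : TIData (S : Subgroup G) I) :
    N ≤ jcl (jj (S : Subgroup G)) (normalizer (I : Set G)) := hN.le_jcl_of h hI hN.pc.le

/-- (1.1) -/
theorem le_centralizer (hN : JP (S : Subgroup G) I N) (h : ENS S) (hI : TIData (S : Subgroup G) I) :
    N ≤ centralizer (I : Set G) := (hN.le_jcl h hI).trans (jcl_le_centralizer hI)

theorem uniq (hN : JP (S : Subgroup G) I N) (h : ENS S) (hI : TIData (S : Subgroup G) I) {g : G}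
    (hg : N ≤ cj g (normalizer (I : Set G))) : cj g N = N :=
  hN.pc.uniq h.hyp (o2_ne_bot_of_isTwoLocal (ENS.isTwoLocal_M hI)) hg

theorem o2_ne_bot (hN : JP (S : Subgroup G) I N) (h : ENS S) (hI : TIData (S : Subgroup G) I) : o2 N ≠ ⊥ :=
  hN.pc.o2_ne_bot (char2_of_isTwoLocal h.hyp.char2 (ENS.isTwoLocal_M hI))

/-- `N_G(N) = M` -/
theorem normalizer_eq (hN : JP (S : Subgroup G) I N) (h : ENS S) (hI : TIData (S : Subgroup G) I) :
    normalizer (N : Set G) = normalizer (I : Set G) := by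
  refine le_antisymm ?_ hN.pc.norm
  have h1 : normalizer (N : Set G) ≤ normalizer (o2 N : Set G) := by
    intro g hg
    rw [mem_normalizer_iff_cj, ← o2_cj, mem_normalizer_iff_cj.1 hg]
  have h2 : normalizer (I : Set G) ≤ normalizer (o2 N : Set G) := hN.pc.norm.trans h1
  refine h1.trans (h.le_M_of hI ⟨_, Block.o2_isPGroup N, hN.o2_ne_bot h hI, rfl⟩ (hI.S_le.trans h2) ?_)
  exact (jcl_le_self (jj_le_M hI)).trans h2

/-- `N ≤ M^g` gives `g ∈ M` -/
theorem mem_of_le (hN : JP (S : Subgroup G) I N) (h : ENS S) (hI : TIData (S : Subgroup G) I) {g : G}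
    (hg : N ≤ cj g (normalizer (I : Set G))) : g ∈ normalizer (I : Set G) := by
  rw [← hN.normalizer_eq h hI, mem_normalizer_iff_cj]
  exact hN.uniq h hI hg

/-- (1.2): `N` centralises `D`, `D ∩ I ≠ 1`: `N_G(D) ≤ M` -/
theorem normalizer_le (hN : JP (S : Subgroup G) I N) (h : ENS S) (hI : TIData (S : Subgroup G) I) {D : Subgroup G}
    {y : G} (hy : y ∈ I) (hy1 : y ≠ 1) (hyD : y ∈ D) (hD : N ≤ centralizer (D : Set G)) :
    normalizer (D : Set G) ≤ normalizer (I : Set G) := by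
  have hC : centralizer (D : Set G) ≤ normalizer (I : Set G) := by
    refine le_trans ?_ (hI.cent y hy hy1)
    intro x hx
    rw [mem_centralizer_singleton_iff]
    exact (mem_centralizer_iff.1 hx y hyD).symm
  intro g hg
  have h1 : cj g⁻¹ (centralizer (D : Set G)) = centralizer (D : Set G) := by
    rw [cj_centralizer, mem_normalizer_iff_cj.1 (inv_mem hg)]
  refine hN.mem_of_le h hI ?_
  have h2 : centralizer (D : Set G) ≤ cj g (normalizer (I : Set G)) := by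
    have h3 := cj_mono g hC
    rwa [cj_centralizer, mem_normalizer_iff_cj.1 hg] at h3
  exact hD.trans h2

/-- `N` moves `V` -/
theorem not_le_centralizer_vv (hN : JP (S : Subgroup G) I N) (h : ENS S) (hI : TIData (S : Subgroup G) I) :
    ¬ N ≤ centralizer (vv (S : Subgroup G) : Set G) := by
  intro hc
  obtain ⟨z, hz, hz1⟩ := (zc (S : Subgroup G)).bot_or_exists_ne_one.resolve_left h.zc_ne_bot
  exact h.not_LL_le hI (hN.normalizer_le h hI (hI.zc_le hz) hz1 (zc_le_vv _ hz) hc)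

/-- `N` moves `⟨Z^P⟩` for `P ≰ M` -/
theorem not_le_centralizer_zl (hN : JP (S : Subgroup G) I N) (h : ENS S) (hI : TIData (S : Subgroup G) I)
    {P : Subgroup G} (hP : ¬ P ≤ normalizer (I : Set G)) :
    ¬ N ≤ centralizer (zl (S : Subgroup G) P : Set G) := by
  intro hc
  obtain ⟨z, hz, hz1⟩ := (zc (S : Subgroup G)).bot_or_exists_ne_one.resolve_left h.zc_ne_bot
  exact hP ((VModule.le_normalizer_zl _ P).trans
    (hN.normalizer_le h hI (hI.zc_le hz) hz1 (VModule.zc_le_zl _ _ hz) hc))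

/-- `N ≰ L` -/
theorem not_le_LL (hN : JP (S : Subgroup G) I N) (h : ENS S) (hI : TIData (S : Subgroup G) I) :
    ¬ N ≤ LL (S : Subgroup G) := by
  intro hc
  apply hN.not_le_centralizer_vv h hI
  have h1 : N ≤ normalizer ((centralizer (vv (S : Subgroup G) : Set G) : Subgroup G) : Set G) := by
    intro x hx
    rw [mem_normalizer_iff_cj, cj_centralizer, mem_normalizer_iff_cj.1 (hc hx)]
  have h2 := commutator_le_of h1 (jj_le_centralizer_vv (S := S))
  rwa [hN.comm h hI] at h2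

/-- (1.3) (UNI-C) -/
theorem le_of (hN : JP (S : Subgroup G) I N) (h : ENS S) (hI : TIData (S : Subgroup G) I) {X : Subgroup G}
    (hNX : N ≤ X) {y : G} (hy : y ∈ I) (hy1 : y ≠ 1)
    (hyX : jcl (jj (S : Subgroup G)) X ≤ centralizer ({y} : Set G)) : X ≤ normalizer (I : Set G) := by
  have h1 := hN.le_jcl_of h hI hNX
  have h2 : jcl (jj (S : Subgroup G)) X ≤ normalizer (I : Set G) := hyX.trans (hI.cent y hy hy1)
  intro x hx
  refine hN.mem_of_le h hI ?_
  have h3 := cj_mono x h2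
  rw [cj_jcl hx] at h3
  exact h1.trans h3

/-- (1.3) for `X ≥ S` -/
theorem le_of_sylow (hN : JP (S : Subgroup G) I N) (h : ENS S) (hI : TIData (S : Subgroup G) I) {X : Subgroup G}
    (hX : o2 X ≠ ⊥) (hSX : (S : Subgroup G) ≤ X) (hNX : N ≤ X) : X ≤ normalizer (I : Set G) := by
  obtain ⟨z, hz, hz1⟩ := (zc (S : Subgroup G)).bot_or_exists_ne_one.resolve_left h.zc_ne_bot
  refine hN.le_of h hI hNX (hI.zc_le hz) hz1 ?_
  have h1 := h.jcl_le_centralizer (X := normalizer (o2 X : Set G)) ⟨o2 X, Block.o2_isPGroup X, hX, rfl⟩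
    (hSX.trans (Block.le_normalizer_o2 X))
  refine (jcl_mono (Block.le_normalizer_o2 X)).trans (h1.trans (centralizer_le ?_))
  rintro _ rfl
  exact VModule.zc_le_zl _ _ hz

/-- (NC): `N`-invariant subgroups `D` of `C_G(J)` are centralised by `N` -/
theorem comm_of_le (hN : JP (S : Subgroup G) I N) (h : ENS S) (hI : TIData (S : Subgroup G) I) {D : Subgroup G}
    (hD : jj (S : Subgroup G) ≤ centralizer (D : Set G)) (hDN : N ≤ normalizer (D : Set G)) :
    N ≤ centralizer (D : Set G) := by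
  have h1 : N ≤ normalizer ((centralizer (D : Set G) : Subgroup G) : Set G) := by
    intro x hx
    rw [mem_normalizer_iff_cj, cj_centralizer, mem_normalizer_iff_cj.1 (hDN hx)]
  have h2 := commutator_le_of h1 hD
  rwa [hN.comm h hI] at h2

end JP

/-! ### (F4') -/

/-- `I_u` contains a conjugate of `I` -/
theorem ENS.exists_cj_le_iy (h : ENS S) (hI : TIData (S : Subgroup G) I) {u : G} (hu : u ∈ zj (S : Subgroup G))
    (hu1 : u ≠ 1) : ∃ n ∈ normalizer (jj (S : Subgroup G) : Set G), cj n I ≤ iy (S : Subgroup G) u := by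
  obtain ⟨T, hT, hBT⟩ := exists_syl (S.isPGroup'.to_le (ChoiceBase.bau_le _)) (bau_le_centralizer hu)
  obtain ⟨S₂, hS₂⟩ := hT.2.1.exists_le_sylow
  have hJ : jj (S : Subgroup G) ≤ (S₂ : Subgroup G) := ((jj_le_bau _).trans hBT).trans hS₂
  obtain ⟨n, hn, hnS⟩ := syl_conj (syl_of_le (EmptyTI.le_normalizer_jj S S.isPGroup' (ChoiceBase.jj_le _)))
    (syl_of_le (EmptyTI.le_normalizer_jj S S₂.isPGroup' hJ))
  refine ⟨n, hn, ?_⟩
  obtain ⟨z, hz, hz1⟩ := (zc (S : Subgroup G)).bot_or_exists_ne_one.resolve_left h.zc_ne_bot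
  -- `w = z^n ∈ Ω₁Z(T) ≤ I_u`
  obtain ⟨w, hw⟩ : ∃ w, w = n * z * n⁻¹ := ⟨_, rfl⟩
  have hw1 : w ≠ 1 := by
    rw [hw]
    intro h0
    exact hz1 (conj_eq_one_iff.1 h0)
  have hwS : w ∈ zc (S₂ : Subgroup G) := by
    rw [← hnS, EmptyTI.zc_cj, hw]
    exact ⟨z, hz, rfl⟩
  have hwj : w ∈ zj (S : Subgroup G) := by
    have h1 : cj n (zj (S : Subgroup G)) = zj (S : Subgroup G) :=
      mem_normalizer_iff_cj.1 (normalizer_jj_le_zj _ hn)
    rw [← h1, hw]
    exact ⟨z, zc_le_zj _ hz, rfl⟩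
  have hwT : w ∈ zc T := by
    have h1 := mem_zc.1 hwS
    exact mem_zc.2 ⟨hBT (jj_le_bau _ (zj_le_jj _ hwj)), h1.2.1, fun x hx => h1.2.2 x (hS₂ hx)⟩
  have hwI : w ∈ iy (S : Subgroup G) u := h.empv.zc_le_iy h.hyp.char2 hu hu1 hT hBT hwT
  -- `I_w = I^n`
  have h2 : iy (S : Subgroup G) z = I := by
    rw [iy, EmptyTI.icl_eq, hI.jcl_eq z (hI.zc_le hz) hz1, ← hI.eq]
  have h3 : cj n (iy (S : Subgroup G) z) = iy (S : Subgroup G) w := by
    rw [hw]
    exact cj_iy (zc_le_zj _ hz) (by rw [← hw]; exact hwj)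
  rw [← h2, h3]
  exact iy_le_iy hu hwI

/-- (F4') -/
theorem JP.centralizer_le (hN : JP (S : Subgroup G) I N) (h : ENS S) (hI : TIData (S : Subgroup G) I) {u : G}
    (hu : u ∈ zj (S : Subgroup G)) (hu1 : u ≠ 1) (hNu : N ≤ centralizer ({u} : Set G)) :
    centralizer ({u} : Set G) ≤ normalizer (I : Set G) ∧ I ≤ iy (S : Subgroup G) u := by
  obtain ⟨n, hn, hnI⟩ := h.exists_cj_le_iy hI hu hu1
  have hNJ : N ≤ jy (S : Subgroup G) u := hN.le_jcl_of h hI hNu
  have hJI : jy (S : Subgroup G) u ≤ centralizer (iy (S : Subgroup G) u : Set G) := by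
    rw [le_centralizer_iff]
    exact inf_le_right
  -- conjugates of `I` in `I_u`
  have key : ∀ g : G, cj g I ≤ iy (S : Subgroup G) u → g ∈ normalizer (I : Set G) := by
    intro g hg
    refine hN.mem_of_le h hI ?_
    refine (hNJ.trans (hJI.trans (Subgroup.centralizer_le hg))).trans ?_
    rw [← cj_centralizer]
    exact cj_mono g (centralizer_le_normalizer _)
  have h1 := key n hnI
  rw [mem_normalizer_iff_cj.1 h1] at hnI
  refine ⟨fun c hc => key c ?_, hnI⟩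
  have h2 := cj_mono c hnI
  rwa [mem_normalizer_iff_cj.1 (le_normalizer_icl S (centralizer ({u} : Set G)) hc)] at h2

/-! ### (1.4) -/

/-- a piece has no non-trivial homomorphisms to elementary abelian 2-groups -/
theorem hom_trivial {M N : Subgroup G} (hN : Pc M N) {K : Type*} [Group K] (f : N →* K) (hK : ∀ k : K, k * k = 1) :
    ∀ n : N, f n = 1 := by
  have hcomm : ∀ a b : K, a * b = b * a := by
    intro a b
    have h1 := hK (a * b)
    calc a * b = a * (a * b * (a * b)) * b := by rw [h1, mul_one]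
      _ = (a * a) * (b * a) * (b * b) := by group
      _ = b * a := by rw [hK, hK]; group
  rcases hN with h | ⟨r, x, h, rfl⟩
  · have h1 : Group.IsPerfect N := UniStruct.isPerfect_of h.perf
    intro n
    have h2 : (⊤ : Subgroup N) ≤ f.ker := by
      have h3 := h1.commutator_eq_top
      rw [← h3, commutator_def, commutator_le]
      intro a _ b _
      rw [MonoidHom.mem_ker, map_commutatorElement, commutatorElement_def, hcomm (f a) (f b)]
      group
    exact h2 (mem_top n)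
  · have h1 : NP M x ≤ f.ker.map (NP M x).subtype := by
      conv_lhs => rw [NP]
      rw [closure_le]
      rintro _ ⟨g, hg, rfl⟩
      refine ⟨⟨g * x * g⁻¹, UniStruct.mem_NP hg⟩, ?_, rfl⟩
      rw [SetLike.mem_coe, MonoidHom.mem_ker]
      obtain ⟨y, hy⟩ : ∃ y : NP M x, y = ⟨g * x * g⁻¹, UniStruct.mem_NP hg⟩ := ⟨_, rfl⟩
      rw [← hy]
      have h2 : orderOf y = r := by
        rw [hy, Subgroup.orderOf_mk, ← h.ord, ← MulAut.conj_apply]
        exact orderOf_injective (MulAut.conj g).toMonoidHom (MulAut.conj g).injective x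
      have h3 : orderOf (f y) ∣ r := h2 ▸ orderOf_map_dvd f y
      have h4 : orderOf (f y) ∣ 2 := orderOf_dvd_of_pow_eq_one (by rw [pow_two]; exact hK _)
      exact orderOf_eq_one_iff.1 (Nat.eq_one_of_dvd_coprimes
        ((Nat.coprime_primes h.prime Nat.prime_two).2 h.odd) h3 h4)
    intro n
    obtain ⟨m, hm, hmn⟩ := h1 n.2
    rw [← Subtype.ext (show (m : G) = n from hmn)]
    exact hm

/-- a piece `Y` of `M` acting trivially on `O/I` and on `I` centralises `O` -/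
theorem centralizes_of {M Y O I : Subgroup G} (hY : Pc M Y) (hI2 : ∀ x ∈ I, x * x = 1)
    (hIY : Y ≤ centralizer (I : Set G)) (hOY : ∀ o ∈ O, ∀ y ∈ Y, y * o * y⁻¹ * o⁻¹ ∈ I) :
    Y ≤ centralizer (O : Set G) := by
  intro y hy
  rw [mem_centralizer_iff]
  intro o ho
  have hIi : ∀ x ∈ I, x⁻¹ = x := fun x hx => inv_eq_of_mul_eq_one_left (hI2 x hx)
  -- `y ↦ [y, o]` is a homomorphism `Y → I`
  have hmul : ∀ a ∈ Y, ∀ b ∈ Y, a * b * o * (a * b)⁻¹ * o⁻¹ = (a * o * a⁻¹ * o⁻¹) * (b * o * b⁻¹ * o⁻¹) := by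
    intro a ha b hb
    have h1 := hOY o ho b hb
    have h2 := mem_centralizer_iff.1 (hIY ha) _ h1
    -- `I` is abelian
    have hcomm : ∀ p ∈ I, ∀ q ∈ I, p * q = q * p := by
      intro p hp q hq
      have h4 := hI2 _ (mul_mem hp hq)
      calc p * q = p * (p * q * (p * q)) * q := by rw [h4, mul_one]
        _ = (p * p) * (q * p) * (q * q) := by group
        _ = q * p := by rw [hI2 p hp, hI2 q hq]; group
    obtain ⟨d, hd⟩ : ∃ d, d = b * o * b⁻¹ * o⁻¹ := ⟨_, rfl⟩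
    rw [← hd] at h1 h2 ⊢
    have h5 : b * o * b⁻¹ = d * o := by rw [hd]; group
    have h6 := hOY o ho a ha
    calc a * b * o * (a * b)⁻¹ * o⁻¹ = a * (b * o * b⁻¹) * a⁻¹ * o⁻¹ := by group
      _ = (a * d) * o * a⁻¹ * o⁻¹ := by rw [h5]; group
      _ = d * (a * o * a⁻¹ * o⁻¹) := by rw [← h2]; group
      _ = (a * o * a⁻¹ * o⁻¹) * d := hcomm d h1 _ h6
  let f : Y →* I :=
    { toFun := fun a => ⟨(a : G) * o * (a : G)⁻¹ * o⁻¹, hOY o ho a a.2⟩
      map_one' := Subtype.ext (by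
        show (1 : G) * o * (1 : G)⁻¹ * o⁻¹ = 1
        group)
      map_mul' := fun a b => Subtype.ext (hmul a a.2 b b.2) }
  have h1 := hom_trivial hY f (fun k => Subtype.ext (hI2 k k.2)) ⟨y, hy⟩
  have h2 : y * o * y⁻¹ * o⁻¹ = 1 := congrArg Subtype.val h1
  calc o * y = (y * o * y⁻¹ * o⁻¹)⁻¹ * (y * o) := by group
    _ = y * o := by rw [h2]; group

/-- (1.4) -/
theorem ENS.le_o2_M (h : ENS S) (hI : TIData (S : Subgroup G) I) {A : Subgroup G}
    (hAJ : A ≤ jj (S : Subgroup G))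
    (hA : ∀ o ∈ o2 (normalizer (I : Set G)), ∀ a ∈ A, a * o * a⁻¹ * o⁻¹ ∈ I) : A ≤ o2 (normalizer (I : Set G)) := by
  by_contra hcon
  obtain ⟨M, hM⟩ : ∃ M : Subgroup G, M = normalizer (I : Set G) := ⟨_, rfl⟩
  have hAp : IsPGroup 2 A := (isPGroup_jj S).to_le hAJ
  have hAM : A ≤ M := hM ▸ hAJ.trans (jj_le_M hI)
  have hMo : o2 M ≠ ⊥ := by rw [hM]; exact o2_ne_bot_of_isTwoLocal (ENS.isTwoLocal_M hI)
  rw [← hM] at hA hcon
  obtain ⟨Y, hY, hmv⟩ := UniStruct.exists_pc h.hyp hMo hAp hAM hcon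
  have hYc := hY.comm h.hyp hAp hAM hmv
  have hJP : JP (S : Subgroup G) I Y := by
    rw [hM] at hY hmv
    obtain ⟨a, ha, n, hn, h1⟩ := hmv
    exact ⟨hY, a, hAJ ha, n, hn, h1⟩
  have hIY := hJP.le_centralizer h hI
  have hI2 : ∀ x ∈ I, x * x = 1 := fun x hx => by
    rw [← pow_two]
    exact (mem_zj.1 (hI.le_zj hx)).2.1
  -- elements of `M` acting trivially on `O₂(M)/I`
  obtain ⟨K, hK⟩ : ∃ K : Subgroup G, ∀ g, g ∈ K ↔ g ∈ M ∧ ∀ o ∈ o2 M, g * o * g⁻¹ * o⁻¹ ∈ I := by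
    have hIn : ∀ g ∈ M, ∀ x ∈ I, g * x * g⁻¹ ∈ I := by
      intro g hg x hx
      rw [hM] at hg
      exact (mem_normalizer_iff.1 hg x).1 hx
    have hon : ∀ g ∈ M, ∀ o ∈ o2 M, g * o * g⁻¹ ∈ o2 M := fun g hg o ho =>
      (mem_normalizer_iff.1 (Block.le_normalizer_o2 M hg) o).1 ho
    refine ⟨{ carrier := {g | g ∈ M ∧ ∀ o ∈ o2 M, g * o * g⁻¹ * o⁻¹ ∈ I}, one_mem' := ⟨one_mem _, fun o _ => by simp⟩,
              mul_mem' := ?_, inv_mem' := ?_ }, fun g => Iff.rfl⟩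
    · rintro a b ⟨ha, ha'⟩ ⟨hb, hb'⟩
      refine ⟨mul_mem ha hb, fun o ho => ?_⟩
      have e : a * b * o * (a * b)⁻¹ * o⁻¹ = (a * (b * o * b⁻¹) * a⁻¹ * (b * o * b⁻¹)⁻¹) * (b * o * b⁻¹ * o⁻¹) := by
        group
      rw [e]
      exact mul_mem (ha' _ (hon b hb o ho)) (hb' o ho)
    · rintro a ⟨ha, ha'⟩
      refine ⟨inv_mem ha, fun o ho => ?_⟩
      have h1 := ha' (a⁻¹ * o * a) (by have := hon a⁻¹ (inv_mem ha) o ho; rwa [inv_inv] at this)
      have e : a⁻¹ * o * a⁻¹⁻¹ * o⁻¹ = (a * (a⁻¹ * o * a) * a⁻¹ * (a⁻¹ * o * a)⁻¹)⁻¹ := by group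
      rw [e]
      exact inv_mem h1
  have hAK : A ≤ K := fun a ha => (hK a).2 ⟨hAM ha, fun o ho => hA o ho a ha⟩
  have hKn : Y ≤ normalizer (K : Set G) := by
    refine Block.le_normalizer_of_forall fun y hy k hk => ?_
    obtain ⟨hk1, hk2⟩ := (hK k).1 hk
    have hyM : y ∈ M := hY.le hy
    refine (hK _).2 ⟨mul_mem (mul_mem hyM hk1) (inv_mem hyM), fun o ho => ?_⟩
    have h1 : y⁻¹ * o * y ∈ o2 M := by
      have := (mem_normalizer_iff.1 (Block.le_normalizer_o2 M (inv_mem hyM)) o).1 ho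
      rwa [inv_inv] at this
    have h2 := hk2 _ h1
    have e : y * k * y⁻¹ * o * (y * k * y⁻¹)⁻¹ * o⁻¹ = y * (k * (y⁻¹ * o * y) * k⁻¹ * (y⁻¹ * o * y)⁻¹) * y⁻¹ := by group
    rw [e]
    rw [hM] at hyM
    exact (mem_normalizer_iff.1 hyM _).1 h2
  have hYK : Y ≤ K := by
    rw [← hYc]
    exact commutator_le_of hKn hAK
  have h1 := centralizes_of hY hI2 hIY (O := o2 M) fun o ho y hy => ((hK y).1 (hYK hy)).2 o ho
  have h2 : Y ≤ o2 M := (le_inf hY.le h1).trans (by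
    rw [hM]; exact char2_of_isTwoLocal h.hyp.char2 (ENS.isTwoLocal_M hI))
  exact hY.not_isPGroup ((Block.o2_isPGroup M).to_le h2)

end Cfsg.Agent.OddCyclic.EmpFrame
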