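import Cfsg.Agent.OddCyclic.RedTy

/-!
# S0342, (Empty): the weak form of `EmpFrame.EMP`

`EMPW S`: `J` centralises `Y`, or `X` is of type `bc` with respect to `Y ⊔ mod X T`. It needs no information on the
type `bc` (`RedEmpW.empw_of`).
-/

set_option autoImplicit false

namespace Cfsg.Agent.OddCyclic.EmpWeak

open Subgroup Cfsg Cfsg.Agent.ZN Cfsg.Agent.MinSimple Cfsg.Agent.MinSimple.DBlkApi
open Cfsg.Agent.OddCyclic.RedX (mod)
open Cfsg.Agent.OddCyclic.RedTy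

universe u

variable {G : Type u} [Group G]

/-- (Empty), weak form -/
def EMPW (S : Subgroup G) : Prop :=
  ∀ X T Y : Subgroup G, o2 X ≠ ⊥ → X ⊓ centralizer (o2 X : Set G) ≤ o2 X → T ≤ X → IsPGroup 2 T →
    ¬ 2 ∣ T.relIndex X → bau S ≤ T → Y ≤ zc (o2 X) → X ≤ normalizer (Y : Set G) →
    (∀ D : Subgroup G, D ≤ X → X ≤ normalizer (D : Set G) →
      (∀ d ∈ D, ∃ c ∈ centralizer (Y : Set G), ∃ t ∈ T, d = c * t) → D ≤ centralizer (Y : Set G)) →
    jj S ≤ centralizer (Y : Set G) ∨ ∃ L : Subgroup G, BcY X T (Y ⊔ mod X T) L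

end Cfsg.Agent.OddCyclic.EmpWeak
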