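import Cfsg.Agent.OddCyclic.EqNSeven

/-!
# (E_q), 6.B: `t` and a component of type `PSL₂(p)`, `p ≥ 7` prime
-/

set_option autoImplicit false
set_option linter.unusedSectionVars false

namespace Cfsg.Agent.OddCyclic.EqN

open Subgroup Matrix
open Cfsg.Agent.OddCyclic.T1Defs (OddCyc)
open Cfsg.Agent.OddCyclic.FFBasic Cfsg.Agent.OddCyclic.T1Module Cfsg.Agent.OddCyclic.FFRed
open Cfsg.Agent.Lib.SL2Mat Cfsg.Agent.GH.L2Aut Cfsg.Agent.OddCyclic.PGLTorus
open Cfsg.Agent.OddCyclic.Om5 (conjNormal_ne)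

variable {X V : Type*} [Group X] [CommGroup V]
variable {ρ : X →* MulAut V} {f : V → V → ZMod 2} {q : V → ZMod 2} {T : Sylow 2 X} {t : X} {l : V}

theorem Sit.false_of_psl [Finite X] [Finite V] (hc : OddCyc X) (h2 : pCore 2 X = ⊥)
    (hρ : Function.Injective ρ) (h : Sit ρ f q T t l) {L : Subgroup X} [hL : L.Normal] (hs : IsSimpleGroup L)
    (hLc : ∀ z ∈ L, z ∈ centralizer (L : Set X) → z = 1)
    {F : Type*} [Field F] [Finite F] (R : GH.L2Aut.Rep F L) (hF : (Nat.card F).Prime) (h7 : 7 ≤ Nat.card F)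
    (hna : t ∉ centralizer (L : Set X)) : False := by
  have hV := h.form.sq
  set ψ : X →* MulAut L := MulAut.conjNormal (H := L) with hψ
  have hψ1 : ψ t ≠ 1 := conjNormal_ne hna
  have hψ2 : ψ t * ψ t = 1 := by rw [← map_mul, h.sq, map_one]
  have h3F : (3 : F) ≠ 0 := FFPsl.three_ne hF h7
  obtain ⟨γ, hγ⟩ := R.mem_PGL.1 (mem_PGL_of_prime R hF (ψ t))
  have hγ0 : γ.1.trace = 0 := trace_of_sq R (by rw [← hγ]; exact hψ1) (by rw [← hγ]; exact hψ2)
  obtain ⟨y, hyL, hy3, hty⟩ := FFPsl.exists_three R h3F hγ0 hγ.symm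
  obtain ⟨hiy, -⟩ := h.three hy3 hty hρ
  have hall : ∀ z : X, orderOf z = 3 → (fx ρ z).index ≤ 16 := fun z hz => by
    rw [← FFPsl.index_eq_of_orderOf ρ hc Nat.prime_three (by norm_num) hy3 hz]; exact hiy.le
  -- `ψ t` is inner
  obtain ⟨S, hS⟩ := Om5.exists_sylow_of_normal T hL
  obtain ⟨w₁, w₂, hw₁, hw₂, hf⟩ := R.exists_four_mem S
  have hfixS : ∀ g ∈ S, ψ t g = g := by
    intro g hg
    apply Subtype.ext
    change (((MulAut.conjNormal t : MulAut L) g : L) : X) = g
    rw [MulAut.conjNormal_apply, mul_inv_eq_iff_eq_mul]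
    exact (h.comm g (hS g hg)).symm
  have hcomm : ∀ g ∈ S, ψ t * MulAut.conj g = MulAut.conj g * ψ t := by
    intro g hg
    ext1 l
    rw [MulAut.mul_apply, MulAut.mul_apply, MulAut.conj_apply, MulAut.conj_apply, map_mul, map_mul, map_inv,
      hfixS g hg]
  obtain ⟨w, hwS, hww, hw1, hwψ⟩ : ∃ w ∈ S, w * w = 1 ∧ w ≠ 1 ∧ ψ t = MulAut.conj w := by
    by_contra hcon
    push Not at hcon
    have hw12 : w₁ * w₂ ∈ S := mul_mem hw₁ hw₂
    have h12 : w₁ * w₂ * (w₁ * w₂) = 1 := hf.right.bb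
    have h12' : w₁ * w₂ ≠ 1 := hf.right.b1
    have n1 := hcon w₁ hw₁ hf.aa hf.a1
    have n2 := hcon w₂ hw₂ hf.bb hf.b1
    have n3 := hcon (w₁ * w₂) hw12 h12 h12'
    obtain ⟨δ₁, hδ₁⟩ := R.mem_PGL.1 (mem_PGL_of_prime R hF (MulAut.conj w₁))
    obtain ⟨δ₂, hδ₂⟩ := R.mem_PGL.1 (mem_PGL_of_prime R hF (MulAut.conj w₂))
    have key : ∀ g ∈ S, g * g = 1 → ψ t ≠ MulAut.conj g → ψ t * MulAut.conj g ≠ 1 ∧
        ψ t * MulAut.conj g * (ψ t * MulAut.conj g) = 1 := by
      intro g hg hgg hne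
      have hcg : MulAut.conj g * MulAut.conj g = (1 : MulAut L) := by rw [← map_mul, hgg, map_one]
      refine ⟨fun h1 => hne ?_, ?_⟩
      · calc ψ t = ψ t * MulAut.conj g * MulAut.conj g := by rw [mul_assoc, hcg, mul_one]
          _ = MulAut.conj g := by rw [h1, one_mul]
      · calc ψ t * MulAut.conj g * (ψ t * MulAut.conj g) = ψ t * (MulAut.conj g * ψ t) * MulAut.conj g := by group
          _ = ψ t * (ψ t * MulAut.conj g) * MulAut.conj g := by rw [hcomm g hg]
          _ = (ψ t * ψ t) * (MulAut.conj g * MulAut.conj g) := by group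
          _ = 1 := by rw [hψ2, hcg, mul_one]
    have t1 : δ₁.1.trace = 0 := trace_of_sq R
      (by rw [← hδ₁]; exact fun h1 => hf.a1 (R.conj_injective (h1.trans (map_one _).symm)))
      (by rw [← hδ₁, ← map_mul, hf.aa, map_one])
    have t2 : δ₂.1.trace = 0 := trace_of_sq R
      (by rw [← hδ₂]; exact fun h1 => hf.b1 (R.conj_injective (h1.trans (map_one _).symm)))
      (by rw [← hδ₂, ← map_mul, hf.bb, map_one])
    obtain ⟨k1, k1'⟩ := key w₁ hw₁ hf.aa n1
    obtain ⟨k2, k2'⟩ := key w₂ hw₂ hf.bb n2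
    obtain ⟨k3, k3'⟩ := key (w₁ * w₂) hw12 h12 n3
    have t3 : (γ.1 * δ₁.1).trace = 0 := trace_of_sq R (g := γ * δ₁)
      (by rw [map_mul, ← hγ, ← hδ₁]; exact k1) (by rw [map_mul, ← hγ, ← hδ₁]; exact k1')
    have t4 : (γ.1 * δ₂.1).trace = 0 := trace_of_sq R (g := γ * δ₂)
      (by rw [map_mul, ← hγ, ← hδ₂]; exact k2) (by rw [map_mul, ← hγ, ← hδ₂]; exact k2')
    have t5 : (δ₁.1 * δ₂.1).trace = 0 := trace_of_sq R (g := δ₁ * δ₂)
      (by rw [map_mul, ← hδ₁, ← hδ₂, ← map_mul]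
          exact fun h1 => h12' (R.conj_injective (h1.trans (map_one _).symm)))
      (by rw [map_mul, ← hδ₁, ← hδ₂, ← map_mul, ← map_mul, h12, map_one])
    have t6 : (γ.1 * δ₁.1 * δ₂.1).trace = 0 := trace_of_sq R (g := γ * δ₁ * δ₂)
      (by rw [map_mul, map_mul, ← hγ, ← hδ₁, ← hδ₂, mul_assoc, ← map_mul MulAut.conj]; exact k3)
      (by rw [map_mul, map_mul, ← hγ, ← hδ₁, ← hδ₂, mul_assoc (ψ t), ← map_mul MulAut.conj]; exact k3')
    exact FFPslMat.no_three hγ0 t1 t2 t3 t4 t5 t6 R.two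
  -- `t ∈ L`
  have htw : t * (w : X) = w * t := (h.comm w (hS w hwS)).symm
  have hwin : ∀ l ∈ L, t * l * t⁻¹ = (w : X) * l * (w : X)⁻¹ := by
    intro l hl
    have h1 := congrArg (fun α : MulAut L => ((α ⟨l, hl⟩ : L) : X)) hwψ
    simpa [hψ, MulAut.conjNormal_apply, MulAut.conj_apply] using h1
  have hwwX : (w : X) * w = 1 := congrArg Subtype.val hww
  have hwi : (w : X)⁻¹ = w := inv_eq_of_mul_eq_one_left hwwX
  have hti : t⁻¹ = t := inv_eq_of_mul_eq_one_left h.sq
  obtain ⟨c, hcdef⟩ : ∃ c : X, c = t * w := ⟨_, rfl⟩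
  have hcC : c ∈ centralizer (L : Set X) := by
    rw [mem_centralizer_iff]
    intro l hl
    have h1 := hwin ((w : X) * l * (w : X)⁻¹) (mul_mem (mul_mem w.2 hl) (inv_mem w.2))
    have h3 : c * l * c⁻¹ = l := by
      calc c * l * c⁻¹ = t * ((w : X) * l * (w : X)⁻¹) * t⁻¹ := by rw [hcdef]; group
        _ = ((w : X) * w) * l * ((w : X) * w)⁻¹ := by rw [h1]; group
        _ = l := by rw [hwwX]; group
    exact (mul_inv_eq_iff_eq_mul.1 h3).symm
  have hcc : c * c = 1 := by
    calc c * c = t * (w * t) * w := by rw [hcdef]; group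
      _ = (t * t) * (w * w) := by rw [← htw]; group
      _ = 1 := by rw [h.sq, hwwX, mul_one]
  have hc1 : c = 1 := by
    by_contra hc1
    have hCn : (centralizer (L : Set X)).Normal := inferInstance
    have hO : ¬ IsPGroup 2 (Subgroup.normalClosure {c} : Subgroup X) := by
      intro hO
      have h1 : Subgroup.normalClosure {c} ≤ pCore 2 X := by
        rw [Cfsg.Agent.Lib.Cores.pCore_def]
        exact le_sSup ⟨Subgroup.normalClosure_normal, hO⟩
      rw [h2, le_bot_iff] at h1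
      have h3 : c ∈ Subgroup.normalClosure ({c} : Set X) := Subgroup.subset_normalClosure rfl
      rw [h1, mem_bot] at h3
      exact hc1 h3
    obtain ⟨g, hg1, hgo, hgc⟩ := Involutions.BaerSuzuki.exists_odd_inverted c hcc hO
    -- `g ∈ C(L)`
    have hgC2 : g * g ∈ centralizer (L : Set X) := by
      have h1 : g * g = (g * c * g⁻¹) * c⁻¹ := by
        have h3 : c * g⁻¹ = g * c := by
          calc c * g⁻¹ = (c * g * c⁻¹)⁻¹ * c := by group
            _ = g * c := by rw [hgc, inv_inv]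
        calc g * g = g * (g * c) * c⁻¹ := by group
          _ = g * (c * g⁻¹) * c⁻¹ := by rw [h3]
          _ = (g * c * g⁻¹) * c⁻¹ := by group
      rw [h1]
      exact mul_mem (hCn.conj_mem c hcC g) (inv_mem hcC)
    have hgC : g ∈ centralizer (L : Set X) := by
      obtain ⟨k, hk⟩ := hgo
      have h1 : (g * g) ^ (k + 1) = g := by
        rw [← pow_two, ← pow_mul]
        have : 2 * (k + 1) = orderOf g + 1 := by omega
        rw [this, pow_succ, pow_orderOf_eq_one, one_mul]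
      rw [← h1]
      exact pow_mem hgC2 _
    have ho1 : orderOf g ≠ 1 := fun h => hg1 (orderOf_eq_one_iff.mp h)
    obtain ⟨r, hr, hrd⟩ := Nat.exists_prime_and_dvd ho1
    have hr2 : r ≠ 2 := by
      rintro rfl
      exact (Nat.not_even_iff_odd.mpr hgo) (even_iff_two_dvd.mpr hrd)
    set z := g ^ (orderOf g / r) with hz
    have hzC : z ∈ centralizer (L : Set X) := pow_mem hgC _
    have hzo : orderOf z = r := by
      rw [hz]
      exact orderOf_pow_orderOf_div (orderOf_pos g).ne' hrd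
    have hzi : c * z * c⁻¹ = z⁻¹ := by
      rw [hz, ← conj_pow, hgc, inv_pow]
    have hzw : (w : X) * z = z * w := mem_centralizer_iff.1 hzC w w.2
    have htz : t * z * t⁻¹ = z⁻¹ := by
      have h1 : t = c * w := by rw [hcdef, mul_assoc, hwwX, mul_one]
      calc t * z * t⁻¹ = c * (w * z * (w : X)⁻¹) * c⁻¹ := by rw [h1]; group
        _ = c * z * c⁻¹ := by rw [hzw]; group
        _ = z⁻¹ := hzi
    obtain ⟨rfl, -⟩ := h.real hρ hr hr2 hzo htz
    have hzy : Commute z y := (mem_centralizer_iff.1 hzC y hyL).symm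
    have h1 := CompBasic.zpowers_eq_of_commute hc Nat.prime_three (by norm_num) hzo hy3 hzy
    have h3 : z ∈ zpowers y := by rw [← h1]; exact mem_zpowers z
    have h4 := hLc z ((zpowers_le.2 hyL) h3) hzC
    rw [h4, orderOf_one] at hzo
    norm_num at hzo
  have htL : t ∈ L := by
    have h1 : t = w := by
      rw [hcdef, mul_eq_one_iff_eq_inv, hwi] at hc1
      exact hc1
    rw [h1]; exact w.2
  have hne : ∀ y ∈ L, y ≠ 1 → ∃ v, ρ y v ≠ v := fun y _ hy1 => ne_of_ne hρ hy1
  -- `|F| = 7`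
  have hF7 : Nat.card F = 7 := by
    let w' : L := R.π (Cfsg.Agent.Lib.PSL2Torus.jm F)
    have hj : Cfsg.Agent.Lib.PSL2Torus.jm F * Cfsg.Agent.Lib.PSL2Torus.jm F = -1 := by
      refine ext_ent ?_ ?_ ?_ ?_
      · rw [ent_mul]; show 0 * 0 + (-1) * 1 = -(1 : F); ring
      · rw [ent_mul]; show 0 * (-1) + (-1) * 0 = -(0 : F); ring
      · rw [ent_mul]; show 1 * 0 + 0 * 1 = -(0 : F); ring
      · rw [ent_mul]; show 1 * (-1) + 0 * 0 = -(1 : F); ring
    have hw2 : w' * w' = 1 := by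
      show R.π _ * R.π _ = 1
      rw [← map_mul, hj, R.ker]
      exact Or.inr rfl
    have hw1' : w' ≠ 1 := by
      intro h1
      have h2 : R.π (Cfsg.Agent.Lib.PSL2Torus.jm F) = 1 := h1
      rw [R.ker] at h2
      rcases h2 with h2 | h2
      · have := congrArg (fun w => ent w 1 0) h2
        simp only [Cfsg.Agent.Lib.PSL2Torus.jm_10, ent_one_10] at this
        exact one_ne_zero this
      · have h3 : (1 : F) = -0 := congrArg (fun w => ent w 1 0) h2
        rw [neg_zero] at h3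
        exact one_ne_zero h3
    obtain ⟨g, hg⟩ := Cfsg.Agent.Lib.PSL2Torus.conj_inv_hom R.π R.two R.surj R.ker
      (t := (⟨t, htL⟩ : L)) (u := w') (fun h1 => h.ne (congrArg Subtype.val h1)) (Subtype.ext h.sq) hw1' hw2
    have hgw : (g : X) * t * (g : X)⁻¹ = (w' : X) := congrArg Subtype.val hg
    have hiw : (fx ρ (w' : X)).index ≤ 4 := by
      rw [← hgw, index_fx_conj]; exact h.idx.le
    have hz : orderOf ((R.π (up 1 * Cfsg.Agent.Lib.PSL2Torus.jm F) : L) : X) = 3 := by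
      apply FFPsl.orderOf_three R h3F
      rw [ent_mul, ent_mul]
      show (1 : F) * 0 + 1 * 1 + (0 * (-1) + 1 * 0) = 1
      ring
    have hu : ((R.π (up 1) : L) : X) = (R.π (up 1 * Cfsg.Agent.Lib.PSL2Torus.jm F) : L) * (w' : X) := by
      have h1 : R.π (up 1) = R.π (up 1 * Cfsg.Agent.Lib.PSL2Torus.jm F) * w' := by
        rw [map_mul, mul_assoc]
        show R.π (up 1) = R.π (up 1) * (w' * w')
        rw [hw2, mul_one]
      rw [h1]; rfl
    have hiu : (fx ρ ((R.π (up 1) : L) : X)).index ≤ 64 := by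
      rw [hu]
      exact (FFPsl.index_mul_le ρ _ _).trans (Nat.mul_le_mul (hall _ hz) hiw)
    have hou := FFPsl.orderOf_u R hF
    have hune : ((R.π (up 1) : L) : X) ≠ 1 := by
      intro h1
      rw [h1, orderOf_one] at hou
      omega
    obtain ⟨d, hd, hd1, hd2⟩ := prim (ρ := ρ) hV hF (by omega) hou (hne _ (R.π (up 1)).2 hune)
    have hd6 : d ≤ 6 := by
      rw [hd1] at hiu
      have : (2 : ℕ) ^ d ≤ 2 ^ 6 := hiu
      exact (Nat.pow_le_pow_iff_right (by norm_num)).1 this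
    have h731 : Nat.card F = 7 ∨ Nat.card F = 31 := by
      have h63 : Nat.card F ≤ 63 := by
        have h1 := Nat.le_of_dvd (by
          have : 2 ^ 1 ≤ 2 ^ d := Nat.pow_le_pow_right (by norm_num) hd
          omega) hd2
        have : (2 : ℕ) ^ d ≤ 2 ^ 6 := Nat.pow_le_pow_right (by norm_num) hd6
        omega
      have hpr := hF
      clear hiu hd1 hou h3F hF hune
      generalize Nat.card F = n at *
      interval_cases d <;> interval_cases n <;> first | omega | (exfalso; revert hpr; norm_num)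
    rcases h731 with h1 | h1
    · exact h1
    · exfalso
      obtain ⟨y, hyL, hy15, hay⟩ := FFPsl.exists_fifteen R h1 hγ0 hγ.symm
      refine FFPsl.kill15 hV hy15 hay ?_ ?_ h.idx.le
      · apply hne _ (pow_mem hyL 3)
        intro h2
        have := orderOf_dvd_of_pow_eq_one h2
        rw [hy15] at this
        norm_num at this
      · apply hne _ (pow_mem hyL 5)
        intro h2
        have := orderOf_dvd_of_pow_eq_one h2
        rw [hy15] at this
        norm_num at this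
  have hL32 : FFThree.L32 L := FFThree.l32_of R hF7
  have hsev : Sev (ρ.comp L.subtype) (⟨t, htL⟩ : L) :=
    { l32 := hL32
      sq := hV
      tt := Subtype.ext h.sq
      t1 := fun h1 => h.ne (congrArg Subtype.val h1)
      idx := h.idx
      baer := fun y hy r hr hyr => h.baer y (by rw [Subgroup.orderOf_coe]; exact hy) r hr hyr
      nc := by
        intro x y hx hx1 hy hxy
        obtain ⟨t, ht⟩ := Om5.three_square R hx hx1 hy hxy
        exact Om5.not_square_three (Or.inl hF7) t ht }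
  exact hsev.false (y := ⟨y, hyL⟩) (by rw [Subgroup.orderOf_mk]; exact hy3) hiy.le

end Cfsg.Agent.OddCyclic.EqN
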