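import Cfsg.Agent.OddCyclic.EqNFit
import Cfsg.Agent.OddCyclic.EqNComp
import Cfsg.Agent.OddCyclic.EqNPsl
import Cfsg.Agent.OddCyclic.T1Socle

/-!
# (E_q), 6.B is impossible
-/

set_option autoImplicit false
set_option linter.unusedSectionVars false

namespace Cfsg.Agent.OddCyclic.EqN

open Subgroup Matrix Cfsg
open Cfsg.Agent.OddCyclic.T1Defs (OddCyc)
open Cfsg.Agent.OddCyclic.PumpMain (KZero)
open Cfsg.Agent.OddCyclic.FFBasic Cfsg.Agent.OddCyclic.FFRed

variable {X V : Type*} [Group X] [CommGroup V]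
variable {ρ : X →* MulAut V} {f : V → V → ZMod 2} {q : V → ZMod 2} {T : Sylow 2 X} {t : X} {l : V}

/-- `t` centralises the components -/
theorem Sit.mem_centralizer [Finite X] [Finite V] (hc : OddCyc X)
    (hk : ∀ J : Subgroup X, IsSimpleGroup J → (∃ x y : J, x * y ≠ y * x) → KZero J)
    (h2 : pCore 2 X = ⊥) (hρ : Function.Injective ρ) (h : Sit ρ f q T t l) {L : Subgroup X} (hL : IsComponent L) :
    t ∈ centralizer (L : Set X) := by
  by_contra hna
  have hLn : L.Normal := FFStruct.component_normal hc hL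
  have hs : IsSimpleGroup L := FFStruct.simple_component hc h2 hL
  have hKz : KZero L := by
    refine hk L hs ?_
    by_contra hcon
    push Not at hcon
    exact Cfsg.Agent.SignalizersComponents.Components.quasisimple_not_isMulCommutative hL.2 ⟨⟨hcon⟩⟩
  rcases hKz with ⟨F, _, _, hp, h5, ⟨e⟩⟩ | ⟨F, _, _, f, hf, hF, ⟨e⟩⟩ | hSz | ⟨hJ, k, hk⟩
  · have hodd : Odd (Fintype.card F) := hp.odd_of_ne_two (by omega)
    by_cases h5' : Fintype.card F = 5
    · obtain ⟨K, _, _, _, hK4, ⟨e'⟩⟩ := T1Socle.exists_four h5'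
      exact h.false_of_sl2 hρ (F := K) (by rw [hK4]) (e.trans e').symm hna
    · have h7 : 7 ≤ Fintype.card F := by
        have h6 : Fintype.card F ≠ 6 := by
          intro h6
          rw [h6] at hp
          revert hp
          norm_num
        omega
      have R := Cfsg.Agent.GH.L2Aut.Rep.ofEquiv (Cfsg.Agent.GH.L2Aut.two_ne_zero_of_odd hodd) e
      exact h.false_of_psl hc h2 hρ hs (FFStruct.inter_centralizer hc h2 hL) R
        (by rw [Nat.card_eq_fintype_card]; exact hp) (by rw [Nat.card_eq_fintype_card]; exact h7) hna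
  · have h4 : 4 ≤ Fintype.card F := by
      rw [hF]
      calc 4 = 2 ^ 2 := by norm_num
        _ ≤ 2 ^ f := Nat.pow_le_pow_right (by norm_num) hf
    have hch : CharP F 2 := by
      have hch := ringChar.charP F
      have h1 : ringChar F ∣ 2 ^ f := by
        rw [← hF, ← CharP.cast_eq_zero_iff F (ringChar F), Nat.cast_card_eq_zero]
      have h2 : (ringChar F).Prime := CharP.char_is_prime F (ringChar F)
      have h3 : ringChar F = 2 := (Nat.prime_dvd_prime_iff_eq h2 Nat.prime_two).1 (h2.dvd_of_dvd_pow h1)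
      rwa [h3] at hch
    obtain ⟨g⟩ := WeakTI.PslTwo.nonempty_equiv (F := F)
    exact h.false_of_sl2 hρ h4 (g.trans e.symm) hna
  · exact h.false_of_sz hρ hSz hna
  · exact h.false_of_j1 hρ hJ hk hna

/-- **6.B is impossible** -/
theorem Sit.false [Finite X] [Finite V] (hc : OddCyc X)
    (hk : ∀ J : Subgroup X, IsSimpleGroup J → (∃ x y : J, x * y ≠ y * x) → KZero J)
    (h2 : pCore 2 X = ⊥) (hρ : Function.Injective ρ) (h : Sit ρ f q T t l) : False := by
  have hcomp : ∀ K : Subgroup X, IsComponent K → t ∈ centralizer (K : Set X) := fun K hK =>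
    h.mem_centralizer hc hk h2 hρ hK
  by_cases hF : ∀ z ∈ fittingSubgroup X, t * z = z * t
  · exact h.ne (FFStruct.eq_one_of_centralizes h2 h.sq hF hcomp)
  · push Not at hF
    obtain ⟨z, hz, hzt⟩ := hF
    exact h.false_of_fitting hc h2 hρ hcomp hz hzt

end Cfsg.Agent.OddCyclic.EqN
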