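import Cfsg.Agent.OddCyclic.Om5BPsl
import Cfsg.Agent.OddCyclic.FFThree
import Cfsg.Agent.OddCyclic.BTwoLin.Basic
import Cfsg.Agent.Involutions.BaerSuzuki

/-!
# (E_q), 6.B: the module `V_z / Z` with its quadratic form: elements inverted by `t`

Blueprint: blueprints/S0342-A2-helper402.md, (6.8)-(6.10).
-/

set_option autoImplicit false
set_option linter.unusedSectionVars false

namespace Cfsg.Agent.OddCyclic.EqN

open Subgroup
open Cfsg.Agent.OddCyclic.T1Defs (OddCyc)
open Cfsg.Agent.OddCyclic.FFBasic Cfsg.Agent.OddCyclic.FFRed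
open Cfsg.Agent.OddCyclic.BTwoLin (Form)

variable {X V : Type*} [Group X] [CommGroup V]

/-- the situation of 6.B -/
structure Sit (ρ : X →* MulAut V) (f : V → V → ZMod 2) (q : V → ZMod 2) (T : Sylow 2 X) (t : X) (l : V) : Prop where
  form : Form ρ f q
  ne : t ≠ 1
  sq : t * t = 1
  comm : ∀ s ∈ T, s * t = t * s
  idx : (fx ρ t).index = 4
  sing : ∀ r ∈ (cm ρ t).range, q r = 0
  lne : l ≠ 1
  lmem : l ∈ (cm ρ t).range
  fixl : ∀ s ∈ T, ρ s l = l
  gen : ∀ N : Subgroup V, (∀ g, ρ g l ∈ N) → N = ⊤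
  nrad : ∃ x, f l x ≠ 0
  swap : ∃ s ∈ T, ∃ r ∈ (cm ρ t).range, ρ s r ≠ r
  baer : ∀ y, orderOf y = 3 → ∀ r ∈ (cm ρ t).range, ρ y r = r → r = 1

theorem ne_of_ne {ρ : X →* MulAut V} (hρ : Function.Injective ρ) {y : X} (hy1 : y ≠ 1) : ∃ v, ρ y v ≠ v := by
  by_contra hcon
  push Not at hcon
  apply hy1
  apply hρ
  rw [map_one]
  exact MulEquiv.ext hcon

/-- `V = [V,y] × C_V(y)` -/
theorem exists_decomp [Finite V] {ρ : X →* MulAut V} (hV : ∀ v : V, v * v = 1) {y : X} (hy : Odd (orderOf y)) (v : V) :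
    ∃ a ∈ (cm ρ y).range, ∃ b ∈ fx ρ y, v = a * b := by
  have h1 : IsComplement' (cm ρ y).range (fx ρ y) := by
    apply isComplement'_of_card_mul_and_disjoint
    · rw [card_range_cm, mul_comm]
      exact Subgroup.card_mul_index _
    · rw [disjoint_iff, eq_bot_iff]
      intro w hw
      rw [mem_bot]
      exact eq_one_of_fix hV hy hw.1 hw.2
  obtain ⟨⟨a, b⟩, hab⟩ := h1.2 v
  exact ⟨a, a.2, b, b.2, hab.symm⟩

section

variable {ρ : X →* MulAut V} {y t : X}

/-- if `t` inverts `y` then `t` normalises `C_V(y)` -/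
theorem apply_mem_fx_of_inv (h : t * y * t⁻¹ = y⁻¹) {v : V} (hv : v ∈ fx ρ y) : ρ t v ∈ fx ρ y := by
  have h1 : y * t = t * y⁻¹ := by
    have h2 : t⁻¹ * (y * t) = (t⁻¹ * y * t) := by group
    have h3 : t⁻¹ * y⁻¹ * t = y := by rw [← h]; group
    have h4 : t⁻¹ * y * t = y⁻¹ := by
      rw [← inv_inj, inv_inv]
      calc (t⁻¹ * y * t)⁻¹ = t⁻¹ * y⁻¹ * t := by group
        _ = y := h3
    rw [← h4]; group
  rw [mem_fx, ← MulAut.mul_apply, ← map_mul, h1, map_mul, MulAut.mul_apply, (mem_fx ρ).1 (fx_inv ρ hv)]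

theorem apply_cm (hV : ∀ v : V, v * v = 1) (ht : t * t = 1) {r : V} (hr : r ∈ (cm ρ t).range) : ρ t r = r := by
  obtain ⟨v, rfl⟩ := hr
  rw [cm_apply, map_mul, map_inv, ← MulAut.mul_apply, ← map_mul, ht, map_one]
  change v * (ρ t v)⁻¹ = ρ t v * v⁻¹
  rw [inv_eq_of_mul_eq_one_right (hV (ρ t v)), inv_eq_of_mul_eq_one_right (hV v), mul_comm]

/-- the trick: if `t` inverts `y` of odd order then the translates of `C_V(t)` under powers of `y` are disjoint -/
theorem fix_trick (hy : Odd (orderOf y)) (h : t * y * t⁻¹ = y⁻¹) {i : ℕ} {v w : V} (hv : ρ t v = v)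
    (hw : ρ t w = w) (hvw : ρ (y ^ i) v = w) : ρ (y ^ i) v = v := by
  have h1 : t * y ^ i * t⁻¹ = (y ^ i)⁻¹ := by rw [← conj_pow, h, inv_pow]
  have h2 : ρ (y ^ i)⁻¹ v = w := by
    rw [← h1, map_mul, map_mul, MulAut.mul_apply, MulAut.mul_apply]
    have h3 : ρ t⁻¹ v = v := fx_inv ρ hv
    rw [h3, hvw, hw]
  have h3 : v ∈ fx ρ (y ^ i * y ^ i) := by
    rw [mem_fx, map_mul, MulAut.mul_apply, hvw, ← h2, ← MulAut.mul_apply, ← map_mul, mul_inv_cancel, map_one]
    rfl
  have h4 : Odd (orderOf (y ^ i)) := Odd.of_dvd_nat hy (orderOf_pow_dvd i)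
  exact fx_of_sq ρ h4 h3

/-- powers of `y`, of odd prime order, have no fixed points on `[V,y]` -/
theorem eq_one_of_pow (hV : ∀ v : V, v * v = 1) {r : ℕ} (hr : r.Prime) (hr2 : r ≠ 2) (hy : orderOf y = r) {i : ℕ}
    (hi : 0 < i) (hir : i < r) {v : V} (hv : v ∈ (cm ρ y).range) (hf : ρ (y ^ i) v = v) : v = 1 := by
  have hodd : Odd (orderOf y) := by rw [hy]; exact hr.odd_of_ne_two hr2
  apply eq_one_of_fix hV hodd hv
  have h1 : Nat.gcd r i = 1 := (Nat.Coprime.symm (Nat.coprime_of_lt_prime hi.ne' hir hr)).symm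
  have h2 : y ∈ zpowers (y ^ i) := by
    have hfin : Finite (zpowers y) := Nat.finite_of_card_ne_zero (by rw [Nat.card_zpowers, hy]; exact hr.ne_zero)
    have h3 : zpowers (y ^ i) = zpowers y := by
      apply Subgroup.eq_of_le_of_card_ge
      · rw [zpowers_le]; exact pow_mem (mem_zpowers y) i
      · rw [Nat.card_zpowers, Nat.card_zpowers, orderOf_pow' y hi.ne', hy, h1, Nat.div_one]
    rw [h3]; exact mem_zpowers y
  exact FFPsl.fx_le_of_mem ρ h2 hf

end

variable {ρ : X →* MulAut V} {f : V → V → ZMod 2} {q : V → ZMod 2} {T : Sylow 2 X} {t : X} {l : V}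

/-- order 3 -/
theorem Sit.three [Finite V] (h : Sit ρ f q T t l) {y : X} (hy : orderOf y = 3) (hty : t * y * t⁻¹ = y⁻¹)
    (hρ : Function.Injective ρ) : (fx ρ y).index = 16 ∧ (cm ρ t).range ≤ (cm ρ y).range := by
  have hV := h.form.sq
  have hodd : Odd (orderOf y) := by rw [hy]; decide
  have hy1 : y ≠ 1 := by rintro rfl; rw [orderOf_one] at hy; norm_num at hy
  have hne := ne_of_ne hρ hy1
  have h16 : (fx ρ y).index ≤ 16 := (half' ρ hodd hty).trans (by rw [h.idx]; norm_num)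
  have hle : fx ρ y ≤ fx ρ t := by
    intro v hv
    have h1 : cm ρ t v ∈ fx ρ y := mul_mem (apply_mem_fx_of_inv hty hv) (inv_mem hv)
    have h2 := h.baer y hy _ ⟨v, rfl⟩ h1
    rw [cm_apply, mul_inv_eq_one] at h2
    exact h2
  have hR : (cm ρ t).range ≤ (cm ρ y).range := by
    rintro _ ⟨v, rfl⟩
    obtain ⟨a, ha, b, hb, rfl⟩ := exists_decomp hV hodd v
    have h1 : cm ρ t b = 1 := by
      rw [cm_apply, mul_inv_eq_one]; exact hle hb
    rw [map_mul, h1, mul_one]
    exact mul_mem (apply_mem_range_of_inv ρ hty ha) (inv_mem ha)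
  refine ⟨?_, hR⟩
  obtain ⟨d, hd, h1, h2⟩ := prim (ρ := ρ) hV Nat.prime_three (by norm_num) hy hne
  have hd4 : d ≤ 4 := by
    rw [h1] at h16
    exact (Nat.pow_le_pow_iff_right (by norm_num : 1 < 2)).1 (h16.trans (by norm_num : 16 ≤ 2 ^ 4))
  have hcard : Nat.card (cm ρ t).range = 4 := by rw [card_range_cm, h.idx]
  have h3 : d = 2 ∨ d = 4 := by
    interval_cases d
    · norm_num at h2
    · exact Or.inl rfl
    · norm_num at h2
    · exact Or.inr rfl
  rcases h3 with rfl | rfl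
  · exfalso
    have h4 : (cm ρ t).range = (cm ρ y).range := by
      apply Subgroup.eq_of_le_of_card_ge hR
      rw [hcard, card_range_cm, h1]
      norm_num
    have h5 : (cm ρ y).range = ⊥ := by
      rw [eq_bot_iff]
      intro v hv
      rw [mem_bot]
      have h6 : ρ t v = v := apply_cm hV h.sq (by rw [h4]; exact hv)
      have h7 : ρ t (ρ (y ^ 1) v) = ρ (y ^ 1) v := by
        rw [pow_one]
        exact apply_cm hV h.sq (by rw [h4]; exact apply_mem_range ρ rfl hv)
      have h8 := fix_trick (i := 1) hodd hty h6 h7 rfl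
      rw [pow_one] at h8
      exact eq_one_of_fix hV hodd hv h8
    have h6 : Nat.card (cm ρ y).range = 1 := by rw [h5, Subgroup.card_bot]
    rw [card_range_cm, h1] at h6
    norm_num at h6
  · rw [h1]; norm_num

/-- order 5 is impossible -/
theorem Sit.not_five [Finite V] (h : Sit ρ f q T t l) {y : X} (hy : orderOf y = 5) (hty : t * y * t⁻¹ = y⁻¹)
    (hρ : Function.Injective ρ) : False := by
  classical
  have hV := h.form.sq
  have hodd : Odd (orderOf y) := by rw [hy]; decide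
  have hy1 : y ≠ 1 := by rintro rfl; rw [orderOf_one] at hy; norm_num at hy
  have hne := ne_of_ne hρ hy1
  have h16 : (fx ρ y).index ≤ 16 := (half' ρ hodd hty).trans (by rw [h.idx]; norm_num)
  obtain ⟨d, hd, h1, h2⟩ := prim (ρ := ρ) hV Nat.prime_five (by norm_num) hy hne
  have hd4 : d ≤ 4 := by
    rw [h1] at h16
    exact (Nat.pow_le_pow_iff_right (by norm_num : 1 < 2)).1 (h16.trans (by norm_num : 16 ≤ 2 ^ 4))
  have hidx : (fx ρ y).index = 16 := by
    interval_cases d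
    · norm_num at h2
    · norm_num at h2
    · norm_num at h2
    · rw [h1]; norm_num
  set N := (cm ρ y).range with hN
  have hNc : Nat.card N = 16 := by rw [hN, card_range_cm, hidx]
  have hNst : ∀ i : ℕ, ∀ v ∈ N, ρ (y ^ i) v ∈ N := fun i v hv =>
    apply_mem_range ρ ((Commute.refl y).pow_left i) hv
  set C : Subgroup V := fx ρ t ⊓ N with hC
  -- the map of the trick
  let g : Fin 5 × {x : C // x ≠ 1} → {x : N // x ≠ 1} := fun p =>
    ⟨⟨ρ (y ^ (p.1 : ℕ)) (p.2.1 : V), hNst _ _ p.2.1.2.2⟩, by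
      intro h0
      have h1 : ρ (y ^ (p.1 : ℕ)) (p.2.1 : V) = 1 := congrArg Subtype.val h0
      apply p.2.2
      apply Subtype.ext
      exact (map_eq_one_iff _ (ρ (y ^ (p.1 : ℕ))).injective).1 h1⟩
  have hkey : ∀ i : ℕ, i < 5 → ∀ u ∈ C, ∀ v ∈ C, ρ (y ^ i) u = v → u ≠ 1 → i = 0 := by
    intro i hi u hu v hv huv hu1
    by_contra h0
    have h3 := fix_trick hodd hty hu.1 hv.1 huv
    exact hu1 (eq_one_of_pow hV Nat.prime_five (by norm_num) hy (Nat.pos_of_ne_zero h0) hi hu.2 h3)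
  have hg : Function.Injective g := by
    rintro ⟨i, u⟩ ⟨j, v⟩ he
    have he' : ρ (y ^ (i : ℕ)) (u.1 : V) = ρ (y ^ (j : ℕ)) (v.1 : V) :=
      congrArg (fun x : {x : N // x ≠ 1} => ((x.1 : N) : V)) he
    wlog hij : (i : ℕ) ≤ j generalizing i j u v
    · exact (this j v i u he.symm he'.symm (by omega)).symm
    have h3 : ρ (y ^ ((j : ℕ) - i)) (v.1 : V) = u.1 := by
      apply (ρ (y ^ (i : ℕ))).injective
      rw [← MulAut.mul_apply, ← map_mul, ← pow_add, Nat.add_sub_cancel' hij]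
      exact he'.symm
    have h4 := hkey _ (by have := j.2; omega) _ v.1.2 _ u.1.2 h3 (fun h0 => v.2 (Subtype.ext h0))
    have h5 : (i : ℕ) = j := by omega
    rw [h4, pow_zero, map_one] at h3
    have h6 : (v.1 : V) = u.1 := h3
    exact Prod.ext (Fin.ext h5) (Subtype.ext (Subtype.ext h6.symm))
  have hcN : Nat.card {x : N // x ≠ 1} = 15 := by
    have : Fintype N := Fintype.ofFinite _
    rw [Nat.card_eq_fintype_card, Fintype.card_subtype_compl, Fintype.card_subtype_eq, ← Nat.card_eq_fintype_card, hNc]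
  have hcC : Nat.card {x : C // x ≠ 1} = Nat.card C - 1 := by
    have : Fintype C := Fintype.ofFinite _
    rw [Nat.card_eq_fintype_card, Fintype.card_subtype_compl, Fintype.card_subtype_eq, ← Nat.card_eq_fintype_card]
  have hC4 : Nat.card C ≤ 4 := by
    have h3 := Nat.card_le_card_of_injective g hg
    rw [Nat.card_prod, Nat.card_eq_fintype_card (α := Fin 5), Fintype.card_fin, hcN, hcC] at h3
    omega
  -- `[V,t] ≤ N`
  set R := (cm ρ t).range with hR
  have hRc : Nat.card R = 4 := by rw [hR, card_range_cm, h.idx]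
  have hRN : R ≤ N := by
    let k : N →* R := ((cm ρ t).rangeRestrict).comp N.subtype
    have hk : Nat.card k.ker = Nat.card C := by
      refine Nat.card_congr ⟨fun v => ⟨v.1.1, ?_, v.1.2⟩, fun v => ⟨⟨v.1, v.2.2⟩, ?_⟩, fun v => rfl, fun v => rfl⟩
      · have h6 : k v.1 = 1 := v.2
        have h7 : cm ρ t (v.1 : V) = 1 := congrArg Subtype.val h6
        rw [cm_apply] at h7
        exact mul_inv_eq_one.1 h7
      · rw [MonoidHom.mem_ker]
        apply Subtype.ext
        change cm ρ t (v : V) = 1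
        rw [cm_apply, mul_inv_eq_one]
        exact v.2.1
    have h3 := k.ker.card_mul_index
    rw [Subgroup.index_ker, hk, hNc] at h3
    have h4 : 4 ≤ Nat.card k.range := by
      by_contra hcon
      push Not at hcon
      have : Nat.card C * Nat.card k.range ≤ 4 * 3 := Nat.mul_le_mul hC4 (by omega)
      omega
    have h5 : k.range = ⊤ := Subgroup.eq_top_of_card_eq _ (le_antisymm (Subgroup.card_le_card_group _)
      (by rw [hRc]; exact h4))
    intro r hr
    have h6 : (⟨r, hr⟩ : R) ∈ k.range := by rw [h5]; exact mem_top _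
    obtain ⟨n, hn⟩ := h6
    have h7 : cm ρ t (n : V) = r := congrArg Subtype.val hn
    rw [← h7, cm_apply]
    exact mul_mem (apply_mem_range_of_inv ρ hty n.2) (inv_mem n.2)
  have hRC : R ≤ C := fun r hr => ⟨apply_cm hV h.sq hr, hRN hr⟩
  have hRC' : R = C := Subgroup.eq_of_le_of_card_ge hRC (by rw [hRc]; exact hC4)
  have hcC3 : Nat.card {x : C // x ≠ 1} = 3 := by rw [hcC, ← hRC', hRc]
  have hbij := hg.bijective_of_nat_card_le (by
    rw [Nat.card_prod, Nat.card_eq_fintype_card (α := Fin 5), Fintype.card_fin, hcN, hcC3])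
  -- all vectors of `N` are singular
  have hsing : ∀ v ∈ N, q v = 0 := by
    intro v hv
    by_cases hv1 : v = 1
    · rw [hv1]; exact h.form.q_one
    · obtain ⟨⟨i, u⟩, hu⟩ := hbij.2 ⟨⟨v, hv⟩, fun h0 => hv1 (congrArg Subtype.val h0)⟩
      have h3 : ρ (y ^ (i : ℕ)) (u.1 : V) = v := congrArg (fun x : {x : N // x ≠ 1} => ((x.1 : N) : V)) hu
      rw [← h3, h.form.q_inv]
      apply h.sing
      rw [← hR, hRC']
      exact u.1.2
  have hiso : ∀ u ∈ N, ∀ v ∈ N, f u v = 0 := fun u hu v hv =>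
    h.form.q_comm_eq (hsing u hu) (hsing v hv) (hsing _ (mul_mem hu hv))
  -- `l` is in the radical
  obtain ⟨x, hx⟩ := h.nrad
  apply hx
  obtain ⟨a, ha, b, hb, rfl⟩ := exists_decomp hV hodd x
  have hlN : l ∈ N := hRN h.lmem
  rw [h.form.mul_right, hiso l hlN a ha, zero_add]
  obtain ⟨m, hm⟩ := hlN
  have h3 := h.form.comm_perp (g := y) (x := b) hb m
  rw [← hm, cm_apply, h.form.f_symm]
  exact h3

/-- elements of odd prime order inverted by `t` -/
theorem Sit.real [Finite V] (h : Sit ρ f q T t l) (hρ : Function.Injective ρ) {r : ℕ} (hr : r.Prime) (hr2 : r ≠ 2)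
    {y : X} (hy : orderOf y = r) (hty : t * y * t⁻¹ = y⁻¹) :
    r = 3 ∧ (fx ρ y).index = 16 ∧ (cm ρ t).range ≤ (cm ρ y).range := by
  have hy1 : y ≠ 1 := by
    rintro rfl
    rw [orderOf_one] at hy
    exact hr.one_lt.ne hy
  obtain ⟨h35, h16⟩ := FFPsl.small h.form.sq h.sq hr hr2 hy (ne_of_ne hρ hy1) hty h.idx.le
  rcases h35 with rfl | rfl
  · exact ⟨rfl, h.three hy hty hρ⟩
  · exact (h.not_five hy hty hρ).elim

end Cfsg.Agent.OddCyclic.EqN
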