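import Cfsg.Agent.OddCyclic.EqNBase

/-!
# (E_q), 6.B: `t` centralises the Fitting subgroup
-/

set_option autoImplicit false
set_option linter.unusedSectionVars false

namespace Cfsg.Agent.OddCyclic.EqN

open Subgroup Cfsg
open Cfsg.Agent.OddCyclic.T1Defs (OddCyc)
open Cfsg.Agent.OddCyclic.FFBasic Cfsg.Agent.OddCyclic.FFRed
open Cfsg.Agent.OddCyclic.BTwoLin (Form)
open Cfsg.Agent.SignalizersComponents.Components

variable {X V : Type*} [Group X] [CommGroup V]
variable {ρ : X →* MulAut V} {f : V → V → ZMod 2} {q : V → ZMod 2} {T : Sylow 2 X} {t : X} {l : V}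

theorem cm_pow_mem (y : X) (k : ℕ) (v : V) : cm ρ (y ^ k) v ∈ (cm ρ y).range := by
  induction k with
  | zero =>
    rw [pow_zero, cm_apply, map_one, MulAut.one_apply, mul_inv_cancel]
    exact one_mem _
  | succ k ih =>
    have h1 : cm ρ (y ^ (k + 1)) v = cm ρ y (ρ (y ^ k) v) * cm ρ (y ^ k) v := by
      rw [cm_apply, cm_apply, cm_apply, pow_succ', map_mul, MulAut.mul_apply]
      group
    rw [h1]
    exact mul_mem ⟨_, rfl⟩ ih

theorem three_cases [Finite X] {y z : X} (hy : orderOf y = 3) (hz : z ∈ zpowers y) (hz1 : z ≠ 1) :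
    z = y ∨ z = y⁻¹ := by
  classical
  rw [mem_zpowers_iff_mem_range_orderOf, hy] at hz
  simp only [Finset.mem_image, Finset.mem_range] at hz
  obtain ⟨k, hk, rfl⟩ := hz
  have h3 : y ^ 3 = 1 := by rw [← hy, pow_orderOf_eq_one]
  interval_cases k
  · exact absurd (pow_zero y) hz1
  · left; rw [pow_one]
  · right
    rw [eq_inv_iff_mul_eq_one, ← pow_succ]
    exact h3

theorem Sit.top_of_normal [Finite X] [Finite V] (h : Sit ρ f q T t l) (hρ : Function.Injective ρ) {y : X}
    (hy : orderOf y = 3) (hyn : (zpowers y).Normal) (hty : t * y * t⁻¹ = y⁻¹) : (cm ρ y).range = ⊤ := by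
  classical
  obtain ⟨-, hR⟩ := h.three hy hty hρ
  apply h.gen
  intro g
  obtain ⟨m, hm⟩ := hR h.lmem
  have h1 : g * y * g⁻¹ ∈ zpowers y := hyn.conj_mem y (mem_zpowers y) g
  have h2 : ρ g l = cm ρ (g * y * g⁻¹) (ρ g m) := by
    rw [← hm, cm_apply, cm_apply, map_mul, map_inv]
    congr 1
    rw [← MulAut.mul_apply, ← MulAut.mul_apply, ← map_mul, ← map_mul]
    congr 2; group
  rw [h2]
  rw [mem_zpowers_iff_mem_range_orderOf] at h1
  simp only [Finset.mem_image, Finset.mem_range] at h1
  obtain ⟨k, -, hk⟩ := h1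
  rw [← hk]
  exact cm_pow_mem y k _

theorem Sit.eq_one_of_comm [Finite X] [Finite V] (h : Sit ρ f q T t l) (hρ : Function.Injective ρ) {y : X}
    (hy : orderOf y = 3) (hyn : (zpowers y).Normal) (hty : t * y * t⁻¹ = y⁻¹) {g : X} (hgy : g * y = y * g)
    (hg : ∀ r ∈ (cm ρ t).range, ρ g r = r) : g = 1 := by
  have hV := h.form.sq
  have hodd : Odd (orderOf y) := by rw [hy]; decide
  have htop := h.top_of_normal hρ hy hyn hty
  obtain ⟨h16, -⟩ := h.three hy hty hρ
  set R := (cm ρ t).range with hR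
  have hRc : Nat.card R = 4 := by rw [hR, card_range_cm, h.idx]
  let k : R × R → V := fun p => (p.1 : V) * ρ y p.2
  have hk : Function.Injective k := by
    rintro ⟨a, b⟩ ⟨a', b'⟩ he
    have he' : (a : V) * ρ y b = a' * ρ y b' := he
    have h1 : ρ y ((b : V) * (b' : V)⁻¹) = (a : V)⁻¹ * a' := by
      rw [map_mul, map_inv, ← div_eq_mul_inv, div_eq_iff_eq_mul]
      calc ρ y b = (a : V)⁻¹ * (a * ρ y b) := by group
        _ = (a : V)⁻¹ * a' * ρ y b' := by rw [he', mul_assoc]
    have h2 : ρ t ((b : V) * (b' : V)⁻¹) = (b : V) * (b' : V)⁻¹ := apply_cm hV h.sq (mul_mem b.2 (inv_mem b'.2))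
    have h3 : ρ t ((a : V)⁻¹ * a') = (a : V)⁻¹ * a' := apply_cm hV h.sq (mul_mem (inv_mem a.2) a'.2)
    have h4 := fix_trick (i := 1) hodd hty h2 h3 (by rw [pow_one]; exact h1)
    rw [pow_one] at h4
    have h5 := eq_one_of_fix hV hodd (w := (b : V) * (b' : V)⁻¹) (by rw [htop]; exact mem_top _) h4
    have h6 : b = b' := Subtype.ext (mul_inv_eq_one.1 h5)
    have h7 : a = a' := by
      rw [h6] at he'
      exact Subtype.ext (mul_right_cancel he')
    rw [h6, h7]
  have hVc : Nat.card V = 16 := by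
    have h1 : Nat.card (cm ρ y).range = Nat.card V := by rw [htop, Subgroup.card_top]
    rw [← h1, card_range_cm, h16]
  have hbij := hk.bijective_of_nat_card_le (by rw [Nat.card_prod, hRc, hVc])
  apply hρ
  rw [map_one]
  ext v
  obtain ⟨⟨a, b⟩, hab⟩ := hbij.2 v
  have hab' : (a : V) * ρ y b = v := hab
  rw [← hab', map_mul, hg a a.2, ← MulAut.mul_apply, ← map_mul, hgy, map_mul, MulAut.mul_apply, hg b b.2]
  rfl

/-- elements of prime order `≥ 5` commuting with `t` fix `[V,t]` pointwise -/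
theorem Sit.fix_range [Finite X] [Finite V] (h : Sit ρ f q T t l) {r : ℕ} (hr : r.Prime) (hr5 : 5 ≤ r) {g : X}
    (hg : orderOf g = r) (hgt : g * t = t * g) : ∀ v ∈ (cm ρ t).range, ρ g v = v := by
  set R := (cm ρ t).range with hR
  have hRc : Nat.card R = 4 := by rw [hR, card_range_cm, h.idx]
  have hst : ∀ n ∈ zpowers g, ∀ w ∈ R, ρ n w ∈ R := by
    rintro _ ⟨k, rfl⟩ w hw
    exact apply_mem_range ρ (Commute.zpow_left (show Commute g t from hgt) k).eq hw
  let σ := res ρ (zpowers g) R hst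
  let g' : zpowers g := ⟨g, mem_zpowers g⟩
  have h1 : orderOf ((MulAut.toPerm R) (σ g')) ∣ r := by
    refine (orderOf_map_dvd _ _).trans ((orderOf_map_dvd σ g').trans ?_)
    rw [← Subgroup.orderOf_coe, ← hg]
  have h2 : orderOf ((MulAut.toPerm R) (σ g')) ∣ 24 := by
    have h3 : Nat.card (Equiv.Perm R) = 24 := by rw [Nat.card_perm, hRc]; rfl
    rw [← h3]
    exact orderOf_dvd_natCard _
  rcases (Nat.dvd_prime hr).1 h1 with h3 | h3
  · intro v hv
    rw [orderOf_eq_one_iff] at h3
    have h4 := DFunLike.congr_fun h3 ⟨v, hv⟩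
    exact congrArg Subtype.val h4
  · exfalso
    rw [h3] at h2
    have h4 : r ∣ 2 * 2 * 2 * 3 := h2
    have hle : ∀ p : ℕ, p.Prime → r ∣ p → r = p := fun p hp hd => (Nat.prime_dvd_prime_iff_eq hr hp).1 hd
    rcases (Nat.Prime.dvd_mul hr).1 h4 with h5 | h5
    · rcases (Nat.Prime.dvd_mul hr).1 h5 with h6 | h6
      · rcases (Nat.Prime.dvd_mul hr).1 h6 with h7 | h7
        · have := hle 2 Nat.prime_two h7; omega
        · have := hle 2 Nat.prime_two h7; omega
      · have := hle 2 Nat.prime_two h6; omega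
    · have := hle 3 Nat.prime_three h5; omega

/-- the action of the swap on `[V,t]` -/
theorem Sit.swap_sq [Finite X] [Finite V] (h : Sit ρ f q T t l) {s : X} (hs : s ∈ T) {g : X}
    (hg : ∀ v ∈ (cm ρ t).range, ρ g v = ρ s v) (hsr : ∃ r ∈ (cm ρ t).range, ρ s r ≠ r) :
    ∀ v ∈ (cm ρ t).range, ρ (g * g) v = v := by
  classical
  have hV := h.form.sq
  obtain ⟨r, hr, hne⟩ := hsr
  set R := (cm ρ t).range with hR
  have hRc : Nat.card R = 4 := by rw [hR, card_range_cm, h.idx]
  have hst : ∀ v ∈ R, ρ s v ∈ R := fun v hv => apply_mem_range ρ (h.comm s hs) hv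
  have hr1 : r ≠ 1 := by rintro rfl; exact hne (map_one _)
  have hrl : r ≠ l := by rintro rfl; exact hne (h.fixl s hs)
  have hlr1 : l * r ≠ 1 := by
    intro h1
    apply hrl
    have := eq_inv_of_mul_eq_one_right h1
    rw [this, h.form.inv_eq]
  -- `R = {1, l, r, l * r}`
  have hall : ∀ v ∈ R, v = 1 ∨ v = l ∨ v = r ∨ v = l * r := by
    have h1 : (({1, l, r, l * r} : Finset V) : Set V) ⊆ (R : Set V) := by
      intro u hu
      simp only [Finset.coe_insert, Finset.coe_singleton, Set.mem_insert_iff, Set.mem_singleton_iff] at hu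
      rcases hu with rfl | rfl | rfl | rfl
      · exact one_mem _
      · exact h.lmem
      · exact hr
      · exact mul_mem h.lmem hr
    have h2 : ({1, l, r, l * r} : Finset V).card = 4 := by
      rw [Finset.card_insert_of_notMem, Finset.card_insert_of_notMem, Finset.card_insert_of_notMem,
        Finset.card_singleton]
      · rw [Finset.mem_singleton]
        intro h3
        exact h.lne (mul_eq_right.1 h3.symm)
      · simp only [Finset.mem_insert, Finset.mem_singleton, not_or]
        exact ⟨hrl.symm, fun h3 => hr1 (mul_eq_left.1 h3.symm)⟩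
      · simp only [Finset.mem_insert, Finset.mem_singleton, not_or]
        exact ⟨h.lne.symm, hr1.symm, hlr1.symm⟩
    have h3 : (({1, l, r, l * r} : Finset V) : Set V) = (R : Set V) := by
      apply Set.eq_of_subset_of_ncard_le h1 _ (Set.toFinite _)
      rw [Set.ncard_coe_finset, h2, ← Nat.card_coe_set_eq]
      exact hRc.le
    intro v hv
    have h4 : v ∈ (R : Set V) := hv
    rw [← h3] at h4
    simpa using h4
  have hsr' : ρ s r = l * r := by
    rcases hall _ (hst r hr) with h1 | h1 | h1 | h1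
    · exact absurd ((map_eq_one_iff _ (ρ s).injective).1 h1) hr1
    · exact absurd ((ρ s).injective (h1.trans (h.fixl s hs).symm)) hrl
    · exact absurd h1 hne
    · exact h1
  have h2 : ∀ v ∈ R, ρ (g * g) v = ρ s (ρ s v) := by
    intro v hv
    rw [map_mul, MulAut.mul_apply, hg v hv, hg _ (hst v hv)]
  intro v hv
  rw [h2 v hv]
  rcases hall v hv with rfl | rfl | rfl | rfl
  · rw [map_one, map_one]
  · rw [h.fixl s hs, h.fixl s hs]
  · rw [hsr', map_mul, h.fixl s hs, hsr', ← mul_assoc, hV, one_mul]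
  · rw [map_mul, h.fixl s hs, hsr', ← mul_assoc l l r, hV, one_mul, hsr']

theorem Sit.false_of_fitting [Finite X] [Finite V] (hc : OddCyc X) (h2 : pCore 2 X = ⊥) (hρ : Function.Injective ρ)
    (h : Sit ρ f q T t l) (hcomp : ∀ K : Subgroup X, IsComponent K → t ∈ centralizer (K : Set X)) {x : X}
    (hx : x ∈ fittingSubgroup X) (htx : t * x ≠ x * t) : False := by
  have hV := h.form.sq
  obtain ⟨r, y, hr, hr2, hyF, hy, hyn, hty, hty'⟩ := FFStruct.exists_inverted hc h2 h.sq hx htx
  obtain ⟨rfl, h16, -⟩ := h.real hρ hr hr2 hy hty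
  have key : ∀ g : X, g * y = y * g → (∀ v ∈ (cm ρ t).range, ρ g v = v) → g = 1 := fun g h1 h3 =>
    h.eq_one_of_comm hρ hy hyn hty h1 h3
  have hy1 : y ≠ 1 := by rintro rfl; rw [orderOf_one] at hy; norm_num at hy
  -- the element commuting with `y`
  obtain ⟨s, hs, hsr⟩ := h.swap
  obtain ⟨g, hgy, hgR⟩ : ∃ g : X, g * y = y * g ∧ ∀ v ∈ (cm ρ t).range, ρ g v = ρ s v := by
    have h3 : s * y * s⁻¹ ≠ 1 := by
      intro h4
      apply hy1
      rw [mul_inv_eq_one] at h4
      exact mul_eq_left.1 h4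
    rcases three_cases hy (hyn.conj_mem y (mem_zpowers y) s) h3 with h4 | h4
    · exact ⟨s, mul_inv_eq_iff_eq_mul.1 h4, fun v _ => rfl⟩
    · refine ⟨s * t, ?_, ?_⟩
      · have h5 : s * t * y * (s * t)⁻¹ = y := by
          calc s * t * y * (s * t)⁻¹ = s * (t * y * t⁻¹) * s⁻¹ := by group
            _ = (s * y * s⁻¹)⁻¹ := by rw [hty]; group
            _ = y := by rw [h4, inv_inv]
        exact mul_inv_eq_iff_eq_mul.1 h5
      · intro v hv
        rw [map_mul, MulAut.mul_apply, apply_cm hV h.sq hv]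
  have hgg : g * g = 1 := by
    apply key
    · rw [mul_assoc, hgy, ← mul_assoc, hgy, mul_assoc]
    · exact h.swap_sq hs hgR hsr
  have hg1 : g ≠ 1 := by
    rintro rfl
    obtain ⟨r, hr, hne⟩ := hsr
    apply hne
    rw [← hgR r hr, map_one]; rfl
  apply hg1
  have hcyc := FFStruct.isCyclic_fitting hc h2
  have hab : ∀ u ∈ fittingSubgroup X, ∀ v ∈ fittingSubgroup X, u * v = v * u := by
    intro u hu v hv
    have : IsMulCommutative (fittingSubgroup X) := IsCyclic.isMulCommutative
    exact congrArg Subtype.val (mul_comm' (⟨u, hu⟩ : fittingSubgroup X) ⟨v, hv⟩)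
  apply FFStruct.eq_one_of_centralizes h2 hgg
  · intro z hz
    by_contra hgz
    obtain ⟨r', y', hr', hr2', hyF', hy', hyn', hgy', hgy''⟩ := FFStruct.exists_inverted hc h2 hgg hz hgz
    by_cases h3 : r' = 3
    · subst h3
      have h7 : orderOf (⟨y', hyF'⟩ : fittingSubgroup X) = orderOf (⟨y, hyF⟩ : fittingSubgroup X) := by
        rw [Subgroup.orderOf_mk, Subgroup.orderOf_mk, hy, hy']
      have h8 := CompBasic.zpowers_eq_of_cyclic h7
      have h9 : (⟨y', hyF'⟩ : fittingSubgroup X) ∈ zpowers (⟨y, hyF⟩ : fittingSubgroup X) := by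
        rw [← h8]; exact mem_zpowers _
      obtain ⟨k, hk'⟩ := h9
      have h10 : y ^ k = y' := congrArg Subtype.val hk'
      apply hgy''
      rw [← h10]
      exact (Commute.zpow_right (show Commute g y from hgy) k).eq
    · have hr5 : 5 ≤ r' := by
        have h4 := hr'.two_le
        have h5 : r' ≠ 4 := by rintro rfl; revert hr'; norm_num
        omega
      rcases eq_or_inv hr' hy' h.sq (hyn'.conj_mem y' (mem_zpowers y') t) with h4 | h4
      · have h5 := key y' (hab y' hyF' y hyF) (h.fix_range hr' hr5 hy' h4.symm)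
        rw [h5, orderOf_one] at hy'
        omega
      · exact h3 (h.real hρ hr' hr2' hy' h4).1
  · intro K hK
    exfalso
    obtain ⟨p, hp, hp2, hpK⟩ := FFStruct.exists_odd_prime (quasisimple_not_isSolvable hK.2)
    have : Fact p.Prime := ⟨hp⟩
    obtain ⟨⟨z, hz⟩, hzo'⟩ := exists_prime_orderOf_dvd_card' (G := K) p hpK
    have hzo : orderOf z = p := by rw [← hzo']; exact (Subgroup.orderOf_mk z hz).symm
    have htz : z * t = t * z := (mem_centralizer_iff.1 (hcomp K hK)) z hz
    have hyz : z * y = y * z := by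
      have h10 := layer_le_centralizer_fitting (component_le_layer hK hz)
      exact ((mem_centralizer_iff.mp h10) y hyF).symm
    by_cases h3 : p = 3
    · subst h3
      have h4 := CompBasic.zpowers_eq_of_commute hc Nat.prime_three (by norm_num) hzo hy hyz
      have h5 : y ∈ zpowers z := by rw [h4]; exact mem_zpowers y
      exact hty' (Om5.comm_zpowers htz.symm h5)
    · have hr5 : 5 ≤ p := by
        have h4 := hp.two_le
        have h5 : p ≠ 4 := by rintro rfl; revert hp; norm_num
        omega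
      have h5 := key z hyz (h.fix_range hp hr5 hzo htz)
      rw [h5, orderOf_one] at hzo
      omega

end Cfsg.Agent.OddCyclic.EqN
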