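import Cfsg.Agent.OddCyclic.EqNBase

/-!
# (E_q), 6.B: `L₃(2)` with involutions of rank two and no element of order three fixing a commutator
-/

set_option autoImplicit false
set_option linter.unusedSectionVars false

namespace Cfsg.Agent.OddCyclic.EqN

open Subgroup Cfsg.Agent.GH.L2Aut
open Cfsg.Agent.OddCyclic.FFBasic Cfsg.Agent.OddCyclic.FFRed
open Cfsg.Agent.OddCyclic.FFSl2 (stb mem_stb)
open Cfsg.Agent.OddCyclic.FFThree (L32)

section grp

variable {L : Type*} [Group L]

/-- the dihedral group of order eight with centre `⟨x⟩` -/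
theorem exists_bc (h : L32 L) {x : L} (hx : x * x = 1) (hx1 : x ≠ 1) :
    ∃ b c : L, Four x b ∧ Four x c ∧ c * b * c⁻¹ = x * b := by
  obtain ⟨a₀, b₀, h0⟩ := h.four
  obtain ⟨g, hg⟩ := h.conj a₀ x h0.a1 h0.aa hx1 hx
  have hf : Four x (g * b₀ * g⁻¹) := by
    have h1 := h0.map (MulAut.conj g)
    rwa [MulAut.conj_apply, MulAut.conj_apply, hg] at h1
  set b := g * b₀ * g⁻¹ with hb
  obtain ⟨c, hc1, hc2⟩ := h.swap b (b * x) hf.symm.right
  have hbx : b * x = x * b := hf.comm.symm
  rw [hbx] at hc1 hc2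
  have hxbb : x * b * b = x := by rw [mul_assoc, hf.bb, mul_one]
  have hcx : c * x * c⁻¹ = x := by
    calc c * x * c⁻¹ = c * (x * b * b) * c⁻¹ := by rw [hxbb]
      _ = (c * (x * b) * c⁻¹) * (c * b * c⁻¹) := by group
      _ = b * (x * b) := by rw [hc2, hc1]
      _ = (b * x) * b := by group
      _ = x := by rw [hbx, hxbb]
  have hcx' : c * x = x * c := mul_inv_eq_iff_eq_mul.1 hcx
  have hccx : c * c * x = x * (c * c) := by rw [mul_assoc, hcx', ← mul_assoc, hcx', mul_assoc]
  have hccb : c * c * b = b * (c * c) := by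
    rw [← mul_inv_eq_iff_eq_mul]
    calc c * c * b * (c * c)⁻¹ = c * (c * b * c⁻¹) * c⁻¹ := by group
      _ = b := by rw [hc1, hc2]
  have hne : x * b ≠ b := fun h1 => hf.a1 (mul_eq_right.1 h1)
  have hcb : c * b ≠ b * c := by
    intro h1
    rw [← mul_inv_eq_iff_eq_mul, hc1] at h1
    exact hne h1
  have hfour : ∀ c' : L, c' * c' = 1 → c' * b * c'⁻¹ = x * b → c' * x = x * c' → Four x c' := by
    intro c' h1 h2 h3
    refine ⟨hx, h1, hx1, ?_, ?_, h3.symm⟩
    · rintro rfl
      rw [one_mul, inv_one, mul_one] at h2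
      exact hne h2.symm
    · rintro rfl
      rw [← hbx, mul_inv_cancel_right] at h2
      exact hne (hbx ▸ h2).symm
  rcases h.cent x b (c * c) hf hccx hccb with h1 | h1 | h1 | h1
  · exact ⟨b, c, hf, hfour c h1 hc1 hcx', hc1⟩
  · have h2 : c * b * (c * b) = 1 := by
      calc c * b * (c * b) = (c * b * c⁻¹) * (c * c) * b := by group
        _ = x * b * x * b := by rw [hc1, h1]
        _ = x * (b * x) * b := by group
        _ = (x * x) * (b * b) := by rw [hbx]; group
        _ = 1 := by rw [hx, hf.bb, mul_one]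
    have h3 : c * b * b * (c * b)⁻¹ = x * b := by
      rw [← hc1]; group
    refine ⟨b, c * b, hf, hfour _ h2 h3 ?_, h3⟩
    rw [mul_assoc, hbx, ← mul_assoc, hcx', mul_assoc]
  · exfalso
    apply hcb
    rw [← h1, mul_assoc]
  · exfalso
    apply hcb
    have h2 : c * (x * b) = (x * b) * c := by rw [← h1, mul_assoc]
    have h3 : x * (c * b) = x * (b * c) := by
      rw [← mul_assoc, ← hcx', mul_assoc, h2, mul_assoc]
    exact mul_left_cancel h3

variable [Finite L]

theorem not_index_le [IsSimpleGroup L] (h : L32 L) {K : Subgroup L} (hK : K ≠ ⊤) (hi : K.index ∣ 6) : False := by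
  have h1 : K.normalCore = ⊥ := by
    rcases IsSimpleGroup.eq_bot_or_eq_top_of_normal K.normalCore inferInstance with h1 | h1
    · exact h1
    · exfalso
      apply hK
      rw [eq_top_iff, ← h1]
      exact K.normalCore_le
  rw [Subgroup.normalCore_eq_ker, MonoidHom.ker_eq_bot_iff] at h1
  have h2 := Subgroup.card_dvd_of_injective (MulAction.toPermHom L (L ⧸ K)) h1
  rw [h.card, Nat.card_perm] at h2
  have h3 : (Nat.card (L ⧸ K)).factorial ∣ 720 := by
    have h4 : Nat.card (L ⧸ K) ≤ 6 := Nat.le_of_dvd (by norm_num) hi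
    exact (Nat.factorial_dvd_factorial h4).trans (by decide)
  have h4 := h2.trans h3
  norm_num at h4

/-- subgroups of order prime to three containing a dihedral group of order 8 -/
theorem card_eq_eight [IsSimpleGroup L] (h : L32 L) {K : Subgroup L} {x b c : L} (hb : Four x b) (hc : Four x c)
    (hcb : c * b * c⁻¹ = x * b) (bK : b ∈ K) (cK : c ∈ K) (h3 : ∀ y ∈ K, orderOf y ≠ 3) : Nat.card K = 8 := by
  have hbx : b * x = x * b := hb.comm.symm
  have hne : x * b ≠ b := fun h1 => hb.a1 (mul_eq_right.1 h1)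
  have hcb' : c * b ≠ b * c := by
    intro h1
    rw [← mul_inv_eq_iff_eq_mul, hcb] at h1
    exact hne h1
  have h2 : (b * c) ^ 2 = x := by
    rw [pow_two]
    calc b * c * (b * c) = b * (c * b * c⁻¹) * (c * c) := by group
      _ = (b * x) * b := by rw [hcb, hc.bb]; group
      _ = x := by rw [hbx, mul_assoc, hb.bb, mul_one]
  have h4 : orderOf (b * c) = 4 := by
    have : Fact (Nat.Prime 2) := ⟨Nat.prime_two⟩
    refine orderOf_eq_prime_pow (p := 2) (n := 1) ?_ ?_
    · rw [pow_one, h2]; exact hb.a1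
    · rw [show 2 ^ (1 + 1) = 2 * 2 by norm_num, pow_mul, h2, pow_two, hb.aa]
  have hbcK : b * c ∈ K := mul_mem bK cK
  have h4K : 4 ∣ Nat.card K := by
    have h5 : orderOf (⟨b * c, hbcK⟩ : K) = 4 := by rw [Subgroup.orderOf_mk, h4]
    rw [← h5]
    exact orderOf_dvd_natCard _
  have h3K : ¬ 3 ∣ Nat.card K := by
    intro h5
    have : Fact (Nat.Prime 3) := ⟨Nat.prime_three⟩
    obtain ⟨⟨y, hy⟩, hyo⟩ := exists_prime_orderOf_dvd_card' (G := K) 3 h5
    exact h3 y hy (by rw [← hyo]; exact (Subgroup.orderOf_mk y hy).symm)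
  have h168 : Nat.card K * K.index = 168 := by rw [← h.card]; exact K.card_mul_index
  obtain ⟨k, hk⟩ := h4K
  have h42 : k * K.index = 42 := by
    rw [hk, mul_assoc] at h168
    omega
  have hk3 : ¬ 3 ∣ k := fun h5 => h3K (hk ▸ Dvd.dvd.mul_left h5 4)
  have hkd : k ∣ 42 := ⟨_, h42.symm⟩
  have hk42 : k ≤ 42 := Nat.le_of_dvd (by norm_num) hkd
  have hk4 : k = 1 ∨ k = 2 ∨ k = 7 ∨ k = 14 := by
    have h5 : k ∈ Nat.divisors 42 := Nat.mem_divisors.2 ⟨hkd, by norm_num⟩
    have h6 : Nat.divisors 42 = {1, 2, 3, 6, 7, 14, 21, 42} := by decide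
    rw [h6] at h5
    simp only [Finset.mem_insert, Finset.mem_singleton] at h5
    rcases h5 with rfl | rfl | rfl | rfl | rfl | rfl | rfl | rfl
    · exact Or.inl rfl
    · exact Or.inr (Or.inl rfl)
    · exact absurd (by norm_num) hk3
    · exact absurd (by norm_num) hk3
    · exact Or.inr (Or.inr (Or.inl rfl))
    · exact Or.inr (Or.inr (Or.inr rfl))
    · exact absurd (by norm_num) hk3
    · exact absurd (by norm_num) hk3
  rcases hk4 with rfl | rfl | rfl | rfl
  · exfalso
    apply hcb'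
    have h5 : zpowers (b * c) = K := by
      apply Subgroup.eq_of_le_of_card_ge
      · rwa [zpowers_le]
      · rw [hk, Nat.card_zpowers, h4]
    rw [← h5] at bK cK
    obtain ⟨i, hi⟩ := bK
    obtain ⟨j, hj⟩ := cK
    have hi' : (b * c) ^ i = b := hi
    have hj' : (b * c) ^ j = c := hj
    calc c * b = (b * c) ^ j * (b * c) ^ i := by rw [hi', hj']
      _ = (b * c) ^ i * (b * c) ^ j := by rw [← zpow_add, ← zpow_add, add_comm]
      _ = b * c := by rw [hi', hj']
  · rw [hk]
  · exfalso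
    have h5 : K.index = 6 := by omega
    exact not_index_le h (K := K) (by rintro rfl; rw [Subgroup.index_top] at h5; norm_num at h5) (by rw [h5])
  · exfalso
    have h5 : K.index = 3 := by omega
    exact not_index_le h (K := K) (by rintro rfl; rw [Subgroup.index_top] at h5; norm_num at h5)
      (by rw [h5]; norm_num)

/-- the centre of the dihedral group -/
theorem eq_of_comm (h : L32 L) {x b c y : L} (hb : Four x b) (hcb : c * b * c⁻¹ = x * b) (hc : Four x c)
    (hy1 : y ≠ 1) (hyx : y * x = x * y) (hyb : y * b = b * y) (hyc : y * c = c * y) : y = x := by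
  have hne : x * b ≠ b := fun h1 => hb.a1 (mul_eq_right.1 h1)
  rcases h.cent x b y hb hyx hyb with h1 | h1 | h1 | h1
  · exact absurd h1 hy1
  · exact h1
  · exfalso
    rw [h1] at hyc
    have h2 : c * b * c⁻¹ = b := by rw [← hyc, mul_inv_cancel_right]
    rw [hcb] at h2
    exact hne h2
  · exfalso
    rw [h1] at hyc
    have h2 : c * (x * b) * c⁻¹ = x * b := by rw [← hyc, mul_inv_cancel_right]
    have h3 : c * (x * b) * c⁻¹ = b := by
      have h4 : c * x = x * c := hc.comm.symm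
      calc c * (x * b) * c⁻¹ = (c * x) * b * c⁻¹ := by group
        _ = x * (c * b * c⁻¹) := by rw [h4]; group
        _ = b := by rw [hcb, ← mul_assoc, hb.aa, one_mul]
    rw [h3] at h2
    exact hne h2.symm

end grp

section act

variable {L V : Type*} [Group L] [CommGroup V] {ρ : L →* MulAut V}

theorem apply_range (g x : L) {r : V} (hr : r ∈ (cm ρ x).range) : ρ g r ∈ (cm ρ (g * x * g⁻¹)).range := by
  obtain ⟨v, rfl⟩ := hr
  refine ⟨ρ g v, ?_⟩
  rw [cm_apply, cm_apply, map_mul (ρ g), map_inv (ρ g), ← MulAut.mul_apply, ← MulAut.mul_apply, ← map_mul ρ,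
    ← map_mul ρ, inv_mul_cancel_right]

theorem apply_range_inv (g x : L) {r : V} (hr : r ∈ (cm ρ (g * x * g⁻¹)).range) : ρ g⁻¹ r ∈ (cm ρ x).range := by
  have h1 := apply_range g⁻¹ (g * x * g⁻¹) hr
  have h2 : g⁻¹ * (g * x * g⁻¹) * g⁻¹⁻¹ = x := by group
  rwa [h2] at h1

/-- the module data -/
structure Sev (ρ : L →* MulAut V) (t : L) : Prop where
  l32 : L32 L
  sq : ∀ v : V, v * v = 1
  tt : t * t = 1
  t1 : t ≠ 1
  idx : (fx ρ t).index = 4
  baer : ∀ y, orderOf y = 3 → ∀ r ∈ (cm ρ t).range, ρ y r = r → r = 1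
  nc : ∀ x y : L, x * x = 1 → x ≠ 1 → orderOf y = 3 → y * x ≠ x * y

variable {t : L} (h : Sev ρ t)

include h

theorem Sev.exists_conj {x : L} (hx : x * x = 1) (hx1 : x ≠ 1) : ∃ g, g * t * g⁻¹ = x :=
  h.l32.conj t x h.t1 h.tt hx1 hx

theorem Sev.index {x : L} (hx : x * x = 1) (hx1 : x ≠ 1) : (fx ρ x).index = 4 := by
  obtain ⟨g, rfl⟩ := h.exists_conj hx hx1
  rw [index_fx_conj, h.idx]

theorem Sev.baer' {x : L} (hx : x * x = 1) (hx1 : x ≠ 1) {y : L} (hy : orderOf y = 3) {r : V}
    (hr : r ∈ (cm ρ x).range) (hyr : ρ y r = r) : r = 1 := by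
  obtain ⟨g, rfl⟩ := h.exists_conj hx hx1
  have h1 := apply_range_inv g t hr
  have h2 : orderOf (g⁻¹ * y * g⁻¹⁻¹) = 3 := by
    rw [← hy]
    exact (MulAut.conj g⁻¹).orderOf_eq y
  have h3 := h.baer _ h2 _ h1 (by
    rw [← MulAut.mul_apply, ← map_mul, inv_mul_cancel_right, map_mul, MulAut.mul_apply, hyr])
  exact (map_eq_one_iff _ (ρ g⁻¹).injective).1 h3

theorem Sev.fix_self {x : L} (hx : x * x = 1) {r : V} (hr : r ∈ (cm ρ x).range) : ρ x r = r :=
  apply_cm h.sq hx hr

/-- elements of a four-group centralise the commutators of the others -/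
theorem Sev.fix_four [Finite V] {a b : L} (hf : Four a b) {r : V} (hr : r ∈ (cm ρ a).range) : ρ b r = r := by
  classical
  obtain ⟨v, rfl⟩ := hr
  have hinv : ∀ v : V, v⁻¹ = v := fun v => inv_eq_of_mul_eq_one_right (h.sq v)
  have key : ∀ u v : V, ρ (a * b) v * ρ b v * (ρ a v * v) = ρ (a * b) v * ρ b v * (ρ a v * v) := fun _ _ => rfl
  set x := cm ρ b (cm ρ a v) with hx
  have hx0 : x = ρ (a * b) v * ρ b v * (ρ a v * v) := by
    rw [hx, cm_apply, cm_apply, map_mul, map_inv, hinv, hinv, hinv, ← MulAut.mul_apply, ← map_mul, ← hf.comm]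
  have hxa : x ∈ (cm ρ a).range := by
    refine ⟨cm ρ b v, ?_⟩
    rw [hx0, cm_apply, cm_apply, map_mul, map_inv, hinv, hinv, hinv, ← MulAut.mul_apply, ← map_mul]
    rw [mul_assoc, mul_assoc]
    congr 1
    rw [← mul_assoc, ← mul_assoc, mul_comm (ρ a v)]
  have hxb : x ∈ (cm ρ b).range := ⟨_, rfl⟩
  have hxab : x ∈ (cm ρ (a * b)).range := by
    refine ⟨cm ρ a v, ?_⟩
    rw [hx0, cm_apply, cm_apply, map_mul, map_inv, hinv, hinv, hinv, ← MulAut.mul_apply, ← map_mul]
    have h1 : a * b * a = b := by rw [hf.comm, mul_assoc, hf.aa, mul_one]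
    rw [h1, mul_comm (ρ b v)]
  suffices hx1 : x = 1 by
    have h1 : ρ b (cm ρ a v) * (cm ρ a v)⁻¹ = 1 := hx1
    exact mul_inv_eq_one.1 h1
  by_contra hx1
  obtain ⟨d, hd3, hda, hdb⟩ := h.l32.fuse a b hf
  have hd1 : d ≠ 1 := by
    rintro rfl
    rw [one_mul, inv_one, mul_one] at hda
    exact hf.ne hda
  have hdo : orderOf d = 3 := by
    have : Fact (Nat.Prime 3) := ⟨Nat.prime_three⟩
    exact orderOf_eq_prime (by rw [pow_succ, pow_two]; exact hd3) hd1
  have hdx : ρ d x ≠ x := fun h1 => hx1 (h.baer' hf.aa hf.a1 hdo hxa h1)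
  have hdx1 : ρ d x ≠ 1 := fun h1 => hx1 ((map_eq_one_iff _ (ρ d).injective).1 h1)
  have hdxb : ρ d x ∈ (cm ρ b).range := by
    have h1 := apply_range d a hxa
    rwa [hda] at h1
  have hdxa : ρ d x ∈ (cm ρ a).range := by
    have h1 := apply_range d (a * b) hxab
    have h2 : d * (a * b) * d⁻¹ = a := by
      calc d * (a * b) * d⁻¹ = (d * a * d⁻¹) * (d * b * d⁻¹) := by group
        _ = b * (a * b) := by rw [hda, hdb]
        _ = a * (b * b) := by rw [← mul_assoc, ← hf.comm, mul_assoc]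
        _ = a := by rw [hf.bb, mul_one]
    rwa [h2] at h1
  set I : Subgroup V := (cm ρ a).range ⊓ (cm ρ b).range with hI
  have hRc : Nat.card (cm ρ a).range = 4 := by rw [card_range_cm, h.index hf.aa hf.a1]
  have h3 : (({1, x, ρ d x} : Finset V) : Set V) ⊆ (I : Set V) := by
    intro u hu
    simp only [Finset.coe_insert, Finset.coe_singleton, Set.mem_insert_iff, Set.mem_singleton_iff] at hu
    rcases hu with rfl | rfl | rfl
    · exact one_mem _
    · exact ⟨hxa, hxb⟩
    · exact ⟨hdxa, hdxb⟩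
  have h4 := Set.ncard_le_ncard h3 (Set.toFinite _)
  rw [Set.ncard_coe_finset, ← Nat.card_coe_set_eq] at h4
  have h5 : ({1, x, ρ d x} : Finset V).card = 3 := by
    rw [Finset.card_insert_of_notMem, Finset.card_insert_of_notMem, Finset.card_singleton]
    · simpa using hdx.symm
    · simp only [Finset.mem_insert, Finset.mem_singleton, not_or]
      exact ⟨Ne.symm hx1, hdx1.symm⟩
  rw [h5] at h4
  have h6 : Nat.card I ∣ 4 := by
    rw [← hRc]; exact Subgroup.card_dvd_of_le inf_le_left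
  have h4' : 3 ≤ Nat.card I := h4
  have h7 : Nat.card I = 4 := by
    have h8 := Nat.le_of_dvd (by norm_num) h6
    have h9 : Nat.card I = 3 ∨ Nat.card I = 4 := by omega
    rcases h9 with h10 | h10
    · rw [h10] at h6; norm_num at h6
    · exact h10
  have h8 : I = (cm ρ a).range := Subgroup.eq_of_le_of_card_ge inf_le_left (by rw [h7, hRc])
  have h9 : (cm ρ a).range ≤ (cm ρ b).range := by rw [← h8]; exact inf_le_right
  apply hx1
  rw [hx, cm_apply, mul_inv_eq_one]
  exact h.fix_self hf.bb (h9 ⟨v, rfl⟩)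

variable [Finite L] [Finite V] [IsSimpleGroup L]

omit [Finite V] in
theorem Sev.card_cent {x : L} (hx : x * x = 1) (hx1 : x ≠ 1) : Nat.card (centralizer {x} : Subgroup L) = 8 := by
  obtain ⟨b, c, hb, hc, hcb⟩ := exists_bc h.l32 hx hx1
  refine card_eq_eight h.l32 hb hc hcb (mem_centralizer_singleton_iff.2 hb.comm.symm)
    (mem_centralizer_singleton_iff.2 hc.comm.symm) ?_
  intro y hy hyo
  exact h.nc x y hx hx1 hyo (mem_centralizer_singleton_iff.1 hy)

theorem Sev.stb_eq {x : L} (hx : x * x = 1) (hx1 : x ≠ 1) {r : V} (hr : r ∈ (cm ρ x).range) (hr1 : r ≠ 1) :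
    stb ρ r = centralizer {x} := by
  obtain ⟨b, c, hb, hc, hcb⟩ := exists_bc h.l32 hx hx1
  have hbr : b ∈ stb ρ r := h.fix_four hb hr
  have hcr : c ∈ stb ρ r := h.fix_four hc hr
  have hbc : b ∈ centralizer {x} := mem_centralizer_singleton_iff.2 hb.comm.symm
  have hcc : c ∈ centralizer {x} := mem_centralizer_singleton_iff.2 hc.comm.symm
  have h3 : ∀ y ∈ stb ρ r, orderOf y ≠ 3 := fun y hy hyo => hr1 (h.baer' hx hx1 hyo hr hy)
  have h8 : Nat.card (stb ρ r) = 8 := card_eq_eight h.l32 hb hc hcb hbr hcr h3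
  have h8' : Nat.card (stb ρ r ⊓ centralizer {x} : Subgroup L) = 8 :=
    card_eq_eight h.l32 hb hc hcb ⟨hbr, hbc⟩ ⟨hcr, hcc⟩ (fun y hy => h3 y hy.1)
  have h1 : stb ρ r ⊓ centralizer {x} = stb ρ r := Subgroup.eq_of_le_of_card_ge inf_le_left (by rw [h8, h8'])
  have h2 : stb ρ r ⊓ centralizer {x} = centralizer {x} :=
    Subgroup.eq_of_le_of_card_ge inf_le_right (by rw [h.card_cent hx hx1, h8'])
  rw [← h1, h2]

/-- commutator groups of different involutions are disjoint -/
theorem Sev.uniq {x y : L} (hx : x * x = 1) (hx1 : x ≠ 1) (hy : y * y = 1) (hy1 : y ≠ 1) {r : V}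
    (hrx : r ∈ (cm ρ x).range) (hry : r ∈ (cm ρ y).range) (hr1 : r ≠ 1) : y = x := by
  have h1 := h.stb_eq hx hx1 hrx hr1
  have h2 := h.stb_eq hy hy1 hry hr1
  have h3 : (centralizer {x} : Subgroup L) = centralizer {y} := by rw [← h1, h2]
  obtain ⟨b, c, hb, hc, hcb⟩ := exists_bc h.l32 hx hx1
  have hxc : x ∈ centralizer {y} := by rw [← h3]; exact mem_centralizer_singleton_iff.2 rfl
  have hbc : b ∈ centralizer {y} := by rw [← h3]; exact mem_centralizer_singleton_iff.2 hb.comm.symm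
  have hcc : c ∈ centralizer {y} := by rw [← h3]; exact mem_centralizer_singleton_iff.2 hc.comm.symm
  exact eq_of_comm h.l32 hb hcb hc hy1 (mem_centralizer_singleton_iff.1 hxc).symm
    (mem_centralizer_singleton_iff.1 hbc).symm (mem_centralizer_singleton_iff.1 hcc).symm

theorem Sev.false {y : L} (hy : orderOf y = 3) (hyi : (fx ρ y).index ≤ 16) : False := by
  classical
  obtain ⟨w, b, c, hw, hw1, hb, hb1, hc, hc1, -, hgen⟩ := h.l32.gen
  set W : Subgroup V := (cm ρ w).range ⊔ ((cm ρ b).range ⊔ (cm ρ c).range) with hW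
  have hWc : Nat.card W ≤ 64 := by
    calc Nat.card W ≤ Nat.card (cm ρ w).range * Nat.card ((cm ρ b).range ⊔ (cm ρ c).range : Subgroup V) :=
          FFThree.card_sup_le _ _
      _ ≤ 4 * (4 * 4) := by
          refine Nat.mul_le_mul (by rw [card_range_cm, h.index hw hw1]) ((FFThree.card_sup_le _ _).trans ?_)
          rw [card_range_cm, card_range_cm, h.index hb hb1, h.index hc hc1]
      _ = 64 := by norm_num
  -- `[V, L] ≤ W`
  have hall : ∀ g : L, ∀ v, cm ρ g v ∈ W := by
    let K : Subgroup L :=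
      { carrier := {g | ∀ v, cm ρ g v ∈ W}
        one_mem' := fun v => by
          rw [cm_apply, map_one, MulAut.one_apply, mul_inv_cancel]
          exact one_mem _
        mul_mem' := fun {g k} hg hk v => by
          have h1 : cm ρ (g * k) v = cm ρ g (ρ k v) * cm ρ k v := by
            rw [cm_apply, cm_apply, cm_apply, map_mul, MulAut.mul_apply]
            group
          rw [h1]
          exact mul_mem (hg _) (hk v)
        inv_mem' := fun {g} hg v => by
          have h1 : cm ρ g⁻¹ v = (cm ρ g (ρ g⁻¹ v))⁻¹ := by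
            rw [cm_apply, cm_apply, ← MulAut.mul_apply, ← map_mul, mul_inv_cancel, map_one, MulAut.one_apply,
              mul_inv, inv_inv, mul_comm]
          rw [h1]
          exact inv_mem (hg _) }
    have hwK : w ∈ K := fun v => mem_sup_left ⟨v, rfl⟩
    have hbK : b ∈ K := fun v => mem_sup_right (mem_sup_left ⟨v, rfl⟩)
    have hcK : c ∈ K := fun v => mem_sup_right (mem_sup_right ⟨v, rfl⟩)
    have hK : K = ⊤ := by
      rw [eq_top_iff, ← hgen, closure_le]
      rintro g (rfl | hg)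
      · exact hwK
      · rw [Set.mem_singleton_iff.1 hg]
        exact mul_mem (mul_mem hbK hcK) hwK
    intro g
    have h1 : g ∈ K := by rw [hK]; exact mem_top g
    exact h1
  have hRW : ∀ x : L, (cm ρ x).range ≤ W := by
    rintro x _ ⟨v, rfl⟩
    exact hall x v
  -- the map
  set C : Subgroup L := centralizer {t} with hC
  have hCi : C.index = 21 := by
    have h1 := C.card_mul_index
    rw [h.card_cent h.tt h.t1, h.l32.card] at h1
    omega
  set R := (cm ρ t).range with hR
  have hRc : Nat.card R = 4 := by rw [hR, card_range_cm, h.idx]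
  have hmem : ∀ (g : L) (r : V), r ∈ R → ρ g r ∈ (cm ρ (g * t * g⁻¹)).range := fun g r hr => apply_range g t hr
  let F : (L ⧸ C) × {r : R // r ≠ 1} → {v : W // v ≠ 1} := fun p =>
    ⟨⟨ρ p.1.out (p.2.1 : V), hRW _ (hmem _ _ p.2.1.2)⟩, by
      intro h0
      have h1 : ρ p.1.out (p.2.1 : V) = 1 := congrArg Subtype.val h0
      exact p.2.2 (Subtype.ext ((map_eq_one_iff _ (ρ p.1.out).injective).1 h1))⟩
  have hF : Function.Injective F := by
    rintro ⟨g, r⟩ ⟨g', r'⟩ he
    have he' : ρ g.out (r.1 : V) = ρ g'.out (r'.1 : V) := congrArg (fun v : {v : W // v ≠ 1} => ((v.1 : W) : V)) he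
    have hin : ∀ g : L, (g * t * g⁻¹) * (g * t * g⁻¹) = 1 ∧ g * t * g⁻¹ ≠ 1 := by
      intro g
      refine ⟨by rw [show g * t * g⁻¹ * (g * t * g⁻¹) = g * (t * t) * g⁻¹ by group, h.tt]; group, fun h1 => h.t1 ?_⟩
      rw [mul_inv_eq_one] at h1
      exact mul_eq_left.1 h1
    have hne : ρ g.out (r.1 : V) ≠ 1 := fun h1 =>
      r.2 (Subtype.ext ((map_eq_one_iff _ (ρ g.out).injective).1 h1))
    have h1 := h.uniq (hin g.out).1 (hin g.out).2 (hin g'.out).1 (hin g'.out).2 (hmem _ _ r.1.2)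
      (by rw [he']; exact hmem _ _ r'.1.2) hne
    have h2 : g.out⁻¹ * g'.out ∈ C := by
      refine mem_centralizer_singleton_iff.2 ?_
      calc g.out⁻¹ * g'.out * t = g.out⁻¹ * (g'.out * t * g'.out⁻¹) * g'.out := by group
        _ = g.out⁻¹ * (g.out * t * g.out⁻¹) * g'.out := by rw [h1]
        _ = t * (g.out⁻¹ * g'.out) := by group
    have h3 : g = g' := by
      rw [← QuotientGroup.eq, QuotientGroup.out_eq', QuotientGroup.out_eq'] at h2
      exact h2
    subst h3
    have h4 : (r.1 : V) = r'.1 := (ρ g.out).injective he'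
    exact Prod.ext rfl (Subtype.ext (Subtype.ext h4))
  have hcard1 : Nat.card ((L ⧸ C) × {r : R // r ≠ 1}) = 63 := by
    have : Fintype R := Fintype.ofFinite _
    have h1 : Nat.card {r : R // r ≠ 1} = 3 := by
      rw [Nat.card_eq_fintype_card, Fintype.card_subtype_compl, Fintype.card_subtype_eq, ← Nat.card_eq_fintype_card,
        hRc]
    have h2 : Nat.card (L ⧸ C) = 21 := hCi
    rw [Nat.card_prod, h1, h2]
  have hcard2 : Nat.card {v : W // v ≠ 1} = Nat.card W - 1 := by
    have : Fintype W := Fintype.ofFinite _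
    rw [Nat.card_eq_fintype_card, Fintype.card_subtype_compl, Fintype.card_subtype_eq, ← Nat.card_eq_fintype_card]
  have h63 := Nat.card_le_card_of_injective F hF
  rw [hcard1, hcard2] at h63
  have hW64 : Nat.card W = 64 := by omega
  have hbij := hF.bijective_of_nat_card_le (by rw [hcard1, hcard2, hW64])
  -- `y` has no fixed points on `W`
  have hfix : ∀ v ∈ W, ρ y v = v → v = 1 := by
    intro v hv hyv
    by_contra hv1
    obtain ⟨⟨g, r⟩, hgr⟩ := hbij.2 ⟨⟨v, hv⟩, fun h0 => hv1 (congrArg Subtype.val h0)⟩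
    have h1 : ρ g.out (r.1 : V) = v := congrArg (fun v : {v : W // v ≠ 1} => ((v.1 : W) : V)) hgr
    have h2 : v ∈ (cm ρ (g.out * t * g.out⁻¹)).range := by rw [← h1]; exact hmem _ _ r.1.2
    refine hv1 (h.baer' ?_ ?_ hy h2 hyv)
    · rw [show g.out * t * g.out⁻¹ * (g.out * t * g.out⁻¹) = g.out * (t * t) * g.out⁻¹ by group, h.tt]; group
    · intro h3
      rw [mul_inv_eq_one] at h3
      exact h.t1 (mul_eq_left.1 h3)
  have h1 : fx ρ y ⊓ W = ⊥ := by
    rw [eq_bot_iff]
    intro v hv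
    exact mem_bot.2 (hfix v hv.2 hv.1)
  have h2 : (fx ρ y).relIndex W = 64 := by
    rw [← Subgroup.inf_relIndex_right, h1, Subgroup.relIndex_bot_left, hW64]
  have h3 : (fx ρ y).relIndex W ∣ (fx ρ y).index := Subgroup.relIndex_dvd_index_of_normal _ _
  have h4 := Nat.le_of_dvd (Nat.pos_of_ne_zero Subgroup.index_ne_zero_of_finite) h3
  omega

end act

end Cfsg.Agent.OddCyclic.EqN
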