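import Mathlib
import Cfsg.Agent.TwoFusion.FpfThree

/-!
# Fixed-point-free action of order three on a 2-group

`Q` has class at most two, `u * u^x * u^(x²) = 1` and the centraliser in `Q` of any subset of `Q`
is `x`-invariant (Lemma C of blueprint S0342-T0eq1).
-/

set_option autoImplicit false

open scoped commutatorElement

namespace Cfsg.Agent.OddCyclic.FpfThree

open Cfsg.Agent.TwoFusion.FpfThree

/-- ring identity: if all `1 - γ g` have square zero then `1 - γ y`, `1 - γ z` anticommute -/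
theorem anticomm {R : Type*} [Ring R] {Y Z : R} (hY : Y * Y = 0) (hZ : Z * Z = 0)
    (hYZ : (Y + Z - Y * Z) * (Y + Z - Y * Z) = 0) : Y * Z = -(Z * Y) := by
  have e0 : (Y + Z - Y * Z) * (Y + Z - Y * Z) =
      Y * Y + Y * Z - (Y * Y) * Z + Z * Y + Z * Z - Z * Y * Z - Y * Z * Y - Y * (Z * Z) +
        Y * Z * Y * Z := by noncomm_ring
  rw [e0, hY, hZ] at hYZ
  simp only [zero_add, zero_mul, mul_zero, sub_zero, add_zero] at hYZ
  -- hYZ : Y * Z + Z * Y - Z * Y * Z - Y * Z * Y + Y * Z * Y * Z = 0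
  have e1 : Y * Z * Y = Y * Z * Y * Z := by
    have h := congrArg (fun r => Y * r) hYZ
    have h' : Y * (Y * Z + Z * Y - Z * Y * Z - Y * Z * Y + Y * Z * Y * Z) =
        (Y * Y) * Z + Y * Z * Y - Y * Z * Y * Z - (Y * Y) * Z * Y + (Y * Y) * Z * Y * Z := by
      noncomm_ring
    simp only [h', hY, zero_mul, mul_zero, zero_add, sub_zero, add_zero] at h
    exact sub_eq_zero.1 h
  have e2 : Y * Z * Y * Z = 0 := by
    calc Y * Z * Y * Z = (Y * Z * Y) * Z := rfl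
      _ = (Y * Z * Y * Z) * Z := congrArg (· * Z) e1
      _ = Y * Z * Y * (Z * Z) := by noncomm_ring
      _ = 0 := by rw [hZ, mul_zero]
  have e3 : Z * Y * Z = Y * Z * Y * Z := by
    have h := congrArg (fun r => r * Z) hYZ
    have h' : (Y * Z + Z * Y - Z * Y * Z - Y * Z * Y + Y * Z * Y * Z) * Z =
        Y * (Z * Z) + Z * Y * Z - Z * Y * (Z * Z) - Y * Z * Y * Z + Y * Z * Y * (Z * Z) := by
      noncomm_ring
    simp only [h', hZ, zero_mul, mul_zero, zero_add, sub_zero, add_zero] at h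
    exact sub_eq_zero.1 h
  rw [e2] at e1 e3
  rw [e3, e1] at hYZ
  simp only [sub_zero, add_zero, zero_mul] at hYZ
  exact eq_neg_of_add_eq_zero_left hYZ

section TwoEngel

variable {G : Type*} [Group G]

section Gam

variable {B : Type*} [AddCommGroup B]

theorem gam_swap (ι : B → G) (hadd : ∀ a b, ι (a + b) = ι a * ι b)
    (hinj : Function.Injective ι) (γ : G → AddMonoid.End B)
    (hγ : ∀ g a, ι (γ g a) = g * ι a * g⁻¹) (hE : ∀ x y : G, Commute ⁅x, y⁆ y) (y z : G) (a : B) :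
    ⁅⁅ι a, y⁆, z⁆ = ⁅⁅ι a, z⁆, y⁆⁻¹ := by
  have h0 : ι 0 = 1 := by
    have := hadd 0 0
    rw [add_zero] at this
    exact left_eq_mul.1 this
  have hneg : ∀ a, ι (-a) = (ι a)⁻¹ := by
    intro a
    apply eq_inv_of_mul_eq_one_left
    rw [← hadd, neg_add_cancel, h0]
  have hD : ∀ g a, ι ((1 - γ g) a) = ⁅ι a, g⁆ := by
    intro g a
    have h1 : (1 - γ g) a = a + -(γ g a) := by
      change a - γ g a = _
      rw [sub_eq_add_neg]
    rw [h1, hadd, hneg, hγ, commutatorElement_def]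
    group
  have hm : ∀ g k, γ (g * k) = γ g * γ k := by
    intro g k
    refine AddMonoidHom.ext fun a => hinj ?_
    have e : ι (γ (g * k) a) = ι (γ g (γ k a)) := by
      rw [hγ, hγ, hγ]; group
    exact e
  have hsq : ∀ g : G, (1 - γ g) * (1 - γ g) = 0 := by
    intro g
    refine AddMonoidHom.ext fun a => hinj ?_
    change ι ((1 - γ g) ((1 - γ g) a)) = ι 0
    rw [hD, hD, h0]
    exact (hE _ g).commutator_eq
  have hYZ : (1 - γ y) * (1 - γ z) = -((1 - γ z) * (1 - γ y)) := by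
    apply anticomm (hsq y) (hsq z)
    have h1 : (1 - γ y) + (1 - γ z) - (1 - γ y) * (1 - γ z) = 1 - γ (y * z) := by
      rw [hm]; noncomm_ring
    rw [h1]
    exact hsq _
  have h1 := congrArg ι (DFunLike.congr_fun hYZ a)
  change ι ((1 - γ y) ((1 - γ z) a)) = ι (-((1 - γ z) ((1 - γ y) a))) at h1
  rw [hneg, hD, hD, hD, hD] at h1
  rw [h1, inv_inv]

end Gam

/-- In a 2-Engel group `⁅⁅x, y⁆, z⁆` is inverted when `y`, `z` are exchanged. -/
theorem swap_right (hE : ∀ x y : G, Commute ⁅x, y⁆ y)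
    (hcj : ∀ x y : G, Commute (y * x * y⁻¹) x) (x y z : G) :
    ⁅⁅x, y⁆, z⁆ = ⁅⁅x, z⁆, y⁆⁻¹ := by
  classical
  -- conjugates of x commute
  have hcc : ∀ a ∈ Group.conjugatesOfSet {x}, ∀ b ∈ Group.conjugatesOfSet {x}, a * b = b * a := by
    intro a ha b hb
    rw [Group.mem_conjugatesOfSet_iff] at ha hb
    obtain ⟨x1, hx1, ha⟩ := ha
    obtain ⟨x2, hx2, hb⟩ := hb
    rw [Set.mem_singleton_iff] at hx1 hx2
    rw [hx1] at ha
    rw [hx2] at hb
    obtain ⟨g, hg⟩ := isConj_iff.1 ha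
    obtain ⟨k, hk⟩ := isConj_iff.1 hb
    rw [← hg, ← hk]
    have h := hcj x (k⁻¹ * g)
    have h1 : g * x * g⁻¹ = k * ((k⁻¹ * g) * x * (k⁻¹ * g)⁻¹) * k⁻¹ := by group
    rw [h1]
    calc k * ((k⁻¹ * g) * x * (k⁻¹ * g)⁻¹) * k⁻¹ * (k * x * k⁻¹)
        = k * (((k⁻¹ * g) * x * (k⁻¹ * g)⁻¹) * x) * k⁻¹ := by group
      _ = k * (x * ((k⁻¹ * g) * x * (k⁻¹ * g)⁻¹)) * k⁻¹ := by rw [h.eq]
      _ = _ := by group
  let A : Subgroup G := Subgroup.normalClosure {x}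
  have hA : A = Subgroup.closure (Group.conjugatesOfSet {x}) := rfl
  have hcomm : ∀ a ∈ A, ∀ b ∈ A, a * b = b * a := by
    intro a ha b hb
    exact Subgroup.closure_induction₂ (k := Group.conjugatesOfSet {x})
      (p := fun a b _ _ => a * b = b * a) (fun a b ha hb => hcc a ha b hb)
      (fun b _ => by simp) (fun a _ => by simp)
      (fun a b c _ _ _ h1 h2 => by
        rw [mul_assoc, h2, ← mul_assoc, h1, mul_assoc])
      (fun a b c _ _ _ h1 h2 => by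
        rw [← mul_assoc, h1, mul_assoc, h2, mul_assoc])
      (fun a b _ _ h => by
        have : Commute a b := h
        exact this.inv_left.eq)
      (fun a b _ _ h => by
        have : Commute a b := h
        exact this.inv_right.eq) ha hb
  let iA : CommGroup A := { (inferInstance : Group A) with
    mul_comm := fun a b => Subtype.ext (hcomm a a.2 b b.2) }
  have hxA : x ∈ A := Subgroup.subset_normalClosure (Set.mem_singleton x)
  have hnA : A.Normal := Subgroup.normalClosure_normal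
  exact gam_swap (B := Additive A) (fun a => ((Additive.toMul a : A) : G)) (fun a b => rfl)
    (fun a b hab => Subtype.ext hab)
    (fun g => AddMonoidHom.mk' (fun a => Additive.ofMul
      (⟨g * (Additive.toMul a : A) * g⁻¹, hnA.conj_mem _ (Additive.toMul a : A).2 g⟩ : A))
      (fun a b => Subtype.ext (by
        change g * ((Additive.toMul a : A) * (Additive.toMul b : A) : G) * g⁻¹ =
          (g * (Additive.toMul a : A) * g⁻¹) * (g * (Additive.toMul b : A) * g⁻¹)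
        group)))
    (fun g a => rfl) hE y z (Additive.ofMul ⟨x, hxA⟩)

/-- Levi: in a 2-Engel group `⁅⁅x, y⁆, z⁆ ^ 3 = 1`. -/
theorem triple_pow_three (hE : ∀ x y : G, Commute ⁅x, y⁆ y)
    (hcj : ∀ x y : G, Commute (y * x * y⁻¹) x) (x y z : G) : ⁅⁅x, y⁆, z⁆ ^ 3 = 1 := by
  have hE' : ∀ x y : G, Commute ⁅x, y⁆ x := by
    intro x y
    have := hE y x
    rw [← commutatorElement_inv]
    exact this.inv_left
  have inv_left : ∀ c g : G, ⁅c⁻¹, g⁆ = ⁅c, g⁆⁻¹ := by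
    intro c g
    have h := (hE' c g).eq
    have h2 : ⁅c, g⁆⁻¹ * c⁻¹ = c⁻¹ * ⁅c, g⁆⁻¹ := by
      rw [← mul_inv_rev, ← mul_inv_rev, h]
    calc ⁅c⁻¹, g⁆ = (c⁻¹ * ⁅c, g⁆⁻¹) * c := by simp only [commutatorElement_def]; group
      _ = ⁅c, g⁆⁻¹ := by rw [← h2]; group
  have inv_right : ∀ c g : G, ⁅c, g⁻¹⁆ = ⁅c, g⁆⁻¹ := by
    intro c g
    rw [← commutatorElement_inv, inv_left, commutatorElement_inv]
  -- f alternating
  have s1 : ∀ x y z : G, ⁅⁅y, x⁆, z⁆ = ⁅⁅x, y⁆, z⁆⁻¹ := by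
    intro x y z
    rw [← commutatorElement_inv x y, inv_left]
  have s2 : ∀ x y z : G, ⁅⁅x, z⁆, y⁆ = ⁅⁅x, y⁆, z⁆⁻¹ := by
    intro x y z
    rw [swap_right hE hcj x z y]
  set f := ⁅⁅x, y⁆, z⁆ with hf
  have cz : Commute f z := hE _ _
  have cy : Commute f y := by
    have h : Commute ⁅⁅x, z⁆, y⁆ y := hE _ _
    rw [s2 x y z] at h
    exact (Commute.inv_left_iff).1 h
  have cx : Commute f x := by
    have h : Commute ⁅⁅y, z⁆, x⁆ x := hE _ _
    rw [s2 y x z, s1 x y z, inv_inv] at h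
    exact h
  have hw : y⁻¹ * ⁅⁅y, x⁻¹⁆, z⁻¹⁆ * y * (z⁻¹ * ⁅⁅z, y⁻¹⁆, x⁻¹⁆ * z) *
      (x⁻¹ * ⁅⁅x, z⁻¹⁆, y⁻¹⁆ * x) = 1 := by
    simp only [commutatorElement_def]; group
  have t1 : ⁅⁅y, x⁻¹⁆, z⁻¹⁆ = f⁻¹ := by
    rw [inv_right y x, inv_right, inv_left, inv_inv, s1 x y z]
  have t2 : ⁅⁅z, y⁻¹⁆, x⁻¹⁆ = f⁻¹ := by
    rw [inv_right z y, inv_right, inv_left, inv_inv, s1 y z x, s2 y x z, inv_inv, s1 x y z]
  have t3 : ⁅⁅x, z⁻¹⁆, y⁻¹⁆ = f⁻¹ := by
    rw [inv_right x z, inv_right, inv_left, inv_inv, s2 x y z]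
  rw [t1, t2, t3] at hw
  have e1 : y⁻¹ * f⁻¹ * y = f⁻¹ := by
    have := (cy.inv_left).eq
    rw [mul_assoc, this]; group
  have e2 : z⁻¹ * f⁻¹ * z = f⁻¹ := by
    have := (cz.inv_left).eq
    rw [mul_assoc, this]; group
  have e3 : x⁻¹ * f⁻¹ * x = f⁻¹ := by
    have := (cx.inv_left).eq
    rw [mul_assoc, this]; group
  rw [e1, e2, e3] at hw
  have : (f ^ 3)⁻¹ = 1 := by
    rw [← hw]; group
  exact inv_eq_one.1 this

end TwoEngel

section Fpf

variable {Q : Type*} [Group Q] [Finite Q] {α : Q →* Q}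

/-- Neumann: class at most two -/
theorem class_two (h : Fpf3 α) (hQ : IsPGroup 2 Q) (x y z : Q) : ⁅⁅x, y⁆, z⁆ = 1 := by
  have h3 := triple_pow_three (G := Q) (fun x y => h.comm_right x y) (fun x y => by
    have := h.comm_conj x y⁻¹
    rw [inv_inv] at this
    exact this) x y z
  obtain ⟨k, hk⟩ := hQ ⁅⁅x, y⁆, z⁆
  have h1 : orderOf ⁅⁅x, y⁆, z⁆ ∣ 2 ^ k := orderOf_dvd_of_pow_eq_one hk
  have h2 : orderOf ⁅⁅x, y⁆, z⁆ ∣ 3 := orderOf_dvd_of_pow_eq_one h3
  have h4 : Nat.Coprime (2 ^ k) 3 := Nat.Coprime.pow_left _ (by decide)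
  exact orderOf_eq_one_iff.1 (Nat.eq_one_of_dvd_coprimes h4 h1 h2)

theorem comm_mem_center (h : Fpf3 α) (hQ : IsPGroup 2 Q) (x y : Q) :
    ⁅x, y⁆ ∈ Subgroup.center Q := by
  rw [Subgroup.mem_center_iff]
  intro z
  exact (commutatorElement_eq_one_iff_mul_comm.1 (class_two h hQ x y z)).symm

/-- bimultiplicativity -/
theorem comm_mul_right (h : Fpf3 α) (hQ : IsPGroup 2 Q) (x y z : Q) :
    ⁅x, y * z⁆ = ⁅x, y⁆ * ⁅x, z⁆ := by
  have hc := Subgroup.mem_center_iff.1 (comm_mem_center h hQ x z) y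
  calc ⁅x, y * z⁆ = ⁅x, y⁆ * (y * ⁅x, z⁆) * y⁻¹ := by
        simp only [commutatorElement_def]; group
    _ = _ := by rw [hc]; group

theorem comm_mul_left (h : Fpf3 α) (hQ : IsPGroup 2 Q) (x y z : Q) :
    ⁅x * y, z⁆ = ⁅x, z⁆ * ⁅y, z⁆ := by
  have hc := Subgroup.mem_center_iff.1 (comm_mem_center h hQ y z) x
  calc ⁅x * y, z⁆ = (x * ⁅y, z⁆) * x⁻¹ * ⁅x, z⁆ := by
        simp only [commutatorElement_def]; group
    _ = ⁅y, z⁆ * ⁅x, z⁆ := by rw [hc]; group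
    _ = _ := (Subgroup.mem_center_iff.1 (comm_mem_center h hQ y z) _).symm

/-- **Lemma C.** If `n` and `c` commute then `n` and `α c` commute. -/
theorem commute_map (h : Fpf3 α) (hQ : IsPGroup 2 Q) {n c : Q} (hnc : n * c = c * n) :
    n * α c = α c * n := by
  have h1 : ⁅n, c⁆ = 1 := commutatorElement_eq_one_iff_mul_comm.2 hnc
  set b := ⁅n, α c⁆ with hb
  have hmap : ∀ u v : Q, α ⁅u, v⁆ = ⁅α u, α v⁆ := fun u v => map_commutatorElement α u v
  -- [n, c][n, αc][n, α²c] = 1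
  have h2 : b * ⁅n, α (α c)⁆ = 1 := by
    have e := comm_mul_right h hQ n (c * α c) (α (α c))
    rw [h.prod_eq_one, commutatorElement_one_right, comm_mul_right h hQ n c (α c), h1,
      one_mul] at e
    exact e.symm
  have h3 : ⁅n, α (α c)⁆ = b⁻¹ := (inv_eq_of_mul_eq_one_right h2).symm
  -- [αn, c] = α [n, α²c] = (α b)⁻¹
  have h4 : ⁅α n, c⁆ = (α b)⁻¹ := by
    have e := hmap n (α (α c))
    rw [h.cube, h3, map_inv] at e
    exact e.symm
  -- [α²n, c] = α² [n, α c] = α² b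
  have h5 : ⁅α (α n), c⁆ = α (α b) := by
    rw [hb, hmap, hmap, h.cube]
  have h6 : (α b)⁻¹ * α (α b) = 1 := by
    have e := comm_mul_left h hQ (n * α n) (α (α n)) c
    rw [h.prod_eq_one, commutatorElement_one_left, comm_mul_left h hQ n (α n) c, h1,
      one_mul, h4, h5] at e
    exact e.symm
  have h7 : α (α b) = α b := (inv_mul_eq_one.1 h6).symm
  have h8 : α b = 1 := h.fpf _ h7
  have h9 : b = 1 := h.map_eq_one h8
  exact commutatorElement_eq_one_iff_mul_comm.1 h9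

end Fpf

/-! ### The form inside a group -/

section Inside

variable {G : Type*} [Group G]

/-- conjugation by `x` on `Q` -/
def cj {Q : Subgroup G} {x : G} (hx : x ∈ Subgroup.normalizer (Q : Set G)) : Q →* Q where
  toFun u := ⟨x * u * x⁻¹, (Subgroup.mem_normalizer_iff.1 hx u).1 u.2⟩
  map_one' := Subtype.ext (by simp)
  map_mul' u v := Subtype.ext (by simp)

@[simp] theorem coe_cj {Q : Subgroup G} {x : G} (hx : x ∈ Subgroup.normalizer (Q : Set G)) (u : Q) :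
    ((cj hx u : Q) : G) = x * u * x⁻¹ := rfl

theorem fpf3 {Q : Subgroup G} {x : G} (hx : x ∈ Subgroup.normalizer (Q : Set G)) (hx3 : x ^ 3 = 1)
    (hfix : ∀ u ∈ Q, x * u = u * x → u = 1) : Fpf3 (cj hx) where
  cube u := by
    apply Subtype.ext
    simp only [coe_cj]
    have : x * (x * (x * (u : G) * x⁻¹) * x⁻¹) * x⁻¹ = x ^ 3 * u * (x ^ 3)⁻¹ := by
      rw [pow_three]; group
    rw [this, hx3]; group
  fpf u hu := by
    have h1 : x * (u : G) * x⁻¹ = u := congrArg Subtype.val hu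
    exact Subtype.ext (hfix u u.2 (mul_inv_eq_iff_eq_mul.1 h1))

variable {Q : Subgroup G} [Finite Q] {x : G}

theorem prod_eq_one (hx : x ∈ Subgroup.normalizer (Q : Set G)) (hx3 : x ^ 3 = 1)
    (hfix : ∀ u ∈ Q, x * u = u * x → u = 1) {u : G} (hu : u ∈ Q) :
    u * (x * u * x⁻¹) * (x * (x * u * x⁻¹) * x⁻¹) = 1 :=
  congrArg Subtype.val ((fpf3 hx hx3 hfix).prod_eq_one ⟨u, hu⟩)

/-- class at most two -/
theorem commute_commutator (hQ : IsPGroup 2 Q) (hx : x ∈ Subgroup.normalizer (Q : Set G))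
    (hx3 : x ^ 3 = 1) (hfix : ∀ u ∈ Q, x * u = u * x → u = 1) {u v w : G} (hu : u ∈ Q) (hv : v ∈ Q)
    (hw : w ∈ Q) : ⁅u, v⁆ * w = w * ⁅u, v⁆ := by
  have h := class_two (fpf3 hx hx3 hfix) hQ ⟨u, hu⟩ ⟨v, hv⟩ ⟨w, hw⟩
  have h' : ⁅⁅u, v⁆, w⁆ = 1 := congrArg Subtype.val h
  exact commutatorElement_eq_one_iff_mul_comm.1 h'

/-- the commutator subgroup is central -/
theorem commutator_le_centralizer (hQ : IsPGroup 2 Q) (hx : x ∈ Subgroup.normalizer (Q : Set G))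
    (hx3 : x ^ 3 = 1) (hfix : ∀ u ∈ Q, x * u = u * x → u = 1) :
    ⁅Q, Q⁆ ≤ Subgroup.centralizer (Q : Set G) := by
  rw [Subgroup.commutator_le]
  intro u hu v hv
  rw [Subgroup.mem_centralizer_iff]
  intro w hw
  exact (commute_commutator hQ hx hx3 hfix hu hv hw).symm

/-- **Lemma C**, elements. -/
theorem commute_conj (hQ : IsPGroup 2 Q) (hx : x ∈ Subgroup.normalizer (Q : Set G))
    (hx3 : x ^ 3 = 1) (hfix : ∀ u ∈ Q, x * u = u * x → u = 1) {n c : G} (hn : n ∈ Q) (hc : c ∈ Q)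
    (h : n * c = c * n) : n * (x * c * x⁻¹) = (x * c * x⁻¹) * n :=
  congrArg Subtype.val (commute_map (fpf3 hx hx3 hfix) hQ (n := ⟨n, hn⟩) (c := ⟨c, hc⟩)
    (Subtype.ext h))

/-- **Lemma C**: `C_Q(A)` is `x`-invariant for every subset `A` of `Q`. -/
theorem mem_normalizer_centralizer (hQ : IsPGroup 2 Q)
    (hx : x ∈ Subgroup.normalizer (Q : Set G)) (hx3 : x ^ 3 = 1)
    (hfix : ∀ u ∈ Q, x * u = u * x → u = 1) {A : Set G} (hA : A ⊆ Q) :
    x ∈ Subgroup.normalizer ((Q ⊓ Subgroup.centralizer A : Subgroup G) : Set G) := by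
  have key : ∀ u, u ∈ Q ⊓ Subgroup.centralizer A → x * u * x⁻¹ ∈ Q ⊓ Subgroup.centralizer A := by
    intro u hu
    obtain ⟨hu1, hu2⟩ := Subgroup.mem_inf.1 hu
    refine Subgroup.mem_inf.2 ⟨(Subgroup.mem_normalizer_iff.1 hx u).1 hu1, ?_⟩
    rw [Subgroup.mem_centralizer_iff] at hu2 ⊢
    intro a ha
    exact commute_conj hQ hx hx3 hfix (hA ha) hu1 (hu2 a ha)
  rw [Subgroup.mem_normalizer_iff]
  intro u
  refine ⟨key u, fun hu => ?_⟩
  have h1 := key _ (key _ hu)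
  have h2 : x * (x * (x * u * x⁻¹) * x⁻¹) * x⁻¹ = u := by
    have : x * (x * (x * u * x⁻¹) * x⁻¹) * x⁻¹ = x ^ 3 * u * (x ^ 3)⁻¹ := by
      rw [pow_three]; group
    rw [this, hx3]; group
  rwa [h2] at h1

end Inside

end Cfsg.Agent.OddCyclic.FpfThree
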