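import Mathlib

/-!
# The action of `C` on `W / ⟨z⟩`
-/

set_option autoImplicit false

namespace Cfsg.Agent.OddCyclic.Om5

open Subgroup

universe u

variable {G : Type u} [Group G]

/-- `V = W / ⟨z⟩` with the action of `C` -/
structure MD (C W : Subgroup G) (z : G) (V : Type u) [CommGroup V] (π : W →* V) (ρ : C →* MulAut V) : Prop where
  norm : ∀ c ∈ C, ∀ w ∈ W, c * w * c⁻¹ ∈ W
  surj : Function.Surjective π
  ker : ∀ w : W, π w = 1 ↔ (w : G) = 1 ∨ (w : G) = z
  sq : ∀ v : V, v * v = 1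
  act : ∀ (c : C) (w : W) (hw : (c : G) * w * (c : G)⁻¹ ∈ W), ρ c (π w) = π ⟨(c : G) * w * (c : G)⁻¹, hw⟩

theorem exists_md [Finite G] {C W : Subgroup G} {z : G} (hWC : W ≤ C) (hzW : z ∈ W) (hz : z * z = 1)
    (hzc : ∀ c ∈ C, c * z = z * c) (hW : ∀ c ∈ C, ∀ w ∈ W, c * w * c⁻¹ ∈ W)
    (hcomm : ∀ x ∈ W, ∀ y ∈ W, x * y * x⁻¹ * y⁻¹ = 1 ∨ x * y * x⁻¹ * y⁻¹ = z)
    (hsq : ∀ x ∈ W, x * x = 1 ∨ x * x = z) :
    ∃ (V : Type u) (_ : CommGroup V) (_ : Finite V) (π : W →* V) (ρ : C →* MulAut V), MD C W z V π ρ := by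
  let N : Subgroup W :=
    { carrier := {w | (w : G) = 1 ∨ (w : G) = z}
      mul_mem' := by
        rintro a b (ha | ha) (hb | hb)
        · left; change (a : G) * b = 1; rw [ha, hb, one_mul]
        · right; change (a : G) * b = z; rw [ha, hb, one_mul]
        · right; change (a : G) * b = z; rw [ha, hb, mul_one]
        · left; change (a : G) * b = 1; rw [ha, hb, hz]
      one_mem' := Or.inl rfl
      inv_mem' := by
        rintro a (ha | ha)
        · left; change (a : G)⁻¹ = 1; rw [ha, inv_one]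
        · right; change (a : G)⁻¹ = z; rw [ha]; exact inv_eq_of_mul_eq_one_left hz }
  have hN : ∀ w : W, w ∈ N ↔ (w : G) = 1 ∨ (w : G) = z := fun w => Iff.rfl
  have hNn : N.Normal := by
    refine ⟨fun n hn g => ?_⟩
    rcases hn with hn | hn
    · left
      change (g : G) * n * (g : G)⁻¹ = 1
      rw [hn]; group
    · right
      change (g : G) * n * (g : G)⁻¹ = z
      rw [hn, hzc _ (hWC g.2)]; group
  -- conjugation
  let cj : C → (W ≃* W) := fun c =>
    { toFun := fun w => ⟨(c : G) * w * (c : G)⁻¹, hW c c.2 w w.2⟩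
      invFun := fun w => ⟨(c : G)⁻¹ * w * (c : G)⁻¹⁻¹, hW _ (inv_mem c.2) w w.2⟩
      left_inv := fun w => by
        apply Subtype.ext
        change (c : G)⁻¹ * ((c : G) * w * (c : G)⁻¹) * (c : G)⁻¹⁻¹ = w
        group
      right_inv := fun w => by
        apply Subtype.ext
        change (c : G) * ((c : G)⁻¹ * w * (c : G)⁻¹⁻¹) * (c : G)⁻¹ = w
        group
      map_mul' := fun a b => by
        apply Subtype.ext
        change (c : G) * (a * b : G) * (c : G)⁻¹ = (c : G) * a * (c : G)⁻¹ * ((c : G) * b * (c : G)⁻¹)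
        group }
  have hcj : ∀ c : C, N.map (cj c : W →* W) = N := by
    intro c
    ext w
    constructor
    · rintro ⟨n, hn, rfl⟩
      rcases hn with hn | hn
      · left
        change (c : G) * n * (c : G)⁻¹ = 1
        rw [hn]; group
      · right
        change (c : G) * n * (c : G)⁻¹ = z
        rw [hn, hzc _ c.2]; group
    · intro hw
      refine ⟨(cj c).symm w, ?_, (cj c).apply_symm_apply w⟩
      rcases hw with hn | hn
      · left
        change (c : G)⁻¹ * w * (c : G)⁻¹⁻¹ = 1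
        rw [hn]; group
      · right
        change (c : G)⁻¹ * w * (c : G)⁻¹⁻¹ = z
        rw [hn, hzc _ (inv_mem c.2)]; group
  let ic : CommGroup (W ⧸ N) :=
    { (inferInstance : Group (W ⧸ N)) with
      mul_comm := by
        intro a b
        obtain ⟨a, rfl⟩ := QuotientGroup.mk'_surjective N a
        obtain ⟨b, rfl⟩ := QuotientGroup.mk'_surjective N b
        rw [← map_mul, ← map_mul, QuotientGroup.mk'_eq_mk']
        refine ⟨(a * b)⁻¹ * (b * a), ?_, by group⟩
        have h1 := hcomm _ (inv_mem b.2) _ (inv_mem a.2)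
        have h2 : ((b : G)⁻¹ * (a : G)⁻¹ * (b : G)⁻¹⁻¹ * (a : G)⁻¹⁻¹) = (((a * b)⁻¹ * (b * a) : W) : G) := by
          push_cast
          group
        rw [h2] at h1
        exact h1 }
  let ρ0 : C → (W ⧸ N) ≃* (W ⧸ N) := fun c => QuotientGroup.congr N N (cj c) (hcj c)
  have hρ0 : ∀ (c : C) (w : W), ρ0 c (QuotientGroup.mk' N w) = QuotientGroup.mk' N (cj c w) := fun c w => rfl
  refine ⟨W ⧸ N, ic, inferInstance, QuotientGroup.mk' N,
    { toFun := ρ0
      map_one' := ?_
      map_mul' := ?_ }, ?_⟩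
  · refine MulEquiv.ext fun v => ?_
    obtain ⟨w, rfl⟩ := QuotientGroup.mk'_surjective N v
    have h1 : cj 1 w = w := by
      apply Subtype.ext
      change (1 : G) * w * (1 : G)⁻¹ = w
      group
    exact congrArg (QuotientGroup.mk' N) h1
  · intro c d
    refine MulEquiv.ext fun v => ?_
    obtain ⟨w, rfl⟩ := QuotientGroup.mk'_surjective N v
    have h1 : cj (c * d) w = cj c (cj d w) := by
      apply Subtype.ext
      change ((c : G) * d) * w * ((c : G) * d)⁻¹ = (c : G) * ((d : G) * w * (d : G)⁻¹) * (c : G)⁻¹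
      group
    exact congrArg (QuotientGroup.mk' N) h1
  · refine ⟨hW, QuotientGroup.mk'_surjective N, fun w => ?_, fun v => ?_, fun c w hw => rfl⟩
    · rw [← hN, ← MonoidHom.mem_ker, QuotientGroup.ker_mk']
    · obtain ⟨w, rfl⟩ := QuotientGroup.mk'_surjective N v
      rw [← map_mul, ← MonoidHom.mem_ker, QuotientGroup.ker_mk', hN]
      exact hsq w w.2

end Cfsg.Agent.OddCyclic.Om5
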