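import Cfsg.Agent.OddCyclic.Om5BInv

/-!
# (Omega5): the involution `a` and a component of type `SL₂(q)`, `Sz(q)`, `J₁`
-/

set_option autoImplicit false
set_option linter.unusedSectionVars false

namespace Cfsg.Agent.OddCyclic.Om5

open Subgroup Matrix
open Cfsg.Agent.OddCyclic.T1Defs (OddCyc)
open Cfsg.Agent.OddCyclic.T1Sl2
open Cfsg.Agent.OddCyclic.FFBasic Cfsg.Agent.OddCyclic.T1Module Cfsg.Agent.OddCyclic.FFRed
open Cfsg.Agent.Lib.AutSL2 Cfsg.Agent.Lib.AutSL2Out
open Cfsg.Agent.Classification.QDW.TypeHom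
open Cfsg.Agent.Lib.SL2Mat (fieldAut)

variable {X V : Type*} [Group X] [CommGroup V] {ρ : X →* MulAut V} {T : Sylow 2 X} {Λ : Subgroup V} {x s : X} {μ : V}
  {a : X}

/-- elements of odd order inverted by the inner involution induced by `a` -/
theorem Inv.index_real [Finite V] (h : Lam ρ T Λ x s μ) (I : Inv ρ T Λ x a) {L : Subgroup X} {w₀ : X}
    (hin : ∀ l ∈ L, a * l * a⁻¹ = w₀ * l * w₀⁻¹) {g y : X} (hg : g ∈ L) (hy : y ∈ L)
    (hodd : Odd (orderOf y)) (hinv : (g * w₀ * g⁻¹) * y * (g * w₀ * g⁻¹)⁻¹ = y⁻¹) : (fx ρ y).index ≤ 16 := by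
  set y' := g⁻¹ * y * g with hy'
  have hy'L : y' ∈ L := mul_mem (mul_mem (inv_mem hg) hy) hg
  have h1 : a * y' * a⁻¹ = y'⁻¹ := by
    rw [hin y' hy'L]
    calc w₀ * y' * w₀⁻¹ = g⁻¹ * ((g * w₀ * g⁻¹) * y * (g * w₀ * g⁻¹)⁻¹) * g := by rw [hy']; group
      _ = g⁻¹ * y⁻¹ * g := by rw [hinv]
      _ = y'⁻¹ := by rw [hy']; group
  have h2 : y = g * y' * g⁻¹ := by rw [hy']; group
  have h3 : orderOf y' = orderOf y := by
    rw [h2]
    exact (orderOf_injective (MulAut.conj g).toMonoidHom (MulAut.conj g).injective y').symm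
  have h4 := half' ρ (a := a) (y := y') (by rw [h3]; exact hodd) h1
  rw [h2, index_fx_conj]
  exact h4.trans (Nat.pow_le_pow_left (I.index_le h) 2)

theorem conjNormal_ne {L : Subgroup X} [L.Normal] (hna : a ∉ centralizer (L : Set X)) :
    MulAut.conjNormal (H := L) a ≠ 1 := by
  intro h1
  apply hna
  rw [mem_centralizer_iff]
  intro l hl
  have h3 : MulAut.conjNormal a (⟨l, hl⟩ : L) = ⟨l, hl⟩ := DFunLike.congr_fun h1 ⟨l, hl⟩
  have h4 := congrArg Subtype.val h3
  rw [MulAut.conjNormal_apply] at h4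
  exact (mul_inv_eq_iff_eq_mul.1 h4).symm

theorem exists_ne {L : Subgroup X} (hρ : Function.Injective ρ) {y : X} (hy1 : y ≠ 1) : ∃ v, ρ y v ≠ v := by
  by_contra hcon
  push Not at hcon
  apply hy1
  apply hρ
  rw [map_one]
  exact MulEquiv.ext hcon

/-- type `SL₂(q)` -/
theorem Inv.false_of_sl2 [Finite X] (hc : OddCyc X) (h : Lam ρ T Λ x s μ) (I : Inv ρ T Λ x a) {L : Subgroup X}
    [hL : L.Normal] {F : Type*} [Field F] [Fintype F] [CharP F 2]
    (e₀ : SpecialLinearGroup (Fin 2) F ≃* L) (hna : a ∉ centralizer (L : Set X)) : False := by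
  obtain ⟨f, hf, hF⟩ := T1Sl2.card_pow F
  have h3 : 3 ∣ Nat.card L := by
    rw [← Nat.card_congr e₀.toEquiv]
    apply dvd_card_of hF _ Nat.prime_three
    rw [pow_mul]
    have := Nat.sub_dvd_pow_sub_pow (2 ^ 2) 1 f
    rw [one_pow] at this
    exact this
  have hxL : x ∈ L := CompBasic.mem_of_orderOf hc Nat.prime_three (by norm_num) hL h3 h.ox
  obtain ⟨e', he'⟩ := L2Abs.exists_frame e₀.symm (isSyl2_inf T hL)
  set e : SpecialLinearGroup (Fin 2) F ≃* L := e'.symm with he
  have hfr : ∀ g : SpecialLinearGroup (Fin 2) F, ((e g : L) : X) ∈ T ↔ g ∈ UI F := by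
    intro g
    have h1 := he' (e g)
    rw [he, e'.apply_symm_apply] at h1
    rw [he, ← h1]
    exact ⟨fun h => ⟨h, (e'.symm g).2⟩, fun h => h.1⟩
  -- `a` centralises `T ⊓ L`
  have hfix : ∀ g ∈ UI F, FFOuter.ac e a g = g := by
    intro g hg
    apply e.injective
    apply Subtype.ext
    rw [FFOuter.e_ac]
    rw [mul_inv_eq_iff_eq_mul]
    exact (I.comm _ ((hfr g).2 hg)).symm
  obtain ⟨t, b, hab⟩ := L2Borel.exists_form_UI (α := FFOuter.ac e a) (fun g hg => by rw [hfix g hg]; exact hg)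
  set σ := typ (FFOuter.ac e a) with hσ
  have h2 : (2 : F) = 0 := CharTwo.two_eq_zero
  have hup : ∀ c : F, (b : F) * b * σ c = c := by
    intro c
    have h1 := hfix (up c) (T1Sl2.up_mem c)
    rw [hab, L2Borel.form_tu] at h1
    exact L2Borel.tu_inj h1
  have hb : b = 1 := by
    have h1 := hup 1
    rw [map_one, mul_one] at h1
    apply Units.ext
    rw [Units.val_one]
    apply L2Model.eq_of_sq
    rw [h1, one_mul]
  have hσ1 : σ = 1 := by
    ext c
    have h1 := hup c
    rw [hb, Units.val_one, one_mul, one_mul] at h1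
    exact h1
  have hac : FFOuter.ac e a = MulAut.conj (up t) := by
    rw [hab, hb, hσ1, map_one, mul_one]
    congr 1
    have : dg (1 : Fˣ) = 1 := by rw [← dgHom_apply, map_one]
    rw [this, mul_one]
  by_cases ht : t = 0
  · apply hna
    rw [ht, up_zero, map_one, ← map_one (FFOuter.ac e), FFOuter.ac_eq_iff] at hac
    rw [mem_centralizer_iff]
    intro l hl
    have h1 := hac l hl
    rw [one_mul, inv_one, mul_one, mul_inv_eq_iff_eq_mul] at h1
    exact h1.symm
  · obtain ⟨x', hx'⟩ := e.surjective ⟨x, hxL⟩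
    have hx'' : ((e x' : L) : X) = x := congrArg Subtype.val hx'
    have h1 : FFOuter.ac e a x' = x' := by
      apply e.injective
      apply Subtype.ext
      rw [FFOuter.e_ac, hx'', mul_inv_eq_iff_eq_mul]
      exact I.commx.symm
    rw [hac, MulAut.conj_apply, mul_inv_eq_iff_eq_mul] at h1
    have e1 := congrArg (fun g : SpecialLinearGroup (Fin 2) F => g 0 0) h1
    have e2 := congrArg (fun g : SpecialLinearGroup (Fin 2) F => g 0 1) h1
    simp only [mul00, mul01, up00, up01, up10, up11] at e1 e2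
    have h10 : x' 1 0 = 0 := by
      have : t * x' 1 0 = 0 := by linear_combination e1
      exact (mul_eq_zero.1 this).resolve_left ht
    have h11 : x' 0 0 = x' 1 1 := by
      have : t * (x' 1 1 - x' 0 0) = 0 := by linear_combination e2
      have := (mul_eq_zero.1 this).resolve_left ht
      linear_combination -this
    have hd := T1Sl2.det x'
    rw [h10, ← h11] at hd
    have h00 : x' 0 0 = 1 := by
      apply L2Model.eq_of_sq
      linear_combination hd
    have hxT : x ∈ T := by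
      rw [← hx'', hfr]
      exact ⟨h00, h10⟩
    obtain ⟨k, hk⟩ := T.isPGroup' ⟨x, hxT⟩
    have hk' : x ^ 2 ^ k = 1 := congrArg Subtype.val hk
    have h5 := orderOf_dvd_of_pow_eq_one hk'
    rw [h.ox] at h5
    have h6 := Nat.Prime.dvd_of_dvd_pow Nat.prime_three h5
    norm_num at h6

/-- type `Sz(q)` -/
theorem Inv.false_of_sz [Finite X] [Finite V] (hV : ∀ v : V, v * v = 1) (hρ : Function.Injective ρ)
    (h : Lam ρ T Λ x s μ) (I : Inv ρ T Λ x a) {L : Subgroup X}
    [hL : L.Normal] (hs : Cfsg.Lie.IsoSuzuki L) (hna : a ∉ centralizer (L : Set X)) : False := by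
  obtain ⟨F, iF, iF', m, hm, hF, ⟨R⟩⟩ := Cfsg.Agent.ThreePrime.SzRel.exists_rel hs
  obtain ⟨j, hj⟩ := R.inner hm hF (MulAut.conjNormal a) ⟨1, by
    rw [pow_one, pow_two, ← map_mul, I.sq, map_one]⟩
  have hin : ∀ l ∈ L, a * l * a⁻¹ = (j : X) * l * (j : X)⁻¹ := by
    intro k hk
    have h1 := congrArg (fun α : MulAut L => ((α ⟨k, hk⟩ : L) : X)) hj
    simpa [MulAut.conjNormal_apply] using h1
  have hsl : IsSimpleGroup L := by
    obtain ⟨F, _, _, m, hm, hF, ⟨e⟩⟩ := hs
    have hs' := Cfsg.Agent.S1162.result hm hF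
    exact e.isSimpleGroup
  have hj1 : j ≠ 1 := by
    rintro rfl
    apply hna
    rw [mem_centralizer_iff]
    intro l hl
    have h1 := hin l hl
    rw [Subgroup.coe_one, one_mul, inv_one, mul_one, mul_inv_eq_iff_eq_mul] at h1
    exact h1.symm
  -- a nontrivial real element
  have hne : ∃ g v, (ρ.comp L.subtype) g v ≠ v := by
    have hj1' : (j : X) ≠ 1 := fun h => hj1 (Subtype.ext h)
    obtain ⟨v, hv⟩ := exists_ne (L := L) hρ hj1'
    exact ⟨j, v, hv⟩
  obtain ⟨y, hy, hy1, hwy, hi⟩ := FFSz.exists_real hs hV (ρ.comp L.subtype) hne R hm hF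
  have hjj : j * j = 1 := by
    -- `j * j` is central
    have h1 : ∀ l : L, j * j * l * (j * j)⁻¹ = l := by
      intro l
      have h2 := hin l l.2
      have h3 := hin ((j : X) * l * (j : X)⁻¹) (mul_mem (mul_mem j.2 l.2) (inv_mem j.2))
      rw [← h2] at h3
      have h4 : a * (a * (l : X) * a⁻¹) * a⁻¹ = l := by
        calc a * (a * (l : X) * a⁻¹) * a⁻¹ = (a * a) * l * (a * a)⁻¹ := by group
          _ = l := by rw [I.sq]; group
      rw [h4, h2] at h3
      apply Subtype.ext
      change (j : X) * j * l * ((j : X) * j)⁻¹ = l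
      calc (j : X) * j * l * ((j : X) * j)⁻¹ = (j : X) * ((j : X) * l * (j : X)⁻¹) * (j : X)⁻¹ := by group
        _ = l := h3.symm
    have h2 : j * j ∈ center L := by
      rw [mem_center_iff]
      intro l
      exact (mul_inv_eq_iff_eq_mul.1 (h1 l)).symm
    rcases hsl.eq_bot_or_eq_top_of_normal (center L) inferInstance with h3 | h3
    · rw [h3, mem_bot] at h2
      exact h2
    · exfalso
      have h4 : j ∈ center L := by rw [h3]; exact mem_top j
      apply hna
      rw [mem_centralizer_iff]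
      intro l hl
      have h5 := hin l hl
      have h6 := congrArg Subtype.val (mem_center_iff.1 h4 ⟨l, hl⟩)
      change l * (j : X) = (j : X) * l at h6
      rw [← h6, mul_inv_cancel_right, mul_inv_eq_iff_eq_mul] at h5
      exact h5.symm
  obtain ⟨g, hg⟩ := FFSz.conj_inv hs hjj hj1 R.w_mul_w (FFSz.w_ne_one R)
  have h16 := I.index_real h hin g.2 y.2 (by rw [Subgroup.orderOf_coe]; exact hy) (by
    have h1 : (g : X) * j * (g : X)⁻¹ = (R.w : X) := congrArg Subtype.val hg
    rw [h1]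
    exact congrArg Subtype.val hwy)
  have h64 : 64 ≤ Fintype.card F ^ 2 := by
    rw [hF]
    calc 64 = (2 ^ 3) ^ 2 := by norm_num
      _ ≤ (2 ^ (2 * m + 1)) ^ 2 := Nat.pow_le_pow_left (Nat.pow_le_pow_right (by norm_num) (by omega)) 2
  have hi' : Fintype.card F ^ 2 ≤ (fx ρ (y : X)).index := hi
  omega

/-- type `J₁` -/
theorem Inv.false_of_j1 [Finite X] [Finite V] (hV : ∀ v : V, v * v = 1) (hρ : Function.Injective ρ)
    (h : Lam ρ T Λ x s μ) (I : Inv ρ T Λ x a) {L : Subgroup X}
    [hL : L.Normal] (hJ : Cfsg.Agent.SporRec.J1.Defs.Local L) {k : L} (hk : orderOf k = 2)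
    (hna : a ∉ centralizer (L : Set X)) : False := by
  have hsl : IsSimpleGroup L := (JFacts.isJ1_of_local hJ hk).1
  obtain ⟨j, hj⟩ := JInner.inner hJ k hk (MulAut.conjNormal a : MulAut L)
  have hin : ∀ l ∈ L, a * l * a⁻¹ = (j : X) * l * (j : X)⁻¹ := by
    intro l hl
    have h1 := congrArg Subtype.val (hj ⟨l, hl⟩)
    rw [MulAut.conjNormal_apply] at h1
    exact h1
  have hj1 : j ≠ 1 := by
    rintro rfl
    apply hna
    rw [mem_centralizer_iff]
    intro l hl
    have h1 := hin l hl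
    rw [Subgroup.coe_one, one_mul, inv_one, mul_one, mul_inv_eq_iff_eq_mul] at h1
    exact h1.symm
  have hjj : j * j = 1 := by
    have h1 : ∀ l : L, j * j * l * (j * j)⁻¹ = l := by
      intro l
      have h2 := hin l l.2
      have h3 := hin ((j : X) * l * (j : X)⁻¹) (mul_mem (mul_mem j.2 l.2) (inv_mem j.2))
      rw [← h2] at h3
      have h4 : a * (a * (l : X) * a⁻¹) * a⁻¹ = l := by
        calc a * (a * (l : X) * a⁻¹) * a⁻¹ = (a * a) * l * (a * a)⁻¹ := by group
          _ = l := by rw [I.sq]; group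
      rw [h4, h2] at h3
      apply Subtype.ext
      change (j : X) * j * l * ((j : X) * j)⁻¹ = l
      calc (j : X) * j * l * ((j : X) * j)⁻¹ = (j : X) * ((j : X) * l * (j : X)⁻¹) * (j : X)⁻¹ := by group
        _ = l := h3.symm
    have h2 : j * j ∈ center L := by
      rw [mem_center_iff]
      intro l
      exact (mul_inv_eq_iff_eq_mul.1 (h1 l)).symm
    rcases hsl.eq_bot_or_eq_top_of_normal (center L) inferInstance with h3 | h3
    · rw [h3, mem_bot] at h2
      exact h2
    · exfalso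
      have h4 : j ∈ center L := by rw [h3]; exact mem_top j
      apply hna
      rw [mem_centralizer_iff]
      intro l hl
      have h5 := hin l hl
      have h6 := congrArg Subtype.val (mem_center_iff.1 h4 ⟨l, hl⟩)
      change l * (j : X) = (j : X) * l at h6
      rw [← h6, mul_inv_cancel_right, mul_inv_eq_iff_eq_mul] at h5
      exact h5.symm
  obtain ⟨w, y, hy, hw, hw1, hwy⟩ := FFJ1.exists_real hJ hk
  obtain ⟨g, hg⟩ := hJ.conj _ _ (JInner.two_of_sq hjj hj1) (JInner.two_of_sq hw hw1)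
  have hyX : orderOf (y : X) = 11 := by rw [Subgroup.orderOf_coe, hy]
  have h16 := I.index_real h hin g.2 y.2 (by rw [hyX]; decide) (by
    have h1 : (g : X) * j * (g : X)⁻¹ = (w : X) := congrArg Subtype.val hg
    rw [h1]
    exact congrArg Subtype.val hwy)
  have hy1 : (y : X) ≠ 1 := by
    intro h1
    rw [h1, orderOf_one] at hyX
    omega
  obtain ⟨d, hd, h1, h2⟩ := prim (ρ := ρ) hV (by norm_num : Nat.Prime 11) (by norm_num) hyX (exists_ne (L := L) hρ hy1)
  have h3 := FFJ1.ten_le d hd h2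
  rw [h1] at h16
  have h4 : 2 ^ 10 ≤ 2 ^ d := Nat.pow_le_pow_right (by norm_num) (by omega)
  omega

end Cfsg.Agent.OddCyclic.Om5
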