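import Cfsg.Agent.OddCyclic.Om5Dat

/-!
# (Omega5), section 6.2: the case `U ≰ O₂(C_G(z))`
-/

set_option autoImplicit false
set_option linter.unusedSectionVars false

namespace Cfsg.Agent.OddCyclic.Om5

open Subgroup Cfsg Cfsg.Agent.ZN
open Cfsg.Agent.MinSimple.Geo (cj mem_cj conj_mem_cj cj_cj lines ws le_ws ws_le)

universe u

variable {G : Type u} [Group G] {S M U : Subgroup G} {φ : M →* Equiv.Perm (Fin 5)} {e : Fin 5 → Fin 5 → G}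

theorem elem_sSup {A : Set (Subgroup G)} (hc : ∀ H ∈ A, ∀ K ∈ A, ∀ x ∈ H, ∀ y ∈ K, x * y = y * x)
    (hs : ∀ H ∈ A, ∀ x ∈ H, x * x = 1) :
    (∀ x ∈ sSup A, ∀ y ∈ sSup A, x * y = y * x) ∧ ∀ x ∈ sSup A, x * x = 1 := by
  have h1 : ∀ K ∈ A, ∀ y ∈ K, ∀ x ∈ sSup A, x * y = y * x := by
    intro K hK y hy x hx
    have h2 : sSup A ≤ centralizer ({y} : Set G) := by
      refine sSup_le fun H hH x hx => ?_
      rw [mem_centralizer_singleton_iff]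
      exact hc H hH K hK x hx y hy
    exact mem_centralizer_singleton_iff.1 (h2 hx)
  have h2 : ∀ x ∈ sSup A, ∀ y ∈ sSup A, x * y = y * x := by
    intro x hx y hy
    have h3 : sSup A ≤ centralizer ({x} : Set G) := by
      refine sSup_le fun H hH y hy => ?_
      rw [mem_centralizer_singleton_iff]
      exact (h1 H hH y hy x hx).symm
    exact (mem_centralizer_singleton_iff.1 (h3 hy)).symm
  refine ⟨h2, fun x hx => ?_⟩
  let K : Subgroup G :=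
    { carrier := {x | x ∈ sSup A ∧ x * x = 1}
      mul_mem' := by
        rintro a b ⟨ha, ha'⟩ ⟨hb, hb'⟩
        refine ⟨mul_mem ha hb, ?_⟩
        calc a * b * (a * b) = a * (b * a) * b := by group
          _ = a * (a * b) * b := by rw [h2 b hb a ha]
          _ = (a * a) * (b * b) := by group
          _ = 1 := by rw [ha', hb', one_mul]
      one_mem' := ⟨one_mem _, one_mul 1⟩
      inv_mem' := by
        rintro a ⟨ha, ha'⟩
        refine ⟨inv_mem ha, ?_⟩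
        rw [← mul_inv_rev, ha', inv_one] }
  have h3 : sSup A ≤ K := sSup_le fun H hH x hx => ⟨le_sSup hH hx, hs H hH x hx⟩
  exact (h3 hx).2

variable [Finite G]

namespace Sit0

theorem lines_z (h : Sit0 S M U φ e) {L : Subgroup G} (hL : L ∈ lines U (sg e 4)) : ∃ c ∈ CC e, L = cj c U := by
  obtain ⟨⟨g, rfl⟩, hz⟩ := hL
  have h1 : g⁻¹ * sg e 4 * g ∈ U := mem_cj.1 hz
  rcases h.toFrame.cls h1 with h2 | ⟨i, j, hij, h2⟩ | ⟨k, h2⟩
  · exfalso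
    apply h.z_ne
    have h3 : sg e 4 = g * (g⁻¹ * sg e 4 * g) * g⁻¹ := by group
    rw [h3, h2]; group
  · exfalso
    apply h.not_conj (k := 4) hij g
    rw [← h2]; group
  · obtain ⟨π, hπ⟩ := exists_perm_one 4 k
    obtain ⟨m, rfl⟩ := h.surj π
    have h3 := h.toFrame.conj_sg m 4
    rw [hπ, ← h2] at h3
    refine ⟨g * m, ?_, ?_⟩
    · rw [mem_CC]
      calc g * m * sg e 4 = g * ((m : G) * sg e 4 * (m : G)⁻¹) * m := by group
        _ = sg e 4 * (g * m) := by rw [h3]; group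
    · rw [← cj_cj, MinSimple.Geo.cj_eq_of_mem_normalizer (g := (m : G)) (by rw [← h.norm]; exact m.2)]

theorem cj_mem_lines (h : Sit0 S M U φ e) {c : G} (hc : c ∈ CC e) : cj c U ∈ lines U (sg e 4) := by
  refine ⟨⟨c, rfl⟩, ?_⟩
  rw [mem_cj]
  have h1 : c⁻¹ * sg e 4 * c = sg e 4 := by
    rw [mul_assoc, ← mem_CC.1 hc]; group
  rw [h1]
  exact h.z_mem

theorem U_le_ws (h : Sit0 S M U φ e) : U ≤ ws U (sg e 4) := by
  have h1 := le_ws (h.cj_mem_lines (one_mem (CC e)))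
  rwa [MinSimple.Geo.cj_one] at h1

/-- `⟨U^C⟩` is elementary abelian if all `U^c` lie in `M` -/
theorem ws_elem (h : Sit0 S M U φ e) (hM : ∀ c ∈ CC e, ∀ u ∈ U, c * u * c⁻¹ ∈ M) :
    (∀ x ∈ ws U (sg e 4), ∀ y ∈ ws U (sg e 4), x * y = y * x) ∧ ∀ x ∈ ws U (sg e 4), x * x = 1 := by
  apply elem_sSup
  · intro H hH K hK x hx y hy
    obtain ⟨c, hc, rfl⟩ := h.lines_z hH
    obtain ⟨d, hd, rfl⟩ := h.lines_z hK
    obtain ⟨u, hu, rfl⟩ := hx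
    obtain ⟨v, hv, rfl⟩ := hy
    have h1 := h.comm_conj (g := c⁻¹ * d) (hM _ (mul_mem (inv_mem hc) hd)) u hu v hv
    change c * u * c⁻¹ * (d * v * d⁻¹) = d * v * d⁻¹ * (c * u * c⁻¹)
    calc c * u * c⁻¹ * (d * v * d⁻¹) = c * (u * (c⁻¹ * d * v * (c⁻¹ * d)⁻¹)) * c⁻¹ := by group
      _ = c * (c⁻¹ * d * v * (c⁻¹ * d)⁻¹ * u) * c⁻¹ := by rw [h1]
      _ = _ := by group
  · intro H hH x hx
    obtain ⟨c, hc, rfl⟩ := h.lines_z hH
    obtain ⟨u, hu, rfl⟩ := hx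
    change c * u * c⁻¹ * (c * u * c⁻¹) = 1
    have h1 : c * u * c⁻¹ * (c * u * c⁻¹) = c * (u * u) * c⁻¹ := by group
    rw [h1, h.sq u hu]; group

theorem U_le_o2_of (h : Sit0 S M U φ e) (hM : ∀ c ∈ CC e, ∀ u ∈ U, c * u * c⁻¹ ∈ M) : U ≤ o2 (CC e) := by
  refine h.U_le_ws.trans (MinSimple.VModule.le_o2 ?_ ?_ ?_)
  · refine ws_le fun L hL => ?_
    obtain ⟨c, hc, rfl⟩ := h.lines_z hL
    rintro _ ⟨u, hu, rfl⟩
    exact mul_mem (mul_mem hc (h.U_le_CC hu)) (inv_mem hc)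
  · intro x
    refine ⟨1, ?_⟩
    apply Subtype.ext
    change (x : G) ^ 2 ^ 1 = 1
    rw [pow_one, sq]
    exact (h.ws_elem hM).2 x x.2
  · exact MinSimple.Geo.centralizer_le_normalizer_ws U (sg e 4)

/-- the nonsingular vectors in `O₂(C)` -/
theorem e_mem_o2 (h : Sit0 S M U φ e) (hU : ¬ U ≤ o2 (CC e)) : e 0 1 ∈ o2 (CC e) ∧ ∀ k, k ≠ 4 → e k 4 ∉ o2 (CC e) := by
  have hconj : ∀ m : M, (m : G) ∈ CC e → ∀ i j, e i j ∈ o2 (CC e) → e (φ m i) (φ m j) ∈ o2 (CC e) := by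
    intro m hm i j hij
    rw [← h.conj]
    exact o2_conj hm hij
  have h4 : ∀ k, k ≠ 4 → e k 4 ∉ o2 (CC e) := by
    intro k hk hmem
    apply hU
    have h1 : ∀ l, e l 4 ∈ o2 (CC e) := by
      intro l
      by_cases hl : l = 4
      · rw [hl, h.self]; exact one_mem _
      obtain ⟨π, hπ4, hπ⟩ := perm_fix_one k l hk hl
      obtain ⟨m, rfl, hm⟩ := h.exists_m hπ4
      have h2 := hconj m hm k 4 hmem
      rwa [hπ, hπ4] at h2
    have h2 : ∀ i j, e i j ∈ o2 (CC e) := by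
      intro i j
      rw [← h.mul i 4 j, h.symm 4 j]
      exact mul_mem (h1 i) (h1 j)
    intro x hx
    obtain ⟨i, j, k, l, rfl⟩ := h.all x hx
    exact mul_mem (h2 i j) (h2 k l)
  refine ⟨?_, h4⟩
  by_contra h01
  have hno : ∀ i j, i ≠ j → e i j ∉ o2 (CC e) := by
    intro i j hij hmem
    by_cases hi : i = 4
    · rw [hi, h.symm] at hmem
      exact h4 j (fun hj => hij (hi.trans hj.symm)) hmem
    by_cases hj : j = 4
    · rw [hj] at hmem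
      exact h4 i hi hmem
    obtain ⟨m, hm, hmm⟩ := h.exists_conj_e hij hi hj
    apply h01
    have h1 := o2_conj (inv_mem hm) hmem
    rw [← hmm] at h1
    have e1 : (m : G)⁻¹ * ((m : G) * e 0 1 * (m : G)⁻¹) * (m : G)⁻¹⁻¹ = e 0 1 := by group
    rwa [e1] at h1
  apply hU
  have hc : ∀ u ∈ U, ∀ q ∈ o2 (CC e), u * q = q * u := by
    intro u hu q hq
    have h1 : φ ⟨q, h.o2_le_M hq⟩ = 1 := by
      apply h.toFrame.trivial_crit
      intro x hx i j hij h2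
      apply hno i j hij
      rw [← h2]
      change q * x * q⁻¹ * x⁻¹ ∈ o2 (CC e)
      have e1 : q * x * q⁻¹ * x⁻¹ = q * (x * q⁻¹ * x⁻¹) := by group
      rw [e1]
      exact mul_mem hq (o2_conj (h.U_le_CC hx) (inv_mem hq))
    exact (h.ker _ h1 u hu).symm
  intro u hu
  apply MinSimple.Geo.inf_centralizer_o2_le h.char2
    (MinSimple.Geo.isTwoLocal_centralizer h.z_sq h.z_ne)
  refine ⟨h.U_le_CC hu, ?_⟩
  exact mem_centralizer_iff.2 fun q hq => (hc u hu q hq).symm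

/-- some element of `W` moves the point `3` -/
theorem exists_move (h : Sit0 S M U φ e) (hU : ¬ U ≤ o2 (CC e)) :
    ∃ w : M, (w : G) ∈ WW e ∧ φ w 3 ≠ 3 := by
  by_contra hcon
  push Not at hcon
  have hQ := (h.e_mem_o2 hU).1
  have hWM : ∀ w ∈ WW e, w ∈ M := fun w hw => h.o2_le_M (h.WW_le hQ hw)
  have hWC : WW e ≤ CC e := (h.WW_le hQ).trans (MinSimple.VModule.o2_le _)
  apply hU
  apply h.U_le_o2_of
  intro c hc u hu
  apply h.cent_e (i := 0) (j := 1) (by decide)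
  -- `W` centralises `U`
  have h1 : ∀ w (hw : w ∈ WW e), φ ⟨w, hWM w hw⟩ = 1 := by
    intro w hw
    refine Equiv.ext fun k => ?_
    change φ ⟨w, hWM w hw⟩ k = k
    by_cases hk : k = 4
    · rw [hk]
      exact (h.mem_CC_iff _).1 (hWC hw)
    obtain ⟨π, hπ4, hπ⟩ := perm_fix_one 3 k (by decide) hk
    obtain ⟨m, rfl, hm⟩ := h.exists_m hπ4
    have h2 : (m : G)⁻¹ * w * (m : G)⁻¹⁻¹ ∈ WW e := conj_mem_WW (inv_mem hm) hw
    have h3 := hcon ⟨_, hWM _ h2⟩ h2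
    have h4 : (⟨(m : G)⁻¹ * w * (m : G)⁻¹⁻¹, hWM _ h2⟩ : M) = m⁻¹ * ⟨w, hWM w hw⟩ * m⁻¹⁻¹ := rfl
    rw [h4, map_mul, map_mul, map_inv, map_inv, map_inv, inv_inv, Equiv.Perm.mul_apply, Equiv.Perm.mul_apply, hπ,
      Equiv.Perm.inv_eq_iff_eq, hπ] at h3
    exact h3
  have h2 : ∀ w ∈ WW e, ∀ u ∈ U, w * u = u * w := fun w hw u hu => h.ker ⟨w, hWM w hw⟩ (h1 w hw) u hu
  have h3 : c⁻¹ * e 0 1 * c⁻¹⁻¹ ∈ WW e := conj_mem_WW (inv_mem hc) (h.e_mem_WW (by decide) (by decide))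
  have h4 := h2 _ h3 u hu
  calc c * u * c⁻¹ * e 0 1 = c * (u * (c⁻¹ * e 0 1 * c⁻¹⁻¹)) * c⁻¹ := by group
    _ = c * (c⁻¹ * e 0 1 * c⁻¹⁻¹ * u) * c⁻¹ := by rw [h4]
    _ = _ := by group

end Sit0

/-- (6.2): the involution `a` -/
structure Inv {X V : Type*} [Group X] [CommGroup V] (ρ : X →* MulAut V) (T : Sylow 2 X) (Λ : Subgroup V) (x a : X) :
    Prop where
  ne : a ≠ 1
  sq : a * a = 1
  comm : ∀ t ∈ T, t * a = a * t
  commx : x * a = a * x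
  into : ∀ v, ρ a v * v⁻¹ ∈ Λ
  fix : ∀ v ∈ Λ, ρ a v = v

theorem Dat.exists_a {h : Sit0 S M U φ e} (hU : ¬ U ≤ o2 (CC e)) {V : Type u} [CommGroup V] {π : WW e →* V}
    {ρ : CC e →* MulAut V} {T : Sylow 2 ρ.range} {Λ : Subgroup V} {x s : ρ.range} {μ : V}
    (D : Dat h π ρ T Λ x s μ) : ∃ a : ρ.range, Inv ρ.range.subtype T Λ x a := by
  have hQ := (h.e_mem_o2 hU).1
  have hWM : ∀ w ∈ WW e, w ∈ M := fun w hw => h.o2_le_M (h.WW_le hQ hw)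
  have hWC : WW e ≤ CC e := (h.WW_le hQ).trans (MinSimple.VModule.o2_le _)
  have haC : e 3 4 ∈ CC e := h.U_le_CC (h.mem 3 4)
  have happ : ∀ (r : CC e) (v : V), ρ.range.subtype (ρ.rangeRestrict r) v = ρ r v := fun r v => rfl
  -- elements of `W` act trivially
  have hW1 : ∀ w (hw : w ∈ WW e), ρ ⟨w, hWC hw⟩ = 1 := fun w hw => D.Q ⟨w, hWC hw⟩ (h.WW_le hQ hw)
  have hker : ∀ r r' : CC e, (r : G) * (r' : G)⁻¹ ∈ WW e → ρ r = ρ r' := by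
    intro r r' hr
    have h1 := hW1 _ hr
    have h2 : (⟨(r : G) * (r' : G)⁻¹, hWC hr⟩ : CC e) = r * r'⁻¹ := rfl
    rw [h2, map_mul, map_inv, mul_inv_eq_one] at h1
    exact h1
  refine ⟨ρ.rangeRestrict ⟨e 3 4, haC⟩, ?_, ?_, ?_, ?_, ?_, ?_⟩
  · intro h1
    obtain ⟨w, hw, hw3⟩ := h.exists_move hU
    have h2 : ρ ⟨e 3 4, haC⟩ = 1 := congrArg Subtype.val h1
    have h3 : ρ ⟨e 3 4, haC⟩ (π ⟨w, hw⟩) = π ⟨w, hw⟩ := by rw [h2]; rfl
    rw [D.md.act ⟨e 3 4, haC⟩ ⟨w, hw⟩ (D.md.norm _ haC _ hw)] at h3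
    have h4 : π (⟨e 3 4 * w * (e 3 4)⁻¹, D.md.norm _ haC _ hw⟩ * (⟨w, hw⟩)⁻¹) = 1 := by
      rw [map_mul, map_inv, mul_inv_eq_one]; exact h3
    have h5 := (D.md.ker _).1 h4
    have h6 : e 3 4 * (w : G) * (e 3 4)⁻¹ * (w : G)⁻¹ = e 3 (φ w 3) := by
      have h7 : φ w 4 = 4 := (h.mem_CC_iff w).1 (hWC hw)
      have h8 := h.conj w 3 4
      rw [h7] at h8
      have h9 : (w : G) * (e 3 4)⁻¹ * (w : G)⁻¹ = e (φ w 3) 4 := by
        rw [h.toFrame.inv_eq (h.mem 3 4)]; exact h8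
      calc e 3 4 * (w : G) * (e 3 4)⁻¹ * (w : G)⁻¹ = e 3 4 * ((w : G) * (e 3 4)⁻¹ * (w : G)⁻¹) := by group
        _ = e 3 (φ w 3) := by rw [h9, h.symm (φ w 3) 4, h.mul]
    rcases h5 with h5 | h5
    · have h5' : e 3 4 * (w : G) * (e 3 4)⁻¹ * (w : G)⁻¹ = 1 := h5
      rw [h6] at h5'
      exact h.ne _ _ (Ne.symm hw3) h5'
    · have h5' : e 3 4 * (w : G) * (e 3 4)⁻¹ * (w : G)⁻¹ = sg e 4 := h5
      rw [h6] at h5'
      exact h.toFrame.e_ne_sg _ _ _ h5'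
  · rw [← map_mul]
    have h1 : (⟨e 3 4, haC⟩ : CC e) * ⟨e 3 4, haC⟩ = 1 := Subtype.ext (h.sq _ (h.mem 3 4))
    rw [h1, map_one]
  · intro t ht
    obtain ⟨r, hr, rfl⟩ := D.syl t ht
    rw [← map_mul, ← map_mul]
    apply Subtype.ext
    apply hker
    change (r : G) * e 3 4 * (e 3 4 * (r : G))⁻¹ ∈ WW e
    have h7 : φ ⟨r, h.le hr⟩ 4 = 4 := h.phi_fix hr
    have h8 := h.conj ⟨r, h.le hr⟩ 3 4
    rw [h7] at h8
    have h9 : (r : G) * e 3 4 * (e 3 4 * (r : G))⁻¹ = e (φ ⟨r, h.le hr⟩ 3) 3 := by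
      calc (r : G) * e 3 4 * (e 3 4 * (r : G))⁻¹ = (r : G) * e 3 4 * (r : G)⁻¹ * (e 3 4)⁻¹ := by group
        _ = e (φ ⟨r, h.le hr⟩ 3) 3 := by rw [h8, h.toFrame.inv_eq (h.mem 3 4), h.symm 3 4, h.mul]
    rw [h9]
    refine h.e_mem_WW ?_ (by decide)
    intro h10
    have h11 := (φ ⟨r, h.le hr⟩).injective (h10.trans h7.symm)
    exact absurd h11 (by decide)
  · obtain ⟨x₀, hx₀, hφ, hxC, rfl⟩ := D.ex
    rw [← map_mul, ← map_mul]
    congr 1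
    apply Subtype.ext
    change (x₀ : G) * e 3 4 = e 3 4 * x₀
    have h8 := h.conj x₀ 3 4
    have h9 : φ x₀ 3 = 3 := by rw [hφ]; decide
    have h10 : φ x₀ 4 = 4 := by rw [hφ]; decide
    rw [h9, h10] at h8
    exact mul_inv_eq_iff_eq_mul.1 h8
  · intro v
    obtain ⟨w, rfl⟩ := D.md.surj v
    rw [happ, D.md.act ⟨e 3 4, haC⟩ w (D.md.norm _ haC _ w.2), ← map_inv, ← map_mul, D.mem]
    refine ⟨_, ?_, rfl⟩
    change e 3 4 * (w : G) * (e 3 4)⁻¹ * (w : G)⁻¹ ∈ PP h.toFrame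
    have h7 : φ ⟨w, hWM _ w.2⟩ 4 = 4 := (h.mem_CC_iff ⟨w, hWM _ w.2⟩).1 (hWC w.2)
    have h8 := h.conj ⟨w, hWM _ w.2⟩ 3 4
    rw [h7] at h8
    have h6 : e 3 4 * (w : G) * (e 3 4)⁻¹ * (w : G)⁻¹ = e 3 (φ ⟨w, hWM _ w.2⟩ 3) := by
      have h9 : (w : G) * (e 3 4)⁻¹ * (w : G)⁻¹ = e (φ ⟨w, hWM _ w.2⟩ 3) 4 := by
        rw [h.toFrame.inv_eq (h.mem 3 4)]; exact h8
      calc e 3 4 * (w : G) * (e 3 4)⁻¹ * (w : G)⁻¹ = e 3 4 * ((w : G) * (e 3 4)⁻¹ * (w : G)⁻¹) := by group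
        _ = e 3 (φ ⟨w, hWM _ w.2⟩ 3) := by rw [h9, h.symm (φ ⟨w, hWM _ w.2⟩ 3) 4, h.mul]
    rw [h6]
    refine e_mem_PP h.toFrame (by decide) ?_
    intro h10
    have h11 := (φ ⟨w, hWM _ w.2⟩).injective (h10.trans h7.symm)
    exact absurd h11 (by decide)
  · intro v hv
    obtain ⟨w, hw, rfl⟩ := (D.mem v).1 hv
    rw [happ, D.md.act ⟨e 3 4, haC⟩ w (D.md.norm _ haC _ w.2)]
    congr 1
    apply Subtype.ext
    change e 3 4 * (w : G) * (e 3 4)⁻¹ = w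
    rw [h.toFrame.comm (h.mem 3 4) (h.PP_le_U hw), mul_inv_cancel_right]

end Cfsg.Agent.OddCyclic.Om5
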