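import Cfsg.Agent.OddCyclic.Om5Lin
import Cfsg.Agent.OddCyclic.Om5Two
import Cfsg.Agent.OddCyclic.FFMain

/-!
# (Omega5): the case `U ≰ O₂(C_G(z))`: the involution `a` with `[V,a] ≤ Λ`
-/

set_option autoImplicit false
set_option linter.unusedSectionVars false

namespace Cfsg.Agent.OddCyclic.Om5

open Subgroup Matrix
open Cfsg.Agent.OddCyclic.T1Defs (OddCyc)
open Cfsg.Agent.OddCyclic.FFBasic Cfsg.Agent.OddCyclic.T1Module Cfsg.Agent.OddCyclic.FFRed

variable {X V : Type*} [Group X] [CommGroup V] {ρ : X →* MulAut V} {T : Sylow 2 X} {Λ : Subgroup V} {x s : X} {μ : V}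
  {a : X}

theorem Inv.index_le (h : Lam ρ T Λ x s μ) (I : Inv ρ T Λ x a) : (fx ρ a).index ≤ 4 := by
  have hfin : Finite Λ := Nat.finite_of_card_ne_zero (by rw [h.card]; norm_num)
  rw [← card_range_cm, ← h.card]
  apply Subgroup.card_le_of_le
  rintro _ ⟨v, rfl⟩
  exact I.into v

theorem Inv.mem_T [Finite X] (I : Inv ρ T Λ x a) : a ∈ T := by
  have : Fact (Nat.Prime 2) := ⟨Nat.prime_two⟩
  have h1 : IsPGroup 2 (zpowers a) := by
    rintro ⟨_, k, rfl⟩
    refine ⟨1, Subtype.ext ?_⟩
    change (a ^ k) ^ 2 ^ 1 = 1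
    rw [pow_one, pow_two, ← _root_.zpow_add, ← two_mul, _root_.zpow_mul]
    have : a ^ (2 : ℤ) = 1 := by rw [zpow_two, I.sq]
    rw [this, _root_.one_zpow]
  have h2 : zpowers a ≤ normalizer ((T : Subgroup X) : Set X) := by
    rw [zpowers_le]
    apply centralizer_le_normalizer
    rw [mem_centralizer_iff]
    exact I.comm
  have h3 : IsPGroup 2 ((T : Subgroup X) ⊔ zpowers a : Subgroup X) := by
    exact IsPGroup.to_sup_of_normal_left' T.isPGroup' h1 h2
  have h4 := T.is_maximal' h3 le_sup_left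
  rw [← SetLike.mem_coe]
  change a ∈ (T : Subgroup X)
  rw [← h4]
  exact mem_sup_right (mem_zpowers a)

/-- `x`-invariant subgroups meeting `Λ` nontrivially contain `Λ` -/
theorem Lam.le_of_mem (h : Lam ρ T Λ x s μ) {W : Subgroup V} (hW : ∀ v ∈ W, ρ x v ∈ W) {w : V} (hw : w ∈ Λ)
    (hwW : w ∈ W) (hw1 : w ≠ 1) : Λ ≤ W := by
  classical
  have hfin : Finite Λ := Nat.finite_of_card_ne_zero (by rw [h.card]; norm_num)
  have h1 : ρ x w ≠ 1 := fun h' => hw1 ((ρ x).injective (h'.trans (map_one (ρ x)).symm))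
  have h2 : ρ x w ≠ w := fun h' => hw1 (h.fpf w hw h')
  have h3 : (({1, w, ρ x w} : Finset V) : Set V) ⊆ ((Λ ⊓ W : Subgroup V) : Set V) := by
    intro u hu
    simp only [Finset.coe_insert, Finset.coe_singleton, Set.mem_insert_iff, Set.mem_singleton_iff] at hu
    rcases hu with rfl | rfl | rfl
    · exact one_mem _
    · exact ⟨hw, hwW⟩
    · exact ⟨h.xst w hw, hW w hwW⟩
  have hfin' : ((Λ ⊓ W : Subgroup V) : Set V).Finite := (Set.toFinite (Λ : Set V)).subset inf_le_left
  have h4 := Set.ncard_le_ncard h3 hfin'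
  rw [Set.ncard_coe_finset, ← Nat.card_coe_set_eq] at h4
  have h5 : ({1, w, ρ x w} : Finset V).card = 3 := by
    rw [Finset.card_insert_of_notMem, Finset.card_insert_of_notMem, Finset.card_singleton]
    · simpa using h2.symm
    · simp only [Finset.mem_insert, Finset.mem_singleton, not_or]
      exact ⟨hw1.symm, h1.symm⟩
  rw [h5] at h4
  have h6 : Nat.card (Λ ⊓ W : Subgroup V) ∣ 4 := by
    rw [← h.card]; exact Subgroup.card_dvd_of_le inf_le_left
  have h4' : 3 ≤ Nat.card (Λ ⊓ W : Subgroup V) := h4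
  have h7 : Nat.card (Λ ⊓ W : Subgroup V) = 4 := by
    have h8 := Nat.le_of_dvd (by norm_num) h6
    have h9 : Nat.card (Λ ⊓ W : Subgroup V) = 3 ∨ Nat.card (Λ ⊓ W : Subgroup V) = 4 := by omega
    rcases h9 with h10 | h10
    · rw [h10] at h6; norm_num at h6
    · exact h10
  have h8 : Λ ⊓ W = Λ := Subgroup.eq_of_le_of_card_ge inf_le_left (by rw [h7, h.card])
  rw [← h8]; exact inf_le_right

/-- an invariant symmetric bilinear form -/
structure Frm (ρ : X →* MulAut V) (f : V → V → ZMod 2) : Prop where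
  add : ∀ v w w', f v (w * w') = f v w + f v w'
  symm : ∀ v w, f v w = f w v
  inv : ∀ g v w, f (ρ g v) (ρ g w) = f v w
  ne : ∃ v w, f v w ≠ 0

/-- no invariant form if `x`, `y` of order 3, 5 commute, `|V| = |[V,y]| = 16` -/
theorem Frm.false_of_five [Finite V] (hV : ∀ v : V, v * v = 1) {f : V → V → ZMod 2} (hf : Frm ρ f) {x y : X}
    (hy : orderOf y = 5) (hidx : (fx ρ y).index = 16) (htop : (cm ρ y).range = ⊤) (hx : orderOf x = 3)
    (hxy : x * y = y * x) (hne : ∃ v, ρ x v ≠ v) : False := by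
  have hcV : Nat.card V = 16 := by
    rw [← Subgroup.card_top, ← htop, card_range_cm, hidx]
  have hinv : ∀ v : V, v⁻¹ = v := inv_eq_self hV
  -- `y` acts irreducibly
  have irr : ∀ W : Subgroup V, (∀ w ∈ W, ρ y w ∈ W) → W = ⊥ ∨ W = ⊤ := by
    intro W hW
    have h1 : 5 ∣ Nat.card W - 1 :=
      dvd_card_sub hV (by norm_num : Nat.Prime 5) (by norm_num) hy (by rw [htop]; exact le_top) hW
    have h3 : Nat.card W ∣ 16 := by rw [← hcV]; exact Subgroup.card_subgroup_dvd_card W
    obtain ⟨k, hk, hk'⟩ := (Nat.dvd_prime_pow Nat.prime_two).1 (show Nat.card W ∣ 2 ^ 4 from h3)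
    rw [hk'] at h1
    interval_cases k
    · left; exact Subgroup.card_eq_one.1 hk'
    · norm_num at h1
    · norm_num at h1
    · norm_num at h1
    · right; exact Subgroup.eq_top_of_card_eq W (by rw [hk', hcV]; norm_num)
  have hxy' : ∀ v, ρ x (ρ y v) = ρ y (ρ x v) := fun v => by
    rw [← MulAut.mul_apply, ← MulAut.mul_apply, ← map_mul, ← map_mul, hxy]
  have hfx : ∀ v, ρ x v = v → v = 1 := by
    intro v hv
    rcases irr (fx ρ x) (fun w hw => by rw [mem_fx] at hw ⊢; rw [hxy', hw]) with h1 | h1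
    · rw [← mem_bot, ← h1]; exact hv
    · exfalso
      obtain ⟨w, hw⟩ := hne
      have h2 : w ∈ fx ρ x := by rw [h1]; exact mem_top w
      exact hw h2
  have hfy : ∀ v, ρ y v = v → v = 1 := by
    intro v hv
    have h1 := (fx ρ y).card_mul_index
    rw [hidx, hcV] at h1
    have h2 : Nat.card (fx ρ y) = 1 := by omega
    rw [← mem_bot, ← Subgroup.card_eq_one.1 h2]
    exact hv
  have hx3 : ∀ v, ρ x (ρ x (ρ x v)) = v := by
    intro v
    rw [← MulAut.mul_apply, ← MulAut.mul_apply, ← map_mul, ← map_mul, ← pow_three', ← hx, pow_orderOf_eq_one, map_one]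
    rfl
  have hy5 : ∀ v, ρ y (ρ y (ρ y (ρ y (ρ y v)))) = v := by
    intro v
    have h1 : y * y * y * y * y = 1 := by
      have := pow_orderOf_eq_one y
      rw [hy, pow_succ, pow_succ, pow_succ, pow_succ, pow_one] at this
      exact this
    rw [← MulAut.mul_apply, ← MulAut.mul_apply, ← MulAut.mul_apply, ← MulAut.mul_apply, ← map_mul, ← map_mul,
      ← map_mul, ← map_mul, h1, map_one]
    rfl
  have hsx : ∀ v, v * ρ x v = ρ x (ρ x v) := by
    intro v
    have h1 : v * ρ x v * ρ x (ρ x v) = 1 := by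
      apply hfx
      rw [map_mul, map_mul, hx3]
      rw [mul_comm (ρ x v * ρ x (ρ x v)) v, ← mul_assoc]
    rw [← hinv (ρ x (ρ x v))]
    exact eq_inv_of_mul_eq_one_left h1
  have hsy : ∀ v, v * ρ y v * ρ y (ρ y v) * ρ y (ρ y (ρ y v)) * ρ y (ρ y (ρ y (ρ y v))) = 1 := by
    intro v
    apply hfy
    rw [map_mul, map_mul, map_mul, map_mul, hy5]
    rw [mul_comm _ v, ← mul_assoc, ← mul_assoc, ← mul_assoc]
  -- `δ = y + y⁻¹`
  set δ : V → V := fun v => ρ y v * ρ y (ρ y (ρ y (ρ y v))) with hδ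
  have hδmul : ∀ v w, δ (v * w) = δ v * δ w := by
    intro v w
    simp only [hδ, map_mul]
    exact mul_mul_mul_comm _ _ _ _
  have hδx : ∀ v, δ (ρ x v) = ρ x (δ v) := by
    intro v
    simp only [hδ, map_mul, hxy']
  have hδy : ∀ v, δ (ρ y v) = ρ y (δ v) := by
    intro v
    simp only [hδ, map_mul]
  have hδδ : ∀ v, δ (δ v) * δ v * v = 1 := by
    intro v
    rw [← hsy v]
    have e1 : δ (δ v) = ρ y (ρ y v) * ρ y (ρ y (ρ y v)) := by
      simp only [hδ, map_mul, hy5]
      calc ρ y (ρ y v) * v * (v * ρ y (ρ y (ρ y v)))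
          = ρ y (ρ y v) * (v * v) * ρ y (ρ y (ρ y v)) := by group
        _ = _ := by rw [hV, mul_one]
    rw [e1]
    simp only [hδ]
    generalize ρ y v = a
    generalize ρ y a = b
    generalize ρ y b = c
    generalize ρ y c = d
    calc b * c * (a * d) * v = v * (b * c * (a * d)) := mul_comm _ _
      _ = v * (a * b * c * d) := by
        congr 1
        calc b * c * (a * d) = (b * c) * a * d := by group
          _ = a * (b * c) * d := by rw [mul_comm (b * c) a]
          _ = a * b * c * d := by group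
      _ = _ := by group
  -- `δ` is self-adjoint
  have hadd' : ∀ v v' w, f (v * v') w = f v w + f v' w := fun v v' w => by
    rw [hf.symm, hf.add, hf.symm w v, hf.symm w v']
  have hadj : ∀ v w, f (δ v) w = f v (δ w) := by
    intro v w
    simp only [hδ]
    rw [hadd', hf.add]
    have h1 : f (ρ y v) w = f v (ρ y (ρ y (ρ y (ρ y w)))) := by
      rw [← hf.inv y v, hy5]
    have h2 : f (ρ y (ρ y (ρ y (ρ y v)))) w = f v (ρ y w) := by
      rw [← hf.inv y _ w, hy5]
    rw [h1, h2, add_comm]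
  have h2 : ∀ a : ZMod 2, a + a = 0 := by decide
  have hz : ∀ v w, (∀ w, f v w = 0) → f v w = 0 := fun v w h => h w
  -- `δ = x` or `δ = x²`
  let E : Subgroup V :=
    { carrier := {v | δ v = ρ x v}
      mul_mem' := fun {a b} ha hb => by
        change δ (a * b) = ρ x (a * b)
        have ha' : δ a = ρ x a := ha
        have hb' : δ b = ρ x b := hb
        rw [hδmul, ha', hb', map_mul]
      one_mem' := by
        change δ 1 = ρ x 1
        simp only [hδ, map_one, mul_one]
      inv_mem' := fun {a} ha => by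
        change δ a⁻¹ = ρ x a⁻¹
        rw [hinv]; exact ha }
  obtain ⟨v₀, w₀, hvw⟩ := hf.ne
  rcases irr E (fun w hw => by
    change δ (ρ y w) = ρ x (ρ y w)
    have h3 : δ w = ρ x w := hw
    rw [hδy, h3, hxy']) with h3 | h3
  · -- `δ = x²`
    have hδ2 : ∀ v, δ v = ρ x (ρ x v) := by
      intro v
      have h4 : δ v * ρ x (ρ x v) ∈ E := by
        change δ (δ v * ρ x (ρ x v)) = ρ x (δ v * ρ x (ρ x v))
        have e1 : δ (ρ x (ρ x v)) = ρ x (ρ x (δ v)) := by rw [hδx, hδx]
        have e2 : ρ x (δ v * ρ x (ρ x v)) = ρ x (δ v) * v := by rw [map_mul (ρ x), hx3]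
        rw [hδmul, e1, e2, ← hsx (δ v)]
        have h5 := hδδ v
        calc δ (δ v) * (δ v * ρ x (δ v)) = (δ (δ v) * δ v * v) * (v⁻¹ * ρ x (δ v)) := by group
          _ = ρ x (δ v) * v := by rw [h5, one_mul, hinv, mul_comm]
      rw [h3, mem_bot] at h4
      rw [← hinv (ρ x (ρ x v))]
      exact eq_inv_of_mul_eq_one_left h4
    apply hvw
    have h4 : ∀ v w, f v (ρ x (ρ x w)) = 0 := by
      intro v w
      rw [← hsx, hf.add]
      have h5 : f v w = f v (ρ x w) := by
        have h6 := hadj v (ρ x (ρ x w))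
        rw [hδ2, hδ2, hf.inv, hf.inv, hx3] at h6
        exact h6
      rw [← h5]; exact h2 _
    have h5 := h4 v₀ (ρ x w₀)
    rwa [hx3] at h5
  · have hδ1 : ∀ v, δ v = ρ x v := fun v => by
      have : v ∈ E := by rw [h3]; exact mem_top v
      exact this
    apply hvw
    have h4 : ∀ v w, f v (ρ x w) = 0 := by
      intro v w
      have h5 : f v w = f v (ρ x (ρ x w)) := by
        have h6 := hadj v (ρ x w)
        rw [hδ1, hδ1, hf.inv] at h6
        exact h6
      have h6 : ρ x w = w * ρ x (ρ x w) := by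
        rw [← hsx w, ← mul_assoc, hV, one_mul]
      rw [h6, hf.add, ← h5]
      exact h2 _
    have h5 := h4 v₀ (ρ x (ρ x w₀))
    rwa [hx3] at h5

/-- `[V,y]` is invariant under the normaliser of `⟨y⟩` -/
theorem range_invariant [Finite X] {y : X} (hyn : (zpowers y).Normal) (g : X) {v : V} (hv : v ∈ (cm ρ y).range) :
    ρ g v ∈ (cm ρ y).range := by
  obtain ⟨u, rfl⟩ := hv
  have h1 : g * y * g⁻¹ ∈ zpowers y := hyn.conj_mem y (mem_zpowers y) g
  obtain ⟨n, hn⟩ := (isOfFinOrder_of_finite y).mem_powers_iff_mem_zpowers.2 h1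
  have hn' : y ^ n = g * y * g⁻¹ := hn
  have h2 : ∀ (n : ℕ) (w : V), ρ (y ^ n) w * w⁻¹ ∈ (cm ρ y).range := by
    intro n w
    induction n with
    | zero => rw [pow_zero, map_one]; change w * w⁻¹ ∈ _; rw [mul_inv_cancel]; exact one_mem _
    | succ n ih =>
      have e1 : ρ (y ^ (n + 1)) w * w⁻¹ = ρ y (ρ (y ^ n) w * w⁻¹) * (ρ y w * w⁻¹) := by
        rw [pow_succ', map_mul, MulAut.mul_apply, map_mul (ρ y), map_inv (ρ y)]; group
      rw [e1]
      exact mul_mem (apply_mem_range ρ rfl ih) ⟨w, rfl⟩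
  have h3 := h2 n (ρ g u)
  rw [hn', map_mul, map_mul, map_inv, MulAut.mul_apply, MulAut.mul_apply, MulAut.inv_apply_self] at h3
  rw [cm_apply, map_mul, map_inv]
  exact h3

theorem mem_zpowers_of_orderOf {y z : X} {r : ℕ} (hr : r.Prime) (hy : orderOf y = r) (hz : orderOf z = r)
    (h : z ∈ zpowers y) : y ∈ zpowers z := by
  have hfin : Finite (zpowers y) :=
    Nat.finite_of_card_ne_zero (by rw [Nat.card_zpowers, hy]; exact hr.ne_zero)
  have h1 : zpowers z ≤ zpowers y := by rwa [zpowers_le]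
  have h2 : zpowers z = zpowers y :=
    Subgroup.eq_of_le_of_card_ge h1 (by rw [Nat.card_zpowers, Nat.card_zpowers, hy, hz])
  rw [h2]; exact mem_zpowers y

theorem comm_zpowers {a y z : X} (h : a * z = z * a) (hy : y ∈ zpowers z) : a * y = y * a := by
  obtain ⟨k, rfl⟩ := hy
  exact (Commute.zpow_right h k)

/-- the Fitting subgroup -/
theorem Inv.false_of_fitting [Finite X] [Finite V] (hc : OddCyc X) (hV : ∀ v : V, v * v = 1)
    (hρ : Function.Injective ρ) (h : Lam ρ T Λ x s μ) (I : Inv ρ T Λ x a) {f : V → V → ZMod 2} (hf : Frm ρ f)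
    {r : ℕ} (hr : r.Prime) (hr2 : r ≠ 2) {y : X}
    (hy : orderOf y = r) (hyn : (zpowers y).Normal) (hay : a * y * a⁻¹ = y⁻¹) (hay' : a * y ≠ y * a) : False := by
  have hy1 : y ≠ 1 := by
    rintro rfl
    rw [mul_one, one_mul] at hay'
    exact hay' rfl
  have hne : ∃ v, ρ y v ≠ v := by
    by_contra hcon
    push Not at hcon
    apply hy1
    apply hρ
    rw [map_one]
    exact MulEquiv.ext hcon
  obtain ⟨h35, h16⟩ := FFPsl.small hV I.sq hr hr2 hy hne hay (I.index_le h)
  rcases h35 with rfl | rfl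
  · have hx := CompBasic.mem_of_orderOf hc Nat.prime_three (by norm_num) hyn
      (by rw [Nat.card_zpowers, hy]) h.ox
    exact hay' (comm_zpowers I.commx.symm (mem_zpowers_of_orderOf hr hy h.ox hx))
  · have hodd : Odd (orderOf y) := by rw [hy]; decide
    have hidx : (fx ρ y).index = 16 := by
      obtain ⟨d, hd, h1, h2⟩ := prim (ρ := ρ) hV hr hr2 hy hne
      rw [h1] at h16 ⊢
      have h3 : d ≤ 4 := (Nat.pow_le_pow_iff_right (by norm_num : 1 < 2)).1 (h16.trans (by norm_num : 16 ≤ 2 ^ 4))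
      interval_cases d
      · norm_num at h2
      · norm_num at h2
      · norm_num at h2
      · norm_num
    set R := (cm ρ y).range with hR
    -- `x` centralises `y`
    have hxy : x * y = y * x := by
      have h1 : x * y * x⁻¹ ∈ zpowers y := hyn.conj_mem y (mem_zpowers y) x
      by_contra hcon
      -- `x` acts on `⟨y⟩`
      let f : X →* MulAut (zpowers y) := MulAut.conjNormal
      have h2 : orderOf (f x) ∣ 3 := by
        rw [← h.ox]; exact orderOf_map_dvd f x
      have h3 : orderOf (f x) = 3 := by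
        rcases (Nat.dvd_prime Nat.prime_three).1 h2 with h4 | h4
        · exfalso
          apply hcon
          rw [orderOf_eq_one_iff] at h4
          have h5 : f x ⟨y, mem_zpowers y⟩ = ⟨y, mem_zpowers y⟩ := by rw [h4]; rfl
          have h6 : x * y * x⁻¹ = y := congrArg Subtype.val h5
          exact mul_inv_eq_iff_eq_mul.1 h6
        · exact h4
      have h4 : Nat.card (MulAut (zpowers y)) = 4 := by
        rw [Nat.card_congr (IsCyclic.mulAutMulEquiv (zpowers y)).toEquiv, Nat.card_zpowers, hy,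
          Nat.card_eq_fintype_card]
        decide
      have hfin : Finite (MulAut (zpowers y)) := Nat.finite_of_card_ne_zero (by rw [h4]; norm_num)
      have h5 : orderOf (f x) ∣ Nat.card (MulAut (zpowers y)) := orderOf_dvd_natCard _
      rw [h3, h4] at h5
      norm_num at h5
    have hxR : ∀ v ∈ R, ρ x v ∈ R := fun v hv => apply_mem_range ρ hxy hv
    -- `a` acts nontrivially on `R`
    have hΛR : Λ ≤ R := by
      by_cases hfix : ∀ v ∈ R, ρ a v = v
      · exfalso
        have h1 : R = ⊥ := by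
          rw [eq_bot_iff]
          intro v hv
          rw [mem_bot]
          apply eq_one_of_fix hV hodd hv
          have h3 : ρ a v = v := hfix v hv
          have h4 : ρ a (ρ y v) = ρ y v := hfix _ (apply_mem_range ρ rfl hv)
          have h5 : ρ a (ρ y v) = ρ y⁻¹ (ρ a v) := by
            rw [← MulAut.mul_apply, ← MulAut.mul_apply, ← map_mul, ← map_mul, ← hay]
            congr 2
            group
          rw [h4, h3] at h5
          have h6 : v ∈ fx ρ (y * y) := by
            rw [mem_fx, map_mul, MulAut.mul_apply, h5, ← MulAut.mul_apply, ← map_mul, mul_inv_cancel, map_one]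
            rfl
          exact fx_of_sq ρ hodd h6
        have h2 : Nat.card R = 16 := by rw [hR, card_range_cm, hidx]
        rw [h1, Subgroup.card_bot] at h2
        norm_num at h2
      · push Not at hfix
        obtain ⟨v, hv, hav⟩ := hfix
        refine h.le_of_mem hxR (I.into v) ?_ (fun h1 => hav (mul_inv_eq_one.1 h1))
        exact mul_mem (apply_mem_range_of_inv ρ hay hv) (inv_mem hv)
    refine hf.false_of_five hV hy hidx ?_ h.ox hxy ?_
    · exact h.gen _ (fun g v hv => range_invariant hyn g hv) (hΛR h.mu_mem)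
    · exact ⟨μ, fun h1 => h.mu_ne (h.fpf μ h.mu_mem h1)⟩

end Cfsg.Agent.OddCyclic.Om5
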