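import Cfsg.Agent.OddCyclic.Om5Two

/-!
# (Omega5), section 6.3: critical pairs of points
-/

set_option autoImplicit false
set_option linter.unusedSectionVars false

namespace Cfsg.Agent.OddCyclic.Om5

open Subgroup Cfsg Cfsg.Agent.ZN
open Cfsg.Agent.MinSimple.Geo (cj mem_cj conj_mem_cj cj_cj lines ws le_ws ws_le mem_lines_cj cj_ws)

universe u

variable {G : Type u} [Group G] {S M U : Subgroup G} {φ : M →* Equiv.Perm (Fin 5)} {e : Fin 5 → Fin 5 → G}

/-- the points: conjugates of `z` -/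
def pt (z b : G) : Prop := ∃ g : G, b = g * z * g⁻¹

/-- two points in a common conjugate of `U` -/
def Adj (U : Subgroup G) (z b c : G) : Prop := pt z b ∧ pt z c ∧ ∃ L, L ∈ lines U b ∧ c ∈ L

theorem pt.conj {z b : G} (h : pt z b) (g : G) : pt z (g * b * g⁻¹) := by
  obtain ⟨x, rfl⟩ := h
  exact ⟨g * x, by group⟩

theorem Adj.symm {U : Subgroup G} {z b c : G} (h : Adj U z b c) : Adj U z c b := by
  obtain ⟨hb, hc, L, ⟨hL, hbL⟩, hcL⟩ := h
  exact ⟨hc, hb, L, ⟨hL, hcL⟩, hbL⟩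

theorem Adj.conj {U : Subgroup G} {z b c : G} (h : Adj U z b c) (g : G) : Adj U z (g * b * g⁻¹) (g * c * g⁻¹) := by
  obtain ⟨hb, hc, L, hL, hcL⟩ := h
  exact ⟨hb.conj g, hc.conj g, cj g L, mem_lines_cj hL, conj_mem_cj hcL⟩

theorem Adj.mem {U : Subgroup G} {z b c : G} (h : Adj U z b c) : c ∈ ws U b := by
  obtain ⟨_, _, L, hL, hcL⟩ := h
  exact le_ws hL hcL

/-- paths of length `n` -/
def Path (U : Subgroup G) (z : G) (n : ℕ) (f : ℕ → G) : Prop := ∀ i < n, Adj U z (f i) (f (i + 1))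

/-- `ws U b` and `ws U c` commute -/
def Comm (U : Subgroup G) (b c : G) : Prop := ∀ x ∈ ws U b, ∀ y ∈ ws U c, x * y = y * x

/-- the conclusion of the choice of a critical pair, `c` moved to `z` -/
structure Crit (U : Subgroup G) (e : Fin 5 → Fin 5 → G) (D : Subgroup G) : Prop where
  le : D ≤ CC e
  comm : ∀ x ∈ D, ∀ y ∈ D, x * y = y * x
  sq : ∀ x ∈ D, x * x = 1
  gen : Sit0.Gen U D
  norm : ∀ f ∈ ws U (sg e 4), ∀ d ∈ D, f * d * f⁻¹ ∈ D
  ne : ∃ d ∈ D, ∃ f ∈ ws U (sg e 4), d * f ≠ f * d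
  card : (ws U (sg e 4) ⊓ centralizer (D : Set G)).relIndex (ws U (sg e 4)) ≤
    (D ⊓ centralizer (ws U (sg e 4) : Set G)).relIndex D

theorem gen_ws {b : G} : Sit0.Gen U (ws U b) := by
  intro K hK
  refine ws_le fun L hL => ?_
  obtain ⟨⟨g, rfl⟩, hb⟩ := hL
  have h1 := hK g fun v hv => le_ws ⟨⟨g, rfl⟩, hb⟩ (conj_mem_cj hv)
  rintro _ ⟨v, hv, rfl⟩
  exact h1 v hv

variable [Finite G]

namespace Sit0

theorem le_M_of (h : Sit0 S M U φ e) (hU : U ≤ o2 (CC e)) : ∀ c ∈ CC e, ∀ u ∈ U, c * u * c⁻¹ ∈ M :=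
  fun _ hc _ hu => h.o2_le_M (o2_conj hc (hU hu))

/-- `ws U b` is elementary abelian for every point -/
theorem ws_elem' (h : Sit0 S M U φ e) (hU : U ≤ o2 (CC e)) {b : G} (hb : pt (sg e 4) b) :
    (∀ x ∈ ws U b, ∀ y ∈ ws U b, x * y = y * x) ∧ ∀ x ∈ ws U b, x * x = 1 := by
  obtain ⟨g, rfl⟩ := hb
  have h0 := h.ws_elem (h.le_M_of hU)
  rw [← cj_ws]
  refine ⟨?_, ?_⟩
  · rintro _ ⟨x, hx, rfl⟩ _ ⟨y, hy, rfl⟩
    rw [← map_mul, h0.1 x hx y hy, map_mul]
  · rintro _ ⟨x, hx, rfl⟩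
    rw [← map_mul, h0.2 x hx, map_one]

theorem adj_z (h : Sit0 S M U φ e) (m : M) : Adj U (sg e 4) (sg e 4) ((m : G) * sg e 4 * (m : G)⁻¹) := by
  refine ⟨⟨1, by group⟩, ⟨m, rfl⟩, U, ⟨⟨1, (MinSimple.Geo.cj_one U).symm⟩, h.z_mem⟩, ?_⟩
  exact h.toFrame.mem_conj m.2 h.z_mem

/-- some pair of connected points does not commute -/
theorem exists_not_comm (h : Sit0 S M U φ e) (hU : U ≤ o2 (CC e)) :
    ∃ n, ∃ f : ℕ → G, Path U (sg e 4) n f ∧ pt (sg e 4) (f 0) ∧ ¬ Comm U (f 0) (f n) := by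
  by_contra hcon
  push Not at hcon
  -- connectedness
  have hpath : ∀ b c, Relation.ReflTransGen (Adj U (sg e 4)) b c →
      ∃ n, ∃ f : ℕ → G, Path U (sg e 4) n f ∧ f 0 = b ∧ f n = c := by
    intro b c hbc
    induction hbc with
    | refl => exact ⟨0, fun _ => b, fun i hi => absurd hi (Nat.not_lt_zero i), rfl, rfl⟩
    | @tail c' d' _ hcd ih =>
      obtain ⟨n, f, hf, h0, hn⟩ := ih
      refine ⟨n + 1, fun i => if i ≤ n then f i else d', fun i hi => ?_, ?_, ?_⟩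
      · rcases Nat.lt_or_ge i n with h1 | h1
        · have h2 : i ≤ n := h1.le
          have h3 : i + 1 ≤ n := h1
          simp only [h2, h3, if_true]
          exact hf i h1
        · have h2 : i = n := by omega
          subst h2
          have h3 : ¬ i + 1 ≤ i := by omega
          simp only [le_refl, if_true, h3, if_false]
          rw [hn]
          exact hcd
      · simp only [Nat.zero_le, if_true]; exact h0
      · have h3 : ¬ n + 1 ≤ n := by omega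
        simp only [h3, if_false]
  have hcomm : ∀ b c, pt (sg e 4) b → Relation.ReflTransGen (Adj U (sg e 4)) b c → Comm U b c := by
    intro b c hb hbc
    obtain ⟨n, f, hf, h0, hn⟩ := hpath b c hbc
    have h1 := hcon n f hf (by rw [h0]; exact hb)
    rwa [h0, hn] at h1
  have hsymm : ∀ b c, Relation.ReflTransGen (Adj U (sg e 4)) b c → Relation.ReflTransGen (Adj U (sg e 4)) c b := by
    intro b c hbc
    induction hbc with
    | refl => exact Relation.ReflTransGen.refl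
    | tail _ hcd ih => exact Relation.ReflTransGen.head hcd.symm ih
  have hconj : ∀ g b c, Relation.ReflTransGen (Adj U (sg e 4)) b c →
      Relation.ReflTransGen (Adj U (sg e 4)) (g * b * g⁻¹) (g * c * g⁻¹) := by
    intro g b c hbc
    induction hbc with
    | refl => exact Relation.ReflTransGen.refl
    | tail _ hcd ih => exact ih.tail (hcd.conj g)
  have hpt : ∀ c, Relation.ReflTransGen (Adj U (sg e 4)) (sg e 4) c → pt (sg e 4) c := by
    intro c hc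
    rcases Relation.ReflTransGen.cases_tail hc with h1 | ⟨d, _, h1⟩
    · rw [h1]; exact ⟨1, by group⟩
    · exact h1.2.1
  let A : Set (Subgroup G) := {H | ∃ b, Relation.ReflTransGen (Adj U (sg e 4)) (sg e 4) b ∧ H = ws U b}
  have hA : (∀ x ∈ sSup A, ∀ y ∈ sSup A, x * y = y * x) ∧ ∀ x ∈ sSup A, x * x = 1 := by
    apply elem_sSup
    · rintro _ ⟨b, hb, rfl⟩ _ ⟨c, hc, rfl⟩ x hx y hy
      exact hcomm b c (hpt b hb) ((hsymm _ _ hb).trans hc) x hx y hy
    · rintro _ ⟨b, hb, rfl⟩ x hx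
      exact (h.ws_elem' hU (hpt b hb)).2 x hx
  have hnorm : ∀ g : G, Relation.ReflTransGen (Adj U (sg e 4)) (sg e 4) (g * sg e 4 * g⁻¹) →
      g ∈ normalizer ((sSup A : Subgroup G) : Set G) := by
    intro g hg
    refine MinSimple.VModule.mem_normalizer_of_map_le ?_
    rw [Subgroup.map_le_iff_le_comap]
    refine sSup_le ?_
    rintro _ ⟨b, hb, rfl⟩
    rw [← Subgroup.map_le_iff_le_comap]
    change cj g (ws U b) ≤ sSup A
    rw [cj_ws]
    exact le_sSup ⟨_, hg.trans (hconj g _ _ hb), rfl⟩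
  have h1 := h.nonlocal (sSup A) (by
    intro x
    refine ⟨1, ?_⟩
    apply Subtype.ext
    change (x : G) ^ 2 ^ 1 = 1
    rw [pow_one, sq]
    exact hA.2 x x.2) (fun m hm => hnorm m (Relation.ReflTransGen.single (h.adj_z ⟨m, hm⟩))) (by
    intro c hc
    apply hnorm
    have h2 : c * sg e 4 * c⁻¹ = sg e 4 := mul_inv_eq_iff_eq_mul.2 (mem_CC.1 hc)
    rw [h2])
  have h2 : U ≤ sSup A := h.U_le_ws.trans (le_sSup ⟨sg e 4, Relation.ReflTransGen.refl, rfl⟩)
  rw [h1] at h2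
  exact h.z_ne ((mem_bot).1 (h2 h.z_mem))

theorem exists_crit_pair (h : Sit0 S M U φ e) (hU : U ≤ o2 (CC e)) :
    ∃ b c, pt (sg e 4) b ∧ pt (sg e 4) c ∧ ¬ Comm U b c ∧ (∀ x ∈ ws U b, x * c = c * x) ∧
      ∀ x ∈ ws U c, x * b = b * x := by
  classical
  have h0 := h.exists_not_comm hU
  obtain ⟨f, hf, hpt, hne⟩ := Nat.find_spec h0
  set n := Nat.find h0 with hn
  have hmin : ∀ m < n, ∀ g : ℕ → G, Path U (sg e 4) m g → pt (sg e 4) (g 0) → Comm U (g 0) (g m) := by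
    intro m hm g hg hg0
    by_contra h1
    exact Nat.find_min h0 hm ⟨g, hg, hg0, h1⟩
  have hn0 : 0 < n := by
    rcases Nat.eq_zero_or_pos n with h1 | h1
    · exfalso
      apply hne
      rw [h1]
      exact (h.ws_elem' hU hpt).1
    · exact h1
  have hlast := hf (n - 1) (by omega)
  have hn1 : n - 1 + 1 = n := by omega
  rw [hn1] at hlast
  have hfirst := hf 0 hn0
  refine ⟨f 0, f n, hpt, hlast.2.1, hne, ?_, ?_⟩
  · intro x hx
    exact hmin (n - 1) (by omega) f (fun i hi => hf i (by omega)) hpt x hx _ hlast.mem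
  · intro x hx
    have h1 := hmin (n - 1) (by omega) (fun i => f (i + 1)) (fun i hi => hf (i + 1) (by omega)) hfirst.2.1
    have h2 : Comm U (f 1) (f n) := by
      have h3 : Comm U (f (0 + 1)) (f (n - 1 + 1)) := h1
      rw [hn1] at h3
      exact h3
    exact (h2 _ hfirst.symm.mem x hx).symm

theorem exists_crit (h : Sit0 S M U φ e) (hU : U ≤ o2 (CC e)) : ∃ D, Crit U e D := by
  -- moving `c` to `z`
  have key : ∀ b c, pt (sg e 4) b → pt (sg e 4) c → ¬ Comm U b c → (∀ x ∈ ws U b, x * c = c * x) →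
      (∀ x ∈ ws U c, x * b = b * x) →
      (ws U c ⊓ centralizer (ws U b : Set G)).relIndex (ws U c) ≤ (ws U b ⊓ centralizer (ws U c : Set G)).relIndex (ws U b) →
      ∃ D, Crit U e D := by
    intro b c hb hc hne hbc hcb hcard
    obtain ⟨g, rfl⟩ := hc
    have e1 : g⁻¹ * (g * sg e 4 * g⁻¹) * g⁻¹⁻¹ = sg e 4 := by group
    have hz : cj g⁻¹ (ws U (g * sg e 4 * g⁻¹)) = ws U (sg e 4) := by rw [cj_ws, e1]
    have hcent : ∀ A : Subgroup G, cj g⁻¹ (centralizer (A : Set G)) = centralizer ((cj g⁻¹ A : Subgroup G) : Set G) := by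
      intro A
      ext y
      rw [mem_cj, mem_centralizer_iff, mem_centralizer_iff]
      constructor
      · rintro h1 _ ⟨a, ha, rfl⟩
        have h2 := h1 a ha
        change g⁻¹ * a * g⁻¹⁻¹ * y = y * (g⁻¹ * a * g⁻¹⁻¹)
        calc g⁻¹ * a * g⁻¹⁻¹ * y = g⁻¹ * (a * (g⁻¹⁻¹ * y * g⁻¹)) * g := by group
          _ = g⁻¹ * (g⁻¹⁻¹ * y * g⁻¹ * a) * g := by rw [h2]
          _ = _ := by group
      · intro h1 a ha
        have h2 := h1 (g⁻¹ * a * g⁻¹⁻¹) ⟨a, ha, rfl⟩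
        calc a * (g⁻¹⁻¹ * y * g⁻¹) = g * (g⁻¹ * a * g⁻¹⁻¹ * y) * g⁻¹ := by group
          _ = g * (y * (g⁻¹ * a * g⁻¹⁻¹)) * g⁻¹ := by rw [h2]
          _ = _ := by group
    refine ⟨cj g⁻¹ (ws U b), ⟨?_, ?_, ?_, ?_, ?_, ?_, ?_⟩⟩
    · rintro _ ⟨x, hx, rfl⟩
      rw [mem_CC]
      have h1 := hbc x hx
      change g⁻¹ * x * g⁻¹⁻¹ * sg e 4 = sg e 4 * (g⁻¹ * x * g⁻¹⁻¹)
      calc g⁻¹ * x * g⁻¹⁻¹ * sg e 4 = g⁻¹ * (x * (g * sg e 4 * g⁻¹)) * g := by group
        _ = g⁻¹ * (g * sg e 4 * g⁻¹ * x) * g := by rw [h1]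
        _ = _ := by group
    · rintro _ ⟨x, hx, rfl⟩ _ ⟨y, hy, rfl⟩
      rw [← map_mul, (h.ws_elem' hU hb).1 x hx y hy, map_mul]
    · rintro _ ⟨x, hx, rfl⟩
      rw [← map_mul, (h.ws_elem' hU hb).2 x hx, map_one]
    · rw [cj_ws]; exact gen_ws
    · rintro f hf _ ⟨x, hx, rfl⟩
      rw [← hz] at hf
      obtain ⟨f', hf', rfl⟩ := hf
      rw [← map_mul, ← map_inv, ← map_mul]
      refine ⟨_, ?_, rfl⟩
      have h1 : f' ∈ centralizer ({b} : Set G) := mem_centralizer_singleton_iff.2 (hcb f' hf')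
      exact Block.conj_mem_of_normalizer (MinSimple.Geo.centralizer_le_normalizer_ws U b) h1 hx
    · unfold Comm at hne
      push Not at hne
      obtain ⟨x, hx, y, hy, hxy⟩ := hne
      refine ⟨_, ⟨x, hx, rfl⟩, (MulAut.conj g⁻¹).toMonoidHom y, ?_, ?_⟩
      · rw [← hz]; exact ⟨y, hy, rfl⟩
      · intro h1
        rw [← map_mul, ← map_mul] at h1
        exact hxy ((MulAut.conj g⁻¹).injective h1)
    · rw [← hz, ← hcent, ← hcent, ← MinSimple.Geo.cj_inf, ← MinSimple.Geo.cj_inf, MinSimple.Geo.relIndex_cj,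
        MinSimple.Geo.relIndex_cj]
      exact hcard
  obtain ⟨b, c, hb, hc, hne, h1, h2⟩ := h.exists_crit_pair hU
  rcases le_total ((ws U c ⊓ centralizer (ws U b : Set G)).relIndex (ws U c))
    ((ws U b ⊓ centralizer (ws U c : Set G)).relIndex (ws U b)) with h3 | h3
  · exact key b c hb hc hne h1 h2 h3
  · exact key c b hc hb (fun h4 => hne fun x hx y hy => (h4 y hy x hx).symm) h2 h1 h3

end Sit0

end Cfsg.Agent.OddCyclic.Om5
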