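import Cfsg.Agent.OddCyclic.Om5One
import Cfsg.Agent.OddCyclic.T1Socle
import Cfsg.Agent.OddCyclic.CompBasic
import Cfsg.Agent.OddCyclic.CompJOneTools

/-!
# (Omega5): an element of order 3 of `M` acts nontrivially on `U`
-/

set_option autoImplicit false

namespace Cfsg.Agent.OddCyclic.Om5

open Subgroup Cfsg Cfsg.Agent.ZN
open Cfsg.Agent.OddCyclic.T1Defs (OddCyc)

universe u

theorem exists_conj_three {K : Type*} [Group K] [Finite K] (hc : OddCyc K) {x y : K} (hx : orderOf x = 3)
    (hy : orderOf y = 3) : ∃ g : K, g * y * g⁻¹ ∈ zpowers x := by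
  have : Fact (Nat.Prime 3) := ⟨Nat.prime_three⟩
  have h1 : ∀ w : K, orderOf w = 3 → ∃ P : Sylow 3 K, w ∈ (P : Subgroup K) := by
    intro w hw
    have h2 : IsPGroup 3 (zpowers w) := IsPGroup.of_card (n := 1) (by rw [Nat.card_zpowers, hw, pow_one])
    obtain ⟨P, hP⟩ := h2.exists_le_sylow
    exact ⟨P, hP (mem_zpowers w)⟩
  obtain ⟨P, hP⟩ := h1 x hx
  obtain ⟨Q, hQ⟩ := h1 y hy
  obtain ⟨g, hg⟩ := MulAction.exists_smul_eq K Q P
  refine ⟨g, ?_⟩
  have h2 : g * y * g⁻¹ ∈ (P : Subgroup K) := by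
    rw [← hg]
    exact ⟨y, hQ, rfl⟩
  refine T1Socle.mem_zpowers_of_mem hc P.isPGroup' hP h2 ?_
  rw [hx]
  have h3 : orderOf (MulAut.conj g y) = orderOf y := orderOf_injective (MulAut.conj g).toMonoidHom (MulAut.conj g).injective y
  rw [← hy, ← h3]
  rfl

variable {G : Type u} [Group G] [Finite G] {S M U : Subgroup G} {φ : M →* Equiv.Perm (Fin 5)}
  {e : Fin 5 → Fin 5 → G}

/-- some element of order 3 of `M` acts nontrivially on `U` -/
theorem exists_three (hsurj : Function.Surjective φ) (hc : OddCyc G) : ∃ x : M, orderOf x = 3 ∧ φ x ≠ 1 := by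
  have : Fact (Nat.Prime 3) := ⟨Nat.prime_three⟩
  by_contra hcon
  push Not at hcon
  have hcM : OddCyc M := CompBasic.oddCyc_subgroup hc M
  have hcK : OddCyc φ.ker := CompBasic.oddCyc_subgroup hcM φ.ker
  have h3 : 3 ∣ Nat.card M := by
    have h1 := Subgroup.card_range_dvd φ
    rw [MonoidHom.range_eq_top.2 hsurj, Subgroup.card_top, Nat.card_eq_fintype_card, Fintype.card_perm,
      Fintype.card_fin] at h1
    exact (by decide : 3 ∣ Nat.factorial 5).trans h1
  obtain ⟨w, hw⟩ := exists_prime_orderOf_dvd_card' 3 h3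
  have hwK : φ w = 1 := hcon w hw
  obtain ⟨X, hX1, hX2, hX3⟩ := CompJOneTools.exists_centralizer_complement hcM (p := 3) (by norm_num) hw
  -- squares of elements of `S₅` come from elements commuting with `w`
  have key : ∀ π : Equiv.Perm (Fin 5), ∃ m : M, φ m = π * π ∧ m * w = w * m := by
    intro π
    obtain ⟨m, rfl⟩ := hsurj π
    have h4 : φ (m * w * m⁻¹) = 1 := by rw [map_mul, map_mul, hwK, mul_one, map_inv, mul_inv_cancel]
    have ho : orderOf (m * w * m⁻¹) = 3 := by
      have h5 : orderOf (MulAut.conj m w) = orderOf w :=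
        orderOf_injective (MulAut.conj m).toMonoidHom (MulAut.conj m).injective w
      rw [← hw, ← h5]; rfl
    have hwK' : w ∈ φ.ker := hwK
    have h4' : m * w * m⁻¹ ∈ φ.ker := h4
    obtain ⟨k, hk⟩ := exists_conj_three hcK (x := ⟨w, hwK'⟩) (y := ⟨m * w * m⁻¹, h4'⟩)
      (by rw [Subgroup.orderOf_mk]; exact hw) (by rw [Subgroup.orderOf_mk]; exact ho)
    obtain ⟨n, hn⟩ := mem_zpowers_iff.1 hk
    have hn' : w ^ n = (k : M) * (m * w * m⁻¹) * (k : M)⁻¹ := congrArg Subtype.val hn
    set c : M := (k : M) * m with hcdef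
    have h6 : c * w * c⁻¹ = w ^ n := by rw [hn', hcdef]; group
    -- `w ^ n = w` or `w⁻¹`
    have h7 : w ^ (n * n) = w := by
      have hn3 : n % 3 = 0 ∨ n % 3 = 1 ∨ n % 3 = 2 := by omega
      have h3' : w ^ (3 : ℤ) = 1 := by
        have := pow_orderOf_eq_one w
        rw [hw] at this
        exact_mod_cast this
      have h8 : ∀ a b : ℤ, w ^ (3 * a + b) = w ^ b := by
        intro a b
        rw [zpow_add, zpow_mul, h3', one_zpow, one_mul]
      rcases hn3 with h9 | h9 | h9
      · exfalso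
        have h10 : w ^ n = 1 := by
          have : n = 3 * (n / 3) + 0 := by omega
          rw [this, h8, zpow_zero]
        rw [h10, mul_inv_eq_one, mul_eq_left] at h6
        rw [h6, orderOf_one] at hw
        exact absurd hw (by norm_num)
      · have : n * n = 3 * (3 * (n / 3) * (n / 3) + 2 * (n / 3)) + 1 := by
          have h10 : n = 3 * (n / 3) + 1 := by omega
          calc n * n = (3 * (n / 3) + 1) * (3 * (n / 3) + 1) := by rw [← h10]
            _ = _ := by ring
        rw [this, h8, zpow_one]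
      · have : n * n = 3 * (3 * (n / 3) * (n / 3) + 4 * (n / 3) + 1) + 1 := by
          have h10 : n = 3 * (n / 3) + 2 := by omega
          calc n * n = (3 * (n / 3) + 2) * (3 * (n / 3) + 2) := by rw [← h10]
            _ = _ := by ring
        rw [this, h8, zpow_one]
    refine ⟨c * c, ?_, ?_⟩
    · rw [hcdef, map_mul, map_mul]
      have : φ k = 1 := k.2
      rw [this, one_mul]
    · have h11 : c * c * w * (c * c)⁻¹ = w := by
        calc c * c * w * (c * c)⁻¹ = c * (c * w * c⁻¹) * c⁻¹ := by group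
          _ = (c * w * c⁻¹) ^ n := by rw [conj_zpow, h6]
          _ = w := by rw [h6, ← zpow_mul, h7]
      exact mul_inv_eq_iff_eq_mul.1 h11
  -- involutions of `A₅` come from `X`
  have key2 : ∀ π : Equiv.Perm (Fin 5), (π * π) * (π * π) = 1 → ∃ m ∈ X, φ m = π * π := by
    intro π hπ
    obtain ⟨m, hm, hmw⟩ := key π
    obtain ⟨a, b, hb, hab⟩ := Nat.exists_eq_pow_mul_and_not_dvd (orderOf_pos m).ne' 3 (by norm_num)
    have hb3 : Nat.Coprime b 3 := ((Nat.Prime.coprime_iff_not_dvd Nat.prime_three).2 hb).symm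
    have hodd : Odd (3 ^ a) := Odd.pow (by decide)
    obtain ⟨t, ht⟩ := hodd
    refine ⟨m ^ 3 ^ a, hX3 _ ((Commute.pow_left (show Commute m w from hmw) _).eq) ?_, ?_⟩
    · rw [orderOf_pow' m (by positivity), hab, Nat.gcd_eq_right (Dvd.intro _ rfl),
        Nat.mul_div_cancel_left _ (by positivity)]
      exact hb3
    · rw [map_pow, hm, ht, pow_succ, pow_mul, sq, hπ, one_pow, one_mul]
  obtain ⟨m1, hm1, hm1'⟩ := key2 (Equiv.swap 0 1 * Equiv.swap 1 2 * Equiv.swap 2 3) (by decide +kernel)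
  obtain ⟨m2, hm2, hm2'⟩ := key2 (Equiv.swap 0 1 * Equiv.swap 1 2 * Equiv.swap 2 4) (by decide +kernel)
  have h5 : orderOf (φ (m1 * m2)) = 3 := by
    rw [map_mul, hm1', hm2']
    apply orderOf_eq_prime
    · decide +kernel
    · decide +kernel
  have h6 : orderOf (φ (m1 * m2)) ∣ orderOf (m1 * m2) := orderOf_map_dvd φ _
  have h7 : orderOf (m1 * m2) ∣ Nat.card X := Subgroup.orderOf_dvd_natCard X (mul_mem hm1 hm2)
  rw [h5] at h6
  exact hX2 (h6.trans h7)

end Cfsg.Agent.OddCyclic.Om5
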