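import Cfsg.Agent.OddCyclic.Om5W
import Cfsg.Agent.OddCyclic.Om5Three

/-!
# (Omega5): the action of `C_G(z)` on `V = W / ⟨z⟩`
-/

set_option autoImplicit false
set_option linter.unusedSectionVars false

namespace Cfsg.Agent.OddCyclic.Om5

open Subgroup Cfsg Cfsg.Agent.ZN
open Cfsg.Agent.LieExceptional.CITDefs (IsSyl2)
open Cfsg.Agent.OddCyclic.T1Defs (OddCyc)

universe u

/-- The abstract data: `Λ` of order 4, `x` of order 3 without fixed points on `Λ`, the Sylow 2-subgroup `T` fixes `μ ∈ Λ`,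
`N(T)` normalises `Λ`, an element `s ∈ T` acts nontrivially on `Λ`, `V` is generated by the conjugates of `μ`. -/
structure Lam {X V : Type*} [Group X] [CommGroup V] (ρ : X →* MulAut V) (T : Sylow 2 X) (Λ : Subgroup V) (x s : X)
    (μ : V) : Prop where
  card : Nat.card Λ = 4
  ox : orderOf x = 3
  xst : ∀ v ∈ Λ, ρ x v ∈ Λ
  fpf : ∀ v ∈ Λ, ρ x v = v → v = 1
  sT : s ∈ T
  sne : ∃ v ∈ Λ, ρ s v ≠ v
  Tst : ∀ t ∈ T, ∀ v ∈ Λ, ρ t v ∈ Λ
  Nst : ∀ n, (∀ t ∈ T, n * t * n⁻¹ ∈ T) → ∀ v ∈ Λ, ρ n v ∈ Λ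
  mu_mem : μ ∈ Λ
  mu_ne : μ ≠ 1
  Tmu : ∀ t ∈ T, ρ t μ = μ
  gen : ∀ K : Subgroup V, (∀ g, ∀ v ∈ K, ρ g v ∈ K) → μ ∈ K → K = ⊤

/-- no normal 2-subgroup -/
theorem Lam.o2 {X V : Type*} [Group X] [Finite X] [CommGroup V] {ρ : X →* MulAut V} (hρ : Function.Injective ρ)
    {T : Sylow 2 X} {Λ : Subgroup V} {x s : X} {μ : V} (h : Lam ρ T Λ x s μ) (R : Subgroup X) (hR : R.Normal)
    (hR2 : IsPGroup 2 R) : R = ⊥ := by
  have : Fact (Nat.Prime 2) := ⟨Nat.prime_two⟩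
  have hRT : R ≤ T := by
    obtain ⟨P, hP⟩ := hR2.exists_le_sylow
    obtain ⟨g, hg⟩ := MulAction.exists_smul_eq X P T
    intro r hr
    have h1 : g⁻¹ * r * g⁻¹⁻¹ ∈ (P : Subgroup X) := hP (hR.conj_mem r hr g⁻¹)
    have h2 : g * (g⁻¹ * r * g⁻¹⁻¹) * g⁻¹ ∈ (T : Subgroup X) := by
      rw [← hg]
      exact ⟨_, h1, rfl⟩
    have e1 : g * (g⁻¹ * r * g⁻¹⁻¹) * g⁻¹ = r := by group
    rwa [e1] at h2
  let K : Subgroup V :=
    { carrier := {v | ∀ r ∈ R, ρ r v = v}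
      mul_mem' := fun {a b} ha hb r hr => by rw [map_mul, ha r hr, hb r hr]
      one_mem' := fun r _ => map_one _
      inv_mem' := fun {a} ha r hr => by rw [map_inv, ha r hr] }
  have hK : K = ⊤ := by
    apply h.gen
    · intro g v hv r hr
      have h1 := hv (g⁻¹ * r * g⁻¹⁻¹) (hR.conj_mem r hr g⁻¹)
      have h2 : ρ r (ρ g v) = ρ g (ρ (g⁻¹ * r * g⁻¹⁻¹) v) := by
        rw [← MulAut.mul_apply, ← MulAut.mul_apply, ← map_mul, ← map_mul]
        congr 2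
        group
      rw [h2, h1]
    · intro r hr
      exact h.Tmu r (hRT hr)
  rw [eq_bot_iff]
  intro r hr
  rw [mem_bot]
  apply hρ
  rw [map_one]
  refine MulEquiv.ext fun v => ?_
  have h1 : v ∈ K := by rw [hK]; exact mem_top v
  exact h1 r hr

theorem vec_PP : ∀ v : Fin 5 → ZMod 2, v 0 + v 1 + v 2 + v 3 + v 4 = 0 → v 4 = 0 →
    v = 0 ∨ (∃ i j, i ≠ 4 ∧ j ≠ 4 ∧ i ≠ j ∧ v = dl i + dl j) ∨ v = 1 + dl 4 := by decide +kernel

theorem dl_four_two : ∀ i j : Fin 5, i ≠ 4 → j ≠ 4 → (dl i + dl j) 4 = 0 := by decide +kernel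

variable {G : Type u} [Group G] {S M U : Subgroup G} {φ : M →* Equiv.Perm (Fin 5)} {e : Fin 5 → Fin 5 → G}

/-- the subgroup `z^⊥` of `U` -/
def PP (h : Frame M U φ e) : Subgroup G where
  carrier := {x | ∃ v : Fin 5 → ZMod 2, v 0 + v 1 + v 2 + v 3 + v 4 = 0 ∧ v 4 = 0 ∧ x = vw h v}
  mul_mem' := by
    rintro _ _ ⟨v, hv, hv4, rfl⟩ ⟨v', hv', hv4', rfl⟩
    refine ⟨v + v', ?_, ?_, (h.vw_add v v').symm⟩
    · change (v 0 + v' 0) + (v 1 + v' 1) + (v 2 + v' 2) + (v 3 + v' 3) + (v 4 + v' 4) = 0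
      calc _ = (v 0 + v 1 + v 2 + v 3 + v 4) + (v' 0 + v' 1 + v' 2 + v' 3 + v' 4) := by ring
        _ = 0 := by rw [hv, hv', add_zero]
    · change v 4 + v' 4 = 0
      rw [hv4, hv4', add_zero]
  one_mem' := ⟨0, by decide +kernel, rfl, h.vw_zero.symm⟩
  inv_mem' := by
    rintro _ ⟨v, hv, hv4, rfl⟩
    exact ⟨v, hv, hv4, h.inv_eq (h.vw_mem v)⟩

theorem PP_cases (h : Frame M U φ e) {x : G} (hx : x ∈ PP h) :
    x = 1 ∨ (∃ i j, i ≠ 4 ∧ j ≠ 4 ∧ i ≠ j ∧ x = e i j) ∨ x = sg e 4 := by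
  obtain ⟨v, hv, hv4, rfl⟩ := hx
  rcases vec_PP v hv hv4 with h1 | ⟨i, j, hi, hj, hij, h1⟩ | h1
  · left; rw [h1, h.vw_zero]
  · right; left; exact ⟨i, j, hi, hj, hij, by rw [h1, h.vw_two]⟩
  · right; right; rw [h1, h.vw_sg]

theorem e_mem_PP (h : Frame M U φ e) {i j : Fin 5} (hi : i ≠ 4) (hj : j ≠ 4) : e i j ∈ PP h :=
  ⟨dl i + dl j, dl_two i j, dl_four_two i j hi hj, (h.vw_two i j).symm⟩

theorem z_mem_PP (h : Frame M U φ e) : sg e 4 ∈ PP h :=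
  ⟨1 + dl 4, one_dl 4, by decide +kernel, (h.vw_sg 4).symm⟩

theorem perm_cycle : ∀ σ : Equiv.Perm (Fin 5), σ * σ * σ = 1 → σ ≠ 1 → σ.support.card = 3 := by decide +kernel

theorem vec_pairs : ∀ i j : Fin 5, i ≠ 4 → j ≠ 4 → i ≠ j →
    ((dl i + dl j : Fin 5 → ZMod 2) = dl 0 + dl 1 ∨ (dl i + dl j : Fin 5 → ZMod 2) = dl 0 + dl 1 + (1 + dl 4)) ∨
    ((dl i + dl j : Fin 5 → ZMod 2) = dl 0 + dl 2 ∨ (dl i + dl j : Fin 5 → ZMod 2) = dl 0 + dl 2 + (1 + dl 4)) ∨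
    ((dl i + dl j : Fin 5 → ZMod 2) = dl 1 + dl 2 ∨ (dl i + dl j : Fin 5 → ZMod 2) = dl 1 + dl 2 + (1 + dl 4)) := by
  decide +kernel

theorem Frame.pairs (h : Frame M U φ e) {i j : Fin 5} (hi : i ≠ 4) (hj : j ≠ 4) (hij : i ≠ j) :
    (e i j = e 0 1 ∨ e i j = e 0 1 * sg e 4) ∨ (e i j = e 0 2 ∨ e i j = e 0 2 * sg e 4) ∨
      (e i j = e 1 2 ∨ e i j = e 1 2 * sg e 4) := by
  rcases vec_pairs i j hi hj hij with (h1 | h1) | (h1 | h1) | (h1 | h1)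
  · left; left; rw [← h.vw_two, h1, h.vw_two]
  · left; right; rw [← h.vw_two, h1, h.vw_add, h.vw_two, h.vw_sg]
  · right; left; left; rw [← h.vw_two, h1, h.vw_two]
  · right; left; right; rw [← h.vw_two, h1, h.vw_add, h.vw_two, h.vw_sg]
  · right; right; left; rw [← h.vw_two, h1, h.vw_two]
  · right; right; right; rw [← h.vw_two, h1, h.vw_add, h.vw_two, h.vw_sg]

variable [Finite G]

namespace Sit0

theorem PP_le_U (h : Sit0 S M U φ e) : PP h.toFrame ≤ U := by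
  rintro _ ⟨v, hv, hv4, rfl⟩
  exact h.toFrame.vw_mem v

theorem PP_le_WW (h : Sit0 S M U φ e) : PP h.toFrame ≤ WW e := by
  intro x hx
  rcases PP_cases h.toFrame hx with h1 | ⟨i, j, hi, hj, _, h1⟩ | h1
  · rw [h1]; exact one_mem _
  · rw [h1]; exact h.e_mem_WW hi hj
  · rw [h1]; exact h.z_mem_WW

theorem PP_conj (h : Sit0 S M U φ e) {m : M} (hm : (m : G) ∈ CC e) {x : G} (hx : x ∈ PP h.toFrame) :
    (m : G) * x * (m : G)⁻¹ ∈ PP h.toFrame := by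
  have h4 := (h.mem_CC_iff m).1 hm
  have h5 : ∀ i, i ≠ 4 → φ m i ≠ 4 := by
    intro i hi h6
    exact hi ((φ m).injective (h6.trans h4.symm))
  rcases PP_cases h.toFrame hx with h1 | ⟨i, j, hi, hj, _, h1⟩ | h1
  · rw [h1, mul_one, mul_inv_cancel]; exact one_mem _
  · rw [h1, h.conj]
    exact e_mem_PP h.toFrame (h5 i hi) (h5 j hj)
  · rw [h1, h.toFrame.conj_sg, h4]
    exact z_mem_PP h.toFrame

theorem blk_card : (Finset.univ.filter fun π : Equiv.Perm (Fin 5) => π 4 = 4 ∧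
    ((π 0 = 0 ∧ π 1 = 1) ∨ (π 0 = 1 ∧ π 1 = 0) ∨ (π 0 = 2 ∧ π 1 = 3) ∨ (π 0 = 3 ∧ π 1 = 2))).card = 8 := by
  decide +kernel

/-- an element of `S` inducing `(0 1)` -/
theorem exists_s (h : Sit0 S M U φ e) : ∃ s : M, (s : G) ∈ S ∧ φ s = Equiv.swap 0 1 := by
  set D : Finset (Equiv.Perm (Fin 5)) := Finset.univ.filter fun π : Equiv.Perm (Fin 5) => π 4 = 4 ∧
    ((π 0 = 0 ∧ π 1 = 1) ∨ (π 0 = 1 ∧ π 1 = 0) ∨ (π 0 = 2 ∧ π 1 = 3) ∨ (π 0 = 3 ∧ π 1 = 2)) with hD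
  have h1 : (((S.subgroupOf M).map φ : Subgroup _) : Set (Equiv.Perm (Fin 5))) ⊆ (D : Set _) := by
    rintro _ ⟨s, hs, rfl⟩
    rw [SetLike.mem_coe, mem_subgroupOf] at hs
    rw [Finset.mem_coe, hD, Finset.mem_filter]
    refine ⟨Finset.mem_univ _, h.phi_fix hs, ?_⟩
    have h01 : φ s 0 ≠ φ s 1 := fun h2 => absurd ((φ s).injective h2) (by decide)
    rcases h.blk s hs with h2 | h2
    · rw [h.conj] at h2
      rcases h.toFrame.e_inj h01 h2 with h3 | h3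
      · exact Or.inl h3
      · exact Or.inr (Or.inl h3)
    · rw [h.conj] at h2
      rcases h.toFrame.e_inj h01 h2 with h3 | h3
      · exact Or.inr (Or.inr (Or.inl h3))
      · exact Or.inr (Or.inr (Or.inr h3))
  have h2 : (((S.subgroupOf M).map φ : Subgroup _) : Set (Equiv.Perm (Fin 5))) = (D : Set _) := by
    refine Set.eq_of_subset_of_ncard_le h1 ?_ (Set.toFinite _)
    rw [Set.ncard_coe_finset, hD, blk_card, ← Nat.card_coe_set_eq]
    exact Nat.le_of_dvd Nat.card_pos h.eight_dvd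
  have h3 : Equiv.swap (0 : Fin 5) 1 ∈ (((S.subgroupOf M).map φ : Subgroup _) : Set (Equiv.Perm (Fin 5))) := by
    rw [h2, Finset.mem_coe, hD, Finset.mem_filter]
    exact ⟨Finset.mem_univ _, by decide, Or.inr (Or.inl (by decide))⟩
  obtain ⟨s, hs, hsφ⟩ := h3
  exact ⟨s, mem_subgroupOf.1 hs, hsφ⟩

/-- an element of order 3 of `C ∩ M` inducing `(0 1 2)` -/
theorem exists_x (h : Sit0 S M U φ e) : ∃ x : M, orderOf x = 3 ∧ φ x = Equiv.swap 0 1 * Equiv.swap 1 2 := by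
  obtain ⟨x, hx, hx1⟩ := exists_three h.surj h.cyc
  have h3 : x * x * x = 1 := by
    have := pow_orderOf_eq_one x
    rwa [hx, pow_succ, sq] at this
  have h4 : φ x * φ x * φ x = 1 := by rw [← map_mul, ← map_mul, h3, map_one]
  have h5 : (φ x).IsThreeCycle := _root_.card_support_eq_three_iff.1 (perm_cycle _ h4 hx1)
  have h6 : (Equiv.swap (0 : Fin 5) 1 * Equiv.swap 1 2).IsThreeCycle :=
    _root_.card_support_eq_three_iff.1 (perm_cycle _ (by decide +kernel) (by decide +kernel))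
  obtain ⟨c, hc⟩ := isConj_iff.1 (Equiv.Perm.isConj_of_cycleType_eq (h5.cycleType.trans h6.cycleType.symm))
  obtain ⟨m, rfl⟩ := h.surj c
  refine ⟨m * x * m⁻¹, ?_, by rw [map_mul, map_mul, map_inv, hc]⟩
  have h7 : orderOf (MulAut.conj m x) = orderOf x :=
    orderOf_injective (MulAut.conj m).toMonoidHom (MulAut.conj m).injective x
  rw [← hx, ← h7]; rfl

end Sit0

/-- All the data on `V = W / ⟨z⟩`. -/
structure Dat (h : Sit0 S M U φ e) {V : Type u} [CommGroup V] (π : WW e →* V) (ρ : CC e →* MulAut V)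
    (T : Sylow 2 ρ.range) (Λ : Subgroup V) (x s : ρ.range) (μ : V) : Prop where
  md : MD (CC e) (WW e) (sg e 4) V π ρ
  lam : Lam ρ.range.subtype T Λ x s μ
  syl : ∀ t ∈ T, ∃ r : CC e, (r : G) ∈ S ∧ ρ.rangeRestrict r = t
  syl' : ∀ r : CC e, (r : G) ∈ S → ρ.rangeRestrict r ∈ T
  Q : ∀ q : CC e, (q : G) ∈ o2 (CC e) → ρ q = 1
  mem : ∀ v, v ∈ Λ ↔ ∃ w : WW e, (w : G) ∈ PP h.toFrame ∧ π w = v
  ex : ∃ x₀ : M, orderOf x₀ = 3 ∧ φ x₀ = Equiv.swap 0 1 * Equiv.swap 1 2 ∧ ∃ hx : (x₀ : G) ∈ CC e,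
    x = ρ.rangeRestrict ⟨x₀, hx⟩
  es : ∃ s₀ : M, (s₀ : G) ∈ S ∧ φ s₀ = Equiv.swap 0 1 ∧ ∃ hs : (s₀ : G) ∈ CC e, s = ρ.rangeRestrict ⟨s₀, hs⟩

theorem Sit0.exists_dat (h : Sit0 S M U φ e) (hQ : e 0 1 ∈ o2 (CC e)) {s₀ : M} (hs₀S : (s₀ : G) ∈ S)
    (hφs : φ s₀ = Equiv.swap 0 1) :
    ∃ (V : Type u) (_ : CommGroup V) (_ : Finite V) (π : WW e →* V) (ρ : CC e →* MulAut V)
      (T : Sylow 2 ρ.range) (Λ : Subgroup V) (x s : ρ.range) (μ : V), Dat h π ρ T Λ x s μ ∧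
      ((s₀ : G) * s₀ = 1 → s * s = 1) := by
  have : Fact (Nat.Prime 2) := ⟨Nat.prime_two⟩
  obtain ⟨V, iV, fV, π, ρ, md⟩ := h.exists_V hQ
  have hWC : WW e ≤ CC e := (h.WW_le hQ).trans (MinSimple.VModule.o2_le _)
  -- the elements
  have m01 : e 0 1 ∈ WW e := h.e_mem_WW (by decide) (by decide)
  have m02 : e 0 2 ∈ WW e := h.e_mem_WW (by decide) (by decide)
  have m12 : e 1 2 ∈ WW e := h.e_mem_WW (by decide) (by decide)
  have hne : ∀ i j : Fin 5, i ≠ j → ∀ hm : e i j ∈ WW e, π ⟨e i j, hm⟩ ≠ 1 := by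
    intro i j hij hm h1
    rcases (md.ker _).1 h1 with h2 | h2
    · exact h.ne i j hij h2
    · exact h.toFrame.e_ne_sg i j 4 h2
  set a := π ⟨e 0 1, m01⟩ with ha
  set b := π ⟨e 0 2, m02⟩ with hb
  set c := π ⟨e 1 2, m12⟩ with hc
  have hab : a * b = c := by
    rw [ha, hb, hc, ← map_mul]
    congr 1
    apply Subtype.ext
    change e 0 1 * e 0 2 = e 1 2
    rw [h.symm 0 1, h.mul]
  have ha1 : a ≠ 1 := hne 0 1 (by decide) m01
  have hb1 : b ≠ 1 := hne 0 2 (by decide) m02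
  have hc1 : c ≠ 1 := hne 1 2 (by decide) m12
  have hVinv : ∀ v : V, v⁻¹ = v := fun v => inv_eq_of_mul_eq_one_left (md.sq v)
  have hcancel : ∀ v w : V, v * w = 1 → v = w := fun v w hvw => by
    rw [← hVinv w]; exact eq_inv_of_mul_eq_one_left hvw
  have hab1 : a ≠ b := fun h1 => hc1 (by rw [← hab, h1, md.sq])
  have hac1 : a ≠ c := fun h1 => hb1 (by rw [← hab, left_eq_mul] at h1; exact h1)
  have hbc1 : b ≠ c := fun h1 => ha1 (by rw [← hab, right_eq_mul] at h1; exact h1)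
  -- `z` acts trivially
  have hz : ∀ w w' : WW e, (w' : G) = w * sg e 4 → π w' = π w := by
    intro w w' hw
    have h1 : w' = w * ⟨sg e 4, h.z_mem_WW⟩ := Subtype.ext hw
    rw [h1, map_mul, (md.ker ⟨sg e 4, h.z_mem_WW⟩).2 (Or.inr rfl), mul_one]
  -- the action of `M ∩ C`
  have hact : ∀ (m : M) (hm : (m : G) ∈ CC e) (i j : Fin 5) (h1 : e i j ∈ WW e) (h2 : e (φ m i) (φ m j) ∈ WW e),
      ρ ⟨m, hm⟩ (π ⟨e i j, h1⟩) = π ⟨e (φ m i) (φ m j), h2⟩ := by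
    intro m hm i j h1 h2
    rw [md.act ⟨m, hm⟩ ⟨e i j, h1⟩ (md.norm _ hm _ h1)]
    congr 1
    exact Subtype.ext (h.conj m i j)
  let Λ : Subgroup V := ((PP h.toFrame).subgroupOf (WW e)).map π
  have hΛ : ∀ v, v ∈ Λ ↔ ∃ w : WW e, (w : G) ∈ PP h.toFrame ∧ π w = v := fun v => by
    change v ∈ ((PP h.toFrame).subgroupOf (WW e)).map π ↔ _
    simp only [mem_map, mem_subgroupOf]
  have haΛ : a ∈ Λ := (hΛ a).2 ⟨_, e_mem_PP h.toFrame (by decide) (by decide), rfl⟩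
  have hbΛ : b ∈ Λ := (hΛ b).2 ⟨_, e_mem_PP h.toFrame (by decide) (by decide), rfl⟩
  have hcΛ : c ∈ Λ := (hΛ c).2 ⟨_, e_mem_PP h.toFrame (by decide) (by decide), rfl⟩
  have hΛc : ∀ v ∈ Λ, v = 1 ∨ v = a ∨ v = b ∨ v = c := by
    intro v hv
    obtain ⟨w, hw, rfl⟩ := (hΛ v).1 hv
    rcases PP_cases h.toFrame hw with h1 | ⟨i, j, hi, hj, hij, h1⟩ | h1
    · left; exact (md.ker w).2 (Or.inl h1)
    · right
      rcases h.toFrame.pairs hi hj hij with (h2 | h2) | (h2 | h2) | (h2 | h2)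
      · left; rw [ha]; congr 1; exact Subtype.ext (h1.trans h2)
      · left; exact hz _ _ (h1.trans h2)
      · right; left; rw [hb]; congr 1; exact Subtype.ext (h1.trans h2)
      · right; left; exact hz _ _ (h1.trans h2)
      · right; right; rw [hc]; congr 1; exact Subtype.ext (h1.trans h2)
      · right; right; exact hz _ _ (h1.trans h2)
    · left; exact (md.ker w).2 (Or.inr h1)
  have hcard : Nat.card Λ = 4 := by
    have h1 : (Λ : Set V) = {1, a, b, c} := by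
      ext v
      simp only [SetLike.mem_coe, Set.mem_insert_iff, Set.mem_singleton_iff]
      constructor
      · exact hΛc v
      · rintro (h1 | h1 | h1 | h1)
        · rw [h1]; exact one_mem _
        · rw [h1]; exact haΛ
        · rw [h1]; exact hbΛ
        · rw [h1]; exact hcΛ
    rw [← SetLike.coe_sort_coe, Nat.card_coe_set_eq, h1, Set.ncard_insert_of_notMem, Set.ncard_insert_of_notMem,
      Set.ncard_insert_of_notMem, Set.ncard_singleton]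
    · simpa using hbc1
    · simp only [Set.mem_insert_iff, Set.mem_singleton_iff, not_or]
      exact ⟨hab1, hac1⟩
    · simp only [Set.mem_insert_iff, Set.mem_singleton_iff, not_or]
      exact ⟨ha1.symm, hb1.symm, hc1.symm⟩
  have hst : ∀ (m : M) (hm : (m : G) ∈ CC e), ∀ v ∈ Λ, ρ ⟨m, hm⟩ v ∈ Λ := by
    intro m hm v hv
    obtain ⟨w, hw, rfl⟩ := (hΛ v).1 hv
    rw [md.act ⟨m, hm⟩ w (md.norm _ hm _ w.2)]
    exact (hΛ _).2 ⟨_, h.PP_conj hm hw, rfl⟩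
  -- the element of order 3
  obtain ⟨x₀, hx₀, hφx⟩ := h.exists_x
  have hxC : (x₀ : G) ∈ CC e := (h.mem_CC_iff x₀).2 (by rw [hφx]; decide)
  have hxa : ρ ⟨x₀, hxC⟩ a = c := by
    rw [ha, hact x₀ hxC 0 1 m01 (by rw [hφx]; exact h.e_mem_WW (by decide) (by decide)), hc]
    congr 1
    apply Subtype.ext
    change e (φ x₀ 0) (φ x₀ 1) = e 1 2
    rw [hφx]
    rfl
  have hxc : ρ ⟨x₀, hxC⟩ c = b := by
    rw [hc, hact x₀ hxC 1 2 m12 (by rw [hφx]; exact h.e_mem_WW (by decide) (by decide)), hb]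
    congr 1
    apply Subtype.ext
    change e (φ x₀ 1) (φ x₀ 2) = e 0 2
    rw [hφx, h.symm 0 2]
    rfl
  have hxb : ρ ⟨x₀, hxC⟩ b = a := by
    rw [hb, hact x₀ hxC 0 2 m02 (by rw [hφx]; exact h.e_mem_WW (by decide) (by decide)), ha]
    congr 1
    apply Subtype.ext
    change e (φ x₀ 0) (φ x₀ 2) = e 0 1
    rw [hφx, h.symm 0 1]
    rfl
  -- the element `s₀`
  have hsC : (s₀ : G) ∈ CC e := h.S_le_CC hs₀S
  have hsb : ρ ⟨s₀, hsC⟩ b = c := by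
    rw [hb, hact s₀ hsC 0 2 m02 (by rw [hφs]; exact h.e_mem_WW (by decide) (by decide)), hc]
    congr 1
    apply Subtype.ext
    change e (φ s₀ 0) (φ s₀ 2) = e 1 2
    rw [hφs]
    rfl
  -- the Sylow subgroup
  have hSC : IsSyl2 (CC e) S := T1Tools.isSyl2_of_le h.syl h.S_le_CC
  let T0 : Sylow 2 (CC e) := Cfsg.Agent.LieExceptional.CITBasic.IsSyl2.toSylow hSC
  have hT0 : ∀ r : CC e, r ∈ (T0 : Subgroup (CC e)) ↔ (r : G) ∈ S := fun r => mem_subgroupOf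
  let T : Sylow 2 ρ.range := T0.mapSurjective (f := ρ.rangeRestrict) ρ.rangeRestrict_surjective
  have hT : ∀ t, t ∈ T ↔ ∃ r : CC e, (r : G) ∈ S ∧ ρ.rangeRestrict r = t := by
    intro t
    have h1 : t ∈ T ↔ t ∈ (T0 : Subgroup (CC e)).map ρ.rangeRestrict := by
      rw [← Sylow.coe_mapSurjective ρ.rangeRestrict_surjective]
      rfl
    rw [h1, mem_map]
    simp only [hT0]
  have happ : ∀ (r : CC e) (v : V), ρ.range.subtype (ρ.rangeRestrict r) v = ρ r v := fun r v => rfl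
  refine ⟨V, iV, fV, π, ρ, T, Λ, ρ.rangeRestrict ⟨x₀, hxC⟩, ρ.rangeRestrict ⟨s₀, hsC⟩, a, ⟨md, ?_, fun t ht => (hT t).1 ht,
    fun r hr => (hT _).2 ⟨r, hr, rfl⟩, ?_, hΛ, ⟨x₀, hx₀, hφx, hxC, rfl⟩, ⟨s₀, hs₀S, hφs, hsC, rfl⟩⟩, ?_⟩
  · refine ⟨hcard, ?_, hst x₀ hxC, ?_, (hT _).2 ⟨⟨s₀, hsC⟩, hs₀S, rfl⟩, ⟨b, hbΛ, ?_⟩, ?_, ?_, haΛ, ha1, ?_, ?_⟩
    · apply orderOf_eq_prime
      · rw [← map_pow]
        have h1 : (⟨x₀, hxC⟩ : CC e) ^ 3 = 1 := by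
          apply Subtype.ext
          have h2 := pow_orderOf_eq_one x₀
          rw [hx₀] at h2
          have h3 := congrArg Subtype.val h2
          exact h3
        rw [h1, map_one]
      · intro h1
        apply hac1
        have h2 := happ ⟨x₀, hxC⟩ a
        rw [h1, map_one, hxa] at h2
        exact h2
    · intro v hv h1
      rw [happ] at h1
      rcases hΛc v hv with h2 | h2 | h2 | h2
      · exact h2
      · rw [h2, hxa] at h1; exact absurd h1.symm hac1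
      · rw [h2, hxb] at h1; exact absurd h1 hab1
      · rw [h2, hxc] at h1; exact absurd h1 hbc1
    · rw [happ, hsb]; exact hbc1.symm
    · intro t ht v hv
      obtain ⟨r, hr, rfl⟩ := (hT t).1 ht
      rw [happ]
      exact hst ⟨r, h.le hr⟩ r.2 v hv
    · intro n hn v hv
      obtain ⟨c₀, rfl⟩ := ρ.rangeRestrict_surjective n
      let Y : Subgroup G := ((T : Subgroup ρ.range).comap ρ.rangeRestrict).map (CC e).subtype
      have hY : ∀ (r : G) (hr : r ∈ CC e), ρ.rangeRestrict ⟨r, hr⟩ ∈ T → r ∈ Y := fun r hr h1 => ⟨⟨r, hr⟩, h1, rfl⟩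
      have h1 : S ≤ Y := fun r hr => hY r (h.S_le_CC hr) ((hT _).2 ⟨⟨r, h.S_le_CC hr⟩, hr, rfl⟩)
      have h2 : S.map (MulAut.conj (c₀ : G)).toMonoidHom ≤ Y := by
        rintro _ ⟨r, hr, rfl⟩
        have h3 := hn _ ((hT _).2 ⟨⟨r, h.S_le_CC hr⟩, hr, rfl⟩)
        rw [← map_mul, ← map_inv, ← map_mul] at h3
        exact hY _ _ h3
      obtain ⟨m, hm, hmm⟩ := Cfsg.Agent.LieExceptional.CITBasic.IsSyl2.conj (T1Tools.isSyl2_of_le h.syl h1)
        (T1Tools.isSyl2_map h.syl (c₀ : G) h2)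
      obtain ⟨m', hm', rfl⟩ := hm
      have h3 : ((m' : G)⁻¹ * c₀) ∈ normalizer (S : Set G) := by
        refine MinSimple.VModule.mem_normalizer_of_map_le ?_
        rintro _ ⟨r, hr, rfl⟩
        have h4 : (MulAut.conj (c₀ : G)).toMonoidHom r ∈ S.map (MulAut.conj (c₀ : G)).toMonoidHom := ⟨r, hr, rfl⟩
        rw [hmm] at h4
        obtain ⟨r', hr', hrr⟩ := h4
        have h5 : (m' : G) * r' * (m' : G)⁻¹ = (c₀ : G) * r * (c₀ : G)⁻¹ := hrr
        change ((m' : G)⁻¹ * c₀) * r * ((m' : G)⁻¹ * c₀)⁻¹ ∈ S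
        have h6 : ((m' : G)⁻¹ * c₀) * r * ((m' : G)⁻¹ * c₀)⁻¹ = r' := by
          calc ((m' : G)⁻¹ * c₀) * r * ((m' : G)⁻¹ * c₀)⁻¹ = (m' : G)⁻¹ * ((c₀ : G) * r * (c₀ : G)⁻¹) * m' := by group
            _ = r' := by rw [← h5]; group
        rw [h6]; exact hr'
      have h4 := h.norm_syl h3
      have h5 : ((m' : G)⁻¹ * c₀) ∈ CC e := mul_mem (inv_mem m'.2) c₀.2
      have h6 := hst ⟨_, h4⟩ h5 v hv
      obtain ⟨r, hr, hrm⟩ := (hT _).1 hm'
      have h7 := hst ⟨r, h.le hr⟩ r.2 _ h6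
      have h8 : ρ c₀ v = ρ ⟨r, r.2⟩ (ρ ⟨(m' : G)⁻¹ * c₀, h5⟩ v) := by
        have h9 : ρ (r : CC e) = ρ m' := congrArg Subtype.val hrm
        have h10 : ρ c₀ = ρ m' * ρ ⟨(m' : G)⁻¹ * c₀, h5⟩ := by
          rw [← map_mul]
          congr 1
          apply Subtype.ext
          change (c₀ : G) = m' * ((m' : G)⁻¹ * c₀)
          group
        rw [h10, ← h9]
        rfl
      rw [happ, h8]
      exact h7
    · intro t ht
      obtain ⟨r, hr, rfl⟩ := (hT t).1 ht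
      rw [happ, ha, md.act r ⟨e 0 1, m01⟩ (md.norm _ r.2 _ m01)]
      rcases h.blk r hr with h1 | h1
      · congr 1
        exact Subtype.ext h1
      · refine hz _ _ ?_
        change (r : G) * e 0 1 * (r : G)⁻¹ = e 0 1 * sg e 4
        rw [h1, h.two_three]
    · intro K hK haK
      let K' : Subgroup G := (K.comap π).map (WW e).subtype
      have h1 : WW e ≤ K' := by
        refine (closure_le _).2 ?_
        rintro _ ⟨c₀, hc₀, rfl⟩
        refine ⟨⟨c₀ * e 0 1 * c₀⁻¹, md.norm _ hc₀ _ m01⟩, ?_, rfl⟩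
        rw [SetLike.mem_coe, mem_comap, ← md.act ⟨c₀, hc₀⟩ ⟨e 0 1, m01⟩]
        exact hK (ρ.rangeRestrict ⟨c₀, hc₀⟩) _ haK
      rw [eq_top_iff]
      intro v _
      obtain ⟨w, rfl⟩ := md.surj v
      obtain ⟨w', hw', hww⟩ := h1 w.2
      have h2 : w' = w := Subtype.ext hww
      rw [← h2]; exact hw'
  · intro q hq
    refine MulEquiv.ext fun v => ?_
    obtain ⟨w, rfl⟩ := md.surj v
    rw [md.act q w (md.norm _ q.2 _ w.2)]
    change _ = π w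
    rcases h.comm_z hq w.2 with h1 | h1
    · congr 1
      exact Subtype.ext (mul_inv_eq_one.1 h1)
    · refine hz _ _ ?_
      change (q : G) * w * (q : G)⁻¹ = w * sg e 4
      rw [mul_inv_eq_iff_eq_mul] at h1
      rw [h1]
      exact (mem_CC.1 (hWC w.2)).symm
  · intro hs₀2
    rw [← map_mul]
    have h1 : (⟨s₀, hsC⟩ : CC e) * ⟨s₀, hsC⟩ = 1 := Subtype.ext hs₀2
    rw [h1, map_one]

end Cfsg.Agent.OddCyclic.Om5
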