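import Cfsg.Agent.OddCyclic.T1Defs
import Cfsg.Agent.MinSimple.Geo

/-!
# The configuration (Omega5)

`U` is a subgroup of order 16, `M = N_G(U)`, `M/C_M(U) = S₅` and `U` is the orthogonal module: the even subsets of
`{0, …, 4}`; `e i j` is the subset `{i, j}`.  `z = e 0 1 * e 2 3` is the singular vector fixed by the Sylow
2-subgroup `S`.  The centralisers of the nonsingular vectors `e i j` lie in `M`.  `M` and `C_G(z)` normalise no
common 2-subgroup.
-/

set_option autoImplicit false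

namespace Cfsg.Agent.OddCyclic.Om5

open Subgroup Cfsg Cfsg.Agent.ZN
open Cfsg.Agent.LieExceptional.CITDefs (IsSyl2)

universe u

variable {G : Type u} [Group G]

/-- `U` is the orthogonal module for `S₅ = M / C_M(U)`: the module data. -/
structure Frame (M U : Subgroup G) (φ : M →* Equiv.Perm (Fin 5)) (e : Fin 5 → Fin 5 → G) : Prop where
  norm : M = normalizer (U : Set G)
  surj : Function.Surjective φ
  ker : ∀ h : M, φ h = 1 → ∀ u ∈ U, (h : G) * u = u * h
  sq : ∀ u ∈ U, u * u = 1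
  mem : ∀ i j, e i j ∈ U
  self : ∀ i, e i i = 1
  ne : ∀ i j, i ≠ j → e i j ≠ 1
  symm : ∀ i j, e i j = e j i
  mul : ∀ i j k, e i j * e j k = e i k
  all : ∀ u ∈ U, ∃ i j k l, u = e i j * e k l
  conj : ∀ (h : M) (i j), (h : G) * e i j * (h : G)⁻¹ = e (φ h i) (φ h j)

/-- The configuration (Omega5). -/
structure Sit (S M U : Subgroup G) (φ : M →* Equiv.Perm (Fin 5)) (e : Fin 5 → Fin 5 → G) : Prop
    extends Frame M U φ e where
  syl : IsSyl2 (⊤ : Subgroup G) S
  le : S ≤ M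
  /-- the Sylow 2-subgroup induces the dihedral group with the blocks `{0, 1}`, `{2, 3}` -/
  fix : ∀ s ∈ S, s * (e 0 1 * e 2 3) = e 0 1 * e 2 3 * s
  blk : ∀ s ∈ S, s * e 0 1 * s⁻¹ = e 0 1 ∨ s * e 0 1 * s⁻¹ = e 2 3
  /-- an involution of `S` (in fact of `J(S)`) inducing a transposition -/
  inv : ∃ s : M, (s : G) ∈ S ∧ (s : G) * s = 1 ∧ φ s = Equiv.swap 0 1
  /-- the centralisers of the nonsingular vectors are in `M` -/
  cent : centralizer ({e 0 1} : Set G) ≤ M
  norm_syl : normalizer (S : Set G) ≤ M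
  /-- `⟨M, C_G(z)⟩` is not a 2-local subgroup -/
  nonlocal : ∀ R : Subgroup G, IsPGroup 2 R → M ≤ normalizer (R : Set G) →
    centralizer ({e 0 1 * e 2 3} : Set G) ≤ normalizer (R : Set G) → R = ⊥
  char2 : IsCharacteristicTwoType G
  cyc : Cfsg.Agent.OddCyclic.T1Defs.OddCyc G

/-- `Sit` without the involution: the configuration of the case (Empty), too. -/
structure Sit0 (S M U : Subgroup G) (φ : M →* Equiv.Perm (Fin 5)) (e : Fin 5 → Fin 5 → G) : Prop
    extends Frame M U φ e where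
  syl : IsSyl2 (⊤ : Subgroup G) S
  le : S ≤ M
  fix : ∀ s ∈ S, s * (e 0 1 * e 2 3) = e 0 1 * e 2 3 * s
  blk : ∀ s ∈ S, s * e 0 1 * s⁻¹ = e 0 1 ∨ s * e 0 1 * s⁻¹ = e 2 3
  cent : centralizer ({e 0 1} : Set G) ≤ M
  norm_syl : normalizer (S : Set G) ≤ M
  nonlocal : ∀ R : Subgroup G, IsPGroup 2 R → M ≤ normalizer (R : Set G) →
    centralizer ({e 0 1 * e 2 3} : Set G) ≤ normalizer (R : Set G) → R = ⊥
  char2 : IsCharacteristicTwoType G
  cyc : Cfsg.Agent.OddCyclic.T1Defs.OddCyc G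

theorem Sit.toSit0 {S M U : Subgroup G} {φ : M →* Equiv.Perm (Fin 5)} {e : Fin 5 → Fin 5 → G} (h : Sit S M U φ e) :
    Sit0 S M U φ e :=
  ⟨h.toFrame, h.syl, h.le, h.fix, h.blk, h.cent, h.norm_syl, h.nonlocal, h.char2, h.cyc⟩

end Cfsg.Agent.OddCyclic.Om5
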