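import Cfsg.Agent.OddCyclic.Om5Crit
import Cfsg.Agent.OddCyclic.FFSl2

/-!
# (Omega5), sections (6.3.1), (6.3.2): the offender
-/

set_option autoImplicit false
set_option linter.unusedSectionVars false

namespace Cfsg.Agent.OddCyclic.Om5

open Subgroup Cfsg Cfsg.Agent.ZN
open Cfsg.Agent.MinSimple.Geo (cj mem_cj conj_mem_cj cj_cj lines ws le_ws ws_le mem_lines_cj cj_ws)
open Cfsg.Agent.OddCyclic.T1Module (CS)
open Cfsg.Agent.OddCyclic.FFSl2 (stb mem_stb)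

universe u

/-- An offender `F` on `V` generated by subgroups `A` of order at least 8 such that `|A : C_A(v)| ≥ 4` for all
`v ∉ C_V(A)`. -/
structure Off {X V : Type*} [Group X] [CommGroup V] (ρ : X →* MulAut V) (F : Subgroup X) : Prop where
  comm : ∀ a ∈ F, ∀ b ∈ F, a * b = b * a
  sq : ∀ a ∈ F, a * a = 1
  ne : F ≠ ⊥
  off : (CS ρ F).index ≤ Nat.card F
  gen : ∀ K : Subgroup X, (∀ A ≤ F, 8 ≤ Nat.card A →
    (∀ v, v ∈ CS ρ A ∨ 4 * Nat.card (A ⊓ stb ρ v : Subgroup X) ≤ Nat.card A) → A ≤ K) → F ≤ K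

variable {G : Type u} [Group G] {S M U : Subgroup G} {φ : M →* Equiv.Perm (Fin 5)} {e : Fin 5 → Fin 5 → G}

theorem gen_cj {D : Subgroup G} (h : Sit0.Gen U D) (g : G) : Sit0.Gen U (cj g D) := by
  intro K hK
  have h1 : D ≤ cj g⁻¹ K := by
    apply h
    intro a ha v hv
    have h2 := hK (g * a) (fun w hw => by
      have h3 := conj_mem_cj (g := g) (ha w hw)
      have e1 : g * (a * w * a⁻¹) * g⁻¹ = g * a * w * (g * a)⁻¹ := by group
      rwa [e1] at h3) v hv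
    rw [mem_cj]
    have e1 : g⁻¹⁻¹ * (a * v * a⁻¹) * g⁻¹ = g * a * v * (g * a)⁻¹ := by group
    rw [e1]; exact h2
  rw [MinSimple.Geo.cj_le_iff]
  exact h1

/-- of three commutators with values in `⟨z⟩` one is trivial -/
theorem exists_comm_of {d z a b : G} (hz : z * z = 1) (hab : a * b = b * a)
    (hda : d * a * d⁻¹ * a⁻¹ = 1 ∨ d * a * d⁻¹ * a⁻¹ = z) (hdb : d * b * d⁻¹ * b⁻¹ = 1 ∨ d * b * d⁻¹ * b⁻¹ = z)
    (hza : a * z = z * a) : d * a = a * d ∨ d * b = b * d ∨ d * (a * b) = a * b * d := by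
  rcases hda with h1 | h1
  · left
    rw [mul_inv_eq_one, mul_inv_eq_iff_eq_mul] at h1
    exact h1
  rcases hdb with h2 | h2
  · right; left
    rw [mul_inv_eq_one, mul_inv_eq_iff_eq_mul] at h2
    exact h2
  right; right
  rw [mul_inv_eq_iff_eq_mul] at h1 h2
  have h3 : d * (a * b) * d⁻¹ = a * b := by
    calc d * (a * b) * d⁻¹ = (d * a * d⁻¹) * (d * b * d⁻¹) := by group
      _ = z * a * (z * b) := by rw [h1, h2]
      _ = z * (a * z) * b := by group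
      _ = z * z * (a * b) := by rw [hza]; group
      _ = a * b := by rw [hz, one_mul]
  exact mul_inv_eq_iff_eq_mul.1 h3

variable [Finite G]

namespace Sit0

/-- (6.3.1) for a conjugate of `U` -/
theorem gen_comm_cj (h : Sit0 S M U φ e) (g : G) {D : Subgroup G} (hD : ∀ a ∈ D, ∀ b ∈ D, a * b = b * a)
    (hgen : Gen U D) (hU : ∀ u ∈ U, ∀ d ∈ D, (g * u * g⁻¹) * d * (g * u * g⁻¹)⁻¹ ∈ D)
    (hne : ∃ d ∈ D, ∃ u ∈ U, d * (g * u * g⁻¹) ≠ g * u * g⁻¹ * d) {i j : Fin 5} (hij : i ≠ j)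
    {f : G} (hf : f ∈ D) (hfe : f * (g * e i j * g⁻¹) = g * e i j * g⁻¹ * f) :
    ∀ u ∈ U, f * (g * u * g⁻¹) = g * u * g⁻¹ * f := by
  have hmem : ∀ {x : G}, x ∈ cj g⁻¹ D → g * x * g⁻¹ ∈ D := by
    rintro _ ⟨x, hx, rfl⟩
    have e1 : g * ((MulAut.conj g⁻¹).toMonoidHom x) * g⁻¹ = x := by
      change g * (g⁻¹ * x * g⁻¹⁻¹) * g⁻¹ = x
      group
    rwa [e1]
  have hmem' : ∀ {x : G}, x ∈ D → g⁻¹ * x * g ∈ cj g⁻¹ D := by
    intro x hx
    have h1 := conj_mem_cj (g := g⁻¹) hx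
    rwa [inv_inv] at h1
  have h1 := h.gen_comm (D := cj g⁻¹ D) (i := i) (j := j) (f := g⁻¹ * f * g) ?_ (gen_cj hgen g⁻¹) ?_ ?_ hij (hmem' hf) ?_
  · intro u hu
    have h2 := h1 u hu
    calc f * (g * u * g⁻¹) = g * (g⁻¹ * f * g * u) * g⁻¹ := by group
      _ = g * (u * (g⁻¹ * f * g)) * g⁻¹ := by rw [h2]
      _ = _ := by group
  · intro a ha b hb
    have h2 := hD _ (hmem ha) _ (hmem hb)
    calc a * b = g⁻¹ * ((g * a * g⁻¹) * (g * b * g⁻¹)) * g := by group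
      _ = g⁻¹ * ((g * b * g⁻¹) * (g * a * g⁻¹)) * g := by rw [h2]
      _ = b * a := by group
  · intro u hu d hd
    have h2 := hmem' (hU u hu _ (hmem hd))
    have e1 : g⁻¹ * ((g * u * g⁻¹) * (g * d * g⁻¹) * (g * u * g⁻¹)⁻¹) * g = u * d * u⁻¹ := by group
    rwa [e1] at h2
  · obtain ⟨d, hd, u, hu, hdu⟩ := hne
    refine ⟨_, hmem' hd, u, hu, fun h2 => hdu ?_⟩
    calc d * (g * u * g⁻¹) = g * (g⁻¹ * d * g * u) * g⁻¹ := by group
      _ = g * (u * (g⁻¹ * d * g)) * g⁻¹ := by rw [h2]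
      _ = _ := by group
  · calc g⁻¹ * f * g * e i j = g⁻¹ * (f * (g * e i j * g⁻¹)) * g := by group
      _ = g⁻¹ * (g * e i j * g⁻¹ * f) * g := by rw [hfe]
      _ = _ := by group

end Sit0

namespace Crit

variable {D : Subgroup G}

theorem z_comm (C : Crit U e D) {d : G} (hd : d ∈ D) : d * sg e 4 = sg e 4 * d := Sit0.mem_CC.1 (C.le hd)

/-- `w ∈ ⟨U^C⟩` commuting with a nonsingular vector of `U^g ≤ D` -/
theorem cent_of (C : Crit U e D) (h : Sit0 S M U φ e) (hU : U ≤ o2 (CC e)) {g : G} (hg : ∀ v ∈ U, g * v * g⁻¹ ∈ D)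
    {w : G} (hw : w ∈ ws U (sg e 4)) {i j : Fin 5} (hij : i ≠ j) (hc : w * (g * e i j * g⁻¹) = g * e i j * g⁻¹ * w) :
    ∀ u ∈ U, w * (g * u * g⁻¹) = g * u * g⁻¹ * w := by
  by_cases hne : ∃ d ∈ ws U (sg e 4), ∃ u ∈ U, d * (g * u * g⁻¹) ≠ g * u * g⁻¹ * d
  · refine h.gen_comm_cj g (h.ws_elem (h.le_M_of hU)).1 gen_ws ?_ hne hij hw hc
    intro u hu d hd
    exact Block.conj_mem_of_normalizer (MinSimple.Geo.centralizer_le_normalizer_ws U (sg e 4)) (C.le (hg u hu)) hd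
  · push Not at hne
    intro u hu
    exact hne w hw u hu

/-- `d ∈ D` commuting with a nonsingular vector of `U^c`, `c ∈ C_G(z)` -/
theorem cent_of' (C : Crit U e D) (h : Sit0 S M U φ e) {c : G} (hc : c ∈ CC e)
    {d : G} (hd : d ∈ D) {i j : Fin 5} (hij : i ≠ j) (hce : d * (c * e i j * c⁻¹) = c * e i j * c⁻¹ * d) :
    ∀ u ∈ U, d * (c * u * c⁻¹) = c * u * c⁻¹ * d := by
  by_cases hne : ∃ d ∈ D, ∃ u ∈ U, d * (c * u * c⁻¹) ≠ c * u * c⁻¹ * d
  · refine h.gen_comm_cj c C.comm C.gen ?_ hne hij hd hce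
    intro u hu d hd
    exact C.norm _ (le_ws (h.cj_mem_lines hc) (conj_mem_cj hu)) d hd
  · push Not at hne
    intro u hu
    exact hne d hd u hu

/-- (6.3.2), first part -/
theorem cent_ws (C : Crit U e D) (h : Sit0 S M U φ e) {d : G} (hd : d ∈ D)
    (hdW : ∀ w ∈ WW e, d * w * d⁻¹ * w⁻¹ = 1 ∨ d * w * d⁻¹ * w⁻¹ = sg e 4) :
    ∀ f ∈ ws U (sg e 4), d * f = f * d := by
  have h1 : ws U (sg e 4) ≤ centralizer ({d} : Set G) := by
    refine ws_le fun L hL => ?_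
    obtain ⟨c, hc, rfl⟩ := h.lines_z hL
    have key : ∀ u ∈ U, d * (c * u * c⁻¹) = c * u * c⁻¹ * d := by
      have hWm : ∀ i j : Fin 5, i ≠ 4 → j ≠ 4 → c * e i j * c⁻¹ ∈ WW e := fun i j hi hj =>
        conj_mem_WW hc (h.e_mem_WW hi hj)
      have h2 := exists_comm_of (d := d) (a := c * e 0 1 * c⁻¹) (b := c * e 1 2 * c⁻¹) h.z_sq ?_
        (hdW _ (hWm 0 1 (by decide) (by decide))) (hdW _ (hWm 1 2 (by decide) (by decide))) ?_
      · rcases h2 with h2 | h2 | h2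
        · exact C.cent_of' h hc hd (i := 0) (j := 1) (by decide) h2
        · exact C.cent_of' h hc hd (i := 1) (j := 2) (by decide) h2
        · refine C.cent_of' h hc hd (i := 0) (j := 2) (by decide) ?_
          have e1 : c * e 0 1 * c⁻¹ * (c * e 1 2 * c⁻¹) = c * e 0 2 * c⁻¹ := by
            rw [← h.mul 0 1 2]; group
          rw [e1] at h2
          exact h2
      · have h3 := h.toFrame.comm (h.mem 0 1) (h.mem 1 2)
        calc c * e 0 1 * c⁻¹ * (c * e 1 2 * c⁻¹) = c * (e 0 1 * e 1 2) * c⁻¹ := by group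
          _ = c * (e 1 2 * e 0 1) * c⁻¹ := by rw [h3]
          _ = _ := by group
      · have h3 : c * e 0 1 * c⁻¹ ∈ CC e := mul_mem (mul_mem hc (h.U_le_CC (h.mem 0 1))) (inv_mem hc)
        exact Sit0.mem_CC.1 h3
    rintro _ ⟨u, hu, rfl⟩
    rw [mem_centralizer_singleton_iff]
    exact (key u hu).symm
  intro f hf
  exact (mem_centralizer_singleton_iff.1 (h1 hf)).symm

theorem WW_le_ws (h : Sit0 S M U φ e) : WW e ≤ ws U (sg e 4) := by
  refine (closure_le _).2 ?_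
  rintro _ ⟨c, hc, rfl⟩
  exact le_ws (h.cj_mem_lines hc) (conj_mem_cj (h.mem 0 1))

/-- `w` centralises `U^g ≤ D` if it does so modulo `z` -/
theorem cent_of_mod (C : Crit U e D) (h : Sit0 S M U φ e) (hU : U ≤ o2 (CC e)) {g : G}
    (hg : ∀ v ∈ U, g * v * g⁻¹ ∈ D) {w : G} (hw : w ∈ ws U (sg e 4))
    (hwD : ∀ v ∈ U, w * (g * v * g⁻¹) * w⁻¹ * (g * v * g⁻¹)⁻¹ = 1 ∨ w * (g * v * g⁻¹) * w⁻¹ * (g * v * g⁻¹)⁻¹ = sg e 4) :
    ∀ u ∈ U, w * (g * u * g⁻¹) = g * u * g⁻¹ * w := by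
  have h2 := exists_comm_of (d := w) (a := g * e 0 1 * g⁻¹) (b := g * e 1 2 * g⁻¹) h.z_sq ?_
    (hwD _ (h.mem 0 1)) (hwD _ (h.mem 1 2)) (C.z_comm (hg _ (h.mem 0 1)))
  · rcases h2 with h2 | h2 | h2
    · exact C.cent_of h hU hg hw (i := 0) (j := 1) (by decide) h2
    · exact C.cent_of h hU hg hw (i := 1) (j := 2) (by decide) h2
    · refine C.cent_of h hU hg hw (i := 0) (j := 2) (by decide) ?_
      have e1 : g * e 0 1 * g⁻¹ * (g * e 1 2 * g⁻¹) = g * e 0 2 * g⁻¹ := by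
        rw [← h.mul 0 1 2]; group
      rw [e1] at h2
      exact h2
  · exact C.comm _ (hg _ (h.mem 0 1)) _ (hg _ (h.mem 1 2))

/-- (6.3.2), second part -/
theorem cent_D (C : Crit U e D) (h : Sit0 S M U φ e) (hU : U ≤ o2 (CC e)) {w : G} (hw : w ∈ WW e)
    (hwD : ∀ d ∈ D, w * d * w⁻¹ * d⁻¹ = 1 ∨ w * d * w⁻¹ * d⁻¹ = sg e 4) : ∀ d ∈ D, w * d = d * w := by
  have h1 : D ≤ centralizer ({w} : Set G) := by
    apply C.gen
    intro g hg v hv
    rw [mem_centralizer_singleton_iff]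
    exact (C.cent_of_mod h hU hg (WW_le_ws h hw) (fun v hv => hwD _ (hg v hv)) v hv).symm
  intro d hd
  exact (mem_centralizer_singleton_iff.1 (h1 hd)).symm

end Crit

end Cfsg.Agent.OddCyclic.Om5
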