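import Cfsg.Agent.OddCyclic.Om5Kill
import Cfsg.Agent.OddCyclic.Om5Off
import Cfsg.Agent.OddCyclic.FFRed
import Cfsg.Agent.OddCyclic.RedFFDefs
import Cfsg.Agent.OddCyclic.FFOuter

/-!
# (Omega5): the offender `F`: a best offender, the case `S₃`, the bound `|A| ≤ 4` for `L ≅ SL₂(4)`
-/

set_option autoImplicit false
set_option linter.unusedSectionVars false

namespace Cfsg.Agent.OddCyclic.Om5

open Subgroup
open Cfsg.Agent.OddCyclic.T1Defs (OddCyc)
open Cfsg.Agent.OddCyclic.FFBasic Cfsg.Agent.OddCyclic.T1Module Cfsg.Agent.OddCyclic.FFRed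
open Cfsg.Agent.OddCyclic.FFSl2 (stb)

variable {X V : Type*} [Group X] [CommGroup V] {ρ : X →* MulAut V}

theorem Off.exists_bo [Finite X] [Finite V] {F : Subgroup X} (h : Off ρ F) : ∃ A ≤ F, A ≠ ⊥ ∧ BO ρ A := by
  classical
  obtain ⟨A, hA, hmax⟩ := (Set.toFinite {B : Subgroup X | B ≤ F}).exists_maximalFor
    (fun B : Subgroup X => Nat.card B * Nat.card (CS ρ B)) _ ⟨F, le_refl F⟩
  have hmax' : ∀ B ≤ F, Nat.card B * Nat.card (CS ρ B) ≤ Nat.card A * Nat.card (CS ρ A) := by
    intro B hB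
    by_contra hcon
    push Not at hcon
    have h1 : Nat.card B * Nat.card (CS ρ B) ≤ Nat.card A * Nat.card (CS ρ A) := hmax hB hcon.le
    omega
  by_cases hA1 : A = ⊥
  · refine ⟨F, le_refl F, h.ne, h.sq, fun B hB => (hmax' B hB).trans ?_⟩
    rw [hA1, CS_bot, Subgroup.card_bot, one_mul, Subgroup.card_top, ← (CS ρ F).card_mul_index, mul_comm]
    exact Nat.mul_le_mul_right _ h.off
  · exact ⟨A, hA, hA1, fun a ha => h.sq a (hA ha), fun B hB => hmax' B (hB.trans hA)⟩

/-- the stabiliser -/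
theorem card_inf_stb [Finite X] {A : Subgroup X} {v : V} {O : Set V} (hO : O.Finite) (h : ∀ a ∈ A, ρ a v ∈ O) :
    Nat.card A ≤ O.ncard * Nat.card (A ⊓ stb ρ v : Subgroup X) := by
  have h1 : (A ⊓ stb ρ v).relIndex A ≤ O.ncard := by
    rw [Subgroup.relIndex, Subgroup.index]
    have : Finite O := hO
    rw [← Nat.card_coe_set_eq]
    let f : (A ⧸ (A ⊓ stb ρ v).subgroupOf A) → O := fun q => ⟨ρ (q.out : A) v, h _ (q.out : A).2⟩
    apply Nat.card_le_card_of_injective f
    intro p q hpq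
    have h2 : ρ (p.out : A) v = ρ (q.out : A) v := congrArg Subtype.val hpq
    rw [← Quotient.out_eq' p, ← Quotient.out_eq' q, QuotientGroup.eq, mem_subgroupOf]
    refine ⟨mul_mem (A.inv_mem (p.out : A).2) (q.out : A).2, ?_⟩
    change ρ (((p.out : A) : X)⁻¹ * ((q.out : A) : X)) v = v
    rw [map_mul, MulAut.mul_apply, ← h2, ← MulAut.mul_apply, ← map_mul, inv_mul_cancel, map_one]
    rfl
  have h3 : Nat.card (A ⊓ stb ρ v : Subgroup X) * (A ⊓ stb ρ v).relIndex A = Nat.card A :=
    card_mul_relIndex inf_le_left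
  rw [← h3, mul_comm]
  exact Nat.mul_le_mul_right _ h1

/-- the elements fixing all vectors of `R` -/
def fixS (ρ : X →* MulAut V) (R : Subgroup V) : Subgroup X where
  carrier := {g | ∀ v ∈ R, ρ g v = v}
  mul_mem' := fun {a b} ha hb v hv => by rw [map_mul, MulAut.mul_apply, hb v hv, ha v hv]
  one_mem' := fun v _ => by rw [map_one]; rfl
  inv_mem' := fun {a} ha v hv => fx_inv ρ (ha v hv)

/-- the case `S₃` -/
theorem Off.false_of_s3 [Finite X] [Finite V] (hV : ∀ v : V, v * v = 1) {F A : Subgroup X} (h : Off ρ F) (hAF : A ≤ F)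
    (hA : RedFFDefs.OutS3 ρ A) : False := by
  obtain ⟨y, hy, hyn, hA2, hinv, -, hidx⟩ := hA
  have hodd : Odd (orderOf y) := by rw [hy]; decide
  set R := (cm ρ y).range with hR
  have hR4 : Nat.card R = 4 := by rw [hR, card_range_cm, hidx]
  -- all elements of exponent 2 normalise `R`
  have hst : ∀ a ∈ F, ∀ v ∈ R, ρ a v ∈ R := by
    intro a ha v hv
    rcases eq_or_inv (a := a) Nat.prime_three hy (h.sq a ha) (hyn.conj_mem y (mem_zpowers y) a) with h1 | h1
    · exact apply_mem_range ρ h1 hv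
    · exact apply_mem_range_of_inv ρ h1 hv
  have hF : F ≤ fixS ρ R := by
    apply h.gen
    intro B hB hB8 hBo
    intro b hb v hv
    rcases hBo v with h1 | h1
    · exact h1 b hb
    · exfalso
      have hv1 : v ≠ 1 := by
        rintro rfl
        have h2 : B ⊓ stb ρ 1 = B := by
          rw [inf_eq_left]
          intro b _
          exact map_one (ρ b)
        rw [h2] at h1
        omega
      have h2 : Nat.card B ≤ ((R : Set V) \ {1}).ncard * Nat.card (B ⊓ stb ρ v : Subgroup X) := by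
        apply card_inf_stb (Set.toFinite _)
        intro a ha
        refine ⟨hst a (hB ha) v hv, fun h3 => hv1 ?_⟩
        exact (ρ a).injective (h3.trans (map_one (ρ a)).symm)
      have h3 : ((R : Set V) \ {1}).ncard = 3 := by
        rw [Set.ncard_diff_singleton_of_mem (one_mem R), ← Nat.card_coe_set_eq]
        change Nat.card R - 1 = 3
        rw [hR4]
      rw [h3] at h2
      have h4 : 0 < Nat.card (B ⊓ stb ρ v : Subgroup X) := Nat.card_pos
      omega
  -- an element of `A` inverts `y`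
  have : Nontrivial A := Finite.one_lt_card_iff_nontrivial.1 (by rw [hA2]; norm_num)
  obtain ⟨⟨a, ha⟩, ha1⟩ := exists_ne (1 : A)
  have ha1' : a ≠ 1 := fun h => ha1 (Subtype.ext h)
  have h1 := hinv a ha ha1'
  have h2 : R = ⊥ := by
    rw [eq_bot_iff]
    intro v hv
    rw [mem_bot]
    apply eq_one_of_fix hV hodd hv
    have h3 : ρ a v = v := hF (hAF ha) v hv
    have h4 : ρ a (ρ y v) = ρ y v := hF (hAF ha) _ (apply_mem_range ρ rfl hv)
    have h5 : ρ a (ρ y v) = ρ y⁻¹ (ρ a v) := by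
      rw [← MulAut.mul_apply, ← MulAut.mul_apply, ← map_mul, ← map_mul, ← h1]
      congr 2
      group
    rw [h4, h3] at h5
    have h6 : v ∈ fx ρ (y * y) := by
      rw [mem_fx, map_mul, MulAut.mul_apply, h5, ← MulAut.mul_apply, ← map_mul, mul_inv_cancel, map_one]
      rfl
    exact fx_of_sq ρ hodd h6
  rw [h2, Subgroup.card_bot] at hR4
  norm_num at hR4

end Cfsg.Agent.OddCyclic.Om5
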