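import Cfsg.Agent.OddCyclic.Om5Dat
import Cfsg.Agent.OddCyclic.FFBasic
import Cfsg.Agent.OddCyclic.CompBasic

/-!
# (Omega5): the centraliser of a simple normal subgroup with a small module
-/

set_option autoImplicit false
set_option linter.unusedSectionVars false

namespace Cfsg.Agent.OddCyclic.Om5

open Subgroup
open Cfsg.Agent.OddCyclic.T1Defs (OddCyc)
open Cfsg.Agent.OddCyclic.FFBasic Cfsg.Agent.OddCyclic.T1Module

variable {X V : Type*} [Group X] [CommGroup V] {ρ : X →* MulAut V}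

/-- `y` of odd prime order acts on `C ≤ [V,y]` -/
theorem dvd_card_sub [Finite V] (hV : ∀ v : V, v * v = 1) {l : ℕ} (hl : l.Prime) (hl2 : l ≠ 2) {y : X}
    (hy : orderOf y = l) {C : Subgroup V} (hC : C ≤ (cm ρ y).range) (hst : ∀ c ∈ C, ρ y c ∈ C) :
    l ∣ Nat.card C - 1 := by
  have hodd : Odd l := hl.odd_of_ne_two hl2
  have hfin : Finite (Subgroup.zpowers y) :=
    Nat.finite_of_card_ne_zero (by rw [Nat.card_zpowers, hy]; exact hl.ne_zero)
  have hpow : ∀ n : ℕ, ∀ c ∈ C, ρ (y ^ n) c ∈ C := by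
    intro n
    induction n with
    | zero => intro c hc; rw [pow_zero, map_one]; exact hc
    | succ n ih =>
      intro c hc
      rw [pow_succ, map_mul, MulAut.mul_apply]
      exact ih _ (hst c hc)
  have hfo : IsOfFinOrder y := by
    rw [← orderOf_pos_iff, hy]; exact hl.pos
  have h := card_dvd_sub_one (K := V) (D := Subgroup.zpowers y)
    (ρ.comp (Subgroup.zpowers y).subtype) C ?_ ?_
  · rwa [Nat.card_zpowers, hy] at h
  · rintro ⟨d, hd⟩ c hc
    obtain ⟨n, rfl⟩ := (hfo.mem_powers_iff_mem_zpowers.2 hd)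
    exact hpow n c hc
  · rintro ⟨d, hd⟩ c hc hc1 hfix
    by_contra hne
    have hd1 : d ≠ 1 := fun h => hne (Subtype.ext h)
    have hod : orderOf d = l := by
      have h1 : orderOf d ∣ l := by rw [← hy]; exact orderOf_dvd_of_mem_zpowers hd
      rcases (Nat.dvd_prime hl).1 h1 with h2 | h2
      · exact absurd (orderOf_eq_one_iff.1 h2) hd1
      · exact h2
    have hyd : y ∈ Subgroup.zpowers d := by
      have h1 : Subgroup.zpowers d ≤ Subgroup.zpowers y := by rwa [Subgroup.zpowers_le]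
      have h2 : Subgroup.zpowers d = Subgroup.zpowers y :=
        Subgroup.eq_of_le_of_card_ge h1 (by rw [Nat.card_zpowers, Nat.card_zpowers, hod, hy])
      rw [h2]; exact Subgroup.mem_zpowers y
    obtain ⟨n, hn⟩ := Subgroup.mem_zpowers_iff.1 hyd
    apply hc1
    apply eq_one_of_fix hV (by rw [hy]; exact hodd) (hC hc)
    have h3 : c ∈ fx ρ d := hfix
    have h4 : c ∈ fx ρ (d ^ n) := by
      obtain ⟨m, rfl | rfl⟩ := n.eq_nat_or_neg
      · rw [zpow_natCast]; exact fx_pow ρ h3 m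
      · rw [zpow_neg, zpow_natCast]; exact fx_inv ρ (fx_pow ρ h3 m)
    rw [hn] at h4
    exact h4

/-- `y` of prime order `l` and `d` of prime order `r` commute, `|[V,y]| ≤ 2 ^ n`: either `d` centralises `[V,y]` or
`l, r ∣ 2 ^ k - 1` for some `0 < k ≤ n` -/
theorem comm_range [Finite V] (hV : ∀ v : V, v * v = 1) {l r : ℕ} (hl : l.Prime) (hl2 : l ≠ 2) (hr : r.Prime)
    (hr2 : r ≠ 2) {y d : X} (hy : orderOf y = l) (hd : orderOf d = r) (hyd : d * y = y * d) {n : ℕ}
    (hn : (fx ρ y).index ≤ 2 ^ n) :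
    (∀ v ∈ (cm ρ y).range, ρ d v = v) ∨ ∃ k, 0 < k ∧ k ≤ n ∧ l ∣ 2 ^ k - 1 ∧ r ∣ 2 ^ k - 1 := by
  set R' : Subgroup V := ((cm ρ y).range).map (cm ρ d) with hR'
  have h1 : R' ≤ (cm ρ d).range := by
    rintro _ ⟨v, -, rfl⟩
    exact ⟨v, rfl⟩
  have h2 : R' ≤ (cm ρ y).range := by
    rintro _ ⟨v, hv, rfl⟩
    rw [cm_apply]
    exact mul_mem (apply_mem_range ρ hyd hv) (inv_mem hv)
  have h3 : ∀ c ∈ R', ρ y c ∈ R' := by
    rintro _ ⟨v, hv, rfl⟩
    refine ⟨ρ y v, apply_mem_range ρ rfl hv, ?_⟩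
    rw [cm_apply, cm_apply, map_mul, map_inv, ← MulAut.mul_apply, ← MulAut.mul_apply, ← map_mul, ← map_mul, hyd]
  have h4 : ∀ c ∈ R', ρ d c ∈ R' := by
    rintro _ ⟨v, hv, rfl⟩
    refine ⟨ρ d v, apply_mem_range ρ hyd hv, ?_⟩
    rw [cm_apply, cm_apply, map_mul, map_inv]
  have h5 := dvd_card_sub hV hl hl2 hy h2 h3
  have h6 := dvd_card_sub hV hr hr2 hd h1 h4
  have : Fact (Nat.Prime 2) := ⟨Nat.prime_two⟩
  obtain ⟨k, hk⟩ := (IsPGroup.iff_card (p := 2)).1 ((isPGroup_two hV).to_subgroup R')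
  rw [hk] at h5 h6
  rcases Nat.eq_zero_or_pos k with h7 | h7
  · left
    rw [h7, pow_zero] at hk
    have h8 := Subgroup.card_eq_one.1 hk
    intro v hv
    have h9 : cm ρ d v ∈ R' := ⟨v, hv, rfl⟩
    rw [h8, mem_bot, cm_apply, mul_inv_eq_one] at h9
    exact h9
  · right
    refine ⟨k, h7, ?_, h5, h6⟩
    have h8 : Nat.card R' ≤ Nat.card (cm ρ y).range := Subgroup.card_le_of_le h2
    rw [hk, card_range_cm] at h8
    exact (Nat.pow_le_pow_iff_right (by norm_num)).1 (h8.trans hn)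

/-- an `X`-invariant subgroup `W` such that `x` centralises `V / W` is everything -/
theorem Lam.top_of {T : Sylow 2 X} {Λ : Subgroup V} [Finite V] {x s : X} {μ : V} (h : Lam ρ T Λ x s μ) {W : Subgroup V}
    (hW : ∀ g, ∀ v ∈ W, ρ g v ∈ W) (hx : ∀ v ∈ Λ, ρ x v * v⁻¹ ∈ W) : W = ⊤ := by
  apply h.gen W hW
  -- `v ↦ [x,v]` is a bijection of `Λ`
  let f : Λ → Λ := fun v => ⟨cm ρ x v, mul_mem (h.xst v v.2) (inv_mem v.2)⟩
  have hf : Function.Injective f := by
    intro v w hvw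
    have h1 : cm ρ x v = cm ρ x w := congrArg Subtype.val hvw
    have h2 : cm ρ x (v * (w : V)⁻¹) = 1 := by rw [map_mul, map_inv, h1, mul_inv_cancel]
    have h3 := h.fpf _ (mul_mem v.2 (inv_mem w.2)) (by rwa [cm_apply, mul_inv_eq_one] at h2)
    exact Subtype.ext (mul_inv_eq_one.1 h3)
  have hs : Function.Surjective f := Finite.injective_iff_surjective.1 hf
  obtain ⟨v, hv⟩ := hs ⟨μ, h.mu_mem⟩
  have h1 : cm ρ x v = μ := congrArg Subtype.val hv
  rw [← h1]
  exact hx v v.2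

/-- **Kill**: the centraliser of a simple normal subgroup `L ∋ x` with an element `y` of prime order `l` such that
`|V : C_V(y)| ≤ 2 ^ n` is trivial -/
theorem Lam.kill [Finite X] [Finite V] (hc : OddCyc X) (hV : ∀ v : V, v * v = 1) (hρ : Function.Injective ρ)
    {T : Sylow 2 X} {Λ : Subgroup V} {x s : X} {μ : V} (h : Lam ρ T Λ x s μ) {L : Subgroup X} (hL : L.Normal)
    (hs : IsSimpleGroup L) (hxL : x ∈ L) (hZ : ∀ g ∈ L, (∀ l ∈ L, l * g = g * l) → g = 1) {y : X} (hy : y ∈ L) {l : ℕ}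
    (hl : l.Prime) (hl2 : l ≠ 2) (hyl : orderOf y = l) {n : ℕ} (hn : (fx ρ y).index ≤ 2 ^ n)
    (hk : ∀ k, 0 < k → k ≤ n → l ∣ 2 ^ k - 1 → ∀ r, r.Prime → r ≠ 2 → r ∣ 2 ^ k - 1 → r ∣ Nat.card L) :
    centralizer (L : Set X) = ⊥ := by
  have hD : (centralizer (L : Set X)).Normal := inferInstance
  set D := centralizer (L : Set X) with hDd
  -- `W`: the vectors fixed by the elements of odd prime order of `D`
  let W : Subgroup V :=
    { carrier := {v | ∀ d ∈ D, (orderOf d).Prime → orderOf d ≠ 2 → ρ d v = v}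
      mul_mem' := fun {a b} ha hb d hd h1 h2 => by rw [map_mul, ha d hd h1 h2, hb d hd h1 h2]
      one_mem' := fun d _ _ _ => map_one _
      inv_mem' := fun {a} ha d hd h1 h2 => by rw [map_inv, ha d hd h1 h2] }
  have hW : ∀ g, ∀ v ∈ W, ρ g v ∈ W := by
    intro g v hv d hd h1 h2
    have ho : orderOf (g⁻¹ * d * g⁻¹⁻¹) = orderOf d := by
      have := orderOf_injective (MulAut.conj g⁻¹).toMonoidHom (MulAut.conj g⁻¹).injective d
      exact this
    have h3 := hv (g⁻¹ * d * g⁻¹⁻¹) (hD.conj_mem d hd g⁻¹) (by rwa [ho]) (by rwa [ho])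
    have h4 : ρ d (ρ g v) = ρ g (ρ (g⁻¹ * d * g⁻¹⁻¹) v) := by
      rw [← MulAut.mul_apply, ← MulAut.mul_apply, ← map_mul, ← map_mul]
      congr 2
      group
    rw [h4, h3]
  -- `M`: the elements of `L` centralising `V / W`
  let M : Subgroup X :=
    { carrier := {g | ∀ v, ρ g v * v⁻¹ ∈ W}
      mul_mem' := fun {a b} ha hb v => by
        have e1 : ρ (a * b) v * v⁻¹ = (ρ a (ρ b v) * (ρ b v)⁻¹) * (ρ b v * v⁻¹) := by
          rw [map_mul, MulAut.mul_apply]; group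
        rw [e1]
        exact mul_mem (ha _) (hb _)
      one_mem' := fun v => by rw [map_one]; change v * v⁻¹ ∈ W; rw [mul_inv_cancel]; exact one_mem _
      inv_mem' := fun {a} ha v => by
        have h1 := inv_mem (ha (ρ a⁻¹ v))
        have e1 : ρ a (ρ a⁻¹ v) = v := by
          rw [← MulAut.mul_apply, ← map_mul, mul_inv_cancel, map_one]; rfl
        rw [e1, mul_inv, inv_inv, mul_comm] at h1
        exact h1 }
  have hMn : (M.subgroupOf L).Normal := by
    refine ⟨fun m hm g => ?_⟩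
    rw [mem_subgroupOf] at hm ⊢
    intro v
    change ρ ((g : X) * m * (g : X)⁻¹) v * v⁻¹ ∈ W
    have h1 := hW g _ (hm (ρ (g : X)⁻¹ v))
    rw [map_mul, map_inv (ρ (g : X))] at h1
    have e1 : ρ (g : X) (ρ (g : X)⁻¹ v) = v := by
      rw [← MulAut.mul_apply, ← map_mul, mul_inv_cancel, map_one]; rfl
    have e2 : ρ (g : X) (ρ m (ρ (g : X)⁻¹ v)) = ρ ((g : X) * m * (g : X)⁻¹) v := by
      rw [← MulAut.mul_apply, ← MulAut.mul_apply, ← map_mul, ← map_mul]
    rwa [e1, e2] at h1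
  have hyM : y ∈ M := by
    intro v d hd hdp hd2
    have hcomm : d * y = y * d := (mem_centralizer_iff.1 hd y hy).symm
    rcases comm_range hV hl hl2 hdp hd2 hyl rfl hcomm hn with h1 | ⟨k, h1, h2, h3, h4⟩
    · exact h1 _ ⟨v, rfl⟩
    · exfalso
      have h5 := hk k h1 h2 h3 _ hdp hd2 h4
      have h6 : d ∈ L := CompBasic.mem_of_orderOf hc hdp hd2 hL h5 rfl
      have h7 := hZ d h6 (fun l hl => mem_centralizer_iff.1 hd l hl)
      rw [h7, orderOf_one] at hdp
      exact Nat.not_prime_one hdp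
  have hy1 : y ≠ 1 := by
    rintro rfl
    rw [orderOf_one] at hyl
    rw [← hyl] at hl
    exact Nat.not_prime_one hl
  have hM : M.subgroupOf L = ⊤ := by
    rcases hs.eq_bot_or_eq_top_of_normal _ hMn with h1 | h1
    · exfalso
      have h2 : (⟨y, hy⟩ : L) ∈ M.subgroupOf L := mem_subgroupOf.2 hyM
      rw [h1, mem_bot] at h2
      exact hy1 (congrArg Subtype.val h2)
    · exact h1
  have hxM : x ∈ M := by
    have h2 : (⟨x, hxL⟩ : L) ∈ M.subgroupOf L := by rw [hM]; exact mem_top _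
    exact mem_subgroupOf.1 h2
  have hWt : W = ⊤ := h.top_of hW (fun v _ => hxM v)
  apply h.o2 hρ D hD
  rw [IsPGroup.iff_card]
  have hpr : ∀ r, r.Prime → r ∣ Nat.card D → r = 2 := by
    intro r hr hrD
    by_contra hr2
    have : Fact r.Prime := ⟨hr⟩
    obtain ⟨⟨d, hd⟩, hdo⟩ := exists_prime_orderOf_dvd_card' (G := D) r hrD
    rw [Subgroup.orderOf_mk] at hdo
    have h1 : d = 1 := by
      apply hρ
      rw [map_one]
      refine MulEquiv.ext fun v => ?_
      have h2 : v ∈ W := by rw [hWt]; exact mem_top v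
      exact h2 d hd (by rw [hdo]; exact hr) (by rw [hdo]; exact hr2)
    rw [h1, orderOf_one] at hdo
    exact hr.ne_one hdo.symm
  exact ⟨_, Nat.eq_prime_pow_of_unique_prime_dvd (Nat.card_pos).ne' (fun {d} hd hdD => hpr d hd hdD)⟩

end Cfsg.Agent.OddCyclic.Om5
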