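import Cfsg.Agent.OddCyclic.Om5Nat
import Cfsg.Agent.OddCyclic.Om5Small
import Cfsg.Agent.OddCyclic.L2Abs
import Cfsg.Agent.OddCyclic.FFLoc

/-!
# (Omega5): `L ≅ SL₂(q)`, `q ≥ 8`, with the natural module
-/

set_option autoImplicit false
set_option linter.unusedSectionVars false

namespace Cfsg.Agent.OddCyclic.Om5

open Subgroup Matrix
open Cfsg.Agent.OddCyclic.T1Defs (OddCyc)
open Cfsg.Agent.OddCyclic.T1Sl2
open Cfsg.Agent.LieExceptional.CITDefs (IsSyl2)
open Cfsg.Agent.OddCyclic.FFBasic Cfsg.Agent.OddCyclic.T1Module Cfsg.Agent.OddCyclic.FFRed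
open Cfsg.Agent.Lib.AutSL2 Cfsg.Agent.Lib.AutSL2Out
open Cfsg.Agent.Classification.QDW.TypeHom
open Cfsg.Agent.Lib.SL2Mat (fieldAut)

theorem isSyl2_inf {X : Type*} [Group X] [Finite X] (T : Sylow 2 X) {L : Subgroup X} (hL : L.Normal) :
    IsSyl2 L ((T : Subgroup X) ⊓ L) := by
  have : Fact (Nat.Prime 2) := ⟨Nat.prime_two⟩
  refine ⟨inf_le_right, T.isPGroup'.to_le inf_le_left, fun Y hY hY2 hTY => ?_⟩
  obtain ⟨P, hP⟩ := hY2.exists_le_sylow
  obtain ⟨g, hg⟩ := MulAction.exists_smul_eq X P T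
  symm
  apply Subgroup.eq_of_le_of_card_ge hTY
  let f : Y → ((T : Subgroup X) ⊓ L : Subgroup X) := fun y => ⟨g * y * g⁻¹, by
    refine ⟨?_, hL.conj_mem y (hY y.2) g⟩
    rw [← hg]
    exact ⟨_, hP y.2, rfl⟩⟩
  apply Nat.card_le_card_of_injective f
  intro a b hab
  have h1 : g * (a : X) * g⁻¹ = g * b * g⁻¹ := congrArg Subtype.val hab
  exact Subtype.ext (mul_left_cancel (mul_right_cancel h1))

variable {X V : Type*} [Group X] [CommGroup V] {ρ : X →* MulAut V}

section lam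

variable {T : Sylow 2 X} {Λ : Subgroup V} {x s : X} {μ : V}

theorem Lam.cases (hV : ∀ v : V, v * v = 1) (h : Lam ρ T Λ x s μ) {v : V} (hv : v ∈ Λ) (hv1 : v ≠ 1) (hvμ : v ≠ μ)
    {w : V} (hw : w ∈ Λ) : w = 1 ∨ w = μ ∨ w = v ∨ w = v * μ := by
  classical
  by_contra hcon
  push Not at hcon
  obtain ⟨h1, h2, h3, h4⟩ := hcon
  have hfin : Finite Λ := Nat.finite_of_card_ne_zero (by rw [h.card]; norm_num)
  have h5 : v * μ ∈ Λ := mul_mem hv h.mu_mem
  have h6 : v * μ ≠ 1 := fun h => hvμ (eq_of_mul_eq_one hV h)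
  have h7 : v * μ ≠ μ := fun h => hv1 (mul_eq_right.1 h)
  have h8 : v * μ ≠ v := fun h' => h.mu_ne (mul_eq_left.1 h')
  have h9 : (({1, μ, v, v * μ, w} : Finset V) : Set V) ⊆ (Λ : Set V) := by
    intro u hu
    simp only [Finset.coe_insert, Finset.coe_singleton, Set.mem_insert_iff, Set.mem_singleton_iff] at hu
    rcases hu with rfl | rfl | rfl | rfl | rfl
    · exact one_mem Λ
    · exact h.mu_mem
    · exact hv
    · exact h5
    · exact hw
  have h10 := Set.ncard_le_ncard h9 (Set.toFinite _)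
  rw [Set.ncard_coe_finset, ← Nat.card_coe_set_eq] at h10
  have h11 : Nat.card (Λ : Set V) = 4 := h.card
  rw [h11] at h10
  have h12 : ({1, μ, v, v * μ, w} : Finset V).card = 5 := by
    rw [Finset.card_insert_of_notMem, Finset.card_insert_of_notMem, Finset.card_insert_of_notMem,
      Finset.card_insert_of_notMem, Finset.card_singleton]
    · simpa using h4.symm
    · simp only [Finset.mem_insert, Finset.mem_singleton, not_or]
      exact ⟨h8.symm, h3.symm⟩
    · simp only [Finset.mem_insert, Finset.mem_singleton, not_or]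
      exact ⟨hvμ.symm, h7.symm, h2.symm⟩
    · simp only [Finset.mem_insert, Finset.mem_singleton, not_or]
      exact ⟨h.mu_ne.symm, hv1.symm, h6.symm, h1.symm⟩
  omega

/-- squares of elements of `T` centralise `Λ` -/
theorem Lam.sq (hV : ∀ v : V, v * v = 1) (h : Lam ρ T Λ x s μ) {t : X} (ht : t ∈ T) {v : V} (hv : v ∈ Λ) :
    ρ (t * t) v = v := by
  rw [map_mul, MulAut.mul_apply]
  by_cases hv1 : v = 1
  · rw [hv1, map_one, map_one]
  by_cases hvμ : v = μ
  · rw [hvμ, h.Tmu t ht, h.Tmu t ht]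
  rcases h.cases hV hv hv1 hvμ (h.Tst t ht v hv) with h1 | h1 | h1 | h1
  · exact absurd ((ρ t).injective (h1.trans (map_one (ρ t)).symm)) hv1
  · exact absurd ((ρ t).injective (h1.trans (h.Tmu t ht).symm)) hvμ
  · rw [h1, h1]
  · rw [h1, map_mul, h1, h.Tmu t ht, mul_assoc, hV, mul_one]

/-- `s` fixes only `1`, `μ` in `Λ` -/
theorem Lam.fixs (hV : ∀ v : V, v * v = 1) (h : Lam ρ T Λ x s μ) {v : V} (hv : v ∈ Λ) (hv1 : v ≠ 1)
    (hs : ρ s v = v) : v = μ := by
  by_contra hvμ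
  obtain ⟨w, hw, hsw⟩ := h.sne
  apply hsw
  have h0 := h.Tmu s h.sT
  rcases h.cases hV hv hv1 hvμ hw with rfl | rfl | rfl | rfl
  · exact map_one _
  · exact h0
  · exact hs
  · rw [map_mul, hs, h0]

end lam

theorem exists_norm_ne {F : Type*} [Field F] [Fintype F] [CharP F 2] (h8 : 8 ≤ Fintype.card F) (σ : F ≃+* F) :
    ∃ c : F, c ≠ 0 ∧ c * σ c ≠ 1 := by
  classical
  by_contra hcon
  push Not at hcon
  have h2 : (2 : F) = 0 := CharTwo.two_eq_zero
  have key : ∀ c : F, c ≠ 0 → c ≠ 1 → c * c + c + 1 = 0 := by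
    intro c hc0 hc1
    have h3 := hcon c hc0
    have h4 : c + 1 ≠ 0 := by
      intro h
      apply hc1
      linear_combination h - h2
    have h5 := hcon (c + 1) h4
    rw [map_add, map_one] at h5
    have h6 : c + σ c + 1 = 0 := by linear_combination h5 - h3
    have h7 : c * (c + σ c + 1) = 0 := by rw [h6, mul_zero]
    linear_combination h7 - h3
  -- at most four elements
  obtain ⟨a, ha⟩ : ∃ a : F, a ∉ ({0, 1} : Finset F) := by
    by_contra hc
    push Not at hc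
    have h3 : (Finset.univ : Finset F) ⊆ {0, 1} := fun a _ => hc a
    have h4 := Finset.card_le_card h3
    rw [Finset.card_univ] at h4
    have h5 : ({0, 1} : Finset F).card ≤ 2 := Finset.card_le_two
    omega
  obtain ⟨b, hb⟩ : ∃ b : F, b ∉ ({0, 1, a, a + 1} : Finset F) := by
    by_contra hc
    push Not at hc
    have h3 : (Finset.univ : Finset F) ⊆ {0, 1, a, a + 1} := fun a _ => hc a
    have h4 := Finset.card_le_card h3
    rw [Finset.card_univ] at h4
    have h5 : ({0, 1, a, a + 1} : Finset F).card ≤ 4 := Finset.card_le_four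
    omega
  simp only [Finset.mem_insert, Finset.mem_singleton, not_or] at ha hb
  have h3 := key a ha.1 ha.2
  have h4 := key b hb.1 hb.2.1
  have h5 : (a - b) * (a + b + 1) = 0 := by linear_combination h3 - h4
  rcases mul_eq_zero.1 h5 with h6 | h6
  · exact hb.2.2.1 (sub_eq_zero.1 h6).symm
  · apply hb.2.2.2
    linear_combination h6 - (a + 1) * h2

/-- a frame adapted to `T`: `x` normalises `T ∩ L`, which centralises `Λ` -/
theorem Lam.nat_frame [Finite X] [Finite V] (hc : OddCyc X) (hV : ∀ v : V, v * v = 1) (hρ : Function.Injective ρ)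
    {T : Sylow 2 X} {Λ : Subgroup V} {x s : X} {μ : V} (h : Lam ρ T Λ x s μ) {L : Subgroup X} [hL : L.Normal]
    {F : Type*} [Field F] [Fintype F] [CharP F 2] (h8 : 8 ≤ Fintype.card F) (e₀ : SpecialLinearGroup (Fin 2) F ≃* L)
    (hN : ∀ e : SpecialLinearGroup (Fin 2) F ≃* L, FFSl2.IsNat (ρ.comp (L.subtype.comp e.toMonoidHom))) :
    ∃ e : SpecialLinearGroup (Fin 2) F ≃* L, (∀ g, ((e g : L) : X) ∈ T ↔ g ∈ UI F) ∧ x ∈ L ∧
      centralizer (L : Set X) = ⊥ ∧ (∀ x' : SpecialLinearGroup (Fin 2) F, ((e x' : L) : X) = x →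
        ∀ g ∈ UI F, x' * g * x'⁻¹ ∈ UI F) ∧ ∀ g ∈ UI F, ∀ v ∈ Λ, ρ (e g : L) v = v := by
  have h4 : 4 ≤ Fintype.card F := by omega
  have hs := isSimple_of_sl2 h4 e₀
  -- frame
  obtain ⟨e', he'⟩ := L2Abs.exists_frame e₀.symm (isSyl2_inf T hL)
  set e : SpecialLinearGroup (Fin 2) F ≃* L := e'.symm with he
  have hfr : ∀ g : SpecialLinearGroup (Fin 2) F, ((e g : L) : X) ∈ T ↔ g ∈ UI F := by
    intro g
    have h1 := he' (e g)
    rw [he, e'.apply_symm_apply] at h1
    rw [he, ← h1]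
    exact ⟨fun h => ⟨h, (e'.symm g).2⟩, fun h => h.1⟩
  have hNe := hN e
  have hindex : (CS ρ L).index = Fintype.card F ^ 2 := by
    have h1 := hNe.top
    rw [FFLoc.CS_comp, ← MonoidHom.range_eq_map] at h1
    have h2 : (L.subtype.comp e.toMonoidHom).range = L := by
      ext g
      constructor
      · rintro ⟨y, rfl⟩; exact (e y).2
      · intro hg
        exact ⟨e.symm ⟨g, hg⟩, by show ((e (e.symm ⟨g, hg⟩) : L) : X) = g; rw [e.apply_symm_apply]⟩
    rwa [h2] at h1
  obtain ⟨hxL, hC⟩ := h.kill_sl2 hc hV hρ h4 e hindex.le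
  have hinj := ac_injective e hC
  -- `x` normalises `T ⊓ L`
  obtain ⟨x', hx'⟩ := e.surjective ⟨x, hxL⟩
  have hx'' : ((e x' : L) : X) = x := congrArg Subtype.val hx'
  let S : Subgroup X :=
    { carrier := {g | (∀ v ∈ Λ, ρ g v ∈ Λ) ∧ ∀ v ∈ Λ, ρ g⁻¹ v ∈ Λ}
      mul_mem' := fun {a b} ha hb => by
        refine ⟨fun v hv => ?_, fun v hv => ?_⟩
        · rw [map_mul, MulAut.mul_apply]
          exact ha.1 _ (hb.1 v hv)
        · rw [_root_.mul_inv_rev, map_mul, MulAut.mul_apply]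
          exact hb.2 _ (ha.2 v hv)
      one_mem' := by
        refine ⟨fun v hv => ?_, fun v hv => ?_⟩
        · rw [map_one]; exact hv
        · rw [inv_one, map_one]; exact hv
      inv_mem' := fun {a} ha => ⟨ha.2, by rw [inv_inv]; exact ha.1⟩ }
  have hST : ∀ t ∈ T, t ∈ S := fun t ht => ⟨h.Tst t ht, h.Tst _ (inv_mem ht)⟩
  have hSx : x ∈ S := by
    refine ⟨h.xst, ?_⟩
    have h1 : x⁻¹ = x * x := by
      rw [inv_eq_iff_mul_eq_one, ← mul_assoc, ← pow_three', ← h.ox, pow_orderOf_eq_one]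
    intro v hv
    rw [h1, map_mul, MulAut.mul_apply]
    exact h.xst _ (h.xst v hv)
  have hxN : ∀ g ∈ UI F, x' * g * x'⁻¹ ∈ UI F := by
    have h1 : ((T1Sl2.SU F : Sylow 2 (SpecialLinearGroup (Fin 2) F)) : Subgroup _) ≤
        (S.comap L.subtype).comap e.toMonoidHom := fun g hg => hST _ ((hfr g).2 hg)
    have h2 : x' ∈ (S.comap L.subtype).comap e.toMonoidHom := by
      change ((e x' : L) : X) ∈ S
      rw [hx'']; exact hSx
    rcases le_normalizer_or (T1Sl2.SU F) _ h1 with h3 | h3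
    · intro g hg
      have h5 := h3 h2
      rw [Subgroup.mem_normalizer_iff] at h5
      exact (h5 g).1 hg
    · exfalso
      -- `L` acts on `Λ`
      have h5 : ∀ g : SpecialLinearGroup (Fin 2) F, ∀ v ∈ Λ, ρ (e g : L) v ∈ Λ := by
        intro g
        have h6 : g ∈ (S.comap L.subtype).comap e.toMonoidHom := by rw [h3]; exact mem_top g
        exact h6.1
      let N := T1Sl2.UI F
      let ρ' : (⊤ : Subgroup (SpecialLinearGroup (Fin 2) F)) →* MulAut Λ :=
        res (ρ.comp (L.subtype.comp e.toMonoidHom)) ⊤ Λ (fun g _ => h5 g)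
      have hsl := isSimpleGroup_sl2 h4
      have hst : IsSimpleGroup (⊤ : Subgroup (SpecialLinearGroup (Fin 2) F)) :=
        (Subgroup.topEquiv (G := SpecialLinearGroup (Fin 2) F)).isSimpleGroup
      rcases hst.eq_bot_or_eq_top_of_normal ρ'.ker inferInstance with h6 | h6
      · have h7 : Function.Injective ρ' := (MonoidHom.ker_eq_bot_iff ρ').1 h6
        have hfin : Finite Λ := Nat.finite_of_card_ne_zero (by rw [h.card]; norm_num)
        let f : MulAut Λ → Equiv.Perm Λ := fun α => α.toEquiv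
        have hf : Function.Injective f := fun α β hαβ => MulEquiv.toEquiv_injective hαβ
        have h9 := Nat.card_le_card_of_injective (f ∘ ρ') (hf.comp h7)
        rw [Nat.card_perm, h.card, Subgroup.card_top, card_sl2] at h9
        have h10 : Nat.factorial 4 = 24 := rfl
        rw [h10] at h9
        have h11 : 8 * 7 ≤ Fintype.card F * (Fintype.card F - 1) := Nat.mul_le_mul h8 (by omega)
        have h12 : 1 ≤ Fintype.card F + 1 := by omega
        nlinarith
      · have h7 : (⟨x', mem_top x'⟩ : (⊤ : Subgroup (SpecialLinearGroup (Fin 2) F))) ∈ ρ'.ker := by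
          rw [h6]; exact mem_top _
        have h9 : ρ' ⟨x', mem_top x'⟩ ⟨μ, h.mu_mem⟩ = ⟨μ, h.mu_mem⟩ := by
          rw [MonoidHom.mem_ker] at h7
          rw [h7]; rfl
        have h10 : ρ ((e x' : L) : X) μ = μ := congrArg Subtype.val h9
        rw [hx''] at h10
        exact h.mu_ne (h.fpf μ h.mu_mem h10)
  -- `T ⊓ L` centralises `Λ`
  have hTΛ : ∀ g ∈ UI F, ∀ v ∈ Λ, ρ (e g : L) v = v := by
    have hfix : ∀ g ∈ UI F, ρ (e g : L) (ρ x μ) = ρ x μ := by
      intro g hg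
      have h1 : x'⁻¹ * g * x' ∈ UI F := by
        -- `x'⁻¹ = x' * x'`
        have h2 : x' * x' * x' = 1 := by
          apply e.injective
          apply Subtype.ext
          rw [map_mul, map_mul, map_one]
          change ((e x' : L) : X) * (e x' : L) * (e x' : L) = 1
          rw [hx'', ← pow_three', ← h.ox, pow_orderOf_eq_one]
        have h3 : x'⁻¹ = x' * x' := by
          rw [inv_eq_iff_mul_eq_one, ← mul_assoc]; exact h2
        have h5 := hxN _ (hxN g hg)
        have h6 : x'⁻¹ * g * x' = x' * (x' * g * x'⁻¹) * x'⁻¹ := by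
          calc x'⁻¹ * g * x' = x'⁻¹ * g * (x'⁻¹)⁻¹ := by group
            _ = (x' * x') * g * (x' * x')⁻¹ := by rw [h3]
            _ = x' * (x' * g * x'⁻¹) * x'⁻¹ := by group
        rw [h6]; exact h5
      have h2 := h.Tmu _ ((hfr _).2 h1)
      rw [map_mul, map_mul, map_inv] at h2
      change ρ (((e x' : L) : X)⁻¹ * (e g : L) * (e x' : L)) μ = μ at h2
      rw [hx'', map_mul, map_mul, map_inv, MulAut.mul_apply, MulAut.mul_apply] at h2
      have h3 := congrArg (ρ x) h2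
      rwa [MulAut.apply_inv_self] at h3
    intro g hg v hv
    have h1 : ρ x μ ∈ Λ := h.xst μ h.mu_mem
    have h2 : ρ x μ ≠ 1 := fun h' => h.mu_ne ((ρ x).injective (h'.trans (map_one (ρ x)).symm))
    have h3 : ρ x μ ≠ μ := fun h' => h.mu_ne (h.fpf μ h.mu_mem h')
    have hμg : ρ (e g : L) μ = μ := h.Tmu _ ((hfr g).2 hg)
    rcases h.cases hV h1 h2 h3 hv with rfl | rfl | rfl | rfl
    · exact map_one _
    · exact hμg
    · exact hfix g hg
    · rw [map_mul, hfix g hg, hμg]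
  refine ⟨e, hfr, hxL, hC, ?_, hTΛ⟩
  intro x'' hx3
  have h1 : x'' = x' := by
    apply e.injective
    apply Subtype.ext
    rw [hx3, hx'']
  rw [h1]
  exact hxN

theorem Lam.false_of_nat [Finite X] [Finite V] (hc : OddCyc X) (hV : ∀ v : V, v * v = 1) (hρ : Function.Injective ρ)
    {T : Sylow 2 X} {Λ : Subgroup V} {x s : X} {μ : V} (h : Lam ρ T Λ x s μ) (hss : s * s = 1) {L : Subgroup X} [hL : L.Normal]
    {F : Type*} [Field F] [Fintype F] [CharP F 2] (h8 : 8 ≤ Fintype.card F) (e₀ : SpecialLinearGroup (Fin 2) F ≃* L)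
    (hN : ∀ e : SpecialLinearGroup (Fin 2) F ≃* L, FFSl2.IsNat (ρ.comp (L.subtype.comp e.toMonoidHom))) : False := by
  have h4 : 4 ≤ Fintype.card F := by omega
  obtain ⟨e, hfr, hxL, hC, -, hTΛ⟩ := h.nat_frame hc hV hρ h8 e₀ hN
  have hNe := hN e
  have hinj := ac_injective e hC
  -- the type
  set θ : X →* (F ≃+* F) := typ.comp (FFOuter.ac e) with hθ
  have hform : ∀ t ∈ T, ∃ (a : F) (b : Fˣ), FFOuter.ac e t = MulAut.conj (up a * dg b) * fieldAut (θ t) := by
    intro t ht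
    apply L2Borel.exists_form_UI
    intro g hg
    rw [← hfr, FFOuter.e_ac]
    exact mul_mem (mul_mem ht ((hfr g).2 hg)) (inv_mem ht)
  have hker : ∀ t ∈ T, θ t = 1 → ∀ v ∈ Λ, ρ t v = v := by
    intro t ht h1 v hv
    obtain ⟨g, hg⟩ := (L2Model.inner_iff (FFOuter.ac e t)).1 h1
    have h2 : t = ((e g : L) : X) := by
      apply hinj
      rw [FFOuter.ac_coe, hg]
    rw [h2]
    exact hTΛ g ((hfr g).1 (by rw [← h2]; exact ht)) v hv
  have hθs1 : θ s ≠ 1 := by
    intro h1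
    obtain ⟨v, hv, hv1⟩ := h.sne
    exact hv1 (hker s h.sT h1 v hv)
  have hθs2 : θ s * θ s = 1 := by rw [← map_mul, hss, map_one]
  have : Fact (Nat.Prime 2) := ⟨Nat.prime_two⟩
  have hθT : ∀ t ∈ T, θ t = 1 ∨ θ t = θ s := by
    intro t ht
    by_contra hcon
    push Not at hcon
    obtain ⟨h1, h2⟩ := hcon
    obtain ⟨k, hk⟩ := T.isPGroup' ⟨t, ht⟩
    have hk' : t ^ 2 ^ k = 1 := congrArg Subtype.val hk
    have hk'' : (θ t) ^ 2 ^ k = 1 := by rw [← map_pow, hk', map_one]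
    obtain ⟨m, -, hm⟩ := (Nat.dvd_prime_pow Nat.prime_two).1 (orderOf_dvd_of_pow_eq_one hk'')
    have hm1 : m ≠ 0 := by
      rintro rfl
      rw [pow_zero, orderOf_eq_one_iff] at hm
      exact h1 hm
    have hm2 : m ≠ 1 := by
      rintro rfl
      apply h2
      apply L2Borel.ringAut_invol _ hθs2 h1 hθs1
      rw [← pow_two, ← pow_one 2, ← hm, pow_orderOf_eq_one]
    obtain ⟨n, rfl⟩ : ∃ n, m = n + 2 := ⟨m - 2, by omega⟩
    set u := t ^ 2 ^ n with hu
    have huT : u ∈ T := pow_mem ht _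
    have h3 : θ (u * u) = θ s := by
      have e1 : θ (u * u) = θ t ^ (2 ^ (n + 1)) := by
        rw [← pow_two, hu, ← pow_mul, map_pow, pow_succ]
      apply L2Borel.ringAut_invol _ hθs2 _ hθs1
      · rw [e1, ← pow_two, ← pow_mul, ← pow_succ, ← hm, pow_orderOf_eq_one]
      · rw [e1]
        intro h5
        have h6 := orderOf_dvd_of_pow_eq_one h5
        rw [hm] at h6
        have h7 := (Nat.pow_dvd_pow_iff_le_right (by norm_num : 1 < 2)).1 h6
        omega
    obtain ⟨v, hv, hv1⟩ := h.sne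
    apply hv1
    have h5 : θ (s * (u * u)⁻¹) = 1 := by rw [map_mul, map_inv, h3, mul_inv_cancel]
    have h6 := hker _ (mul_mem h.sT (inv_mem (mul_mem huT huT))) h5 v hv
    have h7 : ρ (u * u)⁻¹ v = v := fx_inv ρ (h.sq hV huT hv)
    rwa [map_mul, MulAut.mul_apply, h7] at h6
  -- the element `k`
  obtain ⟨c, hc0, hc1⟩ := exists_norm_ne h8 (θ s)
  have hσc : (θ s) ((θ s) c) = c := by
    have := RingEquiv.congr_fun hθs2 c
    exact this
  have hr0 : c * (θ s) c ≠ 0 := mul_ne_zero hc0 (fun h => hc0 ((θ s).injective (h.trans (map_zero _).symm)))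
  set r : Fˣ := Units.mk0 (c * (θ s) c) hr0 with hr
  have hr1 : r ≠ 1 := by
    intro h1
    apply hc1
    have := congrArg Units.val h1
    rwa [hr, Units.val_mk0, Units.val_one] at this
  have hσr : ∀ t ∈ T, fieldAut (θ t) (dg r) = dg r := by
    intro t ht
    rw [L2Borel.fieldAut_td]
    congr 1
    apply Units.ext
    rcases hθT t ht with h1 | h1
    · rw [h1]; rfl
    · rw [h1]
      change (θ s) (c * (θ s) c) = c * (θ s) c
      rw [map_mul, hσc, mul_comm]
  set k : X := ((e (dg r) : L) : X) with hk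
  have hdgUI : ∀ (b : Fˣ), ∀ g ∈ UI F, dg b * g * (dg b)⁻¹ ∈ UI F := by
    intro b g hg
    obtain ⟨a, ha⟩ : ∃ a, g = up a := ⟨_, eq_up hg⟩
    rw [ha, L2Borel.td_conj_tu]
    exact T1Sl2.up_mem _
  have hcomm : ∀ t ∈ T, ∃ u ∈ UI F, t * k * t⁻¹ = k * (e u : L) := by
    intro t ht
    obtain ⟨a, b, hab⟩ := hform t ht
    have h1 : FFOuter.ac e t (dg r) = dg r * ((dg r)⁻¹ * up a * dg r * up (-a)) := by
      rw [hab, MulAut.mul_apply, hσr t ht, MulAut.conj_apply]
      have h2 : dg b * dg r = dg r * dg b := by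
        rw [L2Borel.td_mul, L2Borel.td_mul, mul_comm]
      have h3 : (up a)⁻¹ = up (-a) := by
        rw [inv_eq_iff_mul_eq_one, up_mul, add_neg_cancel, up_zero]
      rw [_root_.mul_inv_rev, h3]
      have h5 : up a * dg b * dg r * ((dg b)⁻¹ * up (-a)) = up a * (dg b * dg r) * (dg b)⁻¹ * up (-a) := by group
      rw [h5, h2]
      group
    refine ⟨(dg r)⁻¹ * up a * dg r * up (-a), ?_, ?_⟩
    · apply mul_mem _ (T1Sl2.up_mem _)
      have h2 : (dg r)⁻¹ = dg r⁻¹ := by
        rw [← dgHom_apply, ← dgHom_apply, map_inv]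
      have h3 := hdgUI r⁻¹ (up a) (T1Sl2.up_mem a)
      rw [← h2, inv_inv] at h3
      exact h3
    · have h2 := FFOuter.e_ac e t (dg r)
      rw [h1, map_mul] at h2
      rw [hk, ← h2]; rfl
  have hkT : ∀ t ∈ T, k * t * k⁻¹ ∈ T := by
    intro t ht
    obtain ⟨u, hu, htk⟩ := hcomm t ht
    have h1 : k * t * k⁻¹ = (k * (e u : L) * k⁻¹)⁻¹ * t := by
      have h2 : t * k⁻¹ = (k * (e u : L))⁻¹ * t := by
        rw [← htk]; group
      rw [mul_assoc, h2]
      group
    rw [h1]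
    apply mul_mem _ ht
    apply inv_mem
    have h2 : k * (e u : L) * k⁻¹ = ((e (dg r * u * (dg r)⁻¹) : L) : X) := by
      rw [map_mul, map_mul, map_inv]; rfl
    rw [h2, hfr]
    exact hdgUI r u hu
  have hkμ : ρ k μ = μ := by
    apply h.fixs hV (h.Nst k hkT μ h.mu_mem)
    · intro h1
      exact h.mu_ne ((ρ k).injective (h1.trans (map_one (ρ k)).symm))
    · obtain ⟨u, hu, htk⟩ := hcomm s h.sT
      have h1 : s * k = k * (e u : L) * s := mul_inv_eq_iff_eq_mul.1 htk
      rw [← MulAut.mul_apply, ← map_mul, h1, map_mul, MulAut.mul_apply, h.Tmu s h.sT, map_mul, MulAut.mul_apply,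
        h.Tmu _ ((hfr u).2 hu)]
  have hμC : μ ∈ CS (ρ.comp (L.subtype.comp e.toMonoidHom)) ⊤ :=
    fix_of_nat h4 hV hNe (fun t => h.Tmu _ ((hfr (up t)).2 (T1Sl2.up_mem t))) hr1 hkμ
  have hμL : μ ∈ CS ρ L := by
    intro l hl
    obtain ⟨g, hg⟩ := e.surjective ⟨l, hl⟩
    have h1 := hμC g (mem_top g)
    have h2 : ((e g : L) : X) = l := congrArg Subtype.val hg
    rw [← h2]
    exact h1
  have hxμ := hμL x hxL
  exact h.mu_ne (h.fpf μ h.mu_mem hxμ)

end Cfsg.Agent.OddCyclic.Om5
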