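import Cfsg.Agent.OddCyclic.Om5Lin

/-!
# (Omega5): `L ≅ SL₂(q)`, `q ≥ 8`, with the natural module: the subgroup `Y ≥ Λ` of order `q` of `V`

`F₀ = T ∩ L`, `B = N_X(F₀)`, `Y = {v ∈ C_V(F₀) | v · v^x · v^{x²} = 1}`.
-/

set_option autoImplicit false
set_option linter.unusedSectionVars false

namespace Cfsg.Agent.OddCyclic.Om5

open Subgroup Matrix
open Cfsg.Agent.OddCyclic.T1Defs (OddCyc)
open Cfsg.Agent.OddCyclic.T1Sl2
open Cfsg.Agent.LieExceptional.CITDefs (IsSyl2)
open Cfsg.Agent.OddCyclic.FFBasic Cfsg.Agent.OddCyclic.T1Module Cfsg.Agent.OddCyclic.FFRed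
open Cfsg.Agent.Lib.AutSL2 Cfsg.Agent.Lib.AutSL2Out
open Cfsg.Agent.Classification.QDW.TypeHom
open Cfsg.Agent.Lib.SL2Mat (fieldAut)

variable {X V : Type*} [Group X] [CommGroup V]

/-- A subgroup `Y ≥ Λ` of `V` normalised by `B ≥ N_X(Λ)`, all of whose elements `≠ 1` are conjugate to `μ` under `B`;
elements of `C_X(Λ)` act on `Y` like field automorphisms. -/
structure Line (ρ : X →* MulAut V) (Λ : Subgroup V) (μ : V) (B : Subgroup X) (Y : Subgroup V) : Prop where
  stab : ∀ g, (∀ v ∈ Λ, ρ g v ∈ Λ) → g ∈ B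
  inv : ∀ g ∈ B, ∀ v ∈ Y, ρ g v ∈ Y
  le : Λ ≤ Y
  trans : ∀ v ∈ Y, v ≠ 1 → ∃ g ∈ B, v = ρ g μ
  move : ∃ g ∈ B, ∃ v ∈ Λ, ρ g v ∉ Λ
  big : ∀ g c, (∀ v ∈ Λ, ρ g v = v) → (∀ v ∈ Y, ρ g v = v ∨ ρ g v = v * c) → ∀ v ∈ Y, ρ g v = v
  two : ∀ g g', (∀ v ∈ Λ, ρ g v = v) → (∀ v ∈ Λ, ρ g' v = v) → g * g = 1 → g' * g' = 1 →
    (∀ v ∈ Y, ρ g v = v) ∨ (∀ v ∈ Y, ρ g' v = v) ∨ ∀ v ∈ Y, ρ (g * g') v = v

section nat

variable {F : Type*} [Field F] [Fintype F] [CharP F 2]

/-- the stabiliser in `SL₂(q)` of a vector of `C_V(U) - C_V(L)` is `U` -/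
theorem mem_UI_of_fix [Finite V] (h4 : 4 ≤ Fintype.card F) (hV : ∀ v : V, v * v = 1)
    {σ : SpecialLinearGroup (Fin 2) F →* MulAut V} (hN : FFSl2.IsNat σ) {μ : V} (hμ : ∀ t, σ (up t) μ = μ)
    (hμC : μ ∉ CS σ ⊤) {l : SpecialLinearGroup (Fin 2) F} (hl : σ l μ = μ) : l ∈ UI F := by
  let D : Subgroup (SpecialLinearGroup (Fin 2) F) :=
    { carrier := {g | σ g μ = μ}
      mul_mem' := fun {a b} ha hb => by
        change σ (a * b) μ = μ
        rw [map_mul, MulAut.mul_apply]
        have hb' : σ b μ = μ := hb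
        rw [hb']; exact ha
      one_mem' := by change σ 1 μ = μ; rw [map_one]; rfl
      inv_mem' := fun {a} ha => fx_inv σ ha }
  have h1 : ((T1Sl2.SU F : Sylow 2 (SpecialLinearGroup (Fin 2) F)) : Subgroup _) ≤ D := by
    intro g hg
    obtain ⟨t, rfl⟩ := mem_SU_iff.1 hg
    exact hμ t
  rcases le_normalizer_or (T1Sl2.SU F) D h1 with h2 | h2
  · have h3 := h2 hl
    have h4' : l * up 1 * l⁻¹ ∈ UI F := (Subgroup.mem_normalizer_iff.1 h3 (up 1)).1 (T1Sl2.up_mem 1)
    obtain ⟨t, b, rfl⟩ := T1Sl2.borel_decomp (L2Borel.conj_tu_mem h4')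
    by_cases hb : b = 1
    · rw [hb]
      have : dg (1 : Fˣ) = 1 := by rw [← dgHom_apply, map_one]
      rw [this, mul_one]
      exact T1Sl2.up_mem t
    · exfalso
      apply hμC
      refine fix_of_nat h4 hV hN hμ hb ?_
      have h5 : σ (up t * dg b) μ = μ := hl
      rw [map_mul, MulAut.mul_apply] at h5
      have h6 : σ (up t) (σ (dg b) μ) = σ (up t) μ := by rw [h5, hμ]
      exact (σ (up t)).injective h6
  · exfalso
    apply hμC
    intro g _
    have h3 : g ∈ D := by rw [h2]; exact mem_top g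
    exact h3

/-- the vectors of `C_V(U)` modulo `C_V(L)` -/
theorem nat_cases [Finite V] (h4 : 4 ≤ Fintype.card F) (hV : ∀ v : V, v * v = 1)
    {σ : SpecialLinearGroup (Fin 2) F →* MulAut V} (hN : FFSl2.IsNat σ) {μ : V} (hμ : ∀ t, σ (up t) μ = μ)
    (hμC : μ ∉ CS σ ⊤) {v : V} (hv : ∀ t, σ (up t) v = v) :
    v ∈ CS σ ⊤ ∨ ∃ r : Fˣ, ∃ c ∈ CS σ ⊤, v = σ (dg r) μ * c := by
  classical
  set C := CS σ ⊤ with hC
  set W := CS σ (T1Sl2.SU F : Subgroup (SpecialLinearGroup (Fin 2) F)) with hW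
  have hCW : C ≤ W := CS_anti le_top
  have hCW' : C.relIndex W = Fintype.card F := by
    have h1 := Subgroup.relIndex_mul_index hCW
    rw [hN.top, hN.index (T1Sl2.SU F), pow_two] at h1
    exact Nat.eq_of_mul_eq_mul_right (by omega) h1
  have hCst : ∀ c ∈ C, ∀ g, σ g c = c := fun c hc g => hc g (mem_top g)
  have hmemW : ∀ {w : V}, (∀ t, σ (up t) w = w) → w ∈ W := by
    intro w hw g hg
    obtain ⟨t, rfl⟩ := mem_SU_iff.1 hg
    exact hw t
  have hdW : ∀ r : Fˣ, ∀ t, σ (up t) (σ (dg r) μ) = σ (dg r) μ := by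
    intro r t
    have e1 : up t * dg r = dg r * ((dg r)⁻¹ * up t * ((dg r)⁻¹)⁻¹) := by group
    have e2 : (dg r)⁻¹ = dg r⁻¹ := by rw [← dgHom_apply, ← dgHom_apply, map_inv]
    rw [← MulAut.mul_apply, ← map_mul, e1, e2, L2Borel.td_conj_tu, map_mul, MulAut.mul_apply, hμ]
  let f : Option Fˣ → W ⧸ C.subgroupOf W := fun o =>
    match o with
    | none => 1
    | some r => QuotientGroup.mk ⟨σ (dg r) μ, hmemW (hdW r)⟩
  have hf0 : f none = 1 := rfl
  have hfs : ∀ r, f (some r) = QuotientGroup.mk ⟨σ (dg r) μ, hmemW (hdW r)⟩ := fun r => rfl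
  have hne : ∀ r, f (some r) ≠ 1 := by
    intro r h1
    rw [hfs] at h1
    have h2 := (QuotientGroup.eq_one_iff _).1 h1
    rw [mem_subgroupOf] at h2
    apply hμC
    have h3 := hCst _ h2 (dg r)⁻¹
    change σ (dg r)⁻¹ (σ (dg r) μ) = σ (dg r) μ at h3
    rw [← MulAut.mul_apply, ← map_mul, inv_mul_cancel, map_one] at h3
    have h4 : μ = σ (dg r) μ := h3
    rw [h4]; exact h2
  have hinj : Function.Injective f := by
    intro o o' h1
    cases o with
    | none =>
      cases o' with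
      | none => rfl
      | some r => exact absurd (h1.symm.trans hf0) (hne r)
    | some r =>
      cases o' with
      | none => exact absurd (h1.trans hf0) (hne r)
      | some r' =>
        congr 1
        by_contra hrr
        rw [hfs, hfs, QuotientGroup.eq, mem_subgroupOf] at h1
        have h2 : (σ (dg r) μ)⁻¹ * σ (dg r') μ ∈ C := h1
        -- apply `(dg r)⁻¹`
        set t : Fˣ := r⁻¹ * r' with ht
        have ht1 : t ≠ 1 := by
          intro h3
          apply hrr
          rw [ht, inv_mul_eq_one] at h3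
          exact h3
        have h3 : μ⁻¹ * σ (dg t) μ ∈ C := by
          have h4 := hCst _ h2 (dg r)⁻¹
          rw [map_mul, map_inv (σ (dg r)⁻¹), ← MulAut.mul_apply, ← MulAut.mul_apply, ← map_mul, ← map_mul,
            inv_mul_cancel, map_one] at h4
          have h5 : (dg r)⁻¹ * dg r' = dg t := by
            rw [← dgHom_apply, ← dgHom_apply, ← dgHom_apply, ← map_inv, ← map_mul]
          rw [h5] at h4
          have h6 : μ⁻¹ * σ (dg t) μ = (σ (dg r) μ)⁻¹ * σ (dg r') μ := h4
          rw [h6]; exact h2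
        set c := μ⁻¹ * σ (dg t) μ with hc
        have hcμ : σ (dg t) μ = μ * c := by rw [hc]; group
        have hpow : ∀ n : ℕ, σ (dg t ^ n) μ = μ * c ^ n := by
          intro n
          induction n with
          | zero => rw [pow_zero, map_one, pow_zero, mul_one]; rfl
          | succ n ih =>
            rw [pow_succ', map_mul, MulAut.mul_apply, ih, map_mul, map_pow, hCst c h3, hcμ, mul_assoc, pow_succ']
        have hodd : Odd (Fintype.card F - 1) := by
          obtain ⟨n, hn, hF⟩ := card_pow F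
          rw [hF]
          have h5 : Even (2 ^ n) := (Nat.even_pow.2 ⟨even_two, hn.ne'⟩)
          have h6 : 0 < 2 ^ n := pow_pos (by norm_num) n
          obtain ⟨k, hk⟩ := h5
          exact ⟨k - 1, by omega⟩
        have h5 := hpow (Fintype.card F - 1)
        have h6 : dg t ^ (Fintype.card F - 1) = 1 := by
          rw [← dgHom_apply, ← map_pow]
          have h7 : t ^ (Fintype.card F - 1) = 1 := by
            rw [← Fintype.card_units]; exact pow_card_eq_one
          rw [h7, map_one]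
        rw [h6, map_one] at h5
        have h7 : μ = μ * c ^ (Fintype.card F - 1) := h5
        have h8 : c ^ (Fintype.card F - 1) = c := by
          obtain ⟨k, hk⟩ := hodd
          rw [hk, pow_succ, pow_mul, pow_two, hV, one_pow, one_mul]
        rw [h8, left_eq_mul] at h7
        apply hμC
        refine fix_of_nat h4 hV hN hμ ht1 ?_
        rw [hcμ, h7, mul_one]
  have hcard : Nat.card (W ⧸ C.subgroupOf W) = Nat.card (Option Fˣ) := by
    rw [← Subgroup.index_eq_card, Nat.card_eq_fintype_card, Fintype.card_option, Fintype.card_units]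
    have h1 : (C.subgroupOf W).index = Fintype.card F := hCW'
    rw [h1]
    omega
  have hsurj : Function.Surjective f :=
    ((Nat.bijective_iff_injective_and_card f).2 ⟨hinj, hcard.symm⟩).2
  obtain ⟨o, ho⟩ := hsurj (QuotientGroup.mk ⟨v, hmemW hv⟩)
  cases o with
  | none =>
    left
    rw [hf0] at ho
    have h1 := (QuotientGroup.eq_one_iff _).1 ho.symm
    exact mem_subgroupOf.1 h1
  | some r =>
    right
    rw [hfs, QuotientGroup.eq, mem_subgroupOf] at ho
    refine ⟨r, _, ho, ?_⟩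
    change v = σ (dg r) μ * ((σ (dg r) μ)⁻¹ * v)
    group

end nat

/-- **the line** -/
theorem Lam.exists_line {ρ : X →* MulAut V} [Finite X] [Finite V] (hc : OddCyc X) (hV : ∀ v : V, v * v = 1)
    (hρ : Function.Injective ρ) {T : Sylow 2 X} {Λ : Subgroup V} {x s : X} {μ : V} (h : Lam ρ T Λ x s μ)
    {L : Subgroup X} [hL : L.Normal] {F : Type*} [Field F] [Fintype F] [CharP F 2] (h8 : 8 ≤ Fintype.card F)
    (e₀ : SpecialLinearGroup (Fin 2) F ≃* L)
    (hN : ∀ e : SpecialLinearGroup (Fin 2) F ≃* L, FFSl2.IsNat (ρ.comp (L.subtype.comp e.toMonoidHom))) :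
    ∃ (B : Subgroup X) (Y : Subgroup V), Line ρ Λ μ B Y := by
  classical
  have h4 : 4 ≤ Fintype.card F := by omega
  obtain ⟨e, hfr, hxL, hC, hxN, hTΛ⟩ := h.nat_frame hc hV hρ h8 e₀ hN
  have hNe := hN e
  set σ : SpecialLinearGroup (Fin 2) F →* MulAut V := ρ.comp (L.subtype.comp e.toMonoidHom) with hσ
  have hσa : ∀ g, σ g = ρ (e g : L) := fun g => rfl
  have hinv : ∀ v : V, v⁻¹ = v := inv_eq_self hV
  obtain ⟨x', hx'⟩ := e.surjective ⟨x, hxL⟩
  have hx'' : ((e x' : L) : X) = x := congrArg Subtype.val hx'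
  have hxN' := hxN x' hx''
  have hσx : σ x' = ρ x := by rw [hσa, hx'']
  have hμf : ∀ t, σ (up t) μ = μ := fun t => hTΛ _ (T1Sl2.up_mem t) μ h.mu_mem
  have hxμ : ρ x μ ≠ μ := fun h1 => h.mu_ne (h.fpf μ h.mu_mem h1)
  have hμC : μ ∉ CS σ ⊤ := fun h1 => hxμ (by rw [← hσx]; exact h1 x' (mem_top x'))
  have hx3 : x * x * x = 1 := by
    rw [← pow_three', ← h.ox, pow_orderOf_eq_one]
  have hx3' : x' * x' * x' = 1 := by
    apply e.injective
    apply Subtype.ext
    rw [map_mul, map_mul, map_one]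
    change ((e x' : L) : X) * (e x' : L) * (e x' : L) = 1
    rw [hx'']; exact hx3
  -- `x' = up a * dg b`
  obtain ⟨a, b, hab⟩ := T1Sl2.borel_decomp (L2Borel.conj_tu_mem (hxN' _ (T1Sl2.up_mem 1)))
  -- the fixed space of `U`
  set K : Subgroup V := CS σ (UI F) with hK
  have hKm : ∀ {v : V}, v ∈ K ↔ ∀ t, σ (up t) v = v := by
    intro v
    constructor
    · intro hv t
      exact hv _ (T1Sl2.up_mem t)
    · intro hv g hg
      rw [eq_up hg]; exact hv _
  have hdgi : ∀ r : Fˣ, (dg r)⁻¹ = dg r⁻¹ := fun r => by rw [← dgHom_apply, ← dgHom_apply, map_inv]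
  have hdgm : ∀ r t : Fˣ, dg r * dg t = dg (r * t) := fun r t => by
    rw [← dgHom_apply, ← dgHom_apply, ← dgHom_apply, map_mul]
  have hKd : ∀ (r : Fˣ) {v : V}, v ∈ K → σ (dg r) v ∈ K := by
    intro r v hv
    rw [hKm] at hv ⊢
    intro t
    have e1 : up t * dg r = dg r * ((dg r)⁻¹ * up t * ((dg r)⁻¹)⁻¹) := by group
    rw [← MulAut.mul_apply, ← map_mul, e1, hdgi, L2Borel.td_conj_tu, map_mul, MulAut.mul_apply, hv]
  have hKx : ∀ {v : V}, v ∈ K → ρ x v = σ (dg b) v := by
    intro v hv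
    rw [← hσx, hab, map_mul, MulAut.mul_apply]
    exact hKm.1 (hKd b hv) a
  have hΛK : Λ ≤ K := fun v hv => hKm.2 fun t => hTΛ _ (T1Sl2.up_mem t) v hv
  -- the homomorphism `v ↦ v · v^b · v^{b²}`
  let nm : Fˣ → V →* V := fun r =>
    { toFun := fun v => v * σ (dg r) v * σ (dg (r * r)) v
      map_one' := by rw [map_one, map_one, mul_one, mul_one]
      map_mul' := fun v w => by
        rw [map_mul, map_mul]
        generalize σ (dg r) v = v1
        generalize σ (dg r) w = w1
        generalize σ (dg (r * r)) v = v2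
        generalize σ (dg (r * r)) w = w2
        rw [mul_mul_mul_comm v w v1 w1, mul_mul_mul_comm] }
  have hnm : ∀ r v, nm r v = v * σ (dg r) v * σ (dg (r * r)) v := fun r v => rfl
  let Y : Subgroup V := K ⊓ (nm b).ker
  have hYm : ∀ {v : V}, v ∈ Y ↔ v ∈ K ∧ nm b v = 1 := fun {v} => by
    change v ∈ K ⊓ (nm b).ker ↔ _
    rw [mem_inf, MonoidHom.mem_ker]
  have hnmC : ∀ (r : Fˣ), ∀ c ∈ CS σ ⊤, nm r c = c := by
    intro r c hc
    rw [hnm, hc _ (mem_top _), hc _ (mem_top _), hV, one_mul]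
  have hnmd : ∀ (r t : Fˣ) (v : V), nm r (σ (dg t) v) = σ (dg t) (nm r v) := by
    intro r t v
    rw [hnm, hnm, map_mul, map_mul]
    congr 1
    · congr 1
      rw [← MulAut.mul_apply, ← MulAut.mul_apply, ← map_mul, ← map_mul, hdgm, hdgm, mul_comm]
    · rw [← MulAut.mul_apply, ← MulAut.mul_apply, ← map_mul, ← map_mul, hdgm, hdgm, mul_comm]
  -- `Λ ≤ Y`
  have hΛY : Λ ≤ Y := by
    intro v hv
    have hvK := hΛK hv
    rw [hYm]
    refine ⟨hvK, ?_⟩
    have h1 : σ (dg b) v = ρ x v := (hKx hvK).symm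
    have h2 : σ (dg (b * b)) v = ρ x (ρ x v) := by
      rw [← hdgm, map_mul, MulAut.mul_apply, h1]
      exact (hKx (hΛK (h.xst v hv))).symm
    rw [hnm, h1, h2]
    apply h.fpf _ (mul_mem (mul_mem hv (h.xst v hv)) (h.xst _ (h.xst v hv)))
    rw [map_mul, map_mul]
    have h3 : ρ x (ρ x (ρ x v)) = v := by
      rw [← MulAut.mul_apply, ← MulAut.mul_apply, ← map_mul, ← map_mul, hx3, map_one]; rfl
    rw [h3, mul_comm _ v, ← mul_assoc]
  -- elements of `Y`
  have hYc : ∀ v ∈ Y, v ≠ 1 → ∃ r : Fˣ, v = σ (dg r) μ := by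
    intro v hv hv1
    obtain ⟨hvK, hvn⟩ := hYm.1 hv
    rcases nat_cases h4 hV hNe hμf hμC (hKm.1 hvK) with h1 | ⟨r, c, hc, h1⟩
    · exfalso
      apply hv1
      rw [← hvn, hnmC b v h1]
    · refine ⟨r, ?_⟩
      have h2 := hvn
      rw [h1, map_mul, hnmd, (hYm.1 (hΛY h.mu_mem)).2, map_one, one_mul, hnmC b c hc] at h2
      rw [h1, h2, mul_one]
  have hYd : ∀ r : Fˣ, σ (dg r) μ ∈ Y := by
    intro r
    rw [hYm]
    refine ⟨hKd r (hΛK h.mu_mem), ?_⟩
    rw [hnmd, (hYm.1 (hΛY h.mu_mem)).2, map_one]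
  have hdinj : ∀ r t : Fˣ, σ (dg r) μ = σ (dg t) μ → r = t := by
    intro r t hrt
    by_contra hne
    apply hμC
    have h1 : t⁻¹ * r ≠ 1 := fun h2 => hne (inv_mul_eq_one.1 h2).symm
    refine fix_of_nat h4 hV hNe hμf h1 ?_
    rw [← hdgm, ← hdgi, map_mul, MulAut.mul_apply, hrt, ← MulAut.mul_apply, ← map_mul, inv_mul_cancel, map_one]
    rfl
  have hdne : ∀ r : Fˣ, σ (dg r) μ ≠ 1 := fun r h1 =>
    h.mu_ne ((σ (dg r)).injective (h1.trans (map_one (σ (dg r))).symm))
  -- `b² + b + 1 = 0`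
  have hb1 : b ≠ 1 := by
    rintro rfl
    apply hxμ
    rw [hKx (hΛK h.mu_mem)]
    have : dg (1 : Fˣ) = 1 := by rw [← dgHom_apply, map_one]
    rw [this, map_one]; rfl
  have hb3 : b * b * b = 1 := by
    apply hdinj
    have h1 : ∀ v ∈ Λ, σ (dg b) v = ρ x v := fun v hv => (hKx (hΛK hv)).symm
    rw [← hdgm, ← hdgm, map_mul, map_mul, MulAut.mul_apply, MulAut.mul_apply, h1 _ h.mu_mem,
      h1 _ (h.xst _ h.mu_mem), h1 _ (h.xst _ (h.xst _ h.mu_mem)), ← MulAut.mul_apply, ← MulAut.mul_apply, ← map_mul,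
      ← map_mul, hx3]
    have : dg (1 : Fˣ) = 1 := by rw [← dgHom_apply, map_one]
    rw [this, map_one, map_one]
  have hbF : (b : F) * b + b + 1 = 0 := by
    have h1 : (b : F) * b * b = 1 := by
      have := congrArg Units.val hb3
      rwa [Units.val_mul, Units.val_mul, Units.val_one] at this
    have h2 : ((b : F) - 1) * ((b : F) * b + b + 1) = 0 := by linear_combination h1
    rcases mul_eq_zero.1 h2 with h3 | h3
    · exfalso
      apply hb1
      apply Units.ext
      rw [Units.val_one]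
      exact sub_eq_zero.1 h3
    · exact h3
  have hb4 : ∀ c : Fˣ, c * c * c = 1 → c ≠ 1 → c = b ∨ c = b * b := by
    intro c hc3 hc1
    have h1 : (c : F) * c * c = 1 := by
      have := congrArg Units.val hc3
      rwa [Units.val_mul, Units.val_mul, Units.val_one] at this
    have h2 : ((c : F) - 1) * ((c : F) * c + c + 1) = 0 := by linear_combination h1
    rcases mul_eq_zero.1 h2 with h3 | h3
    · exfalso
      apply hc1
      apply Units.ext
      rw [Units.val_one]
      exact sub_eq_zero.1 h3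
    · have h20 : (2 : F) = 0 := CharTwo.two_eq_zero
      have h5 : ((c : F) - b) * (c - b * b) = 0 := by
        have h6 : (b : F) * b * b = 1 := by
          have := congrArg Units.val hb3
          rwa [Units.val_mul, Units.val_mul, Units.val_one] at this
        linear_combination h3 - (c : F) * hbF + h6
      rcases mul_eq_zero.1 h5 with h6 | h6
      · left; exact Units.ext (sub_eq_zero.1 h6)
      · right; exact Units.ext (by rw [Units.val_mul]; exact sub_eq_zero.1 h6)
  -- `B`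
  set F₀ : Subgroup X := (UI F).map (L.subtype.comp e.toMonoidHom) with hF₀
  have hF₀m : ∀ g, ((e g : L) : X) ∈ F₀ ↔ g ∈ UI F := by
    intro g
    constructor
    · rintro ⟨g', hg', h1⟩
      have h2 : g' = g := e.injective (Subtype.ext h1)
      rw [← h2]; exact hg'
    · intro hg
      exact ⟨g, hg, rfl⟩
  set B : Subgroup X := normalizer (F₀ : Set X) with hB
  -- the automorphism induced by an element of `B`
  set θ : X →* (F ≃+* F) := typ.comp (FFOuter.ac e) with hθ
  have hac : ∀ g ∈ B, ∀ u ∈ UI F, FFOuter.ac e g u ∈ UI F := by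
    intro g hg u hu
    rw [← hF₀m, FFOuter.e_ac]
    exact (mem_normalizer_iff.1 hg _).1 ((hF₀m u).2 hu)
  have hBK : ∀ g ∈ B, ∀ v ∈ K, ρ g v ∈ K := by
    intro g hg v hv
    rw [hKm]
    intro t
    have hg' : g⁻¹ ∈ B := inv_mem hg
    have h1 := hac _ hg' (up t) (T1Sl2.up_mem t)
    have h2 := FFOuter.e_ac e g⁻¹ (up t)
    have h3 : ρ (e (up t) : L) (ρ g v) = ρ g (ρ (g⁻¹ * (e (up t) : L) * g⁻¹⁻¹) v) := by
      rw [← MulAut.mul_apply, ← MulAut.mul_apply, ← map_mul, ← map_mul]
      congr 2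
      group
    rw [hσa, h3, ← h2]
    congr 1
    exact hv _ h1
  have hform : ∀ g ∈ B, ∀ r : Fˣ, ∀ v ∈ K, ρ g (σ (dg r) v) = σ (dg (Units.map (θ g).toMonoidHom r)) (ρ g v) := by
    intro g hg r v hv
    obtain ⟨t, c, htc⟩ := L2Borel.exists_form_UI (hac g hg)
    have h1 : ρ g (σ (dg r) v) = ρ (g * (e (dg r) : L) * g⁻¹) (ρ g v) := by
      rw [hσa, ← MulAut.mul_apply, ← MulAut.mul_apply, ← map_mul, ← map_mul]
      congr 2
      group
    have h2 := FFOuter.e_ac e g (dg r)
    rw [h1, ← h2]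
    have h3 : FFOuter.ac e g (dg r) = up t * dg (Units.map (θ g).toMonoidHom r) * up (-t) := by
      rw [htc, MulAut.mul_apply]
      have h4 : fieldAut (typ (FFOuter.ac e g)) (dg r) = dg (Units.map (θ g).toMonoidHom r) := L2Borel.fieldAut_td _ _
      rw [h4, MulAut.conj_apply]
      have h5 : (up t)⁻¹ = up (-t) := by
        rw [inv_eq_iff_mul_eq_one, up_mul, add_neg_cancel, up_zero]
      have h6 : dg c * dg (Units.map (θ g).toMonoidHom r) = dg (Units.map (θ g).toMonoidHom r) * dg c := by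
        rw [hdgm, hdgm, mul_comm]
      rw [_root_.mul_inv_rev, h5]
      calc up t * dg c * dg (Units.map (θ g).toMonoidHom r) * ((dg c)⁻¹ * up (-t))
          = up t * (dg c * dg (Units.map (θ g).toMonoidHom r)) * (dg c)⁻¹ * up (-t) := by group
        _ = _ := by rw [h6]; group
    rw [h3]
    change σ (up t * dg (Units.map (θ g).toMonoidHom r) * up (-t)) (ρ g v) = _
    have h7 := hBK g hg v hv
    rw [map_mul, map_mul, MulAut.mul_apply, MulAut.mul_apply, hKm.1 h7, hKm.1 (hKd _ h7)]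
  have hθb : ∀ g, Units.map (θ g).toMonoidHom b = b ∨ Units.map (θ g).toMonoidHom b = b * b := by
    intro g
    apply hb4
    · rw [← map_mul, ← map_mul, hb3, map_one]
    · intro h1
      apply hb1
      apply Units.ext
      have h2 := congrArg Units.val h1
      have h3 : (θ g) (b : F) = 1 := h2
      rw [Units.val_one]
      exact (θ g).injective (h3.trans (map_one (θ g)).symm)
  have hBY : ∀ g ∈ B, ∀ v ∈ Y, ρ g v ∈ Y := by
    intro g hg v hv
    obtain ⟨hvK, hvn⟩ := hYm.1 hv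
    rw [hYm]
    refine ⟨hBK g hg v hvK, ?_⟩
    have h1 : ρ g (nm b v) = nm (Units.map (θ g).toMonoidHom b) (ρ g v) := by
      rw [hnm, hnm, map_mul, map_mul, hform g hg b v hvK, hform g hg (b * b) v hvK, map_mul]
    rw [hvn, map_one] at h1
    rcases hθb g with h2 | h2
    · rw [h2] at h1; exact h1.symm
    · rw [h2, hnm] at h1
      have h3 : b * b * (b * b) = b := by
        calc b * b * (b * b) = (b * b * b) * b := by group
          _ = b := by rw [hb3, one_mul]
      rw [h3] at h1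
      rw [hnm, h1]
      exact mul_right_comm _ _ _
  have hstab : ∀ g, (∀ v ∈ Λ, ρ g v ∈ Λ) → g ∈ B := by
    intro g hg
    have hfin : Finite Λ := Nat.finite_of_card_ne_zero (by rw [h.card]; norm_num)
    have hg' : ∀ v ∈ Λ, ρ g⁻¹ v ∈ Λ := by
      intro v hv
      let f : Λ → Λ := fun w => ⟨ρ g w, hg w w.2⟩
      have hf : Function.Injective f := fun w w' hw => Subtype.ext ((ρ g).injective (congrArg Subtype.val hw))
      obtain ⟨w, hw⟩ := (Finite.injective_iff_surjective.1 hf) ⟨v, hv⟩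
      have h1 : ρ g w = v := congrArg Subtype.val hw
      rw [← h1, ← MulAut.mul_apply, ← map_mul, inv_mul_cancel, map_one]
      exact w.2
    have key : ∀ g : X, (∀ v ∈ Λ, ρ g⁻¹ v ∈ Λ) → ∀ u ∈ F₀, g * u * g⁻¹ ∈ F₀ := by
      rintro g hg _ ⟨u, hu, rfl⟩
      have h1 : g * ((e u : L) : X) * g⁻¹ ∈ L := hL.conj_mem _ (e u).2 g
      obtain ⟨l, hl⟩ := e.surjective ⟨_, h1⟩
      have hl' : ((e l : L) : X) = g * (e u : L) * g⁻¹ := congrArg Subtype.val hl
      change g * ((e u : L) : X) * g⁻¹ ∈ F₀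
      rw [← hl', hF₀m]
      apply mem_UI_of_fix h4 hV hNe hμf hμC
      rw [hσa, hl', map_mul, map_mul, MulAut.mul_apply, MulAut.mul_apply]
      have h2 := hTΛ u hu _ (hg μ h.mu_mem)
      rw [h2, ← MulAut.mul_apply, ← map_mul, mul_inv_cancel, map_one]
      rfl
    rw [hB, mem_normalizer_iff]
    intro u
    constructor
    · exact key g hg' u
    · intro hu
      have h1 := key g⁻¹ (by rw [inv_inv]; exact hg) _ hu
      have e1 : g⁻¹ * (g * u * g⁻¹) * g⁻¹⁻¹ = u := by group
      rwa [e1] at h1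
  have hdB : ∀ r : Fˣ, ((e (dg r) : L) : X) ∈ B := by
    intro r
    rw [hB, mem_normalizer_iff]
    have key : ∀ (r : Fˣ) (u : X), u ∈ F₀ → ((e (dg r) : L) : X) * u * ((e (dg r) : L) : X)⁻¹ ∈ F₀ := by
      rintro r _ ⟨u, hu, rfl⟩
      have h1 : ((e (dg r) : L) : X) * (e u : L) * ((e (dg r) : L) : X)⁻¹ = ((e (dg r * u * (dg r)⁻¹) : L) : X) := by
        rw [map_mul, map_mul, map_inv]; rfl
      change ((e (dg r) : L) : X) * (e u : L) * ((e (dg r) : L) : X)⁻¹ ∈ F₀
      rw [h1, hF₀m, eq_up hu, L2Borel.td_conj_tu]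
      exact T1Sl2.up_mem _
    intro u
    constructor
    · exact key r u
    · intro hu
      have h1 := key r⁻¹ _ hu
      have h2 : ((e (dg r⁻¹) : L) : X) = ((e (dg r) : L) : X)⁻¹ := by rw [← hdgi, map_inv]; rfl
      rw [h2] at h1
      have e1 : ((e (dg r) : L) : X)⁻¹ * (((e (dg r) : L) : X) * u * ((e (dg r) : L) : X)⁻¹) * ((e (dg r) : L) : X)⁻¹⁻¹ = u := by
        group
      rwa [e1] at h1
  -- elements centralising `Λ`
  have hact : ∀ g, (∀ v ∈ Λ, ρ g v = v) → ∀ r : Fˣ, ρ g (σ (dg r) μ) = σ (dg (Units.map (θ g).toMonoidHom r)) μ := by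
    intro g hg r
    have hgB : g ∈ B := hstab g fun v hv => by rw [hg v hv]; exact hv
    rw [hform g hgB r μ (hΛK h.mu_mem), hg μ h.mu_mem]
  have htriv : ∀ g, (∀ v ∈ Λ, ρ g v = v) → θ g = 1 → ∀ v ∈ Y, ρ g v = v := by
    intro g hg h1 v hv
    by_cases hv1 : v = 1
    · rw [hv1, map_one]
    obtain ⟨r, rfl⟩ := hYc v hv hv1
    rw [hact g hg r]
    have h2 : Units.map (θ g).toMonoidHom r = r := by
      apply Units.ext
      change (θ g) (r : F) = r
      rw [h1]; rfl
    rw [h2]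
  -- the order of `Y`
  let ι : F → Y := fun r => if hr : r = 0 then 1 else ⟨σ (dg (Units.mk0 r hr)) μ, hYd _⟩
  have hι0 : ι 0 = 1 := dif_pos rfl
  have hι : ∀ (r : F) (hr : r ≠ 0), ((ι r : Y) : V) = σ (dg (Units.mk0 r hr)) μ := by
    intro r hr
    change ((if hr : r = 0 then (1 : Y) else ⟨σ (dg (Units.mk0 r hr)) μ, hYd _⟩ : Y) : V) = _
    rw [dif_neg hr]
  have hιu : ∀ r : Fˣ, ((ι r : Y) : V) = σ (dg r) μ := by
    intro r
    rw [hι r r.ne_zero]
    congr 3
    exact Units.ext rfl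
  have hιinj : Function.Injective ι := by
    intro r t hrt
    by_cases hr : r = 0
    · by_cases ht : t = 0
      · rw [hr, ht]
      · exfalso
        have h1 := congrArg Subtype.val hrt
        rw [hr, hι0, hι t ht] at h1
        exact hdne _ h1.symm
    · by_cases ht : t = 0
      · exfalso
        have h1 := congrArg Subtype.val hrt
        rw [ht, hι0, hι r hr] at h1
        exact hdne _ h1
      · have h1 := congrArg Subtype.val hrt
        rw [hι r hr, hι t ht] at h1
        exact congrArg Units.val (hdinj _ _ h1)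
  have hιsurj : Function.Surjective ι := by
    rintro ⟨v, hv⟩
    by_cases hv1 : v = 1
    · exact ⟨0, by rw [hι0]; exact Subtype.ext hv1.symm⟩
    · obtain ⟨r, hr⟩ := hYc v hv hv1
      exact ⟨r, Subtype.ext ((hιu r).trans hr.symm)⟩
  have hcardY : Nat.card Y = Fintype.card F := by
    rw [← Nat.card_congr (Equiv.ofBijective ι ⟨hιinj, hιsurj⟩), Nat.card_eq_fintype_card]
  refine ⟨B, Y, hstab, hBY, hΛY, ?_, ?_, ?_, ?_⟩
  · intro v hv hv1
    obtain ⟨r, hr⟩ := hYc v hv hv1
    exact ⟨_, hdB r, hr⟩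
  · by_contra hcon
    push Not at hcon
    have h1 : Y ≤ Λ := by
      intro v hv
      by_cases hv1 : v = 1
      · rw [hv1]; exact one_mem _
      obtain ⟨r, rfl⟩ := hYc v hv hv1
      exact hcon _ (hdB r) μ h.mu_mem
    have hfin : Finite Λ := Nat.finite_of_card_ne_zero (by rw [h.card]; norm_num)
    have h2 := Subgroup.card_le_of_le h1
    rw [hcardY, h.card] at h2
    omega
  · intro g c hg hgc
    apply htriv g hg
    by_contra hθ1
    have h1 := L2Borel.card_fixed_sq_le hθ1 1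
    -- the fixed points
    have h2 : Nat.card {a : F // 1 * (θ g) a = a} = Nat.card {v : Y // ρ g v = v} := by
      refine Nat.card_congr (Equiv.subtypeEquiv (Equiv.ofBijective ι ⟨hιinj, hιsurj⟩) ?_)
      intro r
      change 1 * (θ g) r = r ↔ ρ g (ι r : Y) = (ι r : Y)
      rw [one_mul]
      by_cases hr : r = 0
      · rw [hr, hι0, map_zero]
        exact ⟨fun _ => map_one _, fun _ => rfl⟩
      · rw [hι r hr, hact g hg]
        constructor
        · intro h3
          congr 3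
          exact Units.ext h3
        · intro h3
          exact congrArg Units.val (hdinj _ _ h3)
    -- the index is at most 2
    let f : Y →* V :=
      { toFun := fun v => ρ g v * (v : V)⁻¹
        map_one' := by
          change ρ g 1 * (1 : V)⁻¹ = 1
          rw [map_one, inv_one, mul_one]
        map_mul' := fun v w => by
          change ρ g (v * w : V) * (v * w : V)⁻¹ = _
          rw [map_mul, mul_inv]
          exact mul_mul_mul_comm _ _ _ _ }
    have hfv : ∀ v : Y, f v = ρ g v * (v : V)⁻¹ := fun v => rfl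
    have h3 : Nat.card f.range ≤ 2 := by
      have h4 : (f.range : Set V) ⊆ {1, c} := by
        rintro _ ⟨v, rfl⟩
        rcases hgc v v.2 with h5 | h5
        · left; rw [hfv, h5, mul_inv_cancel]
        · right
          rw [hfv, h5, mul_comm (v : V) c, mul_inv_cancel_right]
          exact Set.mem_singleton c
      have h5 := Set.ncard_le_ncard h4 (Set.toFinite _)
      rw [← Nat.card_coe_set_eq] at h5
      exact h5.trans ((Set.ncard_insert_le _ _).trans (by rw [Set.ncard_singleton]))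
    have h4' : Nat.card {v : Y // ρ g v = v} = Nat.card f.ker := by
      refine Nat.card_congr (Equiv.subtypeEquivRight ?_)
      intro v
      rw [MonoidHom.mem_ker, hfv, mul_inv_eq_one]
    have h5 := f.ker.card_mul_index
    rw [Subgroup.index_ker, hcardY, ← h4', ← h2] at h5
    rw [Nat.card_eq_fintype_card (α := F)] at h1
    set n := Nat.card {a : F // 1 * (θ g) a = a} with hn
    have h6 : Fintype.card F ≤ n * 2 := by rw [← h5]; exact Nat.mul_le_mul_left _ h3
    have h7 : n ^ 2 ≤ n * 2 := h1.trans h6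
    have h9 : n ≤ 2 := by
      rcases Nat.eq_zero_or_pos n with h10 | h10
      · omega
      · rw [pow_two] at h7
        exact Nat.le_of_mul_le_mul_left h7 h10
    omega
  · intro g g' hg hg' hgg hgg'
    by_cases h1 : θ g = 1
    · left; exact htriv g hg h1
    by_cases h2 : θ g' = 1
    · right; left; exact htriv g' hg' h2
    right; right
    apply htriv
    · intro v hv
      rw [map_mul, MulAut.mul_apply, hg' v hv, hg v hv]
    · have h3 : θ g = θ g' := by
        apply L2Borel.ringAut_invol _ _ h1 h2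
        · rw [← map_mul, hgg, map_one]
        · rw [← map_mul, hgg', map_one]
      rw [map_mul, ← h3, ← map_mul, hgg, map_one]

end Cfsg.Agent.OddCyclic.Om5
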