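import Cfsg.Agent.OddCyclic.FFSl2
import Cfsg.Agent.OddCyclic.L2Model

/-!
# The natural module of `SL₂(q)`: a vector fixed by `U` and by `dg r`, `r ≠ 1`, is fixed by `SL₂(q)`
-/

set_option autoImplicit false
set_option linter.unusedSectionVars false

namespace Cfsg.Agent.OddCyclic.Om5

open Subgroup Matrix
open Cfsg.Agent.OddCyclic.T1Sl2
open Cfsg.Agent.OddCyclic.FFBasic Cfsg.Agent.OddCyclic.T1Module Cfsg.Agent.OddCyclic.FFRed

variable {V : Type*} [CommGroup V] {F : Type*} [Field F] [Fintype F] [CharP F 2]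

theorem fix_of_nat [Finite V] (h4 : 4 ≤ Fintype.card F) (hV : ∀ v : V, v * v = 1)
    {σ : SpecialLinearGroup (Fin 2) F →* MulAut V} (hN : FFSl2.IsNat σ) {v : V} (hv : ∀ t, σ (up t) v = v)
    {r : Fˣ} (hr : r ≠ 1) (hrv : σ (dg r) v = v) : v ∈ CS σ ⊤ := by
  by_contra hvC
  have hs := isSimpleGroup_sl2 h4
  set C := CS σ ⊤ with hC
  set W := CS σ (SU F : Subgroup (SpecialLinearGroup (Fin 2) F)) with hW
  have hCW : C ≤ W := CS_anti le_top
  have hCW' : C.relIndex W = Fintype.card F := by
    have h1 := Subgroup.relIndex_mul_index hCW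
    rw [hN.top, hN.index (SU F), pow_two] at h1
    exact Nat.eq_of_mul_eq_mul_right (by omega) h1
  have hCst : ∀ c ∈ C, ∀ g, σ g c = c := fun c hc g => hc g (mem_top g)
  set w := σ (ww F) v with hw
  have hwC : w ∉ C := by
    intro h1
    apply hvC
    have h2 := hCst w h1 (ww F)⁻¹
    have h3 : σ (ww F)⁻¹ w = v := by
      rw [hw, ← MulAut.mul_apply, ← map_mul, inv_mul_cancel, map_one]; rfl
    rw [h3] at h2
    rw [h2]; exact h1
  have hwlo : ∀ t, σ (lo t) w = w := by
    intro t
    have h1 : lo t * ww F = ww F * up t := by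
      apply ext2
      · rw [mul00, mul00]; simp
      · rw [mul01, mul01]; simp
      · rw [mul10, mul10]; simp
      · rw [mul11, mul11]; simp
    rw [hw, ← MulAut.mul_apply, ← map_mul, h1, map_mul, MulAut.mul_apply, hv]
  have hwr : σ (dg r) w = w := by
    have h1 : dg r * ww F = ww F * (dg r)⁻¹ := by
      apply ext2
      · rw [mul00, mul00, inv10]; simp
      · rw [mul01, mul01, inv11]; simp
      · rw [mul10, mul10, inv00]; simp
      · rw [mul11, mul11, inv01]; simp
    have h2 : σ (dg r)⁻¹ v = v := fx_inv σ hrv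
    rw [hw, ← MulAut.mul_apply, ← map_mul, h1, map_mul, MulAut.mul_apply, h2]
  -- `δ`
  have hδW : ∀ t, σ (up t) w * w⁻¹ ∈ W := by
    intro t
    by_cases ht : t = 0
    · rw [ht, up_zero, map_one]
      change w * w⁻¹ ∈ W
      rw [mul_inv_cancel]; exact one_mem _
    · have h1 : up t ∈ SU F := mem_SU_iff.2 ⟨t, rfl⟩
      have h2 : up t ≠ 1 := fun h => ht (by
        have := congrArg (fun g : SpecialLinearGroup (Fin 2) F => g 0 1) h
        simpa using this)
      rw [hW, ← hN.fix (SU F) (up t) h1 h2, mem_fx, map_mul, map_inv, ← MulAut.mul_apply, ← map_mul, SU_sq h1, map_one]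
      change w * (σ (up t) w)⁻¹ = σ (up t) w * w⁻¹
      have h3 : ∀ u : V, u⁻¹ = u := inv_eq_self hV
      rw [h3, h3, mul_comm]
  have hWst : ∀ c ∈ W, ∀ t, σ (up t) c = c := fun c hc t => hc _ (mem_SU_iff.2 ⟨t, rfl⟩)
  have hδmul : ∀ s t, σ (up (s + t)) w * w⁻¹ = (σ (up s) w * w⁻¹) * (σ (up t) w * w⁻¹) := by
    intro s t
    have h1 := hWst _ (hδW t) s
    rw [map_mul, map_inv, ← MulAut.mul_apply, ← map_mul, up_mul] at h1
    calc σ (up (s + t)) w * w⁻¹ = (σ (up (s + t)) w * (σ (up s) w)⁻¹) * (σ (up s) w * w⁻¹) := by group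
      _ = (σ (up t) w * w⁻¹) * (σ (up s) w * w⁻¹) := by rw [h1]
      _ = _ := mul_comm _ _
  -- `δ t ∈ C` only for `t = 0`
  have hδC : ∀ t, σ (up t) w * w⁻¹ ∈ C → t = 0 := by
    intro t ht
    by_contra ht0
    apply hwC
    let M : Subgroup (SpecialLinearGroup (Fin 2) F) :=
      { carrier := {g | σ g w * w⁻¹ ∈ C}
        mul_mem' := fun {a b} ha hb => by
          have e1 : σ (a * b) w * w⁻¹ = σ a (σ b w * w⁻¹) * (σ a w * w⁻¹) := by
            rw [map_mul, MulAut.mul_apply, map_mul (σ a), map_inv (σ a)]; group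
          change σ (a * b) w * w⁻¹ ∈ C
          rw [e1, hCst _ hb a]
          exact mul_mem hb ha
        one_mem' := by
          change σ 1 w * w⁻¹ ∈ C
          rw [map_one]
          change w * w⁻¹ ∈ C
          rw [mul_inv_cancel]; exact one_mem _
        inv_mem' := fun {a} ha => by
          have h1 := hCst _ ha a⁻¹
          rw [map_mul (σ a⁻¹), map_inv (σ a⁻¹), ← MulAut.mul_apply, ← map_mul, inv_mul_cancel, map_one] at h1
          change σ a⁻¹ w * w⁻¹ ∈ C
          have h2 : w * (σ a⁻¹ w)⁻¹ ∈ C := by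
            have h3 : w * (σ a⁻¹ w)⁻¹ = σ a w * w⁻¹ := h1
            rw [h3]; exact ha
          have h3 := inv_mem h2
          rw [mul_inv, inv_inv, mul_comm] at h3
          exact h3 }
    have hM : M = ⊤ := by
      have h1 : ((ww F • SU F : Sylow 2 (SpecialLinearGroup (Fin 2) F)) : Subgroup _) ≤ M := by
        intro g hg
        obtain ⟨s, rfl⟩ := mem_ww_iff.1 hg
        change σ (lo s) w * w⁻¹ ∈ C
        rw [hwlo, mul_inv_cancel]; exact one_mem _
      have h2 : up t ∈ M := ht
      rcases le_normalizer_or _ M h1 with h3 | h3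
      · exfalso
        have h4 := h3 h2
        rw [Subgroup.mem_normalizer_iff] at h4
        have h5 := (h4 (lo 1)).1 (mem_ww_iff.2 ⟨1, rfl⟩)
        obtain ⟨s, hs'⟩ := mem_ww_iff.1 h5
        have h6 := congrArg (fun g : SpecialLinearGroup (Fin 2) F => g 0 0) hs'
        simp only [mul00, mul01, inv00, inv10, up00, up01, up10, up11, lo00, lo01, lo10, lo11] at h6
        apply ht0
        linear_combination h6
      · exact h3
    -- `g ↦ σ g w * w⁻¹` is a homomorphism
    let φ : SpecialLinearGroup (Fin 2) F →* V :=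
      { toFun := fun g => σ g w * w⁻¹
        map_one' := by
          change σ 1 w * w⁻¹ = 1
          rw [map_one]
          change w * w⁻¹ = 1
          rw [mul_inv_cancel]
        map_mul' := fun a b => by
          have hb : σ b w * w⁻¹ ∈ C := by
            have : b ∈ M := by rw [hM]; exact mem_top b
            exact this
          have e1 : σ (a * b) w * w⁻¹ = σ a (σ b w * w⁻¹) * (σ a w * w⁻¹) := by
            rw [map_mul, MulAut.mul_apply, map_mul (σ a), map_inv (σ a)]; group
          rw [e1, hCst _ hb a, mul_comm] }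
    have hφ : φ.ker = ⊤ := by
      rcases hs.eq_bot_or_eq_top_of_normal φ.ker inferInstance with h1 | h1
      · exfalso
        have h2 : Function.Injective φ := (MonoidHom.ker_eq_bot_iff φ).1 h1
        have h3 : up (1 : F) * lo 1 = lo 1 * up 1 := h2 (by rw [map_mul, map_mul, mul_comm])
        have h4 := congrArg (fun g : SpecialLinearGroup (Fin 2) F => g 0 0) h3
        simp only [mul00, up00, up01, up10, lo00, lo01, lo10] at h4
        have h5 : (1 : F) = 0 := by linear_combination h4
        exact one_ne_zero h5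
      · exact h1
    intro g _
    have h1 : g ∈ φ.ker := by rw [hφ]; exact mem_top g
    have h2 : σ g w * w⁻¹ = 1 := h1
    exact mul_inv_eq_one.1 h2
  -- counting
  have hVC : ∃ t, (σ (up t) w * w⁻¹)⁻¹ * v ∈ C := by
    let f : F → W ⧸ C.subgroupOf W := fun t => QuotientGroup.mk ⟨σ (up t) w * w⁻¹, hδW t⟩
    have hf : Function.Injective f := by
      intro s t hst
      have h1 : (⟨σ (up s) w * w⁻¹, hδW s⟩ : W)⁻¹ * ⟨σ (up t) w * w⁻¹, hδW t⟩ ∈ C.subgroupOf W :=
        QuotientGroup.eq.1 hst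
      rw [mem_subgroupOf] at h1
      change (σ (up s) w * w⁻¹)⁻¹ * (σ (up t) w * w⁻¹) ∈ C at h1
      rw [inv_eq_self hV (σ (up s) w * w⁻¹), ← hδmul] at h1
      have h2 := hδC _ h1
      exact CharTwo.add_eq_zero.1 h2
    have hcard : Nat.card (W ⧸ C.subgroupOf W) = Nat.card F := by
      rw [← Subgroup.index_eq_card, Nat.card_eq_fintype_card]
      exact hCW'
    have hfin : Finite (W ⧸ C.subgroupOf W) :=
      Nat.finite_of_card_ne_zero (by rw [hcard]; exact Nat.card_pos.ne')
    have hsurj : Function.Surjective f := by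
      have := (Nat.bijective_iff_injective_and_card f).2 ⟨hf, hcard.symm⟩
      exact this.2
    have hvW : v ∈ W := by
      intro g hg
      obtain ⟨t, rfl⟩ := mem_SU_iff.1 hg
      exact hv t
    obtain ⟨t, ht⟩ := hsurj (QuotientGroup.mk ⟨v, hvW⟩)
    refine ⟨t, ?_⟩
    have h1 : (⟨σ (up t) w * w⁻¹, hδW t⟩ : W)⁻¹ * ⟨v, hvW⟩ ∈ C.subgroupOf W := QuotientGroup.eq.1 ht
    exact h1
  obtain ⟨t, ht⟩ := hVC
  -- apply `dg r`
  have h1 := hCst _ ht (dg r)
  have h2 : σ (dg r) (σ (up t) w) = σ (up ((r : F) * r * t)) w := by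
    have e1 : dg r * up t = up ((r : F) * r * t) * dg r := by
      apply ext2
      · rw [mul00, mul00]; simp
      · rw [mul01, mul01]
        simp only [dg00, dg01, dg11, up00, up01, up11, Units.val_inv_eq_inv_val]
        field_simp
        ring
      · rw [mul10, mul10]; simp
      · rw [mul11, mul11]; simp
    rw [← MulAut.mul_apply, ← map_mul, e1, map_mul, MulAut.mul_apply, hwr]
  rw [map_mul (σ (dg r)), map_inv (σ (dg r)), map_mul (σ (dg r)), map_inv (σ (dg r)), hwr, h2, hrv] at h1
  have h3 : σ (up ((r : F) * r * t)) w * w⁻¹ = σ (up t) w * w⁻¹ := by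
    exact inv_injective (mul_right_cancel h1)
  have h4 : σ (up ((r : F) * r * t + t)) w * w⁻¹ ∈ C := by
    rw [hδmul, h3, hV]; exact one_mem _
  have h5 := hδC _ h4
  have h2' : (2 : F) = 0 := CharTwo.two_eq_zero
  have h6 : (((r : F) + 1) * ((r : F) + 1)) * t = 0 := by
    linear_combination h5 + (r : F) * t * h2'
  rcases mul_eq_zero.1 h6 with h7 | h7
  · apply hr
    have h8 : (r : F) + 1 = 0 := mul_self_eq_zero.1 h7
    apply Units.ext
    rw [Units.val_one]
    linear_combination h8 - h2'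
  · rw [h7, up_zero, map_one] at ht
    change (w * w⁻¹)⁻¹ * v ∈ C at ht
    rw [mul_inv_cancel, inv_one, one_mul] at ht
    exact hvC ht

end Cfsg.Agent.OddCyclic.Om5
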