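import Cfsg.Agent.OddCyclic.Om5One
import Cfsg.Agent.OddCyclic.Om5Act

/-!
# (Omega5): the subgroup `W = ⟨(e 0 1)^C⟩` of `C = C_G(z)`, if `e 0 1 ∈ O₂(C)`
-/

set_option autoImplicit false
set_option linter.unusedSectionVars false

namespace Cfsg.Agent.OddCyclic.Om5

open Subgroup Cfsg Cfsg.Agent.ZN
open Cfsg.Agent.LieExceptional.CITDefs (IsSyl2)

universe u

variable {G : Type u} [Group G]

/-- `C_G(z)` -/
abbrev CC (e : Fin 5 → Fin 5 → G) : Subgroup G := centralizer ({sg e 4} : Set G)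

/-- `⟨(e 0 1)^C⟩` -/
def WW (e : Fin 5 → Fin 5 → G) : Subgroup G := closure {x | ∃ c ∈ CC e, x = c * e 0 1 * c⁻¹}

theorem perm_fix : ∀ i j : Fin 5, i ≠ j → i ≠ 4 → j ≠ 4 → ∃ π : Equiv.Perm (Fin 5), π 4 = 4 ∧ π 0 = i ∧ π 1 = j := by
  decide +kernel

theorem perm_fix_one : ∀ i j : Fin 5, i ≠ 4 → j ≠ 4 → ∃ π : Equiv.Perm (Fin 5), π 4 = 4 ∧ π i = j := by
  decide +kernel

theorem conj_mem_WW {e : Fin 5 → Fin 5 → G} {c w : G} (hc : c ∈ CC e) (hw : w ∈ WW e) : c * w * c⁻¹ ∈ WW e := by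
  have h1 : WW e ≤ (WW e).comap (MulAut.conj c).toMonoidHom := by
    refine (closure_le _).2 ?_
    rintro _ ⟨d, hd, rfl⟩
    apply Subgroup.subset_closure
    refine ⟨c * d, mul_mem hc hd, ?_⟩
    change c * (d * e 0 1 * d⁻¹) * c⁻¹ = _
    group
  exact h1 hw

variable [Finite G] {S M U : Subgroup G} {φ : M →* Equiv.Perm (Fin 5)} {e : Fin 5 → Fin 5 → G}

namespace Sit0

theorem z_sq (h : Sit0 S M U φ e) : sg e 4 * sg e 4 = 1 := h.sq _ h.z_mem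

theorem z_ne (h : Sit0 S M U φ e) : sg e 4 ≠ 1 := h.toFrame.sg_ne_one 4

theorem mem_CC {x : G} : x ∈ CC e ↔ x * sg e 4 = sg e 4 * x := mem_centralizer_singleton_iff

theorem S_le_CC (h : Sit0 S M U φ e) : S ≤ CC e := fun _ hs => mem_CC.2 (h.fix' hs)

theorem U_le_CC (h : Sit0 S M U φ e) : U ≤ CC e := fun _ hu => mem_CC.2 (h.toFrame.comm hu h.z_mem)

theorem not_dvd (h : Sit0 S M U φ e) {X : Subgroup G} (hX : S ≤ X) : ¬ 2 ∣ S.relIndex X := by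
  have : Fact (Nat.Prime 2) := ⟨Nat.prime_two⟩
  exact (Cfsg.Agent.LieExceptional.CITBasic.IsSyl2.toSylow (T1Tools.isSyl2_of_le h.syl hX)).not_dvd_index

theorem o2_le_S (h : Sit0 S M U φ e) : o2 (CC e) ≤ S :=
  MinSimple.VModule.o2_le_of_sylow h.syl.two (h.not_dvd h.S_le_CC)

theorem o2_le_M (h : Sit0 S M U φ e) : o2 (CC e) ≤ M := h.o2_le_S.trans h.le

theorem mem_CC_iff (h : Sit0 S M U φ e) (m : M) : (m : G) ∈ CC e ↔ φ m 4 = 4 := by
  rw [mem_CC, ← mul_inv_eq_iff_eq_mul, h.toFrame.conj_sg]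
  exact ⟨fun h1 => h.toFrame.sg_inj h1, fun h1 => by rw [h1]⟩

theorem exists_m (h : Sit0 S M U φ e) {π : Equiv.Perm (Fin 5)} (hπ : π 4 = 4) :
    ∃ m : M, φ m = π ∧ (m : G) ∈ CC e := by
  obtain ⟨m, hm⟩ := h.surj π
  exact ⟨m, hm, (h.mem_CC_iff m).2 (by rw [hm, hπ])⟩

theorem exists_conj_e (h : Sit0 S M U φ e) {i j : Fin 5} (hij : i ≠ j) (hi : i ≠ 4) (hj : j ≠ 4) :
    ∃ m : M, (m : G) ∈ CC e ∧ (m : G) * e 0 1 * (m : G)⁻¹ = e i j := by
  obtain ⟨π, h4, h0, h1⟩ := perm_fix i j hij hi hj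
  obtain ⟨m, rfl, hm⟩ := h.exists_m h4
  refine ⟨m, hm, ?_⟩
  rw [h.conj, h0, h1]

theorem e_mem_WW (h : Sit0 S M U φ e) {i j : Fin 5} (hi : i ≠ 4) (hj : j ≠ 4) : e i j ∈ WW e := by
  by_cases hij : i = j
  · rw [hij, h.self]; exact one_mem _
  obtain ⟨m, hm, hmm⟩ := h.exists_conj_e hij hi hj
  rw [← hmm]
  exact Subgroup.subset_closure ⟨m, hm, rfl⟩

theorem z_mem_WW (h : Sit0 S M U φ e) : sg e 4 ∈ WW e := by
  rw [sg_four]
  exact mul_mem (h.e_mem_WW (by decide) (by decide)) (h.e_mem_WW (by decide) (by decide))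

theorem o2_conj {c q : G} (hc : c ∈ CC e) (hq : q ∈ o2 (CC e)) : c * q * c⁻¹ ∈ o2 (CC e) :=
  Block.conj_mem_of_normalizer (MinSimple.VModule.le_normalizer_o2 _) hc hq

theorem WW_le (h : Sit0 S M U φ e) (hQ : e 0 1 ∈ o2 (CC e)) : WW e ≤ o2 (CC e) := by
  refine (closure_le _).2 ?_
  rintro _ ⟨c, hc, rfl⟩
  exact o2_conj hc hQ

theorem two_three (h : Sit0 S M U φ e) : e 2 3 = e 0 1 * sg e 4 := by
  rw [sg_four, ← mul_assoc, h.sq _ (h.mem 0 1), one_mul]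

/-- `O₂(C)` centralises `W` modulo `z` -/
theorem comm_z (h : Sit0 S M U φ e) {q w : G} (hq : q ∈ o2 (CC e)) (hw : w ∈ WW e) :
    q * w * q⁻¹ * w⁻¹ = 1 ∨ q * w * q⁻¹ * w⁻¹ = sg e 4 := by
  have hz := h.z_sq
  have h1 : ∀ q ∈ o2 (CC e), q * e 0 1 * q⁻¹ * (e 0 1)⁻¹ ∈ zpowers (sg e 4) := by
    intro q hq
    rcases h.blk q (h.o2_le_S hq) with h2 | h2
    · rw [h2, mul_inv_cancel]; exact one_mem _
    · rw [h2, h.two_three]
      have h3 : e 0 1 * sg e 4 * (e 0 1)⁻¹ = sg e 4 := by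
        rw [h.toFrame.comm (h.mem 0 1) h.z_mem, mul_inv_cancel_right]
      rw [h3]; exact mem_zpowers _
  -- for fixed `q` the elements `w ∈ C` with `[q, w] ∈ ⟨z⟩` form a subgroup
  let K : Subgroup G :=
    { carrier := {w | w ∈ CC e ∧ q * w * q⁻¹ * w⁻¹ ∈ zpowers (sg e 4)}
      mul_mem' := by
        rintro a b ⟨ha, ha'⟩ ⟨hb, hb'⟩
        refine ⟨mul_mem ha hb, ?_⟩
        have e1 : q * (a * b) * q⁻¹ * (a * b)⁻¹ = (q * a * q⁻¹ * a⁻¹) * (a * (q * b * q⁻¹ * b⁻¹) * a⁻¹) := by group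
        rw [e1]
        refine mul_mem ha' ?_
        obtain ⟨n, hn⟩ := mem_zpowers_iff.1 hb'
        rw [← hn]
        have h2 : Commute a (sg e 4) := mem_CC.1 ha
        rw [(h2.zpow_right n).eq, mul_inv_cancel_right]
        exact zpow_mem (mem_zpowers _) n
      one_mem' := ⟨one_mem _, by
        have : q * 1 * q⁻¹ * 1⁻¹ = 1 := by group
        rw [this]; exact one_mem _⟩
      inv_mem' := by
        rintro a ⟨ha, ha'⟩
        refine ⟨inv_mem ha, ?_⟩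
        have e1 : q * a⁻¹ * q⁻¹ * a⁻¹⁻¹ = a⁻¹ * (q * a * q⁻¹ * a⁻¹)⁻¹ * a := by group
        rw [e1]
        obtain ⟨n, hn⟩ := mem_zpowers_iff.1 (inv_mem ha')
        rw [← hn]
        have h2 : Commute a (sg e 4) := mem_CC.1 ha
        rw [(h2.inv_left.zpow_right n).eq, mul_assoc, inv_mul_cancel, mul_one]
        exact zpow_mem (mem_zpowers _) n }
  have hK : WW e ≤ K := by
    refine (closure_le _).2 ?_
    rintro _ ⟨c, hc, rfl⟩
    refine ⟨?_, ?_⟩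
    · exact mul_mem (mul_mem hc (h.U_le_CC (h.mem 0 1))) (inv_mem hc)
    · have h2 := h1 (c⁻¹ * q * c⁻¹⁻¹) (o2_conj (inv_mem hc) hq)
      have e1 : q * (c * e 0 1 * c⁻¹) * q⁻¹ * (c * e 0 1 * c⁻¹)⁻¹ =
          c * (c⁻¹ * q * c⁻¹⁻¹ * e 0 1 * (c⁻¹ * q * c⁻¹⁻¹)⁻¹ * (e 0 1)⁻¹) * c⁻¹ := by group
      rw [e1]
      obtain ⟨n, hn⟩ := mem_zpowers_iff.1 h2
      rw [← hn]
      have h3 : Commute c (sg e 4) := mem_CC.1 hc
      rw [(h3.zpow_right n).eq, mul_inv_cancel_right]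
      exact zpow_mem (mem_zpowers _) n
  exact (MinSimple.Geo.mem_zpowers_iff_of_mul_self hz).1 (hK hw).2

theorem sq_z (h : Sit0 S M U φ e) (hQ : e 0 1 ∈ o2 (CC e)) {w : G} (hw : w ∈ WW e) :
    w * w = 1 ∨ w * w = sg e 4 := by
  have hz := h.z_sq
  have hWC : WW e ≤ CC e := (h.WW_le hQ).trans (MinSimple.VModule.o2_le _)
  let K : Subgroup G :=
    { carrier := {w | w ∈ WW e ∧ w * w ∈ zpowers (sg e 4)}
      mul_mem' := by
        rintro a b ⟨ha, ha'⟩ ⟨hb, hb'⟩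
        refine ⟨mul_mem ha hb, ?_⟩
        have h1 : b * a * b⁻¹ * a⁻¹ ∈ zpowers (sg e 4) :=
          (MinSimple.Geo.mem_zpowers_iff_of_mul_self hz).2 (h.comm_z (h.WW_le hQ hb) ha)
        have e1 : a * b * (a * b) = a * (b * a * b⁻¹ * a⁻¹) * a⁻¹ * (a * a) * (b * b) := by group
        rw [e1]
        refine mul_mem (mul_mem ?_ ha') hb'
        obtain ⟨n, hn⟩ := mem_zpowers_iff.1 h1
        rw [← hn]
        have h3 : Commute a (sg e 4) := mem_CC.1 (hWC ha)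
        rw [(h3.zpow_right n).eq, mul_inv_cancel_right]
        exact zpow_mem (mem_zpowers _) n
      one_mem' := ⟨one_mem _, by rw [one_mul]; exact one_mem _⟩
      inv_mem' := by
        rintro a ⟨ha, ha'⟩
        refine ⟨inv_mem ha, ?_⟩
        rw [← mul_inv_rev]
        exact inv_mem ha' }
  have hK : WW e ≤ K := by
    refine (closure_le _).2 ?_
    rintro _ ⟨c, hc, rfl⟩
    refine ⟨Subgroup.subset_closure ⟨c, hc, rfl⟩, ?_⟩
    have e1 : c * e 0 1 * c⁻¹ * (c * e 0 1 * c⁻¹) = c * (e 0 1 * e 0 1) * c⁻¹ := by group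
    rw [e1, h.sq _ (h.mem 0 1), mul_one, mul_inv_cancel]
    exact one_mem _
  exact (MinSimple.Geo.mem_zpowers_iff_of_mul_self hz).1 (hK hw).2

theorem exists_V (h : Sit0 S M U φ e) (hQ : e 0 1 ∈ o2 (CC e)) :
    ∃ (V : Type u) (_ : CommGroup V) (_ : Finite V) (π : WW e →* V) (ρ : CC e →* MulAut V),
      MD (CC e) (WW e) (sg e 4) V π ρ := by
  have hWC : WW e ≤ CC e := (h.WW_le hQ).trans (MinSimple.VModule.o2_le _)
  refine exists_md hWC h.z_mem_WW h.z_sq (fun c hc => mem_CC.1 hc) (fun c hc w hw => conj_mem_WW hc hw) ?_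
    (fun x hx => h.sq_z hQ hx)
  intro x hx y hy
  exact h.comm_z (h.WW_le hQ hx) hy

end Sit0

end Cfsg.Agent.OddCyclic.Om5
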