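import Cfsg.Agent.MinSimple.SamePt
import Cfsg.Agent.MinSimple.LemXPerm

/-!
# S0342, case (C2), 2-local subgroups possibly nonsolvable: the interface to Lemma X

`LX S`: what is used of Lemma X (blueprints/S0342-C2-reduction-helper213.md, 2.1-2.4) for the dihedral blocks over
`B = bau S`, `S` a Sylow 2-subgroup of `G`, which lie in a common 2-local subgroup. No solvability.
-/

set_option autoImplicit false

namespace Cfsg.Agent.OddCyclic.Red

open Subgroup Cfsg Cfsg.Agent.ZN Cfsg.Agent.MinSimple Cfsg.Agent.MinSimple.DBlkApi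

universe u

variable {G : Type u} [Group G]

/-- `L` and `L'` normalise a common nontrivial 2-subgroup. -/
def Loc2 (L L' : Subgroup G) : Prop :=
  ∃ U : Subgroup G, IsPGroup 2 U ∧ U ≠ ⊥ ∧ L ≤ normalizer (U : Set G) ∧ L' ≤ normalizer (U : Set G)

theorem Loc2.symm {L L' : Subgroup G} (h : Loc2 L L') : Loc2 L' L := by
  obtain ⟨U, h1, h2, h3, h4⟩ := h
  exact ⟨U, h1, h2, h4, h3⟩

/-- Lemma X for the blocks over `bau S`. -/
structure LX (S : Subgroup G) : Prop where
  char2 : IsCharacteristicTwoType G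
  /-- the planes of two blocks in a 2-local commute -/
  comm : ∀ (L L' : Subgroup G) (k k' : ℕ), IsDBlk (bau S) L k → IsDBlk (bau S) L' k' → Loc2 L L' →
    ∀ v ∈ vl (bau S) L, ∀ w ∈ vl (bau S) L', v * w = w * v
  /-- if they are different the point of the second is centralised by the first -/
  indep : ∀ (L L' : Subgroup G) (k k' : ℕ), IsDBlk (bau S) L k → IsDBlk (bau S) L' k' → Loc2 L L' →
    vl (bau S) L ≠ vl (bau S) L' → ∀ z : G, IsPt (bau S) L' z → z ∈ rl (bau S) L

variable {S : Subgroup G}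

/-- Same point, common 2-local: same plane. -/
theorem LX.pt (hX : LX S) {L L' : Subgroup G} {k k' : ℕ} (h : IsDBlk (bau S) L k)
    (h' : IsDBlk (bau S) L' k') (hl : Loc2 L L') {z : G} (hz : IsPt (bau S) L z) (hz' : IsPt (bau S) L' z) :
    vl (bau S) L = vl (bau S) L' := by
  by_contra hne
  exact pt_notMem_rl h hz (hX.indep L L' k k' h h' hl hne z hz')

/-- Blocks whose planes do not commute lie in no common 2-local. -/
theorem LX.nl (hX : LX S) {L L' : Subgroup G} {k k' : ℕ} (h : IsDBlk (bau S) L k)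
    (h' : IsDBlk (bau S) L' k') (hn : ∃ v ∈ vl (bau S) L, ∃ w ∈ vl (bau S) L', v * w ≠ w * v)
    {R : Subgroup G} (hR : IsPGroup 2 R) (h1 : L ≤ normalizer (R : Set G))
    (h2 : L' ≤ normalizer (R : Set G)) : R = ⊥ := by
  by_contra hR1
  obtain ⟨v, hv, w, hw, hvw⟩ := hn
  exact hvw (hX.comm L L' k k' h h' ⟨R, hR, hR1, h1, h2⟩ v hv w hw)

end Cfsg.Agent.OddCyclic.Red
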