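import Cfsg.Agent.OddCyclic.RedEMain
import Cfsg.Agent.OddCyclic.GeoC

/-!
# S0342, (C2): (E1*) gives the point-line geometry `GeoC S V z`
-/

set_option autoImplicit false

namespace Cfsg.Agent.OddCyclic.RedE

open Subgroup Cfsg Cfsg.Agent.ZN Cfsg.Agent.MinSimple Cfsg.Agent.MinSimple.DBlkApi

universe u

variable {G : Type u} [Group G] [Finite G] {S : Sylow 2 G} {L V : Subgroup G} {k : ℕ} {z : G}

/-- a block is transitive on its plane -/
theorem trans_of_blk {B L : Subgroup G} {k : ℕ} (h : IsDBlk B L k) {v w : G} (hv : v ∈ vl B L) (hw : w ∈ vl B L)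
    (hv1 : v ≠ 1) (hw1 : w ≠ 1) : ∃ l ∈ L, l * v * l⁻¹ = w := by
  obtain ⟨z, hz⟩ := exists_pt h
  obtain ⟨y, hy, -, -, -, hfix, hcube⟩ := h.dih
  have hyV : y ∉ centralizer (vl B L : Set G) := fun h0 =>
    hz.2.2 (hfix z hz.1 (Four.mem_cent_iff.1 h0 z hz.1))
  have hy3 : y ^ 3 ∈ centralizer (vl B L : Set G) := Four.mem_cent_iff.2 hcube
  rcases Four.cyc_trans h.card_vl (vl_sq h) (le_normalizer_vl B L hy) hyV hy3 hv hv1 hw hw1 with h1 | h1 | h1
  · exact ⟨1, one_mem _, by rw [h1]; group⟩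
  · exact ⟨y, hy, h1.symm⟩
  · exact ⟨y⁻¹, inv_mem hy, by rw [h1]; group⟩

/-- (E1*) gives the point-line geometry. -/
theorem EOne.geoC (h : EOne S L V k z) : GeoC.GeoC (S : Subgroup G) V z := by
  have hV : V ≤ (S : Subgroup G) := by rw [← h.vl_eq]; exact vl_le_B h.blk
  have hSV : (S : Subgroup G) ≤ normalizer (V : Set G) := le_normalizer.trans h.norm
  exact
  { charTwo := h.char2
    cyc := h.cyc
    two := S.isPGroup'
    T_le := h.S_cz
    T_syl := ChoiceSit.syl_not_dvd (EmptyTI.syl_of_le h.S_cz)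
    V_le := hV
    T_norm := hSV
    T_syl' := ChoiceSit.syl_not_dvd (EmptyTI.syl_of_le hSV)
    card_V := by rw [← h.vl_eq]; exact h.blk.card_vl
    sq := fun v hv => by
      rw [← pow_two]
      rw [← h.vl_eq] at hv
      exact vl_sq h.blk v hv
    z_mem := by rw [← h.vl_eq]; exact h.pt.1
    z_ne := h.pt.2.2
    trans := fun v hv hv1 => by
      rw [← h.vl_eq] at hv ⊢
      obtain ⟨l, hl, hlv⟩ := trans_of_blk h.blk h.pt.1 hv h.pt.2.2 hv1
      exact ⟨l, le_normalizer_vl _ _ hl, hlv⟩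
    soc := fun t ht htt hc => by
      have h1 : t ∈ zc (S : Subgroup G) := ChoiceBase.mem_zc.2 ⟨ht, by rw [pow_two]; exact htt, hc⟩
      rwa [h.zc_eq, zpowers_eq h.pt.sq] at h1
    core := fun U hU h1 h2 => by
      by_contra hne
      exact h.nl _ ⟨U, hU, hne, rfl⟩ h1 h2
    uniq := fun g hg _ => h.norm hg }

end Cfsg.Agent.OddCyclic.RedE
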