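import Cfsg.Agent.OddCyclic.RedEFin
import Cfsg.Agent.OddCyclic.EO.Main

/-!
# S0342, (C2), (E1*): the end, only the nonsolvable case left

`eone_false_of`: `RedE.EOne` is impossible, from the nonsolvable case (`EN.BbDefs.Bb T V z`, `C(z)` nonsolvable modulo
`kq V z`) alone: the solvable case is `EO.Main.false_of_odd`.
-/

set_option autoImplicit false

namespace Cfsg.Agent.OddCyclic.RedESol

open Subgroup Cfsg
open Cfsg.Agent.MinSimple.Geo (ws kq)
open Cfsg.Agent.OddCyclic.EN.BbDefs (Bb)

universe u

variable {G : Type u} [Group G] [Finite G]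

/-- **(E1\*) is impossible**, from the nonsolvable case. -/
theorem eone_false_of
    (hns : ∀ (T V : Subgroup G) (z : G), Bb T V z →
      ¬ EO.Line.SolvMod (centralizer ({z} : Set G)) (kq V z) → False)
    {S : Sylow 2 G} (c : RedU.Cx S) {L V : Subgroup G} {k : ℕ} {z : G}
    (h : RedE.EOne S L V k z) : False := by
  have hs := c.simple
  exact RedEFin.eone_false
    { solv := fun T V z h => EO.Main.false_of_odd (c.sec) h
      nonsolv := hns } c h

end Cfsg.Agent.OddCyclic.RedESol
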