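import Cfsg.Agent.OddCyclic.RedMain
import Cfsg.Agent.OddCyclic.RedCtx
import Cfsg.Agent.OddCyclic.FFSec
import Cfsg.Agent.OddCyclic.EmpFrame

/-!
# S0342, (C2): the context from the minimal counterexample, and (Empty)

* `ctx_of`: `RedCtx.Ctx S` for a simple nonabelian group `G` of characteristic 2 type with cyclic odd Sylow subgroups and
  `SecZero G`;
* `emp_of`: no blocks over `bau S` and no 2-local of type `bc`: `EmpFrame.EMP S`.
-/

set_option autoImplicit false

namespace Cfsg.Agent.OddCyclic.RedEmp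

open Subgroup Cfsg Cfsg.Agent.ZN Cfsg.Agent.ZN.ChoiceBase Cfsg.Agent.MinSimple Cfsg.Agent.MinSimple.DBlkApi
open Cfsg.Agent.OddCyclic.RedTy Cfsg.Agent.OddCyclic.RedCtx
open Cfsg.Agent.OddCyclic.RedX (mod Loc IsB)
open Cfsg.Agent.OddCyclic.COneDefs (LBlk)
open Cfsg.Agent.OddCyclic.T1Defs (OddCyc)
open Cfsg.Agent.OddCyclic.CompStart (SecZero)

universe u

variable {G : Type u} [Group G] [Finite G]

theorem core_bot [IsSimpleGroup G] (hna : ∃ a b : G, a * b ≠ b * a) {R : Subgroup G} (hR : IsPGroup 2 R)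
    (hn : R.Normal) : R = ⊥ := by
  rcases hn.eq_bot_or_eq_top with h | h
  · exact h
  exfalso
  have hf : Fact (Nat.Prime 2) := ⟨Nat.prime_two⟩
  subst h
  have h1 : IsPGroup 2 G := hR.of_surjective (Subgroup.topEquiv (G := G)).toMonoidHom (Subgroup.topEquiv (G := G)).surjective
  have := h1.isNilpotent
  obtain ⟨a, b, hab⟩ := hna
  have hn' : Nontrivial G := ⟨⟨a * b, b * a, hab⟩⟩
  rcases (inferInstance : (center G).Normal).eq_bot_or_eq_top with h | h
  · exact h1.bot_lt_center.ne' h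
  · exact hab ((mem_center_iff.1 (h ▸ mem_top a : a ∈ center G) b).symm)

/-- **The context of the reduction.** -/
theorem ctx_of [IsSimpleGroup G] (hna : ∃ a b : G, a * b ≠ b * a) (hc : OddCyc G) (hs : SecZero G)
    (h2 : IsCharacteristicTwoType G) (S : Sylow 2 G) : Ctx S where
  cyc := hc
  char2 := h2
  core := fun _ hR hn => core_bot hna hR hn
  ty := fun _ _ _ hX hY => RedMain.ty_of_yc hc hY fun _ _ f hf => FFSec.ffc hc hs hX f hf

/-- **(Empty)**: `J` centralises all 2-reduced normal subgroups. -/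
theorem emp_of {S : Sylow 2 G} (c : Ctx S) (hd : ∀ (L : Subgroup G) (k : ℕ), ¬ IsDBlk (bau (S : Subgroup G)) L k)
    (hl : ∀ (L : Subgroup G) (q : ℕ), ¬ LBlk (bau (S : Subgroup G)) L q)
    (hbc : ∀ X T Y L : Subgroup G, X ≠ ⊤ → bau (S : Subgroup G) ≤ T → YC X T Y → ¬ BcY X T Y L) :
    EmpFrame.EMP (S : Subgroup G) := by
  intro X T Y hX hc2 hTX hT hTs hBT hY hXY hD
  have hloc : Loc X T := ⟨hc2, hT, hTX, hTs⟩
  have hyc := yc_sup hloc hY hXY hD
  have hXt : X ≠ ⊤ := by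
    rintro rfl
    exact hX (c.core _ (Block.o2_isPGroup _) (normalizer_eq_top_iff.1 (top_le_iff.1 (Block.le_normalizer_o2 _))))
  have hb := SamePt.bau_eq S hT hBT
  have hj := SamePt.jj_eq S hT hBT
  rw [← hj]
  have hdT : ∀ (L : Subgroup G) (k : ℕ), ¬ IsDBlk (bau T) L k := by rw [hb]; exact hd
  cases c.ty X T _ hXt hyc with
  | zero h => exact h.trans (centralizer_le (le_sup_left : Y ≤ Y ⊔ mod X T))
  | tri V h => obtain ⟨L, k, -, h1, -⟩ := h.blk; exact absurd h1 (hdT L k)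
  | sev N V z h => obtain ⟨L, k, -, h1, -⟩ := h.blk; exact absurd h1 (hdT L k)
  | fiv U φ e h => obtain ⟨L, k, -, h1, -⟩ := h.blk₁; exact absurd h1 (hdT L k)
  | lin L q h => exact absurd (hb ▸ h.blk) (hl L q)
  | bc L h => exact absurd h (hbc X T _ L hXt hBT hyc)

end Cfsg.Agent.OddCyclic.RedEmp
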