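import Cfsg.Agent.OddCyclic.RedEmp
import Cfsg.Agent.OddCyclic.EmpWeak

/-!
# S0342, (C2): the weak form `EmpWeak.EMPW` of (Empty), without the type `bc`
-/

set_option autoImplicit false

namespace Cfsg.Agent.OddCyclic.RedEmpW

open Subgroup Cfsg Cfsg.Agent.ZN Cfsg.Agent.ZN.ChoiceBase Cfsg.Agent.MinSimple Cfsg.Agent.MinSimple.DBlkApi
open Cfsg.Agent.OddCyclic.RedTy Cfsg.Agent.OddCyclic.RedCtx
open Cfsg.Agent.OddCyclic.RedX (mod Loc IsB)
open Cfsg.Agent.OddCyclic.COneDefs (LBlk)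
open Cfsg.Agent.OddCyclic.EmpWeak

universe u

variable {G : Type u} [Group G] [Finite G]

/-- `EMPW` from: no blocks over `bau S` -/
theorem empw_of {S : Sylow 2 G} (c : Ctx S) (hd : ∀ (L : Subgroup G) (k : ℕ), ¬ IsDBlk (bau (S : Subgroup G)) L k)
    (hl : ∀ (L : Subgroup G) (q : ℕ), ¬ LBlk (bau (S : Subgroup G)) L q) : EMPW (S : Subgroup G) := by
  intro X T Y hX hc2 hTX hT hTs hBT hY hXY hD
  have hloc : Loc X T := ⟨hc2, hT, hTX, hTs⟩
  have hyc := yc_sup hloc hY hXY hD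
  have hXt : X ≠ ⊤ := by
    rintro rfl
    exact hX (c.core _ (Block.o2_isPGroup _) (normalizer_eq_top_iff.1 (top_le_iff.1 (Block.le_normalizer_o2 _))))
  have hb := SamePt.bau_eq S hT hBT
  have hj := SamePt.jj_eq S hT hBT
  rw [← hj]
  have hdT : ∀ (L : Subgroup G) (k : ℕ), ¬ IsDBlk (bau T) L k := by rw [hb]; exact hd
  cases c.ty X T _ hXt hyc with
  | zero h => exact Or.inl (h.trans (centralizer_le (le_sup_left : Y ≤ Y ⊔ mod X T)))
  | tri V h => obtain ⟨L, k, -, h1, -⟩ := h.blk; exact absurd h1 (hdT L k)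
  | sev N V z h => obtain ⟨L, k, -, h1, -⟩ := h.blk; exact absurd h1 (hdT L k)
  | fiv U φ e h => obtain ⟨L, k, -, h1, -⟩ := h.blk₁; exact absurd h1 (hdT L k)
  | lin L q h => exact absurd (hb ▸ h.blk) (hl L q)
  | bc L h => exact Or.inr ⟨L, h⟩

end Cfsg.Agent.OddCyclic.RedEmpW
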