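import Mathlib

/-!
# Facts on `S₅`
-/

set_option autoImplicit false

namespace Cfsg.Agent.OddCyclic.RedPerm

open Equiv Equiv.Perm

theorem swapType {σ : Perm (Fin 5)} (h : σ.IsSwap) : σ.cycleType = {2} := by
  rw [h.isCycle.cycleType, card_support_eq_two.2 h]

theorem exists_three {σ : Perm (Fin 5)} (h : orderOf σ = 3) :
    ∃ a b c : Fin 5, a ≠ b ∧ b ≠ c ∧ a ≠ c ∧ σ = swap a b * swap b c := by
  obtain ⟨n, hn⟩ := cycleType_prime_order (σ := σ) (by rw [h]; exact Nat.prime_three)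
  rw [h] at hn
  have h1 := sum_cycleType σ
  have h2 : σ.support.card ≤ 5 := (Finset.card_le_univ _).trans (by simp)
  rw [hn, Multiset.sum_replicate, smul_eq_mul] at h1
  have h3 : n = 0 := by omega
  subst h3
  have h4 : σ.cycleType = (swap (0 : Fin 5) 1 * swap 1 2).cycleType := by
    have h5 : (swap (0 : Fin 5) 1 * swap 1 2).IsThreeCycle := by
      rw [swap_comm 0 1]
      exact isThreeCycle_swap_mul_swap_same (by decide) (by decide) (by decide)
    rw [hn]
    exact h5.symm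
  obtain ⟨τ, hτ⟩ := isConj_iff.1 (isConj_iff_cycleType_eq.2 h4.symm)
  refine ⟨τ 0, τ 1, τ 2, τ.injective.ne (by decide), τ.injective.ne (by decide), τ.injective.ne (by decide), ?_⟩
  rw [swap_apply_apply, swap_apply_apply, ← hτ]
  group

theorem exists_two {σ : Perm (Fin 5)} (h : orderOf σ = 2) :
    (∃ a b : Fin 5, a ≠ b ∧ σ = swap a b) ∨
      ∃ a b c d : Fin 5, a ≠ b ∧ a ≠ c ∧ a ≠ d ∧ b ≠ c ∧ b ≠ d ∧ c ≠ d ∧ σ = swap a b * swap c d := by
  obtain ⟨n, hn⟩ := cycleType_prime_order (σ := σ) (by rw [h]; exact Nat.prime_two)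
  rw [h] at hn
  have h1 := sum_cycleType σ
  have h2 : σ.support.card ≤ 5 := (Finset.card_le_univ _).trans (by simp)
  rw [hn, Multiset.sum_replicate, smul_eq_mul] at h1
  have h3 : n = 0 ∨ n = 1 := by omega
  rcases h3 with rfl | rfl
  · left
    have h5 : (swap (0 : Fin 5) 1).IsSwap := ⟨0, 1, by decide, rfl⟩
    have h4 : σ.cycleType = (swap (0 : Fin 5) 1).cycleType := by
      rw [hn, swapType h5]
      rfl
    obtain ⟨τ, hτ⟩ := isConj_iff.1 (isConj_iff_cycleType_eq.2 h4.symm)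
    exact ⟨τ 0, τ 1, τ.injective.ne (by decide), by rw [swap_apply_apply, ← hτ]⟩
  · right
    have h5 : (swap (0 : Fin 5) 1).IsSwap := ⟨0, 1, by decide, rfl⟩
    have h6 : (swap (2 : Fin 5) 3).IsSwap := ⟨2, 3, by decide, rfl⟩
    have h7 : Disjoint (swap (0 : Fin 5) 1) (swap 2 3) := by
      intro x
      fin_cases x
      · right; decide
      · right; decide
      · left; decide
      · left; decide
      · left; decide
    have h4 : σ.cycleType = (swap (0 : Fin 5) 1 * swap 2 3).cycleType := by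
      rw [hn, h7.cycleType_mul, swapType h5, swapType h6]
      rfl
    obtain ⟨τ, hτ⟩ := isConj_iff.1 (isConj_iff_cycleType_eq.2 h4.symm)
    refine ⟨τ 0, τ 1, τ 2, τ 3, τ.injective.ne (by decide), τ.injective.ne (by decide), τ.injective.ne (by decide),
      τ.injective.ne (by decide), τ.injective.ne (by decide), τ.injective.ne (by decide), ?_⟩
    rw [swap_apply_apply, swap_apply_apply, ← hτ]
    group

theorem closure_eq_top : Subgroup.closure ({swap 0 1, swap 1 2, swap 2 3, swap 3 4} : Set (Perm (Fin 5))) = ⊤ := by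
  rw [eq_top_iff]
  have h1 := mclosure_swap_castSucc_succ 4
  intro x _
  have h2 : x ∈ Submonoid.closure (Set.range fun i : Fin 4 ↦ swap i.castSucc i.succ) := by
    rw [h1]; trivial
  have h3 : (Set.range fun i : Fin 4 ↦ swap i.castSucc i.succ) ⊆
      (Subgroup.closure ({swap 0 1, swap 1 2, swap 2 3, swap 3 4} : Set (Perm (Fin 5))) : Set (Perm (Fin 5))) := by
    rintro _ ⟨i, rfl⟩
    apply Subgroup.subset_closure
    fin_cases i
    · left; rfl
    · right; left; rfl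
    · right; right; left; rfl
    · right; right; right; rfl
  exact (Submonoid.closure_le (S := (Subgroup.closure
    ({swap 0 1, swap 1 2, swap 2 3, swap 3 4} : Set (Perm (Fin 5)))).toSubmonoid)).2 h3 h2

theorem exists_not_comm {D : Subgroup (Perm (Fin 5))} (hD : Nat.card D = 8) {i j : Fin 5} (hij : i ≠ j) :
    ∃ g ∈ D, g * swap i j ≠ swap i j * g := by
  by_contra hcon
  push Not at hcon
  have h1 : D ≤ Subgroup.centralizer {swap i j} := fun g hg => by
    rw [Subgroup.mem_centralizer_singleton_iff]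
    exact hcon g hg
  have h2 := Subgroup.card_dvd_of_le h1
  have h3 : (swap i j).IsSwap := ⟨i, j, hij, rfl⟩
  rw [hD, nat_card_centralizer, swapType h3] at h2
  simp at h2
  revert h2
  decide

theorem exists_perm {i j k l : Fin 5} (h1 : i ≠ j) (h2 : i ≠ k) (h3 : i ≠ l) (h4 : j ≠ k) (h5 : j ≠ l) (h6 : k ≠ l) :
    ∃ σ : Perm (Fin 5), σ 0 = i ∧ σ 1 = j ∧ σ 2 = k ∧ σ 3 = l := by
  obtain ⟨m, hm⟩ : ∃ m : Fin 5, m ∉ ({i, j, k, l} : Finset (Fin 5)) := by
    by_contra hcon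
    push Not at hcon
    have h7 : (Finset.univ : Finset (Fin 5)) ⊆ {i, j, k, l} := fun x _ => hcon x
    have h8 := Finset.card_le_card h7
    have h9 : ({i, j, k, l} : Finset (Fin 5)).card ≤ 4 := Finset.card_le_four
    simp at h8
    omega
  simp only [Finset.mem_insert, Finset.mem_singleton, not_or] at hm
  obtain ⟨m1, m2, m3, m4⟩ := hm
  have hinj : Function.Injective ![i, j, k, l, m] := by
    intro x y hxy
    fin_cases x <;> fin_cases y <;> simp_all [eq_comm]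
  refine ⟨Equiv.ofBijective _ (Finite.injective_iff_bijective.1 hinj), ?_, ?_, ?_, ?_⟩ <;> rfl

theorem order_three {σ : Perm (Fin 5)} (h : ∃ k : ℕ, σ ^ 3 ^ k = 1) (h1 : σ ≠ 1) : orderOf σ = 3 := by
  obtain ⟨k, hk⟩ := h
  obtain ⟨m, -, hm⟩ := (Nat.dvd_prime_pow Nat.prime_three).1 (orderOf_dvd_of_pow_eq_one hk)
  have h2 : orderOf σ ∣ 120 := by
    have h3 := orderOf_dvd_natCard σ
    rw [Nat.card_perm, Nat.card_eq_fintype_card, Fintype.card_fin] at h3
    exact h3
  rw [hm] at h2 ⊢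
  rcases m with _ | _ | m
  · rw [pow_zero, orderOf_eq_one_iff] at hm
    exact absurd hm h1
  · norm_num
  · exfalso
    have h3 : 3 ^ 2 ∣ 120 := (pow_dvd_pow 3 (by omega)).trans h2
    revert h3
    decide

/-- the triples invariant under `(0 1)` and `(2 3)` -/
theorem triple : ∀ a b c : Fin 5, a ≠ b → b ≠ c → a ≠ c →
    ({a, b, c} : Finset (Fin 5)).image (swap 0 1) ⊆ {a, b, c} →
    ({a, b, c} : Finset (Fin 5)).image (swap 2 3) ⊆ {a, b, c} →
    ({a, b, c} : Finset (Fin 5)) = {0, 1, 4} ∨ ({a, b, c} : Finset (Fin 5)) = {2, 3, 4} := by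
  decide

theorem fifth {a b c d x y : Fin 5} (hab : a ≠ b) (hac : a ≠ c) (had : a ≠ d) (hbc : b ≠ c) (hbd : b ≠ d)
    (hcd : c ≠ d) (hx : x ∉ ({a, b, c, d} : Finset (Fin 5))) (hy : y ∉ ({a, b, c, d} : Finset (Fin 5))) : x = y := by
  have h1 : ({a, b, c, d} : Finset (Fin 5)).card = 4 := by
    rw [Finset.card_insert_of_notMem, Finset.card_insert_of_notMem, Finset.card_pair hcd]
    · simp [hbc, hbd]
    · simp [hab, hac, had]
  have h2 : ({a, b, c, d} : Finset (Fin 5))ᶜ.card ≤ 1 := by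
    rw [Finset.card_compl, h1, Fintype.card_fin]
  exact Finset.card_le_one.1 h2 x (Finset.mem_compl.2 hx) y (Finset.mem_compl.2 hy)

theorem perm_cases {β : Perm (Fin 5)} {a b c d : Fin 5} (hab : a ≠ b) (hac : a ≠ c) (had : a ≠ d) (hbc : b ≠ c)
    (hbd : b ≠ d) (hcd : c ≠ d) (h1 : (β a = a ∧ β b = b) ∨ (β a = b ∧ β b = a))
    (h2 : (β c = c ∧ β d = d) ∨ (β c = d ∧ β d = c)) :
    β = 1 ∨ β = swap a b ∨ β = swap c d ∨ β = swap a b * swap c d := by
  have hfix : ∀ x : Fin 5, x ≠ a → x ≠ b → x ≠ c → x ≠ d → β x = x := by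
    intro x hxa hxb hxc hxd
    refine fifth hab hac had hbc hbd hcd ?_ (by simp [hxa, hxb, hxc, hxd])
    simp only [Finset.mem_insert, Finset.mem_singleton, not_or]
    have key : ∀ y z : Fin 5, β y = z → x ≠ y → β x ≠ z := fun y z h hxy h' =>
      hxy (β.injective (h'.trans h.symm))
    rcases h1 with ⟨h1, h1'⟩ | ⟨h1, h1'⟩ <;> rcases h2 with ⟨h2, h2'⟩ | ⟨h2, h2'⟩
    · exact ⟨key _ _ h1 hxa, key _ _ h1' hxb, key _ _ h2 hxc, key _ _ h2' hxd⟩
    · exact ⟨key _ _ h1 hxa, key _ _ h1' hxb, key _ _ h2' hxd, key _ _ h2 hxc⟩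
    · exact ⟨key _ _ h1' hxb, key _ _ h1 hxa, key _ _ h2 hxc, key _ _ h2' hxd⟩
    · exact ⟨key _ _ h1' hxb, key _ _ h1 hxa, key _ _ h2' hxd, key _ _ h2 hxc⟩
  have hall : ∀ τ : Perm (Fin 5), τ a = β a → τ b = β b → τ c = β c → τ d = β d →
      (∀ x : Fin 5, x ≠ a → x ≠ b → x ≠ c → x ≠ d → τ x = x) → β = τ := by
    intro τ t1 t2 t3 t4 t5
    ext x
    congr 1
    by_cases hxa : x = a
    · rw [hxa, t1]
    by_cases hxb : x = b
    · rw [hxb, t2]
    by_cases hxc : x = c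
    · rw [hxc, t3]
    by_cases hxd : x = d
    · rw [hxd, t4]
    rw [hfix x hxa hxb hxc hxd, t5 x hxa hxb hxc hxd]
  rcases h1 with ⟨h1, h1'⟩ | ⟨h1, h1'⟩ <;> rcases h2 with ⟨h2, h2'⟩ | ⟨h2, h2'⟩
  · left
    refine hall 1 ?_ ?_ ?_ ?_ fun x _ _ _ _ => rfl
    · rw [h1]; rfl
    · rw [h1']; rfl
    · rw [h2]; rfl
    · rw [h2']; rfl
  · right; right; left
    refine hall _ ?_ ?_ ?_ ?_ fun x _ _ hxc hxd => swap_apply_of_ne_of_ne hxc hxd
    · rw [h1, swap_apply_of_ne_of_ne hac had]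
    · rw [h1', swap_apply_of_ne_of_ne hbc hbd]
    · rw [h2, swap_apply_left]
    · rw [h2', swap_apply_right]
  · right; left
    refine hall _ ?_ ?_ ?_ ?_ fun x hxa hxb _ _ => swap_apply_of_ne_of_ne hxa hxb
    · rw [h1, swap_apply_left]
    · rw [h1', swap_apply_right]
    · rw [h2, swap_apply_of_ne_of_ne (Ne.symm hac) (Ne.symm hbc)]
    · rw [h2', swap_apply_of_ne_of_ne (Ne.symm had) (Ne.symm hbd)]
  · right; right; right
    refine hall _ ?_ ?_ ?_ ?_ fun x hxa hxb hxc hxd => by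
      rw [Perm.mul_apply, swap_apply_of_ne_of_ne hxc hxd, swap_apply_of_ne_of_ne hxa hxb]
    · rw [h1, Perm.mul_apply, swap_apply_of_ne_of_ne hac had, swap_apply_left]
    · rw [h1', Perm.mul_apply, swap_apply_of_ne_of_ne hbc hbd, swap_apply_right]
    · rw [h2, Perm.mul_apply, swap_apply_left, swap_apply_of_ne_of_ne (Ne.symm had) (Ne.symm hbd)]
    · rw [h2', Perm.mul_apply, swap_apply_right, swap_apply_of_ne_of_ne (Ne.symm hac) (Ne.symm hbc)]

end Cfsg.Agent.OddCyclic.RedPerm
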