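import Cfsg.Agent.OddCyclic.RedFam
import Cfsg.Agent.OddCyclic.RedPerm

/-!
# S0342, (C2), 2.2: the type `S₅`

`FD ρ e`: `e : K ≃* S₅`, the transpositions of `K ≤ H` are transvections on `V`, `K' ⊴ H`. There are vectors `s i`
(`i : Fin 5`) of `V`, permuted by `H` (`φ : H →* S₅`), with `s i * s j` the centre of the transposition `(i j)`,
`∏ s i = 1` and `V = ⟨s i⟩ × C_V(K)`.
-/

set_option autoImplicit false

namespace Cfsg.Agent.OddCyclic.RedFive

open Subgroup Equiv Equiv.Perm
open Cfsg.Agent.OddCyclic.T1Module Cfsg.Agent.OddCyclic.FFBasic Cfsg.Agent.OddCyclic.FFRed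
open Cfsg.Agent.OddCyclic.RedFFDefs Cfsg.Agent.OddCyclic.RedFam
open Cfsg.Agent.OddCyclic.T1Defs (OddCyc)

universe u

variable {H : Type u} [Group H] {V : Type u} [CommGroup V]

theorem rho_mul (ρ : H →* MulAut V) (a b : H) (v : V) : ρ (a * b) v = ρ a (ρ b v) := by
  rw [map_mul, MulAut.mul_apply]

theorem rho_inv_cancel (ρ : H →* MulAut V) (a : H) (v : V) : ρ a⁻¹ (ρ a v) = v := by
  rw [← rho_mul, inv_mul_cancel, map_one]; rfl

theorem rho_cancel_inv (ρ : H →* MulAut V) (a : H) (v : V) : ρ a (ρ a⁻¹ v) = v := by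
  rw [← rho_mul, mul_inv_cancel, map_one]; rfl

theorem ext_of_inj {ρ : H →* MulAut V} (hi : Function.Injective ρ) {a b : H} (h : ∀ v, ρ a v = ρ b v) : a = b :=
  hi (MulEquiv.ext h)

/-- the centre of a transvection -/
theorem transv [Finite V] {ρ : H →* MulAut V} {t : H} (h2 : (fx ρ t).index = 2) :
    ∃ c : V, c ≠ 1 ∧ (∀ v, ρ t v = v ∨ ρ t v = c * v) ∧ ∃ v, ρ t v = c * v := by
  have h1 : Nat.card (cm ρ t).range = 2 := by rw [card_range_cm, h2]
  have h3 : (cm ρ t).range ≠ ⊥ := by
    intro h0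
    rw [h0, card_bot] at h1
    norm_num at h1
  obtain ⟨⟨c, hc⟩, hc1⟩ := Subgroup.ne_bot_iff_exists_ne_one.1 h3
  have hc1' : c ≠ 1 := fun h => hc1 (Subtype.ext h)
  refine ⟨c, hc1', fun v => ?_, ?_⟩
  · by_contra hcon
    push Not at hcon
    have h4 : cm ρ t v ∈ (cm ρ t).range := ⟨v, rfl⟩
    have h5 : cm ρ t v ≠ 1 := by
      rw [cm_apply, ne_eq, mul_inv_eq_one]
      exact hcon.1
    have h6 : cm ρ t v ≠ c := by
      intro h
      apply hcon.2
      rw [← h, cm_apply]; group
    have h7 : ({1, c, cm ρ t v} : Set V) ⊆ ((cm ρ t).range : Set V) := by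
      rintro x (rfl | rfl | rfl)
      · exact one_mem _
      · exact hc
      · exact h4
    have h8 := Set.ncard_le_ncard h7 (Set.toFinite _)
    have h9 : ({1, c, cm ρ t v} : Set V).ncard = 3 := by
      rw [Set.ncard_eq_three]
      exact ⟨1, c, cm ρ t v, Ne.symm hc1', Ne.symm h5, Ne.symm h6, rfl⟩
    have h10 : ((cm ρ t).range : Set V).ncard = 2 := h1
    omega
  · obtain ⟨v, hv⟩ := hc
    refine ⟨v, ?_⟩
    rw [← hv, cm_apply]; group

/-- `K ≅ S₅` generated by transvections -/
structure FD (ρ : H →* MulAut V) {K : Subgroup H} (e : K ≃* Perm (Fin 5)) : Prop where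
  sq : ∀ v : V, v * v = 1
  inj : Function.Injective ρ
  alt : (((alternatingGroup (Fin 5)).comap e.toMonoidHom).map K.subtype).Normal
  tv : ∀ i j : Fin 5, i ≠ j → (fx ρ (e.symm (swap i j) : H)).index = 2

/-- the transposition `(i j)` -/
def tr {K : Subgroup H} (e : K ≃* Perm (Fin 5)) (i j : Fin 5) : H := (e.symm (swap i j) : H)

/-- the vectors `s i` -/
structure Vec (ρ : H →* MulAut V) {K : Subgroup H} (e : K ≃* Perm (Fin 5)) (s : Fin 5 → V) : Prop where
  sq : ∀ v : V, v * v = 1
  act : ∀ (k : K) (i : Fin 5), ρ k (s i) = s (e k i)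
  inj : Function.Injective s
  ne_one : ∀ i, s i ≠ 1
  prod : s 0 * s 1 * s 2 * s 3 * s 4 = 1
  ne : ∀ i j k, j ≠ k → s i ≠ s j * s k
  tv : ∀ i j, i ≠ j → ∀ v, ρ (tr e i j) v = v ∨ ρ (tr e i j) v = s i * s j * v

theorem FD.exists_c [Finite V] {ρ : H →* MulAut V} {K : Subgroup H} {e : K ≃* Perm (Fin 5)} (h : FD ρ e) :
    ∃ c : Fin 5 → Fin 5 → V, (∀ i, c i i = 1) ∧ (∀ i j, i ≠ j → c i j ≠ 1) ∧ (∀ i j, c i j = c j i) ∧
      (∀ (k : K) i j, ρ k (c i j) = c (e k i) (e k j)) ∧
      ∀ i j, i ≠ j → ∀ v, ρ (tr e i j) v = v ∨ ρ (tr e i j) v = c i j * v := by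
  classical
  have h1 : ∀ i j : Fin 5, ∃ c : V, (i = j → c = 1) ∧ (i ≠ j → c ≠ 1 ∧
      (∀ v, ρ (tr e i j) v = v ∨ ρ (tr e i j) v = c * v) ∧ ∃ v, ρ (tr e i j) v = c * v) := by
    intro i j
    by_cases hij : i = j
    · exact ⟨1, fun _ => rfl, fun h => absurd hij h⟩
    · obtain ⟨c, hc⟩ := transv (ρ := ρ) (h.tv i j hij)
      exact ⟨c, fun h => absurd h hij, fun _ => hc⟩
  choose c hc1 hc2 using h1
  have huniq : ∀ i j, i ≠ j → ∀ x : V, ∀ v : V, x ≠ 1 → ρ (tr e i j) v = x * v → x = c i j := by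
    intro i j hij x v hx hv
    rcases (hc2 i j hij).2.1 v with h3 | h3
    · rw [h3] at hv
      exact absurd (mul_eq_right.1 hv.symm) hx
    · rw [h3] at hv
      exact (mul_right_cancel hv).symm
  refine ⟨c, fun i => hc1 i i rfl, fun i j hij => (hc2 i j hij).1, ?_, ?_, fun i j hij => (hc2 i j hij).2.1⟩
  · intro i j
    by_cases hij : i = j
    · rw [hij]
    · obtain ⟨h4, h5, v, hv⟩ := hc2 i j hij
      apply huniq j i (Ne.symm hij) _ v h4
      rw [tr, swap_comm j i]
      exact hv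
  · intro k i j
    by_cases hij : i = j
    · rw [hc1 i j hij, hc1 (e k i) (e k j) (by rw [hij]), map_one]
    · obtain ⟨h4, h5, v, hv⟩ := hc2 i j hij
      have hij' : e k i ≠ e k j := (e k).injective.ne hij
      apply huniq (e k i) (e k j) hij' _ (ρ k v)
      · intro h6
        exact h4 ((map_eq_one_iff (ρ k) (MulEquiv.injective _)).1 h6)
      · have h6 : tr e (e k i) (e k j) = k * tr e i j * (k : H)⁻¹ := by
          rw [tr, tr, swap_apply_apply, map_mul, map_mul, map_inv, e.symm_apply_apply]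
          rfl
        rw [h6, rho_mul, rho_mul, rho_inv_cancel, hv, map_mul]

theorem FD.exists_s [Finite V] {ρ : H →* MulAut V} {K : Subgroup H} {e : K ≃* Perm (Fin 5)} (h : FD ρ e) :
    ∃ s : Fin 5 → V, Vec ρ e s := by
  obtain ⟨c, hself, hne, hsymm, heq, htv⟩ := h.exists_c
  have hinv : ∀ v : V, v⁻¹ = v := fun v => inv_eq_of_mul_eq_one_left (h.sq v)
  have het : ∀ i j : Fin 5, e ⟨tr e i j, (e.symm (swap i j)).2⟩ = swap i j := fun i j => by
    have : (⟨tr e i j, (e.symm (swap i j)).2⟩ : K) = e.symm (swap i j) := rfl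
    rw [this, e.apply_symm_apply]
  have heqt : ∀ i j a b : Fin 5, ρ (tr e i j) (c a b) = c (swap i j a) (swap i j b) := by
    intro i j a b
    have := heq ⟨tr e i j, (e.symm (swap i j)).2⟩ a b
    rwa [het] at this
  -- different pairs with a common index have different centres
  have hcne : ∀ i j k, i ≠ j → i ≠ k → j ≠ k → c i j ≠ c i k := by
    intro i j k hij hik hjk hc
    have h1 : tr e i j * tr e i k = tr e i k * tr e i j := by
      apply ext_of_inj h.inj
      intro v
      have hf1 : ρ (tr e i j) (c i j) = c i j := by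
        rw [heqt, swap_apply_left, swap_apply_right, hsymm]
      have hf2 : ρ (tr e i k) (c i j) = c i j := by
        rw [hc, heqt, swap_apply_left, swap_apply_right, hsymm]
      rw [rho_mul, rho_mul]
      rcases htv i j hij v with h1 | h1 <;> rcases htv i k hik v with h2 | h2 <;> rw [h1, h2]
      · exact h1
      · rw [← hc, map_mul, hf1, h1]
      · rw [map_mul, hf2, h2]; exact h1.symm ▸ rfl
      · rw [← hc, map_mul, map_mul, hf1, hf2, h1, h2, ← hc]
    have h2 : e.symm (swap i j) * e.symm (swap i k) = e.symm (swap i k) * e.symm (swap i j) := Subtype.ext h1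
    rw [← map_mul, ← map_mul] at h2
    have h3 := e.symm.injective h2
    have h4 := congrArg (fun σ : Perm (Fin 5) => σ i) h3
    simp only [Perm.mul_apply, swap_apply_left] at h4
    rw [swap_apply_of_ne_of_ne (Ne.symm hik) (Ne.symm hjk), swap_apply_of_ne_of_ne (Ne.symm hij) hjk] at h4
    exact hjk h4.symm
  have hmul : ∀ i j k, c i j * c j k = c i k := by
    intro i j k
    by_cases hij : i = j
    · rw [hij, hself, one_mul]
    by_cases hjk : j = k
    · rw [hjk, hself, mul_one]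
    by_cases hik : i = k
    · rw [hik, hself, hsymm k j, h.sq]
    have h1 : ρ (tr e j k) (c i j) = c i k := by
      rw [heqt, swap_apply_left, swap_apply_of_ne_of_ne hij hik]
    rcases htv j k hjk (c i j) with h2 | h2
    · rw [h2] at h1
      exact absurd h1 (hcne i j k hij hik hjk)
    · rw [h2, mul_comm] at h1
      exact h1
  -- the vectors
  let s : Fin 5 → V := fun i => ∏ j, c i j
  have hs0 : ∀ i, s i = c i 0 * s 0 := by
    intro i
    have h1 : s i = ∏ j, (c i 0 * c 0 j) := Finset.prod_congr rfl fun j _ => (hmul i 0 j).symm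
    rw [h1, Finset.prod_mul_distrib, Finset.prod_const, Finset.card_univ, Fintype.card_fin]
    congr 1
    have : c i 0 ^ 5 = (c i 0 * c i 0) * (c i 0 * c i 0) * c i 0 := by
      simp only [pow_succ, pow_zero, one_mul, mul_assoc]
    rw [this, h.sq, one_mul]
  have hsc : ∀ i j, s i * s j = c i j := by
    intro i j
    rw [hs0 i, hs0 j, hsymm j 0]
    calc c i 0 * s 0 * (c 0 j * s 0) = (c i 0 * c 0 j) * (s 0 * s 0) := mul_mul_mul_comm _ _ _ _
      _ = c i j := by rw [h.sq, mul_one, hmul]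
  have hact : ∀ (k : K) (i : Fin 5), ρ k (s i) = s (e k i) := by
    intro k i
    change ρ k (∏ j, c i j) = ∏ j, c (e k i) j
    rw [map_prod]
    have h1 : ∀ j, ρ k (c i j) = c (e k i) (e k j) := fun j => heq k i j
    rw [Finset.prod_congr rfl fun j _ => h1 j]
    exact Equiv.prod_comp (e k) fun j => c (e k i) j
  have hinj : Function.Injective s := by
    intro i j hij
    by_contra hne'
    apply hne i j hne'
    rw [← hsc, hij, h.sq]
  have hne1 : ∀ i, s i ≠ 1 := by
    intro i hi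
    have h1 : ∀ j, s j = 1 := by
      intro j
      have h2 := hact (e.symm (swap i j)) i
      rw [hi, map_one, e.apply_symm_apply, swap_apply_left] at h2
      exact h2.symm
    have h2 : (0 : Fin 5) = 1 := hinj ((h1 0).trans (h1 1).symm)
    exact absurd h2 (by decide)
  refine ⟨s, h.sq, hact, hinj, hne1, ?_, ?_, fun i j hij v => ?_⟩
  · have h1 : s 0 = c 0 1 * c 0 2 * c 0 3 * c 0 4 := by
      change ∏ j, c 0 j = _
      rw [Fin.prod_univ_five, hself, one_mul]
    have h2 : s 0 * s 1 * s 2 * s 3 * s 4 = (s 0 * s 1) * (s 0 * s 2) * (s 0 * s 3) * (s 0 * s 4) * s 0 := by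
      have h3 := h.sq (s 0)
      calc s 0 * s 1 * s 2 * s 3 * s 4 = (s 0 * s 1 * s 2 * s 3 * s 4) * ((s 0 * s 0) * (s 0 * s 0)) := by
            rw [h3, mul_one, mul_one]
        _ = (s 0 * s 1) * (s 0 * s 2) * (s 0 * s 3) * (s 0 * s 4) * s 0 := by
            simp only [mul_comm, mul_left_comm, mul_assoc]
    rw [h2, hsc, hsc, hsc, hsc, ← h1, h.sq]
  · intro i j k hjk hc
    -- a transposition `(k l)` with `l ∉ {i, j, k}`
    by_cases hij : i = j
    · rw [hij] at hc
      exact hne1 k (mul_eq_left.1 hc.symm)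
    by_cases hik : i = k
    · rw [hik] at hc
      exact hne1 j (mul_eq_right.1 hc.symm)
    obtain ⟨l, hl⟩ : ∃ l : Fin 5, l ∉ ({i, j, k} : Finset (Fin 5)) := by
      by_contra hcon
      push Not at hcon
      have h7 : (Finset.univ : Finset (Fin 5)) ⊆ {i, j, k} := fun x _ => hcon x
      have h8 := Finset.card_le_card h7
      have h9 : ({i, j, k} : Finset (Fin 5)).card ≤ 3 := Finset.card_le_three
      simp at h8
      omega
    simp only [Finset.mem_insert, Finset.mem_singleton, not_or] at hl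
    obtain ⟨l1, l2, l3⟩ := hl
    have h1 := congrArg (fun v => ρ (e.symm (swap k l) : H) v) hc
    simp only [map_mul, hact, e.apply_symm_apply] at h1
    rw [swap_apply_of_ne_of_ne hik (Ne.symm l1), swap_apply_of_ne_of_ne hjk (Ne.symm l2), swap_apply_left] at h1
    have h2 : s k = s l := mul_left_cancel (hc.symm.trans h1)
    exact l3 (hinj h2).symm
  · rw [hsc]
    exact htv i j hij v

end Cfsg.Agent.OddCyclic.RedFive
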