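import Cfsg.Agent.OddCyclic.RedFiveB
import Cfsg.Agent.OddCyclic.RedTy
import Cfsg.Agent.OddCyclic.T1Sl2
import Cfsg.Agent.WeakTI.PslTwo
import Cfsg.Agent.TwoFusion.SLTwoFacts

/-!
# S0342, (C2), 2.2: the type `S₅`, the offenders and the planes
-/

set_option autoImplicit false

namespace Cfsg.Agent.OddCyclic.RedFive

open Subgroup Equiv Equiv.Perm
open Cfsg.Agent.OddCyclic.T1Module Cfsg.Agent.OddCyclic.FFBasic Cfsg.Agent.OddCyclic.FFRed
open Cfsg.Agent.OddCyclic.RedFFDefs Cfsg.Agent.OddCyclic.RedFam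
open Cfsg.Agent.OddCyclic.T1Defs (OddCyc)

universe u

variable {H : Type u} [Group H] {V : Type u} [CommGroup V] {ρ : H →* MulAut V} {K : Subgroup H}
  {e : K ≃* Perm (Fin 5)} {s : Fin 5 → V} {φ : H →* Perm (Fin 5)}

/-- `e : K ≃ S₅` with the vectors `s i` permuted by `φ : H → S₅` -/
structure Fv (ρ : H →* MulAut V) {K : Subgroup H} (e : K ≃* Perm (Fin 5)) (s : Fin 5 → V) (φ : H →* Perm (Fin 5)) :
    Prop extends Vec ρ e s where
  ri : Function.Injective ρ
  nl : (L0 e).Normal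
  phi : ∀ g i, ρ g (s i) = s (φ g i)
  phiK : ∀ k : K, φ k = e k

theorem Fv.conj (h : Fv ρ e s φ) (g : H) (σ : Perm (Fin 5)) :
    g * (e.symm σ : H) * g⁻¹ = (e.symm (φ g * σ * (φ g)⁻¹) : H) := by
  refine h.toVec.ext h.ri h.phi ?_ ?_
  · rw [map_mul, map_mul, map_inv, h.phiK, h.phiK, e.apply_symm_apply, e.apply_symm_apply]
  · intro v hv
    rw [rho_mul, rho_mul, (mem_CS _ _ _).1 (h.toVec.CS_inv h.nl g⁻¹ hv) _ (e.symm σ).2, rho_cancel_inv,
      (mem_CS _ _ _).1 hv _ (e.symm _).2]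

theorem Fv.normal (h : Fv ρ e s φ) : K.Normal := ⟨fun k hk g => by
  have h1 := h.conj g (e ⟨k, hk⟩)
  rw [e.symm_apply_apply] at h1
  change g * k * g⁻¹ ∈ K
  change g * k * g⁻¹ = _ at h1
  rw [h1]
  exact (e.symm _).2⟩

theorem Fv.conj_tr (h : Fv ρ e s φ) (g : H) (i j : Fin 5) : g * tr e i j * g⁻¹ = tr e (φ g i) (φ g j) := by
  rw [tr, h.conj, ← swap_apply_apply]; rfl

theorem Fv.three_mem [Finite H] (h : Fv ρ e s φ) (hc : OddCyc H) {x : H} (hx : ∃ k : ℕ, x ^ 3 ^ k = 1) :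
    x ∈ L0 e := by
  have h1 : tr e 0 1 * tr e 1 2 = (e.symm (swap 0 1 * swap 1 2) : H) := by rw [map_mul]; rfl
  have h2 : tr e 0 1 * tr e 3 4 = (e.symm (swap 0 1 * swap 3 4) : H) := by rw [map_mul]; rfl
  refine CaseAAlpha.mem_of_inverted hc Nat.prime_three (by norm_num) (tr_mul_mem (e := e) (a := 0) (b := 1) (c := 1)
    (d := 2) (by decide) (by decide)) (tr_mul_mem (e := e) (a := 0) (b := 1) (c := 3) (d := 4) (by decide) (by decide))
    (order_tr (by decide) (by decide) (by decide)) ?_ ?_ hx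
  · rw [h1, h2]
    have h3 : (swap 0 1 * swap 3 4) * (swap 0 1 * swap 1 2) * (swap 0 1 * swap 3 4)⁻¹ =
      (swap (0 : Fin 5) 1 * swap 1 2)⁻¹ := by decide
    have h4 := congrArg (fun σ => (e.symm σ : H)) h3
    simp only [map_mul, map_inv, Subgroup.coe_mul, Subgroup.coe_inv] at h4 ⊢
    exact h4
  · have := h.nl
    rw [normalizer_eq_top]; trivial

/-- the product of two different pairs is not a single -/
theorem Vec.pair_eq (h : Vec ρ e s) {i j k l : Fin 5} (hij : i ≠ j)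
    (he : s i * s j = s k * s l) : (i = k ∧ j = l) ∨ (i = l ∧ j = k) := by
  by_cases hik : i = k
  · left
    refine ⟨hik, ?_⟩
    rw [hik] at he
    exact h.inj (mul_left_cancel he)
  by_cases hjk : j = k
  · right
    refine ⟨?_, hjk⟩
    rw [hjk, mul_comm] at he
    exact h.inj (mul_left_cancel he)
  exfalso
  obtain ⟨a, b, hab, -, -, h1⟩ := h.three hij hik hjk
  rw [he, mul_comm (s k) (s l), mul_assoc, h.sq, mul_one] at h1
  exact h.ne l a b hab h1

/-- a transvection of `H` not centralising `K'` is a transposition of `K` -/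
theorem Fv.transv_mem [Finite V] (h : Fv ρ e s φ) {t : H} (h2 : (fx ρ t).index = 2)
    (hn : ∃ x ∈ L0 e, t * x ≠ x * t) : ∃ a b, a ≠ b ∧ t = tr e a b := by
  obtain ⟨c, hc1, hc, v₀, hv₀⟩ := transv h2
  have hcc : ρ t c = c := by
    rcases hc c with h3 | h3
    · exact h3
    · exfalso
      rw [h.sq] at h3
      exact hc1 ((map_eq_one_iff (ρ t) (MulEquiv.injective _)).1 h3)
  have ht2 : t * t = 1 := by
    apply ext_of_inj h.ri
    intro v
    rw [rho_mul, map_one]
    rcases hc v with h3 | h3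
    · rw [h3, h3]; rfl
    · rw [h3, map_mul, hcc, h3, ← mul_assoc, h.sq, one_mul]; rfl
  have hφ1 : φ t ≠ 1 := by
    intro h0
    obtain ⟨x, hx, hx'⟩ := hn
    obtain ⟨σ, -, rfl⟩ := of_mem_L0 hx
    have h3 := h.conj t σ
    rw [h0, one_mul, inv_one, mul_one] at h3
    exact hx' (mul_inv_eq_iff_eq_mul.1 h3)
  have hφ2 : orderOf (φ t) = 2 := by
    rw [orderOf_eq_prime_iff]
    exact ⟨by rw [pow_two, ← map_mul, ht2, map_one], hφ1⟩
  have hcen : ∀ i, φ t i ≠ i → c = s (φ t i) * s i := by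
    intro i hi
    rcases hc (s i) with h3 | h3
    · rw [h.phi] at h3
      exact absurd (h.inj h3) hi
    · rw [h.phi] at h3
      rw [h3, mul_assoc, h.sq, mul_one]
  rcases RedPerm.exists_two hφ2 with ⟨a, b, hab, hs⟩ | ⟨a, b, c', d, hab, hac, had, hbc, hbd, hcd, hs⟩
  · refine ⟨a, b, hab, h.toVec.ext h.ri h.phi ?_ ?_⟩
    · rw [tr, h.phiK, e.apply_symm_apply, hs]
    · intro v hv
      have h4 : ρ (tr e a b) v = v := (mem_CS _ _ _).1 hv _ (e.symm _).2
      rw [h4]
      rcases hc v with h3 | h3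
      · exact h3
      · exfalso
        have h5 : c ∈ CS ρ K := by
          have h6 := h.toVec.CS_inv h.nl t hv
          rw [h3] at h6
          exact (Subgroup.mul_mem_cancel_right _ hv).1 h6
        have h7 : c ∈ uu s := by
          rw [hcen a (by rw [hs, swap_apply_left]; exact Ne.symm hab)]
          exact mul_mem (s_mem s _) (s_mem s _)
        exact hc1 (h.toVec.disj h7 h5)
  · exfalso
    have h3 := hcen a (by
      rw [hs, Perm.mul_apply, swap_apply_of_ne_of_ne hac had, swap_apply_left]; exact Ne.symm hab)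
    have h4 := hcen c' (by
      rw [hs, Perm.mul_apply, swap_apply_left, swap_apply_of_ne_of_ne (Ne.symm had) (Ne.symm hbd)]; exact Ne.symm hcd)
    rw [hs, Perm.mul_apply, swap_apply_of_ne_of_ne hac had, swap_apply_left] at h3
    rw [hs, Perm.mul_apply, swap_apply_left, swap_apply_of_ne_of_ne (Ne.symm had) (Ne.symm hbd)] at h4
    rcases h.toVec.pair_eq (Ne.symm hab) (h3.symm.trans h4) with ⟨h5, h6⟩ | ⟨h5, h6⟩
    · exact hbd h5
    · exact hbc h5

/-- transpositions of a 2-subgroup are equal or disjoint -/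
theorem tr_disj {T : Subgroup H} (hT : IsPGroup 2 T) {a b c d : Fin 5} (hab : a ≠ b) (hcd : c ≠ d)
    (h1 : tr e a b ∈ T) (h2 : tr e c d ∈ T) : swap a b = swap c d ∨ (a ≠ c ∧ a ≠ d ∧ b ≠ c ∧ b ≠ d) := by
  have key : ∀ a b d : Fin 5, a ≠ b → b ≠ d → tr e a b ∈ T → tr e b d ∈ T → a = d := by
    intro a b d hab hbd h1 h2
    by_contra had
    have h3 := order_tr (e := e) hab hbd had
    obtain ⟨n, hn⟩ := hT ⟨_, mul_mem h1 h2⟩
    have h4 : (tr e a b * tr e b d) ^ 2 ^ n = 1 := congrArg Subtype.val hn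
    have h5 := orderOf_dvd_of_pow_eq_one h4
    rw [h3] at h5
    have h6 := Nat.prime_three.dvd_of_dvd_pow h5
    norm_num at h6
  have hcomm : ∀ a b : Fin 5, tr e a b = tr e b a := fun a b => by rw [tr, tr, swap_comm]
  by_cases hac : a = c
  · left
    subst hac
    have := key b a d (Ne.symm hab) hcd (by rw [hcomm]; exact h1) h2
    rw [this]
  by_cases had : a = d
  · left
    subst had
    have := key b a c (Ne.symm hab) (Ne.symm hcd) (by rw [hcomm]; exact h1) (by rw [hcomm]; exact h2)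
    rw [this, swap_comm]
  by_cases hbc : b = c
  · left
    subst hbc
    have := key a b d hab hcd h1 h2
    rw [this, swap_comm]
  by_cases hbd : b = d
  · left
    subst hbd
    have := key a b c hab (Ne.symm hcd) h1 (by rw [hcomm]; exact h2)
    rw [this]
  right
  exact ⟨hac, had, hbc, hbd⟩

theorem tr_inj {a b c d : Fin 5} (h : tr e a b = tr e c d) : swap a b = swap c d :=
  e.symm.injective (Subtype.ext h)

/-! ### relabelling -/

/-- the relabelled isomorphism -/
def rel (e : K ≃* Perm (Fin 5)) (σ : Perm (Fin 5)) : K ≃* Perm (Fin 5) := e.trans (MulAut.conj σ⁻¹)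

theorem rel_apply (e : K ≃* Perm (Fin 5)) (σ : Perm (Fin 5)) (k : K) : rel e σ k = σ⁻¹ * e k * σ := by
  change σ⁻¹ * e k * (σ⁻¹)⁻¹ = _
  rw [inv_inv]

theorem rel_symm (e : K ≃* Perm (Fin 5)) (σ τ : Perm (Fin 5)) : (rel e σ).symm τ = e.symm (σ * τ * σ⁻¹) := by
  rw [MulEquiv.symm_apply_eq, rel_apply, e.apply_symm_apply]
  group

theorem rel_tr (e : K ≃* Perm (Fin 5)) (σ : Perm (Fin 5)) (i j : Fin 5) : tr (rel e σ) i j = tr e (σ i) (σ j) := by
  rw [tr, tr, rel_symm, ← swap_apply_apply]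

theorem rel_L0 (e : K ≃* Perm (Fin 5)) (σ : Perm (Fin 5)) : L0 (rel e σ) = L0 e := by
  ext x
  constructor
  · rintro hx
    obtain ⟨τ, hτ, rfl⟩ := of_mem_L0 hx
    rw [rel_symm]
    exact mem_L0 ((inferInstance : (alternatingGroup (Fin 5)).Normal).conj_mem τ hτ σ)
  · intro hx
    obtain ⟨τ, hτ, rfl⟩ := of_mem_L0 hx
    have h1 : ((rel e σ).symm (σ⁻¹ * τ * σ) : H) = (e.symm τ : H) := by
      rw [rel_symm]
      congr 3
      group
    rw [← h1]
    refine mem_L0 ?_
    have := (inferInstance : (alternatingGroup (Fin 5)).Normal).conj_mem τ hτ σ⁻¹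
    rwa [inv_inv] at this

theorem Fv.relabel (h : Fv ρ e s φ) (σ : Perm (Fin 5)) :
    Fv ρ (rel e σ) (s ∘ σ) ((MulAut.conj σ⁻¹).toMonoidHom.comp φ) where
  sq := h.sq
  act := fun k i => by
    rw [Function.comp_apply, h.act, rel_apply, Function.comp_apply, Perm.mul_apply, Perm.mul_apply]
    exact congrArg s (σ.apply_symm_apply _).symm
  inj := h.inj.comp σ.injective
  ne_one := fun i => h.ne_one _
  prod := by
    have h1 := Equiv.prod_comp σ s
    rw [h.toVec.univ, Fin.prod_univ_five] at h1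
    exact h1
  ne := fun i j k hjk => h.ne _ _ _ (σ.injective.ne hjk)
  tv := fun i j hij v => by
    rw [rel_tr]
    exact h.tv _ _ (σ.injective.ne hij) v
  ri := h.ri
  nl := by rw [rel_L0]; exact h.nl
  phi := fun g i => by
    change ρ g (s (σ i)) = s (σ ((σ⁻¹ * φ g * (σ⁻¹)⁻¹) i))
    rw [h.phi, inv_inv, Perm.mul_apply, Perm.mul_apply]
    exact congrArg s (σ.apply_symm_apply _).symm
  phiK := fun k => by
    change σ⁻¹ * φ k * (σ⁻¹)⁻¹ = _
    rw [rel_apply, inv_inv, h.phiK]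

/-! ### the family of offenders -/

/-- every member of `𝒜` is generated by transpositions -/
def Gen (𝒜 : Set (Subgroup H)) (e : K ≃* Perm (Fin 5)) : Prop :=
  ∀ A ∈ 𝒜, A ≤ closure {t | t ∈ A ∧ ∃ i j : Fin 5, i ≠ j ∧ t = tr e i j}

/-- `K' ≃ A₅` -/
noncomputable def isoL0 (e : K ≃* Perm (Fin 5)) : alternatingGroup (Fin 5) ≃* L0 e :=
  (MulEquiv.subgroupMap e.symm (alternatingGroup (Fin 5))).trans
    (((MulEquiv.subgroupCongr (by
      ext x
      constructor
      · rintro ⟨y, hy, rfl⟩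
        change e (e.symm y) ∈ alternatingGroup (Fin 5)
        rw [e.apply_symm_apply]; exact hy
      · intro hx
        exact ⟨e x, hx, e.symm_apply_apply x⟩) :
        (alternatingGroup (Fin 5)).map (e.symm : Perm (Fin 5) →* K) ≃*
          (alternatingGroup (Fin 5)).comap e.toMonoidHom).trans
      (Subgroup.equivMapOfInjective _ K.subtype K.subtype_injective)))

theorem card_L0 : Nat.card (L0 e) = 60 := by
  rw [← Nat.card_congr (isoL0 e).toEquiv, nat_card_alternatingGroup, Nat.card_eq_fintype_card, Fintype.card_fin]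
  rfl

theorem simple_L0 : IsSimpleGroup (L0 e) := (isoL0 e).symm.isSimpleGroup

theorem three_dvd_L0 : 3 ∣ Nat.card (L0 e) := by
  rw [card_L0]; decide

theorem simple_sl {F : Type} [Field F] [Fintype F] [CharP F 2] (h4 : 4 ≤ Fintype.card F) {L : Subgroup H}
    (f : L ≃* Matrix.SpecialLinearGroup (Fin 2) F) : IsSimpleGroup L := by
  have hs : IsSimpleGroup (Matrix.ProjectiveSpecialLinearGroup (Fin 2) F) :=
    Cfsg.Agent.TwoFusion.SLTwoFacts.isSimpleGroup_psl (by omega)
  obtain ⟨g⟩ := Cfsg.Agent.WeakTI.PslTwo.nonempty_equiv (F := F)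
  exact (f.trans g).isSimpleGroup

theorem three_dvd_sl {F : Type} [Field F] [Fintype F] [CharP F 2] (h4 : 4 ≤ Fintype.card F) :
    3 ∣ Nat.card (Matrix.SpecialLinearGroup (Fin 2) F) := by
  rw [T1Sl2.card_sl2]
  obtain ⟨q, hq⟩ : ∃ q, Fintype.card F = q + 1 := ⟨Fintype.card F - 1, by omega⟩
  rw [hq, Nat.add_sub_cancel]
  have h1 : q % 3 = 0 ∨ q % 3 = 1 ∨ q % 3 = 2 := by omega
  rcases h1 with h1 | h1 | h1
  · exact Dvd.dvd.mul_left (Nat.dvd_of_mod_eq_zero h1) _
  · exact Dvd.dvd.mul_right (Dvd.dvd.mul_right (Nat.dvd_of_mod_eq_zero (by omega)) _) _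
  · exact Dvd.dvd.mul_right (Dvd.dvd.mul_left (Nat.dvd_of_mod_eq_zero (by omega)) _) _

section fam

variable [Finite H] [Finite V] {T : Subgroup H} {𝒜 : Set (Subgroup H)}

/-- no `SL₂(q)` besides `S₅` -/
theorem not_lin (h : Fv ρ e s φ) (hc : OddCyc H) {A : Subgroup H} (hB : BO ρ A) (hA : OutLin ρ A) : False := by
  obtain ⟨L, hL, hAL, F, _, _, _, h4, ⟨f⟩, hcA, hiL, hiA, hfix⟩ := hA
  have hLe : L = L0 e := simple_unique hc hL h.nl (simple_sl h4 f) simple_L0
    (by rw [Nat.card_congr f.toEquiv]; exact three_dvd_sl h4) three_dvd_L0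
  -- `q = 4`
  have hq : Fintype.card F = 4 := by
    have h1 : Nat.card L = 60 := by rw [hLe, card_L0]
    rw [Nat.card_congr f.toEquiv, T1Sl2.card_sl2] at h1
    obtain ⟨q, hq⟩ : ∃ q, Fintype.card F = q + 4 := ⟨Fintype.card F - 4, by omega⟩
    rw [hq] at h1 ⊢
    have h2 : q + 4 - 1 = q + 3 := by omega
    rw [h2] at h1
    rcases Nat.eq_zero_or_pos q with h3 | h3
    · rw [h3]
    · exfalso
      have h5 : (1 + 4 + 1) * (1 + 4) * (1 + 3) ≤ (q + 4 + 1) * (q + 4) * (q + 3) := by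
        gcongr <;> omega
      omega
  rw [hq] at hcA
  have hAl : A ≤ L0 e := hLe ▸ hAL
  -- an element `a ≠ 1` of `A`
  have hA1 : A ≠ ⊥ := by
    intro h0
    rw [h0, card_bot] at hcA
    norm_num at hcA
  obtain ⟨⟨a, ha⟩, ha1⟩ := Subgroup.ne_bot_iff_exists_ne_one.1 hA1
  have ha1' : a ≠ 1 := fun h => ha1 (Subtype.ext h)
  have hfa : ∀ b ∈ A, ∀ v, ρ a v = v → ρ b v = v := by
    intro b hb v hv
    have h1 : v ∈ fx ρ a := hv
    rw [hfix a ha ha1'] at h1
    exact (mem_CS _ _ _).1 h1 b hb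
  obtain ⟨σ, hσ, hσa⟩ := of_mem_L0 (hAl ha)
  have hφa : φ a = σ := by rw [hσa, h.phiK, e.apply_symm_apply]
  have hσ1 : σ ≠ 1 := by
    rintro rfl
    rw [map_one] at hσa
    exact ha1' hσa
  have hσ2 : orderOf σ = 2 := by
    rw [orderOf_eq_prime_iff, ← hφa, pow_two, ← map_mul, hB.sq a ha, map_one]
    exact ⟨rfl, by rw [hφa]; exact hσ1⟩
  rcases RedPerm.exists_two hσ2 with ⟨x, y, hxy, rfl⟩ | ⟨x, y, z, w, hxy, hxz, hxw, hyz, hyw, hzw, rfl⟩
  · rw [mem_alternatingGroup, sign_swap hxy] at hσ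
    exact absurd hσ (by decide)
  -- all elements of `A` are `1` or `a`
  have hall : ∀ b ∈ A, b = 1 ∨ b = a := by
    intro b hb
    obtain ⟨β, hβ, hβb⟩ := of_mem_L0 (hAl hb)
    have hφb : φ b = β := by rw [hβb, h.phiK, e.apply_symm_apply]
    have h1 : ρ b (s x * s y) = s x * s y := hfa b hb _ (by
      rw [map_mul, h.phi, h.phi, hφa, Perm.mul_apply, Perm.mul_apply, swap_apply_of_ne_of_ne hxz hxw,
        swap_apply_of_ne_of_ne hyz hyw, swap_apply_left, swap_apply_right, mul_comm])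
    have h2 : ρ b (s z * s w) = s z * s w := hfa b hb _ (by
      rw [map_mul, h.phi, h.phi, hφa, Perm.mul_apply, Perm.mul_apply, swap_apply_left, swap_apply_right,
        swap_apply_of_ne_of_ne (Ne.symm hxw) (Ne.symm hyw), swap_apply_of_ne_of_ne (Ne.symm hxz) (Ne.symm hyz),
        mul_comm])
    rw [map_mul, h.phi, h.phi, hφb] at h1 h2
    have h3 := h.toVec.pair_eq (β.injective.ne hxy) h1
    have h4 := h.toVec.pair_eq (β.injective.ne hzw) h2
    rcases RedPerm.perm_cases hxy hxz hxw hyz hyw hzw h3 h4 with h5 | h5 | h5 | h5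
    · left; rw [hβb, h5, map_one]; rfl
    · exfalso
      rw [h5, mem_alternatingGroup, sign_swap hxy] at hβ
      exact absurd hβ (by decide)
    · exfalso
      rw [h5, mem_alternatingGroup, sign_swap hzw] at hβ
      exact absurd hβ (by decide)
    · right; rw [hβb, h5, ← hσa]
  have h6 : (A : Set H) ⊆ {1, a} := fun b hb => hall b hb
  have h7 := Set.ncard_le_ncard h6 (Set.toFinite _)
  have h8 : ({1, a} : Set H).ncard = 2 := Set.ncard_pair (Ne.symm ha1')
  have h9 : (A : Set H).ncard = 4 := hcA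
  omega

/-- all members of `𝒜` are generated by transpositions -/
theorem gen (h : Fv ρ e s φ) (hF : Fam ρ T 𝒜) : Gen 𝒜 e := by
  intro A hA
  by_cases hA1 : A = ⊥
  · rw [hA1]; exact bot_le
  rcases hF.out A hA hA1 with ⟨y, hy, hyn, -⟩ | hL | ⟨K', hAK, e', hn', htv', hgen'⟩ | ⟨L, hL, hAL, hLs, hLc⟩
  · exfalso
    have h1 := card_eq_three_of hF.cyc h.nl simple_L0 three_dvd_L0 hy hyn
    rw [card_L0] at h1
    norm_num at h1
  · exact (not_lin h hF.cyc (hF.bo A hA) hL).elim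
  · have hn'' : (L0 e').Normal := hn'
    have hLe : L0 e' = L0 e := simple_unique hF.cyc hn'' h.nl simple_L0 simple_L0 three_dvd_L0 three_dvd_L0
    refine hgen'.trans (closure_mono ?_)
    rintro t ⟨htA, i, j, hij, rfl⟩
    refine ⟨htA, ?_⟩
    refine h.transv_mem (htv' i j hij) ?_
    -- a 3-cycle of `K''` not commuting with `(i j)`
    obtain ⟨k, hk⟩ : ∃ k : Fin 5, k ∉ ({i, j} : Finset (Fin 5)) := by
      by_contra hcon
      push Not at hcon
      have h8 := Finset.card_le_card (fun x (_ : x ∈ Finset.univ) => hcon x)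
      have h9 : ({i, j} : Finset (Fin 5)).card ≤ 2 := Finset.card_le_two
      simp at h8
      omega
    simp only [Finset.mem_insert, Finset.mem_singleton, not_or] at hk
    refine ⟨tr e' i j * tr e' j k, by rw [← hLe]; exact tr_mul_mem hij (Ne.symm hk.2), ?_⟩
    intro h5
    have h6 : e'.symm (swap i j) * (e'.symm (swap i j) * e'.symm (swap j k)) =
        (e'.symm (swap i j) * e'.symm (swap j k)) * e'.symm (swap i j) := Subtype.ext h5
    rw [← map_mul, ← map_mul, ← map_mul, e'.symm.injective.eq_iff] at h6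
    have h7 := congrArg (fun σ : Perm (Fin 5) => σ i) h6
    simp only [Perm.mul_apply, swap_apply_left] at h7
    rw [swap_apply_of_ne_of_ne hij (Ne.symm hk.1), swap_apply_left, swap_apply_right,
      swap_apply_of_ne_of_ne hk.1 hk.2] at h7
    exact hk.1 h7.symm
  · exfalso
    have h1 := simple_unique hF.cyc hL h.nl hLs simple_L0 (by rw [hLc]; decide) three_dvd_L0
    rw [h1, card_L0] at hLc
    norm_num at hLc

end fam

end Cfsg.Agent.OddCyclic.RedFive
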