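import Cfsg.Agent.OddCyclic.CompStandard

/-!
# S0342, (C2), (5.3): two planes, `C(z₁)` of type `(L3a)`: the group theoretic core

`Dat z₁ z₂ s N V₁ V₂ L`: `C(z₁)` normalises the elementary abelian group `N` of order 8, transitively on `N#`,
`s` exchanges `z₁` and `z₂ ∈ V₂ ≤ N`, `z₁ ∈ V₁ ≤ sNs⁻¹`, `N` and `sNs⁻¹` commute, `L ≤ C(z₁)` normalises `V₂` and
`V₁V₂`, transitively on `V₂#`.
`Dat.exists_normal`: `⟨C(z₁), s⟩` normalises an elementary abelian 2-group `W ≥ N`.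
-/

set_option autoImplicit false

namespace Cfsg.Agent.OddCyclic.RedFiveThree

open Subgroup Cfsg.Agent.OddCyclic.CompStandard

variable {G : Type*} [Group G]

structure Dat (z₁ z₂ s : G) (N V₁ V₂ L : Subgroup G) : Prop where
  s1 : s * z₁ * s⁻¹ = z₂
  s2 : s * z₂ * s⁻¹ = z₁
  norm : centralizer ({z₁} : Set G) ≤ normalizer (N : Set G)
  card : Nat.card N = 8
  sq : ∀ x ∈ N, x * x = 1
  edge : ∀ x ∈ N, ∀ y ∈ cj s N, x * y = y * x
  trans : ∀ v ∈ N, v ≠ 1 → ∃ c ∈ centralizer ({z₁} : Set G), c * z₂ * c⁻¹ = v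
  V2N : V₂ ≤ N
  card2 : Nat.card V₂ = 4
  z2V : z₂ ∈ V₂
  V1N : V₁ ≤ cj s N
  card1 : Nat.card V₁ = 4
  Lle : L ≤ centralizer ({z₁} : Set G)
  LV : L ≤ normalizer (V₂ : Set G)
  LU : L ≤ normalizer ((V₁ ⊔ V₂ : Subgroup G) : Set G)
  Ltr : ∀ v ∈ V₂, v ≠ 1 → ∃ l ∈ L, l * z₂ * l⁻¹ = v
  move : ∃ x ∈ centralizer ({z₁} : Set G) ⊓ centralizer ({z₂} : Set G), x ∉ normalizer (V₁ : Set G)

theorem comm_of_sq {N : Subgroup G} (h : ∀ x ∈ N, x * x = 1) {x y : G} (hx : x ∈ N) (hy : y ∈ N) :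
    x * y = y * x := by
  have h1 : x⁻¹ = x := inv_eq_of_mul_eq_one_left (h x hx)
  have h2 : y⁻¹ = y := inv_eq_of_mul_eq_one_left (h y hy)
  have h3 : (x * y)⁻¹ = x * y := inv_eq_of_mul_eq_one_left (h _ (N.mul_mem hx hy))
  rw [← h3, mul_inv_rev, h1, h2]

theorem comm_conj {g x y : G} (h : x * y = y * x) : (g * x * g⁻¹) * (g * y * g⁻¹) = (g * y * g⁻¹) * (g * x * g⁻¹) := by
  calc (g * x * g⁻¹) * (g * y * g⁻¹) = g * (x * y) * g⁻¹ := by group
    _ = g * (y * x) * g⁻¹ := by rw [h]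
    _ = _ := by group

/-- `A` and `B` commute -/
def Cm (A B : Subgroup G) : Prop := ∀ x ∈ A, ∀ y ∈ B, x * y = y * x

theorem Cm.symm {A B : Subgroup G} (h : Cm A B) : Cm B A := fun x hx y hy => (h y hy x hx).symm

theorem Cm.cj {A B : Subgroup G} (h : Cm A B) (g : G) : Cm (cj g A) (cj g B) := by
  rintro _ ⟨x, hx, rfl⟩ _ ⟨y, hy, rfl⟩
  exact comm_conj (h x hx y hy)

theorem Cm.mono {A B C D : Subgroup G} (h : Cm A B) (hC : C ≤ A) (hD : D ≤ B) : Cm C D :=
  fun x hx y hy => h x (hC hx) y (hD hy)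

theorem cm_iff {A B : Subgroup G} : Cm A B ↔ A ≤ centralizer (B : Set G) := by
  constructor
  · intro h x hx
    rw [mem_centralizer_iff]
    exact fun y hy => (h x hx y hy).symm
  · intro h x hx y hy
    exact (mem_centralizer_iff.mp (h hx) y hy).symm

theorem Cm.sup {A B C : Subgroup G} (h : Cm A C) (h' : Cm B C) : Cm (A ⊔ B) C := by
  rw [cm_iff] at h h' ⊢
  exact sup_le h h'

theorem cj_mem_cj {g x : G} {H : Subgroup G} (h : x ∈ H) : g * x * g⁻¹ ∈ cj g H := conj_mem_cj h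

theorem cj_sup (g : G) (A B : Subgroup G) : cj g (A ⊔ B) = cj g A ⊔ cj g B := Subgroup.map_sup _ _ _

variable [Finite G] {z₁ z₂ s : G} {N V₁ V₂ L : Subgroup G}

namespace Dat

theorem cj_N (d : Dat z₁ z₂ s N V₁ V₂ L) {c : G} (hc : c ∈ centralizer ({z₁} : Set G)) : cj c N = N :=
  cj_eq_iff.mpr (d.norm hc)

omit [Finite G] in
theorem z2N (d : Dat z₁ z₂ s N V₁ V₂ L) : z₂ ∈ N := d.V2N d.z2V

/-- `C(z₂)` normalises `sNs⁻¹` -/
theorem norm2 (d : Dat z₁ z₂ s N V₁ V₂ L) : centralizer ({z₂} : Set G) ≤ normalizer (cj s N : Set G) := by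
  have h1 := cj_mono (g := s) d.norm
  rwa [cj_centralizer_singleton, d.s1, cj_normalizer] at h1

theorem cj_N2 (d : Dat z₁ z₂ s N V₁ V₂ L) {c : G} (hc : c ∈ centralizer ({z₂} : Set G)) :
    cj c (cj s N) = cj s N := cj_eq_iff.mpr (d.norm2 hc)

omit [Finite G] in
/-- `sNs⁻¹` is abelian -/
theorem comm2 (d : Dat z₁ z₂ s N V₁ V₂ L) : Cm (cj s N) (cj s N) :=
  Cm.cj (fun _ hx _ hy => comm_of_sq d.sq hx hy) s

/-- `N` commutes with the conjugates of `sNs⁻¹` under `C(z₁)` -/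
theorem edge' (d : Dat z₁ z₂ s N V₁ V₂ L) {c : G} (hc : c ∈ centralizer ({z₁} : Set G)) :
    Cm N (cj c (cj s N)) := by
  have h1 : Cm N (cj s N) := d.edge
  have h2 := h1.cj c
  rwa [d.cj_N hc] at h2

/-- `V₁ ≤ V₁^y N` for `y ∈ L` -/
theorem le_sup (d : Dat z₁ z₂ s N V₁ V₂ L) {y : G} (hy : y ∈ L) : V₁ ≤ cj y V₁ ⊔ N := by
  have h1 : cj y (V₁ ⊔ V₂) = V₁ ⊔ V₂ := cj_eq_iff.mpr (d.LU hy)
  have h2 : cj y V₂ = V₂ := cj_eq_iff.mpr (d.LV hy)
  rw [cj_sup, h2] at h1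
  calc V₁ ≤ V₁ ⊔ V₂ := le_sup_left
    _ = cj y V₁ ⊔ V₂ := h1.symm
    _ ≤ cj y V₁ ⊔ N := sup_le_sup_left d.V2N _

/-- two planes of `N` meet -/
theorem exists_mem (d : Dat z₁ z₂ s N V₁ V₂ L) {c : G} (hc : c ∈ centralizer ({z₁} : Set G)) :
    ∃ v ∈ V₂, c * v * c⁻¹ ∈ V₂ ∧ v ≠ 1 := by
  by_contra hno
  push Not at hno
  have hdis : Disjoint V₂ (cj c V₂) := by
    rw [Subgroup.disjoint_def]
    intro x hx hx'
    obtain ⟨v, hv, rfl⟩ := hx'
    have h1 := hno v hv hx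
    rw [h1]
    exact map_one _
  have hinj := Subgroup.mul_injective_of_disjoint hdis
  have hcN : cj c V₂ ≤ N := by
    have := cj_mono (g := c) d.V2N
    rwa [d.cj_N hc] at this
  have h1 : Nat.card (V₂ × cj c V₂) ≤ Nat.card N := by
    refine Nat.card_le_card_of_injective (fun g => (⟨g.1 * g.2, N.mul_mem (d.V2N g.1.2) (hcN g.2.2)⟩ : N)) ?_
    intro a b hab
    exact hinj (congrArg Subtype.val hab)
  rw [Nat.card_prod, card_cj, d.card2, d.card] at h1
  omega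

/-- the conjugates of `V₁` under `C(z₁)` commute -/
theorem commV (d : Dat z₁ z₂ s N V₁ V₂ L) {c : G} (hc : c ∈ centralizer ({z₁} : Set G)) : Cm V₁ (cj c V₁) := by
  obtain ⟨v, hv, hcv, hv1⟩ := d.exists_mem hc
  obtain ⟨y', hy', hy2⟩ := d.Ltr v hv hv1
  have hne : c * v * c⁻¹ ≠ 1 := by
    intro h1
    apply hv1
    have : v = c⁻¹ * (c * v * c⁻¹) * c := by group
    rw [this, h1]; group
  obtain ⟨y, hy, hy1⟩ := d.Ltr _ hcv hne
  have hyC := d.Lle hy
  have hyC' : c * y' ∈ centralizer ({z₁} : Set G) := Subgroup.mul_mem _ hc (d.Lle hy')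
  -- `N_p`
  have hp : y⁻¹ * (c * y') ∈ centralizer ({z₂} : Set G) := by
    rw [mem_centralizer_singleton_iff]
    have h1 : (c * y') * z₂ * (c * y')⁻¹ = y * z₂ * y⁻¹ := by
      rw [hy1, ← hy2]; group
    calc y⁻¹ * (c * y') * z₂ = y⁻¹ * ((c * y') * z₂ * (c * y')⁻¹) * (c * y') := by group
      _ = z₂ * (y⁻¹ * (c * y')) := by rw [h1]; group
  have hN : cj (c * y') (cj s N) = cj y (cj s N) := by
    have h1 : c * y' = y * (y⁻¹ * (c * y')) := by group
    rw [h1, cj_mul, d.cj_N2 hp]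
  -- the two planes
  have hA : V₁ ≤ cj y V₁ ⊔ N := d.le_sup hy
  have hB : cj c V₁ ≤ cj (c * y') V₁ ⊔ N := by
    have h1 := cj_mono (g := c) (d.le_sup hy')
    rwa [cj_sup, d.cj_N hc, ← cj_mul] at h1
  have hAN : cj y V₁ ≤ cj y (cj s N) := cj_mono d.V1N
  have hBN : cj (c * y') V₁ ≤ cj y (cj s N) := by rw [← hN]; exact cj_mono d.V1N
  have h1 : Cm (cj y V₁) (cj (c * y') V₁) := (d.comm2.cj y).mono hAN hBN
  have h2 : Cm N (cj y V₁) := (d.edge' hyC).mono le_rfl hAN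
  have h3 : Cm N (cj (c * y') V₁) := (d.edge' hyC).mono le_rfl hBN
  have h4 : Cm N N := fun _ hx _ hy => comm_of_sq d.sq hx hy
  exact ((((h1.sup h3).symm).sup ((h2.symm.sup h4).symm)).symm).mono hA hB

/-- `sNs⁻¹` commutes with its conjugates under `C(z₁)` -/
theorem commN (d : Dat z₁ z₂ s N V₁ V₂ L) {c : G} (hc : c ∈ centralizer ({z₁} : Set G)) :
    Cm (cj s N) (cj c (cj s N)) := by
  obtain ⟨x, hx, hxV⟩ := d.move
  have hx1 : x ∈ centralizer ({z₁} : Set G) := hx.1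
  have hxN : cj x V₁ ≤ cj s N := by
    have := cj_mono (g := x) d.V1N
    rwa [d.cj_N2 hx.2] at this
  -- `sNs⁻¹ = V₁ V₁^x`
  have hsup : V₁ ⊔ cj x V₁ = cj s N := by
    have hle : V₁ ⊔ cj x V₁ ≤ cj s N := sup_le d.V1N hxN
    refine Subgroup.eq_of_le_of_card_ge hle ?_
    rw [card_cj, d.card]
    have h1 : Nat.card V₁ ∣ Nat.card (V₁ ⊔ cj x V₁ : Subgroup G) := Subgroup.card_dvd_of_le le_sup_left
    rw [d.card1] at h1
    have h2 : Nat.card (V₁ ⊔ cj x V₁ : Subgroup G) ≠ 4 := by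
      intro h3
      have h4 : V₁ = V₁ ⊔ cj x V₁ := Subgroup.eq_of_le_of_card_ge le_sup_left (by rw [h3, d.card1])
      apply hxV
      rw [← cj_eq_iff]
      refine Subgroup.eq_of_le_of_card_ge ?_ (by rw [card_cj])
      exact (le_sup_right : cj x V₁ ≤ V₁ ⊔ cj x V₁).trans h4.symm.le
    have h3 : 0 < Nat.card (V₁ ⊔ cj x V₁ : Subgroup G) := Nat.card_pos
    obtain ⟨k, hk⟩ := h1
    have : k ≠ 0 := by rintro rfl; omega
    have : k ≠ 1 := by rintro rfl; omega
    omega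
  have key : ∀ g ∈ centralizer ({z₁} : Set G), Cm (cj s N) (cj g V₁) := by
    intro g hg
    rw [← hsup]
    refine Cm.sup (d.commV hg) ?_
    have h1 := (d.commV (Subgroup.mul_mem _ (Subgroup.inv_mem _ hx1) hg)).cj x
    rwa [← cj_mul, mul_inv_cancel_left] at h1
  have h1 : cj c (cj s N) = cj c V₁ ⊔ cj (c * x) V₁ := by
    rw [← hsup, cj_sup, ← cj_mul]
  rw [h1]
  exact ((key c hc).symm.sup (key (c * x) (Subgroup.mul_mem _ hc hx1)).symm).symm

/-- products of `n` elements of `C(z₁) s C(z₁)` -/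
def Wd (z₁ s : G) : ℕ → G → Prop
  | 0, g => g ∈ centralizer ({z₁} : Set G)
  | n + 1, g => ∃ g' c : G, Wd z₁ s n g' ∧ c ∈ centralizer ({z₁} : Set G) ∧ g = g' * s * c

omit [Finite G] in
theorem wd_mul_right {n : ℕ} {g c : G} (h : Wd z₁ s n g) (hc : c ∈ centralizer ({z₁} : Set G)) :
    Wd z₁ s n (g * c) := by
  cases n with
  | zero => exact Subgroup.mul_mem _ h hc
  | succ n =>
    obtain ⟨g', c', h1, h2, rfl⟩ := h
    exact ⟨g', c' * c, h1, Subgroup.mul_mem _ h2 hc, by group⟩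

omit [Finite G] in
theorem wd_mul {m n : ℕ} {g h : G} (hg : Wd z₁ s m g) (hh : Wd z₁ s n h) : Wd z₁ s (m + n) (g * h) := by
  induction n generalizing h with
  | zero => exact wd_mul_right hg hh
  | succ n ih =>
    obtain ⟨h', c, h1, h2, rfl⟩ := hh
    exact ⟨g * h', c, ih h1, h2, by group⟩

omit [Finite G] in
theorem ss_mem (d : Dat z₁ z₂ s N V₁ V₂ L) : s * s ∈ centralizer ({z₁} : Set G) := by
  rw [mem_centralizer_singleton_iff]
  have h1 : (s * s) * z₁ * (s * s)⁻¹ = z₁ := by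
    calc (s * s) * z₁ * (s * s)⁻¹ = s * (s * z₁ * s⁻¹) * s⁻¹ := by group
      _ = z₁ := by rw [d.s1, d.s2]
  calc s * s * z₁ = ((s * s) * z₁ * (s * s)⁻¹) * (s * s) := by group
    _ = z₁ * (s * s) := by rw [h1]

omit [Finite G] in
theorem wd_inv (d : Dat z₁ z₂ s N V₁ V₂ L) {n : ℕ} {g : G} (h : Wd z₁ s n g) : Wd z₁ s n g⁻¹ := by
  induction n generalizing g with
  | zero => exact Subgroup.inv_mem _ h
  | succ n ih =>
    obtain ⟨g', c, h1, h2, rfl⟩ := h
    have h3 : Wd z₁ s 1 (c⁻¹ * s⁻¹) := by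
      refine ⟨c⁻¹ * (s * s)⁻¹, 1, Subgroup.mul_mem _ (Subgroup.inv_mem _ h2) (Subgroup.inv_mem _ d.ss_mem),
        Subgroup.one_mem _, by group⟩
    have h4 := wd_mul h3 (ih h1)
    rw [add_comm] at h4
    have h5 : (g' * s * c)⁻¹ = c⁻¹ * s⁻¹ * g'⁻¹ := by group
    rw [h5]
    exact h4

/-- `N` commutes with all its conjugates under `⟨C(z₁), s⟩` -/
theorem comm_wd (d : Dat z₁ z₂ s N V₁ V₂ L) (n : ℕ) : ∀ g : G, Wd z₁ s n g → Cm N (cj g N) := by
  induction n with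
  | zero =>
    intro g hg
    rw [d.cj_N hg]
    exact fun _ hx _ hy => comm_of_sq d.sq hx hy
  | succ n ih =>
    -- the point of `gNg⁻¹` is centralised by `N`
    have key : ∀ g : G, Wd z₁ s (n + 1) g → N ≤ centralizer ({g * z₁ * g⁻¹} : Set G) := by
      rintro g ⟨g', c, h1, h2, rfl⟩ x hx
      rw [mem_centralizer_singleton_iff]
      have h3 : (g' * s * c) * z₁ * (g' * s * c)⁻¹ = g' * z₂ * g'⁻¹ := by
        have h4 : c * z₁ * c⁻¹ = z₁ := by rw [mem_centralizer_singleton_iff.mp h2]; group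
        calc (g' * s * c) * z₁ * (g' * s * c)⁻¹ = g' * (s * (c * z₁ * c⁻¹) * s⁻¹) * g'⁻¹ := by group
          _ = g' * z₂ * g'⁻¹ := by rw [h4, d.s1]
      rw [h3]
      exact ih g' h1 x hx _ (conj_mem_cj d.z2N)
    intro g hg
    have hle : ∀ g : G, Wd z₁ s (n + 1) g → N ≤ normalizer (cj g N : Set G) := by
      intro g hg
      refine (key g hg).trans ?_
      have h1 := cj_mono (g := g) d.norm
      rwa [cj_centralizer_singleton, cj_normalizer] at h1
    have h1 := hle g hg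
    have h2 : cj g N ≤ normalizer (N : Set G) := by
      have h3 := cj_mono (g := g) (hle g⁻¹ (d.wd_inv hg))
      rwa [cj_normalizer, cj_cj_inv] at h3
    intro x hx y hy
    by_contra hne
    set r := x * y * x⁻¹ * y⁻¹ with hr
    have hr1 : r ≠ 1 := by
      intro h3
      apply hne
      have h4 : x * y = r * (y * x) := by rw [hr]; group
      rw [h4, h3, one_mul]
    have hrN : r ∈ N := by
      have h3 : y * x⁻¹ * y⁻¹ ∈ N := forall_of_mem_normalizer (h2 hy) _ (N.inv_mem hx)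
      have h4 : r = x * (y * x⁻¹ * y⁻¹) := by rw [hr]; group
      rw [h4]
      exact N.mul_mem hx h3
    have hrg : r ∈ cj g N := by
      have h3 : x * y * x⁻¹ ∈ cj g N := forall_of_mem_normalizer (h1 hx) _ hy
      exact (cj g N).mul_mem h3 ((cj g N).inv_mem hy)
    obtain ⟨c, hc, hcr⟩ := d.trans r hrN hr1
    have hrg' : g⁻¹ * r * g ∈ N := mem_cj.mp hrg
    obtain ⟨c', hc', hcr'⟩ := d.trans _ hrg' (by
      intro h3
      apply hr1
      have : r = g * (g⁻¹ * r * g) * g⁻¹ := by group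
      rw [this, h3]; group)
    -- `N = (cs) N₂`, `gNg⁻¹ = (gc's) N₂`
    have hss : ∀ u ∈ centralizer ({z₁} : Set G), cj (u * s) (cj s N) = N := by
      intro u hu
      rw [← cj_mul, mul_assoc]
      exact d.cj_N (Subgroup.mul_mem _ hu d.ss_mem)
    have e1 : (c * s) * z₁ * (c * s)⁻¹ = r := by
      calc (c * s) * z₁ * (c * s)⁻¹ = c * (s * z₁ * s⁻¹) * c⁻¹ := by group
        _ = r := by rw [d.s1, hcr]
    have e2 : (g * c' * s) * z₁ * (g * c' * s)⁻¹ = r := by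
      calc (g * c' * s) * z₁ * (g * c' * s)⁻¹ = g * (c' * (s * z₁ * s⁻¹) * c'⁻¹) * g⁻¹ := by group
        _ = g * (g⁻¹ * r * g) * g⁻¹ := by rw [d.s1, hcr']
        _ = r := by group
    have hd : (c * s)⁻¹ * (g * c' * s) ∈ centralizer ({z₁} : Set G) := by
      rw [mem_centralizer_singleton_iff]
      calc (c * s)⁻¹ * (g * c' * s) * z₁ = (c * s)⁻¹ * ((g * c' * s) * z₁ * (g * c' * s)⁻¹) * (g * c' * s) := by group
        _ = (c * s)⁻¹ * ((c * s) * z₁ * (c * s)⁻¹) * (g * c' * s) := by rw [e1, e2]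
        _ = z₁ * ((c * s)⁻¹ * (g * c' * s)) := by group
    have h3 := (d.commN hd).cj (c * s)
    rw [hss c hc, ← cj_mul, mul_inv_cancel_left] at h3
    have h4 : cj (g * c' * s) (cj s N) = cj g N := by
      rw [mul_assoc, cj_mul, hss c' hc']
    rw [h4] at h3
    exact hne (h3 x hx y hy)

/-- **(5.3)**, the core: `⟨C(z₁), s⟩` normalises an elementary abelian 2-group `W ≥ N`. -/
theorem exists_normal (d : Dat z₁ z₂ s N V₁ V₂ L) :
    ∃ W : Subgroup G, N ≤ W ∧ (∀ w ∈ W, w * w = 1) ∧ centralizer ({z₁} : Set G) ≤ normalizer (W : Set G) ∧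
      s ∈ normalizer (W : Set G) := by
  set H : Subgroup G := centralizer ({z₁} : Set G) ⊔ zpowers s with hH
  have hs : s ∈ H := mem_sup_right (mem_zpowers s)
  have hwd : ∀ g ∈ H, ∃ n, Wd z₁ s n g := by
    intro g hg
    rw [hH, ← Subgroup.closure_eq (centralizer ({z₁} : Set G)), Subgroup.zpowers_eq_closure,
      ← Subgroup.closure_union] at hg
    induction hg using Subgroup.closure_induction with
    | mem x hx =>
      rcases hx with hx | hx
      · exact ⟨0, hx⟩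
      · rw [Set.mem_singleton_iff] at hx
        rw [hx]
        exact ⟨1, 1, 1, Subgroup.one_mem _, Subgroup.one_mem _, by group⟩
    | one => exact ⟨0, Subgroup.one_mem _⟩
    | mul x y _ _ hx hy =>
      obtain ⟨m, hm⟩ := hx
      obtain ⟨n, hn⟩ := hy
      exact ⟨m + n, wd_mul hm hn⟩
    | inv x _ hx =>
      obtain ⟨m, hm⟩ := hx
      exact ⟨m, d.wd_inv hm⟩
  have hcm : ∀ g ∈ H, Cm N (cj g N) := by
    intro g hg
    obtain ⟨n, hn⟩ := hwd g hg
    exact d.comm_wd n g hn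
  set X : Set G := {x | ∃ g ∈ H, x ∈ cj g N} with hX
  have hXc : ∀ x ∈ X, ∀ y ∈ X, x * y = y * x := by
    rintro x ⟨g, hg, hx⟩ y ⟨g', hg', hy⟩
    have h1 := (hcm (g⁻¹ * g') (H.mul_mem (H.inv_mem hg) hg')).cj g
    rw [← cj_mul, mul_inv_cancel_left] at h1
    exact h1 x hx y hy
  have hWc : ∀ x ∈ closure X, ∀ y ∈ closure X, x * y = y * x := by
    have h1 : closure X ≤ centralizer (closure X : Set G) := by
      rw [closure_le]
      intro x hx
      rw [SetLike.mem_coe, mem_centralizer_iff]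
      intro y hy
      have h2 : closure X ≤ centralizer ({x} : Set G) := by
        rw [closure_le]
        intro z hz
        rw [SetLike.mem_coe, mem_centralizer_singleton_iff]
        exact hXc z hz x hx
      exact mem_centralizer_singleton_iff.mp (h2 hy)
    intro x hx y hy
    exact (mem_centralizer_iff.mp (h1 hx) y hy).symm
  have hHn : H ≤ normalizer ((closure X : Subgroup G) : Set G) := by
    intro h hh
    refine mem_normalizer_of_forall fun x hx => ?_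
    induction hx using Subgroup.closure_induction with
    | mem x hx =>
      obtain ⟨g, hg, hxg⟩ := hx
      refine subset_closure ⟨h * g, H.mul_mem hh hg, ?_⟩
      rw [cj_mul]
      exact conj_mem_cj hxg
    | one => rw [mul_one, mul_inv_cancel]; exact Subgroup.one_mem _
    | mul x y _ _ hx hy =>
      have : h * (x * y) * h⁻¹ = (h * x * h⁻¹) * (h * y * h⁻¹) := by group
      rw [this]
      exact Subgroup.mul_mem _ hx hy
    | inv x _ hx =>
      have : h * x⁻¹ * h⁻¹ = (h * x * h⁻¹)⁻¹ := by group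
      rw [this]
      exact Subgroup.inv_mem _ hx
  refine ⟨closure X, ?_, ?_, le_sup_left.trans hHn, hHn hs⟩
  · intro x hx
    refine subset_closure ⟨1, H.one_mem, ?_⟩
    rw [cj_one]
    exact hx
  · intro w hw
    induction hw using Subgroup.closure_induction with
    | mem x hx =>
      obtain ⟨g, hg, x, hx, rfl⟩ := hx
      show (g * x * g⁻¹) * (g * x * g⁻¹) = 1
      calc (g * x * g⁻¹) * (g * x * g⁻¹) = g * (x * x) * g⁻¹ := by group
        _ = 1 := by rw [d.sq x hx]; group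
    | one => rw [mul_one]
    | mul x y hx' hy' hx hy =>
      calc x * y * (x * y) = x * (y * x) * y := by group
        _ = x * (x * y) * y := by rw [hWc y hy' x hx']
        _ = (x * x) * (y * y) := by group
        _ = 1 := by rw [hx, hy, mul_one]
    | inv x _ hx => rw [← mul_inv_rev, hx, inv_one]

end Dat

end Cfsg.Agent.OddCyclic.RedFiveThree
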