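import Cfsg.Agent.OddCyclic.COneBlk
import Cfsg.Agent.ZN.Four

/-!
# `SL₂(q)`-blocks: irreducibility and operators commuting with the block

* `gen` : `L ≤ B ⊔ B ^ l` for some `l ∈ L`.
* `irr` : an `L`-invariant subgroup of `zl B L` not contained in `rl B L` covers `zl B L / rl B L`.
* `comm_of_op` : a 2-element normalising an `L`-invariant subgroup `P ≰ rl B L` of `zl B L` and commuting with `L` in
  its action on `P` centralises `vl B L = [zl B L, L]`.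
-/

set_option autoImplicit false

namespace Cfsg.Agent.OddCyclic.RedLBlk

open Subgroup Cfsg Cfsg.Agent.ZN
open Cfsg.Agent.OddCyclic.COneDefs Cfsg.Agent.OddCyclic.COneBlk
open scoped commutatorElement

universe u

variable {G : Type u} [Group G] {B L : Subgroup G} {q : ℕ}

/-- generation -/
theorem gen [Finite G] (h : LBlk B L q) :
    ∃ l ∈ L, ∀ K : Subgroup G, B ≤ K → (∀ b ∈ B, l * b * l⁻¹ ∈ K) → L ≤ K := by
  have hf : Fact (Nat.Prime 2) := ⟨Nat.prime_two⟩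
  obtain ⟨l, hl, x, hx, hlx⟩ := not_normal h
  refine ⟨l, hl, fun K hBK hK => ?_⟩
  set C := B.map (MulAut.conj l).toMonoidHom with hC
  have hCL : C ≤ L := by
    rintro _ ⟨b, hb, rfl⟩
    exact L.mul_mem (L.mul_mem hl (h.le hb)) (L.inv_mem hl)
  have hCK : C ≤ K := by
    rintro _ ⟨b, hb, rfl⟩
    exact hK b hb
  rcases normalizes_or h (K := B ⊔ C) le_sup_left (sup_le h.le hCL) with h1 | h1
  · exfalso
    have h2 : IsPGroup 2 (B ⊔ C : Subgroup G) := by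
      refine IsPGroup.to_sup_of_normal_left' h.two (h.two.map _) ?_
      exact le_normalizer_iff.2 fun c hc b hb => h1 c (mem_sup_right hc) b hb
    obtain ⟨S, hS⟩ := exists_sylow h
    have h3 : B.subgroupOf L ≤ (B ⊔ C).subgroupOf L := comap_mono le_sup_left
    have h4 : (B ⊔ C).subgroupOf L = (S : Subgroup L) := by
      refine S.3 ?_ (by rw [hS]; exact h3)
      exact h2.comap_of_injective _ L.subtype_injective
    have hxC : l * x * l⁻¹ ∈ C := ⟨x, hx, by simp⟩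
    have h5 : (⟨l * x * l⁻¹, hCL hxC⟩ : L) ∈ (B ⊔ C).subgroupOf L :=
      mem_subgroupOf.2 (mem_sup_right hxC)
    rw [h4, hS] at h5
    exact hlx (mem_subgroupOf.1 h5)
  · rw [← h1]
    exact sup_le hBK hCK

theorem rl_conj_eq {r l : G} (hr : r ∈ rl B L) (hl : l ∈ L) : l * r * l⁻¹ = r := by
  rw [rl_comm hr hl, mul_inv_cancel_right]

/-- the elements acting trivially on `P` modulo `rl` -/
def triv (L P : Subgroup G) (B : Subgroup G) (hn : ∀ l ∈ L, ∀ p ∈ P, l * p * l⁻¹ ∈ P) : Subgroup G where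
  carrier := {g | g ∈ L ∧ ∀ p ∈ P, g * p * g⁻¹ * p⁻¹ ∈ rl B L}
  one_mem' := ⟨one_mem _, fun p hp => by simp⟩
  mul_mem' := by
    rintro a b ⟨ha, ha1⟩ ⟨hb, hb1⟩
    refine ⟨mul_mem ha hb, fun p hp => ?_⟩
    have e : a * b * p * (a * b)⁻¹ * p⁻¹ = (a * (b * p * b⁻¹) * a⁻¹ * (b * p * b⁻¹)⁻¹) * (b * p * b⁻¹ * p⁻¹) := by group
    rw [e]
    exact mul_mem (ha1 _ (hn b hb p hp)) (hb1 p hp)
  inv_mem' := by
    rintro a ⟨ha, ha1⟩
    refine ⟨inv_mem ha, fun p hp => ?_⟩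
    have h1 := ha1 (a⁻¹ * p * a) (by have := hn a⁻¹ (inv_mem ha) p hp; rwa [inv_inv] at this)
    have e : a * (a⁻¹ * p * a) * a⁻¹ * (a⁻¹ * p * a)⁻¹ = (a⁻¹ * p * a⁻¹⁻¹ * p⁻¹)⁻¹ := by group
    rw [e] at h1
    exact inv_mem_iff.1 h1

/-- a nontrivial element of odd order of `L` -/
theorem exists_odd [Finite G] (h : LBlk B L q) : ∃ K : Subgroup G, K ≤ L ∧ Nat.card K = q - 1 ∧
    (∀ k ∈ K, ∀ x ∈ B, k * x * k⁻¹ ∈ B) ∧ (∀ k ∈ K, Odd (orderOf k)) ∧ ∃ k ∈ K, k ≠ 1 := by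
  obtain ⟨K, hKL, hcyc, hcard, hKB, -, -⟩ := exists_torus h
  have hodd : Odd (q - 1) := by
    obtain ⟨n, hn, hq⟩ := pow h
    rw [hq]
    obtain ⟨m, rfl⟩ := Nat.exists_eq_add_of_le' (show 1 ≤ n by omega)
    refine ⟨2 ^ m - 1, ?_⟩
    have : 1 ≤ 2 ^ m := Nat.one_le_two_pow
    rw [pow_succ]
    omega
  refine ⟨K, hKL, hcard, hKB, fun k hk => ?_, ?_⟩
  · have h1 : orderOf (⟨k, hk⟩ : K) ∣ q - 1 := by
      rw [← hcard]
      exact orderOf_dvd_natCard _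
    rw [Subgroup.orderOf_mk] at h1
    exact Odd.of_dvd_nat hodd h1
  · by_contra hcon
    push Not at hcon
    have h1 : K = ⊥ := (eq_bot_iff_forall K).2 hcon
    rw [h1, card_bot] at hcard
    have := h.four
    omega

theorem le_rl_of_triv [Finite G] (h : LBlk B L q) {P : Subgroup G} (hP : P ≤ zl B L)
    (hn : ∀ l ∈ L, ∀ p ∈ P, l * p * l⁻¹ ∈ P) (hb : ∀ b ∈ B, ∀ p ∈ P, b * p * b⁻¹ * p⁻¹ ∈ rl B L) : P ≤ rl B L := by
  obtain ⟨l, hl, hgen⟩ := gen h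
  have h1 : L ≤ triv L P B hn := by
    refine hgen _ (fun b hb' => ⟨h.le hb', hb b hb'⟩) fun b hb' => ⟨?_, fun p hp => ?_⟩
    · exact L.mul_mem (L.mul_mem hl (h.le hb')) (L.inv_mem hl)
    · have h2 := hb b hb' (l⁻¹ * p * l) (by have := hn l⁻¹ (inv_mem hl) p hp; rwa [inv_inv] at this)
      have e : l * b * l⁻¹ * p * (l * b * l⁻¹)⁻¹ * p⁻¹ = l * (b * (l⁻¹ * p * l) * b⁻¹ * (l⁻¹ * p * l)⁻¹) * l⁻¹ := by
        group
      rw [e, rl_conj_eq h2 hl]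
      exact h2
  obtain ⟨K, hKL, -, -, hodd, k, hk, hk1⟩ := exists_odd h
  intro p hp
  exact fpf_odd h (hKL hk) (hodd k hk) hk1 (hP hp) ((h1 (hKL hk)).2 p hp)

theorem not_zl_le_rl [Finite G] (h : LBlk B L q) : ¬ zl B L ≤ rl B L := by
  intro h1
  have h2 := card_quot h
  rw [relIndex_eq_one.2 h1] at h2
  have := h.four
  nlinarith

/-- irreducibility of `zl B L / rl B L` -/
theorem irr [Finite G] (h : LBlk B L q) {P : Subgroup G} (hP : P ≤ zl B L)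
    (hn : ∀ l ∈ L, ∀ p ∈ P, l * p * l⁻¹ ∈ P) (hr : ¬ P ≤ rl B L) : zl B L ≤ P ⊔ rl B L := by
  classical
  obtain ⟨p, hp, hpz, hpr⟩ : ∃ p ∈ P, p ∈ zc B ∧ p ∉ rl B L := by
    by_contra hcon
    push Not at hcon
    refine hr (le_rl_of_triv h hP hn fun b hb p hp => ?_)
    exact hcon _ (mul_mem (hn b (h.le hb) p hp) (inv_mem hp)) (h.comm b hb p (hP hp))
  obtain ⟨K, hKL, hcard, hKB, hodd, -⟩ := exists_odd h
  set M := (P ⊓ zc B) ⊔ rl B L with hM
  have hMz : M ≤ zc B := sup_le inf_le_right (COneBlk.rl_le_zc B L)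
  have hKN : ∀ k ∈ K, k ∈ normalizer (B : Set G) := fun k hk => by
    have : K ≤ normalizer (B : Set G) := le_normalizer_iff.2 hKB
    exact this hk
  have hkp : ∀ k ∈ K, k * p * k⁻¹ ∈ M := fun k hk =>
    mem_sup_left ⟨hn k (hKL hk) p hp, FinalBridge.zc_conj (hKN k hk) hpz⟩
  -- distinct cosets
  let f : Option K → M ⧸ (rl B L).subgroupOf M := fun o => match o with
    | none => ((1 : M) : M ⧸ (rl B L).subgroupOf M)
    | some k => ((⟨(k : G) * p * (k : G)⁻¹, hkp k k.2⟩ : M) : M ⧸ (rl B L).subgroupOf M)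
  have hinj : Function.Injective f := by
    have key1 : ∀ k : K, f (some k) ≠ f none := by
      intro k hk
      have h1 := QuotientGroup.eq.1 hk
      rw [mem_subgroupOf] at h1
      simp only [mul_one] at h1
      have h2 : ((k : G) * p * (k : G)⁻¹)⁻¹ ∈ rl B L := h1
      rw [inv_mem_iff] at h2
      have h3 := rl_conj_eq h2 (L.inv_mem (hKL k.2))
      have e : (k : G)⁻¹ * ((k : G) * p * (k : G)⁻¹) * ((k : G)⁻¹)⁻¹ = p := by group
      rw [e] at h3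
      rw [h3] at hpr
      exact hpr h2
    have key2 : ∀ k k' : K, f (some k) = f (some k') → k = k' := by
      intro k k' hk
      have h1 := QuotientGroup.eq.1 hk
      rw [mem_subgroupOf] at h1
      have h2 : ((k : G) * p * (k : G)⁻¹)⁻¹ * ((k' : G) * p * (k' : G)⁻¹) ∈ rl B L := h1
      by_contra hne
      set y := (k : G)⁻¹ * k' with hy
      have hyK : y ∈ K := K.mul_mem (K.inv_mem k.2) k'.2
      have hy1 : y ≠ 1 := by
        intro h0
        apply hne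
        apply Subtype.ext
        calc (k : G) = k * y := by rw [h0, mul_one]
          _ = k' := by rw [hy]; group
      have h3 := rl_conj_eq h2 (L.inv_mem (hKL k.2))
      have e : (k : G)⁻¹ * (((k : G) * p * (k : G)⁻¹)⁻¹ * ((k' : G) * p * (k' : G)⁻¹)) * ((k : G)⁻¹)⁻¹ =
          p⁻¹ * (y * p * y⁻¹) := by rw [hy]; group
      rw [e] at h3
      have h4 : p⁻¹ * (y * p * y⁻¹) ∈ rl B L := by rw [h3]; exact h2
      have h5 : y * p * y⁻¹ * p⁻¹ ∈ rl B L := by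
        have h6 : (p⁻¹ * (y * p * y⁻¹)) * p = p * (p⁻¹ * (y * p * y⁻¹)) :=
          h.zl_comm _ (COneBlk.rl_le_zl B L h4) _ (hP hp)
        have e2 : y * p * y⁻¹ * p⁻¹ = (p * (p⁻¹ * (y * p * y⁻¹))) * p⁻¹ := by group
        rw [e2, ← h6, mul_inv_cancel_right]
        exact h4
      exact hpr (fpf_odd h (hKL hyK) (hodd y hyK) hy1 (hP hp) h5)
    rintro (_ | k) (_ | k') hk
    · rfl
    · exact absurd hk.symm (key1 k')
    · exact absurd hk (key1 k)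
    · rw [key2 k k' hk]
  have h1 : q ≤ (rl B L).relIndex M := by
    have h2 := Nat.card_le_card_of_injective f hinj
    rw [Finite.card_option, hcard] at h2
    have h3 : (rl B L).relIndex M = Nat.card (M ⧸ (rl B L).subgroupOf M) := rfl
    rw [h3]
    have := h.four
    omega
  have h2 := relIndex_mul_relIndex (rl B L) M (zc B) le_sup_right hMz
  rw [h.rl_index] at h2
  have h3 : M.relIndex (zc B) = 1 := by
    have h4 := h.four
    have h5 : M.relIndex (zc B) ≠ 0 := by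
      intro h0
      rw [h0, mul_zero] at h2
      omega
    by_contra h6
    have h7 : 2 ≤ M.relIndex (zc B) := by omega
    nlinarith
  have h4 : zc B ≤ P ⊔ rl B L := (relIndex_eq_one.1 h3).trans (sup_le_sup_right inf_le_left _)
  rw [FinalBridge.zl_le_iff]
  intro y hy x hx
  have h5 := h4 hx
  have h6 : P ⊔ rl B L ≤ (P ⊔ rl B L).comap (MulAut.conj y).toMonoidHom := by
    refine sup_le ?_ ?_
    · intro a ha
      exact mem_sup_left (hn y hy a ha)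
    · intro a ha
      have : y * a * y⁻¹ = a := rl_conj_eq ha hy
      rw [mem_comap]
      change y * a * y⁻¹ ∈ _
      rw [this]
      exact mem_sup_right ha
  exact h6 h5

/-- a 2-element commuting with the action of `L` on `P ≤ zl B L`, `P ≰ rl B L`, centralises `vl B L` -/
theorem comm_of_op [Finite G] (h : LBlk B L q) {P : Subgroup G} (hP : P ≤ zl B L)
    (hn : ∀ l ∈ L, ∀ p ∈ P, l * p * l⁻¹ ∈ P) (hr : ¬ P ≤ rl B L) {x : G} (hx : ∀ p ∈ P, x * p * x⁻¹ ∈ P)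
    (hc : ∀ l ∈ L, ∀ p ∈ P, x * (l * p * l⁻¹) * x⁻¹ = l * (x * p * x⁻¹) * l⁻¹)
    (h2 : ∃ n : ℕ, ∀ p ∈ P, x ^ 2 ^ n * p * (x ^ 2 ^ n)⁻¹ = p) : ∀ v ∈ vl B L, x * v = v * x := by
  have hab : ∀ a ∈ P, ∀ b ∈ P, a * b = b * a := fun a ha b hb => h.zl_comm a (hP ha) b (hP hb)
  have hsq : ∀ a ∈ P, a * a = 1 := fun a ha => h.zl_sq a (hP ha)
  have hinv : ∀ a ∈ P, a⁻¹ = a := fun a ha => inv_eq_of_mul_eq_one_left (hsq a ha)
  let P1 : Subgroup G :=
    { carrier := {p | p ∈ P ∧ x * p * x⁻¹ * p⁻¹ ∈ rl B L}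
      one_mem' := ⟨one_mem _, by simp⟩
      mul_mem' := by
        rintro a b ⟨ha, ha1⟩ ⟨hb, hb1⟩
        refine ⟨mul_mem ha hb, ?_⟩
        have e : x * (a * b) * x⁻¹ * (a * b)⁻¹ = (x * a * x⁻¹) * ((x * b * x⁻¹ * b⁻¹) * a⁻¹) := by group
        have h3 : (x * b * x⁻¹ * b⁻¹) * a⁻¹ = a⁻¹ * (x * b * x⁻¹ * b⁻¹) :=
          hab _ (mul_mem (hx b hb) (inv_mem hb)) _ (inv_mem ha)
        rw [e, h3, ← mul_assoc]
        exact mul_mem ha1 hb1
      inv_mem' := by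
        rintro a ⟨ha, ha1⟩
        rw [Set.mem_setOf_eq, hinv a ha]
        exact ⟨ha, ha1⟩ }
  have hP1 : ∀ p, p ∈ P1 ↔ p ∈ P ∧ x * p * x⁻¹ * p⁻¹ ∈ rl B L := fun p => Iff.rfl
  have h1 : ¬ P1 ≤ rl B L := by
    intro hcon
    have hstep : ∀ p ∈ P, p ∉ rl B L → x * p * x⁻¹ * p⁻¹ ∉ rl B L := fun p hp hpr h3 => hpr (hcon ⟨hp, h3⟩)
    have hpow : ∀ k : ℕ, (∀ p ∈ P, x ^ 2 ^ k * p * (x ^ 2 ^ k)⁻¹ ∈ P) ∧
        ∀ p ∈ P, p ∉ rl B L → x ^ 2 ^ k * p * (x ^ 2 ^ k)⁻¹ * p⁻¹ ∉ rl B L := by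
      intro k
      induction k with
      | zero => simpa using ⟨hx, hstep⟩
      | succ k ih =>
        obtain ⟨ih1, ih2⟩ := ih
        set g := x ^ 2 ^ k with hg
        have hg2 : x ^ 2 ^ (k + 1) = g * g := by rw [hg, ← pow_add, pow_succ]; congr 1; ring
        rw [hg2]
        have hgg : ∀ p ∈ P, g * g * p * (g * g)⁻¹ ∈ P := by
          intro p hp
          have := ih1 _ (ih1 p hp)
          have e : g * (g * p * g⁻¹) * g⁻¹ = g * g * p * (g * g)⁻¹ := by group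
          rwa [e] at this
        refine ⟨hgg, fun p hp hpr => ?_⟩
        have h3 := ih2 _ (mul_mem (ih1 p hp) (inv_mem hp)) (ih2 p hp hpr)
        have e : g * (g * p * g⁻¹ * p⁻¹) * g⁻¹ * (g * p * g⁻¹ * p⁻¹)⁻¹ =
            (g * g * p * (g * g)⁻¹) * ((g * p⁻¹ * g⁻¹) * p) * (g * p⁻¹ * g⁻¹) := by group
        have h4 : g * p⁻¹ * g⁻¹ = g * p * g⁻¹ := by rw [hinv p hp]
        have h5 : (g * p * g⁻¹) * p = p * (g * p * g⁻¹) := hab _ (ih1 p hp) _ hp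
        have h6 : (g * p * g⁻¹) * (g * p * g⁻¹) = 1 := hsq _ (ih1 p hp)
        rw [e, h4, h5] at h3
        have e2 : (g * g * p * (g * g)⁻¹) * (p * (g * p * g⁻¹)) * (g * p * g⁻¹) =
            (g * g * p * (g * g)⁻¹) * p * ((g * p * g⁻¹) * (g * p * g⁻¹)) := by group
        rw [e2, h6, mul_one, ← hinv p hp] at h3
        rw [hinv p hp] at h3
        rwa [hinv p hp]
    obtain ⟨n, hn2⟩ := h2
    obtain ⟨p, hp, hpr⟩ := SetLike.not_le_iff_exists.1 hr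
    apply (hpow n).2 p hp hpr
    rw [hn2 p hp, mul_inv_cancel]
    exact one_mem _
  have h3 : ∀ l ∈ L, ∀ p ∈ P1, l * p * l⁻¹ ∈ P1 := by
    rintro l hl p ⟨hp, hp1⟩
    refine ⟨hn l hl p hp, ?_⟩
    rw [hc l hl p hp]
    have e : l * (x * p * x⁻¹) * l⁻¹ * (l * p * l⁻¹)⁻¹ = l * (x * p * x⁻¹ * p⁻¹) * l⁻¹ := by group
    rw [e, rl_conj_eq hp1 hl]
    exact hp1
  have h4 := irr h (P := P1) (fun p hp => hP hp.1) h3 h1
  have h5 : ⁅zl B L, L⁆ ≤ centralizer ({x} : Set G) := by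
    rw [Subgroup.commutator_le]
    intro v hv l hl
    rw [mem_centralizer_singleton_iff]
    have hv' := h4 hv
    have hcomm : ∀ p ∈ P1, ∀ r ∈ rl B L, p * r = r * p := fun p hp r hr' =>
      h.zl_comm p (hP hp.1) r (COneBlk.rl_le_zl B L hr')
    obtain ⟨p, hp, r, hr', rfl⟩ := (BlkFam.mem_sup_of_comm hcomm).1 hv'
    have hlr : l * r⁻¹ * l⁻¹ = r⁻¹ := rl_conj_eq (inv_mem hr') hl
    have e1 : ⁅p * r, l⁆ = ⁅p, l⁆ := by
      rw [commutatorElement_def, commutatorElement_def]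
      calc p * r * l * (p * r)⁻¹ * l⁻¹ = p * r * (l * r⁻¹ * l⁻¹) * (l * p⁻¹ * l⁻¹) := by
            group
        _ = p * (l * p⁻¹ * l⁻¹) := by rw [hlr]; group
        _ = p * l * p⁻¹ * l⁻¹ := by group
    rw [e1, commutatorElement_def]
    obtain ⟨hpP, hpr⟩ := hp
    set r' := x * p * x⁻¹ * p⁻¹ with hr'd
    have e2 : x * p * x⁻¹ = r' * p := by rw [hr'd]; group
    have e3 : x * (l * p⁻¹ * l⁻¹) * x⁻¹ = l * (r' * p)⁻¹ * l⁻¹ := by
      rw [hc l hl _ (inv_mem hpP)]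
      have : x * p⁻¹ * x⁻¹ = (x * p * x⁻¹)⁻¹ := by group
      rw [this, e2]
    have hr'i : l * r'⁻¹ * l⁻¹ = r'⁻¹ := rl_conj_eq (inv_mem hpr) hl
    have hw : p * (l * p⁻¹ * l⁻¹) ∈ P := mul_mem hpP (hn l hl _ (inv_mem hpP))
    have hr'P : r' ∈ P := mul_mem (hx p hpP) (inv_mem hpP)
    have e4 : x * (p * l * p⁻¹ * l⁻¹) * x⁻¹ = p * l * p⁻¹ * l⁻¹ := by
      calc x * (p * l * p⁻¹ * l⁻¹) * x⁻¹ = (x * p * x⁻¹) * (x * (l * p⁻¹ * l⁻¹) * x⁻¹) := by group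
        _ = r' * p * (l * (r' * p)⁻¹ * l⁻¹) := by rw [e2, e3]
        _ = r' * (p * (l * p⁻¹ * l⁻¹)) * (l * r'⁻¹ * l⁻¹) := by group
        _ = (p * (l * p⁻¹ * l⁻¹)) * r' * r'⁻¹ := by rw [hr'i, hab _ hr'P _ hw]
        _ = p * l * p⁻¹ * l⁻¹ := by group
    exact (Four.conj_eq_iff_comm.1 e4).symm
  intro v hv
  exact (mem_centralizer_singleton_iff.1 (h5 hv)).symm

end Cfsg.Agent.OddCyclic.RedLBlk
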