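import Cfsg.Agent.OddCyclic.RedLinA

/-!
# S0342, (C2), 2.2: the case `SL₂(q)`: 2-elements centralising `C_V(U)`

`U` a Sylow 2-subgroup of `L = SL₂(q) ⊴ H`, `V/C_V(L)` natural, `H` faithful on `V`. A 2-element of `H` normalising `U` and
centralising `C_V(U)` lies in `U`.
-/

set_option autoImplicit false
set_option linter.unusedSectionVars false

namespace Cfsg.Agent.OddCyclic.RedLinT

open Subgroup
open Cfsg.Agent.OddCyclic.T1Module Cfsg.Agent.OddCyclic.FFBasic Cfsg.Agent.OddCyclic.FFRed Cfsg.Agent.OddCyclic.FFSl2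
open Cfsg.Agent.OddCyclic.RedLinA
open Matrix (SpecialLinearGroup)

local notation "UI" => Cfsg.Agent.OddCyclic.T1Sl2.UI
local notation "tu" => Cfsg.Agent.OddCyclic.T1Sl2.up
local notation "td" => Cfsg.Agent.OddCyclic.T1Sl2.dg

universe u

variable {H : Type u} [Group H] {V : Type u} [CommGroup V]

structure LinU (ρ : H →* MulAut V) (L : Subgroup H) (F : Type) [Field F] [Fintype F] [CharP F 2]
    (e : L ≃* SpecialLinearGroup (Fin 2) F) (U : Subgroup H) : Prop where
  inj : Function.Injective ρ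
  normal : L.Normal
  four : 4 ≤ Fintype.card F
  nat : IsNat (ρ.comp (L.subtype.comp e.symm.toMonoidHom))
  idx : (CS ρ L).index = Fintype.card F ^ 2
  fpf : ∀ y ∈ L, Odd (orderOf y) → y ≠ 1 → fx ρ y ≤ CS ρ L
  le : U ≤ L
  std : ∀ x (hx : x ∈ L), x ∈ U ↔ e ⟨x, hx⟩ ∈ UI F

variable {ρ : H →* MulAut V} {L : Subgroup H} {F : Type} [Field F] [Fintype F] [CharP F 2]
  {e : L ≃* SpecialLinearGroup (Fin 2) F} {U : Subgroup H}

/-- conjugating `e` -/
theorem isNat_conj {σ : SpecialLinearGroup (Fin 2) F →* MulAut V} (hn : IsNat σ)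
    (g : SpecialLinearGroup (Fin 2) F) : IsNat (σ.comp (MulAut.conj g).toMonoidHom) := by
  have hcs : ∀ D : Subgroup (SpecialLinearGroup (Fin 2) F),
      CS (σ.comp (MulAut.conj g).toMonoidHom) D = CS σ (D.map (MulAut.conj g).toMonoidHom) := by
    intro D
    ext v
    constructor
    · rintro hv _ ⟨d, hd, rfl⟩
      exact hv d hd
    · intro hv d hd
      exact hv _ ⟨d, hd, rfl⟩
  have hU : ∀ U : Sylow 2 (SpecialLinearGroup (Fin 2) F), ((U : Subgroup (SpecialLinearGroup (Fin 2) F)).map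
      (MulAut.conj g).toMonoidHom) = ((g • U : Sylow 2 (SpecialLinearGroup (Fin 2) F)) : Subgroup _) := by
    intro U
    rw [Sylow.coe_subgroup_smul]
    rfl
  refine ⟨?_, fun U => ?_, fun U a ha ha1 => ?_, fun v => ?_⟩
  · rw [hcs, Subgroup.map_top_of_surjective _ (MulAut.conj g).surjective]
    exact hn.top
  · rw [hcs, hU]
    exact hn.index _
  · rw [hcs, hU]
    have h1 : fx (σ.comp (MulAut.conj g).toMonoidHom) a = fx σ (g * a * g⁻¹) := rfl
    rw [h1]
    refine hn.fix _ _ (T1Sl2.conj_mem_smul ha) ?_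
    intro h2
    apply ha1
    exact conj_eq_one_iff.1 h2
  · obtain ⟨U, hv⟩ := hn.cover v
    refine ⟨g⁻¹ • U, ?_⟩
    rw [hcs, hU, smul_inv_smul]
    exact hv

theorem exists_std [Finite H] [Finite V] {𝒜 : Set (Subgroup H)} (h : LinA ρ 𝒜 L F e) (hinj : Function.Injective ρ)
    (hU : U ≤ L) (hc : Nat.card U = Fintype.card F) :
    ∃ e' : L ≃* SpecialLinearGroup (Fin 2) F, LinU ρ L F e' U := by
  have h2p : Fact (Nat.Prime 2) := ⟨Nat.prime_two⟩
  obtain ⟨n, hn, hq⟩ := T1Sl2.card_pow F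
  have hU2 : IsPGroup 2 U := IsPGroup.of_card (n := n) (by rw [hc, hq])
  have h1 : IsPGroup 2 ((U.subgroupOf L).map e.toMonoidHom) :=
    (hU2.comap_of_injective _ L.subtype_injective).map _
  obtain ⟨P, hP⟩ := h1.exists_le_sylow
  have h2 : (U.subgroupOf L).map e.toMonoidHom = (P : Subgroup (SpecialLinearGroup (Fin 2) F)) := by
    apply Subgroup.eq_of_le_of_card_ge hP
    rw [Subgroup.card_map_of_injective e.injective, Nat.card_congr (subgroupOfEquivOfLe hU).toEquiv, hc]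
    exact (T1Sl2.card_sylow P).le
  obtain ⟨g, hg⟩ := MulAction.exists_smul_eq (SpecialLinearGroup (Fin 2) F) P (T1Sl2.SU F)
  refine ⟨e.trans (MulAut.conj g), hinj, h.normal, h.four, ?_, h.idx, h.fpf, hU, ?_⟩
  · have h3 := isNat_conj h.nat g⁻¹
    have h4 : (ρ.comp (L.subtype.comp e.symm.toMonoidHom)).comp (MulAut.conj g⁻¹).toMonoidHom =
        ρ.comp (L.subtype.comp (e.trans (MulAut.conj g)).symm.toMonoidHom) := by
      ext x v
      change ρ ((e.symm (g⁻¹ * x * g⁻¹⁻¹) : L) : H) v = ρ ((e.symm ((MulAut.conj g).symm x) : L) : H) v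
      have h5 : (MulAut.conj g).symm x = g⁻¹ * x * g⁻¹⁻¹ := by
        rw [MulAut.conj_symm_apply, inv_inv]
      rw [h5]
    rw [← h4]
    exact h3
  · intro x hx
    have hgU : ∀ y, g * y * g⁻¹ ∈ UI F ↔ y ∈ (P : Subgroup (SpecialLinearGroup (Fin 2) F)) := by
      intro y
      rw [← T1Sl2.coe_SU, ← hg, Sylow.coe_subgroup_smul]
      constructor
      · rintro ⟨z, hz, hzy⟩
        have : z = y := (MulAut.conj g).injective hzy
        rwa [← this]
      · intro hy
        exact ⟨y, hy, rfl⟩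
    have h3 : (e.trans (MulAut.conj g)) ⟨x, hx⟩ = g * e ⟨x, hx⟩ * g⁻¹ := rfl
    rw [h3, hgU, ← h2]
    constructor
    · intro hxU
      exact ⟨⟨x, hx⟩, hxU, rfl⟩
    · rintro ⟨y, hy, hyx⟩
      have h4 : y = ⟨x, hx⟩ := e.injective hyx
      rw [h4] at hy
      exact hy

variable (h : LinU ρ L F e U)

include h

theorem LinU.sub : U = (((UI F).comap e.toMonoidHom).map L.subtype) := by
  ext x
  constructor
  · intro hx
    exact ⟨⟨x, h.le hx⟩, (h.std x (h.le hx)).1 hx, rfl⟩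
  · rintro ⟨y, hy, rfl⟩
    exact (h.std y y.2).2 hy

theorem LinU.index_U [Finite H] [Finite V] : (CS ρ U).index = Fintype.card F := by
  rw [← h.nat.index (T1Sl2.SU F)]
  congr 1
  ext v
  constructor
  · intro hv b hb
    refine hv _ ((h.std _ (e.symm b).2).2 ?_)
    have : e ⟨(e.symm b : L), (e.symm b).2⟩ = b := e.apply_symm_apply b
    rw [this]
    exact hb
  · intro hv b hb
    have h1 := hv (e ⟨b, h.le hb⟩) ((h.std b (h.le hb)).1 hb)
    change ρ ((e.symm (e ⟨b, h.le hb⟩) : L) : H) v = v at h1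
    rwa [e.symm_apply_apply] at h1

/-- every vector is a conjugate of a vector of `C_V(U)` -/
theorem LinU.cover [Finite H] [Finite V] (v : V) : ∃ l ∈ L, ∃ w ∈ CS ρ U, v = ρ l w := by
  obtain ⟨P, hP⟩ := h.nat.cover v
  obtain ⟨g, hg⟩ := T1Sl2.exists_smul_SU P
  refine ⟨(e.symm g : L), (e.symm g).2, ρ ((e.symm g : L) : H)⁻¹ v, ?_, ?_⟩
  · intro b hb
    have h1 : g * e ⟨b, h.le hb⟩ * g⁻¹ ∈ P := by
      rw [← hg]
      exact T1Sl2.conj_mem_smul ((h.std b (h.le hb)).1 hb)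
    have h2 := hP _ h1
    change ρ ((e.symm (g * e ⟨b, h.le hb⟩ * g⁻¹) : L) : H) v = v at h2
    rw [map_mul, map_mul, e.symm_apply_apply, map_inv] at h2
    have h3 : ρ (((e.symm g : L) : H) * b * ((e.symm g : L) : H)⁻¹) v = v := h2
    rw [← MulAut.mul_apply, ← map_mul]
    have e1 : b * ((e.symm g : L) : H)⁻¹ = ((e.symm g : L) : H)⁻¹ * (((e.symm g : L) : H) * b * ((e.symm g : L) : H)⁻¹) := by
      group
    rw [e1, map_mul, MulAut.mul_apply, h3]
  · rw [← MulAut.mul_apply, ← map_mul, mul_inv_cancel, map_one]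
    rfl

/-- a torus element which centralises `C_V(U)` is trivial -/
theorem LinU.torus [Finite H] [Finite V] {n : H} (hn : n ∈ L) (hc : ∀ w ∈ CS ρ U, ρ n w = w) {r : Fˣ}
    (hr : e ⟨n, hn⟩ = td r) : r = 1 := by
  by_contra hr1
  have h1 : (td r : SpecialLinearGroup (Fin 2) F) ≠ 1 := by
    intro h2
    apply hr1
    have : T1Sl2.dgHom r = T1Sl2.dgHom (F := F) 1 := by rw [map_one]; exact h2
    exact T1Sl2.dgHom_injective this
  obtain ⟨k, hk, hq⟩ := T1Sl2.card_pow F
  have hodd : Odd (Fintype.card F - 1) := by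
    rw [hq]
    obtain ⟨m, rfl⟩ := Nat.exists_eq_succ_of_ne_zero hk.ne'
    refine ⟨2 ^ m - 1, ?_⟩
    rw [pow_succ]
    have : 1 ≤ 2 ^ m := Nat.one_le_two_pow
    omega
  have h2 : (td r : SpecialLinearGroup (Fin 2) F) ^ (Fintype.card F - 1) = 1 := by
    have h3 : r ^ (Fintype.card F - 1) = 1 := by
      classical
      have := pow_card_eq_one (x := r)
      rwa [Fintype.card_units] at this
    have h4 : T1Sl2.dgHom (r ^ (Fintype.card F - 1)) = 1 := by rw [h3, map_one]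
    rw [map_pow] at h4
    exact h4
  have h3 : n ^ (Fintype.card F - 1) = 1 := by
    have h4 : e (⟨n, hn⟩ ^ (Fintype.card F - 1)) = 1 := by rw [map_pow, hr, h2]
    have h5 := (MulEquiv.map_eq_one_iff e).1 h4
    exact congrArg Subtype.val h5
  have h4 : Odd (orderOf n) := hodd.of_dvd_nat (orderOf_dvd_of_pow_eq_one h3)
  have h5 : n ≠ 1 := by
    rintro rfl
    apply h1
    rw [← hr]
    exact map_one e
  have h6 : CS ρ U ≤ CS ρ L := fun w hw => h.fpf n hn h4 h5 (hc w hw)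
  have h7 := index_le_of_le h6
  rw [h.idx, h.index_U] at h7
  have h8 := h.four
  nlinarith

/-- **2-elements normalising `U` and centralising `C_V(U)` lie in `U`.** -/
theorem LinU.mem [Finite H] [Finite V] {t : H} {k : ℕ} (ht : t ^ 2 ^ k = 1) (htU : ∀ u ∈ U, t * u * t⁻¹ ∈ U)
    (hc : ∀ w ∈ CS ρ U, ρ t w = w) : t ∈ U := by
  have hcL : ∀ l ∈ L, t * l * t⁻¹ ∈ L := fun l hl => h.normal.conj_mem l hl t
  have hcU : ∀ u ∈ U, ∀ w ∈ CS ρ U, ρ u w = w := fun u hu w hw => hw u hu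
  -- the automorphism induced by `t`
  let c : L ≃* L :=
    { toFun := fun n => ⟨t * n * t⁻¹, hcL n n.2⟩
      invFun := fun n => ⟨t⁻¹ * n * t, by
        have := h.normal.conj_mem n n.2 t⁻¹
        rwa [inv_inv] at this⟩
      left_inv := fun n => by
        apply Subtype.ext
        change t⁻¹ * (t * n * t⁻¹) * t = n
        group
      right_inv := fun n => by
        apply Subtype.ext
        change t * (t⁻¹ * n * t) * t⁻¹ = n
        group
      map_mul' := fun a b => by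
        apply Subtype.ext
        change t * ((a : H) * (b : H)) * t⁻¹ = (t * a * t⁻¹) * (t * b * t⁻¹)
        group }
  let α : MulAut (SpecialLinearGroup (Fin 2) F) := (e.symm.trans c).trans e
  have hα : ∀ n (hn : n ∈ L), e ⟨t * n * t⁻¹, hcL n hn⟩ = α (e ⟨n, hn⟩) := by
    intro n hn
    change _ = e (c (e.symm (e ⟨n, hn⟩)))
    rw [e.symm_apply_apply]
    rfl
  have hUI : ∀ x ∈ UI F, α x ∈ UI F := by
    intro x hx
    obtain ⟨n, rfl⟩ := e.surjective x
    rw [← hα n n.2, ← h.std]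
    exact htU _ ((h.std n n.2).2 hx)
  obtain ⟨a, d, hform⟩ := L2Borel.exists_form_UI hUI
  set σ := Cfsg.Agent.Classification.QDW.TypeHom.typ α with hσ
  have hσr : ∀ r : Fˣ, Units.map σ.toMonoidHom r = r := by
    intro r
    obtain ⟨m, hm⟩ := e.surjective (td r)
    have hyN : t * (m : H) * t⁻¹ * (m : H)⁻¹ ∈ L := mul_mem (hcL m m.2) (inv_mem m.2)
    have hmU : ∀ w ∈ CS ρ U, ρ (m : H)⁻¹ w ∈ CS ρ U := by
      intro w hw b hb
      have h1 : (m : H) * b * (m : H)⁻¹ ∈ U := by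
        have h2 : (m : H) * b * (m : H)⁻¹ ∈ L := mul_mem (mul_mem m.2 (h.le hb)) (inv_mem m.2)
        rw [h.std _ h2]
        have h3 : e ⟨(m : H) * b * (m : H)⁻¹, h2⟩ = td r * e ⟨b, h.le hb⟩ * (td r)⁻¹ := by
          rw [← hm, ← map_inv, ← map_mul, ← map_mul]
          rfl
        rw [h3, T1Sl2.eq_up ((h.std b (h.le hb)).1 hb), L2Borel.td_conj_tu]
        exact T1Sl2.up_mem _
      have h2 := hw _ h1
      rw [← MulAut.mul_apply, ← map_mul]
      have e1 : b * (m : H)⁻¹ = (m : H)⁻¹ * ((m : H) * b * (m : H)⁻¹) := by group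
      rw [e1, map_mul, MulAut.mul_apply, h2]
    have hti : ∀ w ∈ CS ρ U, ρ t⁻¹ w = w := fun w hw => fx_inv (ρ := ρ) (hc w hw)
    have hyc : ∀ w ∈ CS ρ U, ρ (t * (m : H) * t⁻¹ * (m : H)⁻¹) w = w := by
      intro w hw
      rw [map_mul, MulAut.mul_apply, map_mul, MulAut.mul_apply, hti _ (hmU w hw), map_mul, MulAut.mul_apply]
      have e1 : ρ (m : H) (ρ (m : H)⁻¹ w) = w := by
        rw [← MulAut.mul_apply, ← map_mul, mul_inv_cancel, map_one]; rfl
      rw [e1, hc w hw]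
    have hψ : e ⟨_, hyN⟩ = (tu a * td d * td (Units.map σ.toMonoidHom r) * (tu a * td d)⁻¹) * (td r)⁻¹ := by
      have h1 : e ⟨t * (m : H) * t⁻¹ * (m : H)⁻¹, hyN⟩ = e ⟨t * (m : H) * t⁻¹, hcL m m.2⟩ * (e m)⁻¹ := by
        rw [← map_inv, ← map_mul]; rfl
      rw [h1, hα m m.2]
      have h2 : e ⟨(m : H), m.2⟩ = td r := hm
      rw [h2, hform, MulAut.mul_apply, MulAut.conj_apply]
      rw [L2Borel.fieldAut_td]
    set s := Units.map σ.toMonoidHom r with hs
    have hψ2 : e ⟨_, hyN⟩ = tu (a + (s : F) * (s : F) * a) * td (s * r⁻¹) := by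
      rw [hψ, mul_inv_rev]
      have e1 : (tu a * td d * td s * ((td d)⁻¹ * (tu a)⁻¹)) * (td r)⁻¹ =
          tu a * (td d * td s * (td d)⁻¹) * (tu a)⁻¹ * (td r)⁻¹ := by group
      have e2 : (td d * td s * (td d)⁻¹ : SpecialLinearGroup (Fin 2) F) = td s := by
        rw [L2Borel.td_mul, mul_comm, ← L2Borel.td_mul, mul_inv_cancel_right]
      have e3 : ((td r)⁻¹ : SpecialLinearGroup (Fin 2) F) = td r⁻¹ := by
        rw [inv_eq_iff_mul_eq_one, L2Borel.td_mul, mul_inv_cancel]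
        exact map_one T1Sl2.dgHom
      have e4 : (tu a * td s * (tu a)⁻¹ * td r⁻¹ : SpecialLinearGroup (Fin 2) F) =
          tu a * (td s * (tu a)⁻¹ * (td s)⁻¹) * (td s * td r⁻¹) := by group
      rw [e1, e2, e3, e4, L2Borel.tu_inv, L2Borel.td_conj_tu, T1Sl2.up_mul, L2Borel.td_mul]
    obtain ⟨u, hu⟩ := e.surjective (tu (a + (s : F) * (s : F) * a))
    have huU : (u : H) ∈ U := by
      rw [h.std u u.2]
      change e u ∈ UI F
      rw [hu]; exact T1Sl2.up_mem _
    have hxN : (u : H)⁻¹ * (t * (m : H) * t⁻¹ * (m : H)⁻¹) ∈ L := mul_mem (inv_mem u.2) hyN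
    have hxc : ∀ w ∈ CS ρ U, ρ ((u : H)⁻¹ * (t * (m : H) * t⁻¹ * (m : H)⁻¹)) w = w := by
      intro w hw
      rw [map_mul, MulAut.mul_apply, hyc w hw]
      exact hcU _ (inv_mem huU) w hw
    have h7 : e ⟨_, hxN⟩ = td (s * r⁻¹) := by
      have h8 : e ⟨_, hxN⟩ = (e u)⁻¹ * e ⟨_, hyN⟩ := by rw [← map_inv, ← map_mul]; rfl
      rw [h8, hu, hψ2, inv_mul_cancel_left]
    have h9 := h.torus hxN hxc h7
    rw [mul_inv_eq_one] at h9
    exact h9
  have hσ1 : σ = 1 := by
    ext x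
    by_cases hx : x = 0
    · rw [hx]; simp
    · have := congrArg Units.val (hσr (Units.mk0 x hx))
      exact this
  -- `m` induces the same automorphism
  obtain ⟨m, hm⟩ := e.surjective (tu a * td d)
  have hmt : ∀ l ∈ L, t * l * t⁻¹ = (m : H) * l * (m : H)⁻¹ := by
    intro l hl
    have h1 := hα l hl
    rw [hform, hσ1, MulAut.mul_apply, MulAut.conj_apply, map_one, MulAut.one_apply, ← hm] at h1
    have h2 : e m * e ⟨l, hl⟩ * (e m)⁻¹ = e (m * ⟨l, hl⟩ * m⁻¹) := by
      rw [map_mul, map_mul, map_inv]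
    rw [h2] at h1
    exact congrArg Subtype.val (e.injective h1)
  obtain ⟨x, hx⟩ : ∃ x : H, x = (m : H)⁻¹ * t := ⟨_, rfl⟩
  have htx : t = m * x := by rw [hx]; group
  have hxL : ∀ l ∈ L, x * l = l * x := by
    intro l hl
    have h1 := hmt l hl
    calc x * l = (m : H)⁻¹ * (t * l * t⁻¹) * t := by rw [hx]; group
      _ = (m : H)⁻¹ * ((m : H) * l * (m : H)⁻¹) * t := by rw [h1]
      _ = l * x := by rw [hx]; group
  have hcomm : Commute (m : H) x := (hxL m m.2).symm
  -- `m` is a 2-element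
  have hm2 : (m : H) ^ 2 ^ k = 1 := by
    have h1 : (m : H) ^ 2 ^ k * x ^ 2 ^ k = 1 := by
      rw [← hcomm.mul_pow, ← htx, ht]
    have h2 : (m : H) ^ 2 ^ k = (x ^ 2 ^ k)⁻¹ := eq_inv_of_mul_eq_one_left h1
    have h3 : ∀ l ∈ L, (m : H) ^ 2 ^ k * l = l * (m : H) ^ 2 ^ k := by
      intro l hl
      have h4 : Commute x l := hxL l hl
      rw [h2]
      exact ((h4.pow_left _).inv_left).eq
    have h5 : e (m ^ 2 ^ k) ∈ Subgroup.center (SpecialLinearGroup (Fin 2) F) := by
      rw [mem_center_iff]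
      intro y
      obtain ⟨l, rfl⟩ := e.surjective y
      rw [← map_mul, ← map_mul]
      congr 1
      apply Subtype.ext
      have h6 := h3 l l.2
      rw [coe_mul, coe_mul, Subgroup.coe_pow]
      exact h6.symm
    rw [center_sl2, mem_bot] at h5
    have h6 := (MulEquiv.map_eq_one_iff e).1 h5
    have h7 := congrArg Subtype.val h6
    rwa [Subgroup.coe_pow] at h7
  have hd : d = 1 := by
    have h1 : (tu a * td d : SpecialLinearGroup (Fin 2) F) ^ 2 ^ k = 1 := by
      rw [← hm, ← map_pow]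
      have : m ^ 2 ^ k = 1 := by
        apply Subtype.ext
        rw [Subgroup.coe_pow]
        exact hm2
      rw [this, map_one]
    -- the entry `(0, 0)` of the power
    have h2 : ∀ j : ℕ, ((tu a * td d : SpecialLinearGroup (Fin 2) F) ^ j) 1 0 = 0 ∧
        ((tu a * td d : SpecialLinearGroup (Fin 2) F) ^ j) 0 0 = (d : F) ^ j := by
      intro j
      induction j with
      | zero => rw [pow_zero, pow_zero]; exact ⟨T1Sl2.one10, T1Sl2.one00⟩
      | succ j ih =>
        obtain ⟨h3, h4⟩ := ih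
        rw [pow_succ]
        have h5 : (tu a * td d : SpecialLinearGroup (Fin 2) F) 1 0 = 0 := by
          rw [T1Sl2.mul10]; simp
        have h6 : (tu a * td d : SpecialLinearGroup (Fin 2) F) 0 0 = d := by
          rw [T1Sl2.mul00]; simp
        constructor
        · rw [T1Sl2.mul10, h3, h5]; ring
        · rw [T1Sl2.mul00, h4, h5, h6, pow_succ]; ring
    have h3 := (h2 (2 ^ k)).2
    rw [h1, T1Sl2.one00] at h3
    have h4 : d ^ 2 ^ k = 1 := by
      apply Units.ext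
      rw [Units.val_pow_eq_pow_val, ← h3]; rfl
    have h5 : d ^ (Fintype.card F - 1) = 1 := by
      classical
      have := pow_card_eq_one (x := d)
      rwa [Fintype.card_units] at this
    obtain ⟨j, hj, hq⟩ := T1Sl2.card_pow F
    have h6 : Nat.Coprime (2 ^ k) (Fintype.card F - 1) := by
      apply Nat.Coprime.pow_left
      rw [hq]
      obtain ⟨i, rfl⟩ := Nat.exists_eq_succ_of_ne_zero hj.ne'
      rw [Nat.coprime_two_left]
      refine ⟨2 ^ i - 1, ?_⟩
      rw [pow_succ]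
      have : 1 ≤ 2 ^ i := Nat.one_le_two_pow
      omega
    have h7 : orderOf d ∣ Nat.gcd (2 ^ k) (Fintype.card F - 1) :=
      Nat.dvd_gcd (orderOf_dvd_of_pow_eq_one h4) (orderOf_dvd_of_pow_eq_one h5)
    rw [h6] at h7
    exact orderOf_eq_one_iff.1 (Nat.dvd_one.1 h7)
  have hmU : (m : H) ∈ U := by
    rw [h.std m m.2]
    change e m ∈ UI F
    rw [hm, hd]
    have : (td 1 : SpecialLinearGroup (Fin 2) F) = 1 := map_one T1Sl2.dgHom
    rw [this, mul_one]
    exact T1Sl2.up_mem a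
  have hxc : ∀ w ∈ CS ρ U, ρ x w = w := by
    intro w hw
    rw [hx, map_mul, MulAut.mul_apply, hc w hw]
    exact hcU _ (inv_mem hmU) w hw
  have hx1 : x = 1 := by
    apply h.inj
    rw [map_one]
    ext v
    obtain ⟨l, hl, w, hw, rfl⟩ := h.cover v
    rw [← MulAut.mul_apply, ← map_mul, hxL l hl, map_mul, MulAut.mul_apply, hxc w hw]
    rfl
  rw [htx, hx1, mul_one]
  exact hmU

end Cfsg.Agent.OddCyclic.RedLinT
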