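import Cfsg.Agent.OddCyclic.COneLinE
import Cfsg.Agent.OddCyclic.RedLinT

/-!
# S0342, (C2), 1.2: `SL₂(q)`-blocks, Baumann's argument (after COneLin, COneLinB, COneLinD, COneLinE of helper106)

`LinIn T H W F ψ`: `T` a Sylow 2-subgroup of `H`, `C_H(W) = O₂(H)`, `H/O₂(H) = SL₂(F)`, `W/C_W(H)` natural. Then
`bau T` and a conjugate generate a block `L`.
-/

set_option autoImplicit false

namespace Cfsg.Agent.OddCyclic.RedLin

open Subgroup Cfsg Cfsg.Agent.ZN
open Cfsg.Agent.MinSimple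
open Cfsg.Agent.PLocal.ThompsonJ
open Cfsg.Agent.OddCyclic.T1Defs Cfsg.Agent.OddCyclic.COneDefs
open Cfsg.Agent.OddCyclic.COneLinB (relIndex_sup_of_le_normalizer exists_mul_of_mem_sup le_normalizer_of_comm
  card_mul_relIndex relIndex_pos)
open Cfsg.Agent.OddCyclic.COneLinD (cjn mem_cjn relIndex_cjn)
open Cfsg.Agent.OddCyclic.COneLinD.LinH (Z0 LL L_comm B_le_L)
open Matrix (SpecialLinearGroup)
open scoped commutatorElement

local notation "UI" => Cfsg.Agent.OddCyclic.T1Sl2.UI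

universe u

variable {G : Type u} [Group G] {T H W : Subgroup G}

/-- The output of the offender theorem in the case `SL₂(q)`, `q ≥ 4`, for a subgroup `H` with `C_H(W) = O₂(H)`. -/
structure LinIn (T H W : Subgroup G) (F : Type) [Field F] [Fintype F] [CharP F 2]
    (ψ : H →* SpecialLinearGroup (Fin 2) F) : Prop where
  two : IsPGroup 2 T
  TH : T ≤ H
  QT : o2 H ≤ T
  norm : H ≤ normalizer (W : Set G)
  cent : H ⊓ centralizer (W : Set G) = o2 H
  WQ : W ≤ o2 H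
  comm : ∀ x ∈ W, ∀ y ∈ W, x * y = y * x
  sq : ∀ x ∈ W, x * x = 1
  four : 4 ≤ Fintype.card F
  surj : Function.Surjective ψ
  kerW : ∀ n : H, ψ n = 1 ↔ (n : G) ∈ centralizer (W : Set G)
  ex : ∃ A, IsMaxIn T A ∧ ¬ A ≤ centralizer (W : Set G)
  cardA : ∀ A, IsMaxIn T A → ¬ A ≤ centralizer (W : Set G) →
    Nat.card ((A.subgroupOf H).map ψ) = Fintype.card F
  idx : ∀ A, IsMaxIn T A → ¬ A ≤ centralizer (W : Set G) →
    (W ⊓ centralizer (A : Set G)).relIndex W = Fintype.card F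
  fix : ∀ a (ha : a ∈ H), a ∈ T → ψ ⟨a, ha⟩ ≠ 1 → ∀ w ∈ W, a * w = w * a →
    ∀ b ∈ T, b * w = w * b
  top : (W ⊓ centralizer (H : Set G)).relIndex W = Fintype.card F ^ 2
  fpf : ∀ x (hx : x ∈ H) (m : ℕ), Odd m → ψ ⟨x, hx⟩ ^ m = 1 → ψ ⟨x, hx⟩ ≠ 1 → ∀ w ∈ W, x * w = w * x →
    ∀ n ∈ H, n * w = w * n

variable {F : Type} [Field F] [Fintype F] [CharP F 2] {ψ : H →* SpecialLinearGroup (Fin 2) F}

namespace LinIn

variable (d : LinIn T H W F ψ)

include d

theorem Q_cent {x w : G} (hx : x ∈ o2 H) (hw : w ∈ W) : x * w = w * x := by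
  rw [← d.cent] at hx
  exact (mem_centralizer_iff.1 hx.2 w hw).symm

theorem mem_Q {x : G} (hx : x ∈ H) (hw : ∀ w ∈ W, x * w = w * x) : x ∈ o2 H := by
  rw [← d.cent]
  exact ⟨hx, mem_centralizer_iff.2 fun w hw' => (hw w hw').symm⟩

theorem ker {n : G} (hn : n ∈ H) : ψ ⟨n, hn⟩ = 1 ↔ n ∈ o2 H := by
  rw [d.kerW, ← d.cent]
  exact ⟨fun h => ⟨hn, h⟩, fun h => h.2⟩

theorem W_comm {x y : G} (hx : x ∈ W) (hy : y ∈ W) : x * y = y * x := d.comm x hx y hy

theorem W_sq {x : G} (hx : x ∈ W) : x * x = 1 := d.sq x hx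

theorem W_conj {g w : G} (hg : g ∈ H) (hw : w ∈ W) : g * w * g⁻¹ ∈ W :=
  (mem_normalizer_iff.1 (d.norm hg) w).1 hw

theorem W_le_T : W ≤ T := d.WQ.trans d.QT

omit d in
theorem Q_conj {g x : G} (hg : g ∈ H) (hx : x ∈ o2 H) : g * x * g⁻¹ ∈ o2 H :=
  (mem_normalizer_iff.1 (le_normalizer_o2 H hg) x).1 hx

/-- the image of `T` is a Sylow 2-subgroup, equal to the image of every `A`. -/
theorem exists_U [Finite G] : ∃ U : Sylow 2 (SpecialLinearGroup (Fin 2) F),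
    (T.subgroupOf H).map ψ = (U : Subgroup (SpecialLinearGroup (Fin 2) F)) ∧
    ∀ A, IsMaxIn T A → ¬ A ≤ centralizer (W : Set G) →
      (A.subgroupOf H).map ψ = (U : Subgroup (SpecialLinearGroup (Fin 2) F)) := by
  have h2p : Fact (Nat.Prime 2) := ⟨Nat.prime_two⟩
  have h1 : IsPGroup 2 ((T.subgroupOf H).map ψ) :=
    (d.two.comap_of_injective _ H.subtype_injective).map ψ
  obtain ⟨U, hU⟩ := h1.exists_le_sylow
  have h2 : ∀ A, IsMaxIn T A → ¬ A ≤ centralizer (W : Set G) →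
      (A.subgroupOf H).map ψ = (U : Subgroup (SpecialLinearGroup (Fin 2) F)) := by
    intro A hA hA1
    have h0 : A.subgroupOf H ≤ T.subgroupOf H := fun x hx => hA.1 hx
    have h3 : (A.subgroupOf H).map ψ ≤ U := (Subgroup.map_mono h0).trans hU
    apply Subgroup.eq_of_le_of_card_ge h3
    rw [d.cardA A hA hA1]
    exact (T1Sl2.card_sylow U).le
  obtain ⟨A, hA, hA1⟩ := d.ex
  refine ⟨U, le_antisymm hU ?_, h2⟩
  rw [← h2 A hA hA1]
  exact Subgroup.map_mono fun x hx => hA.1 hx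

/-- `T = A Q`. -/
theorem exists_mul [Finite G] {A : Subgroup G} (hA : IsMaxIn T A) (hA1 : ¬ A ≤ centralizer (W : Set G))
    {t : G} (htT : t ∈ T) : ∃ a ∈ A, ∃ x ∈ o2 H, t = a * x := by
  obtain ⟨U, hU, hUA⟩ := d.exists_U
  have h1 : ψ ⟨t, d.TH htT⟩ ∈ (A.subgroupOf H).map ψ := by
    rw [hUA A hA hA1, ← hU]
    exact ⟨⟨t, d.TH htT⟩, htT, rfl⟩
  obtain ⟨a, ha, hat⟩ := h1
  have h2 : ψ (a⁻¹ * ⟨t, d.TH htT⟩) = 1 := by rw [map_mul, map_inv, hat, inv_mul_cancel]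
  have h3 := (d.ker (a⁻¹ * ⟨t, d.TH htT⟩ : H).2).1 h2
  refine ⟨a, ha, _, h3, ?_⟩
  rw [coe_mul, coe_inv]; group

/-- `C_W(A) = C_W(T)`. -/
theorem cent_T [Finite G] {A : Subgroup G} (hA : IsMaxIn T A) (hA1 : ¬ A ≤ centralizer (W : Set G))
    {w : G} (hw : w ∈ W) (hwA : ∀ a ∈ A, a * w = w * a) : ∀ t ∈ T, t * w = w * t := by
  intro t htT
  obtain ⟨a, ha, x, hx, rfl⟩ := d.exists_mul hA hA1 htT
  calc a * x * w = a * (x * w) := by group
    _ = (a * w) * x := by rw [d.Q_cent hx hw]; group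
    _ = w * (a * x) := by rw [hwA a ha]; group

/-- `W ∩ Z_J = C_W(T)`. -/
theorem mem_zj_iff [Finite G] {w : G} (hw : w ∈ W) : w ∈ zj T ↔ ∀ t ∈ T, t * w = w * t := by
  constructor
  · intro h1
    obtain ⟨A, hA, hA1⟩ := d.ex
    exact d.cent_T hA hA1 hw fun a ha => (mem_zj.1 h1).2.1 a (hA.le_jj ha)
  · intro h1
    refine mem_zj_of_comm (d.QT (d.WQ hw)) (by rw [pow_two]; exact d.W_sq hw) fun b hb => ?_
    exact h1 b (jj_le T hb)

theorem inf_zj [Finite G] {A : Subgroup G} (hA : IsMaxIn T A) (hA1 : ¬ A ≤ centralizer (W : Set G)) :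
    W ⊓ zj T = W ⊓ centralizer (A : Set G) := by
  ext w
  constructor
  · rintro ⟨hw, hwz⟩
    exact ⟨hw, mem_centralizer_iff.2 fun a ha => (mem_zj.1 hwz).2.1 a (hA.le_jj ha)⟩
  · rintro ⟨hw, hwA⟩
    exact ⟨hw, (d.mem_zj_iff hw).2 (d.cent_T hA hA1 hw fun a ha => mem_centralizer_iff.1 hwA a ha)⟩

/-- `|W : W ∩ Z_J| = q`. -/
theorem relIndex_inf_zj [Finite G] : (W ⊓ zj T).relIndex W = Fintype.card F := by
  obtain ⟨A, hA, hA1⟩ := d.ex
  rw [d.inf_zj hA hA1]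
  exact d.idx A hA hA1

end LinIn

/-! ### Baumann's argument -/

variable (d : LinIn T H W F ψ)

include d

theorem relIndex_Q_A [Finite G] {A : Subgroup G} (hA : IsMaxIn T A) (hA1 : ¬ A ≤ centralizer (W : Set G)) :
    (A ⊓ o2 H).relIndex A = Fintype.card F := by
  have hAN : A ≤ H := hA.1.trans d.TH
  have hker : ψ.ker = (o2 H).subgroupOf H := by
    ext n
    rw [MonoidHom.mem_ker, mem_subgroupOf]
    exact d.ker n.2
  have h1 := d.cardA A hA hA1
  rw [← Subgroup.relIndex_ker, hker, Subgroup.relIndex_subgroupOf hAN] at h1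
  rw [← h1, ← Subgroup.inf_relIndex_right (o2 H) A, inf_comm]

/-- `W (A ∩ Q)` is again a largest elementary abelian subgroup of `T`. -/
theorem isMaxIn_sup [Finite G] {A : Subgroup G} (hA : IsMaxIn T A) (hA1 : ¬ A ≤ centralizer (W : Set G)) :
    IsMaxIn T (W ⊔ (A ⊓ o2 H)) := by
  set D : Subgroup G := A ⊓ o2 H with hD
  have hA2 := isElementaryAbelian_iff.1 hA.2.1
  have hWD : W ≤ normalizer (D : Set G) :=
    le_normalizer_of_comm fun x hx y hy => (d.Q_cent hy.2 hx).symm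
  have hmul : ∀ x ∈ W ⊔ D, ∃ w ∈ W, ∃ a ∈ D, x = w * a := fun x hx =>
    exists_mul_of_mem_sup hWD hx
  have hel : IsElementaryAbelian 2 (W ⊔ D : Subgroup G) := by
    rw [isElementaryAbelian_iff]
    constructor
    · intro x hx y hy
      obtain ⟨w, hw, a, ha, rfl⟩ := hmul x hx
      obtain ⟨w', hw', a', ha', rfl⟩ := hmul y hy
      have e1 := d.W_comm hw hw'
      have e2 := hA2.1 a ha.1 a' ha'.1
      have e3 := d.Q_cent ha.2 hw'
      have e4 := d.Q_cent ha'.2 hw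
      calc w * a * (w' * a') = w * (a * w') * a' := by group
        _ = (w * w') * (a * a') := by rw [e3]; group
        _ = w' * (w * a') * a := by rw [e1, e2]; group
        _ = w' * a' * (w * a) := by rw [← e4]; group
    · intro x hx
      obtain ⟨w, hw, a, ha, rfl⟩ := hmul x hx
      have e3 := d.Q_cent ha.2 hw
      have e5 := hA2.2 a ha.1
      rw [pow_two] at e5 ⊢
      calc w * a * (w * a) = w * (a * w) * a := by group
        _ = (w * w) * (a * a) := by rw [e3]; group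
        _ = 1 := by rw [d.W_sq hw, e5, one_mul]
  refine ⟨sup_le d.W_le_T (inf_le_left.trans hA.1), hel, fun B hB hB2 => (hA.2.2 B hB hB2).trans ?_⟩
  have h1 := card_mul_relIndex (inf_le_left : D ≤ A)
  have h2 := card_mul_relIndex (le_sup_right : D ≤ W ⊔ D)
  have h3 : D.relIndex W = Fintype.card F := by
    rw [← Subgroup.inf_relIndex_right]
    have h4 : D ⊓ W = W ⊓ centralizer (A : Set G) := by
      ext w
      constructor
      · rintro ⟨⟨hwA, -⟩, hw⟩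
        exact ⟨hw, mem_centralizer_iff.2 fun a ha => hA2.1 a ha w hwA⟩
      · rintro ⟨hw, hwA⟩
        refine ⟨⟨hA.mem_of_comm (d.W_le_T hw) (by rw [pow_two]; exact d.W_sq hw) fun a ha =>
          mem_centralizer_iff.1 hwA a ha, d.WQ hw⟩, hw⟩
    rw [h4]
    exact d.idx A hA hA1
  have h5 : D.relIndex W ≤ D.relIndex (W ⊔ D) :=
    Subgroup.relIndex_le_of_le_right le_sup_left (relIndex_pos _ _)
  rw [← h1, ← h2, relIndex_Q_A d hA hA1, ← h3]
  exact Nat.mul_le_mul_left _ h5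

theorem zj_le_sup [Finite G] {A : Subgroup G} (hA : IsMaxIn T A) (hA1 : ¬ A ≤ centralizer (W : Set G)) :
    zj T ≤ W ⊔ (A ⊓ o2 H) := (isMaxIn_sup d hA hA1).zj_le

theorem sup_le_Q [Finite G] (A : Subgroup G) : W ⊔ (A ⊓ o2 H) ≤ o2 H :=
  sup_le d.WQ inf_le_right

theorem zj_le_Q [Finite G] : zj T ≤ o2 H := by
  obtain ⟨A, hA, hA1⟩ := d.ex
  exact (zj_le_sup d hA hA1).trans (sup_le_Q d A)

/-- `Z_J ≤ Z_J(Q)`. -/
theorem zj_le_zj [Finite G] : zj T ≤ zj (o2 H) := by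
  obtain ⟨A, hA, hA1⟩ := d.ex
  have h1 : jj (o2 H) ≤ jj T := jj_le_jj_of_isMaxIn (isMaxIn_sup d hA hA1) (sup_le_Q d A) d.QT
  intro x hx
  exact mem_zj_of_comm (zj_le_Q d hx) (zj_sq hx) fun b hb => (mem_zj.1 hx).2.1 b (h1 hb)

theorem comm_A [Finite G] {A : Subgroup G} (hA : IsMaxIn T A) (hA1 : ¬ A ≤ centralizer (W : Set G))
    {a y : G} (ha : a ∈ A) (hy : y ∈ zj (o2 H)) : a * y * a⁻¹ * y⁻¹ ∈ W := by
  have h1 : IsMaxIn (o2 H) (W ⊔ (A ⊓ o2 H)) := (isMaxIn_sup d hA hA1).mono (sup_le_Q d A) d.QT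
  have h2 := h1.zj_le hy
  have hWD : W ≤ normalizer ((A ⊓ o2 H : Subgroup G) : Set G) :=
    le_normalizer_of_comm fun x hx y hy => (d.Q_cent hy.2 hx).symm
  obtain ⟨w, hw, c, hc, rfl⟩ := exists_mul_of_mem_sup hWD h2
  have e1 := (isElementaryAbelian_iff.1 hA.2.1).1 a ha c hc.1
  have e2 : a * (w * c) * a⁻¹ * (w * c)⁻¹ = (a * w * a⁻¹) * w⁻¹ := by
    calc a * (w * c) * a⁻¹ * (w * c)⁻¹ = a * w * (c * a⁻¹) * c⁻¹ * w⁻¹ := by group
      _ = a * w * (a⁻¹ * c) * c⁻¹ * w⁻¹ := by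
        have : c * a⁻¹ = a⁻¹ * c := by
          calc c * a⁻¹ = a⁻¹ * (a * c) * a⁻¹ := by group
            _ = a⁻¹ * (c * a) * a⁻¹ := by rw [e1]
            _ = a⁻¹ * c := by group
        rw [this]
      _ = (a * w * a⁻¹) * w⁻¹ := by group
  rw [e2]
  exact mul_mem (d.W_conj (d.TH (hA.1 ha)) hw) (inv_mem hw)

omit d in
/-- the elements of `H` centralising `Z_J(Q) / W` -/
def PP (H W : Subgroup G) (hW : H ≤ normalizer (W : Set G)) : Subgroup G where
  carrier := {x | x ∈ H ∧ ∀ y ∈ zj (o2 H), x * y * x⁻¹ * y⁻¹ ∈ W}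
  one_mem' := ⟨one_mem _, fun y _ => by simp⟩
  mul_mem' := by
    rintro a b ⟨haH, ha⟩ ⟨hbH, hb⟩
    refine ⟨mul_mem haH hbH, fun y hy => ?_⟩
    have e : a * b * y * (a * b)⁻¹ * y⁻¹ = (a * (b * y * b⁻¹ * y⁻¹) * a⁻¹) * (a * y * a⁻¹ * y⁻¹) := by group
    rw [e]
    exact mul_mem ((mem_normalizer_iff.1 (hW haH) _).1 (hb y hy)) (ha y hy)
  inv_mem' := by
    rintro a ⟨haH, ha⟩
    refine ⟨inv_mem haH, fun y hy => ?_⟩
    have h1 := inv_mem (ha y hy)
    have h2 := (mem_normalizer_iff.1 (hW (inv_mem haH)) _).1 h1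
    have e : a⁻¹ * (a * y * a⁻¹ * y⁻¹)⁻¹ * a⁻¹⁻¹ = a⁻¹ * y * a⁻¹⁻¹ * y⁻¹ := by group
    rwa [e] at h2

omit d in
theorem PP_conj (hW : H ≤ normalizer (W : Set G)) {g x : G} (hg : g ∈ H) (hx : x ∈ PP H W hW) :
    g * x * g⁻¹ ∈ PP H W hW := by
  obtain ⟨h2, h3⟩ := hx
  refine ⟨mul_mem (mul_mem hg h2) (inv_mem hg), fun y hy => ?_⟩
  have hzj : H ≤ normalizer (zj (o2 H) : Set G) :=
    (le_normalizer_o2 H).trans (normalizer_le_normalizer_zj (o2 H))
  have h4 : g⁻¹ * y * g ∈ zj (o2 H) := by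
    have := (mem_normalizer_iff.1 (hzj (inv_mem hg)) y).1 hy
    rwa [inv_inv] at this
  have h5 := (mem_normalizer_iff.1 (hW hg) _).1 (h3 _ h4)
  have e : g * (x * (g⁻¹ * y * g) * x⁻¹ * (g⁻¹ * y * g)⁻¹) * g⁻¹ = g * x * g⁻¹ * y * (g * x * g⁻¹)⁻¹ * y⁻¹ := by
    group
  rwa [e] at h5

/-- `H = P Q`. -/
theorem exists_PP [Finite G] {n : G} (hn : n ∈ H) : ∃ p ∈ PP H W d.norm, ∃ x ∈ o2 H, n = p * x := by
  have h1 : (((PP H W d.norm).subgroupOf H).map ψ).Normal := by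
    refine ⟨?_⟩
    rintro _ ⟨p, hp, rfl⟩ g
    obtain ⟨m, rfl⟩ := d.surj g
    exact ⟨m * p * m⁻¹, PP_conj d.norm m.2 hp, by rw [map_mul, map_mul, map_inv]⟩
  have hs := FFBasic.isSimpleGroup_sl2 (F := F) d.four
  have h2 : ((PP H W d.norm).subgroupOf H).map ψ = ⊤ := by
    refine (h1.eq_bot_or_eq_top).resolve_left fun hb => ?_
    obtain ⟨A, hA, hA1⟩ := d.ex
    apply hA1
    intro a ha
    have haH := d.TH (hA.1 ha)
    have h3 : ψ ⟨a, haH⟩ ∈ ((PP H W d.norm).subgroupOf H).map ψ :=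
      ⟨⟨a, haH⟩, ⟨haH, fun y hy => comm_A d hA hA1 ha hy⟩, rfl⟩
    rw [hb, mem_bot] at h3
    exact (d.kerW _).1 h3
  obtain ⟨p, hp, hpn⟩ : ψ ⟨n, hn⟩ ∈ ((PP H W d.norm).subgroupOf H).map ψ := by rw [h2]; exact mem_top _
  have h3 : ψ (p⁻¹ * ⟨n, hn⟩) = 1 := by rw [map_mul, map_inv, hpn, inv_mul_cancel]
  have h4 := (d.ker (p⁻¹ * ⟨n, hn⟩ : H).2).1 h3
  refine ⟨p, hp, _, h4, ?_⟩
  rw [coe_mul, coe_inv]; group

theorem W_norm_zj [Finite G] : W ≤ normalizer (zj T : Set G) := d.W_le_T.trans (le_normalizer_zj T)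

theorem exists_W_mul [Finite G] {x : G} (hx : x ∈ W ⊔ zj T) : ∃ w ∈ W, ∃ z ∈ zj T, x = w * z :=
  exists_mul_of_mem_sup (W_norm_zj d) hx

/-- `W Z_J` is normal in `H`. -/
theorem norm_W1 [Finite G] : H ≤ normalizer ((W ⊔ zj T : Subgroup G) : Set G) := by
  rw [le_normalizer_iff]
  intro n hn x hx
  obtain ⟨w, hw, z, hz, rfl⟩ := exists_W_mul d hx
  obtain ⟨p, hp, c, hc, rfl⟩ := exists_PP d hn
  have h1 : c * z * c⁻¹ ∈ zj T := (mem_normalizer_iff.1 (le_normalizer_zj T (d.QT hc)) z).1 hz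
  have h2 := hp.2 _ (zj_le_zj d h1)
  have e : p * c * (w * z) * (p * c)⁻¹ =
      (p * c * w * (p * c)⁻¹) * (p * (c * z * c⁻¹) * p⁻¹ * (c * z * c⁻¹)⁻¹) * (c * z * c⁻¹) := by group
  rw [e]
  exact mul_mem (mem_sup_left (mul_mem (d.W_conj hn hw) h2)) (mem_sup_right h1)

/-- `|W Z_J : Z_J| = q`. -/
theorem relIndex_zj [Finite G] : (zj T).relIndex (W ⊔ zj T) = Fintype.card F := by
  rw [relIndex_sup_of_le_normalizer (W_norm_zj d), ← d.relIndex_inf_zj, ← Subgroup.inf_relIndex_right,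
    inf_comm]

theorem W1_le_Q [Finite G] : W ⊔ zj T ≤ o2 H := sup_le d.WQ (zj_le_Q d)

theorem W1_comm [Finite G] {x y : G} (hx : x ∈ W ⊔ zj T) (hy : y ∈ W ⊔ zj T) : x * y = y * x := by
  obtain ⟨w, hw, z, hz, rfl⟩ := exists_W_mul d hx
  obtain ⟨w', hw', z', hz', rfl⟩ := exists_W_mul d hy
  have e1 := d.W_comm hw hw'
  have e2 : z * z' = z' * z := (mem_zj.1 hz').2.1 z ((mem_zj.1 hz).1)
  have e3 := d.Q_cent (zj_le_Q d hz) hw'
  have e4 := d.Q_cent (zj_le_Q d hz') hw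
  calc w * z * (w' * z') = w * (z * w') * z' := by group
    _ = (w * w') * (z * z') := by rw [e3]; group
    _ = w' * (w * z') * z := by rw [e1, e2]; group
    _ = w' * z' * (w * z) := by rw [← e4]; group

theorem W1_sq [Finite G] {x : G} (hx : x ∈ W ⊔ zj T) : x * x = 1 := by
  obtain ⟨w, hw, z, hz, rfl⟩ := exists_W_mul d hx
  have e3 := d.Q_cent (zj_le_Q d hz) hw
  have e5 := zj_sq hz
  rw [pow_two] at e5
  calc w * z * (w * z) = w * (z * w) * z := by group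
    _ = (w * w) * (z * z) := by rw [e3]; group
    _ = 1 := by rw [d.W_sq hw, e5, one_mul]


omit d in
/-- `ψ` may be replaced by a conjugate -/
theorem LinIn.conj (hl : LinIn T H W F ψ) (g : SpecialLinearGroup (Fin 2) F) :
    LinIn T H W F ((MulAut.conj g).toMonoidHom.comp ψ) where
  two := hl.two
  TH := hl.TH
  QT := hl.QT
  norm := hl.norm
  cent := hl.cent
  WQ := hl.WQ
  comm := hl.comm
  sq := hl.sq
  four := hl.four
  surj := (MulAut.conj g).surjective.comp hl.surj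
  kerW := fun n => by
    rw [← hl.kerW n, MonoidHom.comp_apply]
    exact map_eq_one_iff (MulAut.conj g) (MulAut.conj g).injective
  ex := hl.ex
  cardA := fun A hA hA1 => by
    rw [← hl.cardA A hA hA1, ← Subgroup.map_map]
    exact Subgroup.card_map_of_injective (MulAut.conj g).injective
  idx := hl.idx
  fix := fun a ha haT h1 => hl.fix a ha haT fun h2 => h1 (by
    rw [MonoidHom.comp_apply, h2, map_one])
  top := hl.top
  fpf := fun x hx m hm h1 h2 => by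
    refine hl.fpf x hx m hm ?_ fun h3 => h2 (by rw [MonoidHom.comp_apply, h3, map_one])
    rw [MonoidHom.comp_apply, ← map_pow] at h1
    exact (map_eq_one_iff (MulAut.conj g) (MulAut.conj g).injective).1 h1

omit d in
/-- the data with `ψ` standardised (the image of `T` is the upper unitriangular group) and a Weyl element -/
structure LinH (T H W : Subgroup G) (F : Type) [Field F] [Fintype F] [CharP F 2]
    (ψ : H →* SpecialLinearGroup (Fin 2) F) (h : G) : Prop where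
  dat : LinIn T H W F ψ
  std : ∀ n (hn : n ∈ H), n ∈ T ↔ ψ ⟨n, hn⟩ ∈ UI F
  mem : h ∈ H
  ww : ψ ⟨h, mem⟩ = T1Sl2.ww F

theorem exists_h [Finite G] : ∃ (ψ' : H →* SpecialLinearGroup (Fin 2) F) (h : G), LinH T H W F ψ' h := by
  obtain ⟨U, hU, -⟩ := d.exists_U
  obtain ⟨g, hg⟩ := MulAction.exists_smul_eq (SpecialLinearGroup (Fin 2) F) U (T1Sl2.SU F)
  have d' := d.conj g
  obtain ⟨m, hm⟩ := d'.surj (T1Sl2.ww F)
  refine ⟨_, m, d', fun n hn => ?_, m.2, hm⟩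
  have hgU : ∀ x, g * x * g⁻¹ ∈ UI F ↔ x ∈ (U : Subgroup (SpecialLinearGroup (Fin 2) F)) := by
    intro x
    rw [← T1Sl2.coe_SU, ← hg, Sylow.coe_subgroup_smul]
    constructor
    · rintro ⟨y, hy, hyx⟩
      have : y = x := (MulAut.conj g).injective hyx
      rwa [← this]
    · intro hx
      exact ⟨x, hx, rfl⟩
  have h1 : (((MulAut.conj g).toMonoidHom.comp ψ) ⟨n, hn⟩ : SpecialLinearGroup (Fin 2) F) =
    g * ψ ⟨n, hn⟩ * g⁻¹ := rfl
  rw [h1, hgU, ← hU]
  constructor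
  · intro hnT
    exact ⟨⟨n, hn⟩, hnT, rfl⟩
  · rintro ⟨m, hm, hmn⟩
    have h3 : ψ (m⁻¹ * ⟨n, hn⟩) = 1 := by rw [map_mul, map_inv, hmn, inv_mul_cancel]
    have h4 := (d.ker (m⁻¹ * ⟨n, hn⟩ : H).2).1 h3
    have h5 : n = (m : G) * ((m⁻¹ * ⟨n, hn⟩ : H) : G) := by
      rw [coe_mul, coe_inv]; group
    rw [h5]
    exact mul_mem hm (d.QT h4)

namespace LinH

omit d

variable {h : G} (e : LinH T H W F ψ h)

include e

theorem gen [Finite G] {K : Subgroup G} (h1 : T ≤ K) (h2 : ∀ n ∈ T, h * n * h⁻¹ ∈ K) : H ≤ K := by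
  have htop : (K.subgroupOf H).map ψ = ⊤ := by
    apply T1Sl2.sup_std
    · intro x hx
      obtain ⟨m, rfl⟩ := e.dat.surj x
      exact ⟨m, h1 ((e.std m m.2).2 hx), rfl⟩
    · intro x hx
      obtain ⟨m, rfl⟩ := e.dat.surj x
      have h3 : (T1Sl2.ww F)⁻¹ * ψ m * T1Sl2.ww F ∈ T1Sl2.SU F := T1Sl2.mem_smul.1 hx
      have h4 : h⁻¹ * (m : G) * h ∈ H := mul_mem (mul_mem (inv_mem e.mem) m.2) e.mem
      have h5 : ψ ⟨h⁻¹ * (m : G) * h, h4⟩ = (T1Sl2.ww F)⁻¹ * ψ m * T1Sl2.ww F := by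
        rw [← e.ww, ← map_inv, ← map_mul, ← map_mul]; rfl
      have h6 : h⁻¹ * (m : G) * h ∈ T := by
        rw [e.std _ h4, h5]
        exact h3
      have h7 := h2 _ h6
      have h8 : h * (h⁻¹ * (m : G) * h) * h⁻¹ = m := by group
      rw [h8] at h7
      exact ⟨m, h7, rfl⟩
  intro n hn
  obtain ⟨m, hm, hmn⟩ : ψ ⟨n, hn⟩ ∈ (K.subgroupOf H).map ψ := by rw [htop]; exact mem_top _
  have h3 : ψ (m⁻¹ * ⟨n, hn⟩) = 1 := by rw [map_mul, map_inv, hmn, inv_mul_cancel]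
  have h4 := (e.dat.ker (m⁻¹ * ⟨n, hn⟩ : H).2).1 h3
  have h5 : n = (m : G) * ((m⁻¹ * ⟨n, hn⟩ : H) : G) := by
    rw [coe_mul, coe_inv]; group
  rw [h5]
  exact mul_mem hm (h1 (e.dat.QT h4))

theorem relIndex_cjn_zj [Finite G] : (cjn h (zj T)).relIndex (W ⊔ zj T) = Fintype.card F := by
  rw [relIndex_cjn (norm_W1 e.dat e.mem), relIndex_zj e.dat]

theorem relIndex_Z0_le [Finite G] : (Z0 T h).relIndex (W ⊔ zj T) ≤ Fintype.card F ^ 2 := by
  refine (Subgroup.relIndex_inf_le).trans ?_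
  rw [relIndex_zj e.dat, relIndex_cjn_zj e, pow_two]

theorem N_comm_of_mem [Finite G] {w : G} (hw : w ∈ W) (hz : w ∈ Z0 T h) : ∀ n ∈ H, n * w = w * n := by
  have h1 : H ≤ centralizer ({w} : Set G) := by
    apply e.gen
    · intro n hn
      rw [mem_centralizer_singleton_iff]
      exact (e.dat.mem_zj_iff hw).1 hz.1 n hn
    · intro n hn
      rw [mem_centralizer_singleton_iff]
      have hw' : h⁻¹ * w * h ∈ W := by
        have := e.dat.W_conj (inv_mem e.mem) hw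
        rwa [inv_inv] at this
      have h2 := (e.dat.mem_zj_iff hw').1 (mem_cjn.1 hz.2) n hn
      calc h * n * h⁻¹ * w = h * (n * (h⁻¹ * w * h)) * h⁻¹ := by group
        _ = h * ((h⁻¹ * w * h) * n) * h⁻¹ := by rw [h2]
        _ = w * (h * n * h⁻¹) := by group
  intro n hn
  exact mem_centralizer_singleton_iff.1 (h1 hn)

theorem mem_Z0_of_comm [Finite G] {w : G} (hw : w ∈ W) (hc : ∀ n ∈ H, n * w = w * n) : w ∈ Z0 T h := by
  have h1 : w ∈ zj T := (e.dat.mem_zj_iff hw).2 fun t ht => hc t (e.dat.TH ht)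
  refine ⟨h1, mem_cjn.2 ?_⟩
  have h2 : h⁻¹ * w * h = w := by
    rw [mul_assoc, ← hc h e.mem]; group
  rwa [h2]

theorem inf_Z0 [Finite G] : W ⊓ Z0 T h = W ⊓ centralizer (H : Set G) := by
  ext w
  constructor
  · rintro ⟨hw, hz⟩
    exact ⟨hw, mem_centralizer_iff.2 fun n hn => e.N_comm_of_mem hw hz n hn⟩
  · rintro ⟨hw, hz⟩
    exact ⟨hw, e.mem_Z0_of_comm hw fun n hn => mem_centralizer_iff.1 hz n hn⟩

theorem W_norm_Z0 [Finite G] : W ≤ normalizer (Z0 T h : Set G) :=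
  le_normalizer_of_comm fun x hx y hy => W1_comm e.dat (mem_sup_left hx) (mem_sup_right hy.1)

theorem relIndex_Z0_W [Finite G] : (Z0 T h).relIndex W = Fintype.card F ^ 2 := by
  rw [← Subgroup.inf_relIndex_right, inf_comm, e.inf_Z0]
  exact e.dat.top

/-- `W Z₀ = W Z_J`. -/
theorem sup_Z0 [Finite G] : W ⊔ Z0 T h = W ⊔ zj T := by
  have h1 : W ⊔ Z0 T h ≤ W ⊔ zj T := sup_le_sup_left inf_le_left _
  apply Subgroup.eq_of_le_of_card_ge h1
  have h2 := card_mul_relIndex (le_sup_right : Z0 T h ≤ W ⊔ Z0 T h)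
  have h3 := card_mul_relIndex (inf_le_left.trans le_sup_right : Z0 T h ≤ W ⊔ zj T)
  rw [relIndex_sup_of_le_normalizer e.W_norm_Z0, e.relIndex_Z0_W] at h2
  rw [← h2, ← h3]
  exact Nat.mul_le_mul_left _ e.relIndex_Z0_le

theorem exists_Z0_mul [Finite G] {x : G} (hx : x ∈ W ⊔ zj T) : ∃ w ∈ W, ∃ z ∈ Z0 T h, x = w * z := by
  rw [← e.sup_Z0] at hx
  exact exists_mul_of_mem_sup e.W_norm_Z0 hx

theorem relIndex_Z0 [Finite G] : (Z0 T h).relIndex (W ⊔ zj T) = Fintype.card F ^ 2 := by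
  rw [← e.sup_Z0, relIndex_sup_of_le_normalizer e.W_norm_Z0, e.relIndex_Z0_W]

theorem relIndex_Z0_zj [Finite G] : (Z0 T h).relIndex (zj T) = Fintype.card F := by
  have h1 := relIndex_mul_relIndex (Z0 T h) (zj T) (W ⊔ zj T) inf_le_left le_sup_right
  rw [relIndex_zj e.dat, e.relIndex_Z0, pow_two] at h1
  have h2 := e.dat.four
  exact Nat.eq_of_mul_eq_mul_right (by omega) h1

/-! ### the group `L` -/

theorem B_le_H : bau T ≤ H := (bau_le T).trans e.dat.TH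

theorem L_le_H : LL T h ≤ H := by
  refine sup_le e.B_le_H fun x hx => ?_
  have h1 := e.B_le_H (mem_cjn.1 hx)
  have h2 : x = h * (h⁻¹ * x * h) * h⁻¹ := by group
  rw [h2]
  exact mul_mem (mul_mem e.mem h1) (inv_mem e.mem)

theorem conj_Q {x : G} (hx : x ∈ o2 H) : h⁻¹ * x * h ∈ o2 H := by
  have := LinIn.Q_conj (inv_mem e.mem) hx
  rwa [inv_inv] at this

theorem T_le [Finite G] {t : G} (htT : t ∈ T) : ∃ b ∈ bau T, ∃ x ∈ o2 H, t = b * x := by
  obtain ⟨A, hA, hA1⟩ := e.dat.ex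
  obtain ⟨a, ha, x, hx, rfl⟩ := e.dat.exists_mul hA hA1 htT
  exact ⟨a, jj_le_bau T (hA.le_jj ha), x, hx, rfl⟩

/-- `H = L Q` -/
theorem H_le [Finite G] : H ≤ LL T h ⊔ o2 H := by
  apply e.gen
  · intro n hnT
    obtain ⟨b, hb, x, hx, rfl⟩ := e.T_le hnT
    exact mul_mem (mem_sup_left (B_le_L hb)) (mem_sup_right hx)
  · intro n hnT
    obtain ⟨b, hb, x, hx, rfl⟩ := e.T_le hnT
    have h1 : h * (b * x) * h⁻¹ = (h * b * h⁻¹) * (h * x * h⁻¹) := by group
    rw [h1]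
    refine mul_mem (mem_sup_left ((le_sup_right : cjn h (bau T) ≤ LL T h) (mem_cjn.2 ?_)))
      (mem_sup_right (LinIn.Q_conj e.mem hx))
    have h2 : h⁻¹ * (h * b * h⁻¹) * h = b := by group
    rwa [h2]

theorem Q_norm_L : o2 H ≤ normalizer (LL T h : Set G) := by
  have hB : ∀ x ∈ o2 H, ∀ b ∈ bau T, x * b * x⁻¹ ∈ bau T := fun x hx b hb =>
    (mem_normalizer_iff.1 (le_normalizer_bau T (e.dat.QT hx)) b).1 hb
  rw [le_normalizer_iff]
  intro x hx y hy
  have h1 : LL T h ≤ (LL T h).comap (MulAut.conj x).toMonoidHom := by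
    refine sup_le (fun b hb => ?_) fun b hb => ?_
    · exact B_le_L (hB x hx b hb)
    · change x * b * x⁻¹ ∈ LL T h
      refine (le_sup_right : cjn h (bau T) ≤ LL T h) (mem_cjn.2 ?_)
      have h2 := hB _ (e.conj_Q hx) _ (mem_cjn.1 hb)
      have h3 : h⁻¹ * (x * b * x⁻¹) * h = (h⁻¹ * x * h) * (h⁻¹ * b * h) * (h⁻¹ * x * h)⁻¹ := by group
      rwa [h3]
  exact h1 hy

theorem norm_L [Finite G] : H ≤ normalizer (LL T h : Set G) :=
  e.H_le.trans (sup_le le_normalizer e.Q_norm_L)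

/-- `B ∩ Q = L ∩ Q`. -/
theorem inf_Q [Finite G] : LL T h ⊓ o2 H = bau T ⊓ o2 H := by
  apply le_antisymm
  · rintro x ⟨hxL, hxQ⟩
    refine ⟨⟨e.dat.QT hxQ, mem_centralizer_iff.2 fun z hz => ?_⟩, hxQ⟩
    obtain ⟨w, hw, z₀, hz₀, rfl⟩ := e.exists_Z0_mul (mem_sup_right hz : z ∈ W ⊔ zj T)
    have e1 := e.dat.Q_cent hxQ hw
    have e2 := L_comm hxL hz₀
    calc w * z₀ * x = w * (x * z₀) := by rw [e2]; group
      _ = (x * w) * z₀ := by rw [e1]; group
      _ = x * (w * z₀) := by group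
  · exact inf_le_inf_right _ B_le_L

theorem o2_LL [Finite G] : o2 (LL T h) = bau T ⊓ o2 H := by
  rw [← e.inf_Q]
  apply le_antisymm
  · refine le_inf (o2_le _) ?_
    have h1 : H ≤ normalizer (o2 (LL T h) : Set G) := e.norm_L.trans (normalizer_le_normalizer_o2 _)
    exact le_o2 ((o2_le _).trans e.L_le_H) (isPGroup_o2 _) h1
  · refine le_o2 inf_le_left ((isPGroup_o2 H).to_le inf_le_right) ?_
    exact (le_inf le_normalizer (e.L_le_H.trans (le_normalizer_o2 H))).trans inf_normalizer_le_normalizer_inf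

/-- `h = l q` -/
theorem exists_lq [Finite G] : ∃ l ∈ LL T h, ∃ x ∈ o2 H, h = l * x := by
  obtain ⟨x, hx, l, hl, hxl⟩ := exists_mul_of_mem_sup e.Q_norm_L
    (by rw [sup_comm]; exact e.H_le e.mem : h ∈ o2 H ⊔ LL T h)
  refine ⟨x * l * x⁻¹, (mem_normalizer_iff.1 (e.Q_norm_L hx) l).1 hl, x, hx, ?_⟩
  rw [inv_mul_cancel_right]
  exact hxl

theorem zl_LL [Finite G] : zl (bau T) (LL T h) = W ⊔ zj T := by
  have h0 : zj T ≤ zl (bau T) (LL T h) := by rw [← zc_bau]; exact zc_le_zl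
  have h1 : zl (bau T) (LL T h) ≤ W ⊔ zj T := by
    rw [FinalBridge.zl_le_iff]
    intro y hy x hx
    rw [zc_bau] at hx
    exact (mem_normalizer_iff.1 (norm_W1 e.dat (e.L_le_H hy)) x).1 (mem_sup_right hx)
  have h2 : cjn h (zj T) ≤ zl (bau T) (LL T h) := by
    intro x hx
    obtain ⟨l, hl, q, hq, hlq⟩ := e.exists_lq
    have h3 := mem_cjn.1 hx
    have h4 : q * (h⁻¹ * x * h) * q⁻¹ ∈ zj T :=
      (mem_normalizer_iff.1 (le_normalizer_zj T (e.dat.QT hq)) _).1 h3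
    have h5 : q * (h⁻¹ * x * h) * q⁻¹ = l⁻¹ * x * l := by rw [hlq]; group
    rw [h5] at h4
    have h6 := FinalBridge.conj_mem_zl (B := bau T) hl (by rw [zc_bau]; exact h4)
    have h7 : l * (l⁻¹ * x * l) * l⁻¹ = x := by group
    rwa [h7] at h6
  -- indices
  have h3 : zj T ⊔ cjn h (zj T) = W ⊔ zj T := by
    have hle : zj T ⊔ cjn h (zj T) ≤ W ⊔ zj T := (sup_le h0 h2).trans h1
    apply Subgroup.eq_of_le_of_card_ge hle
    have hn : zj T ≤ normalizer (cjn h (zj T) : Set G) :=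
      le_normalizer_of_comm fun x hx y hy => W1_comm e.dat (mem_sup_right hx) (hle (mem_sup_right hy))
    have e1 : (cjn h (zj T)).relIndex (zj T) = Fintype.card F := by
      rw [← e.relIndex_Z0_zj, ← Subgroup.inf_relIndex_right, inf_comm]
      rfl
    have e2 := card_mul_relIndex (le_sup_right : cjn h (zj T) ≤ zj T ⊔ cjn h (zj T))
    rw [relIndex_sup_of_le_normalizer hn, e1] at e2
    have e3 := card_mul_relIndex (h2.trans h1)
    rw [e.relIndex_cjn_zj] at e3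
    rw [← e2, ← e3]
  apply le_antisymm h1
  rw [← h3]
  exact sup_le h0 h2

theorem rl_LL [Finite G] : rl (bau T) (LL T h) = Z0 T h := by
  ext x
  constructor
  · rintro ⟨hx, hxL⟩
    rw [zc_bau] at hx
    refine ⟨hx, mem_cjn.2 ?_⟩
    obtain ⟨l, hl, q, hq, hlq⟩ := e.exists_lq
    have h1 : q⁻¹ * x * q ∈ zj T := by
      have := (mem_normalizer_iff.1 (le_normalizer_zj T (e.dat.QT (inv_mem hq))) x).1 hx
      rwa [inv_inv] at this
    have h2 := mem_centralizer_iff.1 hxL _ hl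
    have h5 : h⁻¹ * x * h = q⁻¹ * x * q := by
      calc h⁻¹ * x * h = q⁻¹ * (l⁻¹ * (x * l)) * q := by rw [hlq]; group
        _ = q⁻¹ * (l⁻¹ * (l * x)) * q := by rw [h2]
        _ = q⁻¹ * x * q := by group
    rw [h5]
    exact h1
  · intro hx
    refine ⟨by rw [zc_bau]; exact hx.1, mem_centralizer_iff.2 fun l hl => L_comm hl hx⟩

theorem exists_pow [Finite G] {x : G} (hx : x ∈ o2 H) : ∃ k : ℕ, x ^ 2 ^ k = 1 := by
  obtain ⟨k, hk⟩ := isPGroup_o2 H ⟨x, hx⟩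
  exact ⟨k, by have := congrArg Subtype.val hk; simpa using this⟩

theorem lblk [Finite G] : LBlk (bau T) (LL T h) (Fintype.card F) := by
  have hLN := e.L_le_H
  have hWc : ∀ x ∈ W ⊔ zj T, ∀ y ∈ W ⊔ zj T, x * y = y * x := fun x hx y hy => W1_comm e.dat hx hy
  have hBH : bau T ≤ H := e.B_le_H
  have hBnQ : ∀ b ∈ bau T, ∀ z ∈ zj T, b * z = z * b := fun b hb z hz => (mem_centralizer_iff.1 hb.2 z hz).symm
  exact
  { le := B_le_L
    two := isPGroup_bau e.dat.two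
    four := e.dat.four
    iso := by
      refine ⟨F, inferInstance, inferInstance, inferInstance, ψ.comp (Subgroup.inclusion hLN), ?_, ?_, rfl⟩
      · intro x
        obtain ⟨n, rfl⟩ := e.dat.surj x
        obtain ⟨q, hq, l, hl, hql⟩ := exists_mul_of_mem_sup e.Q_norm_L
          (by rw [sup_comm]; exact e.H_le n.2 : (n : G) ∈ o2 H ⊔ LL T h)
        refine ⟨⟨l, hl⟩, ?_⟩
        change ψ ⟨l, hLN hl⟩ = ψ n
        have h1 : n = ⟨q, o2_le H hq⟩ * ⟨l, hLN hl⟩ := Subtype.ext hql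
        rw [h1, map_mul, (e.dat.ker (o2_le H hq)).2 hq, one_mul]
      · ext l
        rw [MonoidHom.mem_ker, mem_subgroupOf, e.o2_LL]
        change ψ ⟨l, hLN l.2⟩ = 1 ↔ _
        rw [e.dat.ker (hLN l.2), ← e.inf_Q]
        exact ⟨fun h1 => ⟨l.2, h1⟩, fun h1 => h1.2⟩
    o2_le := by rw [e.o2_LL]; exact inf_le_left
    o2_index := by
      rw [e.o2_LL]
      obtain ⟨U, hU, -⟩ := e.dat.exists_U
      have hker : ψ.ker = (o2 H).subgroupOf H := by
        ext n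
        rw [MonoidHom.mem_ker, mem_subgroupOf]
        exact e.dat.ker n.2
      have h1 : Nat.card (((bau T).subgroupOf H).map ψ) = Fintype.card F := by
        rw [← T1Sl2.card_sylow U]
        have h2 : ((bau T).subgroupOf H).map ψ = (U : Subgroup (SpecialLinearGroup (Fin 2) F)) := by
          rw [← hU]
          apply le_antisymm
          · exact Subgroup.map_mono fun x hx => bau_le T hx
          · rintro _ ⟨t, ht, rfl⟩
            obtain ⟨b, hb, x, hx, hbx⟩ := e.T_le ht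
            refine ⟨⟨b, hBH hb⟩, hb, ?_⟩
            have h3 : t = ⟨b, hBH hb⟩ * ⟨x, o2_le H hx⟩ := Subtype.ext hbx
            rw [h3, map_mul, (e.dat.ker (o2_le H hx)).2 hx, mul_one]
        rw [h2]
      rw [← Subgroup.relIndex_ker, hker, Subgroup.relIndex_subgroupOf hBH] at h1
      rw [← h1, ← Subgroup.inf_relIndex_right (o2 H) (bau T), inf_comm]
    self_cent := by
      rintro x ⟨hxL, hxc⟩
      rw [e.o2_LL, ← e.inf_Q]
      refine ⟨hxL, e.dat.mem_Q (e.L_le_H hxL) fun w hw => ?_⟩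
      have hw' : w ∈ o2 (LL T h) := by
        rw [e.o2_LL]
        exact ⟨⟨e.dat.W_le_T hw, mem_centralizer_iff.2 fun z hz =>
          hWc z (mem_sup_right hz) w (mem_sup_left hw)⟩, e.dat.WQ hw⟩
      exact (mem_centralizer_iff.1 hxc w hw').symm
    zl_comm := by
      rw [e.zl_LL]; exact hWc
    zl_sq := by
      rw [e.zl_LL]; intro x hx; exact W1_sq e.dat hx
    cent_zl := by
      rw [e.zl_LL, e.o2_LL]
      ext b
      constructor
      · rintro ⟨hb, hbc⟩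
        exact ⟨hb, e.dat.mem_Q (hBH hb) fun w hw => (mem_centralizer_iff.1 hbc w (mem_sup_left hw)).symm⟩
      · rintro ⟨hb, hbQ⟩
        refine ⟨hb, mem_centralizer_iff.2 fun v hv => ?_⟩
        obtain ⟨w, hw, z, hz, rfl⟩ := exists_W_mul e.dat hv
        have e1 := e.dat.Q_cent hbQ hw
        have e2 := hBnQ b hb z hz
        calc w * z * b = w * (b * z) := by rw [e2]; group
          _ = (b * w) * z := by rw [e1]; group
          _ = b * (w * z) := by group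
    rl_index := by rw [rl_LL e, zc_bau, e.relIndex_Z0_zj]
    zl_index := by rw [e.zl_LL, zc_bau, relIndex_zj e.dat]
    comm := by
      intro b hb v hv
      rw [e.zl_LL] at hv
      rw [zc_bau]
      obtain ⟨w, hw, z, hz, rfl⟩ := exists_W_mul e.dat hv
      have e2 := hBnQ b hb z hz
      have e3 : b * (w * z) * b⁻¹ * (w * z)⁻¹ = b * w * b⁻¹ * w⁻¹ := by
        calc b * (w * z) * b⁻¹ * (w * z)⁻¹ = b * w * (z * b⁻¹) * z⁻¹ * w⁻¹ := by group
          _ = b * w * (b⁻¹ * z) * z⁻¹ * w⁻¹ := by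
            have : z * b⁻¹ = b⁻¹ * z := by
              calc z * b⁻¹ = b⁻¹ * (b * z) * b⁻¹ := by group
                _ = b⁻¹ * (z * b) * b⁻¹ := by rw [e2]
                _ = b⁻¹ * z := by group
            rw [this]
          _ = b * w * b⁻¹ * w⁻¹ := by group
      rw [e3]
      -- replace `b` by an element of `A`
      obtain ⟨A, hA, hA1⟩ := e.dat.ex
      obtain ⟨a, ha, x, hx, rfl⟩ := e.dat.exists_mul hA hA1 (bau_le T hb)
      have e4 := e.dat.Q_cent hx hw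
      have e5 : a * x * w * (a * x)⁻¹ * w⁻¹ = a * w * a⁻¹ * w⁻¹ := by
        calc a * x * w * (a * x)⁻¹ * w⁻¹ = a * (x * w) * x⁻¹ * a⁻¹ * w⁻¹ := by group
          _ = a * w * a⁻¹ * w⁻¹ := by rw [e4]; group
      rw [e5]
      have haH := e.dat.TH (hA.1 ha)
      have hcW : a * w * a⁻¹ * w⁻¹ ∈ W := mul_mem (e.dat.W_conj haH hw) (inv_mem hw)
      by_cases h1 : ψ ⟨a, haH⟩ = 1
      · have h2 := e.dat.Q_cent ((e.dat.ker haH).1 h1) hw
        have h3 : a * w * a⁻¹ * w⁻¹ = 1 := by rw [h2]; group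
        rw [h3]
        exact one_mem _
      · rw [e.dat.mem_zj_iff hcW]
        refine e.dat.fix a haH (hA.1 ha) h1 _ hcW ?_
        have ha2 : a * a = 1 := by
          have := (isElementaryAbelian_iff.1 hA.2.1).2 a ha
          rwa [pow_two] at this
        have ha3 : a⁻¹ = a := inv_eq_of_mul_eq_one_left ha2
        have hw2 : w⁻¹ = w := inv_eq_of_mul_eq_one_left (e.dat.W_sq hw)
        have h4 : a * w * a⁻¹ ∈ W := e.dat.W_conj haH hw
        have h5 := e.dat.W_comm h4 hw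
        rw [ha3, hw2]
        rw [ha3] at h5
        calc a * (a * w * a * w) = (a * a) * w * a * w := by group
          _ = w * a * w := by rw [ha2, one_mul]
          _ = (w * (a * w * a)) * a⁻¹ := by
            have : w * a * w = w * (a * w * a) * a⁻¹ := by group
            exact this
          _ = ((a * w * a) * w) * a⁻¹ := by rw [h5]
          _ = a * w * a * w * a := by rw [ha3]
    cent := by
      intro b hb hbQ v hv hbv
      rw [e.zl_LL] at hv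
      rw [zc_bau]
      obtain ⟨w, hw, z, hz, rfl⟩ := exists_W_mul e.dat hv
      have e2 := hBnQ b hb z hz
      have e3 : b * w = w * b := by
        calc b * w = (b * (w * z)) * z⁻¹ := by group
          _ = (w * z * b) * z⁻¹ := by rw [hbv]
          _ = w * (z * b) * z⁻¹ := by group
          _ = w * (b * z) * z⁻¹ := by rw [e2]
          _ = w * b := by group
      refine mul_mem ((e.dat.mem_zj_iff hw).2 (e.dat.fix b (hBH hb) (bau_le T hb) ?_ w hw e3)) hz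
      intro h1
      apply hbQ
      rw [e.o2_LL]
      exact ⟨hb, (e.dat.ker (hBH hb)).1 h1⟩
    fpf := by
      intro x hx hx3 v hv hxv
      rw [e.zl_LL] at hv
      rw [rl_LL e]
      obtain ⟨w, hw, z, hz, rfl⟩ := e.exists_Z0_mul hv
      have e2 := L_comm hx hz
      have e3 : x * w = w * x := by
        calc x * w = (x * (w * z)) * z⁻¹ := by group
          _ = (w * z * x) * z⁻¹ := by rw [hxv]
          _ = w * (z * x) * z⁻¹ := by group
          _ = w * (x * z) * z⁻¹ := by rw [e2]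
          _ = w * x := by group
      refine mul_mem (e.mem_Z0_of_comm hw (e.dat.fpf x (hLN hx) 3 (by decide) ?_ ?_ w hw e3)) hz
      · rw [← map_pow]
        have h1 : (⟨x, hLN hx⟩ : H) ^ 3 = 1 := by
          apply Subtype.ext
          have := pow_orderOf_eq_one x
          rw [hx3] at this
          simpa using this
        rw [h1, map_one]
      · intro h1
        obtain ⟨k, hk⟩ := exists_pow e ((e.dat.ker (hLN hx)).1 h1)
        have h2 := orderOf_dvd_of_pow_eq_one hk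
        rw [hx3] at h2
        have h3 := (Nat.Prime.dvd_of_dvd_pow (by norm_num) h2 : 3 ∣ 2)
        omega }

end LinH

/-- **The block.** -/
theorem LinIn.exists_lblk [Finite G] : ∃ L : Subgroup G, L ≤ H ∧ H ≤ L ⊔ o2 H ∧ LBlk (bau T) L (Fintype.card F) ∧
    zl (bau T) L = W ⊔ zj T ∧ zl (bau T) L = W ⊔ rl (bau T) L := by
  obtain ⟨ψ', h, e⟩ := exists_h d
  exact ⟨LL T h, e.L_le_H, e.H_le, e.lblk, e.zl_LL, by rw [e.rl_LL, e.sup_Z0, e.zl_LL]⟩

end Cfsg.Agent.OddCyclic.RedLin
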