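import Cfsg.Agent.OddCyclic.RedLinY
import Cfsg.Agent.OddCyclic.RedLBlk

/-!
# S0342, (C2), 2.4: the type (Lin q)
-/

set_option autoImplicit false
set_option linter.unusedSectionVars false

namespace Cfsg.Agent.OddCyclic.RedLinX

open Subgroup Cfsg Cfsg.Agent.ZN
open Cfsg.Agent.ZN.ChoiceBase (AA)
open Cfsg.Agent.MinSimple
open Cfsg.Agent.OddCyclic.T1Defs Cfsg.Agent.OddCyclic.COneDefs
open Cfsg.Agent.OddCyclic.T1Module Cfsg.Agent.OddCyclic.FFBasic Cfsg.Agent.OddCyclic.FFRed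
open Cfsg.Agent.OddCyclic.RedFam Cfsg.Agent.OddCyclic.RedLinA Cfsg.Agent.OddCyclic.RedLinT
open Cfsg.Agent.OddCyclic.RedTy Cfsg.Agent.OddCyclic.RedRep
open Matrix (SpecialLinearGroup)
open scoped commutatorElement

local notation "UI" => Cfsg.Agent.OddCyclic.T1Sl2.UI

universe u

variable {G : Type u} [Group G]

/-- the block does not centralise `vl B L` -/
theorem not_le_cent_vl [Finite G] {B L : Subgroup G} {q : ℕ} (h : LBlk B L q) : ¬ L ≤ centralizer (vl B L : Set G) := by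
  intro hc
  obtain ⟨b, hb, hbQ⟩ := COneBlk.exists_not_mem h
  have h1 : vl B L ≤ rl B L := by
    intro v hv
    refine ⟨h.cent b hb hbQ v (Block.vl_le_zl B L hv) ?_, mem_centralizer_iff.2 fun l hl => ?_⟩
    · exact (mem_centralizer_iff.1 (hc (h.le hb)) v hv).symm
    · exact (mem_centralizer_iff.1 (hc hl) v hv).symm
  refine RedLBlk.not_zl_le_rl h (RedLBlk.le_rl_of_triv h le_rfl (fun l hl p hp => COneBlk.zl_conj hl hp)
    fun b hb p hp => h1 ?_)
  have h2 : ⁅p, b⁆ ∈ vl B L := commutator_mem_commutator hp (h.le hb)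
  have h3 : b * p * b⁻¹ * p⁻¹ = ⁅p, b⁆⁻¹ := by rw [commutatorElement_def]; group
  rw [h3]
  exact inv_mem h2

/-- a normal subgroup of a block centralising `vl B L` lies in `O₂(L)` -/
theorem inf_le_o2 [Finite G] {B L C : Subgroup G} {q : ℕ} (h : LBlk B L q) (hn : L ≤ normalizer (C : Set G))
    (hc : C ≤ centralizer (vl B L : Set G)) : L ⊓ C ≤ o2 L := by
  obtain ⟨F, _, _, _, φ, hφ, hk, hF⟩ := h.iso
  have hs := FFBasic.isSimpleGroup_sl2 (F := F) (by rw [hF]; exact h.four)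
  have hLC : L ≤ normalizer ((L ⊓ C : Subgroup G) : Set G) :=
    (le_inf le_normalizer hn).trans inf_normalizer_le_normalizer_inf
  have hN : ((L ⊓ C).subgroupOf L).Normal := (normal_subgroupOf_iff_le_normalizer inf_le_left).2 hLC
  have hN' := hN.map φ hφ
  have hker : ∀ l : L, φ l = 1 ↔ (l : G) ∈ o2 L := fun l => by
    rw [← MonoidHom.mem_ker, hk]
    exact Iff.rfl
  rcases hN'.eq_bot_or_eq_top with h1 | h1
  · intro x hx
    have h2 : φ ⟨x, hx.1⟩ ∈ ((L ⊓ C).subgroupOf L).map φ := ⟨⟨x, _⟩, hx, rfl⟩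
    rw [h1, mem_bot] at h2
    exact (hker _).1 h2
  · exfalso
    refine not_le_cent_vl h fun l hl => ?_
    obtain ⟨c, hc1, hcl⟩ : φ ⟨l, hl⟩ ∈ ((L ⊓ C).subgroupOf L).map φ := by rw [h1]; exact mem_top _
    have h2 : φ (c⁻¹ * ⟨l, hl⟩) = 1 := by rw [map_mul, map_inv, hcl, inv_mul_cancel]
    have h3 := (hker _).1 h2
    have h4 : (c⁻¹ * ⟨l, hl⟩ : L) ∈ (centralizer (vl B L : Set G)).subgroupOf L := by
      rw [mem_subgroupOf]
      have := h.cent_zl
      rw [← this] at h3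
      exact centralizer_le (Block.vl_le_zl B L) h3.2
    have h5 : l = (c : G) * ((c⁻¹ * ⟨l, hl⟩ : L) : G) := by
      rw [coe_mul, coe_inv]; group
    rw [h5]
    exact mul_mem (hc hc1.2) h4

variable {H V : Type u} [Group H] [CommGroup V] {X T Y : Subgroup G} {r : X →* H} {ρ : H →* MulAut V} {ι : V →* G}
  {L : Subgroup H} {F : Type} [Field F] [Fintype F] [CharP F 2] {e : L ≃* SpecialLinearGroup (Fin 2) F}
  {U : Subgroup H}

namespace Dat

variable [Finite G] (d : Dat X T Y r ρ ι L F e U)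

include d

/-- the image of `bau T` is `U` -/
theorem r_bau {b : G} (hb : b ∈ bau T) : r ⟨b, d.T_le_X (ZN.bau_le T hb)⟩ ∈ U := d.r_inf ⟨ZN.bau_le T hb, d.bau_le hb⟩

theorem exists_bau {u : H} (hu : u ∈ U) : ∃ b, ∃ hb : b ∈ bau T, r ⟨b, d.T_le_X (ZN.bau_le T hb)⟩ = u := by
  obtain ⟨A, hA, hAU⟩ := d.exists_A
  rw [← hAU] at hu
  obtain ⟨a, ha, rfl⟩ := hu
  exact ⟨a, jj_le_bau T (ChoiceBase.le_jj hA ha), rfl⟩

/-- `NN` normalises `C_X(Y)` and centralises... a product decomposition -/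
theorem exists_lc {L₀ : Subgroup G} (hL : L₀ ≤ NN X r L) (hN : NN X r L ≤ L₀ ⊔ CC X Y) {n : G} (hn : n ∈ NN X r L) :
    ∃ l ∈ L₀, ∃ c ∈ CC X Y, n = l * c :=
  COneLinB.exists_mul_of_mem_sup (hL.trans (NN_le.trans d.CC_norm)) (hN hn)

theorem CC_comm {c y : G} (hc : c ∈ CC X Y) (hy : y ∈ Y) : c * y = y * c := (mem_centralizer_iff.1 hc.2 y hy).symm

/-- `vl B L₀ = [Y, N]` -/
theorem vl_eq {L₀ : Subgroup G} {q : ℕ} (hb : LBlk (bau T) L₀ q) (hL : L₀ ≤ NN X r L) (hN : NN X r L ≤ L₀ ⊔ CC X Y)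
    (hz : zl (bau T) L₀ = Y ⊔ rl (bau T) L₀) : vl (bau T) L₀ = ⁅Y, NN X r L⁆ := by
  have hYr : Y ≤ normalizer (rl (bau T) L₀ : Set G) :=
    COneLinB.le_normalizer_of_comm fun y hy x hx => hb.zl_comm y (by rw [hz]; exact mem_sup_left hy) x
      (COneBlk.rl_le_zl _ _ hx)
  apply le_antisymm
  · rw [vl, Subgroup.commutator_le]
    intro z hzz l hl
    rw [hz] at hzz
    obtain ⟨y, hy, x, hx, rfl⟩ := COneLinB.exists_mul_of_mem_sup hYr hzz
    have h1 : l * x = x * l := COneBlk.rl_comm hx hl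
    have h2 : ⁅y * x, l⁆ = ⁅y, l⁆ := by
      rw [commutatorElement_def, commutatorElement_def]
      calc y * x * l * (y * x)⁻¹ * l⁻¹ = y * (x * l) * x⁻¹ * y⁻¹ * l⁻¹ := by group
        _ = y * l * y⁻¹ * l⁻¹ := by rw [← h1]; group
    rw [h2]
    exact commutator_mem_commutator hy (hL hl)
  · rw [Subgroup.commutator_le]
    intro y hy n hn
    obtain ⟨l, hl, c, hc, rfl⟩ := d.exists_lc hL hN hn
    have h1 := d.CC_comm hc hy
    have h2 : ⁅y, l * c⁆ = ⁅y, l⁆ := by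
      rw [commutatorElement_def, commutatorElement_def]
      have h3 : c * y⁻¹ = y⁻¹ * c := by
        calc c * y⁻¹ = y⁻¹ * (y * c) * y⁻¹ := by group
          _ = y⁻¹ * c := by rw [← h1]; group
      calc y * (l * c) * y⁻¹ * (l * c)⁻¹ = y * l * (c * y⁻¹) * c⁻¹ * l⁻¹ := by group
        _ = y * l * y⁻¹ * l⁻¹ := by rw [h3]; group
    rw [h2]
    exact commutator_mem_commutator (by rw [hz]; exact mem_sup_left hy) hl

/-- blocks over `bau T` in `X` lie in `N` -/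
theorem le_NN {L' : Subgroup G} {q' : ℕ} (h : LBlk (bau T) L' q') (hX : L' ≤ X) : L' ≤ NN X r L := by
  obtain ⟨l, hl, hgen⟩ := RedLBlk.gen h
  refine hgen _ d.bau_le fun b hb => ?_
  exact (mem_normalizer_iff.1 (NN_norm d.std.normal (hX hl)) b).1 (d.bau_le hb)

/-- `O₂(L') = bau T ∩ C_X(Y)` for all `SL₂`-blocks -/
theorem o2_eq {L' : Subgroup G} {q' : ℕ} (h : LBlk (bau T) L' q') (hX : L' ≤ X) : o2 L' = bau T ⊓ CC X Y := by
  have h2p : Fact (Nat.Prime 2) := ⟨Nat.prime_two⟩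
  have hvl : vl (bau T) L' ≤ Y := d.yc.vl_le L' hX (Or.inr ⟨q', h⟩)
  have hLN := d.le_NN h hX
  have hle : L' ⊓ CC X Y ≤ o2 L' :=
    inf_le_o2 h (hX.trans d.CC_norm) ((inf_le_right : CC X Y ≤ centralizer (Y : Set G)).trans (centralizer_le hvl))
  apply le_antisymm ?_ (fun x hx => hle ⟨h.le hx.1, hx.2⟩)
  refine le_inf h.o2_le ?_
  set φ : L' →* SpecialLinearGroup (Fin 2) F := (psi X r L e).comp (Subgroup.inclusion hLN) with hφ
  have hφk : ∀ l : L', φ l = 1 ↔ (l : G) ∈ CC X Y := fun l => d.psi_eq_one ⟨l, hLN l.2⟩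
  have hφU : ∀ l : L', φ l ∈ UI F ↔ r ⟨l, hX l.2⟩ ∈ U := fun l => d.psi_mem ⟨l, hLN l.2⟩
  have hUr : UI F ≤ φ.range := by
    intro x hx
    have h2 : ((e.symm x : L) : H) ∈ U := by
      rw [d.std.std _ (e.symm x).2]
      have : e ⟨(e.symm x : L), (e.symm x).2⟩ = x := e.apply_symm_apply x
      rwa [this]
    obtain ⟨b, hb, hbu⟩ := d.exists_bau h2
    refine ⟨⟨b, h.le hb⟩, ?_⟩
    change psi X r L e ⟨b, hLN (h.le hb)⟩ = x
    rw [← e.apply_symm_apply x, psi_eq]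
    exact hbu
  have htop : φ.range = ⊤ := by
    obtain ⟨g, hg, x, hx, hgx⟩ := COneBlk.not_normal h
    have hne : T1Sl2.SU F ≠ φ ⟨g, hg⟩ • T1Sl2.SU F := by
      intro h0
      apply hgx
      have h1 : φ ⟨x, h.le hx⟩ ∈ T1Sl2.SU F := (hφU _).2 (d.r_bau hx)
      have h2 : φ ⟨g, hg⟩ * φ ⟨x, h.le hx⟩ * (φ ⟨g, hg⟩)⁻¹ ∈ T1Sl2.SU F := by
        have := T1Sl2.conj_mem_smul (g := φ ⟨g, hg⟩) h1
        rw [← h0] at this
        exact this
      rw [← map_inv, ← map_mul, ← map_mul] at h2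
      have h3 := (hφU _).1 h2
      obtain ⟨b, hb, hbu⟩ := d.exists_bau h3
      have h4 : g * x * g⁻¹ * b⁻¹ ∈ CC X Y := by
        have hm : g * x * g⁻¹ * b⁻¹ ∈ X := mul_mem (mul_mem (mul_mem (hX hg) (hX (h.le hx))) (inv_mem (hX hg)))
          (inv_mem (hX (h.le hb)))
        rw [← d.r_eq_one hm]
        have e1 : (⟨g * x * g⁻¹ * b⁻¹, hm⟩ : X) = ⟨_, hX (⟨g, hg⟩ * ⟨x, h.le hx⟩ * (⟨g, hg⟩)⁻¹ : L').2⟩ *
            ⟨b, hX (h.le hb)⟩⁻¹ := rfl
        rw [e1, map_mul, map_inv, mul_inv_eq_one]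
        exact hbu.symm
      have h5 : g * x * g⁻¹ * b⁻¹ ∈ L' := mul_mem (mul_mem (mul_mem hg (h.le hx)) (inv_mem hg)) (inv_mem (h.le hb))
      have h6 : g * x * g⁻¹ = (g * x * g⁻¹ * b⁻¹) * b := by group
      rw [h6]
      exact mul_mem (h.o2_le (hle ⟨h5, h4⟩)) hb
    rw [eq_top_iff, ← T1Sl2.sylow_sup hne]
    refine sup_le hUr fun y hy => ?_
    have h1 : (φ ⟨g, hg⟩)⁻¹ * y * φ ⟨g, hg⟩ ∈ T1Sl2.SU F := T1Sl2.mem_smul.1 hy
    have h2 : y = φ ⟨g, hg⟩ * ((φ ⟨g, hg⟩)⁻¹ * y * φ ⟨g, hg⟩) * (φ ⟨g, hg⟩)⁻¹ := by group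
    rw [h2]
    exact Subgroup.mul_mem _ (Subgroup.mul_mem _ ⟨_, rfl⟩ (hUr h1)) (Subgroup.inv_mem _ ⟨_, rfl⟩)
  have hs : Function.Surjective φ := MonoidHom.range_eq_top.1 htop
  have h1 : ((o2 L').subgroupOf L').map φ = ⊥ := by
    apply RedLinK.eq_bot_of_isPGroup d.std.four
    · exact ((normal_subgroupOf_iff_le_normalizer (o2_le L')).2 (le_normalizer_o2 L')).map φ hs
    · exact ((isPGroup_o2 L').comap_of_injective _ L'.subtype_injective).map φ
  intro x hx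
  have h3 : φ ⟨x, o2_le L' hx⟩ ∈ ((o2 L').subgroupOf L').map φ := ⟨⟨x, _⟩, hx, rfl⟩
  rw [h1, mem_bot] at h3
  exact (hφk _).1 h3

/-- no dihedral blocks -/
theorem nodih {L' : Subgroup G} {k : ℕ} (hX : L' ≤ X) (h : IsDBlk (bau T) L' k) : False := by
  have := d.finH
  have := d.finV
  have hvl : vl (bau T) L' ≤ Y := d.yc.vl_le L' hX (Or.inl ⟨k, h⟩)
  set P : Subgroup V := (vl (bau T) L').comap ι with hP
  have hPm : P.map ι = vl (bau T) L' := by
    rw [hP, Subgroup.map_comap_eq, d.rep.range, inf_eq_right]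
    exact hvl
  have hPc : Nat.card P = 4 := by
    rw [← h.card_vl, ← hPm, Subgroup.card_map_of_injective d.rep.iinj]
  obtain ⟨b, hb, hbQ⟩ := DBlkApi.exists_b h
  apply hbQ
  apply DBlkApi.mem_o2_of_cent h hb
  rw [mem_centralizer_iff]
  intro v hv
  rw [← hPm] at hv
  obtain ⟨w, hw, rfl⟩ := hv
  have h1 := RedFam.no_plane (ρ := ρ) (d.fam.bo U d.Ufam) (by rw [d.card_U]; exact d.std.four)
    (d.all U d.Ufam d.Une).2.2.2 hPc (fun u hu p hp => by
      obtain ⟨c, hc, rfl⟩ := d.exists_bau hu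
      rw [hP, mem_comap, d.rep.act]
      exact (mem_normalizer_iff.1 (le_normalizer_vl (bau T) L' (h.le hc)) _).1 hp) _ (d.r_bau hb) w hw
  exact ((d.rep.fix (x := ⟨b, _⟩)).1 h1).symm

/-- **The type (Lin q).** -/
theorem lin (hcyc : OddCyc G) : ∃ L₀, RedTy.Lin X T L₀ (Fintype.card F) := by
  obtain ⟨L₀, hLN, hNL, hb, hz, hz', ho⟩ := d.exists_lblk hcyc
  have hLX : L₀ ≤ X := hLN.trans NN_le
  refine ⟨L₀, hLX, hb, ?_, ?_, fun L' k hX h => d.nodih hX h, ?_⟩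
  · rw [d.vl_eq hb hLN hNL hz', le_normalizer_iff]
    intro g hg x hx
    have h1 : (⁅Y, NN X r L⁆).map (MulAut.conj g).toMonoidHom = ⁅Y, NN X r L⁆ := by
      rw [Subgroup.map_commutator]
      have h2 : ∀ D : Subgroup G, X ≤ normalizer (D : Set G) → D.map (MulAut.conj g).toMonoidHom = D := by
        intro D hD
        ext y
        constructor
        · rintro ⟨z, hz, rfl⟩
          exact (mem_normalizer_iff.1 (hD hg) z).1 hz
        · intro hy
          refine ⟨g⁻¹ * y * g, ?_, ?_⟩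
          · have := (mem_normalizer_iff.1 (hD (inv_mem hg)) y).1 hy
            rwa [inv_inv] at this
          · change g * (g⁻¹ * y * g) * g⁻¹ = y
            group
      rw [h2 Y d.yc.nor, h2 _ (NN_norm d.std.normal)]
    rw [← h1]
    exact ⟨x, hx, rfl⟩
  · intro L' q' hX h
    have h1 : o2 L' = o2 L₀ := by rw [d.o2_eq h hX, d.o2_eq hb hLX]
    have h2 : q' = Fintype.card F := by rw [← h.o2_index, ← hb.o2_index, h1]
    refine ⟨?_, h2⟩
    have hvl : vl (bau T) L' ≤ Y := d.yc.vl_le L' hX (Or.inr ⟨q', h⟩)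
    have h3 : zl (bau T) L' ≤ zl (bau T) L₀ := by
      rw [hz, FinalBridge.zl_le_iff]
      intro l hl z hz2
      have h4 : ⁅l, z⁆ ∈ Y := by
        apply hvl
        have h5 : ⁅z, l⁆ ∈ vl (bau T) L' := commutator_mem_commutator (COneBlk.zc_le_zl _ _ hz2) hl
        rw [← commutatorElement_inv]
        exact inv_mem h5
      rw [zc_bau] at hz2
      have h5 : l * z * l⁻¹ = ⁅l, z⁆ * z := by rw [commutatorElement_def]; group
      rw [h5]
      exact mul_mem (mem_sup_left h4) (mem_sup_right hz2)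
    apply Subgroup.eq_of_le_of_card_ge h3
    have h4 := COneLinB.card_mul_relIndex (COneBlk.zc_le_zl (bau T) L')
    have h5 := COneLinB.card_mul_relIndex (COneBlk.zc_le_zl (bau T) L₀)
    rw [h.zl_index] at h4
    rw [hb.zl_index] at h5
    rw [← h4, ← h5, h2]
  · have h1 := Basic.frattini_jj d.T_le_X d.yc.two d.yc.syl (NN_norm (r := r) d.std.normal) d.jj_le
    refine h1.trans (sup_le (hNL.trans (sup_le (le_sup_left.trans le_sup_left) ?_)) le_sup_right)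
    refine le_trans ?_ (le_sup_right.trans le_sup_left)
    exact inf_le_inf_left _ (centralizer_le d.yc.zc_le)

end Dat

/-- **(R-Lin)**: the output (Lin q) of the offender theorem. -/
theorem main [Finite G] (hcyc : OddCyc G) (hy : YC X T Y) (hR : Rep X Y r ρ ι) (hF : Fam ρ (im X T r) (famOf X T r))
    {A : Subgroup H} (hA : A ∈ famOf X T r) (hA1 : A ≠ ⊥) (ho : RedFFDefs.OutLin ρ A) :
    ∃ (L₀ : Subgroup G) (q : ℕ), RedTy.Lin X T L₀ q := by
  obtain ⟨L, F, _, _, _, e, U, d⟩ := exists_dat hy hR hF hA hA1 ho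
  obtain ⟨L₀, h⟩ := d.lin hcyc
  exact ⟨L₀, _, h⟩

end Cfsg.Agent.OddCyclic.RedLinX
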