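import Cfsg.Agent.OddCyclic.COneOdd

/-!
# S0342, (C2), 1.2: a normal subgroup of odd order in a group with perfect residual which is minimal over a Sylow
2-subgroup among the subgroups covering `X / C` is trivial (after COneOdd of helper106)
-/

set_option autoImplicit false

namespace Cfsg.Agent.OddCyclic.RedLinOdd

open Subgroup Cfsg.Agent.OddCyclic.T1Defs
open Cfsg.Agent.OddCyclic.COneOdd (commutator_le_centralizer not_mem_commutator exists_sylow_conj_le
  index_mul_card_inf zpowers_eq_of_orderOf)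
open scoped Pointwise commutatorElement

variable {X : Type*} [Group X]

/-- **No normal subgroup of odd order.** -/
theorem eq_bot [Finite X] (hcyc : OddCyc X) (T : Sylow 2 X) {C N : Subgroup X} [C.Normal] [N.Normal]
    (hmin : ∀ Y : Subgroup X, (T : Subgroup X) ≤ Y → Y ⊔ C = ⊤ → Y = ⊤)
    (hodd : Odd (Nat.card C)) (hN : N ⊔ T = ⊤) (hperf : N ≤ ⁅N, N⁆ ⊔ C) : C = ⊥ := by
  have h2p : Fact (Nat.Prime 2) := ⟨Nat.prime_two⟩
  by_contra hC
  obtain ⟨r, hr, hrC⟩ := Nat.exists_prime_and_dvd (fun h => hC (Subgroup.card_eq_one.1 h))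
  have hrf : Fact r.Prime := ⟨hr⟩
  have hr2 : r ≠ 2 := by
    rintro rfl
    rw [← Nat.not_even_iff_odd, even_iff_two_dvd] at hodd
    exact hodd hrC
  -- a normal Sylow subgroup of `C`
  obtain ⟨R₀⟩ : Nonempty (Sylow r C) := inferInstance
  set R₁ : Subgroup X := (R₀ : Subgroup C).map C.subtype with hR₁
  have hfr : normalizer (R₁ : Set X) ⊔ C = ⊤ := Sylow.normalizer_sup_eq_top R₀
  have hidx : ¬ 2 ∣ (normalizer (R₁ : Set X)).index := by
    intro h
    have h1 : (normalizer (R₁ : Set X)).index ∣ Nat.card C := Dvd.intro _ (index_mul_card_inf hfr)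
    rw [← Nat.not_even_iff_odd, even_iff_two_dvd] at hodd
    exact hodd (h.trans h1)
  obtain ⟨g, hg⟩ := exists_sylow_conj_le T hidx
  have hnt : normalizer (R₁ : Set X) = ⊤ := by
    -- the conjugate `N(R₁) ^ (g⁻¹)`
    set K : Subgroup X := (normalizer (R₁ : Set X)).comap (MulAut.conj g).toMonoidHom with hK
    have hTK : (T : Subgroup X) ≤ K := fun t ht => hg t ht
    have hKC : K ⊔ C = ⊤ := by
      have h1 : (K ⊔ C) = (normalizer (R₁ : Set X) ⊔ C).comap (MulAut.conj g).toMonoidHom := by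
        have h2 : C = C.comap (MulAut.conj g).toMonoidHom := by
          ext x
          rw [mem_comap]
          change x ∈ C ↔ g * x * g⁻¹ ∈ C
          refine ⟨fun h => (inferInstance : C.Normal).conj_mem x h g, fun h => ?_⟩
          have := (inferInstance : C.Normal).conj_mem _ h g⁻¹
          have e : g⁻¹ * (g * x * g⁻¹) * g⁻¹⁻¹ = x := by group
          rwa [e] at this
        conv_lhs => rw [h2, hK]
        exact (Subgroup.comap_sup_eq _ _ _ (MulAut.conj g).surjective)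
      rw [h1, hfr, comap_top]
    have hKtop : K = ⊤ := hmin K hTK hKC
    rw [eq_top_iff]
    intro x _
    have h1 : g⁻¹ * x * g ∈ K := by rw [hKtop]; exact mem_top _
    have h2 : g * (g⁻¹ * x * g) * g⁻¹ ∈ normalizer (R₁ : Set X) := h1
    have e : g * (g⁻¹ * x * g) * g⁻¹ = x := by group
    rwa [e] at h2
  have hRn : R₁.Normal := normalizer_eq_top_iff.1 hnt
  have hRp : IsPGroup r R₁ := R₀.isPGroup'.map _
  have hRle : ∀ P : Sylow r X, R₁ ≤ P := fun P => hRp.le_sylow_of_normal P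
  have hRcyc : IsCyclic R₁ := by
    obtain ⟨P⟩ : Nonempty (Sylow r X) := inferInstance
    have := hcyc r P hr hr2
    exact isCyclic_of_injective (Subgroup.inclusion (hRle P)) (Subgroup.inclusion_injective _)
  have hRne : ∃ x ∈ R₁, orderOf x = r := by
    have h1 : r ∣ Nat.card R₁ := by
      rw [hR₁, Subgroup.card_map_of_injective C.subtype_injective]
      exact R₀.dvd_card_of_dvd_card hrC
    obtain ⟨x, hx⟩ := exists_prime_orderOf_dvd_card' r h1
    exact ⟨x, x.2, by rw [Subgroup.orderOf_coe]; exact hx⟩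
  obtain ⟨x₀, hx₀, hx₀r⟩ := hRne
  -- `Y = [N, N]` centralises `R₁`
  set Y : Subgroup X := ⁅N, N⁆ with hY
  have hYR : Y ≤ centralizer (R₁ : Set X) :=
    (commutator_mono le_top le_top).trans (commutator_le_centralizer hRcyc)
  have hYn : Y.Normal := by rw [hY]; infer_instance
  have hY'n : (⁅Y, Y⁆ : Subgroup X).Normal := inferInstance
  have hrY : ¬ r ∣ Nat.card (⁅Y, Y⁆ : Subgroup X) := by
    intro hd
    obtain ⟨z, hz⟩ := exists_prime_orderOf_dvd_card' r hd
    have hzr : orderOf (z : X) = r := by rw [Subgroup.orderOf_coe]; exact hz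
    have hzY' : (z : X) ∈ (⁅Y, Y⁆ : Subgroup X) := z.2
    have hzY : (z : X) ∈ Y := (commutator_le_left Y Y) hzY'
    -- `z` lies in `R₁`
    have hzp : IsPGroup r (zpowers (z : X)) := by
      apply IsPGroup.of_card (n := 1)
      rw [Nat.card_zpowers, hzr, pow_one]
    obtain ⟨P, hP⟩ := hzp.exists_le_sylow
    have hPc := hcyc r P hr hr2
    have h1 : zpowers (z : X) = zpowers x₀ :=
      zpowers_eq_of_orderOf hPc (hP (mem_zpowers _)) (hRle P hx₀) (by rw [hzr, hx₀r])
    have hzR : (z : X) ∈ R₁ := by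
      have h2 : zpowers x₀ ≤ R₁ := zpowers_le.2 hx₀
      exact h2 (h1 ▸ mem_zpowers (z : X))
    -- transfer in `Y`
    obtain ⟨Q⟩ : Nonempty (Sylow r Y) := inferInstance
    have hQc : IsCyclic Q := T1Torus.oddCyc_subgroup hcyc Y r Q hr hr2
    have hcen : ∀ y : Y, y * (⟨z, hzY⟩ : Y) = (⟨z, hzY⟩ : Y) * y := by
      intro y
      apply Subtype.ext
      exact ((mem_centralizer_iff.1 (hYR y.2) _ hzR).symm)
    refine not_mem_commutator Q hQc (z := (⟨z, hzY⟩ : Y)) hcen ?_ ?_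
    · rw [Subgroup.orderOf_mk]; exact hzr
    · have h3 : (⁅(⊤ : Subgroup Y), (⊤ : Subgroup Y)⁆).map Y.subtype = ⁅Y, Y⁆ := by
        rw [map_commutator, ← MonoidHom.range_eq_map, Y.range_subtype]
      obtain ⟨w, hw, hwz⟩ : (z : X) ∈ (⁅(⊤ : Subgroup Y), (⊤ : Subgroup Y)⁆).map Y.subtype := by
        rw [h3]; exact hzY'
      have : w = (⟨z, hzY⟩ : Y) := Subtype.ext hwz
      rwa [this] at hw
  -- `N = N'' C`
  have hN2 : N ≤ ⁅Y, Y⁆ ⊔ C := by
    have h1 : Y ≤ ⁅Y, Y⁆ ⊔ C := by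
      have h2 : (⁅Y ⊔ C, Y ⊔ C⁆ : Subgroup X) ≤ ⁅Y, Y⁆ ⊔ C := by
        rw [commutator_le]
        intro a ha b hb
        obtain ⟨y, hy, c, hc, rfl⟩ := mem_sup_of_normal_right.1 ha
        obtain ⟨y', hy', c', hc', rfl⟩ := mem_sup_of_normal_right.1 hb
        have hD : (⁅Y, Y⁆ ⊔ C).Normal := inferInstance
        rw [← QuotientGroup.eq_one_iff (N := ⁅Y, Y⁆ ⊔ C)]
        have q1 : ∀ c ∈ C, ((c : X) : X ⧸ (⁅Y, Y⁆ ⊔ C)) = 1 := fun c hc =>
          (QuotientGroup.eq_one_iff c).2 (mem_sup_right hc)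
        have q2 : ((⁅y, y'⁆ : X) : X ⧸ (⁅Y, Y⁆ ⊔ C)) = 1 :=
          (QuotientGroup.eq_one_iff _).2 (mem_sup_left (commutator_mem_commutator hy hy'))
        have q3 : ((⁅y * c, y' * c'⁆ : X) : X ⧸ (⁅Y, Y⁆ ⊔ C)) = ((⁅y, y'⁆ : X) : X ⧸ (⁅Y, Y⁆ ⊔ C)) := by
          rw [commutatorElement_def, commutatorElement_def]
          simp only [QuotientGroup.mk_mul, QuotientGroup.mk_inv, q1 c hc, q1 c' hc', mul_one]
        rw [q3, q2]
      exact (commutator_mono hperf hperf).trans h2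
    exact hperf.trans (sup_le h1 le_sup_right)
  have h4 : ⁅Y, Y⁆ ⊔ (T : Subgroup X) = ⊤ := by
    refine hmin _ le_sup_right ?_
    rw [eq_top_iff, ← hN]
    exact sup_le (hN2.trans (sup_le (le_sup_left.trans le_sup_left) le_sup_right)) (le_sup_right.trans le_sup_left)
  have h5 : r ∣ Nat.card X := hrC.trans (Subgroup.card_subgroup_dvd_card C)
  have h6 : Nat.card X ∣ Nat.card (⁅Y, Y⁆ : Subgroup X) * Nat.card (T : Subgroup X) := by
    have h7 := index_mul_card_inf (H := (T : Subgroup X)) (C := ⁅Y, Y⁆) (by rw [sup_comm]; exact h4)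
    rw [← h7, mul_comm (T : Subgroup X).index, mul_assoc, mul_comm (T : Subgroup X).index,
      (T : Subgroup X).card_mul_index]
    exact Dvd.intro_left _ rfl
  rcases hr.dvd_mul.1 (h5.trans h6) with h7 | h7
  · exact hrY h7
  · obtain ⟨n, hn⟩ := IsPGroup.iff_card.1 T.isPGroup'
    rw [hn] at h7
    exact hr2 ((Nat.prime_dvd_prime_iff_eq hr Nat.prime_two).1 (hr.dvd_of_dvd_pow h7))

end Cfsg.Agent.OddCyclic.RedLinOdd
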