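import Cfsg.Agent.OddCyclic.RedLin
import Cfsg.Agent.OddCyclic.RedLinOdd

/-!
# S0342, (C2), 1.2: the minimal subgroup covering `N / C = SL₂(F)`

`T` a Sylow 2-subgroup of `N`, `N / C = SL₂(F)`. There is `T ≤ K ≤ N` with `N = K C`, `K ∩ C = O₂(K) = T ∩ C`.
-/

set_option autoImplicit false

namespace Cfsg.Agent.OddCyclic.RedLinK

open Subgroup Cfsg Cfsg.Agent.ZN
open Cfsg.Agent.MinSimple
open Cfsg.Agent.OddCyclic.T1Defs
open Matrix (SpecialLinearGroup)
open scoped commutatorElement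

universe u

variable {G : Type u} [Group G] {T N C : Subgroup G} {F : Type} [Field F] [Fintype F] [CharP F 2]
  {ψ : N →* SpecialLinearGroup (Fin 2) F}

/-- a normal 2-subgroup of `SL₂(F)` is trivial -/
theorem eq_bot_of_isPGroup (h4 : 4 ≤ Fintype.card F) {D : Subgroup (SpecialLinearGroup (Fin 2) F)} (hD : D.Normal)
    (h : IsPGroup 2 D) : D = ⊥ := by
  have h2p : Fact (Nat.Prime 2) := ⟨Nat.prime_two⟩
  have hs := FFBasic.isSimpleGroup_sl2 (F := F) h4
  refine (hD.eq_bot_or_eq_top).resolve_right fun ht => ?_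
  rw [ht] at h
  have h1 : IsPGroup 2 (SpecialLinearGroup (Fin 2) F) := h.of_equiv topEquiv
  have hn : Nontrivial (SpecialLinearGroup (Fin 2) F) := hs.toNontrivial
  have h2 := h1.center_nontrivial
  rw [FFBasic.center_sl2] at h2
  exact not_nontrivial _ h2

/-- **The minimal subgroup.** -/
theorem exists_min [Finite G] (hcyc : OddCyc G) (hTN : T ≤ N) (h2 : IsPGroup 2 T) (hsyl : ¬ 2 ∣ T.relIndex N)
    (hCN : C ≤ N) (hNC : N ≤ normalizer (C : Set G)) (h4 : 4 ≤ Fintype.card F) (hs : Function.Surjective ψ)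
    (hk : ∀ n : N, ψ n = 1 ↔ (n : G) ∈ C) :
    ∃ K : Subgroup G, T ≤ K ∧ K ≤ N ∧ N ≤ K ⊔ C ∧ K ⊓ C = o2 K ∧ o2 K = T ⊓ C := by
  have h2p : Fact (Nat.Prime 2) := ⟨Nat.prime_two⟩
  obtain ⟨K, hKN, hK⟩ := exists_minimal_le_of_wellFoundedLT (fun K : Subgroup G => T ≤ K ∧ K ≤ N ∧ N ≤ K ⊔ C) N
    ⟨hTN, le_rfl, le_sup_left⟩
  obtain ⟨⟨hTK, -, hNK⟩, hmin'⟩ := hK
  have hmin : ∀ Y : Subgroup G, T ≤ Y → Y ≤ K → N ≤ Y ⊔ C → K ≤ Y := fun Y h1 h3 h5 =>
    hmin' ⟨h1, h3.trans hKN, h5⟩ h3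
  have hKC : K ≤ normalizer (C : Set G) := hKN.trans hNC
  have hsylK : ¬ 2 ∣ T.relIndex K := fun h1 => hsyl (h1.trans (Dvd.intro _ (relIndex_mul_relIndex T K N hTK hKN)))
  have hKCn : K ≤ normalizer ((K ⊓ C : Subgroup G) : Set G) :=
    (le_inf le_normalizer hKC).trans inf_normalizer_le_normalizer_inf
  have hTC : T ⊓ (K ⊓ C) = T ⊓ C := by rw [← inf_assoc, inf_eq_left.2 hTK]
  -- `K` normalises `T ∩ C`
  have hKD : K ≤ normalizer ((T ⊓ C : Subgroup G) : Set G) := by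
    have h1 := Basic.frattini hTK h2 hsylK hKCn
    rw [hTC] at h1
    have h3 := hmin (K ⊓ normalizer ((T ⊓ C : Subgroup G) : Set G))
      (le_inf hTK ((le_inf le_normalizer (hTN.trans hNC)).trans inf_normalizer_le_normalizer_inf)) inf_le_left
      (hNK.trans (sup_le (h1.trans (sup_le (inf_le_right.trans le_sup_right) le_sup_left)) le_sup_right))
    exact h3.trans inf_le_right
  -- `ψ` on `K`
  have hsK : ∀ x, ∃ k : K, ψ ⟨k, hKN k.2⟩ = x := by
    intro x
    obtain ⟨n, rfl⟩ := hs x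
    obtain ⟨k, hk1, c, hc, hkc⟩ := COneLinB.exists_mul_of_mem_sup hKC (hNK n.2)
    refine ⟨⟨k, hk1⟩, ?_⟩
    have h1 : n = ⟨k, hKN hk1⟩ * ⟨c, hCN hc⟩ := Subtype.ext hkc
    rw [h1, map_mul, (hk ⟨c, hCN hc⟩).2 hc, mul_one]
  set φ : K →* SpecialLinearGroup (Fin 2) F := ψ.comp (Subgroup.inclusion hKN) with hφ
  have hφs : Function.Surjective φ := fun x => hsK x
  have hφk : ∀ k : K, φ k = 1 ↔ (k : G) ∈ C := fun k => hk ⟨k, hKN k.2⟩
  have ho2C : o2 K ≤ C := by
    have h1 : (((o2 K).subgroupOf K).map φ) = ⊥ := by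
      apply eq_bot_of_isPGroup h4
      · exact ((normal_subgroupOf_iff_le_normalizer (o2_le K)).2 (le_normalizer_o2 K)).map φ hφs
      · exact ((isPGroup_o2 K).comap_of_injective _ K.subtype_injective).map φ
    intro x hx
    have h3 : φ ⟨x, o2_le K hx⟩ ∈ (((o2 K).subgroupOf K).map φ) := ⟨⟨x, _⟩, hx, rfl⟩
    rw [h1, mem_bot] at h3
    exact (hφk _).1 h3
  have ho2 : o2 K = T ⊓ C := by
    apply le_antisymm
    · exact le_inf (VModule.o2_le_of_sylow h2 hsylK) ho2C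
    · exact le_o2 (inf_le_left.trans hTK) (h2.to_le inf_le_left) hKD
  refine ⟨K, hTK, hKN, hNK, ?_, ho2⟩
  refine le_antisymm ?_ (le_inf (o2_le K) ho2C)
  -- the quotient
  set D : Subgroup G := K ⊓ C with hD
  have hQD : o2 K ≤ D := le_inf (o2_le K) ho2C
  have hQT : o2 K ≤ T := by rw [ho2]; exact inf_le_left
  set Q' : Subgroup K := (o2 K).subgroupOf K with hQ'
  have hQn : Q'.Normal := (normal_subgroupOf_iff_le_normalizer (o2_le K)).2 (le_normalizer_o2 K)
  set π : K →* K ⧸ Q' := QuotientGroup.mk' Q' with hπ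
  have hπs : Function.Surjective π := QuotientGroup.mk'_surjective Q'
  have hker : ∀ x : K, π x = 1 ↔ (x : G) ∈ o2 K := fun x => by
    rw [hπ, QuotientGroup.mk'_apply, QuotientGroup.eq_one_iff]
    exact Iff.rfl
  have hS : IsPGroup 2 (T.subgroupOf K) := h2.comap_of_injective _ K.subtype_injective
  set S₀ : Sylow 2 K := hS.toSylow hsylK with hS₀
  set S : Sylow 2 (K ⧸ Q') := S₀.mapSurjective hπs with hSd
  have hSc : (S : Subgroup (K ⧸ Q')) = (T.subgroupOf K).map π := rfl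
  have hCn : (D.subgroupOf K).Normal := (normal_subgroupOf_iff_le_normalizer inf_le_left).2 hKCn
  have hCn' : ((D.subgroupOf K).map π).Normal := hCn.map π hπs
  -- lifting
  have hlift : ∀ (E : Subgroup G), o2 K ≤ E → ∀ x : K, π x ∈ (E.subgroupOf K).map π → (x : G) ∈ E := by
    rintro E hE x ⟨y, hy, hxy⟩
    have h1 : π (y⁻¹ * x) = 1 := by rw [map_mul, map_inv, hxy, inv_mul_cancel]
    have h2 := hE ((hker _).1 h1)
    have h3 : (x : G) = (y : G) * ((y⁻¹ * x : K) : G) := by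
      rw [coe_mul, coe_inv]; group
    rw [h3]
    exact mul_mem hy h2
  have hX : OddCyc (K ⧸ Q') := CompBasic.oddCyc_quotient (CompBasic.oddCyc_subgroup hcyc K) Q'
  have hkey : (D.subgroupOf K).map π = ⊥ := by
    refine RedLinOdd.eq_bot hX S (N := ⊤) ?_ ?_ (top_sup_eq _) ?_
    · intro Y hY hYC
      set Y' : Subgroup G := (Y.comap π).map K.subtype with hY'
      have hYK : Y' ≤ K := map_subtype_le _
      have hTY : T ≤ Y' := by
        intro t ht
        refine ⟨⟨t, hTK ht⟩, ?_, rfl⟩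
        rw [SetLike.mem_coe, mem_comap]
        apply hY
        rw [hSc]
        exact ⟨⟨t, hTK ht⟩, ht, rfl⟩
      have h1 : K ≤ Y' ⊔ C := by
        intro k hk1
        have h3 : π ⟨k, hk1⟩ ∈ Y ⊔ (D.subgroupOf K).map π := by rw [hYC]; exact mem_top _
        rw [mem_sup_of_normal_right] at h3
        obtain ⟨y, hy, c, ⟨c', hc', rfl⟩, hyc⟩ := h3
        have h5 : π (⟨k, hk1⟩ * c'⁻¹) = y := by rw [map_mul, map_inv, ← hyc, mul_inv_cancel_right]
        have h6 : k * (c' : G)⁻¹ ∈ Y' := ⟨⟨k, hk1⟩ * c'⁻¹, by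
          rw [SetLike.mem_coe, mem_comap, h5]; exact hy, rfl⟩
        have h7 : k = (k * (c' : G)⁻¹) * c' := by group
        rw [h7]
        exact mul_mem (mem_sup_left h6) (mem_sup_right hc'.2)
      have h3 := hmin Y' hTY hYK (hNK.trans (sup_le h1 le_sup_right))
      rw [eq_top_iff]
      intro x _
      obtain ⟨y, rfl⟩ := hπs x
      obtain ⟨z, hz, hzy⟩ := h3 y.2
      have : z = y := Subtype.ext hzy
      rw [← this]
      exact hz
    · rw [← Nat.not_even_iff_odd, even_iff_two_dvd]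
      have h1 := Lib.SylowNormalInf.not_dvd_relIndex S ((D.subgroupOf K).map π)
      have h2 := Lib.SylowNormalInf.card_inf_mul_relIndex (S : Subgroup (K ⧸ Q')) ((D.subgroupOf K).map π)
      have h3 : (S : Subgroup (K ⧸ Q')) ⊓ (D.subgroupOf K).map π = ⊥ := by
        rw [eq_bot_iff]
        rintro x ⟨hx1, hx2⟩
        obtain ⟨y, rfl⟩ := hπs x
        rw [SetLike.mem_coe, hSc] at hx1
        have h4 := hlift T hQT y hx1
        have h5 := hlift D hQD y hx2
        rw [mem_bot, hker, ho2]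
        exact ⟨h4, h5.2⟩
      rw [h3, Subgroup.card_bot, one_mul] at h2
      rwa [← h2]
    · have h1 : (⁅(⊤ : Subgroup K), (⊤ : Subgroup K)⁆).map φ = ⊤ := by
        rw [map_commutator, ← MonoidHom.range_eq_map, MonoidHom.range_eq_top.2 hφs,
          COneLin.commutator_top F h4]
      have h3 : (⊤ : Subgroup K) ≤ ⁅(⊤ : Subgroup K), (⊤ : Subgroup K)⁆ ⊔ D.subgroupOf K := by
        intro k _
        obtain ⟨c, hc, hck⟩ : φ k ∈ (⁅(⊤ : Subgroup K), (⊤ : Subgroup K)⁆).map φ := by rw [h1]; exact mem_top _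
        have h5 : φ (c⁻¹ * k) = 1 := by rw [map_mul, map_inv, hck, inv_mul_cancel]
        have h6 := (hφk _).1 h5
        have h7 : k = c * (c⁻¹ * k) := by group
        rw [h7]
        exact Subgroup.mul_mem _ (mem_sup_left hc) (mem_sup_right ⟨(c⁻¹ * k).2, h6⟩)
      have h5 := Subgroup.map_mono (f := π) h3
      rw [Subgroup.map_sup, Subgroup.map_commutator, ← MonoidHom.range_eq_map, MonoidHom.range_eq_top.2 hπs] at h5
      exact h5
  intro x hx
  have h1 : π ⟨x, hx.1⟩ ∈ (D.subgroupOf K).map π := ⟨⟨x, hx.1⟩, hx, rfl⟩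
  rw [hkey, mem_bot] at h1
  exact (hker _).1 h1

end Cfsg.Agent.OddCyclic.RedLinK
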