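import Cfsg.Agent.OddCyclic.RedLin
import Cfsg.Agent.OddCyclic.RedLinOdd
import Cfsg.Agent.OddCyclic.RedRep

/-!
# S0342, (C2), 1.2 and 2.4: the case `SL₂(q)`: the configuration in `X` and the minimal subgroup
-/

set_option autoImplicit false
set_option linter.unusedSectionVars false

namespace Cfsg.Agent.OddCyclic.RedLinX

open Subgroup Cfsg Cfsg.Agent.ZN
open Cfsg.Agent.ZN.ChoiceBase (AA)
open Cfsg.Agent.MinSimple
open Cfsg.Agent.OddCyclic.T1Defs Cfsg.Agent.OddCyclic.COneDefs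
open Cfsg.Agent.OddCyclic.T1Module Cfsg.Agent.OddCyclic.FFBasic Cfsg.Agent.OddCyclic.FFRed
open Cfsg.Agent.OddCyclic.RedFam Cfsg.Agent.OddCyclic.RedLinA Cfsg.Agent.OddCyclic.RedLinT
open Cfsg.Agent.OddCyclic.RedTy Cfsg.Agent.OddCyclic.RedRep
open Matrix (SpecialLinearGroup)
open scoped commutatorElement

local notation "UI" => Cfsg.Agent.OddCyclic.T1Sl2.UI

universe u

variable {G H V : Type u} [Group G] [Group H] [CommGroup V]

/-- the preimage of `L` -/
def NN (X : Subgroup G) (r : X →* H) (L : Subgroup H) : Subgroup G := (L.comap r).map X.subtype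

/-- the standing data: `L = SL₂(F) ⊴ X / C_X(Y)`, `U` the image of a member of `𝒜(T)` -/
structure Dat (X T Y : Subgroup G) (r : X →* H) (ρ : H →* MulAut V) (ι : V →* G) (L : Subgroup H) (F : Type)
    [Field F] [Fintype F] [CharP F 2] (e : L ≃* SpecialLinearGroup (Fin 2) F) (U : Subgroup H) : Prop where
  yc : YC X T Y
  rep : Rep X Y r ρ ι
  fam : Fam ρ (im X T r) (famOf X T r)
  std : LinU ρ L F e U
  all : ∀ A ∈ famOf X T r, A ≠ ⊥ → A ≤ L ∧ Nat.card A = Fintype.card F ∧ (CS ρ A).index = Fintype.card F ∧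
    ∀ a ∈ A, a ≠ 1 → fx ρ a = CS ρ A
  Ufam : U ∈ famOf X T r
  Une : U ≠ ⊥

variable {X T Y : Subgroup G} {r : X →* H} {ρ : H →* MulAut V} {ι : V →* G} {L : Subgroup H} {F : Type}
    [Field F] [Fintype F] [CharP F 2] {e : L ≃* SpecialLinearGroup (Fin 2) F} {U : Subgroup H}

/-- the data exist -/
theorem exists_dat [Finite G] (hy : YC X T Y) (hR : Rep X Y r ρ ι) (hF : Fam ρ (im X T r) (famOf X T r))
    {A : Subgroup H} (hA : A ∈ famOf X T r) (hA1 : A ≠ ⊥) (ho : RedFFDefs.OutLin ρ A) :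
    ∃ (L : Subgroup H) (F : Type) (_ : Field F) (_ : Fintype F) (_ : CharP F 2)
      (e : L ≃* SpecialLinearGroup (Fin 2) F) (U : Subgroup H), Dat X T Y r ρ ι L F e U := by
  have : Finite H := Finite.of_surjective r hR.surj
  have : Finite V := Finite.of_injective ι hR.iinj
  obtain ⟨L, F, _, _, _, e, hl⟩ := exists_linA hF hA hA1 ho
  have h1 := hl.all A hA hA1
  obtain ⟨e', he'⟩ := exists_std hl hR.inj h1.1 h1.2.1
  exact ⟨L, F, _, _, _, e', A, hy, hR, hF, he', hl.all, hA, hA1⟩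

theorem mem_NN {x : G} : x ∈ NN X r L ↔ ∃ hx : x ∈ X, r ⟨x, hx⟩ ∈ L := by
  constructor
  · rintro ⟨y, hy, rfl⟩
    exact ⟨y.2, hy⟩
  · rintro ⟨hx, h⟩
    exact ⟨⟨x, hx⟩, h, rfl⟩

theorem NN_le : NN X r L ≤ X := map_subtype_le _

theorem NN_norm (hL : L.Normal) : X ≤ normalizer (NN X r L : Set G) := by
  rw [le_normalizer_iff]
  intro g hg x hx
  obtain ⟨hxX, hxL⟩ := mem_NN.1 hx
  refine mem_NN.2 ⟨mul_mem (mul_mem hg hxX) (inv_mem hg), ?_⟩
  have h1 := hL.conj_mem _ hxL (r ⟨g, hg⟩)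
  rw [← map_inv, ← map_mul, ← map_mul] at h1
  exact h1

/-- `C_X(Y)` -/
def CC (X Y : Subgroup G) : Subgroup G := X ⊓ centralizer (Y : Set G)

theorem CC_le : CC X Y ≤ X := inf_le_left

namespace Dat

variable [Finite G] (d : Dat X T Y r ρ ι L F e U)

include d

theorem finH : Finite H := Finite.of_surjective r d.rep.surj

theorem finV : Finite V := Finite.of_injective ι d.rep.iinj

theorem r_eq_one {x : G} (hx : x ∈ X) : r ⟨x, hx⟩ = 1 ↔ x ∈ CC X Y := by
  rw [d.rep.r_eq_one]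
  constructor
  · intro h
    exact ⟨hx, mem_centralizer_iff.2 fun y hy => (h y hy).symm⟩
  · intro h y hy
    exact (mem_centralizer_iff.1 h.2 y hy).symm

theorem CC_norm : X ≤ normalizer (CC X Y : Set G) :=
  (le_inf le_normalizer (d.yc.nor.trans (DBlkReduce.nc Y))).trans inf_normalizer_le_normalizer_inf

theorem CC_le_NN : CC X Y ≤ NN X r L := fun x hx =>
  mem_NN.2 ⟨hx.1, by rw [(d.r_eq_one hx.1).2 hx]; exact one_mem _⟩

theorem card_U : Nat.card U = Fintype.card F := (d.all U d.Ufam d.Une).2.1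

theorem T_le_X : T ≤ X := d.yc.TX

theorem isPGroup_im : IsPGroup 2 (im X T r) :=
  (d.yc.two.comap_of_injective _ X.subtype_injective).map r

theorem fam_le {B : Subgroup H} (hB : B ∈ famOf X T r) : B ≤ im X T r := by
  obtain ⟨A, hA, rfl⟩ := hB
  exact Subgroup.map_mono fun x hx => hA.2.1 hx

/-- the image of `T` meets `L` in `U` -/
theorem inf_U : im X T r ⊓ L = U := by
  have := d.finH
  have h2p : Fact (Nat.Prime 2) := ⟨Nat.prime_two⟩
  have h1 : U ≤ im X T r ⊓ L := le_inf (d.fam_le d.Ufam) d.std.le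
  symm
  apply Subgroup.eq_of_le_of_card_ge h1
  have h2 : IsPGroup 2 (((im X T r ⊓ L).subgroupOf L).map e.toMonoidHom) :=
    ((d.isPGroup_im.to_le inf_le_left).comap_of_injective _ L.subtype_injective).map _
  obtain ⟨P, hP⟩ := h2.exists_le_sylow
  have h3 := Subgroup.card_le_of_le hP
  rw [Subgroup.card_map_of_injective e.injective, Nat.card_congr (subgroupOfEquivOfLe inf_le_right).toEquiv] at h3
  rw [d.card_U]
  exact h3.trans (T1Sl2.card_sylow P).le

/-- all images `≠ 1` of members of `𝒜(T)` are equal to `U` -/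
theorem fam_eq {B : Subgroup H} (hB : B ∈ famOf X T r) (hB1 : B ≠ ⊥) : B = U := by
  have := d.finH
  obtain ⟨h1, h2, -⟩ := d.all B hB hB1
  apply Subgroup.eq_of_le_of_card_ge
  · rw [← d.inf_U]
    exact le_inf (d.fam_le hB) h1
  · rw [h2, d.card_U]

/-- the image of a member of `𝒜(T)` is trivial or `U` -/
theorem map_eq {A : Subgroup G} (hA : A ∈ AA T) : A ≤ CC X Y ∨ (A.subgroupOf X).map r = U := by
  have hAX : A ≤ X := hA.2.1.trans d.T_le_X
  by_cases h : (A.subgroupOf X).map r = ⊥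
  · left
    intro a ha
    rw [← d.r_eq_one (hAX ha), ← mem_bot, ← h]
    exact ⟨⟨a, hAX ha⟩, ha, rfl⟩
  · right
    exact d.fam_eq ⟨A, hA, rfl⟩ h

theorem AA_le {A : Subgroup G} (hA : A ∈ AA T) : A ≤ NN X r L := by
  rcases d.map_eq hA with h | h
  · exact h.trans d.CC_le_NN
  · intro a ha
    have h1 : r ⟨a, d.T_le_X (hA.2.1 ha)⟩ ∈ (A.subgroupOf X).map r := ⟨⟨a, _⟩, ha, rfl⟩
    rw [h] at h1
    exact mem_NN.2 ⟨_, d.std.le h1⟩

theorem jj_le : jj T ≤ NN X r L := by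
  rw [ChoiceBase.jj_eq]
  exact sSup_le fun A hA => d.AA_le hA

theorem Y_le_T : Y ≤ T := (d.yc.le.trans (zc_le _)).trans d.yc.toLoc.o2_le

theorem Y_sq {y : G} (hy : y ∈ Y) : y * y = 1 := by
  have := zc_sq (d.yc.le hy)
  rwa [pow_two] at this

theorem Y_comm {x y : G} (hx : x ∈ Y) (hy : y ∈ Y) : x * y = y * x :=
  zc_comm (d.yc.le hy) (zc_le _ (d.yc.le hx))

/-- some `A ∈ 𝒜(T)` has the image `U` -/
theorem exists_A : ∃ A ∈ AA T, (A.subgroupOf X).map r = U := by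
  obtain ⟨A, hA, h⟩ := d.Ufam
  exact ⟨A, hA, h.symm⟩

/-- `C_Y(J) = C_V(U)` -/
theorem mem_zj {v : V} : ι v ∈ zj T ↔ v ∈ CS ρ U := by
  constructor
  · intro h b hb
    obtain ⟨A, hA, hAU⟩ := d.exists_A
    rw [← hAU] at hb
    obtain ⟨a, ha, rfl⟩ := hb
    rw [d.rep.fix]
    exact (ChoiceBase.mem_zj.1 h).2.2 a (ChoiceBase.le_jj hA ha)
  · intro h
    refine mem_zj_of_comm (d.Y_le_T (d.rep.mem v)) (by rw [pow_two]; exact d.Y_sq (d.rep.mem v)) ?_
    have h1 : jj T ≤ centralizer ({ι v} : Set G) := by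
      rw [ChoiceBase.jj_eq]
      refine sSup_le fun A hA => ?_
      intro a ha
      rw [mem_centralizer_singleton_iff]
      rcases d.map_eq hA with h2 | h2
      · exact (mem_centralizer_iff.1 (h2 ha).2 _ (d.rep.mem v)).symm
      · have haX := d.T_le_X (hA.2.1 ha)
        have h3 : r ⟨a, haX⟩ ∈ U := by
          rw [← h2]
          exact ⟨⟨a, haX⟩, ha, rfl⟩
        exact (d.rep.fix (x := ⟨a, haX⟩)).1 (h _ h3)
    exact fun b hb => mem_centralizer_singleton_iff.1 (h1 hb)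

theorem U_norm {t : H} (ht : t ∈ im X T r) : ∀ u ∈ U, t * u * t⁻¹ ∈ U := by
  intro u hu
  have h1 : u ∈ im X T r ⊓ L := by rw [d.inf_U]; exact hu
  have h2 : t * u * t⁻¹ ∈ im X T r ⊓ L :=
    ⟨Subgroup.mul_mem _ (Subgroup.mul_mem _ ht h1.1) (Subgroup.inv_mem _ ht), d.std.normal.conj_mem u h1.2 t⟩
  rw [d.inf_U] at h2
  exact h2

/-- `B(T) ≤ N` -/
theorem bau_le : bau T ≤ NN X r L := by
  have := d.finH
  have := d.finV
  intro b hb
  have hbX := d.T_le_X hb.1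
  obtain ⟨k, hk⟩ := d.yc.two ⟨b, hb.1⟩
  have hk' : b ^ 2 ^ k = 1 := congrArg Subtype.val hk
  refine mem_NN.2 ⟨hbX, d.std.le (d.std.mem (k := k) ?_ (d.U_norm (mem_im d.T_le_X hb.1)) ?_)⟩
  · rw [← map_pow]
    have : (⟨b, hbX⟩ : X) ^ 2 ^ k = 1 := Subtype.ext (by rw [Subgroup.coe_pow]; exact hk')
    rw [this, map_one]
  · intro w hw
    rw [d.rep.fix]
    exact (mem_centralizer_iff.1 hb.2 _ (d.mem_zj.2 hw)).symm

/-! ### `T ∩ N` -/

theorem jj_inf : jj (T ⊓ NN X r L) = jj T :=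
  jj_eq_of_le (le_inf (ZN.jj_le T) d.jj_le) inf_le_left

theorem zj_inf : zj (T ⊓ NN X r L) = zj T :=
  zj_eq_of_le (le_inf (ZN.jj_le T) d.jj_le) inf_le_left

theorem bau_inf : bau (T ⊓ NN X r L) = bau T := by
  apply le_antisymm
  · rintro x ⟨hx, hxc⟩
    rw [d.zj_inf] at hxc
    exact ⟨hx.1, hxc⟩
  · intro x hx
    refine ⟨⟨hx.1, d.bau_le hx⟩, ?_⟩
    rw [d.zj_inf]
    exact hx.2

theorem r_inf {t : G} (ht : t ∈ T ⊓ NN X r L) : r ⟨t, d.T_le_X ht.1⟩ ∈ U := by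
  obtain ⟨h1, h2⟩ := mem_NN.1 ht.2
  have h3 : r ⟨t, d.T_le_X ht.1⟩ ∈ im X T r ⊓ L := ⟨mem_im d.T_le_X ht.1, h2⟩
  rw [d.inf_U] at h3
  exact h3

theorem not_dvd : ¬ 2 ∣ (T ⊓ NN X r L).relIndex (NN X r L) := by
  have h2p : Fact (Nat.Prime 2) := ⟨Nat.prime_two⟩
  have h1 : IsPGroup 2 (T.subgroupOf X) := d.yc.two.comap_of_injective _ X.subtype_injective
  have hn : (L.comap r).Normal := d.std.normal.comap r
  have h2 := Lib.SylowNormalInf.not_dvd_relIndex (h1.toSylow d.yc.syl : Sylow 2 X) (L.comap r)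
  rw [Subgroup.inf_relIndex_right]
  have h3 : T.relIndex (NN X r L) = (T.subgroupOf X).relIndex (L.comap r) := by
    rw [NN]
    exact (Subgroup.relIndex_comap T X.subtype (L.comap r)).symm
  rw [h3]
  exact h2

/-- index of a subgroup of `Y` -/
theorem relIndex_Y {D : Subgroup G} {E : Subgroup V} (h : ∀ v : V, ι v ∈ D ↔ v ∈ E) : D.relIndex Y = E.index := by
  have h1 : D.comap ι = E := by
    ext v
    exact h v
  rw [← h1, Subgroup.index_comap, d.rep.range]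

end Dat

end Cfsg.Agent.OddCyclic.RedLinX
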