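import Cfsg.Agent.OddCyclic.RedLinX
import Cfsg.Agent.OddCyclic.RedLinK

/-!
# S0342, (C2), 1.2 and 2.4: the case `SL₂(q)`: the block
-/

set_option autoImplicit false
set_option linter.unusedSectionVars false

namespace Cfsg.Agent.OddCyclic.RedLinX

open Subgroup Cfsg Cfsg.Agent.ZN
open Cfsg.Agent.ZN.ChoiceBase (AA)
open Cfsg.Agent.MinSimple
open Cfsg.Agent.OddCyclic.T1Defs Cfsg.Agent.OddCyclic.COneDefs
open Cfsg.Agent.OddCyclic.T1Module Cfsg.Agent.OddCyclic.FFBasic Cfsg.Agent.OddCyclic.FFRed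
open Cfsg.Agent.OddCyclic.RedFam Cfsg.Agent.OddCyclic.RedLinA Cfsg.Agent.OddCyclic.RedLinT
open Cfsg.Agent.OddCyclic.RedTy Cfsg.Agent.OddCyclic.RedRep
open Matrix (SpecialLinearGroup)
open scoped commutatorElement

local notation "UI" => Cfsg.Agent.OddCyclic.T1Sl2.UI

universe u

variable {G H V : Type u} [Group G] [Group H] [CommGroup V]

/-- the map `N → SL₂(F)` -/
def psi (X : Subgroup G) (r : X →* H) (L : Subgroup H) {F : Type} [Field F] [Fintype F] [CharP F 2]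
    (e : L ≃* SpecialLinearGroup (Fin 2) F) : NN X r L →* SpecialLinearGroup (Fin 2) F :=
  e.toMonoidHom.comp ((r.comp (Subgroup.inclusion NN_le)).codRestrict L fun n => (mem_NN.1 n.2).snd)

variable {X T Y : Subgroup G} {r : X →* H} {ρ : H →* MulAut V} {ι : V →* G} {L : Subgroup H} {F : Type}
    [Field F] [Fintype F] [CharP F 2] {e : L ≃* SpecialLinearGroup (Fin 2) F} {U : Subgroup H}

theorem psi_apply (n : NN X r L) : psi X r L e n = e ⟨r ⟨n, NN_le n.2⟩, (mem_NN.1 n.2).snd⟩ := rfl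

theorem psi_eq {n : NN X r L} {l : L} : psi X r L e n = e l ↔ r ⟨n, NN_le n.2⟩ = l := by
  rw [psi_apply, e.injective.eq_iff]
  exact ⟨fun h => congrArg Subtype.val h, fun h => Subtype.ext h⟩

theorem isMaxIn_mem [Finite G] {A : Subgroup G} (h : IsMaxIn T A) : A ∈ AA T := ⟨h.2.1, h.1, fun B hB hBT => h.2.2 B hBT hB⟩

theorem isMaxIn_of_mem [Finite G] {A : Subgroup G} (h : A ∈ AA T) : IsMaxIn T A := ⟨h.2.1, h.1, fun B hB hB2 => h.2.2 B hB2 hB⟩

namespace Dat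

variable [Finite G] (d : Dat X T Y r ρ ι L F e U)

include d

theorem psi_surj : Function.Surjective (psi X r L e) := by
  intro x
  obtain ⟨y, hy⟩ := d.rep.surj (e.symm x : L)
  have h1 : (y : G) ∈ NN X r L := mem_NN.2 ⟨y.2, by rw [show (⟨(y : G), y.2⟩ : X) = y from rfl, hy]; exact (e.symm x).2⟩
  refine ⟨⟨y, h1⟩, ?_⟩
  rw [← e.apply_symm_apply x, psi_eq]
  exact hy

theorem psi_eq_one (n : NN X r L) : psi X r L e n = 1 ↔ (n : G) ∈ CC X Y := by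
  rw [← map_one e, psi_eq, ← d.r_eq_one (NN_le n.2)]
  rfl

theorem psi_mem (n : NN X r L) : psi X r L e n ∈ UI F ↔ r ⟨n, NN_le n.2⟩ ∈ U := by
  rw [d.std.std _ (mem_NN.1 n.2).snd]
  rfl

/-- a maximal elementary abelian subgroup of `T ∩ N` is one of `T` -/
theorem mem_AA {A : Subgroup G} (hA : IsMaxIn (T ⊓ NN X r L) A) : A ∈ AA T := by
  refine ⟨hA.2.1, hA.1.trans inf_le_left, fun B hB hBT => ?_⟩
  obtain ⟨B', hB'⟩ := ChoiceBase.AA_nonempty T
  exact (hB'.2.2 B hB hBT).trans (hA.2.2 B' (le_inf hB'.2.1 (d.AA_le hB')) hB'.1)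

theorem isMaxIn {A : Subgroup G} (hA : A ∈ AA T) : IsMaxIn (T ⊓ NN X r L) A :=
  ⟨le_inf hA.2.1 (d.AA_le hA), hA.1, fun B hB hB2 => hA.2.2 B hB2 (hB.trans inf_le_left)⟩

theorem Y_le_X : Y ≤ X := d.Y_le_T.trans d.T_le_X

theorem Y_le_CC : Y ≤ CC X Y := fun _ hy => ⟨d.Y_le_X hy, mem_centralizer_iff.2 fun _ hx => d.Y_comm hx hy⟩

theorem mem_Yc {D : Subgroup G} {v : V} : ι v ∈ Y ⊓ centralizer (D : Set G) ↔ ∀ x ∈ D, x * ι v = ι v * x :=
  ⟨fun h => mem_centralizer_iff.1 h.2, fun h => ⟨d.rep.mem v, mem_centralizer_iff.2 h⟩⟩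

theorem map_eq_U {A : Subgroup G} (hA : A ∈ AA T) (hA1 : ¬ A ≤ centralizer (Y : Set G)) : (A.subgroupOf X).map r = U :=
  (d.map_eq hA).resolve_left fun h => hA1 (h.trans inf_le_right)

theorem exists_pre {A : Subgroup G} (hA : A ∈ AA T) (hA1 : ¬ A ≤ centralizer (Y : Set G)) {u : H} (hu : u ∈ U) :
    ∃ a, ∃ ha : a ∈ A, r ⟨a, d.T_le_X (hA.2.1 ha)⟩ = u := by
  rw [← d.map_eq_U hA hA1] at hu
  obtain ⟨a, ha, rfl⟩ := hu
  exact ⟨a, ha, rfl⟩

/-- `C_Y(A)` -/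
theorem relIndex_A {A : Subgroup G} (hA : A ∈ AA T) (hA1 : ¬ A ≤ centralizer (Y : Set G)) :
    (Y ⊓ centralizer (A : Set G)).relIndex Y = Fintype.card F := by
  have := d.finH
  have := d.finV
  rw [← d.std.index_U]
  refine d.relIndex_Y fun v => ?_
  rw [d.mem_Yc]
  constructor
  · intro h b hb
    obtain ⟨a, ha, rfl⟩ := d.exists_pre hA hA1 hb
    rw [d.rep.fix]
    exact h a ha
  · intro h a ha
    have h1 : r ⟨a, d.T_le_X (hA.2.1 ha)⟩ ∈ (A.subgroupOf X).map r := ⟨⟨a, _⟩, ha, rfl⟩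
    rw [d.map_eq_U hA hA1] at h1
    exact (d.rep.fix (x := ⟨a, _⟩)).1 (h _ h1)

/-- `C_Y(K)` if `K` covers `L` -/
theorem mem_Yc_L {K : Subgroup G} (hKN : K ≤ NN X r L) (hK : ∀ l ∈ L, ∃ k, ∃ hk : k ∈ K, r ⟨k, NN_le (hKN hk)⟩ = l)
    (v : V) : ι v ∈ Y ⊓ centralizer (K : Set G) ↔ v ∈ CS ρ L := by
  rw [d.mem_Yc]
  constructor
  · intro h b hb
    obtain ⟨a, ha, rfl⟩ := hK b hb
    rw [d.rep.fix]
    exact h a ha
  · intro h a ha
    exact (d.rep.fix (x := ⟨a, _⟩)).1 (h _ (mem_NN.1 (hKN ha)).snd)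

/-- the input of Baumann's argument -/
theorem linIn {K : Subgroup G} (hTK : T ⊓ NN X r L ≤ K) (hKN : K ≤ NN X r L) (hNK : NN X r L ≤ K ⊔ CC X Y)
    (hc : K ⊓ CC X Y = o2 K) (ho : o2 K = T ⊓ NN X r L ⊓ CC X Y) :
    RedLin.LinIn (T ⊓ NN X r L) K Y F ((psi X r L e).comp (Subgroup.inclusion hKN)) := by
  have := d.finH
  have := d.finV
  have hKX : K ≤ X := hKN.trans NN_le
  have hcov : ∀ l ∈ L, ∃ k, ∃ hk : k ∈ K, r ⟨k, NN_le (hKN hk)⟩ = l := by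
    intro l hl
    obtain ⟨y, rfl⟩ := d.rep.surj l
    have h1 : (y : G) ∈ NN X r L := mem_NN.2 ⟨y.2, hl⟩
    obtain ⟨k, hk, c, hc, hkc⟩ := COneLinB.exists_mul_of_mem_sup (hKX.trans d.CC_norm) (hNK h1)
    refine ⟨k, hk, ?_⟩
    have h2 : y = ⟨k, hKX hk⟩ * ⟨c, hc.1⟩ := Subtype.ext hkc
    rw [h2, map_mul, (d.r_eq_one hc.1).2 hc, mul_one]
  have hinv : ∀ x (hx : x ∈ K), ((psi X r L e).comp (Subgroup.inclusion hKN)) ⟨x, hx⟩ = psi X r L e ⟨x, hKN hx⟩ :=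
    fun x hx => rfl
  have hrT : ∀ t (ht : t ∈ T ⊓ NN X r L), r ⟨t, d.T_le_X ht.1⟩ ∈ U := fun t ht => d.r_inf ht
  exact
  { two := d.yc.two.to_le inf_le_left
    TH := hTK
    QT := by rw [ho]; exact inf_le_left
    norm := hKX.trans d.yc.nor
    cent := by
      rw [← hc, CC, ← inf_assoc, inf_eq_left.2 hKX]
    WQ := by
      rw [ho]
      exact le_inf (le_inf d.Y_le_T (d.Y_le_CC.trans d.CC_le_NN)) d.Y_le_CC
    comm := fun x hx y hy => d.Y_comm hx hy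
    sq := fun x hx => d.Y_sq hx
    four := d.std.four
    surj := by
      intro x
      obtain ⟨k, hk, hkl⟩ := hcov (e.symm x : L) (e.symm x).2
      refine ⟨⟨k, hk⟩, ?_⟩
      rw [hinv, ← e.apply_symm_apply x, psi_eq]
      exact hkl
    kerW := by
      rintro ⟨n, hn⟩
      rw [hinv, d.psi_eq_one]
      exact ⟨fun h => h.2, fun h => ⟨hKX hn, h⟩⟩
    ex := by
      obtain ⟨A, hA, hAU⟩ := d.exists_A
      refine ⟨A, d.isMaxIn hA, fun h => d.Une ?_⟩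
      rw [← hAU, eq_bot_iff]
      rintro _ ⟨a, ha, rfl⟩
      rw [mem_bot]
      exact (d.r_eq_one a.2).2 ⟨a.2, h ha⟩
    cardA := by
      intro A hA hA1
      have hA' := d.mem_AA hA
      have h1 : (A.subgroupOf K).map ((psi X r L e).comp (Subgroup.inclusion hKN)) = UI F := by
        ext x
        constructor
        · rintro ⟨a, ha, rfl⟩
          change psi X r L e ⟨a, hKN a.2⟩ ∈ UI F
          rw [d.psi_mem]
          exact hrT a (hA.1 ha)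
        · intro hx
          have h2 : ((e.symm x : L) : H) ∈ U := by
            rw [d.std.std _ (e.symm x).2]
            have : e ⟨(e.symm x : L), (e.symm x).2⟩ = x := e.apply_symm_apply x
            rwa [this]
          obtain ⟨a, ha, hau⟩ := d.exists_pre hA' hA1 h2
          refine ⟨⟨a, hTK (hA.1 ha)⟩, ha, ?_⟩
          rw [hinv, ← e.apply_symm_apply x, psi_eq]
          exact hau
      rw [h1, T1Sl2.card_UI]
    idx := fun A hA hA1 => d.relIndex_A (d.mem_AA hA) hA1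
    fix := by
      intro a ha haT h1 w hw haw b hb
      obtain ⟨v, rfl⟩ := d.rep.exists_v hw
      have h2 : r ⟨a, d.T_le_X haT.1⟩ ≠ 1 := by
        intro h3
        apply h1
        rw [hinv, d.psi_eq_one, ← d.r_eq_one (hKX ha)]
        exact h3
      have h3 : v ∈ fx ρ (r ⟨a, d.T_le_X haT.1⟩) := (d.rep.fix (x := ⟨a, _⟩)).2 haw
      rw [(d.all U d.Ufam d.Une).2.2.2 _ (hrT a haT) h2] at h3
      exact (d.rep.fix (x := ⟨b, _⟩)).1 (h3 _ (hrT b hb))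
    top := by
      rw [← d.std.idx]
      exact d.relIndex_Y fun v => d.mem_Yc_L hKN hcov v
    fpf := by
      intro x hx m hm hxm hx1 w hw hxw n hn
      obtain ⟨v, rfl⟩ := d.rep.exists_v hw
      have hxL : r ⟨x, hKX hx⟩ ∈ L := (mem_NN.1 (hKN hx)).snd
      rw [hinv] at hxm hx1
      have h1 : (⟨r ⟨x, hKX hx⟩, hxL⟩ : L) ^ m = 1 := by
        apply e.injective
        rw [map_pow, map_one]
        exact hxm
      have h2 : r ⟨x, hKX hx⟩ ^ m = 1 := congrArg Subtype.val h1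
      have h3 : r ⟨x, hKX hx⟩ ≠ 1 := by
        intro h4
        apply hx1
        rw [d.psi_eq_one, ← d.r_eq_one (hKX hx)]
        exact h4
      have h4 := d.std.fpf _ hxL (hm.of_dvd_nat (orderOf_dvd_of_pow_eq_one h2)) h3
        ((d.rep.fix (x := ⟨x, _⟩)).2 hxw)
      exact (d.rep.fix (x := ⟨n, _⟩)).1 (h4 _ (mem_NN.1 (hKN hn)).snd) }

/-- **The block.** -/
theorem exists_lblk (hcyc : OddCyc G) : ∃ L₀ : Subgroup G, L₀ ≤ NN X r L ∧ NN X r L ≤ L₀ ⊔ CC X Y ∧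
    LBlk (bau T) L₀ (Fintype.card F) ∧ zl (bau T) L₀ = Y ⊔ zj T ∧ zl (bau T) L₀ = Y ⊔ rl (bau T) L₀ ∧
    o2 L₀ ≤ CC X Y := by
  have hNC : NN X r L ≤ normalizer (CC X Y : Set G) := NN_le.trans d.CC_norm
  obtain ⟨K, hTK, hKN, hNK, hc, ho⟩ := RedLinK.exists_min (ψ := psi X r L e) hcyc (T := T ⊓ NN X r L) inf_le_right
    (d.yc.two.to_le inf_le_left) d.not_dvd d.CC_le_NN hNC d.std.four d.psi_surj d.psi_eq_one
  obtain ⟨L₀, hLK, hKL, hb, hz, hz'⟩ := (d.linIn hTK hKN hNK hc ho).exists_lblk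
  rw [d.bau_inf] at hb hz hz'
  rw [d.zj_inf] at hz
  have hoC : o2 K ≤ CC X Y := by rw [← hc]; exact inf_le_right
  refine ⟨L₀, hLK.trans hKN, hNK.trans (sup_le (hKL.trans (sup_le_sup_left hoC _)) le_sup_right), hb, hz, hz', ?_⟩
  intro x hx
  refine ⟨NN_le (hKN (hLK (o2_le _ hx))), ?_⟩
  have h1 : x ∈ centralizer (zl (bau T) L₀ : Set G) := by
    have := hb.cent_zl
    rw [← this] at hx
    exact hx.2
  rw [hz] at h1
  exact centralizer_le (le_sup_left : Y ≤ Y ⊔ zj T) h1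

end Dat

end Cfsg.Agent.OddCyclic.RedLinX
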