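import Cfsg.Agent.OddCyclic.RedFivX

/-!
# S0342, (C2), 2.2-2.4: type (1) for `X`
-/

set_option autoImplicit false
set_option linter.unusedSectionVars false

namespace Cfsg.Agent.OddCyclic.RedTriX

open Subgroup Cfsg Cfsg.Agent.ZN Cfsg.Agent.MinSimple Cfsg.Agent.MinSimple.DBlkApi
open Cfsg.Agent.ZN.ChoiceBase (AA cj)
open Cfsg.Agent.MinSimple.LemX (nc le_nc nc_le le_normalizer_nc)
open Cfsg.Agent.OddCyclic.COneDefs (LBlk)
open Cfsg.Agent.OddCyclic.T1Module Cfsg.Agent.OddCyclic.FFBasic Cfsg.Agent.OddCyclic.FFRed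
open Cfsg.Agent.OddCyclic.RedFam Cfsg.Agent.OddCyclic.RedTy Cfsg.Agent.OddCyclic.RedRep Cfsg.Agent.OddCyclic.RedPl
open Cfsg.Agent.OddCyclic.RedFFDefs Cfsg.Agent.OddCyclic.RedNoLin
open Cfsg.Agent.OddCyclic.RedFive (rho_mul rho_inv_cancel rho_cancel_inv ext_of_inj)
open Cfsg.Agent.OddCyclic.T1Defs (OddCyc)

universe u

section abstract

variable {H : Type u} [Group H] [Finite H] {V : Type u} [CommGroup V] [Finite V] {ρ : H →* MulAut V}
  {T : Subgroup H} {𝒜 : Set (Subgroup H)}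

/-- the type (1) -/
structure TO (ρ : H →* MulAut V) (𝒜 : Set (Subgroup H)) (y a : H) : Prop where
  sq : ∀ v : V, v * v = 1
  s3 : S3 ρ y
  mem : zpowers a ∈ 𝒜
  ord : orderOf a = 2
  inv : a * y * a⁻¹ = y⁻¹
  idx : (fx ρ a).index = 2
  all : ∀ A ∈ 𝒜, A = ⊥ ∨ A = zpowers a

theorem inv_of_zpowers {y y' a : H} (h : zpowers y' = zpowers y) (ha : a * y' * a⁻¹ = y'⁻¹) :
    a * y * a⁻¹ = y⁻¹ := by
  obtain ⟨n, hn⟩ : ∃ n : ℤ, y' ^ n = y := by
    have h1 : y ∈ zpowers y' := by rw [h]; exact mem_zpowers y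
    exact h1
  rw [← hn, ← conj_zpow, ha, inv_zpow]

/-- `V = [V, y] × C_V(y)` -/
theorem split_y (hV : ∀ v : V, v * v = 1) {y : H} (h : S3 ρ y) (v : V) :
    ∃ u ∈ (cm ρ y).range, ∃ w ∈ fx ρ y, v = u * w := by
  have hdisj : Disjoint (cm ρ y).range (fx ρ y) := by
    rw [disjoint_iff, eq_bot_iff_forall]
    rintro u ⟨hu, hf⟩
    exact eq_one_of_fix hV (by rw [h.order]; decide) hu hf
  have hcard : Nat.card (cm ρ y).range * Nat.card (fx ρ y) = Nat.card V := by
    rw [card_range_cm, mul_comm]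
    exact (fx ρ y).card_mul_index
  have h1 := isComplement'_of_card_mul_and_disjoint hcard hdisj
  obtain ⟨⟨u, w⟩, huw, -⟩ := (isComplement_iff_existsUnique.1 h1) v
  exact ⟨u, u.2, w, w.2, huw.symm⟩

theorem fx_inv_of_normal {y : H} (h : S3 ρ y) (g : H) {v : V} (hv : v ∈ fx ρ y) : ρ g v ∈ fx ρ y := by
  have h1 : g⁻¹ * y * g ∈ zpowers y := by
    have := h.normal.conj_mem y (mem_zpowers y) g⁻¹
    rwa [inv_inv] at this
  obtain ⟨n, -, hn⟩ := exists_pow_of_mem (orderOf_pos y) h1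
  rw [mem_fx]
  have e : y * g = g * (g⁻¹ * y * g) := by group
  rw [← rho_mul, e, ← hn, rho_mul]
  congr 1
  exact fx_pow ρ hv n

/-- a transvection inverting `y` centralises `C_V(y)` -/
theorem cent_fx (hV : ∀ v : V, v * v = 1) {y a : H} (h : S3 ρ y) (hi : a * y * a⁻¹ = y⁻¹)
    (h2 : (fx ρ a).index = 2) {w : V} (hw : w ∈ fx ρ y) : ρ a w = w := by
  obtain ⟨c, hc1, hc, -⟩ := RedFive.transv h2
  -- `a` acts nontrivially on `[V, y]`
  obtain ⟨v, hv, hva⟩ : ∃ v ∈ (cm ρ y).range, ρ a v ≠ v := by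
    by_contra hcon
    push Not at hcon
    have h3 : ∀ v ∈ (cm ρ y).range, ρ y v = v := by
      intro v hv
      have h4 : ρ (a * y * a⁻¹) v = ρ y v := by
        rw [rho_mul, rho_mul]
        have h5 : ρ a⁻¹ v = v := by
          have := hcon v hv
          conv_lhs => rw [← this]
          exact rho_inv_cancel ρ a v
        rw [h5]
        exact hcon _ (h.inv_range y v hv)
      rw [hi] at h4
      -- `y² v = v`
      have h5 : ρ (y * y) v = v := by
        rw [rho_mul, ← h4, rho_cancel_inv]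
      exact fx_of_sq ρ (by rw [h.order]; decide) h5
    have h6 : (cm ρ y).range = ⊥ := by
      rw [eq_bot_iff_forall]
      intro v hv
      exact eq_one_of_fix hV (by rw [h.order]; decide) hv (h3 v hv)
    have h7 := h.card_range
    rw [h6, card_bot] at h7
    norm_num at h7
  have hcV : c ∈ (cm ρ y).range := by
    rcases hc v with h3 | h3
    · exact absurd h3 hva
    · have h4 := h.inv_range a v hv
      rw [h3] at h4
      exact (Subgroup.mul_mem_cancel_right _ hv).1 h4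
  rcases hc w with h3 | h3
  · exact h3
  · exfalso
    have h4 := fx_inv_of_normal h a hw
    rw [h3] at h4
    have h5 : c ∈ fx ρ y := (Subgroup.mul_mem_cancel_right _ hw).1 h4
    exact hc1 (eq_one_of_fix hV (by rw [h.order]; decide) hcV h5)

theorem eq_of_two {S : Subgroup H} (hS : IsPGroup 2 S) (hi : Function.Injective ρ) (hV : ∀ v : V, v * v = 1)
    {y a b : H} (h : S3 ρ y) (haS : a ∈ S) (hbS : b ∈ S) (ha : ∀ w ∈ fx ρ y, ρ a w = w)
    (hb : ∀ w ∈ fx ρ y, ρ b w = w) (hay : ∃ v ∈ (cm ρ y).range, ρ a v ≠ v) (hby : ∃ v ∈ (cm ρ y).range, ρ b v ≠ v) :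
    a = b := by
  -- the action of `S` on `[V, y]` has order 2
  set P := (cm ρ y).range with hP
  have hinv : ∀ g ∈ S, ∀ v ∈ P, ρ g v ∈ P := fun g _ v hv => h.inv_range g v hv
  have hfinP : Finite P := inferInstance
  have h1 : Nat.card (res ρ S P hinv).range ∣ 6 :=
    (Subgroup.card_subgroup_dvd_card _).trans (card_mulAut_dvd_six (P := P) h.card_range)
  have h2 : IsPGroup 2 (res ρ S P hinv).range := hS.of_surjective (res ρ S P hinv).rangeRestrict
    (res ρ S P hinv).rangeRestrict_surjective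
  obtain ⟨n, hn⟩ := IsPGroup.iff_card.1 h2
  rw [hn] at h1
  have hn1 : n ≤ 1 := by
    by_contra hcon
    have h3 : 4 ∣ 6 := (pow_dvd_pow 2 (show 2 ≤ n by omega)).trans h1
    norm_num at h3
  have h3 : Nat.card (res ρ S P hinv).range ≤ 2 := by
    rw [hn]
    calc 2 ^ n ≤ 2 ^ 1 := Nat.pow_le_pow_right (by norm_num) hn1
      _ = 2 := by norm_num
  -- both are the nontrivial element
  have hne : ∀ g : H, ∀ hg : g ∈ S, (∃ v ∈ P, ρ g v ≠ v) → res ρ S P hinv ⟨g, hg⟩ ≠ 1 := by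
    rintro g hg ⟨v, hv, hgv⟩ h4
    apply hgv
    exact congrArg (fun φ : MulAut P => ((φ ⟨v, hv⟩ : P) : V)) h4
  have h4 : res ρ S P hinv ⟨a, haS⟩ = res ρ S P hinv ⟨b, hbS⟩ := by
    by_contra hcon
    have h5 : ({1, res ρ S P hinv ⟨a, haS⟩, res ρ S P hinv ⟨b, hbS⟩} : Set (MulAut P)) ⊆
        ((res ρ S P hinv).range : Set (MulAut P)) := by
      rintro _ (rfl | rfl | rfl)
      · exact one_mem _
      · exact ⟨_, rfl⟩
      · exact ⟨_, rfl⟩
    have h6 := Set.ncard_le_ncard h5 (Set.toFinite _)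
    have h7 : ({1, res ρ S P hinv ⟨a, haS⟩, res ρ S P hinv ⟨b, hbS⟩} : Set (MulAut P)).ncard = 3 := by
      rw [Set.ncard_eq_three]
      exact ⟨1, _, _, Ne.symm (hne a haS hay), Ne.symm (hne b hbS hby), hcon, rfl⟩
    have h8 : ((res ρ S P hinv).range : Set (MulAut P)).ncard ≤ 2 := h3
    omega
  apply ext_of_inj hi
  intro v
  obtain ⟨u, hu, w, hw, rfl⟩ := split_y hV h v
  have h5 : ρ a u = ρ b u := congrArg (fun φ : MulAut P => ((φ ⟨u, hu⟩ : P) : V)) h4
  rw [map_mul, map_mul, h5, ha w hw, hb w hw]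

theorem moves_of_inv (hV : ∀ v : V, v * v = 1) {y a : H} (h : S3 ρ y) (hi : a * y * a⁻¹ = y⁻¹) :
    ∃ v ∈ (cm ρ y).range, ρ a v ≠ v := by
  by_contra hcon
  push Not at hcon
  have h3 : ∀ v ∈ (cm ρ y).range, ρ y v = v := by
    intro v hv
    have h4 : ρ (a * y * a⁻¹) v = ρ y v := by
      rw [rho_mul, rho_mul]
      have h5 : ρ a⁻¹ v = v := by
        have := hcon v hv
        conv_lhs => rw [← this]
        exact rho_inv_cancel ρ a v
      rw [h5]
      exact hcon _ (h.inv_range y v hv)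
    rw [hi] at h4
    have h5 : ρ (y * y) v = v := by
      rw [rho_mul, ← h4, rho_cancel_inv]
    exact fx_of_sq ρ (by rw [h.order]; decide) h5
  have h6 : (cm ρ y).range = ⊥ := by
    rw [eq_bot_iff_forall]
    intro v hv
    exact eq_one_of_fix hV (by rw [h.order]; decide) hv (h3 v hv)
  have h7 := h.card_range
  rw [h6, card_bot] at h7
  norm_num at h7

theorem exists_TO (hF : Fam ρ T 𝒜) {A : Subgroup H} (hA : A ∈ 𝒜) (hA1 : A ≠ ⊥) (h3 : OutS3 ρ A) :
    ∃ y a, TO ρ 𝒜 y a := by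
  obtain ⟨y, hy, hyn, hcA, hinv, hiA, hiy⟩ := h3
  have hS : S3 ρ y := ⟨hy, hyn, hiy⟩
  have hf3 : Fact (Nat.Prime 3) := ⟨Nat.prime_three⟩
  have hys : IsSimpleGroup (zpowers y) := isSimpleGroup_of_prime_card (p := 3) (by rw [Nat.card_zpowers, hy])
  have hy3 : 3 ∣ Nat.card (zpowers y) := by rw [Nat.card_zpowers, hy]
  -- a member of `𝒜` of type (1)
  have key : ∀ B ∈ 𝒜, B ≠ ⊥ → ∃ b ∈ B, b ≠ 1 ∧ B = zpowers b ∧ orderOf b = 2 ∧ b * y * b⁻¹ = y⁻¹ ∧
      (fx ρ b).index = 2 := by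
    intro B hB hB1
    rcases hF.out B hB hB1 with ⟨y', hy', hyn', hcB, hinv', hiB, -⟩ | ⟨L, hL, -, F, _, _, _, h4, ⟨f⟩, -⟩ |
        ⟨K, -, e, hn, -⟩ | ⟨L, hL, -, hLs, hLc⟩
    · obtain ⟨⟨b, hbB⟩, hb1⟩ := Subgroup.ne_bot_iff_exists_ne_one.1 hB1
      have hb1' : b ≠ 1 := fun h => hb1 (Subtype.ext h)
      have hbo : orderOf b = 2 := by
        rw [orderOf_eq_prime_iff, pow_two]
        exact ⟨(hF.bo B hB).sq b hbB, hb1'⟩
      have hBz : B = zpowers b := by
        symm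
        exact Subgroup.eq_of_le_of_card_ge ((zpowers_le).2 hbB) (by rw [Nat.card_zpowers, hcB, hbo])
      have hys' : IsSimpleGroup (zpowers y') :=
        isSimpleGroup_of_prime_card (p := 3) (by rw [Nat.card_zpowers, hy'])
      have h5 : zpowers y' = zpowers y := simple_unique hF.cyc hyn' hyn hys' hys
        (by rw [Nat.card_zpowers, hy']) hy3
      refine ⟨b, hbB, hb1', hBz, hbo, inv_of_zpowers h5 (hinv' b hbB hb1'), ?_⟩
      have h6 : fx ρ b = CS ρ B := by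
        ext v
        rw [mem_CS, mem_fx]
        constructor
        · intro hv c hc
          rw [hBz] at hc
          obtain ⟨n, -, rfl⟩ := exists_pow_of_mem (orderOf_pos b) hc
          exact fx_pow ρ hv n
        · exact fun hv => hv b hbB
      rw [h6]; exact hiB
    · exfalso
      have h5 := card_eq_three_of hF.cyc hL (RedFive.simple_sl h4 f)
        (by rw [Nat.card_congr f.toEquiv]; exact RedFive.three_dvd_sl h4) hy hyn
      rw [Nat.card_congr f.toEquiv, T1Sl2.card_sl2] at h5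
      obtain ⟨q, hq⟩ : ∃ q, Fintype.card F = q + 4 := ⟨Fintype.card F - 4, by omega⟩
      rw [hq] at h5
      have h6 : q + 4 - 1 = q + 3 := by omega
      rw [h6] at h5
      have h7 : (0 + 4 + 1) * (0 + 4) * (0 + 3) ≤ (q + 4 + 1) * (q + 4) * (q + 3) := by
        gcongr <;> omega
      omega
    · exfalso
      have h5 := card_eq_three_of hF.cyc (show (RedFive.L0 e).Normal from hn) RedFive.simple_L0
        RedFive.three_dvd_L0 hy hyn
      rw [RedFive.card_L0] at h5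
      norm_num at h5
    · exfalso
      have h5 := card_eq_three_of hF.cyc hL hLs (by rw [hLc]; decide) hy hyn
      rw [h5] at hLc
      norm_num at hLc
  obtain ⟨a, haA, ha1, hAz, hao, hai, haf⟩ := key A hA hA1
  refine ⟨y, a, hF.sq, hS, hAz ▸ hA, hao, hai, haf, fun B hB => ?_⟩
  by_cases hB1 : B = ⊥
  · exact Or.inl hB1
  right
  obtain ⟨b, hbB, hb1, hBz, hbo, hbi, hbf⟩ := key B hB hB1
  have h5 : a = b := eq_of_two hF.two hF.inj hF.sq hS (hF.le A hA haA) (hF.le B hB hbB)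
    (fun w hw => cent_fx hF.sq hS hai haf hw) (fun w hw => cent_fx hF.sq hS hbi hbf hw)
    (moves_of_inv hF.sq hS hai) (moves_of_inv hF.sq hS hbi)
  rw [hBz, h5]

/-- the involution `a` on `[V, y]`: an element fixing `C_V(a)` is `1` or `a` -/
theorem eq_or (hi : Function.Injective ρ) {y a : H} (h : TO ρ 𝒜 y a) {b : H} (hb : ∀ v ∈ fx ρ a, ρ b v = v) :
    b = 1 ∨ b = a := by
  obtain ⟨c, hc1, hc, -⟩ := RedFive.transv h.idx
  obtain ⟨v, hv, hva⟩ := moves_of_inv h.sq h.s3 h.inv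
  have hva' : ρ a v = c * v := (hc v).resolve_left hva
  have hcc : ρ a c = c := by
    rcases hc c with h3 | h3
    · exact h3
    · exfalso
      rw [h.sq] at h3
      exact hc1 ((map_eq_one_iff (ρ a) (MulEquiv.injective _)).1 h3)
  have hcV : c ∈ (cm ρ y).range := by
    have h4 := h.s3.inv_range a v hv
    rw [hva'] at h4
    exact (Subgroup.mul_mem_cancel_right _ hv).1 h4
  have hc0 : c ≠ v := by
    rintro rfl
    exact hva hcc
  have hv1 : v ≠ 1 := by
    rintro rfl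
    exact hva (map_one _)
  -- the elements of `[V, y]`
  have hP : ∀ x ∈ (cm ρ y).range, x = 1 ∨ x = c ∨ x = v ∨ x = c * v := by
    intro x hx
    have h4 := Four.four h.s3.card_range (fun w _ => by rw [pow_two]; exact h.sq w) hcV hv hc1 hv1 hc0 x hx
    exact h4
  have hbc : ρ b c = c := hb c hcc
  have hbv : ρ b v = v ∨ ρ b v = c * v := by
    rcases hP _ (h.s3.inv_range b v hv) with h4 | h4 | h4 | h4
    · exact absurd ((map_eq_one_iff (ρ b) (MulEquiv.injective _)).1 h4) hv1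
    · exfalso
      exact hc0 (((ρ b).injective (h4.trans hbc.symm)).symm)
    · exact Or.inl h4
    · exact Or.inr h4
  have hfx : ∀ w ∈ fx ρ y, ρ b w = w := fun w hw => hb w (cent_fx h.sq h.s3 h.inv h.idx hw)
  have hfxa : ∀ w ∈ fx ρ y, ρ a w = w := fun w hw => cent_fx h.sq h.s3 h.inv h.idx hw
  rcases hbv with h4 | h4
  · left
    apply ext_of_inj hi
    intro x
    obtain ⟨u, hu, w, hw, rfl⟩ := split_y h.sq h.s3 x
    rw [map_mul, hfx w hw, map_one]
    rcases hP u hu with rfl | rfl | rfl | rfl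
    · rw [map_one]; rfl
    · rw [hbc]; rfl
    · rw [h4]; rfl
    · rw [map_mul, hbc, h4]; rfl
  · right
    apply ext_of_inj hi
    intro x
    obtain ⟨u, hu, w, hw, rfl⟩ := split_y h.sq h.s3 x
    rw [map_mul, hfx w hw, map_mul, hfxa w hw]
    rcases hP u hu with rfl | rfl | rfl | rfl
    · rw [map_one, map_one]
    · rw [hbc, hcc]
    · rw [h4, hva']
    · rw [map_mul, hbc, h4, map_mul, hcc, hva']

theorem cm_mem {y x : H} (hx : x ∈ zpowers y) (hy : 0 < orderOf y) (v : V) : ρ x v * v⁻¹ ∈ (cm ρ y).range := by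
  have h2 : ∀ n : ℕ, (cm ρ (y ^ n)).range ≤ (cm ρ y).range := by
    intro n
    induction n with
    | zero =>
      rintro _ ⟨v, rfl⟩
      rw [cm_apply, pow_zero, map_one]
      simp
    | succ n ih =>
      rintro _ ⟨v, rfl⟩
      have e : cm ρ (y ^ (n + 1)) v = cm ρ (y ^ n) (ρ y v) * cm ρ y v := by
        rw [cm_apply, cm_apply, cm_apply, pow_succ, map_mul, MulAut.mul_apply]
        group
      rw [e]
      exact mul_mem (ih ⟨_, rfl⟩) ⟨v, rfl⟩
  obtain ⟨m, -, he⟩ := exists_pow_of_mem hy hx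
  rw [← he]
  exact h2 m ⟨v, rfl⟩

end abstract

section loc

variable {G : Type u} [Group G] [Finite G] {X T Y : Subgroup G} {H V : Type u} [Group H] [CommGroup V] [Finite H]
  [Finite V] {r : X →* H} {ρ : H →* MulAut V} {ι : V →* G} {y a : H}

variable (hY : YC X T Y) (hr : Rep X Y r ρ ι) (hF : Fam ρ (im X T r) (famOf X T r)) (h : TO ρ (famOf X T r) y a)

include hY hr hF h

theorem jj_mem {x : X} (hx : (x : G) ∈ jj T) : r x ∈ zpowers a := by
  have h1 : jj T ≤ ((zpowers a).comap r).map X.subtype := by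
    rw [ChoiceBase.jj_eq]
    refine sSup_le fun A hA b hb => ?_
    have hbX : b ∈ X := hY.TX (hA.2.1 hb)
    refine ⟨⟨b, hbX⟩, ?_, rfl⟩
    change r ⟨b, hbX⟩ ∈ zpowers a
    have h2 : r ⟨b, hbX⟩ ∈ (A.subgroupOf X).map r := ⟨_, mem_subgroupOf.2 hb, rfl⟩
    rcases h.all _ ⟨A, hA, rfl⟩ with h3 | h3
    · rw [h3, mem_bot] at h2
      rw [h2]; exact one_mem _
    · rw [h3] at h2; exact h2
  obtain ⟨z, hz, hzx⟩ := h1 hx
  have : z = x := Subtype.ext hzx
  rw [← this]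
  exact hz

theorem exists_a : ∃ A ∈ AA T, ∃ x : X, (x : G) ∈ A ∧ r x = a := by
  obtain ⟨A, hA, hAa⟩ := h.mem
  have h1 : a ∈ (A.subgroupOf X).map r := by rw [← hAa]; exact mem_zpowers a
  obtain ⟨x, hx, hxa⟩ := h1
  exact ⟨A, hA, x, mem_subgroupOf.1 hx, hxa⟩

theorem bau_mem {x : X} (hx : (x : G) ∈ bau T) : r x = 1 ∨ r x = a := by
  refine eq_or hr.inj h fun v hv => ?_
  rw [hr.fix]
  refine bau_fix hY (hr.mem v) (fun b hb => ?_) _ hx
  have hbX : b ∈ X := hY.TX (ZN.jj_le T hb)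
  have h1 := jj_mem hY hr hF h (x := ⟨b, hbX⟩) hb
  obtain ⟨n, -, hn⟩ := exists_pow_of_mem (orderOf_pos a) h1
  refine (hr.fix (x := ⟨b, hbX⟩)).1 ?_
  rw [← hn]
  exact fx_pow ρ hv n

theorem kk_fix {x : X} (hx : (x : G) ∈ kk X T) {v : V} (hv : v ∈ fx ρ y) : ρ (r x) v = v := by
  let N : Subgroup H :=
    { carrier := {g | ∀ v ∈ fx ρ y, ρ g v = v}
      one_mem' := fun v _ => by rw [map_one]; rfl
      mul_mem' := fun {g k} hg hk v hv => by rw [rho_mul, hk v hv, hg v hv]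
      inv_mem' := fun {g} hg v hv => fx_inv ρ (hg v hv) }
  have hN : N.Normal := ⟨fun g hg k v hv => by
    rw [rho_mul, rho_mul, hg _ (fx_inv_of_normal h.s3 k⁻¹ hv), rho_cancel_inv]⟩
  have h1 : kk X T ≤ (N.comap r).map X.subtype := by
    refine nc_le ?_ ?_
    · intro b hb
      have hbX : b ∈ X := hY.TX (ZN.jj_le T hb)
      refine ⟨⟨b, hbX⟩, ?_, rfl⟩
      change r ⟨b, hbX⟩ ∈ N
      have h1 := jj_mem hY hr hF h (x := ⟨b, hbX⟩) hb
      exact (zpowers_le.2 (show a ∈ N from fun v hv => cent_fx h.sq h.s3 h.inv h.idx hv)) h1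
    · rw [le_normalizer_iff]
      rintro g hg _ ⟨z, hz, rfl⟩
      refine ⟨⟨g, hg⟩ * z * ⟨g, hg⟩⁻¹, ?_, rfl⟩
      change r (⟨g, hg⟩ * z * ⟨g, hg⟩⁻¹) ∈ N
      rw [map_mul, map_mul, map_inv]
      exact hN.conj_mem _ hz _
  obtain ⟨z, hz, hzx⟩ := h1 hx
  have : z = x := Subtype.ext hzx
  rw [← this]
  exact hz v hv

theorem kk_y {v : V} (hc : ι v ∈ centralizer (kk X T : Set G)) : ρ y v = v := by
  obtain ⟨A, hA, xa, hxA, hxa⟩ := exists_a hY hr hF h
  obtain ⟨xy, hxy⟩ := hr.surj y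
  have h1 : (xa : G) ∈ kk X T := le_nc X (jj T) (ChoiceBase.le_jj hA hxA)
  have h2 : ((xy * xa * xy⁻¹ : X) : G) ∈ kk X T := Four.conj_mem (le_normalizer_nc X (jj T) xy.2) h1
  have h3 : ρ a v = v := by
    rw [← hxa, hr.fix]
    exact mem_centralizer_iff.1 hc _ h1
  have h4 : ρ (y * a * y⁻¹) v = v := by
    have : y * a * y⁻¹ = r (xy * xa * xy⁻¹) := by rw [map_mul, map_mul, map_inv, hxa, hxy]
    rw [this, hr.fix]
    exact mem_centralizer_iff.1 hc _ h2
  have ha2 : a * a = 1 := by rw [← pow_two, ← h.ord, pow_orderOf_eq_one]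
  -- `y a y⁻¹ a = y²`
  have h5 : y * a * y⁻¹ * a = y * y := by
    have h6 := h.inv
    have h7 : a * y⁻¹ * a⁻¹ = y := by
      have := congrArg (·⁻¹) h6
      simpa [mul_assoc] using this
    have h8 : a⁻¹ = a := inv_eq_of_mul_eq_one_left ha2
    rw [h8] at h7
    calc y * a * y⁻¹ * a = y * (a * y⁻¹ * a) := by group
      _ = y * y := by rw [h7]
  have h6 : ρ (y * y) v = v := by
    rw [← h5, rho_mul, h3, h4]
  exact fx_of_sq ρ (by rw [h.s3.order]; decide) h6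

theorem blk (hc : OddCyc G) : ∃ (L : Subgroup G) (k : ℕ), L ≤ X ∧ IsDBlk (bau T) L k ∧
    vl (bau T) L = (cm ρ y).range.map ι := by
  have hnorm : X ≤ normalizer ((cm ρ y).range.map ι : Set G) := by
    rw [le_normalizer_iff]
    rintro x hx _ ⟨u, hu, rfl⟩
    exact ⟨ρ (r ⟨x, hx⟩) u, h.s3.inv_range _ u hu, hr.act ⟨x, hx⟩ u⟩
  obtain ⟨A, hA, xa, hxA, hxa⟩ := exists_a hY hr hF h
  obtain ⟨xy, hxy⟩ := hr.surj y
  obtain ⟨v, hv, hva⟩ := moves_of_inv h.sq h.s3 h.inv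
  have g2 : ∃ b ∈ bau T, ∃ v ∈ (cm ρ y).range.map ι, b * v ≠ v * b := by
    refine ⟨xa, ZN.jj_le_bau T (ChoiceBase.le_jj hA hxA), ι v, ⟨v, hv, rfl⟩, fun h1 => hva ?_⟩
    rw [← hxa, hr.fix]; exact h1
  have g3 : ∃ y' ∈ X, y' ∈ normalizer ((cm ρ y).range.map ι : Set G) ∧
      ∀ v ∈ (cm ρ y).range.map ι, v ≠ 1 → y' * v * y'⁻¹ ≠ v := by
    refine ⟨xy, xy.2, hnorm xy.2, ?_⟩
    rintro _ ⟨u, hu, rfl⟩ hu1 h1
    rw [← hr.act, hxy] at h1
    apply hu1
    rw [eq_one_of_fix h.sq (by rw [h.s3.order]; decide) hu (hr.iinj h1), map_one]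
  obtain ⟨L, k, h1, -, h2, h3⟩ := exists_blk_of_plane hc hY.toLoc (V := (cm ρ y).range.map ι)
    (by rintro _ ⟨u, -, rfl⟩; exact hY.le (hr.mem u))
    (by rw [Subgroup.card_map_of_injective hr.iinj]; exact h.s3.card_range)
    (((ZN.bau_le T).trans hY.TX).trans hnorm) g2 g3
  exact ⟨L, k, h1, h2, h3⟩

/-- **type (1)** -/
theorem main (hc : OddCyc G) : TriY X T Y ((cm ρ y).range.map ι) where
  le := by
    rintro _ ⟨u, -, rfl⟩
    exact hr.mem u
  norm := by
    rw [le_normalizer_iff]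
    rintro x hx _ ⟨u, hu, rfl⟩
    exact ⟨ρ (r ⟨x, hx⟩) u, h.s3.inv_range _ u hu, hr.act ⟨x, hx⟩ u⟩
  blk := blk hY hr hF h hc
  only := by
    intro L k hLX hL
    obtain ⟨z, -, -, hpl⟩ := pl_of_blk hY hr hLX hL
    have hvY : vl (bau T) L ≤ Y := hY.vl_le L hLX (Or.inl ⟨k, hL⟩)
    have hmap : ((vl (bau T) L).comap ι).map ι = vl (bau T) L := by
      rw [Subgroup.map_comap_eq, hr.range, inf_eq_right]
      exact hvY
    rw [← hmap, h.s3.plane h.sq hF.cyc hpl.card hpl.three hpl.inv hpl.fpf]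
  nolin := by
    intro L q hLX hL
    refine nolin_of_transv hY hLX hL fun b hb => ?_
    have hbX : b ∈ X := hY.TX (ZN.bau_le T hb)
    rcases bau_mem hY hr hF h (x := ⟨b, hbX⟩) hb with h1 | h1
    · refine ⟨1, one_mem _, fun w hw => ?_⟩
      rw [hr.r_eq_one.1 h1 w hw]
      simp
    · refine ⟨b, subset_closure ⟨hb, fun v hv w hw h2 h3 => ?_⟩, fun w _ => rfl⟩
      obtain ⟨v, rfl⟩ := hr.exists_v hv
      obtain ⟨w, rfl⟩ := hr.exists_v hw
      have e1 : ∀ v : V, b * ι v = ι v * b ↔ ρ a v = v := fun v => by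
        rw [← h1, hr.fix]
      rw [ne_eq, e1] at h2 h3
      rw [← map_mul, e1, map_mul]
      obtain ⟨c, hc1, hc, -⟩ := RedFive.transv h.idx
      rw [(hc v).resolve_left h2, (hc w).resolve_left h3]
      calc c * v * (c * w) = (c * c) * (v * w) := by simp only [mul_comm, mul_left_comm]
        _ = v * w := by rw [h.sq, one_mul]
  three := by
    intro x hx hx3 w hw
    obtain ⟨v, rfl⟩ := hr.exists_v hw
    have h1 : r ⟨x, hx⟩ ∈ zpowers y := by
      refine h.s3.mem h.sq hF.cyc ?_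
      obtain ⟨k, hk⟩ := hx3
      refine ⟨k, ?_⟩
      rw [← map_pow]
      have : (⟨x, hx⟩ : X) ^ 3 ^ k = 1 := Subtype.ext hk
      rw [this, map_one]
    refine ⟨ρ (r ⟨x, hx⟩) v * v⁻¹, cm_mem h1 (orderOf_pos y) v, ?_⟩
    rw [map_mul, map_inv, hr.act ⟨x, hx⟩ v]
  split := by
    intro w hw
    obtain ⟨v, rfl⟩ := hr.exists_v hw
    obtain ⟨u, hu, w', hw', rfl⟩ := split_y h.sq h.s3 v
    rw [map_mul]
    refine mul_mem (mem_sup_left ⟨u, hu, rfl⟩) (mem_sup_right ⟨hr.mem _, ?_⟩)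
    change ι w' ∈ centralizer (kk X T : Set G)
    rw [mem_centralizer_iff]
    intro g hg
    have hgX : g ∈ X := nc_le ((ZN.jj_le T).trans hY.TX) Subgroup.le_normalizer hg
    exact (hr.fix (x := ⟨g, hgX⟩)).1 (kk_fix hY hr hF h (x := ⟨g, hgX⟩) hg hw')
  disj := by
    rw [eq_bot_iff_forall]
    rintro _ ⟨⟨u, hu, rfl⟩, hc'⟩
    rw [eq_one_of_fix h.sq (by rw [h.s3.order]; decide) hu (kk_y hY hr hF h hc'), map_one]
  index := by
    have h1 : bau T ⊓ centralizer (Y : Set G) = (r.ker.map X.subtype) ⊓ bau T := by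
      ext b
      constructor
      · rintro ⟨hb, hbY⟩
        have hbX : b ∈ X := hY.TX (ZN.bau_le T hb)
        refine ⟨⟨⟨b, hbX⟩, ?_, rfl⟩, hb⟩
        rw [SetLike.mem_coe, MonoidHom.mem_ker, hr.r_eq_one]
        exact fun w hw => (mem_centralizer_iff.1 hbY w hw).symm
      · rintro ⟨⟨x, hx, rfl⟩, hb⟩
        refine ⟨hb, mem_centralizer_iff.2 fun w hw => ?_⟩
        exact (hr.r_eq_one.1 (MonoidHom.mem_ker.1 hx) w hw).symm
    have hBX : bau T ≤ X := (ZN.bau_le T).trans hY.TX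
    rw [h1, inf_relIndex_right]
    have h4 : (r.ker.map X.subtype).relIndex (bau T) = r.ker.relIndex ((bau T).subgroupOf X) := by
      conv_lhs => rw [← Subgroup.map_subgroupOf_eq_of_le hBX]
      exact Subgroup.relIndex_map_map_of_injective _ _ X.subtype_injective
    rw [h4, Subgroup.relIndex_ker]
    have h5 : ((bau T).subgroupOf X).map r = zpowers a := by
      apply le_antisymm
      · rintro _ ⟨x, hx, rfl⟩
        rcases bau_mem hY hr hF h (mem_subgroupOf.1 hx) with h6 | h6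
        · rw [h6]; exact one_mem _
        · rw [h6]; exact mem_zpowers a
      · rw [zpowers_le]
        obtain ⟨A, hA, xa, hxA, hxa⟩ := exists_a hY hr hF h
        exact ⟨xa, mem_subgroupOf.2 (ZN.jj_le_bau T (ChoiceBase.le_jj hA hxA)), hxa⟩
    rw [h5, Nat.card_zpowers, h.ord]

omit h in
/-- type (1) from a member of `famOf X T r` of type `OutS3` -/
theorem of_out (hc : OddCyc G) {A : Subgroup H} (hA : A ∈ famOf X T r) (hA1 : A ≠ ⊥) (h3 : OutS3 ρ A) :
    TyY X T Y := by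
  obtain ⟨y, a, ho⟩ := exists_TO hF hA hA1 h3
  exact TyY.tri _ (main hY hr hF ho hc)

end loc

end Cfsg.Agent.OddCyclic.RedTriX
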