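import Cfsg.Agent.OddCyclic.RedSevenX
import Cfsg.Agent.OddCyclic.RedLinEnd
import Cfsg.Agent.OddCyclic.RedTriX
import Cfsg.Agent.OddCyclic.RedFivX
import Cfsg.Agent.OddCyclic.RedAct

/-!
# S0342, (C2), 2.2-2.4: the types of a 2-local subgroup exist

`ty_of_yc`: for `YC X T Y`, `TyY X T Y`, from FFC for the quotients of `X`.
-/

set_option autoImplicit false

namespace Cfsg.Agent.OddCyclic.RedMain

open Subgroup Cfsg Cfsg.Agent.ZN Cfsg.Agent.ZN.ChoiceBase Cfsg.Agent.MinSimple Cfsg.Agent.MinSimple.DBlkApi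
open Cfsg.Agent.OddCyclic.RedX (mod Loc)
open Cfsg.Agent.OddCyclic.RedTy
open Cfsg.Agent.OddCyclic.RedRep
open Cfsg.Agent.OddCyclic.RedFam (Fam)
open Cfsg.Agent.OddCyclic.T1Defs (OddCyc)

universe u

variable {G : Type u} [Group G] [Finite G] {X T Y : Subgroup G}

/-- the types with respect to `Y` -/
theorem ty_of_yc (hc : OddCyc G) (hY : YC X T Y)
    (hF : ∀ (H : Type u) [Group H] (f : X →* H), Function.Surjective f → RedFFDefs.FFC H) : TyY X T Y := by
  obtain ⟨H, W, i1, i2, i3, i4, r, ρ, ι, hr, hf⟩ := RedAct.exists_rep hc hY hF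
  by_cases h0 : ∀ A ∈ famOf X T r, A = ⊥
  · refine TyY.zero ?_
    rw [ChoiceBase.jj_eq]
    refine sSup_le fun A hA a ha => ?_
    have haX : a ∈ X := hY.TX (ZN.jj_le T (ChoiceBase.le_jj hA ha))
    have h1 : r ⟨a, haX⟩ = 1 := by
      have h2 : r ⟨a, haX⟩ ∈ (A.subgroupOf X).map r := ⟨⟨a, haX⟩, mem_subgroupOf.2 ha, rfl⟩
      rw [h0 _ ⟨A, hA, rfl⟩] at h2
      exact h2
    rw [mem_centralizer_iff]
    intro w hw
    exact (hr.r_eq_one.1 h1 w hw).symm
  · push Not at h0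
    obtain ⟨A, hA, hA1⟩ := h0
    rcases hf.out A hA hA1 with h | h | h | h
    · exact RedTriX.of_out hY hr hf hc hA hA1 h
    · obtain ⟨L, q, h'⟩ := RedLinX.main hc hY hr hf hA hA1 h
      exact TyY.lin L q h'
    · exact RedFivX.of_out hc hY hr hf hA hA1 h
    · rcases RedSevenX.main hc hY hr hf hA hA1 h with ⟨N, V, z, h'⟩ | ⟨L, h'⟩
      · exact TyY.sev N V z h'
      · exact TyY.bc L h'

/-- the types of a 2-local subgroup -/
theorem ty (hc : OddCyc G) (h : Loc X T)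
    (hF : ∀ (H : Type u) [Group H] (f : X →* H), Function.Surjective f → RedFFDefs.FFC H) : Ty X T :=
  ty_of_yc hc (yc_mod h) hF

end Cfsg.Agent.OddCyclic.RedMain
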