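import Cfsg.Agent.OddCyclic.RedPl
import Cfsg.Agent.OddCyclic.RedLBlk
import Cfsg.Agent.OddCyclic.COnePair
import Cfsg.Agent.WeakTI.PslTwo
import Cfsg.Agent.TwoFusion.SLTwoFacts

/-!
# S0342, (C2), 2.4: no `SL₂(q)`-blocks in the types (1), (L3a), (S5), (L3b), (L3c)
-/

set_option autoImplicit false

namespace Cfsg.Agent.OddCyclic.RedNoLin

open Subgroup Cfsg Cfsg.Agent.ZN Cfsg.Agent.MinSimple Cfsg.Agent.MinSimple.DBlkApi
open Cfsg.Agent.ZN.ChoiceBase (AA cj)
open Cfsg.Agent.OddCyclic.COneDefs (LBlk)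
open Cfsg.Agent.OddCyclic.COneBlk (fpf_odd card_quot)
open scoped commutatorElement
open Cfsg.Agent.PLocal.ThompsonJ (isElementaryAbelian_iff)
open Cfsg.Agent.OddCyclic.RedLBlk
open Cfsg.Agent.OddCyclic.RedTy Cfsg.Agent.OddCyclic.RedRep
open Cfsg.Agent.OddCyclic.RedX (Loc)

universe u

variable {G : Type u} [Group G]

theorem idx_two [Finite G] {Z P : Subgroup G} (h : ∀ x ∈ Z, ∀ y ∈ Z, x ∉ P → y ∉ P → x * y ∈ P) :
    P.relIndex Z ≤ 2 := by
  by_cases h1 : Z ≤ P
  · rw [relIndex_eq_one.2 h1]; norm_num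
  obtain ⟨a, haZ, haP⟩ := SetLike.not_le_iff_exists.1 h1
  have h2 : (P.subgroupOf Z).index = 2 := by
    rw [index_eq_two_iff]
    refine ⟨⟨a, haZ⟩, fun b => ?_⟩
    rw [mem_subgroupOf, mem_subgroupOf]
    by_cases hb : (b : G) ∈ P
    · right
      refine ⟨hb, fun h3 => haP ?_⟩
      exact (Subgroup.mul_mem_cancel_left P hb).1 h3
    · left
      exact ⟨h b b.2 a haZ hb haP, hb⟩
  exact h2.le

variable [Finite G] {X T Y : Subgroup G} {L : Subgroup G} {q : ℕ}

theorem not_vl_le (hL : LBlk (bau T) L q) : ¬ vl (bau T) L ≤ rl (bau T) L := by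
  intro h1
  refine not_zl_le_rl hL (le_rl_of_triv hL le_rfl (fun l hl p hp => COneBlk.zl_conj hl hp) fun b hb p hp => h1 ?_)
  have h2 : ⁅p, b⁆ ∈ vl (bau T) L := commutator_mem_commutator hp (hL.le hb)
  have e : b * p * b⁻¹ * p⁻¹ = ⁅p, b⁆⁻¹ := by rw [commutatorElement_def]; group
  rw [e]
  exact inv_mem h2

theorem zl_le (hL : LBlk (bau T) L q) : zl (bau T) L ≤ vl (bau T) L ⊔ rl (bau T) L :=
  irr hL (vl_le_zl _ _) (fun l hl p hp => Four.conj_mem (le_normalizer_vl (bau T) L hl) hp) (not_vl_le hL)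

theorem exists_mul (hL : LBlk (bau T) L q) {x : G} (hx : x ∈ zl (bau T) L) :
    ∃ v ∈ vl (bau T) L, ∃ c ∈ rl (bau T) L, x = v * c := by
  have h1 : rl (bau T) L ≤ normalizer (vl (bau T) L : Set G) := by
    intro c hc
    refine centralizer_le_normalizer _ (mem_centralizer_iff.2 fun v hv => ?_)
    exact hL.zl_comm _ (vl_le_zl _ _ hv) _ (COneBlk.rl_le_zl _ _ hc)
  have h2 := zl_le hL hx
  rw [sup_comm, ← SetLike.mem_coe, coe_mul_of_left_le_normalizer_right _ _ h1] at h2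
  obtain ⟨c, hc, v, hv, rfl⟩ := Set.mem_mul.1 h2
  exact ⟨v, hv, c, hc, hL.zl_comm _ (COneBlk.rl_le_zl _ _ hc) _ (vl_le_zl _ _ hv)⟩

/-- elements acting trivially on `vl` centralise `zl` -/
theorem cent_of_vl (hL : LBlk (bau T) L q) {b : G} (hb : b ∈ L) (h : ∀ v ∈ vl (bau T) L, b * v = v * b) :
    ∀ x ∈ zl (bau T) L, b * x = x * b := by
  intro x hx
  obtain ⟨v, hv, c, hc, rfl⟩ := exists_mul hL hx
  rw [← mul_assoc, h v hv, mul_assoc, COneBlk.rl_comm hc hb, mul_assoc]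

theorem mem_o2_of_vl (hL : LBlk (bau T) L q) {b : G} (hb : b ∈ bau T) (h : ∀ v ∈ vl (bau T) L, b * v = v * b) :
    b ∈ o2 L := by
  rw [← hL.cent_zl]
  exact ⟨hb, mem_centralizer_iff.2 fun x hx => (cent_of_vl hL (hL.le hb) h x hx).symm⟩

/-- transvections of `bau T` lie in `O₂(L)` -/
theorem mem_o2_of_transv (hY : YC X T Y) (hLX : L ≤ X) (hL : LBlk (bau T) L q) {b : G} (hb : b ∈ bau T)
    (ht : ∀ v ∈ Y, ∀ w ∈ Y, b * v ≠ v * b → b * w ≠ w * b → b * (v * w) = v * w * b) : b ∈ o2 L := by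
  by_contra hbo
  set Z := zl (bau T) L with hZ
  set P := Z ⊓ centralizer ({b} : Set G) with hP
  have hvY : vl (bau T) L ≤ Y := hY.vl_le L hLX (Or.inr ⟨q, hL⟩)
  have h1 : P ≤ zc (bau T) := by
    rintro x ⟨hx, hxb⟩
    exact hL.cent b hb hbo x hx (mem_centralizer_singleton_iff.1 hxb).symm
  have h2 : P.relIndex Z ≤ 2 := by
    apply idx_two
    intro x hx y hy hxP hyP
    refine ⟨Z.mul_mem hx hy, ?_⟩
    have hx' : b * x ≠ x * b := fun h => hxP ⟨hx, mem_centralizer_singleton_iff.2 h.symm⟩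
    have hy' : b * y ≠ y * b := fun h => hyP ⟨hy, mem_centralizer_singleton_iff.2 h.symm⟩
    obtain ⟨v, hv, c, hc, rfl⟩ := exists_mul hL hx
    obtain ⟨w, hw, d, hd, rfl⟩ := exists_mul hL hy
    have hbL := hL.le hb
    have hbv : b * v ≠ v * b := fun h => hx' (by rw [← mul_assoc, h, mul_assoc, COneBlk.rl_comm hc hbL, mul_assoc])
    have hbw : b * w ≠ w * b := fun h => hy' (by rw [← mul_assoc, h, mul_assoc, COneBlk.rl_comm hd hbL, mul_assoc])
    have h3 := ht v (hvY hv) w (hvY hw) hbv hbw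
    have hcw : c * w = w * c := hL.zl_comm _ (COneBlk.rl_le_zl _ _ hc) _ (vl_le_zl _ _ hw)
    have e : v * c * (w * d) = v * w * (c * d) := by
      calc v * c * (w * d) = v * (c * w) * d := by group
        _ = v * w * (c * d) := by rw [hcw]; group
    change v * c * (w * d) ∈ centralizer ({b} : Set G)
    rw [mem_centralizer_singleton_iff, e]
    have h4 : b * (c * d) = c * d * b := by
      rw [← mul_assoc, COneBlk.rl_comm hc hbL, mul_assoc, COneBlk.rl_comm hd hbL, mul_assoc]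
    calc v * w * (c * d) * b = v * w * (c * d * b) := by group
      _ = v * w * b * (c * d) := by rw [← h4]; group
      _ = b * (v * w * (c * d)) := by rw [← h3]; group
  have h3 : (zc (bau T)).relIndex Z ≤ P.relIndex Z :=
    Nat.le_of_dvd (Nat.pos_of_ne_zero (Subgroup.index_ne_zero_of_finite (H := P.subgroupOf Z)))
      (Subgroup.relIndex_dvd_of_le_left Z h1)
  rw [hL.zl_index] at h3
  have := hL.four
  omega

/-- no `SL₂(q)`-block if `bau T` acts on `Y` as a group generated by transvections -/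
theorem nolin_of_transv (hY : YC X T Y) (hLX : L ≤ X) (hL : LBlk (bau T) L q)
    (hS : ∀ b ∈ bau T, ∃ c ∈ closure {c : G | c ∈ bau T ∧
      ∀ v ∈ Y, ∀ w ∈ Y, c * v ≠ v * c → c * w ≠ w * c → c * (v * w) = v * w * c},
      ∀ y ∈ Y, b * y * b⁻¹ = c * y * c⁻¹) : False := by
  have hvY : vl (bau T) L ≤ Y := hY.vl_le L hLX (Or.inr ⟨q, hL⟩)
  have h1 : closure {c : G | c ∈ bau T ∧
      ∀ v ∈ Y, ∀ w ∈ Y, c * v ≠ v * c → c * w ≠ w * c → c * (v * w) = v * w * c} ≤ o2 L := by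
    rw [closure_le]
    rintro c ⟨hc, hct⟩
    exact mem_o2_of_transv hY hLX hL hc hct
  have h2 : bau T ≤ o2 L := by
    intro b hb
    obtain ⟨c, hc, hbc⟩ := hS b hb
    refine mem_o2_of_vl hL hb fun v hv => ?_
    have h3 := h1 hc
    rw [← hL.cent_zl] at h3
    have h4 := mem_centralizer_iff.1 h3.2 v (vl_le_zl _ _ hv)
    have h5 := hbc v (hvY hv)
    rw [← h4, mul_inv_cancel_right] at h5
    exact mul_inv_eq_iff_eq_mul.1 h5
  have h3 := hL.o2_index
  rw [relIndex_eq_one.2 h2] at h3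
  have := hL.four
  omega

/-- some `A ∈ 𝒜(T)` is not contained in `O₂(L)` -/
theorem exists_A (hL : LBlk (bau T) L q) : ∃ A ∈ AA T, ¬ A ≤ o2 L := by
  by_contra hcon
  push Not at hcon
  have h1 : jj T ≤ o2 L := by
    rw [ChoiceBase.jj_eq]
    exact sSup_le hcon
  have h2 : zj (o2 L) = zj T := zj_eq_of_le h1 (hL.o2_le.trans (ZN.bau_le T))
  have h3 : L ≤ normalizer (zj T : Set G) := by
    rw [← h2]
    exact (ZN.le_normalizer_o2 L).trans (ZN.normalizer_le_of_equivariant zj (fun g B => zj_map _ (MulAut.conj g).injective B) _)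
  have h4 : zl (bau T) L ≤ zc (bau T) := by
    rw [zc_bau]
    refine iSup_le fun g => ?_
    rintro _ ⟨x, hx, rfl⟩
    rw [zc_bau] at hx
    exact Four.conj_mem (h3 g.2) hx
  have h5 := hL.zl_index
  rw [relIndex_eq_one.2 h4] at h5
  have := hL.four
  omega

/-- `q ≤ |A : A ∩ O₂(L)|` -/
theorem le_AA (hL : LBlk (bau T) L q) {A : Subgroup G} (hA : A ∈ AA T) (hAo : ¬ A ≤ o2 L) :
    q ≤ (A ⊓ o2 L).relIndex A := by
  obtain ⟨a, haA, hao⟩ := SetLike.not_le_iff_exists.1 hAo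
  have hA2 := isElementaryAbelian_iff.1 hA.1
  have hAB : A ≤ bau T := (ChoiceBase.le_jj hA).trans (ZN.jj_le_bau T)
  set D := A ⊓ o2 L with hD
  set Z := zl (bau T) L with hZ
  have hZo : Z ≤ o2 L := COnePair.zl_le_o2 hL
  have hDZ : ∀ d ∈ D, ∀ z ∈ Z, d * z = z * d := by
    intro d hd z hz
    have h1 := hd.2
    rw [← hL.cent_zl] at h1
    exact (mem_centralizer_iff.1 h1.2 z hz).symm
  have hZD : Z ≤ normalizer (D : Set G) := fun z hz =>
    centralizer_le_normalizer _ (mem_centralizer_iff.2 fun d hd => hDZ d hd z hz)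
  have hmul : ∀ x ∈ Z ⊔ D, ∃ z ∈ Z, ∃ d ∈ D, x = z * d := by
    intro x hx
    rw [← SetLike.mem_coe, coe_mul_of_left_le_normalizer_right _ _ hZD] at hx
    obtain ⟨z, hz, d, hd, rfl⟩ := Set.mem_mul.1 hx
    exact ⟨z, hz, d, hd, rfl⟩
  have hel : IsElementaryAbelian 2 (Z ⊔ D : Subgroup G) := by
    rw [isElementaryAbelian_iff]
    constructor
    · intro x hx y hy
      obtain ⟨w, hw, a, ha, rfl⟩ := hmul x hx
      obtain ⟨w', hw', a', ha', rfl⟩ := hmul y hy
      have e1 := hL.zl_comm w hw w' hw'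
      have e2 := hA2.1 a ha.1 a' ha'.1
      have e3 := hDZ a ha w' hw'
      have e4 := hDZ a' ha' w hw
      calc w * a * (w' * a') = w * (a * w') * a' := by group
        _ = (w * w') * (a * a') := by rw [e3]; group
        _ = w' * (w * a') * a := by rw [e1, e2]; group
        _ = w' * a' * (w * a) := by rw [← e4]; group
    · intro x hx
      obtain ⟨w, hw, a, ha, rfl⟩ := hmul x hx
      have e3 := hDZ a ha w hw
      have e5 := hA2.2 a ha.1
      rw [pow_two] at e5 ⊢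
      calc w * a * (w * a) = w * (a * w) * a := by group
        _ = (w * w) * (a * a) := by rw [e3]; group
        _ = 1 := by rw [hL.zl_sq w hw, e5, one_mul]
  have hle : Nat.card (Z ⊔ D : Subgroup G) ≤ Nat.card A :=
    hA.2.2 _ hel (sup_le (hZo.trans (hL.o2_le.trans (ZN.bau_le T))) (inf_le_left.trans hA.2.1))
  have h1 : Nat.card D * D.relIndex A = Nat.card A := FFRed.card_mul_relIndex (inf_le_left : D ≤ A)
  have h2 : Nat.card D * D.relIndex (Z ⊔ D) = Nat.card (Z ⊔ D : Subgroup G) :=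
    FFRed.card_mul_relIndex (le_sup_right : D ≤ Z ⊔ D)
  have h3 : q ≤ D.relIndex Z := by
    rw [← Subgroup.inf_relIndex_right]
    have h4 : D ⊓ Z ≤ zc (bau T) := by
      rintro x ⟨hxD, hxZ⟩
      exact hL.cent a (hAB haA) hao x hxZ (hA2.1 a haA x hxD.1)
    have h5 : (zc (bau T)).relIndex Z ≤ (D ⊓ Z).relIndex Z :=
      Nat.le_of_dvd (Nat.pos_of_ne_zero (Subgroup.index_ne_zero_of_finite (H := (D ⊓ Z).subgroupOf Z)))
        (Subgroup.relIndex_dvd_of_le_left Z h4)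
    rw [hL.zl_index] at h5
    exact h5
  have h5 : D.relIndex Z ≤ D.relIndex (Z ⊔ D) :=
    Subgroup.relIndex_le_of_le_right le_sup_left (Nat.pos_of_ne_zero
      (Subgroup.index_ne_zero_of_finite (H := D.subgroupOf (Z ⊔ D)))).ne'
  have h6 : 0 < Nat.card D := Nat.card_pos
  rw [← h1, ← h2] at hle
  exact (h3.trans h5).trans (Nat.le_of_mul_le_mul_left hle h6)

theorem simple_SL {F : Type} [Field F] [Fintype F] [CharP F 2] (h4 : 4 ≤ Fintype.card F) :
    IsSimpleGroup (Matrix.SpecialLinearGroup (Fin 2) F) := by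
  have hs : IsSimpleGroup (Matrix.ProjectiveSpecialLinearGroup (Fin 2) F) :=
    Cfsg.Agent.TwoFusion.SLTwoFacts.isSimpleGroup_psl (by omega)
  obtain ⟨g⟩ := Cfsg.Agent.WeakTI.PslTwo.nonempty_equiv (F := F)
  exact g.isSimpleGroup

variable {H V : Type u} [Group H] [CommGroup V] {r : X →* H} {ρ : H →* MulAut V} {ι : V →* G}

/-- no `SL₂(q)`-block if the members of `𝒜(T)` have images of order at most 4 in a normal subgroup of order
prime to 5 -/
theorem nolin_of_five [Finite H] (hY : YC X T Y) (hr : Rep X Y r ρ ι) {N : Subgroup H} (hN : N.Normal)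
    (h5 : ¬ 5 ∣ Nat.card N) (hA : ∀ B ∈ famOf X T r, B ≤ N ∧ Nat.card B ≤ 4)
    (hLX : L ≤ X) (hL : LBlk (bau T) L q) : False := by
  have hvY : vl (bau T) L ≤ Y := hY.vl_le L hLX (Or.inr ⟨q, hL⟩)
  obtain ⟨A, hAA, hAo⟩ := exists_A hL
  have hAX : A ≤ X := hAA.2.1.trans hY.toLoc.TX
  have h1 := le_AA hL hAA hAo
  obtain ⟨hAN, hA4⟩ := hA _ ⟨A, hAA, rfl⟩
  -- elements of `L` centralising `Y` centralise `zl`
  have hAB : A ≤ bau T := (ChoiceBase.le_jj hAA).trans (ZN.jj_le_bau T)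
  -- `q = 4`
  have hq : q ≤ 4 := by
    refine h1.trans (le_trans ?_ hA4)
    have h2 : (r.ker.map X.subtype) ⊓ A ≤ A ⊓ o2 L := by
      rintro a ⟨⟨x, hx, rfl⟩, haA⟩
      refine ⟨haA, mem_o2_of_vl hL (hAB haA) fun v hv => ?_⟩
      exact hr.r_eq_one.1 (MonoidHom.mem_ker.1 hx) v (hvY hv)
    have h3 : (A ⊓ o2 L).relIndex A ≤ ((r.ker.map X.subtype) ⊓ A).relIndex A :=
      Nat.le_of_dvd (Nat.pos_of_ne_zero (Subgroup.index_ne_zero_of_finite
        (H := ((r.ker.map X.subtype) ⊓ A).subgroupOf A))) (Subgroup.relIndex_dvd_of_le_left A h2)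
    refine h3.trans (le_of_eq ?_)
    rw [inf_relIndex_right]
    have h4 : (r.ker.map X.subtype).relIndex A = r.ker.relIndex (A.subgroupOf X) := by
      conv_lhs => rw [← Subgroup.map_subgroupOf_eq_of_le hAX]
      exact Subgroup.relIndex_map_map_of_injective _ _ X.subtype_injective
    rw [h4, Subgroup.relIndex_ker]
  obtain ⟨F, _, _, _, φ, hφ, hφk, hφc⟩ := hL.iso
  have hq4 : Fintype.card F = 4 := by rw [hφc]; exact le_antisymm hq hL.four
  have hs := simple_SL (F := F) hq4.ge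
  -- the preimage of `N` in `L`
  let f : L →* H := r.comp (Subgroup.inclusion hLX)
  set N' : Subgroup L := N.comap f with hN'
  have hn : N'.Normal := hN.comap f
  have hn2 : (N'.map φ).Normal := hn.map φ hφ
  have htop : N'.map φ = ⊤ := by
    rcases hs.eq_bot_or_eq_top_of_normal _ hn2 with h2 | h2
    · exfalso
      apply hAo
      intro a ha
      have haL : a ∈ L := hL.le (hAB ha)
      have h3 : (⟨a, haL⟩ : L) ∈ N' := by
        rw [hN', mem_comap]
        exact hAN ⟨⟨a, hAX ha⟩, mem_subgroupOf.2 ha, rfl⟩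
      have h4 : φ ⟨a, haL⟩ ∈ N'.map φ := ⟨_, h3, rfl⟩
      rw [h2, mem_bot, ← MonoidHom.mem_ker, hφk] at h4
      exact mem_subgroupOf.1 h4
    · exact h2
  have h5N : 5 ∣ Nat.card N' := by
    have h2 : Nat.card (N'.map φ) ∣ Nat.card N' := card_dvd_of_surjective (φ.subgroupMap N') (φ.subgroupMap_surjective N')
    rw [htop, card_top, ClassicalGeometry.PSL2Basic.card_SL2, hq4] at h2
    exact Dvd.dvd.trans (by norm_num) h2
  have hf : Fact (Nat.Prime 5) := ⟨Nat.prime_five⟩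
  obtain ⟨⟨x, hxN⟩, hx⟩ := exists_prime_orderOf_dvd_card' (G := N') 5 h5N
  rw [Subgroup.orderOf_mk] at hx
  have h6 : f x = 1 := by
    have h7 : f x ^ 5 = 1 := by rw [← map_pow, ← hx, pow_orderOf_eq_one, map_one]
    have h8 : orderOf (⟨f x, hxN⟩ : N) ∣ 5 := by
      rw [orderOf_dvd_iff_pow_eq_one]
      exact Subtype.ext h7
    rcases (Nat.dvd_prime Nat.prime_five).1 h8 with h9 | h9
    · rw [orderOf_eq_one_iff] at h9
      exact congrArg Subtype.val h9
    · exact absurd (h9 ▸ orderOf_dvd_natCard _) h5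
  have h7 : ∀ v ∈ vl (bau T) L, (x : G) * v = v * x := fun v hv => hr.r_eq_one.1 h6 v (hvY hv)
  have h8 := cent_of_vl hL x.2 h7
  have hxo : orderOf (x : G) = 5 := by rw [Subgroup.orderOf_coe, hx]
  have hx1 : (x : G) ≠ 1 := by
    intro h9
    rw [h9, orderOf_one] at hxo
    norm_num at hxo
  refine not_zl_le_rl hL fun z hz => ?_
  refine fpf_odd hL x.2 (by rw [hxo]; decide) hx1 hz ?_
  rw [h8 z hz]
  simp

end Cfsg.Agent.OddCyclic.RedNoLin
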