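import Cfsg.Agent.OddCyclic.RedDefs
import Cfsg.Agent.MinSimple.PushEnd

/-!
# S0342, (C2), 3.1: the end of the case of two noncommuting blocks, without solvability

The port of `MinSimple.PushEnd` (`ap`, `fixed_rl`, `index_two`).
-/

set_option autoImplicit false
set_option linter.unusedSectionVars false

namespace Cfsg.Agent.MinSimple.PushEnd.NS

open Subgroup Cfsg
open Cfsg.Agent.ZN Cfsg.Agent.ZN.Block
open Cfsg.Agent.OddCyclic.Red

universe u

variable {G : Type u} [Group G]

/-- Blocks over `B` with noncommuting planes are nonlocal. -/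
def NL (B : Subgroup G) : Prop :=
  ∀ (L L' : Subgroup G) (k k' : ℕ), IsDBlk B L k → IsDBlk B L' k' →
    (∃ v ∈ vl B L, ∃ w ∈ vl B L', v * w ≠ w * v) → ∀ R : Subgroup G, IsPGroup 2 R →
      L ≤ normalizer (R : Set G) → L' ≤ normalizer (R : Set G) → R = ⊥

theorem toNL {S : Subgroup G} (hX : LX S) : NL (bau S) :=
  fun _ _ _ _ h h' hn _ hR h1 h2 => hX.nl h h' hn hR h1 h2

section push

variable [Finite G] {B L : Subgroup G} {k : ℕ} {t : G}

/-- **(AP)** -/
theorem ap (hN : NL B)
    (h : IsDBlk B L k) (ht : t ∈ normalizer (B : Set G))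
    (hne : ∃ v ∈ zl B L, ∃ u ∈ zl B L, v * (t * u * t⁻¹) ≠ (t * u * t⁻¹) * v)
    {R : Subgroup G} (hR : IsPGroup 2 R) (h1 : L ≤ normalizer (R : Set G))
    (h2 : L.map (MulAut.conj t).toMonoidHom ≤ normalizer (R : Set G)) : R = ⊥ := by
  refine hN L _ k k h (blk_conj h ht) ?_ R hR h1 h2
  obtain ⟨v, hv, u, hu, hvu⟩ := noncomm_vl h ht hne
  refine ⟨v, hv, t * u * t⁻¹, ?_, hvu⟩
  rw [vl_conj' L ht]
  exact mem_map_conj hu

/-- `t` fixes no nontrivial element of `rl` -/
theorem fixed_rl (hN : NL B)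
    (h : IsDBlk B L k) (ht : t ∈ normalizer (B : Set G))
    (hne : ∃ v ∈ zl B L, ∃ u ∈ zl B L, v * (t * u * t⁻¹) ≠ (t * u * t⁻¹) * v)
    {c : G} (hc : c ∈ rl B L) (h8 : t * c * t⁻¹ = c) : c = 1 := by
  have hcZ : c ∈ zc B := rl_le B L hc
  have h9 : (zpowers c : Subgroup G) = ⊥ := by
    refine ap hN h ht hne (R := zpowers c) (h.two.to_le ?_) ?_ ?_
    · rw [zpowers_le]; exact ZN.zc_le B hcZ
    · refine le_trans ?_ (centralizer_le_normalizer _)
      intro l hl
      rw [mem_centralizer_iff]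
      rintro _ ⟨n, rfl⟩
      exact ((show Commute l c from rl_comm hl hc).zpow_right n).eq.symm
    · refine le_trans ?_ (centralizer_le_normalizer _)
      rintro _ ⟨l, hl, rfl⟩
      rw [mem_centralizer_iff]
      rintro _ ⟨n, rfl⟩
      have h10 : Commute ((MulAut.conj t).toMonoidHom l) c := by
        have h11 : (MulAut.conj t).toMonoidHom l = t * l * t⁻¹ := by simp
        rw [h11]
        have h12 : t⁻¹ * c * t = c := by
          calc t⁻¹ * c * t = t⁻¹ * (t * c * t⁻¹) * t := by rw [h8]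
            _ = c := by group
        calc t * l * t⁻¹ * c = t * (l * (t⁻¹ * c * t)) * t⁻¹ := by group
          _ = t * (c * l) * t⁻¹ := by rw [h12, rl_comm hl hc]
          _ = (t * c * t⁻¹) * (t * l * t⁻¹) := by group
          _ = c * (t * l * t⁻¹) := by rw [h8]
      exact (h10.zpow_right n).eq.symm
  exact zpowers_eq_bot.1 h9

/-- the case `|Ω₁(Z(B))| = 4` -/
theorem index_two (hN : NL B)
    (h : IsDBlk B L k) (ht : t ∈ normalizer (B : Set G)) (ht2 : t * t ∈ B) (S : Sylow 2 G)
    (hBS : B ≤ S) (htS : t ∈ S)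
    (hne : ∃ v ∈ zl B L, ∃ u ∈ zl B L, v * (t * u * t⁻¹) ≠ (t * u * t⁻¹) * v)
    (h1 : o2 L = zl B L) (hinf : o2 L ⊓ o2 (L.map (MulAut.conj t).toMonoidHom) = zc B)
    (h4 : Nat.card (zc B) = 4)
    (hR : ∀ P : Subgroup G, IsPGroup 2 P → B ≤ P → P ≤ centralizer (rl B L : Set G) → P = B) :
    ∃ N : Subgroup G, N.Normal ∧ N.index = 2 := by
  have hp : Fact (Nat.Prime 2) := ⟨Nat.prime_two⟩
  obtain ⟨z, hzZ, hzv, hz1, hzr, huniq, hcomm, y, hy, hyv, hyZ⟩ := exists_z h
  have hzz : z * z = 1 := zl_mul_self h (zc_le_zl B L hzZ)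
  have htz := conj_z h ht hcomm hzz hne
  have h' := blk_conj h ht
  have hcr : Nat.card (rl B L) = 2 := by have := card_zc h; omega
  -- the generator of `rl`
  obtain ⟨c, hc, hc1, hcu⟩ : ∃ c ∈ rl B L, c ≠ 1 ∧ ∀ x ∈ rl B L, x = 1 ∨ x = c := by
    obtain ⟨a, b, hab, hu⟩ := Nat.card_eq_two_iff.1 hcr
    have hmem : ∀ x : rl B L, x = a ∨ x = b := fun x => by
      have : x ∈ ({a, b} : Set (rl B L)) := by rw [hu]; trivial
      simpa using this
    rcases hmem 1 with h5 | h5
    · refine ⟨b, b.2, fun h6 => hab ?_, fun x hx => ?_⟩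
      · rw [← h5]; exact Subtype.ext h6.symm
      · rcases hmem ⟨x, hx⟩ with h6 | h6
        · left; have := congrArg Subtype.val (h6.trans h5.symm); exact this
        · right; exact congrArg Subtype.val h6
    · refine ⟨a, a.2, fun h6 => hab ?_, fun x hx => ?_⟩
      · rw [← h5]; exact Subtype.ext h6
      · rcases hmem ⟨x, hx⟩ with h6 | h6
        · right; exact congrArg Subtype.val h6
        · left; have := congrArg Subtype.val (h6.trans h5.symm); exact this
  have hcZ : c ∈ zc B := rl_le B L hc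
  have hcc : c * c = 1 := zl_mul_self h (zc_le_zl B L hcZ)
  set a := y * z * y⁻¹ with ha
  set b := t * a * t⁻¹ with hb
  have hazl : a ∈ zl B L := vl_le_zl B L hyv
  have haB : a ∈ B := zl_le_B h hazl
  have haa : a * a = 1 := zl_mul_self h hazl
  have hbzl : b ∈ zl B (L.map (MulAut.conj t).toMonoidHom) := by
    rw [zl_conj' L ht]; exact mem_map_conj hazl
  have hbB : b ∈ B := zl_le_B h' hbzl
  have hbb : b * b = 1 := zl_mul_self h' hbzl
  -- `b` is not in `O₂(L)`
  have hbQ : b ∉ o2 L := by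
    intro h5
    have h6 : b ∈ zc B := by
      rw [← hinf]; exact ⟨h5, zl_le_o2 h' hbzl⟩
    apply hyZ
    have h7 := zc_conj' (inv_mem ht) h6
    rw [hb] at h7
    have h8 : t⁻¹ * (t * a * t⁻¹) * t⁻¹⁻¹ = a := by group
    rwa [h8] at h7
  have hab : a * b ≠ b * a := by
    intro h5
    apply hbQ
    refine mem_o2 h hbB (fun w hw => ?_)
    by_cases hwZ : w ∈ zc B
    · exact zc_comm hbB hwZ
    · have h6 := zl_two h hw hazl hwZ hyZ
      have h7 := zc_comm hbB h6
      have h8 : w = (w * a) * a := by rw [mul_assoc, haa, mul_one]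
      rw [h8, ← mul_assoc, h7, mul_assoc (w * a) b a, ← h5, ← mul_assoc]
  have hab' : a * b = b * a * z := by
    rcases hcomm a hazl b hbB with h5 | h5
    · exact absurd h5 hab
    · exact h5
  have hcb : ∀ x ∈ B, x * c = c * x := fun x hx => zc_comm hx hcZ
  have hzb : ∀ x ∈ B, x * z = z * x := fun x hx => zc_comm hx hzZ
  have hv : z = (a * b) * (a * b) := by
    calc z = (b * b) * z := by rw [hbb, one_mul]
      _ = b * (b * z) := by group
      _ = b * (z * b) := by rw [hzb b hbB]
      _ = b * (a * a) * z * b := by rw [haa]; group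
      _ = b * a * (a * z) * b := by group
      _ = b * a * (z * a) * b := by rw [hzb a haB]
      _ = (b * a * z) * (a * b) := by group
      _ = (a * b) * (a * b) := by rw [← hab']
  -- `t c t⁻¹ = c z`
  have htc : t * c * t⁻¹ = c * z := by
    have h5 : t * c * t⁻¹ ∈ zc B := zc_conj' ht hcZ
    have h6 : t * c * t⁻¹ ∉ rl B L := by
      intro h7
      rcases hcu _ h7 with h8 | h8
      · apply hc1
        have : c = t⁻¹ * (t * c * t⁻¹) * t := by group
        rw [this, h8]; group
      · exact hc1 (fixed_rl hN h ht hne hc h8)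
    have h7 := rl_two h h5 hzZ h6 hzr
    rcases hcu _ h7 with h8 | h8
    · exfalso
      have h9 : t * c * t⁻¹ = t * z * t⁻¹ := by
        rw [htz, eq_inv_of_mul_eq_one_left h8, inv_eq_of_mul_eq_one_left hzz]
      have h10 : c = z := by
        have := mul_right_cancel h9
        exact mul_left_cancel this
      exact hzr (h10 ▸ hc)
    · calc t * c * t⁻¹ = (t * c * t⁻¹ * z) * z := by rw [mul_assoc (t * c * t⁻¹) z z, hzz, mul_one]
        _ = c * z := by rw [h8]
  -- everything is generated by `a, b, c`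
  have hsti : t⁻¹⁻¹ * a * t⁻¹ = b := by rw [hb, inv_inv]
  have hK : B ≤ closure {a, t⁻¹⁻¹ * a * t⁻¹, c} := by
    rw [hsti]
    have ka : a ∈ closure ({a, b, c} : Set G) := subset_closure (by simp)
    have kb : b ∈ closure ({a, b, c} : Set G) := subset_closure (by simp)
    have kc : c ∈ closure ({a, b, c} : Set G) := subset_closure (by simp)
    have kz : z ∈ closure ({a, b, c} : Set G) := by rw [hv]; exact mul_mem (mul_mem ka kb) (mul_mem ka kb)
    have kr : rl B L ≤ closure ({a, b, c} : Set G) := by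
      intro x hx
      rcases hcu x hx with rfl | rfl
      · exact one_mem _
      · exact kc
    have kZ : zc B ≤ closure ({a, b, c} : Set G) := by
      intro x hx
      by_cases hxr : x ∈ rl B L
      · exact kr hxr
      · have h5 := kr (rl_two h hx hzZ hxr hzr)
        have h6 : x = (x * z) * z⁻¹ := by group
        rw [h6]; exact mul_mem h5 (inv_mem kz)
    have kV : zl B L ≤ closure ({a, b, c} : Set G) := by
      intro x hx
      by_cases hxr : x ∈ zc B
      · exact kZ hxr
      · have h5 := kZ (zl_two h hx hazl hxr hyZ)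
        have h6 : x = (x * a) * a⁻¹ := by group
        rw [h6]; exact mul_mem h5 (inv_mem ka)
    intro x hx
    by_cases hxr : x ∈ o2 L
    · rw [h1] at hxr; exact kV hxr
    · have h5 := o2_two h hx hbB hxr hbQ
      rw [h1] at h5
      have h6 : x = (x * b) * b⁻¹ := by group
      rw [h6]; exact mul_mem (kV h5) (inv_mem kb)
  have hcardB : Nat.card B = 16 := by
    have h5 := card_mul_relIndex' h.o2_le
    rw [h.o2_index, h1, card_zl h, hcr] at h5
    omega
  refine PushOne.exists_index_two S (a := a) (c := c) (s := t⁻¹) (v := z) (hBS haB) (hBS (ZN.zc_le B hcZ))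
    (inv_mem htS) haa hcc (hcb a haB) ?_ ?_ (hzb a haB).symm hz1 ?_ ?_ ⟨y⁻¹, ?_⟩ ?_
  · rw [hsti]; exact hcb b hbB
  · rw [hsti]; exact hv
  · rw [inv_inv]; exact htc
  · apply hK
    have : t⁻¹ * t⁻¹ = (t * t)⁻¹ := by group
    rw [this]; exact inv_mem ht2
  · rw [ha]; group
  · intro P hP hPc
    have hBC : B ≤ centralizer (rl B L : Set G) := by
      intro x hx
      rw [mem_centralizer_iff]
      exact fun r hr => (zc_comm hx (rl_le B L hr)).symm
    have hsyl : ChoiceSit.Syl B (centralizer (rl B L : Set G)) :=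
      ⟨hBC, h.two, fun Q hQ hQ2 hBQ => hR Q hQ2 hBQ hQ⟩
    have hPC : P ≤ centralizer (rl B L : Set G) := by
      intro x hx
      rw [mem_centralizer_iff]
      intro r hr
      rcases hcu r hr with rfl | rfl
      · simp
      · exact (hPc x hx).symm
    obtain ⟨P', hP', hPP'⟩ := ChoiceSit.exists_syl hP hPC
    obtain ⟨x, hx, hxP⟩ := ChoiceSit.syl_conj hsyl hP'
    calc Nat.card P ≤ Nat.card P' := card_le_of_le hPP'
      _ = Nat.card B := by rw [← hxP, ChoiceBase.card_cj]
      _ = 16 := hcardB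

end push

end Cfsg.Agent.MinSimple.PushEnd.NS
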