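import Cfsg.Agent.OddCyclic.RedSevenB
import Cfsg.Agent.OddCyclic.COneXL
import Cfsg.Agent.SmallSimple.Simple168Classes

/-!
# S0342, (C2), 2.2: offenders in a normal simple subgroup of order 168

`main`: let `Fam ρ T 𝒜` and let some `A ∈ 𝒜`, `A ≠ 1`, lie in a normal simple subgroup of order 168. Then
`Lv ρ T 𝒜 L`, and one of
* `Flag ρ T 𝒜 L N P z` (L3a): `V = N × C_V(L)`, `|N| = 8`, `⟨𝒜⟩ = T ∩ L` of order 8, exactly one plane `P`, of point `z`;
* `One ρ T 𝒜 L F` (L3b), (L3c): `𝒜 ⊆ {1, F}`, `F` a four-group with `C_V(a) = C_V(F)` for all `a ∈ F#`, no plane.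
-/

set_option autoImplicit false
set_option linter.unusedSectionVars false

namespace Cfsg.Agent.OddCyclic.RedSeven

open Subgroup
open Cfsg.Agent.GH.L2Aut Cfsg.Agent.OddCyclic.T1Module Cfsg.Agent.OddCyclic.FFBasic
  Cfsg.Agent.OddCyclic.FFRed Cfsg.Agent.OddCyclic.FFSl2 Cfsg.Agent.OddCyclic.FFThree
  Cfsg.Agent.OddCyclic.COneSeven Cfsg.Agent.OddCyclic.RedSevenA Cfsg.Agent.OddCyclic.RedSevenB
  Cfsg.Agent.OddCyclic.RedFam Cfsg.Agent.OddCyclic.RedFFDefs
open Cfsg.Agent.OddCyclic.T1Defs (OddCyc)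

universe u

variable {H : Type u} [Group H] {V : Type u} [CommGroup V]

/-- `L` normal simple of order 168 containing the members of `𝒜` and the 3-elements -/
structure Lv (T : Subgroup H) (𝒜 : Set (Subgroup H)) (L : Subgroup H) : Prop where
  norm : L.Normal
  simple : IsSimpleGroup L
  card : Nat.card L = 168
  le : ∀ A ∈ 𝒜, A ≤ L
  three : ∀ x : H, (∃ k : ℕ, x ^ 3 ^ k = 1) → x ∈ L ∧ x ^ 3 = 1
  cardT : Nat.card (T ⊓ L : Subgroup H) = 8

/-- type (L3a) -/
structure Flag (ρ : H →* MulAut V) (T : Subgroup H) (𝒜 : Set (Subgroup H)) (L : Subgroup H) (N P : Subgroup V)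
    (z : V) : Prop where
  cardN : Nat.card N = 8
  inv : ∀ h : H, ∀ n ∈ N, ρ h n ∈ N
  comm : ∀ x ∈ L, ∀ v, ρ x v * v⁻¹ ∈ N
  disj : N ⊓ CS ρ L = ⊥
  sup : N ⊔ CS ρ L = ⊤
  full : ∀ φ : MulAut N, ∃ x ∈ L, ∀ n : N, ((φ n : N) : V) = ρ x n
  sSup_eq : sSup 𝒜 = T ⊓ L
  cent : ∀ h : H, (∀ v ∈ CS ρ L, ρ h v = v) → h ∈ L
  cent' : ∀ h : H, (∀ v ∈ CS ρ (T ⊓ L), ρ h v = v) → h ∈ L
  le : P ≤ N
  cardP : Nat.card P = 4
  mem : z ∈ P
  ne : z ≠ 1
  pt : ∀ v ∈ N, (∀ t ∈ T ⊓ L, ρ t v = v) → v = 1 ∨ v = z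
  T_P : ∀ t ∈ T, ∀ p ∈ P, ρ t p ∈ P
  T_z : ∀ t ∈ T, ρ t z = z
  plane : ∃ h ∈ L, Pl ρ 𝒜 P h
  only : ∀ (P' : Subgroup V) (h : H), Pl ρ 𝒜 P' h → P' = P
  gen : ∀ K : Subgroup H, (∀ h ∈ L, (∀ p ∈ P, ρ h p ∈ P) → h ∈ K) → (∀ h ∈ L, ρ h z = z → h ∈ K) → L ≤ K
  ncl : ∀ W : Subgroup V, P ≤ W → (∀ x ∈ L, (∀ v ∈ CS ρ T, ρ x v = v) → ∀ w ∈ W, ρ x w ∈ W) → N ≤ W

/-- types (L3b), (L3c) -/
structure One (ρ : H →* MulAut V) (T : Subgroup H) (𝒜 : Set (Subgroup H)) (L F : Subgroup H) : Prop where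
  mem : F ∈ 𝒜
  le : F ≤ T ⊓ L
  card : Nat.card F = 4
  only : ∀ A ∈ 𝒜, A = ⊥ ∨ A = F
  fix : ∀ a ∈ F, a ≠ 1 → fx ρ a = CS ρ F
  index : (CS ρ F).index = 2 ∨ (CS ρ F).index = 4
  norm : T ≤ normalizer (F : Set H)
  norm' : normalizer ((T ⊓ L : Subgroup H) : Set H) ≤ normalizer (F : Set H)
  gen : ∀ K : Subgroup H, (∀ h ∈ L, h ∈ normalizer (F : Set H) → h ∈ K) →
    (∀ h ∈ L, (∀ v ∈ CS ρ (T ⊓ L), ρ h v = v) → h ∈ K) → L ≤ K
  alt : Nat.card (CS ρ F) ≤ 2 * Nat.card (CS ρ L) ∨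
    ∃ x ∈ L, x ^ 3 = 1 ∧ x ∈ normalizer (F : Set H) ∧ ∃ v ∈ CS ρ F, ρ x v ≠ v
  moved : ∃ t ∈ T ⊓ L, ∃ v ∈ CS ρ F, ρ t v ≠ v
  noplane : ∀ (P : Subgroup V) (h : H), ¬ Pl ρ 𝒜 P h

variable [Finite H] [Finite V] {ρ : H →* MulAut V} {T : Subgroup H} {𝒜 : Set (Subgroup H)}

theorem three_dvd (F : Type) [Field F] [Fintype F] [CharP F 2] :
    3 ∣ Nat.card (Matrix.SpecialLinearGroup (Fin 2) F) := by
  rw [T1Sl2.card_sl2]
  have h1 : 0 < Fintype.card F := Fintype.card_pos
  obtain ⟨q, hq⟩ : ∃ q, Fintype.card F = q + 1 := ⟨Fintype.card F - 1, by omega⟩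
  rw [hq, Nat.add_sub_cancel]
  have h2 : q % 3 = 0 ∨ q % 3 = 1 ∨ q % 3 = 2 := by omega
  rcases h2 with h2 | h2 | h2
  · exact (Nat.dvd_of_mod_eq_zero h2).mul_left _
  · have : 3 ∣ q + 1 + 1 := by omega
    exact (this.mul_right _).mul_right _
  · have : 3 ∣ q + 1 := by omega
    exact (this.mul_left _).mul_right _

theorem le_of_three (hc : OddCyc H) {L L' : Subgroup H} (hL' : L'.Normal) (hs : IsSimpleGroup L)
    (h3 : 3 ∣ Nat.card L) (h3' : 3 ∣ Nat.card L') : L ≤ L' := by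
  have hf : Fact (Nat.Prime 3) := ⟨Nat.prime_three⟩
  obtain ⟨⟨x, hxL⟩, hx⟩ := exists_prime_orderOf_dvd_card' (G := L) 3 h3
  rw [Subgroup.orderOf_mk] at hx
  have hxL' : x ∈ L' := CompBasic.mem_of_orderOf hc Nat.prime_three (by norm_num) hL' h3' hx
  have hx1 : x ≠ 1 := by
    rintro rfl
    rw [orderOf_one] at hx
    norm_num at hx
  have h3 : (L'.subgroupOf L).Normal := hL'.subgroupOf L
  rcases hs.eq_bot_or_eq_top_of_normal _ h3 with h4 | h4
  · exfalso
    have h5 : (⟨x, hxL⟩ : L) ∈ L'.subgroupOf L := mem_subgroupOf.2 hxL'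
    rw [h4, mem_bot] at h5
    exact hx1 (congrArg Subtype.val h5)
  · rwa [subgroupOf_eq_top] at h4

theorem all_le (hF : Fam ρ T 𝒜) {L : Subgroup H} (hL : L.Normal) (hs : IsSimpleGroup L) (hcard : Nat.card L = 168)
    {A : Subgroup H} (hA : A ∈ 𝒜) : A ≤ L := by
  by_cases hA1 : A = ⊥
  · rw [hA1]; exact bot_le
  have h3L : 3 ∣ Nat.card L := by rw [hcard]; norm_num
  rcases hF.out A hA hA1 with h | h | h | h
  · exfalso
    obtain ⟨y, hy, hyn, -⟩ := h
    have h1 := card_eq_three_of hF.cyc hL hs h3L hy hyn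
    omega
  · exfalso
    obtain ⟨L', hL', -, F, _, _, hchar, h4, ⟨e⟩, -⟩ := h
    have hs' : IsSimpleGroup L' := by
      have := isSimpleGroup_sl2 (F := F) h4
      exact e.isSimpleGroup
    have hc' : Nat.card L' = Nat.card (Matrix.SpecialLinearGroup (Fin 2) F) := Nat.card_congr e.toEquiv
    have h3 : 3 ∣ Nat.card L' := by
      rw [hc']
      exact three_dvd F
    have h1 := simple_unique hF.cyc hL hL' hs hs' h3L h3
    apply COneXL.card_ne F h4
    rw [← hc', ← h1, hcard]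
  · exfalso
    obtain ⟨K, -, e, hn, -⟩ := h
    have h1 : (COneXL.alt K e).Normal := hn
    have h2 := COneXL.simple_alt (e := e)
    have h3 := COneXL.card_alt (e := e)
    have h4 := simple_unique hF.cyc hL h1 hs h2 h3L (by rw [h3]; norm_num)
    rw [h4, h3] at hcard
    norm_num at hcard
  · obtain ⟨L', hL', hAL, hs', hcard'⟩ := h
    rw [simple_unique hF.cyc hL hL' hs hs' h3L (by rw [hcard']; norm_num)]
    exact hAL

theorem three_mem (hc : OddCyc H) {L : Subgroup H} (hL : L.Normal) (hs : IsSimpleGroup L) (hcard : Nat.card L = 168)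
    {x : H} (hx : ∃ k : ℕ, x ^ 3 ^ k = 1) : x ∈ L ∧ x ^ 3 = 1 := by
  have hf : Fact (Nat.Prime 3) := ⟨Nat.prime_three⟩
  obtain ⟨y, hy⟩ := exists_prime_orderOf_dvd_card' (G := L) 3 (by rw [hcard]; norm_num)
  obtain ⟨w, hw⟩ := isConj_iff.1 (Cfsg.Agent.SmallSimple.Simple168Classes.isConj_of_orderOf_three hcard y y⁻¹ hy
    (by rw [orderOf_inv]; exact hy))
  have hxL : x ∈ L := by
    refine CaseAAlpha.mem_of_inverted hc Nat.prime_three (by norm_num) (L := L) (y := y) (w := w) y.2 w.2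
      (by rw [Subgroup.orderOf_coe]; exact hy) ?_ ?_ hx
    · have := congrArg Subtype.val hw
      simpa using this
    · rw [normalizer_eq_top_iff.2 hL]; trivial
  refine ⟨hxL, ?_⟩
  obtain ⟨k, hk⟩ := hx
  have h1 := Cfsg.Agent.SmallSimple.Simple168Classes.orderOf_cases hcard ⟨x, hxL⟩
  rw [Subgroup.orderOf_mk] at h1
  have h2 := orderOf_dvd_of_pow_eq_one hk
  obtain ⟨m, -, hm⟩ := (Nat.dvd_prime_pow Nat.prime_three).1 h2
  rw [hm] at h1
  have h3 : m = 0 ∨ m = 1 := by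
    rcases h1 with h1 | h1 | h1 | h1 | h1
    · left
      by_contra hc
      have : 3 ∣ 3 ^ m := dvd_pow_self 3 hc
      omega
    all_goals
      first
        | (exfalso
           rcases Nat.eq_zero_or_pos m with h5 | h5
           · rw [h5] at h1; norm_num at h1
           · have : 3 ∣ 3 ^ m := dvd_pow_self 3 h5.ne'
             omega)
        | (right
           by_contra hc
           rcases Nat.lt_or_ge m 1 with h5 | h5
           · have : m = 0 := by omega
             rw [this] at h1; norm_num at h1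
           · have : 2 ≤ m := by omega
             have h6 : 3 ^ 2 ≤ 3 ^ m := Nat.pow_le_pow_right (by norm_num) this
             omega)
  rcases h3 with h3 | h3
  · rw [h3, pow_zero, orderOf_eq_one_iff] at hm
    rw [hm, one_pow]
  · rw [h3, pow_one] at hm
    rw [← hm, pow_orderOf_eq_one]

/-! ### transfer to `L` -/

theorem ax_conj {L : Subgroup H} [L.Normal] {C : Subgroup L} (hC : Ax (ρ.comp L.subtype) C) (t : H) :
    Ax (ρ.comp L.subtype) (C.map (MulAut.conjNormal t).toMonoidHom) := by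
  refine ⟨isFour_map hC.four _ (MulAut.conjNormal t).injective, ?_⟩
  rintro _ ⟨a, ha, rfl⟩ ha1
  have ha1' : a ≠ 1 := by
    rintro rfl
    exact ha1 (map_one _)
  refine le_antisymm ?_ (CS_le_fx (Subgroup.mem_map_of_mem _ ha))
  intro v hv
  have e1 : ∀ x : L, (ρ.comp L.subtype) ((MulAut.conjNormal t).toMonoidHom x) =
      ρ t * (ρ.comp L.subtype) x * ρ t⁻¹ := by
    intro x
    change ρ ((MulAut.conjNormal t x : L) : H) = _
    rw [MulAut.conjNormal_apply, map_mul, map_mul]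
    rfl
  have h1 : ρ t⁻¹ v ∈ fx (ρ.comp L.subtype) a := by
    have h2 : (ρ t * (ρ.comp L.subtype) a * ρ t⁻¹) v = v := by rw [← e1]; exact hv
    change (ρ.comp L.subtype) a (ρ t⁻¹ v) = ρ t⁻¹ v
    have h3 : ρ t⁻¹ ((ρ t * (ρ.comp L.subtype) a * ρ t⁻¹) v) = ρ t⁻¹ v := congrArg (ρ t⁻¹) h2
    have h4 : ρ t⁻¹ ((ρ t * (ρ.comp L.subtype) a * ρ t⁻¹) v) = (ρ.comp L.subtype) a (ρ t⁻¹ v) := by
      change (ρ t⁻¹ * (ρ t * (ρ.comp L.subtype) a * ρ t⁻¹)) v = _
      rw [← mul_assoc, ← mul_assoc, ← map_mul, inv_mul_cancel, map_one, one_mul]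
      rfl
    rw [← h4, h3]
  rw [hC.fix a ha ha1'] at h1
  rintro _ ⟨c, hc, rfl⟩
  rw [SetLike.mem_coe] at hc
  have h3 : (ρ.comp L.subtype) ((MulAut.conjNormal t).toMonoidHom c) v = v := by
    rw [e1, MulAut.mul_apply, MulAut.mul_apply, h1 c hc, ← MulAut.mul_apply, ← map_mul, mul_inv_cancel, map_one,
      MulAut.one_apply]
  exact h3

/-- the situation inside `L` -/
structure In (ρ : H →* MulAut V) (T : Subgroup H) (𝒜 : Set (Subgroup H)) (L : Subgroup H) (S : Sylow 2 L)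
    (C B : Subgroup L) : Prop extends Lv T 𝒜 L where
  fam : Fam ρ T 𝒜
  mod : Mod (ρ.comp L.subtype)
  sub : (S : Subgroup L) = T.subgroupOf L
  idx : ∀ a : L, a ≠ 1 → a * a = 1 → (fx (ρ.comp L.subtype) a).index ≤ 4
  pr : Pr (ρ.comp L.subtype) S C B

theorem exists_in (hF : Fam ρ T 𝒜) {A : Subgroup H} (hA : A ∈ 𝒜) (hA1 : A ≠ ⊥) (h7 : OutSeven A) :
    ∃ (L : Subgroup H) (S : Sylow 2 L) (C B : Subgroup L), In ρ T 𝒜 L S C B := by
  have : Fact (Nat.Prime 2) := ⟨Nat.prime_two⟩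
  obtain ⟨L, hL, hAL, hs, hcard⟩ := h7
  have hle : ∀ A ∈ 𝒜, A ≤ L := fun A hA => all_le hF hL hs hcard hA
  have hinj : Function.Injective L.subtype := L.subtype_injective
  have hr : A ≤ L.subtype.range := by rw [Subgroup.range_subtype]; exact hAL
  have hmod : Mod (ρ.comp L.subtype) := by
    refine ⟨l32 hs hcard, hF.sq, fun y hy => ?_⟩
    by_contra hcon
    push Not at hcon
    apply hy
    apply hinj
    apply hF.inj
    rw [map_one, map_one]
    ext v
    exact hcon v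
  have hbo := FFLoc.bo_comap (hF.bo A hA) hinj hr
  have hne := FFLoc.comap_ne_bot hA1 hr
  let T' : Sylow 2 H := hF.two.toSylow hF.syl
  have hT' : (T' : Subgroup H) = T := rfl
  let S : Sylow 2 L := (Cfsg.Agent.Lib.SylowNormalInf.isPGroup_subgroupOf T' L).toSylow
    (Cfsg.Agent.Lib.SylowNormalInf.not_dvd_relIndex T' L)
  have hS : (S : Subgroup L) = T.subgroupOf L := rfl
  have hAS : A.comap L.subtype ≤ (S : Subgroup L) := fun x hx => hF.le A hA hx
  obtain ⟨C, B, hp⟩ := exists_pr hmod hbo hne S hAS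
  refine ⟨L, S, C, B, ⟨hL, hs, hcard, hle, fun x hx => three_mem hF.cyc hL hs hcard hx, ?_⟩, hF, hmod, hS,
    fun a ha1 ha => index_le hmod hbo hne ha1 ha, hp⟩
  have h1 : (S : Subgroup L).map L.subtype = T ⊓ L := by
    rw [hS, Subgroup.subgroupOf_map_subtype]
  rw [← h1, Subgroup.card_map_of_injective hinj]
  exact card_sylow hmod.l32 S

namespace In

variable {L : Subgroup H} {S : Sylow 2 L} {C B : Subgroup L}

theorem map_S (h : In ρ T 𝒜 L S C B) : (S : Subgroup L).map L.subtype = T ⊓ L := by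
  rw [h.sub, Subgroup.subgroupOf_map_subtype]

theorem CS_S (h : In ρ T 𝒜 L S C B) : CS (ρ.comp L.subtype) (S : Subgroup L) = CS ρ (T ⊓ L) := by
  rw [FFLoc.CS_comp, h.map_S]

theorem CS_top (_ : In ρ T 𝒜 L S C B) : CS (ρ.comp L.subtype) ⊤ = CS ρ L := by
  rw [FFLoc.CS_comp, ← MonoidHom.range_eq_map, Subgroup.range_subtype]

theorem map_C_le (h : In ρ T 𝒜 L S C B) : C.map L.subtype ≤ T ⊓ L := by
  rw [← h.map_S]
  exact Subgroup.map_mono h.pr.le

/-- the normaliser of `T ∩ L` normalises `C` -/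
theorem norm_C (h : In ρ T 𝒜 L S C B) {t : H} (ht : t ∈ normalizer ((T ⊓ L : Subgroup H) : Set H)) :
    t ∈ normalizer ((C.map L.subtype : Subgroup H) : Set H) := by
  have hn := h.norm
  have key : ∀ t ∈ normalizer ((T ⊓ L : Subgroup H) : Set H), ∀ c ∈ C.map L.subtype,
      t * c * t⁻¹ ∈ C.map L.subtype := by
    intro t ht
    have h1 : C.map (MulAut.conjNormal t).toMonoidHom ≤ S := by
      rintro _ ⟨x, hx, rfl⟩
      rw [h.sub, mem_subgroupOf]
      change ((MulAut.conjNormal t x : L) : H) ∈ _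
      rw [MulAut.conjNormal_apply]
      have h2 : (x : H) ∈ T ⊓ L := h.map_C_le ⟨x, hx, rfl⟩
      exact ((mem_normalizer_iff.1 ht x).1 h2).1
    have h2 := ax_unique h.mod h.idx S h.pr.ax h.pr.le (ax_conj h.pr.ax t) h1
    rintro _ ⟨c, hc, rfl⟩
    have h3 : (MulAut.conjNormal t).toMonoidHom c ∈ C := by
      have := Subgroup.mem_map_of_mem (MulAut.conjNormal t).toMonoidHom hc
      rwa [h2] at this
    refine ⟨_, h3, ?_⟩
    change ((MulAut.conjNormal t c : L) : H) = _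
    rw [MulAut.conjNormal_apply]
    rfl
  rw [mem_normalizer_iff]
  intro c
  refine ⟨key t ht c, fun hc => ?_⟩
  have h1 := key t⁻¹ (inv_mem ht) _ hc
  have e : t⁻¹ * (t * c * t⁻¹) * t⁻¹⁻¹ = c := by group
  rwa [e] at h1

theorem T_le (h : In ρ T 𝒜 L S C B) : T ≤ normalizer ((T ⊓ L : Subgroup H) : Set H) := by
  have hn := h.norm
  rw [le_normalizer_iff]
  intro t ht x hx
  exact ⟨T.mul_mem (T.mul_mem ht hx.1) (T.inv_mem ht), hn.conj_mem x hx.2 t⟩

theorem gen (h : In ρ T 𝒜 L S C B) {K : Subgroup H} (h1 : ∀ x ∈ normalizer (C : Set L), (x : H) ∈ K)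
    (h2 : ∀ x ∈ normalizer (B : Set L), (x : H) ∈ K) : L ≤ K := by
  have h3 : (⊤ : Subgroup L) ≤ K.comap L.subtype := by
    rw [← h.pr.par.gen]
    exact sup_le h1 h2
  intro x hx
  exact h3 (mem_top ⟨x, hx⟩)

/-- members of `𝒜` of order 4 without a smaller one -/
theorem eq_C (h : In ρ T 𝒜 L S C B) (hno : ∀ A ∈ 𝒜, Nat.card A ≠ 2) {A : Subgroup H} (hA : A ∈ 𝒜) (hA1 : A ≠ ⊥) :
    A = C.map L.subtype := by
  have hinj : Function.Injective L.subtype := L.subtype_injective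
  have hr : A ≤ L.subtype.range := by rw [Subgroup.range_subtype]; exact h.le A hA
  have hbo := FFLoc.bo_comap (h.fam.bo A hA) hinj hr
  have hne := FFLoc.comap_ne_bot hA1 hr
  have hcc := FFLoc.card_comap hinj hr
  have h4 := card_le_four h.mod.l32 hbo.sq
  have hA2 : IsPGroup 2 A := fun a => ⟨1, by rw [pow_one, pow_two]; exact Subtype.ext ((h.fam.bo A hA).sq a a.2)⟩
  have hcA : Nat.card A = 4 := by
    obtain ⟨n, hn⟩ := IsPGroup.iff_card.1 hA2
    have h5 := hno A hA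
    rw [hcc] at h4
    have h6 : Nat.card A ≠ 1 := fun h6 => hA1 (Subgroup.card_eq_one.1 h6)
    rw [hn] at h4 h5 h6 ⊢
    have h7 : n ≤ 2 := (Nat.pow_le_pow_iff_right (a := 2) (by norm_num)).1 (by omega)
    interval_cases n <;> omega
  have hfour : IsFour (A.comap L.subtype) := ⟨by rw [hcc, hcA], hbo.sq⟩
  have hax : Ax (ρ.comp L.subtype) (A.comap L.subtype) := by
    refine ⟨hfour, ?_⟩
    rcases FFThree.main h.mod hbo hne with h1 | h1
    · by_contra hcon
      push Not at hcon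
      obtain ⟨a, ha, ha1, hfx⟩ := hcon
      have hi2 := h1.inv a ha1 (hfour.sq a ha)
      have h5 : (CS (ρ.comp L.subtype) (A.comap L.subtype)).index = 4 := by
        obtain ⟨d, hd⟩ := index_pow h.mod.sq (CS (ρ.comp L.subtype) (A.comap L.subtype))
        have h6 := hbo.index_le
        rw [hfour.card] at h6
        have h7 := index_le_of_le (CS_le_fx (ρ := ρ.comp L.subtype) ha)
        have h8 : (CS (ρ.comp L.subtype) (A.comap L.subtype)).index ≠ 2 := by
          intro h8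
          exact hfx (eq_of_index_le (CS_le_fx ha) (by rw [h8, hi2])).symm
        rw [hi2] at h7
        rw [hd] at h6 h7 h8 ⊢
        have h9 : d ≤ 2 := (Nat.pow_le_pow_iff_right (a := 2) (by norm_num)).1 (by omega)
        interval_cases d <;> omega
      have h6 : (CS ρ A).index = 4 := by
        rw [FFLoc.CS_comp, FFLoc.map_comap hr] at h5
        exact h5
      have h7 := h.fam.repl A hA a ha hcA hi2 h6
      apply hno _ h7
      rw [Nat.card_zpowers]
      have : Fact (Nat.Prime 2) := ⟨Nat.prime_two⟩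
      apply orderOf_eq_prime
      · rw [pow_two]; exact (h.fam.bo A hA).sq a ha
      · exact fun h8 => ha1 (Subtype.ext h8)
    · exact h1.2.2
  have hAS : A.comap L.subtype ≤ (S : Subgroup L) := by
    intro x hx
    rw [h.sub]
    exact h.fam.le A hA hx
  have h1 := ax_unique h.mod h.idx S h.pr.ax h.pr.le hax hAS
  rw [← h1, FFLoc.map_comap hr]

/-- **types (L3b), (L3c)** -/
theorem one (h : In ρ T 𝒜 L S C B) (hno : ∀ A ∈ 𝒜, Nat.card A ≠ 2) (hex : ∃ A ∈ 𝒜, A ≠ ⊥) :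
    One ρ T 𝒜 L (C.map L.subtype) := by
  obtain ⟨A, hA, hA1⟩ := hex
  have hAC := h.eq_C hno hA hA1
  have hcs : CS ρ (C.map L.subtype) = CS (ρ.comp L.subtype) C := (FFLoc.CS_comp _ _).symm
  have hinj : Function.Injective L.subtype := L.subtype_injective
  have hcard : Nat.card (C.map L.subtype : Subgroup H) = 4 := by
    rw [Subgroup.card_map_of_injective hinj]; exact h.pr.ax.four.card
  have hfix : ∀ a ∈ C.map L.subtype, a ≠ 1 → fx ρ a = CS ρ (C.map L.subtype) := by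
    rintro _ ⟨a, ha, rfl⟩ ha1
    rw [hcs, ← h.pr.ax.fix a ha (fun h1 => ha1 (by rw [h1]; rfl))]
    rfl
  obtain ⟨z, a, b, hza, hzb, hC, hB⟩ := h.pr.exists_frame h.mod
  have hzC : z ∈ C := by rw [hC]; exact Or.inr (Or.inl rfl)
  have hidx : (CS (ρ.comp L.subtype) C).index = 2 ∨ (CS (ρ.comp L.subtype) C).index = 4 := by
    have h1 := h.idx z hza.a1 hza.aa
    have h2 := h.mod.two_le hza.a1
    rw [h.pr.ax.fix z hzC hza.a1] at h1 h2
    obtain ⟨d, hd⟩ := index_pow h.mod.sq (CS (ρ.comp L.subtype) C)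
    rw [hd] at h1 h2 ⊢
    have h9 : d ≤ 2 := (Nat.pow_le_pow_iff_right (a := 2) (by norm_num)).1 (by omega)
    interval_cases d <;> omega
  refine ⟨hAC ▸ hA, h.map_C_le, hcard, ?_, hfix, by rw [hcs]; exact hidx, ?_, fun t ht => h.norm_C ht, ?_, ?_, ?_, ?_⟩
  · intro A' hA'
    by_cases h1 : A' = ⊥
    · exact Or.inl h1
    · exact Or.inr (h.eq_C hno hA' h1)
  · exact fun t ht => h.norm_C (h.T_le ht)
  · intro K h1 h2
    apply h.gen
    · intro x hx
      exact h1 x x.2 (le_normalizer_map L.subtype ⟨x, hx, rfl⟩)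
    · intro x hx
      refine h2 x x.2 fun v hv => ?_
      rw [← h.CS_S] at hv
      exact h.pr.par.cent x hx v hv
  · -- alt
    rcases hidx with h2 | h2
    · right
      have hα : Alpha (ρ.comp L.subtype) :=
        alpha_of h.mod hza.a1 hza.aa (by rw [h.pr.ax.fix z hzC hza.a1]; exact h2)
      obtain ⟨N, P, w, hnt⟩ := exists_nt h.mod hα h.pr
      obtain ⟨y, hyN, hy3, hyP, hyf⟩ := hnt.plane
      have hP4 := hnt.cardP
      obtain ⟨p, hpP, hp1⟩ : ∃ p ∈ P, p ≠ 1 := by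
        by_contra hcon
        push Not at hcon
        have : P = ⊥ := by rw [eq_bot_iff_forall]; exact hcon
        rw [this, Subgroup.card_bot] at hP4
        omega
      refine ⟨y, y.2, ?_, le_normalizer_map L.subtype ⟨y, hyN, rfl⟩, p, ?_, fun h3 => hp1 (hyf p hpP h3)⟩
      · have := congrArg Subtype.val hy3
        rw [pow_succ, pow_two]
        exact this
      · rw [hcs]
        rw [hnt.P_eq] at hpP
        exact hpP.2
    · rcases alt h.mod h.idx h.pr h2 with h3 | h3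
      · left
        rw [hcs, ← h.CS_top]; exact h3
      · right
        obtain ⟨x, hxN, hx3, v, hv, hxv⟩ := h3
        refine ⟨x, x.2, ?_, le_normalizer_map L.subtype ⟨x, hxN, rfl⟩, v, by rw [hcs]; exact hv, hxv⟩
        have := congrArg Subtype.val hx3
        rw [pow_succ, pow_two]
        exact this
  · -- moved
    by_contra hcon
    push Not at hcon
    apply h.pr.nax
    have h1 : CS (ρ.comp L.subtype) C ≤ CS (ρ.comp L.subtype) B := by
      intro v hv x hx
      have h2 : (x : H) ∈ T ⊓ L := by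
        rw [← h.map_S]
        exact ⟨x, h.pr.par.le hx, rfl⟩
      rw [← hcs] at hv
      exact hcon x h2 v hv
    refine ⟨h.pr.par.four, fun x hx hx1 => ?_⟩
    symm
    apply eq_of_index_le (CS_le_fx hx)
    rw [h.mod.idx hx1 (h.pr.par.four.sq x hx) hza.a1 hza.aa, h.pr.ax.fix z hzC hza.a1]
    exact index_le_of_le h1
  · -- no plane
    intro P x hpl
    obtain ⟨A', hA', a', ha', p, hp, hne⟩ := hpl.moved
    have hA1' : A' ≠ ⊥ := by
      rintro rfl
      rw [mem_bot] at ha'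
      rw [ha', map_one] at hne
      exact hne rfl
    have h1 := h.eq_C hno hA' hA1'
    apply hne
    refine no_plane (h.fam.bo A' hA') (by rw [h1, hcard]) ?_ hpl.card (hpl.inv' A' hA') a' ha' p hp
    rw [h1]
    exact hfix

/-- members of `𝒜` of order 2 generate `T ∩ L` -/
theorem sSup_eq (h : In ρ T 𝒜 L S C B) (hex : ∃ A ∈ 𝒜, Nat.card A = 2) : sSup 𝒜 = T ⊓ L := by
  obtain ⟨A, hA, hA2⟩ := hex
  apply le_antisymm
  · exact sSup_le fun A hA => le_inf (h.fam.le A hA) (h.le A hA)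
  obtain ⟨a, ha, ha1, hall⟩ : ∃ a ∈ A, a ≠ 1 ∧ A = zpowers a := by
    have : Fact (Nat.Prime 2) := ⟨Nat.prime_two⟩
    have h1 : A ≠ ⊥ := by
      rintro rfl
      rw [Subgroup.card_bot] at hA2
      omega
    obtain ⟨⟨a, ha⟩, ha1⟩ := Subgroup.ne_bot_iff_exists_ne_one.1 h1
    have ha1' : a ≠ 1 := fun h => ha1 (Subtype.ext h)
    refine ⟨a, ha, ha1', ?_⟩
    symm
    apply Subgroup.eq_of_le_of_card_ge (zpowers_le.2 ha)
    rw [hA2, Nat.card_zpowers, orderOf_eq_prime (by rw [pow_two]; exact (h.fam.bo A hA).sq a ha) ha1']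
  have haL : a ∈ L := h.le A hA ha
  have haa : a * a = 1 := (h.fam.bo A hA).sq a ha
  have key : ∀ D : Subgroup L, IsFour D → D ≤ S → D.map L.subtype ≤ sSup 𝒜 := by
    rintro D hD hDS _ ⟨x, hx, rfl⟩
    by_cases hx1 : x = 1
    · rw [hx1, map_one]; exact one_mem _
    obtain ⟨g, hg⟩ := h.mod.l32.conj ⟨a, haL⟩ x (fun h1 => ha1 (congrArg Subtype.val h1)) (Subtype.ext haa) hx1
      (hD.sq x hx)
    have hg' : (g : H) * a * (g : H)⁻¹ = x := congrArg Subtype.val hg
    have h1 : A.map (MulAut.conj (g : H)).toMonoidHom = zpowers (x : H) := by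
      rw [hall, MonoidHom.map_zpowers]
      change zpowers ((g : H) * a * (g : H)⁻¹) = _
      rw [hg']
    have hxT : (x : H) ∈ T := by
      have := hDS hx
      rw [h.sub, mem_subgroupOf] at this
      exact this
    have h2 := h.fam.conj A hA (g : H) (by rw [h1, zpowers_le]; exact hxT)
    rw [h1] at h2
    exact (le_sSup h2 : zpowers (x : H) ≤ sSup 𝒜) (mem_zpowers _)
  rw [← h.map_S, ← h.pr.sup_eq h.mod, Subgroup.map_sup]
  exact sup_le (key C h.pr.ax.four h.pr.le) (key B h.pr.par.four h.pr.par.le)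

/-- **type (L3a)** -/
theorem flag (h : In ρ T 𝒜 L S C B) (hex : ∃ A ∈ 𝒜, Nat.card A = 2) :
    ∃ (N P : Subgroup V) (z : V), Flag ρ T 𝒜 L N P z := by
  have hsup := h.sSup_eq hex
  have hn := h.norm
  obtain ⟨A, hA, hA2⟩ := hex
  have hinj : Function.Injective L.subtype := L.subtype_injective
  have hα : Alpha (ρ.comp L.subtype) := by
    have hr : A ≤ L.subtype.range := by rw [Subgroup.range_subtype]; exact h.le A hA
    have hA1 : A ≠ ⊥ := by
      rintro rfl
      rw [Subgroup.card_bot] at hA2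
      omega
    have hbo := FFLoc.bo_comap (h.fam.bo A hA) hinj hr
    have hne := FFLoc.comap_ne_bot hA1 hr
    have hcc := FFLoc.card_comap hinj hr
    obtain ⟨⟨a, ha⟩, ha1'⟩ := Subgroup.ne_bot_iff_exists_ne_one.1 hne
    have ha1 : a ≠ 1 := fun h => ha1' (Subtype.ext h)
    have h1 := hbo.index_le
    rw [hcc, hA2] at h1
    have h2 := index_le_of_le (CS_le_fx (ρ := ρ.comp L.subtype) ha)
    have h3 := h.mod.two_le ha1
    exact alpha_of h.mod ha1 (hbo.sq a ha) (by omega)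
  obtain ⟨N, P, z, hnt⟩ := exists_nt h.mod hα h.pr
  have hcs : CS ρ (C.map L.subtype) = CS (ρ.comp L.subtype) C := (FFLoc.CS_comp _ _).symm
  have htop := h.CS_top
  have hzN : z ∈ N ⊓ CS (ρ.comp L.subtype) (S : Subgroup L) := (hnt.mem_iff z).2 (Or.inr rfl)
  have hzP : z ∈ P := by
    rw [hnt.P_eq]
    exact ⟨hzN.1, CS_anti h.pr.le hzN.2⟩
  have hPN : P ≤ N := by rw [hnt.P_eq]; exact inf_le_left
  obtain ⟨w, b, c, -, -, -, -, -, -, hu, -⟩ := h.mod.l32.gen
  set u : L := b * c * w with hudef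
  have hinv : ∀ g : H, ∀ n ∈ N, ρ g n ∈ N := by
    intro g n hn
    rw [← hnt.seven u hu] at hn
    obtain ⟨v, rfl⟩ := hn
    have h1 : orderOf (MulAut.conjNormal g u) = 7 := by
      rw [← hu]
      exact orderOf_injective (MulAut.conjNormal g : MulAut L).toMonoidHom (MulAut.conjNormal g).injective u
    rw [← hnt.seven _ h1]
    refine ⟨ρ g v, ?_⟩
    rw [cm_apply, cm_apply, map_mul (ρ g), map_inv (ρ g)]
    congr 1
    change ρ ((MulAut.conjNormal g u : L) : H) (ρ g v) = ρ g (ρ (u : H) v)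
    rw [MulAut.conjNormal_apply, ← MulAut.mul_apply, ← MulAut.mul_apply, ← map_mul, ← map_mul]
    congr 2
    group
  have htriv : ∀ g : H, (∀ n ∈ N, ρ g n = n) → (∀ v ∈ CS ρ L, ρ g v = v) → g = 1 := by
    intro g h1 h2
    apply h.fam.inj
    rw [map_one]
    ext v
    have h3 : v ∈ N ⊔ CS ρ L := by rw [← htop, hnt.sup]; trivial
    obtain ⟨n, hn, w, hw, rfl⟩ := Subgroup.mem_sup.1 h3
    rw [map_mul, h1 n hn, h2 w hw]
    rfl
  have hcent : ∀ g : H, (∀ v ∈ CS ρ L, ρ g v = v) → g ∈ L := by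
    intro g hg
    let φ : MulAut N := res ρ ⊤ N (fun n _ w hw => hinv n w hw) ⟨g, mem_top g⟩
    obtain ⟨x, hx⟩ := hnt.full φ
    have h1 : g * (x : H)⁻¹ = 1 := by
      apply htriv
      · intro n hn
        have h2 : ρ (x : H) (ρ (x : H)⁻¹ n) = n := by
          rw [← MulAut.mul_apply, ← map_mul, mul_inv_cancel, map_one]; rfl
        have h3 : ρ g (ρ (x : H)⁻¹ n) = ρ (x : H) (ρ (x : H)⁻¹ n) := hx ⟨ρ (x : H)⁻¹ n, hinv _ n hn⟩
        rw [map_mul, MulAut.mul_apply, h3, h2]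
      · intro v hv
        rw [map_mul, MulAut.mul_apply]
        have h2 : ρ (x : H)⁻¹ v = v := hv _ (L.inv_mem x.2)
        rw [h2, hg v hv]
    have h2 : g = x := by
      rw [mul_inv_eq_one] at h1
      exact h1
    rw [h2]
    exact x.2
  have hTP : ∀ t ∈ T, ∀ p ∈ P, ρ t p ∈ P := by
    intro t ht p hp
    rw [hnt.P_eq, ← hcs] at hp ⊢
    exact ⟨hinv t p hp.1, CS_stable (h.norm_C (h.T_le ht)) hp.2⟩
  have hpt : ∀ v ∈ N, (∀ t ∈ T ⊓ L, ρ t v = v) → v = 1 ∨ v = z := by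
    intro v hv h1
    refine (hnt.mem_iff v).1 ⟨hv, ?_⟩
    rw [h.CS_S]
    exact h1
  have hzT : ∀ t ∈ T ⊓ L, ρ t z = z := by
    have := hzN.2
    rw [h.CS_S] at this
    exact this
  refine ⟨N, P, z, hnt.cardN, hinv, fun x hx v => hnt.comm ⟨x, hx⟩ v, by rw [← htop]; exact hnt.disj,
    by rw [← htop]; exact hnt.sup, ?_, hsup, hcent, ?_, hPN, hnt.cardP, hzP, hnt.z_ne, hpt, hTP, ?_, ?_, ?_, ?_, ?_⟩
  · intro φ
    obtain ⟨x, hx⟩ := hnt.full φ
    exact ⟨x, x.2, hx⟩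
  · intro g hg
    refine hcent g fun v hv => hg v ?_
    exact CS_anti inf_le_right hv
  · -- `T` fixes `z`
    intro t ht
    have h1 : ρ t z ∈ CS ρ (T ⊓ L) := CS_stable (h.T_le ht) hzT
    rcases hpt (ρ t z) (hinv t z hzN.1) h1 with h2 | h2
    · exact absurd ((map_eq_one_iff _ (ρ t).injective).1 h2) hnt.z_ne
    · exact h2
  · -- the plane
    obtain ⟨y, hyN, hy3, hyP, hyf⟩ := hnt.plane
    refine ⟨y, y.2, hnt.cardP, ⟨1, ?_⟩, hyP, hyf, fun A hA a ha => hTP a (h.fam.le A hA ha), ?_⟩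
    · have := congrArg Subtype.val hy3
      rw [pow_one, pow_succ, pow_two]
      exact this
    · by_contra hcon
      push Not at hcon
      have h1 : P ≤ N ⊓ CS (ρ.comp L.subtype) (S : Subgroup L) := by
        intro p hp
        refine ⟨hPN hp, ?_⟩
        rw [h.CS_S, ← hsup]
        let K : Subgroup H :=
          { carrier := {x | ρ x p = p}
            mul_mem' := fun {x y} hx hy => fx_mul ρ hx hy
            one_mem' := by show ρ 1 p = p; rw [map_one]; rfl
            inv_mem' := fun {x} hx => fx_inv ρ hx }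
        have hK : sSup 𝒜 ≤ K := sSup_le fun A hA a ha => hcon A hA a ha p hp
        exact fun x hx => hK hx
      have h2 := Subgroup.card_le_of_le h1
      have h3 : Nat.card (N ⊓ CS (ρ.comp L.subtype) (S : Subgroup L) : Subgroup V) ≤ 2 := by
        classical
        have h4 : ((N ⊓ CS (ρ.comp L.subtype) (S : Subgroup L) : Subgroup V) : Set V) ⊆ {1, z} := by
          intro v hv
          rcases (hnt.mem_iff v).1 hv with h5 | h5
          · exact Or.inl h5
          · exact Or.inr h5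
        rw [← SetLike.coe_sort_coe, Nat.card_coe_set_eq]
        exact (Set.ncard_le_ncard h4 (Set.toFinite _)).trans (Set.ncard_pair hnt.z_ne.symm).le
      rw [hnt.cardP] at h2
      omega
  · -- uniqueness
    intro P' x hpl
    have hx := (h.three x hpl.three).1
    have hfin : Finite P' := Nat.finite_of_card_ne_zero (by rw [hpl.card]; norm_num)
    have h1 : P' ≤ N := by
      let f : P' →* P' :=
        { toFun := fun p => ⟨cm ρ x p, mul_mem (hpl.inv p p.2) (inv_mem p.2)⟩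
          map_one' := Subtype.ext (map_one _)
          map_mul' := fun a b => Subtype.ext (map_mul (cm ρ x) (a : V) b) }
      have hinj : Function.Injective f := by
        rw [injective_iff_map_eq_one]
        intro p hp
        have h3 : cm ρ x p = 1 := congrArg Subtype.val hp
        rw [cm_apply, mul_inv_eq_one] at h3
        exact Subtype.ext (hpl.fpf p p.2 h3)
      have hsur := (Finite.injective_iff_surjective (f := f)).1 hinj
      intro p hp
      obtain ⟨q, hq⟩ := hsur ⟨p, hp⟩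
      have h2 : cm ρ x q = p := congrArg Subtype.val hq
      rw [← h2, cm_apply]
      exact hnt.comm ⟨x, hx⟩ q
    refine hnt.only P' hpl.card h1 ?_
    intro c hc p hp
    let K : Subgroup H :=
      { carrier := {x | (∀ p ∈ P', ρ x p ∈ P') ∧ ∀ p ∈ P', ρ x⁻¹ p ∈ P'}
        mul_mem' := fun {x y} hx hy => by
          refine ⟨fun p hp => ?_, fun p hp => ?_⟩
          · rw [map_mul]; exact hx.1 _ (hy.1 p hp)
          · rw [mul_inv_rev, map_mul]; exact hy.2 _ (hx.2 p hp)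
        one_mem' := by
          refine ⟨fun p hp => ?_, fun p hp => ?_⟩
          · rw [map_one]; exact hp
          · rw [inv_one, map_one]; exact hp
        inv_mem' := fun {x} hx => ⟨hx.2, by rw [inv_inv]; exact hx.1⟩ }
    have hK : sSup 𝒜 ≤ K := sSup_le fun A hA a ha =>
      ⟨fun p hp => hpl.inv' A hA a ha p hp, fun p hp => hpl.inv' A hA a⁻¹ (inv_mem ha) p hp⟩
    have h2 : (c : H) ∈ sSup 𝒜 := by
      rw [hsup]
      exact h.map_C_le ⟨c, hc, rfl⟩
    exact (hK h2).1 p hp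
  · -- generation
    intro K h1 h2
    apply h.gen
    · intro x hx
      refine h1 x x.2 fun p hp => ?_
      rw [hnt.P_eq] at hp ⊢
      exact ⟨hinv x p hp.1, CS_stable hx hp.2⟩
    · intro x hx
      exact h2 x x.2 (h.pr.par.cent x hx z hzN.2)
  · -- normal closure
    intro W hPW hW
    refine hnt.ncl W hPW ?_
    intro x hx
    refine hW x x.2 fun v hv => ?_
    have h1 : v ∈ CS (ρ.comp L.subtype) (S : Subgroup L) := by
      rw [h.CS_S]
      exact CS_anti inf_le_left hv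
    exact h.pr.par.cent x hx v h1

end In

/-- **the case of a normal simple subgroup of order 168** -/
theorem main (hF : Fam ρ T 𝒜) {A : Subgroup H} (hA : A ∈ 𝒜) (hA1 : A ≠ ⊥) (h7 : OutSeven A) :
    ∃ L : Subgroup H, Lv T 𝒜 L ∧
      ((∃ (N P : Subgroup V) (z : V), Flag ρ T 𝒜 L N P z) ∨ ∃ F : Subgroup H, One ρ T 𝒜 L F) := by
  obtain ⟨L, S, C, B, h⟩ := exists_in hF hA hA1 h7
  refine ⟨L, h.toLv, ?_⟩
  by_cases hex : ∃ A ∈ 𝒜, Nat.card A = 2
  · exact Or.inl (h.flag hex)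
  · push Not at hex
    exact Or.inr ⟨_, h.one hex ⟨A, hA, hA1⟩⟩

/-! ### no `SL₂(q)`, `q ≥ 4` -/

theorem Lv.card_dvd {L : Subgroup H} (h : Lv T 𝒜 L) {E : Subgroup H} {Q : Type*} [Group Q] [Finite Q] (π : E →* Q)
    (hπ : Function.Surjective π) (hQ : IsSimpleGroup Q) (h3 : 3 ∣ Nat.card Q) : Nat.card Q ∣ 168 := by
  have hf : Fact (Nat.Prime 3) := ⟨Nat.prime_three⟩
  have hn := h.norm
  obtain ⟨q, hq⟩ := exists_prime_orderOf_dvd_card' (G := Q) 3 h3
  obtain ⟨e, he⟩ := hπ q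
  obtain ⟨a, m, hm, hem⟩ := Nat.exists_eq_pow_mul_and_not_dvd (orderOf_pos e).ne' 3 (by norm_num)
  have h1 : (e ^ m) ^ 3 ^ a = 1 := by rw [← pow_mul, mul_comm, ← hem, pow_orderOf_eq_one]
  have h2 : ((e ^ m : E) : H) ∈ L := (h.three _ ⟨a, by
    have := congrArg Subtype.val h1
    simpa using this⟩).1
  have h4 : ((L.subgroupOf E).map π).Normal := (hn.subgroupOf E).map π hπ
  rcases hQ.eq_bot_or_eq_top_of_normal _ h4 with h5 | h5
  · exfalso
    have h6 : π (e ^ m) ∈ (L.subgroupOf E).map π := ⟨e ^ m, mem_subgroupOf.2 h2, rfl⟩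
    rw [h5, mem_bot, map_pow, he] at h6
    have h7 := orderOf_dvd_of_pow_eq_one h6
    rw [hq] at h7
    exact hm h7
  · have h6 : Nat.card ((L.subgroupOf E).map π) ∣ Nat.card (L.subgroupOf E) := Subgroup.card_map_dvd _ π
    rw [h5, Subgroup.card_top] at h6
    have h7 : Nat.card (L.subgroupOf E) ∣ Nat.card L := by
      have : Nat.card (L.subgroupOf E) = Nat.card ((L.subgroupOf E).map E.subtype) :=
        (Subgroup.card_map_of_injective E.subtype_injective).symm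
      rw [this, Subgroup.subgroupOf_map_subtype]
      exact Subgroup.card_dvd_of_le inf_le_left
    rw [← h.card]
    exact h6.trans h7

theorem Lv.no_sl2 {L : Subgroup H} (h : Lv T 𝒜 L) {E : Subgroup H} {F : Type} [Field F] [Fintype F] [CharP F 2]
    (h4 : 4 ≤ Fintype.card F) (π : E →* Matrix.SpecialLinearGroup (Fin 2) F) : ¬ Function.Surjective π := by
  intro hπ
  have h1 := h.card_dvd π hπ (isSimpleGroup_sl2 h4) (three_dvd F)
  have h2 := Nat.le_of_dvd (by norm_num) h1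
  rw [T1Sl2.card_sl2] at h1 h2
  obtain ⟨n, hn, hq⟩ := T1Sl2.card_pow F
  rw [hq] at h1 h2 h4
  rcases Nat.lt_or_ge n 3 with h5 | h5
  · interval_cases n
    · omega
    · norm_num at h1
  · have h6 : 8 ≤ 2 ^ n := le_trans (by norm_num) (Nat.pow_le_pow_right (n := 2) (by norm_num) h5)
    have h8 : 9 * 8 * 7 ≤ (2 ^ n + 1) * 2 ^ n * (2 ^ n - 1) :=
      Nat.mul_le_mul (Nat.mul_le_mul (by omega) h6) (by omega)
    omega

end Cfsg.Agent.OddCyclic.RedSeven
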