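import Cfsg.Agent.OddCyclic.RedSevenA
import Cfsg.Agent.OddCyclic.RedFam
import Cfsg.Agent.GH.EFrameAct

/-!
# S0342, (C2), 2.2: the natural module of `L₃(2)`

`Nt ρ S C B N P z`: `N = [V, L]` natural, `P = C_N(C)` the plane and `z` its point.
-/

set_option autoImplicit false
set_option linter.unusedSectionVars false

namespace Cfsg.Agent.OddCyclic.RedSevenB

open Subgroup
open Cfsg.Agent.GH.L2Aut Cfsg.Agent.OddCyclic.T1Module Cfsg.Agent.OddCyclic.FFBasic
  Cfsg.Agent.OddCyclic.FFRed Cfsg.Agent.OddCyclic.FFSl2 Cfsg.Agent.OddCyclic.FFThree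
  Cfsg.Agent.OddCyclic.COneSeven Cfsg.Agent.OddCyclic.RedSevenA Cfsg.Agent.OddCyclic.RedFam

variable {L : Type*} [Group L] [Finite L] {V : Type*} [CommGroup V] [Finite V] {ρ : L →* MulAut V}

/-- the natural module -/
structure Nt (ρ : L →* MulAut V) (S : Sylow 2 L) (C B : Subgroup L) (N P : Subgroup V) (z : V) : Prop where
  cardN : Nat.card N = 8
  comm : ∀ x v, ρ x v * v⁻¹ ∈ N
  disj : N ⊓ CS ρ ⊤ = ⊥
  sup : N ⊔ CS ρ ⊤ = ⊤
  seven : ∀ y : L, orderOf y = 7 → (cm ρ y).range = N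
  P_eq : P = N ⊓ CS ρ C
  cardP : Nat.card P = 4
  mem_iff : ∀ v, v ∈ N ⊓ CS ρ (S : Subgroup L) ↔ v = 1 ∨ v = z
  z_ne : z ≠ 1
  full : ∀ φ : MulAut N, ∃ x : L, ∀ n : N, ((φ n : N) : V) = ρ x n
  plane : ∃ y ∈ normalizer (C : Set L), y * y * y = 1 ∧ (∀ p ∈ P, ρ y p ∈ P) ∧ ∀ p ∈ P, ρ y p = p → p = 1
  only : ∀ P' : Subgroup V, Nat.card P' = 4 → P' ≤ N → (∀ c ∈ C, ∀ p ∈ P', ρ c p ∈ P') → P' = P
  ncl : ∀ W : Subgroup V, P ≤ W → (∀ x ∈ normalizer (B : Set L), ∀ w ∈ W, ρ x w ∈ W) → N ≤ W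

theorem eq_one_of_triv (h : Mod ρ) {N : Subgroup V} (hsup : N ⊔ CS ρ ⊤ = ⊤) {x : L} (hx : ∀ n ∈ N, ρ x n = n) :
    x = 1 := by
  by_contra hx1
  obtain ⟨v, hv⟩ := h.faith x hx1
  apply hv
  have h1 : v ∈ N ⊔ CS ρ ⊤ := by rw [hsup]; trivial
  obtain ⟨n, hn, w, hw, rfl⟩ := Subgroup.mem_sup.1 h1
  rw [map_mul, hx n hn, hw x (mem_top x)]

/-- two subgroups of order 4 of a group of order 8 -/
theorem sup_eq_of_ne {N P P' : Subgroup V} (hN : Nat.card N = 8) (hP : Nat.card P = 4) (hP' : Nat.card P' = 4)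
    (hPN : P ≤ N) (hPN' : P' ≤ N) (hne : P' ≠ P) : P ⊔ P' = N := by
  apply Subgroup.eq_of_le_of_card_ge (sup_le hPN hPN')
  rw [hN]
  have h1 := card_sup_mul P P'
  rw [hP, hP'] at h1
  have h2 : Nat.card (P ⊓ P' : Subgroup V) ∣ 4 := by
    rw [← hP]; exact Subgroup.card_dvd_of_le inf_le_left
  have h3 : Nat.card (P ⊓ P' : Subgroup V) ≠ 4 := by
    intro h3
    have h4 : P ⊓ P' = P := Subgroup.eq_of_le_of_card_ge inf_le_left (by rw [h3, hP])
    have h5 : P ⊓ P' = P' := Subgroup.eq_of_le_of_card_ge inf_le_right (by rw [h3, hP'])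
    exact hne (h5.symm.trans h4)
  have h4 : Nat.card (P ⊓ P' : Subgroup V) ≤ 2 := by
    have h5 := Nat.le_of_dvd (by norm_num) h2
    have h6 : Nat.card (P ⊓ P' : Subgroup V) ≠ 3 := by
      intro h6
      rw [h6] at h2
      norm_num at h2
    omega
  by_contra hc
  push Not at hc
  have h5 : Nat.card (P ⊔ P' : Subgroup V) * Nat.card (P ⊓ P' : Subgroup V) ≤ 7 * 2 :=
    Nat.mul_le_mul (by omega) h4
  omega

/-- a subgroup of order 4 with elements of square 1 -/
theorem cases_four {P : Subgroup V} (hP : Nat.card P = 4) (hV : ∀ v : V, v * v = 1) {p q x : V} (hp : p ∈ P) (hq : q ∈ P)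
    (hp1 : p ≠ 1) (hq1 : q ≠ 1) (hpq : p ≠ q) (hx : x ∈ P) : x = 1 ∨ x = p ∨ x = q ∨ x = p * q := by
  have h4 : Cfsg.Agent.GH.L2Tri.Four P := ⟨fun x _ y _ => mul_comm x y, fun x _ => hV x, hP⟩
  exact h4.cases hp hq hp1 hq1 hpq hx

/-- an element of odd order with a fixed point on an invariant four-group is trivial on it -/
theorem triv_of_fixed {P : Subgroup V} (hP : Nat.card P = 4) (hV : ∀ v : V, v * v = 1) {y : L}
    (hy : Odd (orderOf y)) (hinv : ∀ p ∈ P, ρ y p ∈ P) {p : V} (hp : p ∈ P) (hp1 : p ≠ 1) (hfix : ρ y p = p) :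
    ∀ q ∈ P, ρ y q = q := by
  intro q hq
  by_cases hq1 : q = 1
  · rw [hq1, map_one]
  by_cases hpq : p = q
  · rw [← hpq]; exact hfix
  have hw : cm ρ y q ∈ P := mul_mem (hinv q hq) (inv_mem hq)
  have h1 : ρ y (cm ρ y q) = cm ρ y q := by
    rcases cases_four hP hV hp hq hp1 hq1 hpq hw with h1 | h1 | h1 | h1
    · rw [h1, map_one]
    · rw [h1, hfix]
    · exfalso
      rw [cm_apply, inv_eq_self hV] at h1
      have h2 : ρ y q = 1 := mul_eq_right.1 h1
      exact hq1 ((map_eq_one_iff _ (ρ y).injective).1 h2)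
    · exfalso
      rw [cm_apply, inv_eq_self hV] at h1
      have h2 : ρ y q = p := mul_right_cancel h1
      exact hpq ((ρ y).injective (hfix.trans h2.symm))
  have h2 := eq_one_of_fix hV hy ⟨q, rfl⟩ h1
  rw [cm_apply, mul_inv_eq_one] at h2
  exact h2

theorem exists_nt (h : Mod ρ) (hα : Alpha ρ) {S : Sylow 2 L} {C B : Subgroup L} (hp : Pr ρ S C B) :
    ∃ (N P : Subgroup V) (z : V), Nt ρ S C B N P z := by
  obtain ⟨N, hN, hcomm, hdisj, hsup⟩ := hα.exN
  obtain ⟨z, a, b, hza, hzb, hC, hB⟩ := hp.exists_frame h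
  have hzC : z ∈ C := by rw [hC]; exact Or.inr (Or.inl rfl)
  have hzB : z ∈ B := by rw [hB]; exact Or.inr (Or.inl rfl)
  have hbB : b ∈ B := by rw [hB]; exact Or.inr (Or.inr (Or.inl rfl))
  have hCi : (CS ρ C).index = 2 := by
    rw [← hp.ax.fix z hzC hza.a1]
    exact hα.inv z hza.a1 hza.aa
  have hinvN : ∀ x : L, ∀ n ∈ N, ρ x n ∈ N := by
    intro x n hn
    have := mul_mem (hcomm x n) hn
    rwa [inv_mul_cancel_right] at this
  have hle : ∀ D : Subgroup L, CS ρ ⊤ ≤ CS ρ D := fun D => CS_anti le_top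
  have hcard : ∀ D : Subgroup L, Nat.card (N ⊓ CS ρ D : Subgroup V) * (CS ρ D).index = 8 := by
    intro D
    have h1 : N ⊔ CS ρ D = ⊤ := by
      rw [eq_top_iff, ← hsup]
      exact sup_le_sup_left (hle D) N
    have h2 := card_sup_mul N (CS ρ D)
    rw [h1, Subgroup.card_top, hN] at h2
    have h3 := (CS ρ D).card_mul_index
    have h4 : 0 < Nat.card (CS ρ D) := Nat.card_pos
    have h5 : Nat.card (CS ρ D) * (Nat.card (N ⊓ CS ρ D : Subgroup V) * (CS ρ D).index) = Nat.card (CS ρ D) * 8 := by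
      rw [mul_comm (Nat.card (CS ρ D)) 8, ← h2, ← h3]
      ring
    exact Nat.eq_of_mul_eq_mul_left h4 h5
  have hP4 : Nat.card (N ⊓ CS ρ C : Subgroup V) = 4 := by
    have := hcard C
    rw [hCi] at this
    omega
  -- the index of `CS S`
  have hSi : (CS ρ (S : Subgroup L)).index = 4 := by
    obtain ⟨d, hd⟩ := index_pow h.sq (CS ρ (S : Subgroup L))
    have h1 : (CS ρ (S : Subgroup L)).index ≤ 4 := by
      rw [hp.par.fix, hB, CS_sub]
      refine Subgroup.index_inf_le.trans ?_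
      rw [hα.inv z hzb.a1 hzb.aa, hα.inv b hzb.b1 hzb.bb]
    have h2 : CS ρ (S : Subgroup L) ≤ CS ρ C := CS_anti hp.le
    have h3 : (CS ρ (S : Subgroup L)).index ≠ 2 := by
      intro h3
      apply hp.nax
      refine ⟨hp.par.four, fun x hx hx1 => ?_⟩
      symm
      apply eq_of_index_le (CS_le_fx hx)
      rw [← hp.par.fix, h3, hα.inv x hx1 (hp.par.four.sq x hx)]
    have h4 : 2 ≤ (CS ρ (S : Subgroup L)).index := by
      exact hCi.ge.trans (index_le_of_le h2)
    have h5 : d = 2 := by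
      rw [hd] at h1 h3 h4
      have h6 : d ≤ 2 := (Nat.pow_le_pow_iff_right (a := 2) (by norm_num)).1 (by omega)
      interval_cases d <;> omega
    rw [hd, h5]; norm_num
  have hS2 : Nat.card (N ⊓ CS ρ (S : Subgroup L) : Subgroup V) = 2 := by
    have := hcard S
    rw [hSi] at this
    omega
  obtain ⟨v₀, hv₀, hv₁, hall⟩ : ∃ v₀ : V, v₀ ∈ N ⊓ CS ρ (S : Subgroup L) ∧ v₀ ≠ 1 ∧
      ∀ v ∈ N ⊓ CS ρ (S : Subgroup L), v = 1 ∨ v = v₀ := by
    obtain ⟨p, q, hpq, hall⟩ := Nat.card_eq_two_iff.1 hS2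
    have h1 : ∀ t : (N ⊓ CS ρ (S : Subgroup L) : Subgroup V), t = p ∨ t = q := by
      intro t
      have : t ∈ ({p, q} : Set _) := by rw [hall]; trivial
      simpa using this
    rcases h1 1 with h3 | h3
    · refine ⟨q, q.2, fun h => hpq (h3.symm.trans (Subtype.ext h.symm)), fun w hw => ?_⟩
      rcases h1 ⟨w, hw⟩ with h4 | h4
      · exact Or.inl (congrArg Subtype.val (h4.trans h3.symm))
      · exact Or.inr (congrArg Subtype.val h4)
    · refine ⟨p, p.2, fun h => hpq ((Subtype.ext h).trans h3), fun w hw => ?_⟩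
      rcases h1 ⟨w, hw⟩ with h4 | h4
      · exact Or.inr (congrArg Subtype.val h4)
      · exact Or.inl (congrArg Subtype.val (h4.trans h3.symm))
  -- only
  have honly : ∀ P' : Subgroup V, Nat.card P' = 4 → P' ≤ N → (∀ c ∈ C, ∀ p ∈ P', ρ c p ∈ P') →
      P' = N ⊓ CS ρ C := by
    intro P' hP' hPN' hinv
    by_contra hne
    have hfinP : Finite P' := Nat.finite_of_card_ne_zero (by omega)
    have hni : ¬ Function.Injective (res ρ C P' hinv) := by
      intro hinj
      have h1 := (Subgroup.card_dvd_of_injective _ hinj).trans (card_mulAut_dvd_six (P := P') hP')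
      rw [hp.ax.four.card] at h1
      norm_num at h1
    rw [← MonoidHom.ker_eq_bot_iff, ← ne_eq, Subgroup.ne_bot_iff_exists_ne_one] at hni
    obtain ⟨⟨c, hc⟩, hc1⟩ := hni
    have hc1' : (c : L) ≠ 1 := fun h => hc1 (Subtype.ext (Subtype.ext h))
    have h1 : ∀ p ∈ P', ρ (c : L) p = p := by
      intro p hp
      exact congrArg (fun φ : MulAut P' => ((φ ⟨p, hp⟩ : P') : V)) (MonoidHom.mem_ker.1 hc)
    have h2 := sup_eq_of_ne hN hP4 hP' inf_le_left hPN' hne
    apply hc1'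
    apply eq_one_of_triv h hsup
    intro n hn
    rw [← h2] at hn
    obtain ⟨p, hp2, p', hp', rfl⟩ := Subgroup.mem_sup.1 hn
    rw [map_mul, h1 p' hp', hp2.2 c c.2]
  refine ⟨N, N ⊓ CS ρ C, v₀, hN, hcomm, hdisj, hsup, ?_, rfl, hP4, ?_, hv₁, ?_, ?_, honly, ?_⟩
  · intro y hy
    apply Subgroup.eq_of_le_of_card_ge
    · rintro _ ⟨v, rfl⟩
      rw [cm_apply]; exact hcomm y v
    · rw [card_range_cm, hα.seven y hy, hα.top, hN]
  · intro v
    refine ⟨hall v, ?_⟩
    rintro (rfl | rfl)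
    · exact one_mem _
    · exact hv₀
  · -- full
    have hinv' : ∀ n ∈ (⊤ : Subgroup L), ∀ w ∈ N, ρ n w ∈ N := fun n _ w hw => hinvN n w hw
    have hinj : Function.Injective (res ρ ⊤ N hinv') := by
      rw [injective_iff_map_eq_one]
      intro x hx
      apply Subtype.ext
      apply eq_one_of_triv h hsup
      intro n hn
      exact congrArg (fun φ : MulAut N => ((φ ⟨n, hn⟩ : N) : V)) hx
    have h168 : Nat.card (MulAut N) = 168 :=
      Cfsg.Agent.GH.EFrameAct.card_mulAut_eight (fun x => by rw [pow_two]; exact Subtype.ext (h.sq x)) hN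
    have hfin : Finite (MulAut N) := Nat.finite_of_card_ne_zero (by omega)
    have hbij := (Nat.bijective_iff_injective_and_card (res ρ ⊤ N hinv')).2
      ⟨hinj, by rw [h168, Subgroup.card_top, h.l32.card]⟩
    intro φ
    obtain ⟨x, hx⟩ := hbij.2 φ
    refine ⟨x, fun n => ?_⟩
    rw [← hx]
    rfl
  · -- plane
    obtain ⟨y, hyN, hy3, hy1, -⟩ := fuse_mem h.l32 (A := C) hza (by rw [hC]; exact fun x => mem_sub hza)
    have ho := orderOf_three hy3 hy1 hza.ne
    have hodd : Odd (orderOf y) := by rw [ho]; decide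
    have hinv : ∀ p ∈ N ⊓ CS ρ C, ρ y p ∈ N ⊓ CS ρ C := fun p hp => ⟨hinvN y p hp.1, CS_stable hyN hp.2⟩
    refine ⟨y, hyN, hy3, hinv, ?_⟩
    intro p hp hfix
    by_contra hp1
    have h1 := triv_of_fixed hP4 h.sq hodd hinv hp hp1 hfix
    have hy1' : y ≠ 1 := by
      rintro rfl
      rw [orderOf_one] at ho
      norm_num at ho
    obtain ⟨v, hv⟩ := h.faith y hy1'
    apply hv
    have h2 : cm ρ y v ∈ CS ρ C := by
      rw [cm_apply]
      rw [Subgroup.mul_mem_iff_of_index_two hCi, inv_mem_iff]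
      constructor
      · intro h3
        have := CS_stable (inv_mem hyN) h3
        rwa [← MulAut.mul_apply, ← map_mul, inv_mul_cancel, map_one, MulAut.one_apply] at this
      · intro h3
        exact CS_stable hyN h3
    have h3 : cm ρ y v ∈ N ⊓ CS ρ C := ⟨by rw [cm_apply]; exact hcomm y v, h2⟩
    have h4 := eq_one_of_fix h.sq hodd ⟨v, rfl⟩ (h1 _ h3)
    rw [cm_apply, mul_inv_eq_one] at h4
    exact h4
  · -- ncl
    intro W hPW hW
    by_cases hinv : ∀ x ∈ normalizer (B : Set L), ∀ p ∈ N ⊓ CS ρ C, ρ x p ∈ N ⊓ CS ρ C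
    · exfalso
      let K : Subgroup L :=
        { carrier := {x | (N ⊓ CS ρ C).map (ρ x : V ≃* V).toMonoidHom = N ⊓ CS ρ C}
          mul_mem' := fun {x y} hx hy => by
            show (N ⊓ CS ρ C).map (ρ (x * y) : V ≃* V).toMonoidHom = N ⊓ CS ρ C
            have h1 : (ρ (x * y) : V ≃* V).toMonoidHom =
                ((ρ x : V ≃* V).toMonoidHom).comp (ρ y : V ≃* V).toMonoidHom := by
              rw [map_mul]; rfl
            rw [h1, ← Subgroup.map_map]
            rw [show (N ⊓ CS ρ C).map (ρ y : V ≃* V).toMonoidHom = N ⊓ CS ρ C from hy]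
            exact hx
          one_mem' := by
            show (N ⊓ CS ρ C).map (ρ 1 : V ≃* V).toMonoidHom = N ⊓ CS ρ C
            rw [map_one]; exact Subgroup.map_id _
          inv_mem' := fun {x} hx => by
            show (N ⊓ CS ρ C).map (ρ x⁻¹ : V ≃* V).toMonoidHom = N ⊓ CS ρ C
            nth_rewrite 1 [← show (N ⊓ CS ρ C).map (ρ x : V ≃* V).toMonoidHom = N ⊓ CS ρ C from hx]
            rw [Subgroup.map_map]
            have h1 : ((ρ x⁻¹ : V ≃* V).toMonoidHom).comp (ρ x : V ≃* V).toMonoidHom = MonoidHom.id V := by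
              ext v
              show ρ x⁻¹ (ρ x v) = v
              rw [← MulAut.mul_apply, ← map_mul, inv_mul_cancel, map_one]; rfl
            rw [h1, Subgroup.map_id] }
      have hKof : ∀ x : L, (∀ p ∈ N ⊓ CS ρ C, ρ x p ∈ N ⊓ CS ρ C) → x ∈ K := by
        intro x hx
        show (N ⊓ CS ρ C).map (ρ x : V ≃* V).toMonoidHom = N ⊓ CS ρ C
        apply Subgroup.eq_of_le_of_card_ge
        · rintro _ ⟨v, hv, rfl⟩
          exact hx v hv
        · rw [Subgroup.card_map_of_injective (ρ x).injective]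
      have htop : (⊤ : Subgroup L) ≤ K := by
        rw [← hp.par.gen]
        refine sup_le (fun x hx => hKof x fun p hp => ⟨hinvN x p hp.1, CS_stable hx hp.2⟩) fun x hx => hKof x (hinv x hx)
      -- all involutions act trivially
      have hinvol : ∀ x : L, x ≠ 1 → x * x = 1 → ∀ p ∈ N ⊓ CS ρ C, ρ x p = p := by
        intro x hx hxx p hp
        obtain ⟨g, rfl⟩ := h.l32.conj z x hza.a1 hza.aa hx hxx
        have h1 : g⁻¹ ∈ K := htop (mem_top _)
        have h2 : ρ g⁻¹ p ∈ N ⊓ CS ρ C := by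
          have h3 : (N ⊓ CS ρ C).map (ρ g⁻¹ : V ≃* V).toMonoidHom = N ⊓ CS ρ C := h1
          rw [← h3]
          exact ⟨p, hp, rfl⟩
        have h3 : ρ z (ρ g⁻¹ p) = ρ g⁻¹ p := h2.2 z hzC
        rw [map_mul, map_mul, MulAut.mul_apply, MulAut.mul_apply, h3, ← MulAut.mul_apply, ← map_mul, mul_inv_cancel,
          map_one, MulAut.one_apply]
      obtain ⟨w, b', c, hw, hw1, hb, hb1, hc, hc1, hu, -⟩ := h.l32.gen
      have h5 : N ⊓ CS ρ C ≤ N ⊓ CS ρ ⊤ := by
        intro p hp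
        refine ⟨hp.1, ?_⟩
        rw [← hα.seven _ hu]
        exact fx_mul ρ (fx_mul ρ (hinvol b' hb1 hb p hp) (hinvol c hc1 hc p hp)) (hinvol w hw1 hw p hp)
      rw [hdisj] at h5
      have h6 := Subgroup.card_le_of_le h5
      rw [hP4, Subgroup.card_bot] at h6
      omega
    · push Not at hinv
      obtain ⟨x, hx, p, hp1, hp2⟩ := hinv
      set P' := (N ⊓ CS ρ C).map (ρ x : V ≃* V).toMonoidHom with hP'
      have h1 : Nat.card P' = 4 := by
        rw [hP', Subgroup.card_map_of_injective (ρ x).injective, hP4]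
      have h2 : P' ≤ N := by
        rintro _ ⟨v, hv, rfl⟩
        exact hinvN x v hv.1
      have h3 : P' ≠ N ⊓ CS ρ C := by
        intro h3
        apply hp2
        rw [← h3]
        exact ⟨p, hp1, rfl⟩
      rw [← sup_eq_of_ne hN hP4 h1 inf_le_left h2 h3]
      refine sup_le hPW ?_
      rintro _ ⟨v, hv, rfl⟩
      exact hW x hx v (hPW hv)

end Cfsg.Agent.OddCyclic.RedSevenB
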