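import Mathlib
import Cfsg.Agent.OddCyclic.T1Defs
import Cfsg.Agent.OddCyclic.T1Tools
import Cfsg.Agent.OddCyclic.T1Local
import Cfsg.Agent.OddCyclic.T1MinPar
import Cfsg.Agent.OddCyclic.T1Cub
import Cfsg.Agent.OddCyclic.T1SzCount
import Cfsg.Agent.Involutions.BaerSuzuki

/-!
# S0342, no elements of order 6, piece N (4.4 of blueprints/S0342-T0eq1.md): `V ≤ Q₂`
-/

set_option autoImplicit false
set_option linter.unusedSectionVars false
set_option linter.unusedVariables false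
open Cfsg

namespace Cfsg.Agent.OddCyclic.T1NotLe

open Cfsg.Agent.LieExceptional.CITDefs Cfsg.Agent.OddCyclic.T1Defs Cfsg.Agent.OddCyclic.T1Tools
open Cfsg.Agent.LieExceptional
open Subgroup

universe u

variable {G : Type u} [Group G] [Finite G]

/-- Baer-Suzuki: an involution `t ∈ P₂ ∖ O₂(P₂)` inverts a nontrivial element of odd order of `P₂`. -/
theorem exists_inverted {P₂ Q₂ : Subgroup G} (h : IsO2 P₂ Q₂) {t : G} (ht : t ∈ P₂) (ht2 : t * t = 1)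
    (htQ : t ∉ Q₂) : ∃ y ∈ P₂, y ≠ 1 ∧ Odd (orderOf y) ∧ t * y * t⁻¹ = y⁻¹ := by
  have hn : ¬ IsPGroup 2 (Subgroup.normalClosure {(⟨t, ht⟩ : P₂)} : Subgroup P₂) := by
    intro hp
    apply htQ
    have h1 := h.max ((Subgroup.normalClosure {(⟨t, ht⟩ : P₂)}).map P₂.subtype)
      (Subgroup.map_subtype_le _) (hp.map _) (by
        rintro m hm _ ⟨x, hx, rfl⟩
        exact ⟨⟨m, hm⟩ * x * ⟨m, hm⟩⁻¹, Subgroup.normalClosure_normal.conj_mem x hx ⟨m, hm⟩, rfl⟩)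
    exact h1 ⟨⟨t, ht⟩, Subgroup.subset_normalClosure rfl, rfl⟩
  obtain ⟨y, hy1, hyo, hyt⟩ := Involutions.BaerSuzuki.exists_odd_inverted (⟨t, ht⟩ : P₂)
    (Subtype.ext ht2) hn
  refine ⟨y, y.2, fun h0 => hy1 (Subtype.ext h0), ?_, congrArg Subtype.val hyt⟩
  rwa [Subgroup.orderOf_coe]

variable {M P Q S P₂ Q₂ : Subgroup G} {q : ℕ}

theorem V_elem (Q : Subgroup G) : Elem (omegaZ Q) := fun _ hx => hx.2.1

theorem sz_lt (h : CaseII M P Q S P₂ Q₂ q) (hz : SzType P₂ Q₂)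
    (hV : ¬ omegaZ Q ≤ Q₂) {A : Subgroup G} (hA : A ≤ S) (hAe : Elem A) :
    Nat.card A < q * Nat.card (A ⊓ Q₂ : Subgroup G) :=
  T1SzCount.sz_lt_aux h hz (T1Local.card_T h.t₁.ltype) (T1Local.sq_mem h.t₁.ltype)
    (T1Cub.not_sz_of_sup h hz) hV hA hAe

theorem V_le_S (h : CaseII M P Q S P₂ Q₂ q) : omegaZ Q ≤ S := fun _ hv => Q_le_S h hv.1

theorem S_le_M (h : CaseII M P Q S P₂ Q₂ q) : S ≤ M := h.t₁.syl.le

/-- `|V : V ∩ Q₂| ≤ 2` in case (R) -/
theorem card_V_le {p : ℕ} {r : G} (h : CaseII M P Q S P₂ Q₂ q) (hr : RType P₂ Q₂ S p r) :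
    Nat.card (omegaZ Q) ≤ 2 * Nat.card (omegaZ Q ⊓ Q₂ : Subgroup G) := by
  have key : ∀ s ∈ omegaZ Q, ∀ t ∈ omegaZ Q, s ∉ Q₂ → t ∉ Q₂ → s⁻¹ * t ∈ Q₂ := by
    intro s hs t ht hsQ htQ
    have hsS := V_le_S h hs
    have htS := V_le_S h ht
    have h1 := hr.inv s hsS hsQ (by rw [hs.2.1]; exact one_mem _)
    have h2 := hr.inv t htS htQ (by rw [ht.2.1]; exact one_mem _)
    apply hr.faith _ (mul_mem (inv_mem hsS) htS)
    -- `t r t⁻¹ = c r⁻¹`, `s r s⁻¹ = d r⁻¹`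
    have h3 : s⁻¹ * t * r * (s⁻¹ * t)⁻¹ * r⁻¹ =
        (s⁻¹ * (t * r * t⁻¹ * r) * s) * ((s⁻¹ * (s * r * s⁻¹ * r)⁻¹ * s)) := by group
    rw [h3]
    have hsP : s⁻¹ ∈ P₂ := inv_mem (h.le hsS)
    have e : ∀ x, s⁻¹ * x * s = s⁻¹ * x * s⁻¹⁻¹ := fun x => by rw [inv_inv]
    rw [e, e]
    exact mul_mem (h.o2.normal _ hsP _ h2) (h.o2.normal _ hsP _ (inv_mem h1))
  have hle : omegaZ Q ⊓ Q₂ ≤ omegaZ Q := inf_le_left
  have h1 := card_mul_relIndex hle
  rw [← h1, mul_comm]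
  apply Nat.mul_le_mul_right
  by_contra hlt
  push Not at hlt
  -- three cosets
  have hq : 2 < Nat.card (omegaZ Q ⧸ (omegaZ Q ⊓ Q₂).subgroupOf (omegaZ Q)) := hlt
  have hfin : Finite (omegaZ Q ⧸ (omegaZ Q ⊓ Q₂).subgroupOf (omegaZ Q)) := inferInstance
  have : Fintype (omegaZ Q ⧸ (omegaZ Q ⊓ Q₂).subgroupOf (omegaZ Q)) := Fintype.ofFinite _
  rw [Nat.card_eq_fintype_card, Fintype.two_lt_card_iff] at hq
  obtain ⟨a, b, c, hab, hac, hbc⟩ := hq
  obtain ⟨a, rfl⟩ := QuotientGroup.mk_surjective a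
  obtain ⟨b, rfl⟩ := QuotientGroup.mk_surjective b
  obtain ⟨c, rfl⟩ := QuotientGroup.mk_surjective c
  have hmk : ∀ x y : omegaZ Q, (QuotientGroup.mk x : omegaZ Q ⧸ (omegaZ Q ⊓ Q₂).subgroupOf (omegaZ Q))
      ≠ QuotientGroup.mk y → ((x : G)⁻¹ * y) ∉ Q₂ := by
    intro x y hxy hm
    apply hxy
    apply QuotientGroup.eq.2
    rw [mem_subgroupOf]
    exact ⟨(x⁻¹ * y).2, hm⟩
  have h2 := hmk a b hab
  have h3 := hmk a c hac
  have h4 := hmk b c hbc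
  have h5 := key _ (a⁻¹ * b).2 _ (a⁻¹ * c).2 h2 h3
  apply h4
  have e : ((a : G)⁻¹ * b)⁻¹ * ((a : G)⁻¹ * c) = (b : G)⁻¹ * c := by group
  have h6 : ((a : G)⁻¹ * b)⁻¹ * ((a : G)⁻¹ * c) ∈ Q₂ := h5
  rwa [e] at h6

/-- an element of odd order commutes with everything its square commutes with -/
theorem commute_of_sq {y c : G} (hodd : Odd (orderOf y)) (h : y ^ 2 * c = c * y ^ 2) :
    y * c = c * y := by
  obtain ⟨m, hm⟩ := exists_pow_eq_self_of_coprime (n := 2) (x := y)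
    ((Nat.coprime_two_left).2 hodd)
  have h1 : Commute (y ^ 2) c := h
  have h2 := h1.pow_left m
  rw [hm] at h2
  exact h2.eq

theorem q_ge_two (h : CaseII M P Q S P₂ Q₂ q) : 2 ≤ q := by
  obtain ⟨n, hn, rfl⟩ := T1Local.pow h.t₁.ltype
  calc 2 = 2 ^ 1 := rfl
    _ ≤ 2 ^ n := Nat.pow_le_pow_right (by norm_num) hn

/-- `|V| = v²`, `v = q ^ j`, `j ≥ 1`; for `t ∈ S ∖ Q` we have `|C_V(t)| = v`. -/
theorem exists_v (h : CaseII M P Q S P₂ Q₂ q) (hV : omegaZ Q ≠ ⊥) :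
    ∃ j v, 1 ≤ j ∧ v = q ^ j ∧ Nat.card (omegaZ Q) = v * v ∧ ∀ t ∈ S, t ∉ Q →
      Nat.card (omegaZ Q ⊓ centralizer {t} : Subgroup G) = v := by
  obtain ⟨j, hj⟩ := T1Local.card_V h.t₁.ltype
  refine ⟨j, q ^ j, ?_, rfl, by rw [hj, two_mul, pow_add], fun t ht htQ => ?_⟩
  · rw [Nat.one_le_iff_ne_zero]
    rintro rfl
    rw [mul_zero, pow_zero] at hj
    exact hV (Subgroup.card_eq_one.1 hj)
  · have h1 := T1Local.card_CV h.t₁.ltype ht htQ
    rw [hj, mul_comm 2 j, pow_mul] at h1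
    exact Nat.pow_left_injective (by norm_num : (2 : ℕ) ≠ 0) h1

/-- the group generated by the conjugates of `Z` under `P₂` -/
def W (P₂ S : Subgroup G) : Subgroup G :=
  closure {x | ∃ g ∈ P₂, ∃ z ∈ omegaZ S, x = g * z * g⁻¹}

theorem W_le (h : CaseII M P Q S P₂ Q₂ q) : W P₂ S ≤ Q₂ ⊓ centralizer (Q₂ : Set G) := by
  rw [W, closure_le]
  rintro _ ⟨g, hg, z, hz, rfl⟩
  refine mem_inf.2 ⟨h.o2.normal g hg z (Z_le_Q₂ h hz), mem_centralizer_iff.2 fun x hx => ?_⟩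
  have h1 : g⁻¹ * x * g⁻¹⁻¹ ∈ Q₂ := h.o2.normal g⁻¹ (inv_mem hg) x hx
  rw [inv_inv] at h1
  have h2 := hz.2.2 _ (Q₂_le_S h h1)
  calc x * (g * z * g⁻¹) = g * ((g⁻¹ * x * g) * z) * g⁻¹ := by group
    _ = g * (z * (g⁻¹ * x * g)) * g⁻¹ := by rw [h2]
    _ = g * z * g⁻¹ * x := by group

theorem W_conj {g : G} (hg : g ∈ P₂) : ∀ w ∈ W P₂ S, g * w * g⁻¹ ∈ W P₂ S := by
  intro w hw
  have h1 : W P₂ S ≤ (W P₂ S).comap (MulAut.conj g).toMonoidHom := by
    conv_lhs => rw [W]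
    rw [closure_le]
    rintro _ ⟨k, hk, z, hz, rfl⟩
    show g * (k * z * k⁻¹) * g⁻¹ ∈ W P₂ S
    have e : g * (k * z * k⁻¹) * g⁻¹ = (g * k) * z * (g * k)⁻¹ := by group
    rw [e]
    exact subset_closure ⟨g * k, mul_mem hg hk, z, hz, rfl⟩
  exact h1 hw

theorem Z_le_W : omegaZ S ≤ W P₂ S := fun z hz => subset_closure ⟨1, one_mem _, z, hz, by simp⟩

theorem cent_W_normal : NormalIn P₂ (P₂ ⊓ centralizer (W P₂ S : Set G)) := by
  refine ⟨inf_le_left, fun m hm n hn => mem_inf.2 ⟨P₂.mul_mem (P₂.mul_mem hm hn.1) (P₂.inv_mem hm),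
    mem_centralizer_iff.2 fun z hz => ?_⟩⟩
  have hz' : m⁻¹ * z * m⁻¹⁻¹ ∈ W P₂ S := W_conj (inv_mem hm) z hz
  rw [inv_inv] at hz'
  have h1 := mem_centralizer_iff.1 hn.2 _ hz'
  calc z * (m * n * m⁻¹) = m * ((m⁻¹ * z * m) * n) * m⁻¹ := by group
    _ = m * (n * (m⁻¹ * z * m)) * m⁻¹ := by rw [h1]
    _ = m * n * m⁻¹ * z := by group

/-- case (a): `Z` is normal in `P₂` -/
theorem Z_normal (h : CaseII M P Q S P₂ Q₂ q)
    (hst : (∃ p r, RType P₂ Q₂ S p r) ∨ SzType P₂ Q₂) (hV : ¬ omegaZ Q ≤ Q₂) :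
    ∀ g ∈ P₂, ∀ z ∈ omegaZ S, g * z * g⁻¹ ∈ omegaZ S := by
  by_contra hno
  obtain ⟨t, htV, htQ₂⟩ := SetLike.not_le_iff_exists.1 hV
  have hV1 : omegaZ Q ≠ ⊥ := by
    intro h0
    rw [h0, mem_bot] at htV
    exact htQ₂ (htV ▸ one_mem _)
  obtain ⟨j, v, hj, hvj, hcard, hv⟩ := exists_v h hV1
  have htS : t ∈ S := V_le_S h htV
  -- the centralizer of `W`
  have hNS : (P₂ ⊓ centralizer (W P₂ S : Set G)) ⊓ S ≤ Q₂ := by
    rcases T1MinPar.normal_dichotomy h (cent_W_normal (P₂ := P₂) (S := S)) with h1 | h1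
    · exact h1
    · exfalso
      apply hno
      have h2 : P₂ ≤ centralizer (omegaZ S : Set G) := by
        rw [h1]
        refine sup_le (inf_le_right.trans (centralizer_le Z_le_W)) ?_
        intro s hs
        exact mem_centralizer_iff.2 fun z hz => hz.2.2 s hs
      intro g hg z hz
      have h3 := mem_centralizer_iff.1 (h2 hg) z hz
      rw [← h3, mul_inv_cancel_right]
      exact hz
  have hWc : ∀ w ∈ W P₂ S, ∀ x ∈ Q₂, x * w = w * x := fun w hw x hx =>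
    mem_centralizer_iff.1 (W_le h hw).2 x hx
  have hex : ∃ w ∈ W P₂ S, w * t ≠ t * w := by
    by_contra hcon
    push Not at hcon
    exact htQ₂ (hNS (mem_inf.2 ⟨mem_inf.2 ⟨h.le htS, mem_centralizer_iff.2 hcon⟩, htS⟩))
  obtain ⟨w, hw, hwt⟩ := hex
  have hwS : w ∈ S := Q₂_le_S h (W_le h hw).1
  have hwQ : w ∉ Q := fun hwQ => hwt (htV.2.2 w hwQ).symm
  have hvw := hv w hwS hwQ
  have hqv : q ≤ v := by
    rw [hvj]
    exact Nat.le_self_pow (by omega) q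
  have hb : Nat.card (omegaZ Q ⊓ Q₂ : Subgroup G) ≤ v := by
    rw [← hvw]
    refine Nat.card_mono (Set.toFinite _) fun x hx => ?_
    exact mem_inf.2 ⟨hx.1, mem_centralizer_singleton_iff.2 (hWc w hw x hx.2)⟩
  rcases hst with ⟨p, r, hr⟩ | hz
  · -- case (R)
    have h1 := card_V_le h hr
    have hv2 : v ≤ 2 := by
      have h2 : v * v ≤ 2 * v := by
        rw [← hcard]
        exact h1.trans (Nat.mul_le_mul_left _ hb)
      have hvpos : 0 < v := by have := q_ge_two h; omega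
      exact Nat.le_of_mul_le_mul_right h2 hvpos
    have hq2 : q = 2 := le_antisymm (hqv.trans hv2) (q_ge_two h)
    have hcS : Nat.card S = 2 * Nat.card Q := by
      rw [T1Local.card_T h.t₁.ltype, hq2]
    have hWS : W P₂ S ≤ S := (W_le h).trans (inf_le_left.trans (Q₂_le_S h))
    have h3 : Nat.card (W P₂ S) ≤ 2 * Nat.card (Q ⊓ W P₂ S : Subgroup G) :=
      card_le_inf (Q_le_S h) hWS hcS.le
    set C₁ : Subgroup G := Q ⊓ W P₂ S with hC₁
    set C₂ : Subgroup G := C₁.map (MulAut.conj r).toMonoidHom with hC₂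
    have hC₂W : C₂ ≤ W P₂ S := by
      rintro _ ⟨c, hc, rfl⟩
      exact W_conj hr.mem c hc.2
    have hcC₂ : Nat.card C₂ = Nat.card C₁ :=
      Subgroup.card_map_of_injective (MulAut.conj r).injective
    have h4 : Nat.card C₂ ≤ 2 * Nat.card (C₁ ⊓ C₂ : Subgroup G) :=
      card_le_inf inf_le_right hC₂W h3
    have ht1 : ∀ c ∈ C₁, t * c = c * t := fun c hc => htV.2.2 c hc.1
    have htt : t⁻¹ = t := inv_eq_of_mul_eq_one_left htV.2.1
    have hrinv := hr.inv t htS htQ₂ (by rw [htV.2.1]; exact one_mem _)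
    -- `r ^ 2` centralises `C₁ ⊓ C₂`
    have hr2 : ∀ c ∈ C₁ ⊓ C₂, r ^ 2 * c = c * r ^ 2 := by
      intro c hc
      have hcW : c ∈ W P₂ S := hC₂W hc.2
      have a1 : Commute t c := ht1 c hc.1
      have a2 : Commute (r * t * r⁻¹) c := by
        obtain ⟨d, hd, hdc⟩ := hc.2
        have hdc' : r * d * r⁻¹ = c := hdc
        have a3 := ht1 d hd
        show r * t * r⁻¹ * c = c * (r * t * r⁻¹)
        rw [← hdc']
        calc r * t * r⁻¹ * (r * d * r⁻¹) = r * (t * d) * r⁻¹ := by group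
          _ = r * (d * t) * r⁻¹ := by rw [a3]
          _ = r * d * r⁻¹ * (r * t * r⁻¹) := by group
      have a3 : Commute (t * r * t⁻¹ * r) c := hWc c hcW _ hrinv
      have e2 : r ^ 2 = (r * t * r⁻¹) * t⁻¹ * (t * r * t⁻¹ * r) := by rw [pow_two]; group
      rw [e2]
      exact ((a2.mul_left a1.inv_left).mul_left a3).eq
    -- the order of `r`
    obtain ⟨a, ha⟩ := hr.order
    have hord : orderOf r ∣ p ^ a := orderOf_dvd_of_pow_eq_one ha
    have hop : Odd (p ^ a) := by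
      have := hr.prime.odd_of_ne_two (by have := hr.five; omega)
      exact this.pow
    have hodd : Odd (orderOf r) := Odd.of_dvd_nat hop hord
    have h3r : ¬ 3 ∣ orderOf r := by
      intro h3
      have h5 := Nat.prime_three.dvd_of_dvd_pow (h3.trans hord)
      have h6 := (Nat.prime_dvd_prime_iff_eq Nat.prime_three hr.prime).1 h5
      have := hr.five
      omega
    have hodd2 : Odd (orderOf (r ^ 2)) := Odd.of_dvd_nat hodd (orderOf_pow_dvd 2)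
    have h3r2 : ¬ 3 ∣ orderOf (r ^ 2) := fun h3 => h3r (h3.trans (orderOf_pow_dvd 2))
    have h5 := commute_of_index_le_four hodd2 h3r2 (h.o2.two.to_le ((W_le h).trans inf_le_left))
      (fun w hw => W_conj (pow_mem hr.mem 2) w hw) (inf_le_right.trans hC₂W) hr2 (by
        rw [hcC₂] at h4
        omega)
    apply hno
    intro g hg z hz
    obtain ⟨i, s, hs, rfl⟩ := hr.gen g hg
    have h6 : r * z = z * r := commute_of_sq hodd (h5 z (Z_le_W hz))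
    have h7 : Commute (r ^ i * s) z :=
      (Commute.pow_left (show Commute r z from h6) i).mul_left (hz.2.2 s hs).symm
    rw [h7.eq, mul_inv_cancel_right]
    exact hz
  · -- case (Sz)
    have h1 := sz_lt h hz hV (V_le_S h) (V_elem Q)
    rw [hcard] at h1
    have h2 : v * v < q * v := lt_of_lt_of_le h1 (Nat.mul_le_mul_left _ hb)
    have h3 : q * v ≤ v * v := Nat.mul_le_mul_right _ hqv
    omega

/-- **Piece N** (4.4) -/
theorem not_not_le {M P Q S P₂ Q₂ : Subgroup G} {q : ℕ} (h : CaseII M P Q S P₂ Q₂ q)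
    (hst : (∃ p r, RType P₂ Q₂ S p r) ∨ SzType P₂ Q₂) (hV : ¬ omegaZ Q ≤ Q₂) : False := by
  have hZc := central_of_normal h (Z_normal h hst hV)
  obtain ⟨t, htV, htQ₂⟩ := SetLike.not_le_iff_exists.1 hV
  have hV1 : omegaZ Q ≠ ⊥ := by
    intro h0
    rw [h0, mem_bot] at htV
    exact htQ₂ (htV ▸ one_mem _)
  obtain ⟨j, v, hj, hvj, hcard, hv⟩ := exists_v h hV1
  have htS : t ∈ S := V_le_S h htV
  have htP : t ∈ P₂ := h.le htS
  have htt : t⁻¹ = t := inv_eq_of_mul_eq_one_left htV.2.1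
  obtain ⟨y, hyP, hy1, hyo, hty⟩ := exists_inverted h.o2 htP htV.2.1 htQ₂
  have hy3 : ¬ 3 ∣ orderOf y := fun h3 =>
    h.three (h3.trans (Subgroup.orderOf_dvd_natCard P₂ hyP))
  have hyQ : y ∉ Q₂ := by
    intro hy
    obtain ⟨k, hk⟩ := h.o2.two ⟨y, hy⟩
    have hk' : y ^ 2 ^ k = 1 := congrArg Subtype.val hk
    apply hy1
    have h8 : Nat.Coprime (orderOf y) (2 ^ k) := Nat.Coprime.pow_right k hyo.coprime_two_right
    exact orderOf_eq_one_iff.1 (Nat.eq_one_of_dvd_coprimes h8 dvd_rfl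
      (orderOf_dvd_of_pow_eq_one hk'))
  have hnc : ¬ ∀ u ∈ Q₂, y ^ 2 * u = u * y ^ 2 := fun hc =>
    hyQ (h.cent y hyP fun u hu => commute_of_sq hyo (hc u hu))
  have hyo2 : Odd (orderOf (y ^ 2)) := Odd.of_dvd_nat hyo (orderOf_pow_dvd 2)
  have hy32 : ¬ 3 ∣ orderOf (y ^ 2) := fun h3 => hy3 (h3.trans (orderOf_pow_dvd 2))
  set B : Subgroup G := omegaZ Q ⊓ Q₂ with hB
  set A : Subgroup G := B.map (MulAut.conj y).toMonoidHom with hA
  set t' : G := y * t * y⁻¹ with ht'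
  have hyt : y ^ 2 = t' * t⁻¹ := by
    have h1 : t * y⁻¹ * t⁻¹ = y := by
      calc t * y⁻¹ * t⁻¹ = (t * y * t⁻¹)⁻¹ := by group
        _ = y := by rw [hty, inv_inv]
    calc y ^ 2 = y * y := pow_two y
      _ = y * (t * y⁻¹ * t⁻¹) := by rw [h1]
      _ = t' * t⁻¹ := by rw [ht']; group
  have hSM := S_le_M h
  have hQS := Q₂_le_S h
  have hBt : ∀ u ∈ Q₂, t * u * t⁻¹ * u⁻¹ ∈ B := by
    intro u hu
    refine mem_inf.2 ⟨?_, mul_mem (h.o2.normal t htP u hu) (inv_mem hu)⟩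
    have h1 := (omegaZ Q).mul_mem htV (V_conj h (hSM (hQS hu)) (inv_mem htV))
    have e : t * (u * t⁻¹ * u⁻¹) = t * u * t⁻¹ * u⁻¹ := by group
    rwa [e] at h1
  have hAt : ∀ u ∈ Q₂, t' * u * t'⁻¹ * u⁻¹ ∈ A := by
    intro u hu
    have hu' : y⁻¹ * u * y ∈ Q₂ := by
      have := h.o2.normal y⁻¹ (inv_mem hyP) u hu
      rwa [inv_inv] at this
    refine ⟨_, hBt _ hu', ?_⟩
    show y * (t * (y⁻¹ * u * y) * t⁻¹ * (y⁻¹ * u * y)⁻¹) * y⁻¹ = t' * u * t'⁻¹ * u⁻¹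
    rw [ht']
    group
  have hBc : ∀ b ∈ B, t * b = b * t := fun b hb => (V_elem Q).comm htV hb.1
  have hAc : ∀ a ∈ A, t' * a = a * t' := by
    rintro _ ⟨b, hb, rfl⟩
    show y * t * y⁻¹ * (y * b * y⁻¹) = y * b * y⁻¹ * (y * t * y⁻¹)
    calc y * t * y⁻¹ * (y * b * y⁻¹) = y * (t * b) * y⁻¹ := by group
      _ = y * (b * t) * y⁻¹ := by rw [hBc b hb]
      _ = _ := by group
  have hBQ : B ≤ Q₂ := inf_le_right
  have hAQ : A ≤ Q₂ := by
    rintro _ ⟨b, hb, rfl⟩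
    exact h.o2.normal y hyP b (hBQ hb)
  have hBn : ∀ u ∈ Q₂, ∀ b ∈ B, u * b * u⁻¹ ∈ B := fun u hu b hb =>
    mem_inf.2 ⟨V_conj h (hSM (hQS hu)) hb.1, mul_mem (mul_mem hu (hBQ hb)) (inv_mem hu)⟩
  have hy2 : ∀ u ∈ Q₂, y ^ 2 * u * (y ^ 2)⁻¹ * u⁻¹ ∈ B ⊔ A := by
    intro u hu
    set b : G := t * u * t⁻¹ * u⁻¹ with hb
    have hbB := hBt u hu
    have hbu : b * u ∈ Q₂ := mul_mem (hBQ hbB) hu
    have e : y ^ 2 * u * (y ^ 2)⁻¹ * u⁻¹ = (t' * (b * u) * t'⁻¹ * (b * u)⁻¹) * b := by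
      have e1 : t⁻¹ * u * t = b * u := by rw [hb, htt]; group
      calc y ^ 2 * u * (y ^ 2)⁻¹ * u⁻¹ = t' * (t⁻¹ * u * t) * t'⁻¹ * u⁻¹ := by
            rw [hyt]; group
        _ = t' * (b * u) * t'⁻¹ * u⁻¹ := by rw [e1]
        _ = _ := by group
    rw [e]
    exact mul_mem (mem_sup_right (hAt _ hbu)) (mem_sup_left hbB)
  have hWQ : B ⊔ A ≤ Q₂ := sup_le hBQ hAQ
  have hyW : ∀ w ∈ B ⊔ A, y ^ 2 * w * (y ^ 2)⁻¹ ∈ B ⊔ A := by
    intro w hw
    have h1 := mul_mem (hy2 w (hWQ hw)) hw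
    rwa [inv_mul_cancel_right] at h1
  have hW2 : IsPGroup 2 (B ⊔ A : Subgroup G) := h.o2.two.to_le hWQ
  have hABc : ∀ c ∈ A ⊓ B, y ^ 2 * c = c * y ^ 2 := by
    intro c hc
    have h1 : Commute t' c := hAc c hc.1
    have h2 : Commute t c := hBc c hc.2
    rw [hyt]
    exact (h1.mul_left h2.inv_left).eq
  have hCA : ∀ c ∈ A, t * c = c * t → c ∈ B := by
    intro c hc hct
    have h1 : Commute t' c := hAc c hc
    have h2 : Commute t c := hct
    have h3 : y ^ 2 * c = c * y ^ 2 := by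
      rw [hyt]
      exact (h1.mul_left h2.inv_left).eq
    have h4 := commute_of_sq hyo h3
    obtain ⟨b, hb, hbc⟩ := hc
    have hbc' : y * b * y⁻¹ = c := hbc
    have h5 : b = c := by
      calc b = y⁻¹ * (y * b * y⁻¹) * y := by group
        _ = y⁻¹ * (c * y) := by rw [hbc']; group
        _ = y⁻¹ * (y * c) := by rw [h4]
        _ = c := by group
    rwa [← h5]
  have hcA : Nat.card A = Nat.card B := Subgroup.card_map_of_injective (MulAut.conj y).injective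
  have hsup : Nat.card (B ⊔ A : Subgroup G) * Nat.card (B ⊓ A : Subgroup G) =
      Nat.card B * Nat.card A :=
    card_sup_mul (hAQ.trans (CITNonCommute.le_normalizer_of_forall hBn))
  have hkpos : 0 < Nat.card (A ⊓ B : Subgroup G) := Nat.card_pos
  have h2k : 2 * Nat.card (A ⊓ B : Subgroup G) < Nat.card A := by
    by_contra hle
    push Not at hle
    have h1 : Nat.card (B ⊔ A : Subgroup G) ≤ 4 * Nat.card (A ⊓ B : Subgroup G) := by
      rw [inf_comm B A, ← hcA] at hsup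
      have h2 : Nat.card A * Nat.card A ≤ (4 * Nat.card (A ⊓ B : Subgroup G)) *
          Nat.card (A ⊓ B : Subgroup G) := by
        calc Nat.card A * Nat.card A ≤ (2 * Nat.card (A ⊓ B : Subgroup G)) *
              (2 * Nat.card (A ⊓ B : Subgroup G)) := Nat.mul_le_mul hle hle
          _ = _ := by ring
      rw [← hsup] at h2
      exact Nat.le_of_mul_le_mul_right h2 hkpos
    have h3 := commute_of_index_le_four hyo2 hy32 hW2 hyW (inf_le_left.trans le_sup_right) hABc h1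
    exact hnc fun u hu => commute_of_mem hyo2 hW2 h3 (hy2 u hu)
  have hAS : A ≤ S := hAQ.trans hQS
  have hAQ1 : Nat.card A ≤ q * Nat.card (A ⊓ B : Subgroup G) := by
    refine (card_le_inf (Q_le_S h) hAS (T1Local.card_T h.t₁.ltype).le).trans
      (Nat.mul_le_mul_left _ (Nat.card_mono (Set.toFinite _) ?_))
    intro c hc
    exact mem_inf.2 ⟨hc.2, hCA c hc.2 (htV.2.2 c hc.1)⟩
  have hq3 : 3 ≤ q := by
    by_contra hq
    push Not at hq
    have h1 : q * Nat.card (A ⊓ B : Subgroup G) ≤ 2 * Nat.card (A ⊓ B : Subgroup G) :=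
      Nat.mul_le_mul_right _ (by omega)
    omega
  have hAnQ : ¬ A ≤ Q := by
    intro hle
    have h1 : A ≤ A ⊓ B := fun c hc => mem_inf.2 ⟨hc, hCA c hc (htV.2.2 c (hle hc))⟩
    have h2 : Nat.card A ≤ Nat.card (A ⊓ B : Subgroup G) := Nat.card_mono (Set.toFinite _) h1
    omega
  obtain ⟨a, ha, haQ⟩ := SetLike.not_le_iff_exists.1 hAnQ
  have hAcomm : ∀ x ∈ A, ∀ z ∈ A, x * z = z * x := by
    rintro _ ⟨x, hx, rfl⟩ _ ⟨z, hz, rfl⟩
    show y * x * y⁻¹ * (y * z * y⁻¹) = y * z * y⁻¹ * (y * x * y⁻¹)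
    calc y * x * y⁻¹ * (y * z * y⁻¹) = y * (x * z) * y⁻¹ := by group
      _ = y * (z * x) * y⁻¹ := by rw [(V_elem Q).comm hx.1 hz.1]
      _ = _ := by group
  have hkv : Nat.card (A ⊓ B : Subgroup G) ≤ v := by
    rw [← hv a (hAS ha) haQ]
    refine Nat.card_mono (Set.toFinite _) fun x hx => ?_
    exact mem_inf.2 ⟨hx.2.1, mem_centralizer_singleton_iff.2 (hAcomm x hx.1 a ha)⟩
  have hbv : Nat.card B ≤ q * v := by
    rw [← hcA]
    exact hAQ1.trans (Nat.mul_le_mul_left _ hkv)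
  have hvpos : 0 < v := by rw [hvj]; positivity
  -- `v = q`
  have hvq : v < q * q := by
    rcases hst with ⟨p, r, hr⟩ | hz
    · have h1 := card_V_le h hr
      rw [hcard] at h1
      have h2 : v * v ≤ (2 * q) * v := by
        calc v * v ≤ 2 * Nat.card B := h1
          _ ≤ 2 * (q * v) := Nat.mul_le_mul_left _ hbv
          _ = _ := by ring
      have h3 := Nat.le_of_mul_le_mul_right h2 hvpos
      have h4 : 2 * q < q * q := Nat.mul_lt_mul_of_pos_right (by omega) (by omega)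
      omega
    · have h1 := sz_lt h hz hV (V_le_S h) (V_elem Q)
      rw [hcard] at h1
      have h2 : v * v < (q * q) * v := by
        calc v * v < q * Nat.card B := h1
          _ ≤ q * (q * v) := Nat.mul_le_mul_left _ hbv
          _ = _ := by ring
      exact Nat.lt_of_mul_lt_mul_right h2
  have hj1 : j = 1 := by
    by_contra hj1
    have h1 : q ^ 2 ≤ q ^ j := Nat.pow_le_pow_right (by omega) (by omega)
    rw [← hvj, pow_two] at h1
    omega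
  have hVq : Nat.card (omegaZ Q) = q ^ 2 := by
    rw [hcard, hvj, hj1, pow_one, pow_two]
  have hcomm := T1Local.nat_comm h.t₁.ltype hVq
  -- `y` centralises `Q₂`
  apply hnc
  intro u hu
  have huS := hQS hu
  have key : ∀ u ∈ Q₂, t * u * t⁻¹ * u⁻¹ ∈ omegaZ S := by
    intro u hu
    have h1 := inv_mem (hcomm u (hQS hu) t htV)
    have e : (u * t * u⁻¹ * t⁻¹)⁻¹ = t * u * t⁻¹ * u⁻¹ := by group
    rwa [e] at h1
  have hz₁ := key u hu
  set z₁ : G := t * u * t⁻¹ * u⁻¹ with hz₁'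
  have hz₂ := key (y⁻¹ * u * y) (by
    have := h.o2.normal y⁻¹ (inv_mem hyP) u hu
    rwa [inv_inv] at this)
  set z₂ : G := t * (y⁻¹ * u * y) * t⁻¹ * (y⁻¹ * u * y)⁻¹ with hz₂'
  refine commute_of_mem hyo2 (h.sylow.two.to_le (show omegaZ S ≤ S from fun x hx => hx.1))
    (fun c hc => hZc (y ^ 2) (pow_mem hyP 2) c hc) ?_
  have e1 : t⁻¹ * u * t = z₁ * u := by rw [hz₁', htt]; group
  have e2 : t' * u * t'⁻¹ = z₂ * u := by
    have h1 : y * z₂ * y⁻¹ = t' * u * t'⁻¹ * u⁻¹ := by rw [hz₂', ht']; group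
    have h2 : y * z₂ * y⁻¹ = z₂ := by rw [hZc y hyP z₂ hz₂, mul_inv_cancel_right]
    rw [← h2, h1, inv_mul_cancel_right]
  have ht'P : t' ∈ P₂ := mul_mem (mul_mem hyP htP) (inv_mem hyP)
  have e3 : y ^ 2 * u * (y ^ 2)⁻¹ * u⁻¹ = z₁ * z₂ := by
    calc y ^ 2 * u * (y ^ 2)⁻¹ * u⁻¹ = t' * (t⁻¹ * u * t) * t'⁻¹ * u⁻¹ := by
          rw [hyt]; group
      _ = (t' * z₁) * u * t'⁻¹ * u⁻¹ := by rw [e1]; group
      _ = z₁ * (t' * u * t'⁻¹) * u⁻¹ := by rw [hZc t' ht'P z₁ hz₁]; group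
      _ = z₁ * z₂ := by rw [e2]; group
  rw [e3]
  exact mul_mem hz₁ hz₂

end Cfsg.Agent.OddCyclic.T1NotLe
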